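import Cfsg.Agent.Lib.HJ.HJM2
import Cfsg.Agent.Lib.Grp.H7Lge

/-!
An involution centralizer of order 1920 with a self-centralizing extraspecial normal subgroup of order 32.
-/

set_option autoImplicit false
set_option linter.unusedSectionVars false

namespace CA.HJ

open CA.BG CA.H7Lge Subgroup CA.CWord CA.HJRel
open CA.HJM hiding z s w t x u
open scoped commutatorElement

universe u

variable {G : Type u} [Group G] [Finite G] {Q : Subgroup G} {z : G}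

theorem sq4 {a b c d e f : G} (ha : a * a = 1) (hb : b * b = 1) (hc : c * c = 1) (hd : d * d = 1)
    (he : ∀ g ∈ [a, b, c, d], e * g = g * e) (hf : ∀ g ∈ [a, b, c, d, e], f * g = g * f)
    (h01 : b * a = a * b * e) (h12 : c * b = b * c * e) (h23 : d * c = c * d * e) (h02 : c * a = a * c * f)
    (h13 : d * b = b * d * f) (h03 : d * a = a * d * f) :
    a * b * c * d * (a * b * c * d) * 1 = e * e * e * (f * f * f) * 1 := by
  have r : ∀ {x y p : G}, x * y = p → ∀ g, x * (y * g) = p * g := fun h g => by rw [← mul_assoc, h]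
  simp only [List.forall_mem_cons] at he hf
  simp only [mul_assoc, r h01, r h12, r h23, r h02, r h13, r h03, r he.1, r he.2.1, r he.2.2.1, r he.2.2.2.1,
    r hf.1, r hf.2.1, r hf.2.2.1, r hf.2.2.2.1, r hf.2.2.2.2.1, r ha, r hb, r hc, r hd, one_mul]

/-- the hypothesis on the centralizer -/
structure Hy (Q : Subgroup G) (z : G) : Prop where
  l : LX Q z
  e : EX Q z
  c32 : ♯Q = 32
  cH : ♯𝓒₁(z) = 1920

namespace Hy

variable (h : Hy Q z)
include h

theorem exists_inv : ∃ y ∈ Q, y * y = 1 ∧ y ∉ zpowers z := by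
  by_contra! hn
  obtain ⟨a, ha, h1⟩ := h.e.exists_sq (by rw [h.c32]; norm_num) Q.one_mem
  have h2 : a ∉ zpowers z := fun e => h.e.ne (h1 ▸ h.e.zsq e)
  have h3 : Q ⊓ 𝓒₁(a) ≤ zpowers a := fun c hc => by
    have hz : zpowers z ≤ zpowers a := zpowers_le.2 (h1 ▸ mul_mem (mem_zpowers a) (mem_zpowers a))
    rcases h.e.mem_iff.1 (h.e.pow c hc.1) with e | e
    · exact hz (hn c hc.1 e)
    · refine (mul_mem_cancel_left (mem_zpowers a)).1 (hz (hn _ (mul_mem ha.1 hc.1) ?_))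
      rw [mul_assoc, ← mul_assoc c, mem_cent1.1 hc.2, mul_assoc, e, ← mul_assoc, h1, h.e.sq]
  have h4 : (Q ⊓ 𝓒₁(a)).relIndex Q = 2 := by
    rw [inf_comm, inf_relIndex_right]
    exact PX.relIndex_cent1_eq Nat.prime_two h.e.card (by rw [cent_zpowers]; exact h.e.cent)
      (fun g hg => h.e.comm ha.1 hg) fun e => h2 (h.e.ctr ⟨ha.1, le_cent1_iff.1 e⟩)
  have h5 := card_mul_relIndex (inf_le_left : Q ⊓ 𝓒₁(a) ≤ Q)
  have h6 := card_le_of_le' h3
  have h7 := Nat.le_of_dvd (by norm_num) (orderOf_dvd_of_pow_eq_one (h.e.pow4 ha.1))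
  rw [h4, h.c32] at h5
  rw [Nat.card_zpowers] at h6
  omega

theorem irr {f : G} (hf : f ∈ 𝓒₁(z)) (o5 : orderOf f = 5) {K : Subgroup G} (h1 : K ≤ Q) (h2 : z ∈ K)
    (h3 : f ∈ 𝓝(K)) : K = Q ∨ K = zpowers z := by
  have p5 : IsPi {5} (zpowers f) := isPi_of_card_eq_pow (k := 1) (by norm_num) (by rw [Nat.card_zpowers, o5]; rfl)
  have two : ∀ n, n ∣ 32 → n % 5 = 2 → n = 2 ∨ n = 32 := fun n a b => by
    have := Nat.le_of_dvd (by norm_num) a
    interval_cases n <;> simp_all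
  have k1 : Q ⊓ 𝓒(zpowers f) = zpowers z := by
    have hz : zpowers z ≤ Q ⊓ 𝓒(zpowers f) := zpowers_le.2 ⟨h.l.mem, by rw [cent_zpowers]; exact mem_cent1_symm.1 hf⟩
    have m := BG4.card_modEq_cent (by norm_num) p5 (zpowers_le.2 (h.l.norm hf))
    rw [h.c32] at m
    rcases two _ (h.c32 ▸ card_dvd inf_le_left) m.symm with e | e
    · exact (eq_of_le_of_card_le hz (by rw [e, h.e.card])).symm
    · have := orderOf_dvd_card_of_mem (h.l.cent_le (cent_symm (inf_eq_left.1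
        (eq_of_le_of_card_le inf_le_left (by rw [e, h.c32]))) (mem_zpowers f)))
      rw [o5, h.c32] at this; omega
  have k2 : K ⊓ 𝓒(zpowers f) = zpowers z :=
    le_antisymm (k1 ▸ inf_le_inf_right _ h1) (le_inf (zpowers_le.2 h2) (k1 ▸ inf_le_right))
  have m := BG4.card_modEq_cent (by norm_num) p5 (zpowers_le.2 h3)
  rw [k2, h.e.card] at m
  rcases two _ (h.c32 ▸ card_dvd h1) m with e | e
  · exact Or.inr (eq_of_le_of_card_le (zpowers_le.2 h2) (by rw [e, h.e.card])).symm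
  · exact Or.inl (eq_of_le_of_card_le h1 (by rw [e, h.c32]))

theorem exists_chi : ∃ χ : B →* G, χ.range = Q ∧ χ Z = z := by
  obtain ⟨f, hf, o5⟩ := exists_orderOf_eq (H := 𝓒₁(z)) (p := 5) (by norm_num) (by rw [h.cH]; norm_num)
  obtain ⟨y, hy, y2, yz⟩ := h.exists_inv
  have f5 : f ^ 5 = 1 := o5 ▸ pow_orderOf_eq_one f
  have fz : f * z * f⁻¹ = z := mul_inv_eq_iff_eq_mul.2 (mem_cent1.1 hf)
  obtain ⟨a, ha⟩ : ∃ a : ℕ → G, ∀ i, a i = f ^ i * y * (f ^ i)⁻¹ := ⟨_, fun _ => rfl⟩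
  have aQ : ∀ i, a i ∈ Q := fun i => ha i ▸ conj_mem_of_mem_norm (h.l.norm (pow_mem hf i)) hy
  have a2 : ∀ i, a i * a i = 1 := fun i => by rw [ha, conj_mul, y2]; group
  have as : ∀ i, f * a i * f⁻¹ = a (i + 1) := fun i => by rw [ha, ha]; group
  have a5 : a 5 = a 0 := by rw [ha, ha, f5, pow_zero]
  have a0 : a 0 = y := by rw [ha]; group
  have ce : ∀ i j, ∃ e ∈ zpowers z, ∀ k, a (j + k) * a (i + k) = a (i + k) * a (j + k) * e := fun i j => by
    refine ⟨⁅(a j)⁻¹, (a i)⁻¹⁆⁻¹⁻¹, by rw [inv_inv]; exact h.e.comm (inv_mem (aQ j)) (inv_mem (aQ i)), fun k => ?_⟩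
    have := h.e.comm (inv_mem (aQ j)) (inv_mem (aQ i))
    induction k with
    | zero =>
      rw [inv_inv, h.e.cz (h.e.cent (mul_mem (aQ _) (aQ _))) this, commutatorElement_def, inv_inv, inv_inv,
        inv_eq (a2 j), inv_eq (a2 i)]
      simp only [add_zero, mul_assoc]
      rw [← mul_assoc (a i) (a i), a2, one_mul, a2, mul_one]
    | succ k ih =>
      rw [← add_assoc, ← add_assoc, ← as, ← as, conj_mul, ih, conj_mul, inv_inv, mul_assoc _ f⁻¹,
        h.e.cz (inv_mem hf) this]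
      group
  obtain ⟨e1, he1, c1⟩ := ce 0 1
  obtain ⟨e2, he2, c2⟩ := ce 0 2
  have zz : ∀ {e}, e ∈ zpowers z → ∀ g ∈ Q, e * g = g * e := fun he g hg => (h.e.cz (h.e.cent hg) he).symm
  have c3 : a 3 * a 0 = a 0 * a 3 * e2 := by
    have := c2 3
    simp only [zero_add, a5, show 2 + 3 = 5 from rfl] at this
    rw [this, mul_assoc, h.e.zsq he2, mul_one]
  have c4 : a 4 * a 0 = a 0 * a 4 * e1 := by
    have := c1 4
    simp only [zero_add, a5, show 1 + 4 = 5 from rfl] at this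
    rw [this, mul_assoc, h.e.zsq he1, mul_one]
  have hp : a 0 * a 1 * a 2 * a 3 * a 4 ∈ zpowers z := by
    have pQ : a 0 * a 1 * a 2 * a 3 * a 4 ∈ Q := mul_mem (mul_mem (mul_mem (mul_mem (aQ _) (aQ _)) (aQ _)) (aQ _)) (aQ _)
    have h1 : zpowers (a 0 * a 1 * a 2 * a 3 * a 4) ⊔ zpowers z ≤ Q := sup_le (zpowers_le.2 pQ) h.e.le
    have h2 : z ∈ zpowers (a 0 * a 1 * a 2 * a 3 * a 4) ⊔ zpowers z := mem_sup_right (mem_zpowers z)
    rcases h.irr hf o5 h1 h2 (mem_norm_of_cj_le (by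
      rw [cj_sup, cj_zpowers, cj_zpowers, fz]
      refine sup_le (zpowers_le.2 ?_) le_sup_right
      have := conj_mem_of_mem_norm' (h.e.norm_of h2 h1 (aQ 0)) (mem_sup_left (mem_zpowers _))
      convert this using 1
      rw [← conj_mul, ← conj_mul, ← conj_mul, ← conj_mul, as, as, as, as, as, a5]; group)) with e | e
    · refine absurd (e ▸ comm_sup inferInstance inferInstance ?_) h.e.nc
      rw [cent_zpowers]; exact zpowers_le.2 (h.e.cent pQ)
    · exact e.le (mem_sup_left (mem_zpowers _))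
  have h4 : a 0 * a 1 * a 2 * a 3 * (a 0 * a 1 * a 2 * a 3) = 1 := by
    have : a 0 * a 1 * a 2 * a 3 = a 4 * (a 0 * a 1 * a 2 * a 3 * a 4) := by
      rw [h.e.cz (h.e.cent (aQ 4)) hp, mul_assoc _ (a 4), a2, mul_one]
    rw [this, h.e.sq_mul (aQ 4) hp, a2]
  have e12 : e1 = e2 := by
    have := sq4 (a2 0) (a2 1) (a2 2) (a2 3) (e := e1) (f := e2) (by simp [zz he1, aQ])
      (by simp [zz he2, aQ, h.e.le he1]) (c1 0) (c1 1) (c1 2) (c2 0) (c2 1) c3
    rw [h4, h.e.zsq he1, h.e.zsq he2, mul_one, mul_one, one_mul, one_mul] at this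
    rw [eq_inv_of_mul_eq_one_left this.symm, inv_eq (h.e.zsq he2)]
  subst e12
  have ez : e1 = z := by
    refine (h.e.mem_iff.1 he1).resolve_left fun e => ?_
    subst e
    simp only [mul_one] at c1 c2 c3 c4
    let K : Subgroup G := Q ⊓ ⨅ i, 𝓒₁(a i)
    have per : ∀ i, ∃ j < 5, a i = a j := fun i => ⟨i % 5, Nat.mod_lt _ (by norm_num), by
      rw [ha, ha, ← o5, pow_mod_orderOf]⟩
    have yK : y ∈ K := ⟨hy, mem_iInf.2 fun i => mem_cent1.2 (by
      obtain ⟨j, hj, e⟩ := per i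
      rw [e, ← a0]
      interval_cases j
      exacts [rfl, (c1 0).symm, (c2 0).symm, c3.symm, c4.symm])⟩
    rcases h.irr hf o5 (K := K) inf_le_left ⟨h.l.mem, mem_iInf.2 fun i => mem_cent1_symm.1 (h.e.cent (aQ i))⟩
      (by
        rw [← inv_mem_iff]
        refine mem_norm_of_cj_le fun g hg => ?_
        rw [mem_cj_inv] at hg
        refine ⟨by simpa [mul_assoc] using conj_mem_of_mem_norm' (h.l.norm hf) hg.1, mem_iInf.2 fun i => ?_⟩
        have := mem_iInf.1 hg.2 (i + 1)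
        rwa [← as, ← cj_cent1, conj_mem_cj] at this) with e | e
    · exact yz (h.e.ctr ⟨hy, le_cent1_iff.1 fun g hg => a0 ▸ mem_iInf.1 (e.ge hg).2 0⟩)
    · exact yz (e.le yK)
  subst ez
  have k : ∀ {i j : ℕ}, a i * a j = a j * a i * e1 → a i * (a j * (a i * (a j * e1))) = 1 := fun {i j} e => by
    calc _ = a i * a j * a i * (a j * e1) := by group
      _ = a j * a i * (e1 * a i) * (a j * e1) := by rw [e]; group
      _ = a j * (a i * a i) * (e1 * a j) * e1 := by rw [zz he1 _ (aQ i)]; group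
      _ = 1 := by rw [a2, zz he1 _ (aQ j), mul_one, ← mul_assoc, a2, one_mul, h.e.sq]
  have k' : ∀ i, e1 * (a i * (e1 * a i)) = 1 := fun i => by
    rw [zz he1 _ (aQ i), ← mul_assoc (a i), a2, one_mul, h.e.sq]
  obtain ⟨χ, x0, x1, x2, x3, xz⟩ := homB (a := a 0) (b := a 1) (c := a 2) (d := a 3) (z := e1) (by
    simpa [HJTQ.q.RQ, lv, sq8, a2, h.e.sq, k'] using
      And.intro (k (c1 0)) (And.intro (k (c2 0)) (And.intro (k c3) (And.intro (k (c1 1))
        (And.intro (k (c2 1)) (k (c1 2)))))))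
  have r : ∀ {K : Subgroup G}, a 0 ∈ K → a 1 ∈ K → a 2 ∈ K → a 3 ∈ K → e1 ∈ K → χ.range ≤ K := by
    rintro K h0 h1 h2 h3 h4 _ ⟨m, rfl⟩
    exact (topB (K := K.comap χ) (by rwa [mem_comap, x0]) (by rwa [mem_comap, x1]) (by rwa [mem_comap, x2])
      (by rwa [mem_comap, x3]) (by rwa [mem_comap, xz])).ge trivial
  have m0 : a 0 ∈ χ.range := ⟨_, x0⟩
  have m1 : a 1 ∈ χ.range := ⟨_, x1⟩
  have m2 : a 2 ∈ χ.range := ⟨_, x2⟩
  have m3 : a 3 ∈ χ.range := ⟨_, x3⟩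
  have mz : e1 ∈ χ.range := ⟨_, xz⟩
  have m4 : a 4 ∈ χ.range :=
    (mul_mem_cancel_left (mul_mem (mul_mem (mul_mem m0 m1) m2) m3)).1 (zpowers_le.2 mz hp)
  refine ⟨χ, (h.irr hf o5 (r (aQ 0) (aQ 1) (aQ 2) (aQ 3) h.l.mem) mz (mem_norm_of_cj_le (cj_le_iff.2 (r ?_ ?_ ?_ ?_ ?_)))).resolve_right
    fun e => yz (a0 ▸ e.le m0), xz⟩ <;> rw [mem_cj_inv]
  exacts [as 0 ▸ m1, as 1 ▸ m2, as 2 ▸ m3, as 3 ▸ m4, fz.symm ▸ mz]

end Hy

/-- equality up to `z` -/
def Sim (z a b : G) : Prop := a = b ∨ a = b * z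

/-- `g` permutes the five pairs of involutions like `c` -/
def Act (χ : B →* G) (g : G) (c : A) : Prop := ∀ i, g * χ (S i) * g⁻¹ = χ (S (pf c i))

theorem Act.mul {χ : B →* G} {g g' : G} {c c' : A} (h : Act χ g c) (h' : Act χ g' c') :
    Act χ (g * g') (c * c') := fun i => by
  rw [pf_mul, ← h, ← h']; group

theorem Act.pow {χ : B →* G} {g : G} {c : A} (h : Act χ g c) (n : ℕ) : Act χ (g ^ n) (c ^ n) := by
  induction n with
  | zero => intro i; rw [pow_zero, pow_zero, pf_one]; group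
  | succ n ih => rw [pow_succ, pow_succ]; exact ih.mul h

theorem Act.inv {χ : B →* G} {g : G} {c : A} (h : Act χ g c) : Act χ g⁻¹ c⁻¹ := fun i => by
  have := h (pf c⁻¹ i)
  rw [← pf_mul, mul_inv_cancel, pf_one] at this
  rw [← this]; group

namespace Hy

variable (h : Hy Q z) {χ : B →* G} (hr : χ.range = Q) (hz : χ Z = z)
include h hr hz

theorem chi_inj : Function.Injective χ := by
  have := (χ.rangeRestrict_surjective.bijective_of_nat_card_le (by rw [hr, h.c32, card_B])).1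
  exact fun a b e => this (Subtype.ext e)

theorem chi_mem (m : B) : χ m ∈ Q := hr ▸ ⟨m, rfl⟩

theorem act_one {g : G} (hg : g ∈ 𝓒₁(z)) (e : Act χ g 1) : g = 1 ∨ g = z := by
  have k : ∀ i, S i ∈ 𝓒₁(g).comap χ := fun i => by
    have := e i
    rw [pf_one] at this
    exact mem_cent1.2 (mul_inv_eq_iff_eq_mul.1 this).symm
  have : g ∈ 𝓒(Q) := le_cent1_iff.1 (by
    rintro _ hq
    obtain ⟨m, rfl⟩ := hr.ge hq
    exact (topB (k 0) (k 1) (k 2) (k 3) (by rw [mem_comap, hz]; exact mem_cent1_symm.1 hg)).ge trivial)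
  exact h.e.mem_iff.1 (h.e.ctr ⟨h.l.cent_le this, this⟩)

theorem exists_pi : ∃ π : 𝓒₁(z) →* A, Function.Surjective π ∧ (∀ g, π g = 1 → g.1 ∈ Q) ∧
    ∀ g i, Sim z (g.1 * χ (S i) * g.1⁻¹) (χ (S (pf (π g) i))) := by
  have inj := h.chi_inj hr hz
  have ex : ∀ (g : 𝓒₁(z)) (i : Fin 5), ∃ j, Sim z (g.1 * χ (S i) * g.1⁻¹) (χ (S j)) := fun g i => by
    obtain ⟨m, e⟩ := hr.ge (conj_mem_of_mem_norm (h.l.norm g.2) (h.chi_mem hr hz (S i)))
    obtain ⟨k1, k2, k3⟩ := b4.2.1 i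
    rcases b1 m (inj (by rw [map_mul, e, conj_mul, ← map_mul, k1]; simp)) with rfl | rfl | ⟨j, rfl | rfl⟩
    · exact absurd (inj (by rw [map_one] at e ⊢; exact conj_eq_one_iff.1 e.symm)) k2
    · refine absurd (inj ?_) k3
      rw [hz] at e ⊢
      rw [← mul_left_inj g.1⁻¹, ← mul_right_inj g.1, ← mul_assoc, ← e, ← mul_assoc, mem_cent1.1 g.2]; group
    · exact ⟨j, Or.inl e.symm⟩
    · exact ⟨j, Or.inr (by rw [← e, map_mul, hz])⟩
  have zs : ∀ a, a * z * z = a := fun a => by rw [mul_assoc, h.e.sq, mul_one]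
  have un : ∀ {a i j}, Sim z a (χ (S i)) → Sim z a (χ (S j)) → i = j := fun {a i j} h1 h2 =>
    b4.1 i j (by
      rcases h1 with rfl | rfl <;> rcases h2 with e | e
      · exact Or.inl (inj e)
      · exact Or.inr (inj (by rw [map_mul, hz, e]))
      · exact Or.inr (inj (by rw [map_mul, hz, ← e, zs]))
      · exact Or.inl (inj (mul_right_cancel e)))
  choose p hp using ex
  have pm : ∀ g g' i, p (g * g') i = p g (p g' i) := fun g g' i => un (hp _ _) (by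
    have gz : g.1 * z * g.1⁻¹ = z := mul_inv_eq_iff_eq_mul.2 (mem_cent1.1 g.2)
    have : (g * g').1 * χ (S i) * (g * g').1⁻¹ = g.1 * (g'.1 * χ (S i) * g'.1⁻¹) * g.1⁻¹ := by
      simp only [coe_mul]; group
    rw [this]
    rcases hp g' i with e | e <;> rw [e]
    · exact hp _ _
    · rw [← conj_mul, gz]
      rcases hp g (p g' i) with e | e <;> rw [e]
      exacts [Or.inr rfl, Or.inl (zs _)])
  have p1 : ∀ i, p 1 i = i := fun i => un (hp _ _) (Or.inl (by simp))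
  let act : MulAction 𝓒₁(z) (Fin 5) := { smul := p, one_smul := p1, mul_smul := pm }
  let θ := MulAction.toPermHom 𝓒₁(z) (Fin 5)
  have θp : ∀ g i, θ g i = p g i := fun _ _ => rfl
  have ker : θ.ker = Q.subgroupOf _ := by
    ext g
    rw [MonoidHom.mem_ker, mem_subgroupOf]
    constructor
    · intro e
      refine h.l.stab g g.2 fun q hq => ?_
      let K : Subgroup B :=
        { carrier := {m | ⁅χ m, g.1⁆ ∈ zpowers z}
          one_mem' := by simp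
          mul_mem' := fun {a b} ha hb => by
            have : ⁅χ (a * b), g.1⁆ = χ a * ⁅χ b, g.1⁆ * (χ a)⁻¹ * ⁅χ a, g.1⁆ := by
              simp only [map_mul, commutatorElement_def]; group
            show ⁅χ (a * b), g.1⁆ ∈ zpowers z
            rw [this, h.e.cz (h.e.cent (h.chi_mem hr hz a)) hb, mul_inv_cancel_right]
            exact mul_mem hb ha
          inv_mem' := fun {a} ha => by
            have : ⁅χ a⁻¹, g.1⁆ = (χ a)⁻¹ * ⁅χ a, g.1⁆⁻¹ * χ a := by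
              simp only [map_inv, commutatorElement_def]; group
            show ⁅χ a⁻¹, g.1⁆ ∈ zpowers z
            rw [this, h.e.cz (h.e.cent (inv_mem (h.chi_mem hr hz a))) (inv_mem ha), inv_mul_cancel_right]
            exact inv_mem ha }
      have k : ∀ i, S i ∈ K := fun i => by
        have h1 := hp g i
        rw [← θp, e, Equiv.Perm.one_apply] at h1
        have h2 : ⁅χ (S i), g.1⁆ = χ (S i) * (g.1 * χ (S i) * g.1⁻¹)⁻¹ := by rw [commutatorElement_def]; group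
        show ⁅χ (S i), g.1⁆ ∈ zpowers z
        rcases h1 with h1 | h1 <;> rw [h2, h1]
        · simp
        · rw [mul_inv_rev, ← mul_assoc, h.e.cz (h.e.cent (h.chi_mem hr hz _)) (inv_mem (mem_zpowers z)),
            mul_inv_cancel_right]
          exact inv_mem (mem_zpowers z)
      obtain ⟨m, rfl⟩ := hr.ge hq
      exact (topB (k 0) (k 1) (k 2) (k 3) (show ⁅χ Z, g.1⁆ ∈ zpowers z by
        rw [hz, commutatorElement_eq_one_iff_mul_comm.2 (mem_cent1.1 g.2).symm]; exact one_mem _)).ge trivial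
    · intro hg
      obtain ⟨m, e⟩ := hr.ge hg
      ext i
      rw [θp, un (hp g i) (j := i) (by
        rw [← e, ← map_inv, ← map_mul, ← map_mul]
        exact (b4.2.2.1 m i).imp (congrArg χ) fun e => by rw [e, map_mul, hz]), Equiv.Perm.one_apply]
  have rg : θ.range = alternatingGroup (Fin 5) := by
    refine Equiv.Perm.eq_alternatingGroup_of_index_eq_two ?_
    have h1 := θ.range.index_mul_card
    have h2 := θ.ker.index_mul_card
    rw [Subgroup.index_ker, ker, Nat.card_congr (subgroupOfEquivOfLe h.l.cent).toEquiv, h.c32, h.cH] at h2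
    rw [Nat.card_perm, show Nat.card θ.range = 60 by omega, Nat.card_eq_fintype_card, Fintype.card_fin,
      show Nat.factorial 5 = 120 from rfl] at h1
    omega
  let π : 𝓒₁(z) →* A := eqA.symm.toMonoidHom.comp (θ.codRestrict _ fun g => rg.le ⟨g, rfl⟩)
  have πp : ∀ g, pe (π g) = θ g := fun g => congrArg Subtype.val (eqA.apply_symm_apply _)
  refine ⟨π, fun c => ?_, fun g e => ?_, fun g i => ?_⟩
  · obtain ⟨g, e⟩ := rg.ge (eqA c).2
    exact ⟨g, pe_inj ((πp g).trans e)⟩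
  · exact mem_subgroupOf.1 (ker.le (show θ g = 1 by rw [← πp, e]; exact map_one peH))
  · rw [show pf (π g) i = p g i from congrArg (fun σ : Equiv.Perm (Fin 5) => σ i) (πp g)]
    exact hp g i

theorem adj {g : G} (hg : g ∈ 𝓒₁(z)) {c : A} (e : ∀ i, Sim z (g * χ (S i) * g⁻¹) (χ (S (pf c i)))) :
    ∃ q ∈ Q, Act χ (g * q) c := by
  have gz : g * z * g⁻¹ = z := mul_inv_eq_iff_eq_mul.2 (mem_cent1.1 hg)
  have k : ∀ i, ∃ e ∈ [1, Z], g * χ (S i * e) * g⁻¹ = χ (S (pf c i)) := fun i => by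
    rcases e i with e | e
    · exact ⟨1, by simp, by rwa [mul_one]⟩
    · exact ⟨Z, by simp, by rw [map_mul, hz, ← conj_mul, e, gz, mul_assoc, h.e.sq, mul_one]⟩
  choose ε h1 h2 using k
  obtain ⟨m, e0, e1, e2, e3⟩ := b2 _ (h1 0) _ (h1 1) _ (h1 2) _ (h1 3)
  have k : ∀ i, m * S i * m⁻¹ = S i * ε i → g * χ m * χ (S i) * (g * χ m)⁻¹ = χ (S (pf c i)) := fun i e => by
    rw [← h2, ← e]; simp only [map_mul, map_inv]; group
  refine ⟨χ m, h.chi_mem hr hz m, fun i => ?_⟩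
  fin_cases i
  exacts [k 0 e0, k 1 e1, k 2 e2, k 3 e3, by
    show g * χ m * χ (S 4) * (g * χ m)⁻¹ = χ (S (pf c 4))
    rw [← b3, ← b4.2.2.2.1]
    simp only [map_mul χ, ← k 0 e0, ← k 1 e1, ← k 2 e2, ← k 3 e3, conj_mul]]

theorem exists_act (c : A) : ∃ g ∈ 𝓒₁(z), Act χ g c := by
  obtain ⟨π, h1, -, h3⟩ := h.exists_pi hr hz
  obtain ⟨g, rfl⟩ := h1 c
  obtain ⟨q, hq, e⟩ := h.adj hr hz g.2 (h3 g)
  exact ⟨_, mul_mem g.2 (h.l.cent hq), e⟩

theorem act_z {g : G} {c : A} (e : Act χ g c) : Act χ (g * z) c := fun i => by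
  rw [← e, mul_inv_rev, ← mul_assoc, mul_assoc g z, ← mem_cent1.1 (h.l.cent (h.chi_mem hr hz _))]; group

theorem exists_t {t : G} (ht : t ∈ 𝓒₁(z)) (t2 : t * t = 1) (tQ : t ∉ Q) :
    ∃ t' ∈ 𝓒₁(z), t' * t' = 1 ∧ Act χ t' t0 := by
  obtain ⟨π, h1, h2, h3⟩ := h.exists_pi hr hz
  obtain ⟨k, e⟩ := (a3 (π ⟨t, ht⟩) (by rw [← map_mul, ← map_one π]; exact congrArg π (Subtype.ext t2))).resolve_left
    fun e => tQ (h2 _ e)
  obtain ⟨k, rfl⟩ := h1 k
  rw [← map_inv, ← map_mul, ← map_mul] at e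
  obtain ⟨t1, h4, h5, h6⟩ : ∃ t1 ∈ 𝓒₁(z), t1 * t1 = 1 ∧ ∀ i, Sim z (t1 * χ (S i) * t1⁻¹) (χ (S (pf t0 i))) :=
    ⟨_, (k * ⟨t, ht⟩ * k⁻¹).2, by simp only [coe_mul, coe_inv]; rw [conj_mul, t2]; group, e ▸ h3 _⟩
  have k : ∀ i, ∃ e ∈ [1, Z], t1 * χ (S i) * t1⁻¹ = χ (S (pf t0 i) * e) := fun i => by
    rcases h6 i with e | e
    · exact ⟨1, by simp, by rwa [mul_one]⟩
    · exact ⟨Z, by simp, by rwa [map_mul, hz]⟩
  obtain ⟨ε, h7, h8⟩ := k 0
  obtain ⟨δ, h9, h10⟩ := k 2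
  obtain ⟨m, e0, e1, e2, e3⟩ := b2 1 (by simp) ε h7 1 (by simp) δ h9
  rw [p0.1, ← e1] at h8
  rw [p0.2.2.1, ← e3] at h10
  rw [mul_one] at e0 e2
  have i2 : ∀ {a b}, t1 * a * t1⁻¹ = b → t1 * b * t1⁻¹ = a := fun {a b} e => by
    rw [← e, ← mul_assoc, ← mul_assoc, h5, inv_eq h5, mul_assoc, mul_assoc, h5]; group
  have k : ∀ {a b}, t1 * χ (m * a * m⁻¹) * t1⁻¹ = χ (m * b * m⁻¹) →
      (χ m)⁻¹ * t1 * χ m * χ a * ((χ m)⁻¹ * t1 * χ m)⁻¹ = χ b := fun {a b} e => by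
    simp only [map_mul, map_inv] at e
    calc _ = (χ m)⁻¹ * (t1 * (χ m * χ a * (χ m)⁻¹) * t1⁻¹) * χ m := by group
      _ = _ := by rw [e]; group
  have hm := h.l.cent (h.chi_mem hr hz m)
  have k0 := k (e0.symm ▸ h8)
  have k1 := k (e0.symm ▸ i2 h8)
  have k2 := k (e2.symm ▸ h10)
  have k3 := k (e2.symm ▸ i2 h10)
  refine ⟨(χ m)⁻¹ * t1 * χ m, mul_mem (mul_mem (inv_mem hm) h4) hm, ?_, fun i => ?_⟩
  · calc _ = (χ m)⁻¹ * (t1 * t1) * χ m := by group
      _ = 1 := by rw [h5]; group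
  rw [← p0.1] at k0
  rw [← p0.2.1] at k1
  rw [← p0.2.2.1] at k2
  rw [← p0.2.2.2.1] at k3
  fin_cases i
  exacts [k0, k1, k2, k3, by
    show _ * χ (S 4) * _ = χ (S (pf t0 4))
    rw [← b3, ← b4.2.2.2.1]
    simp only [map_mul χ, ← k0, ← k1, ← k2, ← k3, conj_mul]]

omit hr hz in
/-- the split case -/
theorem exists_phi {t : G} (ht : t ∈ 𝓒₁(z)) (t2 : t * t = 1) (tQ : t ∉ Q) :
    ∃ φ : M →* G, Function.Injective φ ∧ φ.range = 𝓒₁(z) ∧ φ HJM.z = z := by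
  obtain ⟨χ, hr, hz⟩ := h.exists_chi
  obtain ⟨t, ht, t2, at'⟩ := h.exists_t hr hz ht t2 tQ
  have zc : z ∈ 𝓒₁(z) := mem_cent1_self z
  have cube : ∀ {a b : G}, a ∈ 𝓒₁(z) → b ∈ 𝓒₁(z) → (a * b) ^ 3 = z → (a * (b * z)) ^ 3 = 1 := fun {a b} ha hb e => by
    rw [← mul_assoc, (show Commute (a * b) z from mem_cent1.1 (mul_mem ha hb)).mul_pow, e, ← pow_succ',
      show 3 + 1 = 2 * 2 from rfl, pow_mul, pow_two z, h.e.sq, one_pow]
  obtain ⟨x, hx, x3, ax⟩ : ∃ x ∈ 𝓒₁(z), x ^ 3 = 1 ∧ Act χ x x0 := by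
    obtain ⟨x, hx, ax⟩ := h.exists_act hr hz x0
    rcases h.act_one hr hz (pow_mem hx 3) (p0.2.2.2.2.2.2.2.2.2.2.1 ▸ ax.pow 3) with e | e
    · exact ⟨x, hx, e, ax⟩
    · exact ⟨x * z, mul_mem hx zc, by simpa using cube (one_mem _) hx (by rwa [one_mul]), h.act_z hr hz ax⟩
  obtain ⟨t, ht, t2, tx, at'⟩ : ∃ t ∈ 𝓒₁(z), t * t = 1 ∧ (t * x) ^ 3 = 1 ∧ Act χ t t0 := by
    rcases h.act_one hr hz (pow_mem (mul_mem ht hx) 3) (p0.2.2.2.2.2.2.2.2.2.2.2.1 ▸ (at'.mul ax).pow 3) with e | e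
    · exact ⟨t, ht, t2, e, at'⟩
    · refine ⟨t * z, mul_mem ht zc, ?_, ?_, h.act_z hr hz at'⟩
      · rw [mul_assoc, ← mul_assoc z, ← mem_cent1.1 ht, mul_assoc, h.e.sq, mul_one, t2]
      · rw [mul_assoc, ← mem_cent1.1 hx, cube ht hx e]
  obtain ⟨u, hu, tu, au⟩ : ∃ u ∈ 𝓒₁(z), (t * u) ^ 3 = 1 ∧ Act χ u u0 := by
    obtain ⟨u, hu, au⟩ := h.exists_act hr hz u0
    rcases h.act_one hr hz (pow_mem (mul_mem ht hu) 3) (p0.2.2.2.2.2.2.2.2.2.2.2.2.1 ▸ (at'.mul au).pow 3) with e | e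
    · exact ⟨u, hu, e, au⟩
    · exact ⟨u * z, mul_mem hu zc, cube ht hu e, h.act_z hr hz au⟩
  have u2 : u * u = 1 := by
    refine (h.act_one hr hz (mul_mem hu hu) (p0.2.2.2.2.2.2.2.2.2.2.2.2.2.2.1 ▸ au.mul au)).resolve_right fun e => ?_
    have h1 : u⁻¹ = u * z := by rw [← e, inv_eq_iff_mul_eq_one, ← mul_assoc, ← mul_assoc, mul_assoc _ u, e, h.e.sq]
    have h2 : t * u * t = u * t * u := by
      calc _ = (t * u) ^ 3 * u⁻¹ * t⁻¹ * u⁻¹ := by simp only [pow_succ]; group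
        _ = u * (z * t) * u * z := by rw [tu, h1, inv_eq t2]; group
        _ = u * t * (z * u) * z := by rw [← mem_cent1.1 ht]; group
        _ = _ := by rw [← mem_cent1.1 hu, mul_assoc, mul_assoc, mul_assoc, h.e.sq]; group
    have h3 : t * u * t * (t * u)⁻¹ = u := by
      rw [h2, mul_inv_rev, inv_eq t2, ← mul_assoc, mul_inv_cancel_right, mul_assoc, t2, mul_one]
    apply h.e.ne
    rw [← e, ← h3, conj_mul, t2]; group
  have ux : u * x * (u * x) = 1 := by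
    rcases h.act_one hr hz (mul_mem (mul_mem (mul_mem hu hx) (inv_mem hu)) hx)
      (p0.2.2.2.2.2.2.2.2.2.2.2.2.2.1 ▸ ((au.mul ax).mul au.inv).mul ax) with e | e
    · rwa [inv_eq u2, mul_assoc] at e
    · have h1 : u * x * u⁻¹ = z * x⁻¹ := by rw [← e]; group
      have h2 : (z * x⁻¹) ^ 3 = 1 := by rw [← h1, conj_pow, x3]; group
      rw [(show Commute z x⁻¹ from (mem_cent1.1 (inv_mem hx)).symm).mul_pow, inv_pow, x3, pow_succ, pow_two,
        h.e.sq] at h2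
      exact absurd (by simpa using h2) h.e.ne
  have s2 : ∀ i, χ (S i) * χ (S i) = 1 := fun i => by rw [← map_mul, (b4.2.1 i).1, map_one]
  have cz : ∀ {a}, a ∈ 𝓒₁(z) → z * (a * (z * a⁻¹)) = 1 := fun {a} ha => by
    rw [← mul_assoc a, mem_cent1.1 ha, mul_inv_cancel_right, h.e.sq]
  have sz := fun i => h.l.cent (h.chi_mem hr hz (S i))
  obtain ⟨φ, e1, e2, e3, e4, e5, e6⟩ := homM (t' := t) (x' := x) (u' := u) (s' := χ (S 4)) (w' := χ (S 3)) (z' := z) (by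
    have a1 := at' 4
    have a2 := ax 4
    have a3 := au 4
    have a4 := at' 3
    have a5 := ax 2
    have a6 := ax 0
    rw [p0.2.2.2.2.1, inv_eq t2] at a1
    rw [p0.2.2.2.2.2.2.2.2.1] at a2
    rw [p0.2.2.2.2.2.2.2.2.2.1, inv_eq u2] at a3
    rw [p0.2.2.2.1, inv_eq t2] at a4
    rw [p0.2.2.2.2.2.2.1] at a5
    rw [p0.2.2.2.2.2.1] at a6
    have a7 := congrArg χ b4.2.2.2.2.1
    have a8 := congrArg χ b4.2.2.2.2.2
    simp only [map_mul, map_one, hz] at a7 a8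
    simp only [RH, List.forall_mem_cons, ev_cons, ev_nil, lv, sq8, mul_one]
    norm_num
    refine ⟨t2, by simpa [pow_succ, mul_assoc] using x3, u2, s2 4, s2 3, h.e.sq,
      by simpa [pow_succ, mul_assoc] using tx, by simpa [mul_assoc] using ux, by simpa [pow_succ, mul_assoc] using tu,
      ?_, ?_, ?_, by simpa [mul_assoc] using a8, by simpa [inv_eq t2] using cz ht, cz hx,
      by simpa [inv_eq u2] using cz hu, by simpa [inv_eq (s2 4)] using cz (sz 4), ?_⟩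
    · rw [← mul_assoc, ← mul_assoc, a1, s2]
    · rw [← mul_assoc, ← mul_assoc, a2, s2]
    · rw [← mul_assoc, ← mul_assoc, a3, s2]
    · calc _ = (x * (t * χ (S 3) * t) * x⁻¹) * (x * (x * (t * χ (S 3) * t) * x⁻¹) * x⁻¹) * x ^ 3 *
            (t * χ (S 3) * t) * χ (S 3) * χ (S 4) := by simp only [pow_succ]; group
        _ = 1 := by rw [a4, a5, a6, x3, mul_one, a7])
  have inj := inj_M (φ := φ) (e6 ▸ h.e.ne)
  refine ⟨φ, inj, eq_of_le_of_card_le ?_ ?_, e6⟩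
  · rintro _ ⟨m, rfl⟩
    rw [mem_cent1, ← e6, ← map_mul, mz, map_mul]
  · rw [h.cH, ← card_M]; exact (Nat.card_congr (MonoidHom.ofInjective inj).toEquiv).le

omit hr hz in
theorem inv_conj {a b : G} (ha : a ∈ Q) (hb : b ∈ Q) (a2 : a * a = 1) (b2 : b * b = 1) (az : a ∉ zpowers z)
    (bz : b ∉ zpowers z) : IsConj a b := by
  obtain ⟨χ, hr, hz⟩ := h.exists_chi
  have inj := h.chi_inj hr hz
  have k : ∀ a ∈ Q, a * a = 1 → a ∉ zpowers z → IsConj a (χ (S 0)) := fun a ha a2 az => by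
    obtain ⟨m, rfl⟩ := hr.ge ha
    have k1 : ∀ i, IsConj (χ (S i)) (χ (S 0)) := fun i => by
      obtain ⟨c, e⟩ := p1 i 0
      obtain ⟨g, -, e'⟩ := h.exists_act hr hz c
      exact isConj_iff.2 ⟨g, e ▸ e' i⟩
    rcases b1 m (inj (by rw [map_mul, a2, map_one])) with rfl | rfl | ⟨j, rfl | rfl⟩
    · exact absurd (by simp) az
    · exact absurd (hz ▸ mem_zpowers _) az
    · exact k1 j
    · obtain ⟨q, -, e⟩ := h.l.exists_conj ha a2 az
      rw [map_mul, hz, mul_assoc (χ _), h.e.sq, mul_one] at e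
      exact (isConj_iff.2 ⟨q, by rw [map_mul, hz, e]⟩).trans (k1 j)
  exact (k a ha a2 az).trans (k b hb b2 bz).symm

end Hy

end CA.HJ
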