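import Cfsg.Agent.Lib.HJ.HJA

/-!
The element `ρ` of order 3 normalizing `⟨z, s⟩`.
-/

set_option autoImplicit false
set_option linter.unusedSectionVars false

namespace CA.HJ

open CA.BG Subgroup CA.CWord CA.CTodd CA.HJRel CA.HJM

universe u

variable {G : Type u} [Group G] [Finite G] {φ : M →* G} {r k g : G}

theorem k0 : z * z = 1 ∧ s * s = 1 ∧ w * w = 1 ∧ t * t = 1 ∧ u * u = 1 ∧ x ^ 3 = 1 ∧ z ≠ 1 ∧ s ≠ 1 ∧ s * z ≠ 1 ∧
    t ≠ 1 ∧ x ≠ 1 ∧ x * x ≠ 1 ∧ s ≠ z := by decide +kernel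
theorem k1 : w * s * w⁻¹ = s * z ∧ x * s = s * x ∧ t * s = s * t ∧ w * x = x * w ∧ (t * x) ^ 3 = 1 ∧
    w * t * w * (w * t * w) = 1 ∧ w * t * w * s = s * (w * t * w) ∧ (w * t * w * x) ^ 3 = 1 ∧ w * t * w ≠ 1 ∧
    (∀ e ∈ [1, x, x⁻¹], e * x = x * e ∧ e * s = s * e ∧
      ∀ e' ∈ [1, x, x⁻¹], e' * e⁻¹ * t * (e' * e⁻¹)⁻¹ ≠ w * t * w) := by decide +kernel

theorem ksz : s * z * (s * z) = 1 := by decide +kernel

/-- a chart for the centralizer of `φ z`, with `z` fused to `s` -/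
structure Ch (φ : M →* G) : Prop where
  inj : Function.Injective φ
  sur : ∀ g, g * φ z = φ z * g → ∃ m, φ m = g
  fus : IsConj (φ z) (φ s)

/-- `r` permutes `z, s, s z` cyclically -/
structure Cy (φ : M →* G) (r : G) : Prop where
  rz : r * φ z * r⁻¹ = φ s
  rs : r * φ s * r⁻¹ = φ s * φ z

/-- the element `ρ` -/
structure Rho (φ : M →* G) (r : G) : Prop extends Cy φ r where
  r3 : r ^ 3 = 1
  rt : r * φ t = φ t * r
  rx : r * φ x = φ x * r

theorem zz (φ : M →* G) : φ z * φ z = 1 := by rw [← map_mul, k0.1, map_one]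
theorem ss (φ : M →* G) : φ s * φ s = 1 := by rw [← map_mul, k0.2.1, map_one]
theorem ww (φ : M →* G) : φ w * φ w = 1 := by rw [← map_mul, k0.2.2.1, map_one]
theorem tt (φ : M →* G) : φ t * φ t = 1 := by rw [← map_mul, k0.2.2.2.1, map_one]
theorem uu (φ : M →* G) : φ u * φ u = 1 := by rw [← map_mul, k0.2.2.2.2.1, map_one]
theorem xxx (φ : M →* G) : φ x ^ 3 = 1 := by rw [← map_pow, k0.2.2.2.2.2.1, map_one]
theorem cz (φ : M →* G) (m : M) : φ m * φ z = φ z * φ m := by rw [← map_mul, mz, map_mul]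
theorem cm (φ : M →* G) {a b : M} (h : a * b = b * a) : φ a * φ b = φ b * φ a := by rw [← map_mul, h, map_mul]

theorem conj_comm {a b : G} (g : G) (h : a * b = b * a) :
    g * a * g⁻¹ * (g * b * g⁻¹) = g * b * g⁻¹ * (g * a * g⁻¹) := by rw [conj_mul, conj_mul, h]

theorem conj_of_comm {a b : G} (h : a * b = b * a) : a * b * a⁻¹ = b := mul_inv_eq_iff_eq_mul.2 h

namespace Cy

variable (c : Cy φ r)
include c

theorem rsz : r * (φ s * φ z) * r⁻¹ = φ z := by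
  rw [← conj_mul, c.rs, c.rz, cz, mul_assoc, ss, mul_one]

theorem mul (h1 : k * φ z = φ z * k) (h2 : k * φ s = φ s * k) : Cy φ (k * r) := by
  have e : ∀ a, k * r * a * (k * r)⁻¹ = k * (r * a * r⁻¹) * k⁻¹ := fun a => by group
  exact ⟨by rw [e, c.rz, conj_of_comm h2], by rw [e, c.rs, ← conj_mul, conj_of_comm h1, conj_of_comm h2]⟩

theorem cube : r ^ 3 * φ z = φ z * r ^ 3 ∧ r ^ 3 * φ s = φ s * r ^ 3 := by
  have e : ∀ a, r ^ 3 * a * (r ^ 3)⁻¹ = r * (r * (r * a * r⁻¹) * r⁻¹) * r⁻¹ := fun a => by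
    simp only [pow_succ, pow_zero, one_mul, mul_inv_rev, mul_assoc]
  exact ⟨mul_inv_eq_iff_eq_mul.1 (by rw [e, c.rz, c.rs, c.rsz]), mul_inv_eq_iff_eq_mul.1 (by rw [e, c.rs, c.rsz, c.rz])⟩

theorem four : Cy φ (r ^ 4) := pow_succ r 3 ▸ c.mul c.cube.1 c.cube.2

theorem conj (h1 : g * φ z = φ z * g) (h2 : g * φ s = φ s * g) :
    r * g * r⁻¹ * φ z = φ z * (r * g * r⁻¹) ∧ r * g * r⁻¹ * φ s = φ s * (r * g * r⁻¹) :=
  ⟨c.rsz ▸ conj_comm r (by rw [← mul_assoc, h2, mul_assoc, h1, mul_assoc]), c.rz ▸ conj_comm r h1⟩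

theorem fpf (h : Ch φ) {m : M} (hm : inV m) (e : r * φ m * r⁻¹ = φ m) : m = 1 := by
  rcases hm with rfl | rfl | rfl | rfl
  · rfl
  · exact absurd (h.inj (c.rz.symm.trans e)) k0.2.2.2.2.2.2.2.2.2.2.2.2
  · rw [c.rs, mul_eq_left, ← map_one φ] at e
    exact absurd (h.inj e) k0.2.2.2.2.2.2.1
  · rw [map_mul, c.rsz, eq_comm, mul_eq_right, ← map_one φ] at e
    exact absurd (h.inj e) k0.2.2.2.2.2.2.2.1

end Cy

theorem ev_congr {P : Type*} [Group P] {g g' : ℕ → P} {n : ℕ} (h : ∀ i < n, g i = g' i) {w : Word}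
    (hw : ∀ a ∈ w, a < 2 * n) : ev g w = ev g' w := by
  induction w with
  | nil => rfl
  | cons a w ih =>
    rw [ev_cons, ev_cons, ih fun b hb => hw b (List.mem_cons_of_mem _ hb), lv, lv,
      h _ (by have := hw a List.mem_cons_self; omega)]

/-- the generators -/
def gn (φ : M →* G) (r g : G) : ℕ → G := sq8 (φ t) (φ x) (φ u) (φ s) (φ w) (φ z) r g

theorem relH (φ : M →* G) (r g : G) : ∀ q ∈ RH, ev (gn φ r g) q = 1 := fun q hq => by
  rw [← map_one φ, ← relM q hq, map_ev]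
  exact ev_congr (n := 6) (fun i hi => by interval_cases i <;> rfl) ((by decide : ∀ q ∈ RH, ∀ a ∈ q, a < 2 * 6) q hq)

theorem Rho.rel (c : Rho φ r) (g : G) : ∀ q ∈ Rr, ev (gn φ r g) q = 1 := by
  simp only [Rr, List.forall_mem_cons, ev_cons, ev_nil, lv, gn, sq8, mul_one]
  norm_num
  refine ⟨by simpa [pow_succ, mul_assoc] using c.r3, ?_, ?_, ?_, ?_⟩
  · rw [← mul_assoc, ← mul_assoc, conj_of_comm c.rt, tt]
  · rw [← mul_assoc, ← mul_assoc, conj_of_comm c.rx, mul_inv_cancel]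
  · rw [← mul_assoc, ← mul_assoc, c.rz, ss]
  · rw [← mul_assoc, ← mul_assoc, c.rs, ← map_mul, ← map_mul, ksz, map_one]

theorem Cy.col (c : Cy φ r) (h : Ch φ) {R gens : List Word} (hI : Idx.{u} R gens gH 1) (hg : [12] ∈ gens)
    (hR : ∀ q ∈ R, ev (gn φ r g) q = 1) : False := by
  obtain ⟨h1, h2⟩ := hI G _ hR
  have h3 : grp (gn φ r g) gens ≤ grp (gn φ r g) gH := relIndex_eq_one.1 (by omega)
  have h4 : grp (gn φ r g) gH ≤ 𝓒₁(φ z) := by
    rw [grp_le_iff]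
    simp [gH, lv, gn, sq8, mem_cent1, cz]
  have h5 : r ∈ 𝓒₁(φ z) := h4 (h3 (gen_mem _ 6 hg))
  exact k0.2.2.2.2.2.2.1 (c.fpf h (Or.inr (Or.inl rfl)) (conj_of_comm (mem_cent1.1 h5)))

namespace Ch

variable (h : Ch φ)
include h

theorem eq1 {m : M} : φ m = 1 ↔ m = 1 := map_eq_one_iff φ h.inj

theorem exists_cy : ∃ r, Cy φ r := by
  obtain ⟨g, hg⟩ := isConj_iff.1 h.fus
  have gs : g⁻¹ * φ s * g⁻¹⁻¹ = φ z := by rw [← hg]; group
  obtain ⟨m, hm⟩ := h.sur (g⁻¹ * φ z * g⁻¹⁻¹) (by nth_rw 2 3 [← gs]; exact conj_comm _ (cz φ s).symm)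
  have kz := conj_of_comm (cz φ (K m))
  rcases m1 m (h.eq1.1 (by rw [map_mul, hm, conj_mul, zz]; group)) with e | e | e | e
  · rw [e, map_one, eq_comm, conj_eq_one_iff, h.eq1] at hm
    exact absurd hm k0.2.2.2.2.2.2.1
  · rw [e, ← gs] at hm
    nth_rw 2 [gs] at hm
    exact absurd (h.inj (mul_left_cancel (mul_right_cancel hm))) k0.2.2.2.2.2.2.2.2.2.2.2.2
  · replace e := congrArg φ e
    rw [map_mul, map_mul, map_inv, hm] at e
    have e1 : ∀ a, φ (K m) * g⁻¹ * φ w * a * (φ (K m) * g⁻¹ * φ w)⁻¹ =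
      φ (K m) * (g⁻¹ * (φ w * a * (φ w)⁻¹) * g⁻¹⁻¹) * (φ (K m))⁻¹ := fun a => by group
    refine ⟨φ (K m) * g⁻¹ * φ w, by rw [e1, conj_of_comm (cz φ w), e], ?_⟩
    rw [e1, ← map_inv φ w, ← map_mul, ← map_mul, k1.1, map_mul, ← conj_mul (b := g⁻¹) (a := φ s),
      ← conj_mul (b := φ (K m)) (a := g⁻¹ * φ s * g⁻¹⁻¹), e, gs, kz, cz]
  · replace e := congrArg φ e
    rw [map_mul, map_mul, map_inv, hm] at e
    obtain ⟨n, hn⟩ := h.sur (φ (K m) * (g⁻¹ * φ x * g⁻¹⁻¹) * (φ (K m))⁻¹) (by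
      rw [← kz, ← gs]; exact conj_comm _ (conj_comm _ (cm φ k1.2.1)))
    have := (m2 n (h.inj (by
      rw [map_mul, map_mul, hn, ← e]; exact conj_comm _ (conj_comm _ (cz φ x))))).1
    rw [← h.eq1, map_mul, hn, conj_mul, conj_mul, conj_eq_one_iff, conj_eq_one_iff, ← map_mul, h.eq1] at this
    exact absurd this k0.2.2.2.2.2.2.2.2.2.2.2.1

theorem exists_cx : ∃ r, Cy φ r ∧ r * φ x = φ x * r := by
  obtain ⟨r, c⟩ := h.exists_cy
  obtain ⟨h1, h2⟩ := c.conj (cz φ x) (cm φ k1.2.1)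
  obtain ⟨m, hm⟩ := h.sur _ h1
  obtain ⟨h3, h4⟩ := (m6 m (h.inj (by rw [map_mul, map_mul, hm, h2]))
    (h.eq1.1 (by rw [map_pow, hm, conj_pow, xxx]; group))).resolve_left fun e => by
      rw [e, map_one, eq_comm, conj_eq_one_iff, h.eq1] at hm
      exact k0.2.2.2.2.2.2.2.2.2.2.1 hm
  have c' := c.mul (cz φ (K m)) (cm φ h3)
  have e1 : φ (K m) * r * φ x * (φ (K m) * r)⁻¹ = φ (K m * m * (K m)⁻¹) := by
    rw [map_mul, map_mul, map_inv, hm]; group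
  generalize φ (K m) * r = r at c' e1
  rcases h4 with e | e <;> rw [e] at e1
  · exact ⟨r, c', mul_inv_eq_iff_eq_mul.1 e1⟩
  · refine ⟨r ^ 4, c'.four, ?_⟩
    have : Commute (r ^ 2) (φ x) := mul_inv_eq_iff_eq_mul.1 (by
      calc r ^ 2 * φ x * (r ^ 2)⁻¹ = r * (r * φ x * r⁻¹) * r⁻¹ := by simp only [pow_succ, pow_zero, one_mul, mul_inv_rev, mul_assoc]
        _ = (r * φ x * r⁻¹)⁻¹ := by nth_rw 1 [e1]; rw [map_inv]; group
        _ = _ := by rw [e1, map_inv, inv_inv])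
    exact pow_mul r 2 2 ▸ this.pow_left 2

theorem exists_rho0 : ∃ r, Rho φ r := by
  obtain ⟨r, c, rx, e, he, rt⟩ : ∃ r, Cy φ r ∧ r * φ x = φ x * r ∧ ∃ e : G, (e * φ x = φ x * e ∧
      e * φ z = φ z * e ∧ e * φ s = φ s * e) ∧ r * φ t * r⁻¹ = e * φ t * e⁻¹ := by
    obtain ⟨r, c, rx⟩ := h.exists_cx
    have P : ∀ a : M, a * a = 1 → a * s = s * a → (a * x) ^ 3 = 1 → a ≠ 1 → ∃ e ∈ [1, x, x⁻¹],
        r * φ a * r⁻¹ = φ e * φ t * (φ e)⁻¹ ∨ r * φ a * r⁻¹ = φ e * φ (w * t * w) * (φ e)⁻¹ := by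
      intro a a1 a2 a3 a4
      obtain ⟨h1, h2⟩ := c.conj (cz φ a) (cm φ a2)
      obtain ⟨m, hm⟩ := h.sur _ h1
      obtain ⟨e, he, e1⟩ := (m5 m (h.eq1.1 (by rw [map_mul, hm, conj_mul, ← map_mul, a1]; simp))
        (h.inj (by rw [map_mul, map_mul, hm, h2])) (h.eq1.1 (by
          rw [map_pow, map_mul, hm, ← conj_of_comm rx, conj_mul, conj_pow, ← map_mul, ← map_pow, a3]; simp))).resolve_left
        fun e => by
          rw [e, map_one, eq_comm, conj_eq_one_iff, h.eq1] at hm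
          exact a4 hm
      exact ⟨e, he, e1.imp (fun e1 => by rw [← hm, ← e1]; simp) fun e1 => by rw [← hm, ← e1]; simp⟩
    have X : ∀ e ∈ [1, x, x⁻¹], r * φ e = φ e * r := by
      simp only [List.forall_mem_cons, map_inv]
      exact ⟨by simp, rx, (show Commute r (φ x) from rx).inv_right, by simp⟩
    obtain ⟨e, he, e1 | e1⟩ := P t k0.2.2.2.1 k1.2.2.1 k1.2.2.2.2.1 k0.2.2.2.2.2.2.2.2.2.1
    · obtain ⟨h1, h2, -⟩ := k1.2.2.2.2.2.2.2.2.2 e he
      exact ⟨r, c, rx, φ e, ⟨cm φ h1, cz φ e, cm φ h2⟩, e1⟩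
    obtain ⟨f, hf, e2 | e2⟩ := P _ k1.2.2.2.2.2.1 k1.2.2.2.2.2.2.1 k1.2.2.2.2.2.2.2.1 k1.2.2.2.2.2.2.2.2.1
    · obtain ⟨h1, h2, -⟩ := k1.2.2.2.2.2.2.2.2.2 e he
      obtain ⟨h3, h4, -⟩ := k1.2.2.2.2.2.2.2.2.2 f hf
      have ef : Commute r (φ e * φ f) := (show Commute r (φ e) from X e he).mul_right (X f hf)
      have e3 : r ^ 2 * φ t * (r ^ 2)⁻¹ = φ e * φ f * φ t * (φ e * φ f)⁻¹ := by
        calc _ = r * (r * φ t * r⁻¹) * r⁻¹ := by simp only [pow_succ, pow_zero, one_mul, mul_inv_rev, mul_assoc]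
          _ = (r * φ e) * φ (w * t * w) * (r * φ e)⁻¹ := by rw [e1]; group
          _ = φ e * (r * φ (w * t * w) * r⁻¹) * (φ e)⁻¹ := by rw [X e he]; group
          _ = _ := by rw [e2]; group
      refine ⟨r ^ 4, c.four, (show Commute r (φ x) from rx).pow_left 4, (φ e * φ f) ^ 2,
        ⟨((show Commute (φ e) (φ x) from cm φ h1).mul_left (cm φ h3)).pow_left 2,
        ((show Commute (φ e) (φ z) from cz φ e).mul_left (cz φ f)).pow_left 2,
        ((show Commute (φ e) (φ s) from cm φ h2).mul_left (cm φ h4)).pow_left 2⟩, ?_⟩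
      calc _ = r ^ 2 * (r ^ 2 * φ t * (r ^ 2)⁻¹) * (r ^ 2)⁻¹ := by group
        _ = (r ^ 2 * (φ e * φ f)) * φ t * (r ^ 2 * (φ e * φ f))⁻¹ := by rw [e3]; group
        _ = φ e * φ f * (r ^ 2 * φ t * (r ^ 2)⁻¹) * (φ e * φ f)⁻¹ := by rw [(ef.pow_left 2).eq]; group
        _ = _ := by rw [e3, pow_two]; group
    · refine absurd (h.inj ?_) ((k1.2.2.2.2.2.2.2.2.2 e he).2.2 f hf)
      have ef : Commute r (φ f * (φ e)⁻¹) :=
        (show Commute r (φ f) from X f hf).mul_right (show Commute r (φ e) from X e he).inv_right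
      rw [← mul_right_inj r, ← mul_left_inj r⁻¹, e2, map_mul, map_mul, map_inv, map_mul, map_inv]
      calc _ = (r * (φ f * (φ e)⁻¹)) * φ t * (r * (φ f * (φ e)⁻¹))⁻¹ := by group
        _ = φ f * (φ e)⁻¹ * (r * φ t * r⁻¹) * (φ f * (φ e)⁻¹)⁻¹ := by rw [ef.eq]; group
        _ = _ := by rw [e1]; group
  have c' := c.mul (show Commute e (φ z) from he.2.1).inv_left (show Commute e (φ s) from he.2.2).inv_left
  have h1 : Commute (e⁻¹ * r) (φ t) := mul_inv_eq_iff_eq_mul.1 (by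
    calc _ = e⁻¹ * (r * φ t * r⁻¹) * e := by group
      _ = _ := by rw [rt]; group)
  have h2 : Commute (e⁻¹ * r) (φ x) := (show Commute e (φ x) from he.1).inv_left.mul_left rx
  generalize e⁻¹ * r = r at c' h1 h2
  obtain ⟨m, hm⟩ := h.sur _ c'.cube.1
  have := c'.fpf h ((m2 m (h.inj (by rw [map_mul, map_mul, hm, (h1.pow_left 3).eq]))).2.2.1
    (h.inj (by rw [map_mul, map_mul, hm, (h2.pow_left 3).eq]))) (by rw [hm]; group)
  exact ⟨r, c', by rw [← hm, this, map_one], h1, h2⟩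

theorem exists_rho : ∃ r, Rho φ r ∧ φ w * r * (φ w * r) * φ x = 1 := by
  obtain ⟨r, c⟩ := h.exists_rho0
  have ws : φ w * φ s * (φ w)⁻¹ = φ s * φ z := by rw [← map_inv, ← map_mul, ← map_mul, k1.1, map_mul]
  have wz := conj_of_comm (cz φ w)
  have e : ∀ a, φ w * r * a * (φ w * r)⁻¹ = φ w * (r * a * r⁻¹) * (φ w)⁻¹ := fun a => by group
  have cs : Commute (φ w * r) (φ s) := mul_inv_eq_iff_eq_mul.1 (by
    rw [e, c.rs, ← conj_mul, ws, wz, mul_assoc, zz, mul_one])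
  have cz1 : φ w * r * φ z * (φ w * r)⁻¹ = φ s * φ z := by rw [e, c.rz, ws]
  have cz2 : φ w * r * (φ s * φ z) * (φ w * r)⁻¹ = φ z := by rw [e, c.rsz, wz]
  have cx : Commute (φ w * r) (φ x) := (show Commute (φ w) (φ x) from cm φ k1.2.2.2.1).mul_left c.rx
  obtain ⟨m, hm⟩ := h.sur (φ w * r * (φ w * r)) (mul_inv_eq_iff_eq_mul.1 (by
    calc _ = φ w * r * (φ w * r * φ z * (φ w * r)⁻¹) * (φ w * r)⁻¹ := by group
      _ = _ := by rw [cz1, cz2]))
  obtain ⟨f, hf, hv⟩ := (m3 m (h.inj (by rw [map_mul, map_mul, hm, (cx.mul_left cx).eq]))).1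
    (h.inj (by rw [map_mul, map_mul, hm, (cs.mul_left cs).eq]))
  have col : ∀ {R : List Word} (q : Word), Idx.{u} R gR gH 1 → R = RH ++ Rr ++ [q] → ev (gn φ r 1) q = 1 → False :=
    fun q hI e hq => c.toCy.col (g := 1) h hI (by decide) (by
      rw [e, List.forall_mem_append, List.forall_mem_append]
      exact ⟨⟨relH φ r 1, c.rel 1⟩, by simpa using hq⟩)
  have key : ∀ v, m * f = v → v * v = 1 → φ w * r * (φ w * r) * φ f * φ v = 1 := fun v e v2 => by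
    rw [← hm, ← map_mul, e, ← map_mul, v2, map_one]
  have sz := ksz
  simp only [List.mem_cons, List.not_mem_nil, or_false] at hf
  rcases hf with rfl | rfl | rfl <;> rcases hv with e | e | e | e
  · exact (col _ HJTC.w00.idx rfl (by simpa [gn, sq8, lv, mul_assoc] using key _ e (mul_one _))).elim
  · exact (col _ HJTC.w01.idx rfl (by simpa [gn, sq8, lv, mul_assoc] using key _ e k0.1)).elim
  · exact (col _ HJTC.w02.idx rfl (by simpa [gn, sq8, lv, mul_assoc] using key _ e k0.2.1)).elim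
  · exact (col _ HJTC.w03.idx rfl (by simpa [gn, sq8, lv, mul_assoc] using key _ e sz)).elim
  · exact ⟨r, c, by simpa using key _ e (mul_one _)⟩
  · exact (col _ HJTC.w11.idx rfl (by simpa [gn, sq8, lv, mul_assoc] using key _ e k0.1)).elim
  · have k := key _ e k0.2.1
    have sz' : Commute (φ z * φ s) (φ x) := (show Commute (φ z) (φ x) from (cz φ x).symm).mul_left (cm φ k1.2.1).symm
    have c' : Cy φ (φ s * r * φ s) := by
      have e1 : ∀ a, φ s * r * φ s * a * (φ s * r * φ s)⁻¹ = φ s * (r * (φ s * a * (φ s)⁻¹) * r⁻¹) * (φ s)⁻¹ :=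
        fun a => by group
      exact ⟨by rw [e1, conj_of_comm (cz φ s), c.rz]; group,
        by rw [e1, mul_inv_cancel_right, c.rs, ← conj_mul, conj_of_comm (cz φ s)]; group⟩
    have s1 : (φ s)⁻¹ = φ s := inv_eq_of_mul_eq_one_right (ss φ)
    refine ⟨φ s * r * φ s, ⟨c', ?_, ?_, ?_⟩, ?_⟩
    · nth_rw 2 [← s1]
      rw [conj_pow, c.r3]; group
    · exact ((show Commute (φ s) (φ t) from (cm φ k1.2.2.1).symm).mul_left c.rt).mul_left (cm φ k1.2.2.1).symm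
    · exact ((show Commute (φ s) (φ x) from (cm φ k1.2.1).symm).mul_left c.rx).mul_left (cm φ k1.2.1).symm
    · have e1 : φ w * (φ s * r * φ s) = φ w * r * (φ z * φ s) := by
        nth_rw 1 [← c.rz]; group
      have e2 : φ z * φ s * (φ w * r) = φ w * r * φ z := by
        rw [← cz φ s, ← cz1]; group
      rw [e1]
      calc _ = φ w * r * (φ z * φ s * (φ w * r)) * (φ z * φ s * φ x) := by group
        _ = φ w * r * (φ w * r) * ((φ z * φ z) * (φ s * φ x)) := by rw [e2]; group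
        _ = 1 := by rw [zz, one_mul, ← cm φ k1.2.1, ← mul_assoc, k]
  · exact (col _ HJTC.w13.idx rfl (by simpa [gn, sq8, lv, mul_assoc] using key _ e sz)).elim
  · exact (col _ HJTC.w20.idx rfl (by simpa [gn, sq8, lv, mul_assoc] using key _ e (mul_one _))).elim
  · exact (col _ HJTC.w21.idx rfl (by simpa [gn, sq8, lv, mul_assoc] using key _ e k0.1)).elim
  · exact (col _ HJTC.w22.idx rfl (by simpa [gn, sq8, lv, mul_assoc] using key _ e k0.2.1)).elim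
  · exact (col _ HJTC.w23.idx rfl (by simpa [gn, sq8, lv, mul_assoc] using key _ e sz)).elim

end Ch

end CA.HJ
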