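import Cfsg.Agent.Lib.HJ.HJB
import Cfsg.Agent.Lib.Gold.ST1
import Cfsg.Agent.Lib.Walt.JR1b
import Cfsg.Agent.Lib.Cit.Ca
import Cfsg.Agent.Lib.Grp.H28Simp

/-!
Two classes of involutions: the centralizer of `t` is `E₄ × A₅`.
-/

set_option autoImplicit false
set_option linter.unusedSectionVars false

namespace CA.HJ

open CA.BG CA.GW Subgroup CA.HJM

universe u

variable {G : Type u} [Group G] [Finite G] {φ : M →* G} {r k g : G}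

theorem klein1 {a b : G} (hf : Four a b) (h : ∀ c ∈ V4 a b, c ≠ 1 → 𝓒₁(c) ≤ V4 a b) :
    𝓝(V4 a b) = ⊤ ∨ (IsSimpleGroup G ∧ Nat.card G = 60) := by
  obtain ⟨P, hP, h1⟩ := syl_superset Nat.prime_two hf.pi2 (le_top : V4 a b ≤ ⊤)
  obtain ⟨c, hc, c2, h2⟩ := CA.Ca.exists_cinv hP.pi (ne_bot_mono h1 hf.ne_bot)
  have h3 := h2.trans (h c (h a (left_mem_V4 a b) hf.a1 (mem_cent1_symm.1 (h2 (h1 (left_mem_V4 a b)))))
    (ne_one_of_ord c2))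
  refine CA.JR.klein0 hf (le_antisymm h3 h1 ▸ hP) (le_bot_iff.1 (hf.gen' (od_core _) ?_ fun v hv v2 g hg => ?_))
    fun c hc c1 => (h c hc c1).trans hf.le_cent
  · exact le_top.trans (le_norm_core _ _)
  · exact (od_core _).eq_one hg.1 (hf.sq (h v hv (ne_one_of_ord v2) hg.2))

theorem exists_mid {a b : G} (ha : a * a = 1) (hb : b * b = 1) (h : ¬ IsConj a b) :
    ∃ i, orderOf i = 2 ∧ i * a = a * i ∧ i * b = b * i :=
  have e := CA.H13Inv.even_of_not_isConj ha hb h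
  ⟨_, CA.H13Inv.orderOf_pow_half e, CA.H13Inv.commute_pow_half_left ha hb e,
    CA.H13Inv.commute_pow_half_right ha hb e⟩

/-- the second generator of `E` -/
def t1 : M := x * t * x⁻¹

theorem k2 : t1 * t1 = 1 ∧ t1 ≠ 1 ∧ t * t1 = t1 * t ∧ t ≠ t1 ∧ t1 * s = s * t1 ∧ x * t1 * x⁻¹ = t * t1 ∧
    (∀ a ∈ [z, s, z * s], ∀ b ∈ [t, t1, t * t1], a ≠ b) ∧ u * s * u⁻¹ = w ∧ s * w * (s * w) = z ∧
    w * s ≠ s * w ∧ u * (s * z) * u⁻¹ = w * z ∧ ∀ a ∈ [w, w * z], a * (s * z) ≠ s * z * a := by decide +kernel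

/-- `⟨z, s⟩` -/
abbrev VV (φ : M →* G) : Subgroup G := V4 (φ z) (φ s)
/-- `⟨t, t^x⟩` -/
abbrev EE (φ : M →* G) : Subgroup G := V4 (φ t) (φ t1)
/-- `V × E` -/
abbrev AA (φ : M →* G) : Subgroup G := 𝓒₁(φ z) ⊓ 𝓒₁(φ t)

theorem memV {m : M} (h : inV m) : φ m ∈ VV φ := by
  rcases h with rfl | rfl | rfl | rfl
  exacts [by simp, left_mem_V4 _ _, right_mem_V4 _ _,
    map_mul φ s z ▸ mul_mem (right_mem_V4 _ _) (left_mem_V4 _ _)]

theorem V_le : VV φ ≤ AA φ :=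
  V4_le ⟨mem_cent1_self _, mem_cent1.2 (cz φ t).symm⟩ ⟨mem_cent1.2 (cz φ s), mem_cent1.2 (cm φ k1.2.2.1).symm⟩

theorem E_le : EE φ ≤ AA φ :=
  V4_le ⟨mem_cent1.2 (cz φ t), mem_cent1_self _⟩ ⟨mem_cent1.2 (cz φ _), mem_cent1.2 (cm φ k2.2.2.1).symm⟩

theorem x_E : φ x ∈ 𝓝(EE φ) := by
  rw [mem_norm_iff_cj, cj_V4, ← map_inv, ← map_mul, ← map_mul, ← map_mul, ← map_mul, k2.2.2.2.2.2.1, map_mul φ t]
  exact V4_rot (φ t) (φ t1)

theorem Cy.cyc (c : Cy φ r) : Cyc r (φ z) (φ s) := ⟨c.rz, c.rs.trans (cz φ s)⟩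

theorem Rho.cE (c : Rho φ r) : r ∈ 𝓒(EE φ) := by
  rw [cent_V4]
  refine ⟨mem_cent1.2 c.rt, mem_cent1.2 ?_⟩
  simp only [t1, map_mul, map_inv]
  exact ((show Commute r (φ x) from c.rx).mul_right c.rt).mul_right (show Commute r (φ x) from c.rx).inv_right

namespace Ch

variable (h : Ch φ)
include h

theorem ord {m : M} (h1 : m * m = 1) (h2 : m ≠ 1) : orderOf (φ m) = 2 :=
  ord_two (by rw [← map_mul, h1, map_one]) (mt h.eq1.1 h2)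

theorem fourV : Four (φ z) (φ s) :=
  ⟨h.ord k0.1 k0.2.2.2.2.2.2.1, h.ord k0.2.1 k0.2.2.2.2.2.2.2.1, (cz φ s).symm,
    fun e => k0.2.2.2.2.2.2.2.2.2.2.2.2 (h.inj e).symm⟩

theorem fourE : Four (φ t) (φ t1) :=
  ⟨h.ord k0.2.2.2.1 k0.2.2.2.2.2.2.2.2.2.1, h.ord k2.1 k2.2.1, cm φ k2.2.2.1, fun e => k2.2.2.2.1 (h.inj e)⟩

theorem VE {a : G} (h1 : a ∈ VV φ) (h2 : a ∈ EE φ) : a = 1 := by
  by_contra a1
  have := k2.2.2.2.2.2.2.1
  simp only [List.forall_mem_cons] at this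
  obtain ⟨⟨a, b, c, -⟩, ⟨d, e, f, -⟩, ⟨g, i, j, -⟩, -⟩ := this
  rcases h.fourV.cases h1 a1 with rfl | rfl | rfl <;> rcases h.fourE.cases h2 a1 with e1 | e1 | e1 <;>
    simp only [← map_mul, h.inj.eq_iff] at e1 <;> contradiction

theorem memA (hg : g ∈ AA φ) : ∃ m, φ m = g ∧ m * t = t * m := by
  obtain ⟨m, rfl⟩ := h.sur g (mem_cent1.1 hg.1)
  exact ⟨m, rfl, h.inj (by rw [map_mul, map_mul, mem_cent1.1 hg.2])⟩

theorem sqA : ∀ g ∈ AA φ, g * g = 1 := fun g hg => by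
  obtain ⟨m, rfl, e⟩ := h.memA hg
  rw [← map_mul, (m2 m e).1, map_one]

theorem A_eq : VV φ ⊔ EE φ = AA φ := by
  refine le_antisymm (sup_le V_le E_le) fun g hg => ?_
  obtain ⟨m, rfl, e⟩ := h.memA hg
  obtain ⟨f, hf, hv⟩ := (m2 m e).2.2.2
  refine (mul_mem_cancel_right (mem_sup_right (show φ f ∈ EE φ from ?_))).1 (mem_sup_left (map_mul φ m f ▸ memV hv))
  simp only [List.mem_cons, List.not_mem_nil, or_false] at hf
  rcases hf with rfl | rfl | rfl | rfl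
  exacts [by simp, left_mem_V4 _ _, right_mem_V4 _ _, map_mul φ t t1 ▸ mul_mem_V4 _ _]

theorem rA (c : Rho φ r) : r ∈ 𝓝(AA φ) := h.A_eq ▸ mem_norm_sup c.cyc.norm (mem_norm_of_cent c.cE)

theorem trV (c : Cy φ r) {v : G} (hv : v ∈ VV φ) (v1 : v ≠ 1) : ∃ k ∈ zpowers r, k * φ z * k⁻¹ = v := by
  rcases h.fourV.cases hv v1 with rfl | rfl | rfl
  · exact ⟨1, one_mem _, by group⟩
  · exact ⟨r, mem_zpowers r, c.rz⟩
  · exact ⟨r * r, mul_mem (mem_zpowers r) (mem_zpowers r), by rw [← c.cyc.bc, ← c.rz]; group⟩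

theorem CV (c : Rho φ r) {v : G} (hv : v ∈ VV φ) (v1 : v ≠ 1) : 𝓒₁(φ t) ⊓ 𝓒₁(v) ≤ AA φ := fun g hg => by
  obtain ⟨k, hk, rfl⟩ := h.trV c.toCy hv v1
  rw [← cj_of_mem_norm (zpowers_le.2 (h.rA c) hk), cj_inf, cj_cent1, cj_cent1,
    conj_eq_of_cent (zpowers_le.2 (mem_cent1.2 c.rt) hk)]
  exact ⟨hg.2, hg.1⟩

variable (hn : ¬ IsConj (φ z) (φ t))
include hn

theorem zA (hg : g ∈ AA φ) (e : IsConj (φ z) g) : g ∈ VV φ := by
  obtain ⟨m, rfl, e1⟩ := h.memA hg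
  refine memV ((m2 m e1).2.1.resolve_right fun e2 => hn (e.trans (isConj_iff.2 ⟨φ (K m), ?_⟩)))
  rw [← e2]; simp

theorem intoA (c : Rho φ r) (hg : g ∈ 𝓒₁(φ t)) (e : g * φ z * g⁻¹ ∈ AA φ) : g ∈ zpowers r ⊔ AA φ := by
  obtain ⟨k, hk, e1⟩ := h.trV c.toCy (h.zA hn e (isConj_iff.2 ⟨g, rfl⟩)) (mt conj_eq_one_iff.1 h.fourV.a1)
  refine (Subgroup.mul_mem_cancel_left _ (mem_sup_left (T := AA φ) (inv_mem hk))).1 (mem_sup_right (mem_inf.2 ⟨mem_cent1_of_conj ?_,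
    mul_mem (inv_mem (zpowers_le.2 (mem_cent1.2 c.rt) hk)) hg⟩))
  calc _ = k⁻¹ * (g * φ z * g⁻¹) * k := by group
    _ = _ := by rw [← e1]; group

theorem sylA (c : Rho φ r) : Syl 2 (AA φ) 𝓒₁(φ t) := by
  refine Hall.syl_of_norm_le Nat.prime_two (hall_sup_normal' (A := zpowers r) ?_ (zpowers_le.2 (h.rA c))
    (CA.Gold.pi2_of_sq h.sqA)) inf_le_right fun g hg =>
      h.intoA hn c hg.1 (conj_mem_of_mem_norm hg.2 (V_le (left_mem_V4 _ _)))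
  exact od_zp (Odd.of_dvd_nat (by decide : Odd 3) (orderOf_dvd_of_pow_eq_one c.r3))

theorem cenE (c : Rho φ r) : 𝓒₁(φ t) ≤ 𝓒(EE φ) := by
  have hS := h.sylA hn c
  have t1A : φ t1 ∈ AA φ := E_le (right_mem_V4 _ _)
  have h1 := CA.Gold.zstar hS t1A h.fourE.bb fun g hg e => by
    obtain ⟨n, hn', d, hd, rfl⟩ := burnside_fusion Nat.prime_two hS (X := zpowers (φ t1))
      (by rw [cent_zpowers]; exact CA.Gold.cent1_of_sq h.sqA t1A) hg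
      (by rw [cj_zpowers, cent_zpowers]; exact CA.Gold.cent1_of_sq h.sqA e)
    refine conj_eq_of_cent (mul_mem (sup_le (zpowers_le.2 (cent_le_cent1 (right_mem_V4 _ _) c.cE))
      (CA.Gold.cent1_of_sq h.sqA t1A)
      (h.intoA hn c hn'.1 (conj_mem_of_mem_norm hn'.2 (V_le (left_mem_V4 _ _))))) ?_)
    exact cent_zpowers (φ t1) ▸ hd.2
  have h2 : 𝓞₂'(𝓒₁(φ t)) ≤ ⊥ := h.fourV.gen' (od_core _) ((V_le.trans inf_le_right).trans (le_norm_core _ _))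
    fun v hv v2 g hg => (od_core _).eq_one hg.1 (h.sqA g (h.CV c hv (ne_one_of_ord v2) ⟨core_le _ _ hg.1, hg.2⟩))
  rw [le_bot_iff.1 h2, bot_sup_eq] at h1
  rw [cent_V4]
  exact h1.ge

theorem not_normA (c : Rho φ r) : ¬ 𝓒₁(φ t) ≤ 𝓝(AA φ) := fun hN => by
  have hD : ∀ i ∈ 𝓒₁(φ t), i * i = 1 → i ∈ AA φ := fun i hi i2 =>
    (h.sylA hn c).le_of_normal hN (pi2_zp i2) (zpowers_le.2 hi) (mem_zpowers i)
  have key : ∀ y, IsConj (φ z) y → ∃ v ∈ VV φ, v ≠ 1 ∧ y * v = v * y := fun y hy => by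
    have y2 : y * y = 1 := by
      obtain ⟨g, rfl⟩ := isConj_iff.1 hy
      rw [conj_mul, zz]; group
    obtain ⟨i, i2, e1, e2⟩ := exists_mid y2 (tt φ) fun e => hn (hy.trans e)
    obtain ⟨m, rfl, e3⟩ := h.memA (hD i (mem_cent1.2 e2) (sq_of_ord i2))
    rcases (m2 m e3).2.1 with e | e
    · exact ⟨_, memV e, ne_one_of_ord i2, e1.symm⟩
    · refine ⟨_, left_mem_V4 _ _, h.fourV.a1, ?_⟩
      have := mem_cent1.1 (hD (φ (K m) * y * (φ (K m))⁻¹) (mem_cent1.2 (by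
        rw [← e, map_mul, map_mul, map_inv]; exact conj_comm _ e1.symm)) (by rw [conj_mul, y2]; group)).1
      rw [← conj_of_comm (cz φ (K m)), conj_mul, conj_mul] at this
      exact mul_left_cancel (mul_right_cancel this)
  have us : φ u * φ s * (φ u)⁻¹ = φ w := by rw [← k2.2.2.2.2.2.2.2.1]; simp
  obtain ⟨v, hv, v1, e⟩ := key ((r * φ u)⁻¹ * φ w * (r * φ u)⁻¹⁻¹)
    ((h.fus.trans (isConj_iff.2 ⟨_, us⟩)).trans (isConj_iff.2 ⟨_, rfl⟩))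
  have e1 : φ w * (r * (φ u * v * (φ u)⁻¹) * r⁻¹) = r * (φ u * v * (φ u)⁻¹) * r⁻¹ * φ w := by
    calc _ = r * φ u * ((r * φ u)⁻¹ * φ w * (r * φ u)⁻¹⁻¹ * v) * (r * φ u)⁻¹ := by group
      _ = _ := by rw [e]; group
  have k : ∀ a ∈ [w, w * z], φ w * (r * φ a * r⁻¹) ≠ r * φ a * r⁻¹ * φ w := fun a ha e => by
    have h1 : Commute (r * φ a * r⁻¹) (φ s) := c.rz ▸ conj_comm r (cz φ a)
    have h2 : Commute (r * φ a * r⁻¹) (φ s * φ w) := h1.mul_right e.symm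
    have h3 := (h2.mul_right h2).eq
    rw [← map_mul, ← map_mul, k2.2.2.2.2.2.2.2.2.1, ← c.rsz, conj_mul, conj_mul, ← map_mul, ← map_mul,
      ← map_mul] at h3
    exact k2.2.2.2.2.2.2.2.2.2.2.2 a ha (h.inj (mul_left_cancel (mul_right_cancel h3)))
  rcases h.fourV.cases hv v1 with rfl | rfl | rfl
  · rw [conj_of_comm (cz φ u), c.rz, ← map_mul, ← map_mul] at e1
    exact k2.2.2.2.2.2.2.2.2.2.1 (h.inj e1)
  · exact k w (by simp) (us ▸ e1)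
  · rw [← cz, ← map_mul, ← map_inv, ← map_mul, ← map_mul, k2.2.2.2.2.2.2.2.2.2.2.1] at e1
    exact k _ (by simp) e1

end Ch

/-- the complement `L ≅ A₅` of `E` in the centralizer of `t` -/
structure Sig (φ : M →* G) (r : G) (ψ : A →* G) : Prop where
  pt : ψ t0 = φ z
  px : ψ x0 = r
  ct : ∀ c, ψ c ∈ 𝓒₁(φ t)
  cx : ∀ c, ψ c * φ x = φ x * ψ c
  sur : ∀ g ∈ 𝓒₁(φ t), ∃ e ∈ EE φ, ∃ c, g = e * ψ c
  dis : ∀ c, ψ c ∈ EE φ → c = 1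

theorem Ch.exists_sig (h : Ch φ) (hn : ¬ IsConj (φ z) (φ t)) (c : Rho φ r) : ∃ ψ, Sig φ r ψ := by
  have hE := h.cenE hn c
  have hE' : EE φ ≤ 𝓒₁(φ t) := E_le.trans inf_le_right
  haveI : ((EE φ).subgroupOf 𝓒₁(φ t)).Normal := normal_subgroupOf_of_le_normalizer (norm_of_cent hE)
  let π := QuotientGroup.mk' ((EE φ).subgroupOf 𝓒₁(φ t))
  have π1 : ∀ g, π g = 1 ↔ g.1 ∈ EE φ := fun g => QuotientGroup.eq_one_iff g
  have π2 : ∀ g g', π g = π g' → ∃ e ∈ EE φ, g.1 = e * g'.1 := fun g g' e =>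
    ⟨_, (π1 (g * g'⁻¹)).1 (by rw [map_mul, map_inv, e, mul_inv_cancel]), by simp⟩
  have ec : ∀ {e g}, e ∈ EE φ → g ∈ 𝓒₁(φ t) → Commute e g := fun he hg => mem_cent.1 (hE hg) _ he
  let z' : 𝓒₁(φ t) := ⟨φ z, (V_le (left_mem_V4 _ _)).2⟩
  let s' : 𝓒₁(φ t) := ⟨φ s, (V_le (right_mem_V4 _ _)).2⟩
  let r' : 𝓒₁(φ t) := ⟨r, mem_cent1.2 c.rt⟩
  have hV : ∀ g : 𝓒₁(φ t), g.1 ∈ AA φ ↔ π g ∈ V4 (π z') (π s') := fun g => by
    have e : V4 (π z') (π s') = (V4 z' s').map π := by simp [V4, Subgroup.map_sup]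
    rw [e, CA.JR.V4_sub, ← mem_comap, comap_map_eq, QuotientGroup.ker_mk', ← h.A_eq,
      ← subgroupOf_sup (V_le.trans inf_le_right) hE', mem_subgroupOf]
  have o2 : ∀ g : 𝓒₁(φ t), g.1 ∈ VV φ → g.1 ≠ 1 → orderOf (π g) = 2 := fun g hg g1 =>
    ord_two (by rw [← map_mul, π1, coe_mul, h.fourV.sq hg]; exact one_mem _) fun e => g1 (h.VE hg ((π1 g).1 e))
  have hf : Four (π z') (π s') := ⟨o2 _ (left_mem_V4 _ _) h.fourV.a1, o2 _ (right_mem_V4 _ _) h.fourV.b1,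
    by rw [← map_mul, ← map_mul]; exact congrArg π (Subtype.ext h.fourV.comm), fun e =>
      ne_one_of_ord (o2 (z' * s') (mul_mem_V4 _ _) (ne_one_of_ord h.fourV.oc)) (by
        rw [map_mul, e, sq_of_ord (o2 _ (right_mem_V4 _ _) h.fourV.b1)])⟩
  rcases klein1 hf (fun v hv v1 g hg => by
    obtain ⟨g, rfl⟩ := QuotientGroup.mk'_surjective _ g
    obtain ⟨v, vV, rfl⟩ : ∃ v' : 𝓒₁(φ t), v'.1 ∈ VV φ ∧ π v' = v := by
      rcases hf.cases hv v1 with rfl | rfl | rfl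
      exacts [⟨z', left_mem_V4 _ _, rfl⟩, ⟨s', right_mem_V4 _ _, rfl⟩, ⟨z' * s', mul_mem_V4 _ _, map_mul _ _ _⟩]
    have v1' : v.1 ≠ 1 := fun e => v1 ((π1 v).2 (e ▸ one_mem _))
    obtain ⟨e, he, e1⟩ := π2 (g * v * g⁻¹) v (by rw [map_mul, map_mul, map_inv]; exact conj_eq_of_cent hg)
    obtain ⟨k, -, e2⟩ := h.trV c.toCy vV v1'
    have h1 : e * v.1 ∈ VV φ := h.zA hn (mul_mem (E_le he) (V_le vV))
      ((isConj_iff.2 ⟨k, e2⟩).trans (isConj_iff.2 ⟨g.1, e1⟩))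
    rw [h.VE ((mul_mem_cancel_right vV).1 h1) he, one_mul] at e1
    exact (hV g).1 (h.CV c vV v1' ⟨g.2, mem_cent1_of_conj e1⟩)) with e | ⟨hs, h60⟩
  · refine absurd (fun g hg => sup_le (zpowers_le.2 (h.rA c)) (le_norm_self _) (h.intoA hn c hg ?_)) (h.not_normA hn c)
    refine (hV (⟨g, hg⟩ * z' * ⟨g, hg⟩⁻¹)).2 ?_
    rw [map_mul, map_mul, map_inv]
    exact conj_mem_of_mem_norm (e.ge trivial) (left_mem_V4 _ _)
  obtain ⟨f⟩ := CA.H28Simp.simple_60 h60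
  let θ : 𝓒₁(φ t) →* A := (f.trans eqA.symm).toMonoidHom.comp π
  have θs : Function.Surjective θ := (f.trans eqA.symm).surjective.comp (QuotientGroup.mk'_surjective _)
  have θ1 : ∀ g, θ g = 1 ↔ g.1 ∈ EE φ := fun g => (map_eq_one_iff _ (f.trans eqA.symm).injective).trans (π1 g)
  have θ2 : ∀ g g', θ g = θ g' → ∃ e ∈ EE φ, g.1 = e * g'.1 := fun g g' e => π2 g g' ((f.trans eqA.symm).injective e)
  have zr : (φ z * r) ^ 3 = 1 := by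
    calc _ = φ z * (r * φ z * r⁻¹) * (r * (r * φ z * r⁻¹) * r⁻¹) * r ^ 3 := by
          simp only [pow_succ, pow_zero, one_mul]; group
      _ = 1 := by rw [c.rz, c.cyc.bc, c.r3, mul_one, h.fourV.cc]
  have z1 : θ z' ≠ 1 := fun e => h.fourV.a1 (h.VE (left_mem_V4 _ _) ((θ1 _).1 e))
  have z2 : θ z' * θ z' = 1 := by rw [← map_mul, ← map_one θ]; exact congrArg θ (Subtype.ext (zz φ))
  obtain ⟨d, d1, d2, d3⟩ := a1 (θ z') (θ r') z2 z1 (by rw [← map_pow, ← map_one θ]; exact congrArg θ (Subtype.ext c.r3))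
    (by rw [← map_mul, ← map_pow, ← map_one θ]; exact congrArg θ (Subtype.ext zr))
    fun e => c.cyc.not_cent h.fourV (E_le ((θ1 _).1 e)).1
  obtain ⟨σ, rfl⟩ := θs d
  have σ2 : σ.1 * σ.1 = 1 := by
    obtain ⟨k1, e1⟩ := (a3 _ d1).resolve_left fun e => z1 (by
      rwa [e, mul_one, pow_succ, pow_two, z2, one_mul] at d3)
    obtain ⟨k2, e2⟩ := (a3 _ z2).resolve_left z1
    obtain ⟨k, e3⟩ := θs (k1⁻¹ * k2)
    obtain ⟨e, he, e4⟩ := θ2 σ (k * z' * k⁻¹) (by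
      rw [map_mul, map_mul, map_inv, e3]
      calc _ = k1⁻¹ * (k1 * θ σ * k1⁻¹) * k1 := by group
        _ = _ := by rw [e1, ← e2]; group)
    rw [e4, (ec he (k * z' * k⁻¹).2).symm.mul_mul_mul_comm, h.fourE.sq he, one_mul]
    show k.1 * φ z * k.1⁻¹ * (k.1 * φ z * k.1⁻¹) = 1
    rw [conj_mul, zz]; group
  have e3 : ∀ {e}, e ∈ EE φ → e ^ 3 = e := fun he => by rw [pow_succ, pow_two, h.fourE.sq he, one_mul]
  have σr : σ.1 * r * (σ.1 * r) = 1 := by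
    have h1 : σ.1 * r * (σ.1 * r) ∈ EE φ := (θ1 (σ * r' * (σ * r'))).1 (by simpa only [map_mul] using d2)
    have h2 : σ.1 * r * σ.1⁻¹ = σ.1 * r * (σ.1 * r) * r⁻¹ := by rw [inv_of_sq σ2]; group
    have h3 : (σ.1 * r * σ.1⁻¹) ^ 3 = 1 := by rw [conj_pow, c.r3]; group
    rwa [h2, (ec h1 (inv_mem r'.2)).mul_pow, inv_pow, c.r3, e3 h1, inv_one, mul_one] at h3
  have he : (φ z * σ.1) ^ 3 ∈ EE φ := (θ1 ((z' * σ) ^ 3)).1 (by simpa only [map_mul, map_pow] using d3)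
  generalize hy : (φ z * σ.1) ^ 3 = y at he
  obtain ⟨ψ, p1, p2, p3⟩ := homA (a := φ z) (r := r) (c := y * σ.1) (zz φ) c.r3
    (by rw [(ec he σ.2).symm.mul_mul_mul_comm, h.fourE.sq he, σ2, one_mul]) zr
    (by rw [mul_assoc y, (ec he (mul_mem σ.2 r'.2)).symm.mul_mul_mul_comm, h.fourE.sq he, σr, one_mul])
    (by rw [← mul_assoc, ← (ec he z'.2).eq, mul_assoc, (ec he (mul_mem z'.2 σ.2)).mul_pow, hy, e3 he, h.fourE.sq he])
  have ct : ∀ c, ψ c ∈ 𝓒₁(φ t) := fun d => (topA (K := 𝓒₁(φ t).comap ψ) (by rw [mem_comap, p1]; exact z'.2)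
    (by rw [mem_comap, p2]; exact r'.2) (by rw [mem_comap, p3]; exact mul_mem (hE' he) σ.2)).ge trivial
  let η : A →* A := θ.comp (ψ.codRestrict _ ct)
  have ηi : Function.Injective η := inj_A fun e => h.fourV.a1 (h.VE (left_mem_V4 _ _) (p1 ▸ (θ1 _).1 e))
  have dis : ∀ c, ψ c ∈ EE φ → c = 1 := fun d hd => ηi (((θ1 _).2 hd).trans (map_one η).symm)
  have sur : ∀ g ∈ 𝓒₁(φ t), ∃ e ∈ EE φ, ∃ c, g = e * ψ c := fun g hg => by
    obtain ⟨d, e⟩ := Finite.surjective_of_injective ηi (θ ⟨g, hg⟩)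
    obtain ⟨e, he, e1⟩ := θ2 _ _ e.symm
    exact ⟨e, he, d, e1⟩
  refine ⟨ψ, p1, p2, ct, fun d => mem_cent1.1 ((topA (K := 𝓒₁(φ x).comap ψ)
    (by rw [mem_comap, p1]; exact mem_cent1.2 (cz φ x).symm) (by rw [mem_comap, p2]; exact mem_cent1.2 c.rx)
    ?_).ge trivial), sur, dis⟩
  obtain ⟨e, he', d, e1⟩ := sur (φ x * ψ u0 * (φ x)⁻¹)
    (cent_le_cent1 (left_mem_V4 _ _) (conj_mem_of_mem_norm (mem_norm_cent x_E) (hE (ct u0))))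
  have q : ∀ a b : A, φ x * ψ a * (φ x)⁻¹ = ψ a → φ x * ψ (a * u0 * b) * (φ x)⁻¹ = φ x * ψ a * (φ x)⁻¹ *
      (φ x * ψ u0 * (φ x)⁻¹) * (φ x * ψ b * (φ x)⁻¹) := fun a b _ => by simp only [map_mul]; group
  have x1 : φ x * ψ t0 * (φ x)⁻¹ = ψ t0 := by rw [p1, conj_of_comm (cz φ x)]
  have x2 : φ x * ψ x0 * (φ x)⁻¹ = ψ x0 := by rw [p2, conj_of_comm c.rx.symm]
  have q1 : e * ψ ((t0 * d) ^ 3) = 1 := by
    have : (φ x * ψ (t0 * u0) * (φ x)⁻¹) ^ 3 = 1 := by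
      rw [conj_pow, ← map_pow, p0.2.2.2.2.2.2.2.2.2.2.2.2.1]; simp
    rwa [map_mul, ← conj_mul, x1, e1, ← mul_assoc, ← (ec he' (ct _)).eq, mul_assoc, ← map_mul,
      (ec he' (ct _)).mul_pow, e3 he', ← map_pow] at this
  have q2 := dis _ ((mul_mem_cancel_left he').1 (q1 ▸ one_mem _))
  rw [q2, map_one, mul_one] at q1
  rw [q1, one_mul] at e1
  have inj : Function.Injective ψ := inj_A (p1 ▸ h.fourV.a1)
  have := a2 d (inj (by rw [map_mul, ← e1, conj_mul, ← map_mul, p0.2.2.2.2.2.2.2.2.2.2.2.2.2.2.1]; simp))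
    (inj (by
      rw [map_mul, map_mul, ← e1, ← x2, conj_mul, conj_mul, ← map_mul, ← map_mul,
        show u0 * x0 * (u0 * x0) = 1 by decide +kernel]; simp)) q2
  rw [this] at e1
  exact mem_cent1.2 (mul_inv_eq_iff_eq_mul.1 e1).symm

end CA.HJ
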