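import Cfsg.Agent.Lib.HJ.HJRel
set_option autoImplicit false
set_option linter.all false
set_option maxRecDepth 100000
universe u
namespace CA.HJTC
open CA.CNet CA.CWord CA.CLevel CA.CSimple CA.CPoint CA.CTodd CA.HJRel
noncomputable section
namespace a
noncomputable def A_0 : List (ℕ) := [nat_lit 0x1911d8e20ec74c76302381731c0d88e4750723163a1741888a0c0428602722211a110ca09c2e84e3343214c1a8a10d45b06c37436149168750b4548521e22a0da150cc8d04a866192260f40c8310643e83c1881f08a0f8de0b05686e2382f0a2118688a02b0481a6240b30d0588943b0560f81c1030e04d880264420c8110290685583414c2a0f6120430781603820c1c0761000a0300a02416c120460b002018ed8c470c723962e1d11a8c48905c4403042f1120a09d0986484a354341b2158b50b0528362a8341a2140ce0984c82e194180f20887c8b05883a3722f17a1088c860308182881b1230b06a0344b02e1680a1590e07184c410242181409c0406c8383a420142090b90584481c184080d60a0a90902880c24c100f2060410103981c2100c078010320281500412c080b8030240000d0080480001200]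
noncomputable def A : List (List (ℕ)) := [A_0]
noncomputable def K_0 : List (ℕ) := [nat_lit 0x9d4de7139924be612b954c66d3491cd65d258dcb25b20994a63b1f914ce31199349e2b1a8b47a512189c721f148bc3625098642a21118243a0b0b8441e0d03814060000]
noncomputable def K : List (List (ℕ)) := [K_0]
noncomputable def R_0 : List (Rule) := [Rule.mk (nat_lit 2) (nat_lit 23) (Steps.bwd (nat_lit 2) (Steps.bwd (nat_lit 2) Steps.nil)) (nat_lit 2) (nat_lit 0),
  Rule.mk (nat_lit 3) (nat_lit 32) (Steps.bwd (nat_lit 4) (Steps.fwd (nat_lit 1024) (Steps.fwd (nat_lit 2048) Steps.nil))) (nat_lit 9) (nat_lit 1),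
  Rule.mk (nat_lit 3) (nat_lit 23) (Steps.bwd (nat_lit 3) (Steps.bwd (nat_lit 3) Steps.nil)) (nat_lit 3) (nat_lit 0),
  Rule.mk (nat_lit 4) (nat_lit 32) (Steps.bwd (nat_lit 3) (Steps.bwd (nat_lit 4) (Steps.fwd (nat_lit 1024) Steps.nil))) (nat_lit 9) (nat_lit 0),
  Rule.mk (nat_lit 3) (nat_lit 50) (Steps.bwd (nat_lit 1) (Steps.fwd (nat_lit 1024) (Steps.bwd (nat_lit 1) (Steps.fwd (nat_lit 1024) (Steps.fwd (nat_lit 512) Steps.nil))))) (nat_lit 7) (nat_lit 1),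
  Rule.mk (nat_lit 3) (nat_lit 50) (Steps.bwd (nat_lit 1) (Steps.bwd (nat_lit 3) (Steps.bwd (nat_lit 1) (Steps.fwd (nat_lit 1024) (Steps.fwd (nat_lit 512) Steps.nil))))) (nat_lit 7) (nat_lit 1),
  Rule.mk (nat_lit 1) (nat_lit 50) (Steps.bwd (nat_lit 3) (Steps.bwd (nat_lit 1) (Steps.fwd (nat_lit 1024) (Steps.fwd (nat_lit 512) (Steps.fwd (nat_lit 1024) Steps.nil))))) (nat_lit 7) (nat_lit 0),
  Rule.mk (nat_lit 4) (nat_lit 50) (Steps.bwd (nat_lit 1) (Steps.bwd (nat_lit 4) (Steps.bwd (nat_lit 1) (Steps.fwd (nat_lit 2048) (Steps.fwd (nat_lit 512) Steps.nil))))) (nat_lit 10) (nat_lit 0),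
  Rule.mk (nat_lit 1) (nat_lit 50) (Steps.bwd (nat_lit 4) (Steps.bwd (nat_lit 1) (Steps.fwd (nat_lit 2048) (Steps.fwd (nat_lit 512) (Steps.fwd (nat_lit 2048) Steps.nil))))) (nat_lit 10) (nat_lit 1),
  Rule.mk (nat_lit 3) (nat_lit 32) (Steps.bwd (nat_lit 4) (Steps.bwd (nat_lit 3) (Steps.fwd (nat_lit 2048) Steps.nil))) (nat_lit 9) (nat_lit 1),
  Rule.mk (nat_lit 4) (nat_lit 32) (Steps.bwd (nat_lit 3) (Steps.bwd (nat_lit 4) (Steps.bwd (nat_lit 3) Steps.nil))) (nat_lit 9) (nat_lit 0),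
  Rule.mk (nat_lit 4) (nat_lit 50) (Steps.bwd (nat_lit 1) (Steps.fwd (nat_lit 2048) (Steps.bwd (nat_lit 1) (Steps.fwd (nat_lit 2048) (Steps.fwd (nat_lit 512) Steps.nil))))) (nat_lit 10) (nat_lit 0),
  Rule.mk (nat_lit 1) (nat_lit 50) (Steps.bwd (nat_lit 4) (Steps.bwd (nat_lit 1) (Steps.bwd (nat_lit 4) (Steps.fwd (nat_lit 512) (Steps.fwd (nat_lit 2048) Steps.nil))))) (nat_lit 10) (nat_lit 1),
  Rule.mk (nat_lit 1) (nat_lit 50) (Steps.bwd (nat_lit 4) (Steps.bwd (nat_lit 1) (Steps.fwd (nat_lit 2048) (Steps.bwd (nat_lit 1) (Steps.fwd (nat_lit 2048) Steps.nil))))) (nat_lit 10) (nat_lit 1),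
  Rule.mk (nat_lit 2) (nat_lit 50) (Steps.bwd (nat_lit 1) (Steps.bwd (nat_lit 2) (Steps.bwd (nat_lit 1) (Steps.fwd (nat_lit 1536) (Steps.fwd (nat_lit 512) Steps.nil))))) (nat_lit 6) (nat_lit 0),
  Rule.mk (nat_lit 4) (nat_lit 32) (Steps.bwd (nat_lit 2) (Steps.bwd (nat_lit 4) (Steps.bwd (nat_lit 2) Steps.nil))) (nat_lit 8) (nat_lit 1),
  Rule.mk (nat_lit 2) (nat_lit 50) (Steps.bwd (nat_lit 1) (Steps.bwd (nat_lit 2) (Steps.fwd (nat_lit 512) (Steps.fwd (nat_lit 1536) (Steps.fwd (nat_lit 512) Steps.nil))))) (nat_lit 6) (nat_lit 0),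
  Rule.mk (nat_lit 4) (nat_lit 50) (Steps.bwd (nat_lit 1) (Steps.fwd (nat_lit 2048) (Steps.bwd (nat_lit 1) (Steps.fwd (nat_lit 2048) (Steps.bwd (nat_lit 1) Steps.nil))))) (nat_lit 10) (nat_lit 0),
  Rule.mk (nat_lit 1) (nat_lit 50) (Steps.bwd (nat_lit 2) (Steps.bwd (nat_lit 1) (Steps.fwd (nat_lit 1536) (Steps.fwd (nat_lit 512) (Steps.bwd (nat_lit 2) Steps.nil))))) (nat_lit 6) (nat_lit 1),
  Rule.mk (nat_lit 2) (nat_lit 32) (Steps.bwd (nat_lit 4) (Steps.bwd (nat_lit 2) (Steps.fwd (nat_lit 2048) Steps.nil))) (nat_lit 8) (nat_lit 0),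
  Rule.mk (nat_lit 1) (nat_lit 50) (Steps.bwd (nat_lit 2) (Steps.fwd (nat_lit 512) (Steps.fwd (nat_lit 1536) (Steps.bwd (nat_lit 1) (Steps.bwd (nat_lit 2) Steps.nil))))) (nat_lit 6) (nat_lit 1),
  Rule.mk (nat_lit 2) (nat_lit 32) (Steps.bwd (nat_lit 4) (Steps.bwd (nat_lit 2) (Steps.bwd (nat_lit 4) Steps.nil))) (nat_lit 8) (nat_lit 0),
  Rule.mk (nat_lit 1) (nat_lit 50) (Steps.bwd (nat_lit 4) (Steps.fwd (nat_lit 512) (Steps.bwd (nat_lit 4) (Steps.fwd (nat_lit 512) (Steps.fwd (nat_lit 2048) Steps.nil))))) (nat_lit 10) (nat_lit 1),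
  Rule.mk (nat_lit 1) (nat_lit 50) (Steps.bwd (nat_lit 2) (Steps.fwd (nat_lit 512) (Steps.bwd (nat_lit 2) (Steps.bwd (nat_lit 1) (Steps.bwd (nat_lit 2) Steps.nil))))) (nat_lit 6) (nat_lit 1),
  Rule.mk (nat_lit 4) (nat_lit 32) (Steps.bwd (nat_lit 2) (Steps.fwd (nat_lit 2048) (Steps.bwd (nat_lit 2) Steps.nil))) (nat_lit 8) (nat_lit 1),
  Rule.mk (nat_lit 3) (nat_lit 50) (Steps.bwd (nat_lit 1) (Steps.fwd (nat_lit 1024) (Steps.fwd (nat_lit 512) (Steps.bwd (nat_lit 3) (Steps.fwd (nat_lit 512) Steps.nil))))) (nat_lit 7) (nat_lit 1),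
  Rule.mk (nat_lit 1) (nat_lit 50) (Steps.bwd (nat_lit 3) (Steps.bwd (nat_lit 1) (Steps.bwd (nat_lit 3) (Steps.fwd (nat_lit 512) (Steps.fwd (nat_lit 1024) Steps.nil))))) (nat_lit 7) (nat_lit 0),
  Rule.mk (nat_lit 1) (nat_lit 50) (Steps.bwd (nat_lit 3) (Steps.fwd (nat_lit 512) (Steps.fwd (nat_lit 1024) (Steps.bwd (nat_lit 1) (Steps.fwd (nat_lit 1024) Steps.nil))))) (nat_lit 7) (nat_lit 0),
  Rule.mk (nat_lit 4) (nat_lit 32) (Steps.bwd (nat_lit 3) (Steps.fwd (nat_lit 2048) (Steps.bwd (nat_lit 3) Steps.nil))) (nat_lit 9) (nat_lit 0),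
  Rule.mk (nat_lit 1) (nat_lit 50) (Steps.bwd (nat_lit 3) (Steps.bwd (nat_lit 1) (Steps.bwd (nat_lit 3) (Steps.bwd (nat_lit 1) (Steps.fwd (nat_lit 1024) Steps.nil))))) (nat_lit 7) (nat_lit 0)]
noncomputable def R : List (List (Rule)) := [R_0]
def LW : List Word := [[], [0], [2], [3], [4]]
def par : Par := ⟨9, 3, 12, 21, 511, 4095, 2097151⟩
theorem hpar : par.ok := by decide
theorem hR0_0 : lall (R) (fun l => lall l (ruleOK RA LW par)) = true := by decide +kernel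
theorem hR0 : lall (R) (fun l => lall l (ruleOK RA LW par)) = true := hR0_0
theorem hR : RulesOK RA LW par R := rulesOK_of rfl hR0
def cols : List (ℕ × ℕ) := [(512, 1), (1024, 3), (2048, 4)]
theorem hcols : lall cols (colOK RA LW par) = true := by decide +kernel
noncomputable def JS0 : List ℕ := [nat_lit 0x703108046211a80c660118c88816208c460f000206101c8e816311844003b18407c4d208c460f198281e3b18b8163418ac003018c87c3050c47e491d0c1a37219000031602068315800603190f060a188f4143418246c44238fc6a82011816381b1c003518d884391b8d4c001b0c6e412100c6c51d8e46e4000d8637000d84381b84783a1c10003718e0003710e4701,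
  nat_lit 0x8a282b90079e0101877d020e863f2783c023ae0e8723211584c3c1cec00011c2c721f0e82471a1c954be1d1c3004191ce492380808b02e2b8e26171b84023f1be47e3608286c1028e86d91d0d42020b8d720e1a040202048f06981e0cc201198408031a8046771f0cc6560003c1c0b19547e331950024a0f92065300808650]
theorem S0_c : blocks (facts 9 3 12 21 511 4095 2097151 9 511 5 31 A R 32) 32 JS0 314 = true := by decide +kernel
theorem S0 : On (Step.{u} RA LW par A) 314 378 :=
  steps_of_blocks hpar hR S0_c (by decide +kernel)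
theorem D0_c : allB (defOK 9 12 21 511 2097151 315 A K) 1 2 = true := by decide +kernel
theorem D0 : On (fun r => defOK par.W par.WL par.E par.mW par.mE 315 A K r = true) 256 384 :=
  On.of_allB D0_c
noncomputable def JW0 : List ℕ := [nat_lit 0x9c320bcb52785008022074a02403c2ec92160522dc881344e2c4190781c314ae188c317c8a110462a43f1083516caa32c5c304be2d09a324b9154510f8400f445290b02e8a233cbd15c5914c6935cc4238cd31c6118cc236cd6190a6344e31ccca1746d37470384c82e0d5198652c8d33b47b338bc1acd91e0eb330c61bcdf39475340e21d8dc1c4e619cef1f4d23b07e360793c0de390e83d4ee3c8f4,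
  nat_lit 0x20810181302c87048850400920c0c1244a2b42a0b011098282189c250382843a0e4210900705815224180680d1308c2b01703c8b0ac300b848260a8168962fc9d0d834]
theorem W0_c : blocks (rows 9 3 12 21 511 4095 2097151 10 1023 30 A 378 60 cols 42) 42 JW0 0 = true := by decide +kernel
theorem W0 : On (Row.{u} RA LW par A 378 60 cols) 0 84 :=
  rows_of_blocks hpar (by decide) hcols W0_c (by decide +kernel)
theorem idx : Idx.{u} RA [[0], [2], [4]] [] 60 :=
  idx_of_cert hpar hR (K := K) (by decide +kernel) (T := 315) (T' := 384) (by decide) D0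
    (subs := []) (by decide +kernel) (T1 := 314) (by decide) (N := 378) S0
    (by decide) (n' := 84) (by decide) W0 (by decide +kernel) (by decide +kernel)
end a
namespace h
noncomputable def A_0 : List (ℕ) := [nat_lit 0xe98483a41b0b88743ee1d0ba8743c81d0bb02c34e1709a05c286170d287c30c1a07a0683861a0890683e41e0b307c3241f0a10343c2140e385036a140b20503cc130e28783261e0d90483821b0e30542081c08083c2ce100c28401241009885816a1609985814a1306184c2aa0f0a98602a2180538541c61505b8601680a0590280c40b0cb03032e120ca04822a190888341cc1104a04412c120330340ca0c0388301ca090720380ce0e03201804e0801b02008a080410200880700b0100840403901c04a0701a8140a4050288140680301900c062030110080280200980402201002000004000008003ac100b98343421f0fa06c28c0a0f386c36c0f0e10442040f0b183026e0f0790242a8180c18381620a0510183221208b83424a0d06a03018e090488101c2080308081080502381c0ec0502b80406e0001300002a00]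
noncomputable def A : List (List (ℕ)) := [A_0]
noncomputable def K_0 : List (ℕ) := [nat_lit 0x8dc663d178c4721d118ec56251a8a4321b1689c22170a8843e13068241e0705814060000]
noncomputable def K : List (List (ℕ)) := [K_0]
noncomputable def R_0 : List (Rule) := [Rule.mk (nat_lit 1) (nat_lit 34) (Steps.bwd (nat_lit 5) (Steps.fwd (nat_lit 512) (Steps.fwd (nat_lit 2560) Steps.nil))) (nat_lit 18) (nat_lit 1),
  Rule.mk (nat_lit 3) (nat_lit 34) (Steps.bwd (nat_lit 5) (Steps.bwd (nat_lit 2) (Steps.fwd (nat_lit 2560) Steps.nil))) (nat_lit 20) (nat_lit 3),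
  Rule.mk (nat_lit 4) (nat_lit 34) (Steps.bwd (nat_lit 6) (Steps.fwd (nat_lit 2048) (Steps.fwd (nat_lit 2560) Steps.nil))) (nat_lit 22) (nat_lit 3),
  Rule.mk (nat_lit 2) (nat_lit 34) (Steps.fwd (nat_lit 2048) (Steps.fwd (nat_lit 1536) (Steps.bwd (nat_lit 4) Steps.nil))) (nat_lit 14) (nat_lit 0),
  Rule.mk (nat_lit 1) (nat_lit 34) (Steps.bwd (nat_lit 7) (Steps.fwd (nat_lit 512) (Steps.fwd (nat_lit 3584) Steps.nil))) (nat_lit 26) (nat_lit 0),
  Rule.mk (nat_lit 2) (nat_lit 34) (Steps.bwd (nat_lit 7) (Steps.fwd (nat_lit 1024) (Steps.fwd (nat_lit 3584) Steps.nil))) (nat_lit 28) (nat_lit 2),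
  Rule.mk (nat_lit 4) (nat_lit 34) (Steps.bwd (nat_lit 7) (Steps.fwd (nat_lit 2048) (Steps.fwd (nat_lit 3584) Steps.nil))) (nat_lit 30) (nat_lit 0),
  Rule.mk (nat_lit 2) (nat_lit 34) (Steps.bwd (nat_lit 7) (Steps.bwd (nat_lit 3) (Steps.fwd (nat_lit 3584) Steps.nil))) (nat_lit 28) (nat_lit 2),
  Rule.mk (nat_lit 5) (nat_lit 34) (Steps.bwd (nat_lit 7) (Steps.bwd (nat_lit 5) (Steps.fwd (nat_lit 3584) Steps.nil))) (nat_lit 32) (nat_lit 0),
  Rule.mk (nat_lit 5) (nat_lit 43) (Steps.bwd (nat_lit 6) (Steps.fwd (nat_lit 2560) (Steps.bwd (nat_lit 7) (Steps.fwd (nat_lit 3072) Steps.nil)))) (nat_lit 24) (nat_lit 2),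
  Rule.mk (nat_lit 2) (nat_lit 34) (Steps.fwd (nat_lit 2560) (Steps.fwd (nat_lit 1024) (Steps.bwd (nat_lit 5) Steps.nil))) (nat_lit 20) (nat_lit 1),
  Rule.mk (nat_lit 6) (nat_lit 43) (Steps.bwd (nat_lit 7) (Steps.fwd (nat_lit 2560) (Steps.bwd (nat_lit 6) (Steps.fwd (nat_lit 2560) Steps.nil)))) (nat_lit 25) (nat_lit 0),
  Rule.mk (nat_lit 4) (nat_lit 34) (Steps.fwd (nat_lit 2560) (Steps.fwd (nat_lit 2048) (Steps.bwd (nat_lit 6) Steps.nil))) (nat_lit 22) (nat_lit 1),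
  Rule.mk (nat_lit 2) (nat_lit 34) (Steps.bwd (nat_lit 4) (Steps.bwd (nat_lit 2) (Steps.fwd (nat_lit 2048) Steps.nil))) (nat_lit 14) (nat_lit 0),
  Rule.mk (nat_lit 5) (nat_lit 34) (Steps.bwd (nat_lit 4) (Steps.fwd (nat_lit 3072) (Steps.fwd (nat_lit 2048) Steps.nil))) (nat_lit 22) (nat_lit 2),
  Rule.mk (nat_lit 6) (nat_lit 34) (Steps.bwd (nat_lit 4) (Steps.fwd (nat_lit 2560) (Steps.fwd (nat_lit 2048) Steps.nil))) (nat_lit 22) (nat_lit 0),
  Rule.mk (nat_lit 7) (nat_lit 34) (Steps.bwd (nat_lit 4) (Steps.bwd (nat_lit 7) (Steps.bwd (nat_lit 4) Steps.nil))) (nat_lit 30) (nat_lit 1),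
  Rule.mk (nat_lit 4) (nat_lit 52) (Steps.bwd (nat_lit 1) (Steps.fwd (nat_lit 2048) (Steps.fwd (nat_lit 512) (Steps.bwd (nat_lit 4) (Steps.fwd (nat_lit 512) Steps.nil))))) (nat_lit 16) (nat_lit 0),
  Rule.mk (nat_lit 7) (nat_lit 34) (Steps.bwd (nat_lit 1) (Steps.fwd (nat_lit 3584) (Steps.fwd (nat_lit 512) Steps.nil))) (nat_lit 26) (nat_lit 1),
  Rule.mk (nat_lit 4) (nat_lit 52) (Steps.bwd (nat_lit 1) (Steps.bwd (nat_lit 4) (Steps.fwd (nat_lit 512) (Steps.fwd (nat_lit 2048) (Steps.fwd (nat_lit 512) Steps.nil))))) (nat_lit 16) (nat_lit 0),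
  Rule.mk (nat_lit 5) (nat_lit 34) (Steps.bwd (nat_lit 1) (Steps.bwd (nat_lit 5) (Steps.fwd (nat_lit 512) Steps.nil))) (nat_lit 18) (nat_lit 0),
  Rule.mk (nat_lit 1) (nat_lit 34) (Steps.bwd (nat_lit 7) (Steps.bwd (nat_lit 1) (Steps.bwd (nat_lit 7) Steps.nil))) (nat_lit 26) (nat_lit 0),
  Rule.mk (nat_lit 5) (nat_lit 34) (Steps.bwd (nat_lit 7) (Steps.fwd (nat_lit 2560) (Steps.fwd (nat_lit 3584) Steps.nil))) (nat_lit 32) (nat_lit 0),
  Rule.mk (nat_lit 6) (nat_lit 43) (Steps.bwd (nat_lit 5) (Steps.fwd (nat_lit 3072) (Steps.bwd (nat_lit 5) (Steps.bwd (nat_lit 7) Steps.nil)))) (nat_lit 24) (nat_lit 1),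
  Rule.mk (nat_lit 4) (nat_lit 34) (Steps.bwd (nat_lit 7) (Steps.bwd (nat_lit 4) (Steps.bwd (nat_lit 7) Steps.nil))) (nat_lit 30) (nat_lit 0),
  Rule.mk (nat_lit 6) (nat_lit 43) (Steps.bwd (nat_lit 7) (Steps.fwd (nat_lit 2560) (Steps.fwd (nat_lit 3072) (Steps.fwd (nat_lit 2560) Steps.nil)))) (nat_lit 25) (nat_lit 0),
  Rule.mk (nat_lit 1) (nat_lit 52) (Steps.bwd (nat_lit 4) (Steps.fwd (nat_lit 512) (Steps.fwd (nat_lit 2048) (Steps.fwd (nat_lit 512) (Steps.bwd (nat_lit 4) Steps.nil))))) (nat_lit 16) (nat_lit 1),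
  Rule.mk (nat_lit 4) (nat_lit 34) (Steps.fwd (nat_lit 3072) (Steps.bwd (nat_lit 4) (Steps.bwd (nat_lit 5) Steps.nil))) (nat_lit 22) (nat_lit 3),
  Rule.mk (nat_lit 7) (nat_lit 34) (Steps.bwd (nat_lit 5) (Steps.fwd (nat_lit 3584) (Steps.bwd (nat_lit 5) Steps.nil))) (nat_lit 32) (nat_lit 1),
  Rule.mk (nat_lit 6) (nat_lit 43) (Steps.fwd (nat_lit 2560) (Steps.bwd (nat_lit 7) (Steps.bwd (nat_lit 6) (Steps.bwd (nat_lit 5) Steps.nil)))) (nat_lit 24) (nat_lit 3),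
  Rule.mk (nat_lit 2) (nat_lit 52) (Steps.bwd (nat_lit 1) (Steps.bwd (nat_lit 2) (Steps.bwd (nat_lit 1) (Steps.bwd (nat_lit 2) (Steps.fwd (nat_lit 512) Steps.nil))))) (nat_lit 12) (nat_lit 0),
  Rule.mk (nat_lit 2) (nat_lit 25) (Steps.bwd (nat_lit 2) (Steps.bwd (nat_lit 2) Steps.nil)) (nat_lit 2) (nat_lit 0),
  Rule.mk (nat_lit 4) (nat_lit 34) (Steps.bwd (nat_lit 2) (Steps.fwd (nat_lit 2048) (Steps.bwd (nat_lit 2) Steps.nil))) (nat_lit 14) (nat_lit 1),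
  Rule.mk (nat_lit 7) (nat_lit 34) (Steps.bwd (nat_lit 3) (Steps.fwd (nat_lit 3584) (Steps.bwd (nat_lit 2) Steps.nil))) (nat_lit 28) (nat_lit 3),
  Rule.mk (nat_lit 3) (nat_lit 34) (Steps.bwd (nat_lit 4) (Steps.bwd (nat_lit 3) (Steps.fwd (nat_lit 2048) Steps.nil))) (nat_lit 15) (nat_lit 1),
  Rule.mk (nat_lit 7) (nat_lit 34) (Steps.bwd (nat_lit 4) (Steps.fwd (nat_lit 3584) (Steps.bwd (nat_lit 4) Steps.nil))) (nat_lit 30) (nat_lit 1),
  Rule.mk (nat_lit 1) (nat_lit 34) (Steps.fwd (nat_lit 3584) (Steps.bwd (nat_lit 1) (Steps.bwd (nat_lit 7) Steps.nil))) (nat_lit 26) (nat_lit 0),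
  Rule.mk (nat_lit 3) (nat_lit 34) (Steps.fwd (nat_lit 3584) (Steps.bwd (nat_lit 2) (Steps.bwd (nat_lit 7) Steps.nil))) (nat_lit 28) (nat_lit 0),
  Rule.mk (nat_lit 5) (nat_lit 34) (Steps.bwd (nat_lit 2) (Steps.fwd (nat_lit 2560) (Steps.bwd (nat_lit 3) Steps.nil))) (nat_lit 20) (nat_lit 0),
  Rule.mk (nat_lit 3) (nat_lit 34) (Steps.bwd (nat_lit 7) (Steps.bwd (nat_lit 2) (Steps.fwd (nat_lit 3584) Steps.nil))) (nat_lit 28) (nat_lit 0),
  Rule.mk (nat_lit 3) (nat_lit 25) (Steps.bwd (nat_lit 3) (Steps.bwd (nat_lit 3) Steps.nil)) (nat_lit 3) (nat_lit 0),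
  Rule.mk (nat_lit 5) (nat_lit 34) (Steps.bwd (nat_lit 3) (Steps.fwd (nat_lit 2560) (Steps.bwd (nat_lit 2) Steps.nil))) (nat_lit 20) (nat_lit 2),
  Rule.mk (nat_lit 1) (nat_lit 52) (Steps.bwd (nat_lit 3) (Steps.fwd (nat_lit 512) (Steps.fwd (nat_lit 1024) (Steps.bwd (nat_lit 1) (Steps.bwd (nat_lit 3) Steps.nil))))) (nat_lit 13) (nat_lit 0),
  Rule.mk (nat_lit 7) (nat_lit 34) (Steps.bwd (nat_lit 2) (Steps.fwd (nat_lit 3584) (Steps.bwd (nat_lit 3) Steps.nil))) (nat_lit 28) (nat_lit 1),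
  Rule.mk (nat_lit 6) (nat_lit 34) (Steps.bwd (nat_lit 4) (Steps.bwd (nat_lit 5) (Steps.bwd (nat_lit 4) Steps.nil))) (nat_lit 22) (nat_lit 0),
  Rule.mk (nat_lit 1) (nat_lit 124) (Steps.bwd (nat_lit 6) (Steps.fwd (nat_lit 2560) (Steps.fwd (nat_lit 1536) (Steps.bwd (nat_lit 1) (Steps.fwd (nat_lit 3072) (Steps.fwd (nat_lit 512) (Steps.bwd (nat_lit 2) (Steps.fwd (nat_lit 512) (Steps.bwd (nat_lit 6) (Steps.fwd (nat_lit 512) (Steps.fwd (nat_lit 1536) (Steps.fwd (nat_lit 512) (Steps.fwd (nat_lit 3072) Steps.nil))))))))))))) (nat_lit 34) (nat_lit 12),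
  Rule.mk (nat_lit 2) (nat_lit 124) (Steps.fwd (nat_lit 512) (Steps.bwd (nat_lit 6) (Steps.fwd (nat_lit 512) (Steps.bwd (nat_lit 6) (Steps.fwd (nat_lit 2560) (Steps.bwd (nat_lit 2) (Steps.fwd (nat_lit 512) (Steps.bwd (nat_lit 6) (Steps.fwd (nat_lit 512) (Steps.fwd (nat_lit 1536) (Steps.fwd (nat_lit 512) (Steps.fwd (nat_lit 3072) (Steps.bwd (nat_lit 1) Steps.nil))))))))))))) (nat_lit 34) (nat_lit 9),
  Rule.mk (nat_lit 5) (nat_lit 43) (Steps.bwd (nat_lit 7) (Steps.bwd (nat_lit 6) (Steps.fwd (nat_lit 2560) (Steps.fwd (nat_lit 3072) Steps.nil)))) (nat_lit 24) (nat_lit 4),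
  Rule.mk (nat_lit 6) (nat_lit 43) (Steps.fwd (nat_lit 2560) (Steps.bwd (nat_lit 7) (Steps.fwd (nat_lit 3072) (Steps.bwd (nat_lit 5) Steps.nil)))) (nat_lit 24) (nat_lit 3),
  Rule.mk (nat_lit 4) (nat_lit 34) (Steps.bwd (nat_lit 6) (Steps.fwd (nat_lit 2048) (Steps.bwd (nat_lit 5) Steps.nil))) (nat_lit 22) (nat_lit 3),
  Rule.mk (nat_lit 5) (nat_lit 43) (Steps.bwd (nat_lit 6) (Steps.bwd (nat_lit 5) (Steps.bwd (nat_lit 7) (Steps.fwd (nat_lit 3072) Steps.nil)))) (nat_lit 24) (nat_lit 2),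
  Rule.mk (nat_lit 7) (nat_lit 43) (Steps.bwd (nat_lit 6) (Steps.bwd (nat_lit 5) (Steps.fwd (nat_lit 3072) (Steps.fwd (nat_lit 2560) Steps.nil)))) (nat_lit 24) (nat_lit 0),
  Rule.mk (nat_lit 1) (nat_lit 124) (Steps.bwd (nat_lit 6) (Steps.bwd (nat_lit 5) (Steps.fwd (nat_lit 1536) (Steps.fwd (nat_lit 512) (Steps.bwd (nat_lit 6) (Steps.fwd (nat_lit 512) (Steps.bwd (nat_lit 2) (Steps.fwd (nat_lit 512) (Steps.fwd (nat_lit 3072) (Steps.bwd (nat_lit 1) (Steps.fwd (nat_lit 1536) (Steps.fwd (nat_lit 512) (Steps.fwd (nat_lit 3072) Steps.nil))))))))))))) (nat_lit 34) (nat_lit 12),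
  Rule.mk (nat_lit 2) (nat_lit 124) (Steps.fwd (nat_lit 512) (Steps.fwd (nat_lit 3072) (Steps.bwd (nat_lit 1) (Steps.fwd (nat_lit 3072) (Steps.bwd (nat_lit 5) (Steps.bwd (nat_lit 2) (Steps.fwd (nat_lit 512) (Steps.fwd (nat_lit 3072) (Steps.bwd (nat_lit 1) (Steps.fwd (nat_lit 1536) (Steps.fwd (nat_lit 512) (Steps.fwd (nat_lit 3072) (Steps.bwd (nat_lit 1) Steps.nil))))))))))))) (nat_lit 34) (nat_lit 9),
  Rule.mk (nat_lit 6) (nat_lit 34) (Steps.bwd (nat_lit 4) (Steps.bwd (nat_lit 5) (Steps.fwd (nat_lit 2048) Steps.nil))) (nat_lit 22) (nat_lit 0),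
  Rule.mk (nat_lit 2) (nat_lit 25) (Steps.fwd (nat_lit 1536) (Steps.bwd (nat_lit 2) Steps.nil)) (nat_lit 2) (nat_lit 0),
  Rule.mk (nat_lit 3) (nat_lit 52) (Steps.bwd (nat_lit 1) (Steps.fwd (nat_lit 1024) (Steps.bwd (nat_lit 1) (Steps.fwd (nat_lit 1024) (Steps.fwd (nat_lit 512) Steps.nil))))) (nat_lit 13) (nat_lit 1),
  Rule.mk (nat_lit 4) (nat_lit 52) (Steps.bwd (nat_lit 1) (Steps.bwd (nat_lit 4) (Steps.fwd (nat_lit 512) (Steps.fwd (nat_lit 2048) (Steps.bwd (nat_lit 1) Steps.nil))))) (nat_lit 16) (nat_lit 0),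
  Rule.mk (nat_lit 6) (nat_lit 124) (Steps.bwd (nat_lit 1) (Steps.fwd (nat_lit 1024) (Steps.fwd (nat_lit 2560) (Steps.fwd (nat_lit 3072) (Steps.bwd (nat_lit 1) (Steps.fwd (nat_lit 3072) (Steps.fwd (nat_lit 512) (Steps.fwd (nat_lit 1024) (Steps.fwd (nat_lit 512) (Steps.bwd (nat_lit 6) (Steps.fwd (nat_lit 512) (Steps.bwd (nat_lit 3) (Steps.bwd (nat_lit 1) Steps.nil))))))))))))) (nat_lit 35) (nat_lit 12),
  Rule.mk (nat_lit 5) (nat_lit 43) (Steps.fwd (nat_lit 3072) (Steps.fwd (nat_lit 2560) (Steps.bwd (nat_lit 7) (Steps.bwd (nat_lit 6) Steps.nil)))) (nat_lit 24) (nat_lit 2),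
  Rule.mk (nat_lit 3) (nat_lit 25) (Steps.bwd (nat_lit 3) (Steps.fwd (nat_lit 1024) Steps.nil)) (nat_lit 3) (nat_lit 0),
  Rule.mk (nat_lit 4) (nat_lit 34) (Steps.bwd (nat_lit 3) (Steps.bwd (nat_lit 4) (Steps.bwd (nat_lit 3) Steps.nil))) (nat_lit 15) (nat_lit 0),
  Rule.mk (nat_lit 6) (nat_lit 43) (Steps.bwd (nat_lit 5) (Steps.bwd (nat_lit 6) (Steps.fwd (nat_lit 2560) (Steps.bwd (nat_lit 7) Steps.nil)))) (nat_lit 24) (nat_lit 1),
  Rule.mk (nat_lit 4) (nat_lit 34) (Steps.bwd (nat_lit 6) (Steps.bwd (nat_lit 4) (Steps.bwd (nat_lit 5) Steps.nil))) (nat_lit 22) (nat_lit 3)]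
noncomputable def R_1 : List (Rule) := [Rule.mk (nat_lit 5) (nat_lit 43) (Steps.bwd (nat_lit 6) (Steps.fwd (nat_lit 2560) (Steps.fwd (nat_lit 3584) (Steps.fwd (nat_lit 3072) Steps.nil)))) (nat_lit 24) (nat_lit 2),
  Rule.mk (nat_lit 7) (nat_lit 43) (Steps.bwd (nat_lit 6) (Steps.fwd (nat_lit 2560) (Steps.bwd (nat_lit 6) (Steps.bwd (nat_lit 5) Steps.nil)))) (nat_lit 24) (nat_lit 0),
  Rule.mk (nat_lit 1) (nat_lit 124) (Steps.bwd (nat_lit 6) (Steps.fwd (nat_lit 2560) (Steps.fwd (nat_lit 1536) (Steps.bwd (nat_lit 1) (Steps.bwd (nat_lit 6) (Steps.bwd (nat_lit 1) (Steps.bwd (nat_lit 2) (Steps.bwd (nat_lit 1) (Steps.bwd (nat_lit 6) (Steps.fwd (nat_lit 512) (Steps.bwd (nat_lit 2) (Steps.fwd (nat_lit 512) (Steps.fwd (nat_lit 3072) Steps.nil))))))))))))) (nat_lit 34) (nat_lit 12),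
  Rule.mk (nat_lit 2) (nat_lit 52) (Steps.fwd (nat_lit 512) (Steps.bwd (nat_lit 2) (Steps.bwd (nat_lit 1) (Steps.fwd (nat_lit 1536) (Steps.bwd (nat_lit 1) Steps.nil))))) (nat_lit 12) (nat_lit 0),
  Rule.mk (nat_lit 3) (nat_lit 52) (Steps.fwd (nat_lit 512) (Steps.bwd (nat_lit 3) (Steps.bwd (nat_lit 1) (Steps.bwd (nat_lit 3) (Steps.bwd (nat_lit 1) Steps.nil))))) (nat_lit 13) (nat_lit 1)]
noncomputable def R : List (List (Rule)) := [R_0, R_1]
def LW : List Word := [[], [0], [2], [3], [4], [6], [8], [10], [0], [1], [2], [3], [4], [5]]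
def par : Par := ⟨9, 4, 13, 22, 511, 8191, 4194303⟩
theorem hpar : par.ok := by decide
theorem hR0_0 : lall (R) (fun l => lall l (ruleOK RH LW par)) = true := by decide +kernel
theorem hR0 : lall (R) (fun l => lall l (ruleOK RH LW par)) = true := hR0_0
theorem hR : RulesOK RH LW par R := rulesOK_of rfl hR0
def cols : List (ℕ × ℕ) := [(512, 1), (1024, 3), (2048, 4), (2560, 5), (3072, 6), (3584, 7)]
theorem hcols : lall cols (colOK RH LW par) = true := by decide +kernel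
noncomputable def JS0 : List ℕ := [nat_lit 0x3021c000cc6254023507014666c0a01188c0d0c8622f3231008005e600a001790018045e5c662f1716178145c545c30068c05c505c0116931684024101692078c05a4414071610008b4563c5406150e0002c06345c2d010a460a000280c000380058a85200138a140a84e244c061308128184a144a061287120184818460611850000400104602110311008440842021081,
  nat_lit 0x40792c4e5c1b8d86a2d2c08842d8060e25098b6361a8d8b626090448ad4060208111a114920f21b30605884c8000409035880c1c4220b00b80080a000010711ca025190c45a540f85494bc000d2313c4831180c4484f0782c7eb80003222d018607c8400032025020fc7ab00e061e271f0ed000c2e230b8ed582c2a3a54011ca902004725c84391c280184c709c020501a6000e4049404011b24080d86a8c04101aa2008406c840035403c0f0f068333e0202030107802341a9d,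
  nat_lit 0x8202418324500150645a0cc40198056602b0401854040984a1d29430301c385184011386ca104241727c00000c121c7e062f1391074be4d7c08263d000843005781d0f97c684120104685f1489c0a4b761108038964a740d0615c064972250181000483e0104b8028108edc4008230e]
theorem S0_c : blocks (facts 9 4 13 22 511 8191 4194303 9 511 7 127 A R 32) 32 JS0 289 = true := by decide +kernel
theorem S0 : On (Step.{u} RH LW par A) 289 385 :=
  steps_of_blocks hpar hR S0_c (by decide +kernel)
theorem D0_c : allB (defOK 9 13 22 511 4194303 287 A K) 1 2 = true := by decide +kernel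
theorem D0 : On (fun r => defOK par.W par.WL par.E par.mW par.mE 287 A K r = true) 256 384 :=
  On.of_allB D0_c
noncomputable def JW0 : List ℕ := [nat_lit 0x110cf118480bc4236c4a1982d194611f88a3ac80140e63a48620c8835085168c61705717859368d21a835358582588724c941ccf33a08c3a8ed100843bc7c238ec1a4901d42818c771e8e31c4ce19c761e0e23b88b24889370f12689c278f7280f23e0fb2a8a22a09125c8d23c98390f53f4fa2b0f62b8b03e4a427ca3298f03fc9d2b4b22d0b626d012acba2e0f43f0a540cbb2f4be3f900408c0308c4,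
  nat_lit 0x8c3c0c0cd0f8ca3444b130270e843088c7090260742011455134560dc53340d311ccc078520ac320c4340e0cb1fc7d2088113ce71d033174de3846e0a8290942c3242116c3d18849364601c0541acdf1b46f]
theorem W0_c : blocks (rows 9 4 13 22 511 8191 4194303 10 1023 60 A 385 32 cols 21) 21 JW0 0 = true := by decide +kernel
theorem W0 : On (Row.{u} RH LW par A 385 32 cols) 0 42 :=
  rows_of_blocks hpar (by decide) hcols W0_c (by decide +kernel)
theorem idx : Idx.{u} RH [[0], [2], [4], [6], [8], [10]] [[0], [2], [4]] 32 :=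
  idx_of_cert hpar hR (K := K) (by decide +kernel) (T := 287) (T' := 384) (by decide) D0
    (subs := [1,2,4]) (by decide +kernel) (T1 := 289) (by decide) (N := 385) S0
    (by decide) (n' := 42) (by decide) W0 (by decide +kernel) (by decide +kernel)
end h
namespace w00
noncomputable def A_0 : List (ℕ) := [nat_lit 0x9000000010080040300101000502400b0598180c081c1280602820b050c140838281010481ca07038c0e08301c1020400d00803180a0528180c40301480501940803380c0660180c40300840201180402500804e010114040230040470100840201040400400800700000c000014000020000020000020006200a0b48181490202520504200e07400c0c10201420302100403200404800805000]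
noncomputable def A : List (List (ℕ)) := [A_0]
noncomputable def K_0 : List (ℕ) := [nat_lit 0x10b854261107834160903814060000]
noncomputable def K : List (List (ℕ)) := [K_0]
noncomputable def R_0 : List (Rule) := [Rule.mk (nat_lit 8) (nat_lit 23) (Steps.bwd (nat_lit 8) (Steps.bwd (nat_lit 8) Steps.nil)) (nat_lit 36) (nat_lit 0),
  Rule.mk (nat_lit 1) (nat_lit 32) (Steps.fwd (nat_lit 4096) (Steps.fwd (nat_lit 512) (Steps.bwd (nat_lit 8) Steps.nil))) (nat_lit 38) (nat_lit 2),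
  Rule.mk (nat_lit 2) (nat_lit 32) (Steps.fwd (nat_lit 4096) (Steps.fwd (nat_lit 1024) (Steps.bwd (nat_lit 8) Steps.nil))) (nat_lit 40) (nat_lit 2),
  Rule.mk (nat_lit 7) (nat_lit 32) (Steps.fwd (nat_lit 4096) (Steps.fwd (nat_lit 2560) (Steps.bwd (nat_lit 8) Steps.nil))) (nat_lit 42) (nat_lit 2),
  Rule.mk (nat_lit 6) (nat_lit 32) (Steps.bwd (nat_lit 8) (Steps.fwd (nat_lit 3072) (Steps.bwd (nat_lit 8) Steps.nil))) (nat_lit 46) (nat_lit 1),
  Rule.mk (nat_lit 5) (nat_lit 41) (Steps.fwd (nat_lit 4096) (Steps.fwd (nat_lit 2560) (Steps.fwd (nat_lit 3584) (Steps.bwd (nat_lit 8) Steps.nil)))) (nat_lit 44) (nat_lit 2),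
  Rule.mk (nat_lit 5) (nat_lit 41) (Steps.fwd (nat_lit 3072) (Steps.fwd (nat_lit 2560) (Steps.fwd (nat_lit 3584) (Steps.bwd (nat_lit 6) Steps.nil)))) (nat_lit 24) (nat_lit 2),
  Rule.mk (nat_lit 3) (nat_lit 32) (Steps.fwd (nat_lit 4096) (Steps.bwd (nat_lit 2) (Steps.bwd (nat_lit 8) Steps.nil))) (nat_lit 41) (nat_lit 3),
  Rule.mk (nat_lit 2) (nat_lit 32) (Steps.bwd (nat_lit 4) (Steps.fwd (nat_lit 1536) (Steps.fwd (nat_lit 2048) Steps.nil))) (nat_lit 14) (nat_lit 0),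
  Rule.mk (nat_lit 6) (nat_lit 32) (Steps.bwd (nat_lit 4) (Steps.fwd (nat_lit 2560) (Steps.fwd (nat_lit 2048) Steps.nil))) (nat_lit 22) (nat_lit 0),
  Rule.mk (nat_lit 7) (nat_lit 32) (Steps.bwd (nat_lit 4) (Steps.fwd (nat_lit 3584) (Steps.fwd (nat_lit 2048) Steps.nil))) (nat_lit 30) (nat_lit 1),
  Rule.mk (nat_lit 5) (nat_lit 32) (Steps.bwd (nat_lit 4) (Steps.bwd (nat_lit 6) (Steps.fwd (nat_lit 2048) Steps.nil))) (nat_lit 22) (nat_lit 2),
  Rule.mk (nat_lit 4) (nat_lit 50) (Steps.bwd (nat_lit 1) (Steps.bwd (nat_lit 4) (Steps.fwd (nat_lit 512) (Steps.fwd (nat_lit 2048) (Steps.fwd (nat_lit 512) Steps.nil))))) (nat_lit 16) (nat_lit 0),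
  Rule.mk (nat_lit 5) (nat_lit 32) (Steps.bwd (nat_lit 1) (Steps.fwd (nat_lit 2560) (Steps.fwd (nat_lit 512) Steps.nil))) (nat_lit 18) (nat_lit 0),
  Rule.mk (nat_lit 6) (nat_lit 32) (Steps.fwd (nat_lit 2048) (Steps.bwd (nat_lit 5) (Steps.fwd (nat_lit 2048) Steps.nil))) (nat_lit 22) (nat_lit 0),
  Rule.mk (nat_lit 5) (nat_lit 32) (Steps.bwd (nat_lit 8) (Steps.fwd (nat_lit 3584) (Steps.fwd (nat_lit 4096) Steps.nil))) (nat_lit 42) (nat_lit 0),
  Rule.mk (nat_lit 1) (nat_lit 32) (Steps.bwd (nat_lit 9) (Steps.bwd (nat_lit 1) (Steps.bwd (nat_lit 8) Steps.nil))) (nat_lit 38) (nat_lit 2),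
  Rule.mk (nat_lit 7) (nat_lit 32) (Steps.bwd (nat_lit 9) (Steps.fwd (nat_lit 2560) (Steps.bwd (nat_lit 8) Steps.nil))) (nat_lit 42) (nat_lit 2),
  Rule.mk (nat_lit 3) (nat_lit 32) (Steps.fwd (nat_lit 3584) (Steps.bwd (nat_lit 2) (Steps.bwd (nat_lit 7) Steps.nil))) (nat_lit 28) (nat_lit 0),
  Rule.mk (nat_lit 1) (nat_lit 32) (Steps.bwd (nat_lit 9) (Steps.bwd (nat_lit 1) (Steps.fwd (nat_lit 4608) Steps.nil))) (nat_lit 38) (nat_lit 2),
  Rule.mk (nat_lit 8) (nat_lit 23) (Steps.bwd (nat_lit 8) (Steps.fwd (nat_lit 4608) Steps.nil)) (nat_lit 36) (nat_lit 0),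
  Rule.mk (nat_lit 1) (nat_lit 32) (Steps.fwd (nat_lit 4096) (Steps.bwd (nat_lit 1) (Steps.bwd (nat_lit 8) Steps.nil))) (nat_lit 38) (nat_lit 2),
  Rule.mk (nat_lit 6) (nat_lit 32) (Steps.bwd (nat_lit 8) (Steps.fwd (nat_lit 3072) (Steps.fwd (nat_lit 4608) Steps.nil))) (nat_lit 46) (nat_lit 1),
  Rule.mk (nat_lit 0) (nat_lit 131) (Steps.bwd (nat_lit 6) (Steps.bwd (nat_lit 1) (Steps.bwd (nat_lit 3) (Steps.fwd (nat_lit 512) (Steps.fwd (nat_lit 3072) (Steps.fwd (nat_lit 512) (Steps.bwd (nat_lit 3) (Steps.bwd (nat_lit 1) (Steps.bwd (nat_lit 6) (Steps.bwd (nat_lit 1) (Steps.bwd (nat_lit 3) (Steps.fwd (nat_lit 2560) (Steps.fwd (nat_lit 3072) (Steps.bwd (nat_lit 1) Steps.nil)))))))))))))) (nat_lit 35) (nat_lit 3),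
  Rule.mk (nat_lit 0) (nat_lit 32) (Steps.bwd (nat_lit 1) (Steps.fwd (nat_lit 0) (Steps.fwd (nat_lit 512) Steps.nil))) (nat_lit 48) (nat_lit 0),
  Rule.mk (nat_lit 0) (nat_lit 32) (Steps.fwd (nat_lit 4608) (Steps.fwd (nat_lit 0) (Steps.fwd (nat_lit 4096) Steps.nil))) (nat_lit 48) (nat_lit 0),
  Rule.mk (nat_lit 0) (nat_lit 32) (Steps.fwd (nat_lit 2048) (Steps.fwd (nat_lit 0) (Steps.bwd (nat_lit 4) Steps.nil))) (nat_lit 48) (nat_lit 0),
  Rule.mk (nat_lit 0) (nat_lit 41) (Steps.bwd (nat_lit 0) (Steps.bwd (nat_lit 8) (Steps.bwd (nat_lit 0) (Steps.fwd (nat_lit 4096) Steps.nil)))) (nat_lit 48) (nat_lit 0),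
  Rule.mk (nat_lit 9) (nat_lit 23) (Steps.bwd (nat_lit 0) (Steps.bwd (nat_lit 8) Steps.nil)) (nat_lit 48) (nat_lit 0)]
noncomputable def R : List (List (Rule)) := [R_0]
def LW : List Word := [[], [0], [2], [3], [4], [6], [8], [10], [12], [13], [0], [1], [2], [3], [4], [5], [6], [7], [8], [9], [10], [11]]
def par : Par := ⟨9, 5, 14, 23, 511, 16383, 8388607⟩
theorem hpar : par.ok := by decide
theorem hR0_0 : lall (R) (fun l => lall l (ruleOK Rw00 LW par)) = true := by decide +kernel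
theorem hR0 : lall (R) (fun l => lall l (ruleOK Rw00 LW par)) = true := hR0_0
theorem hR : RulesOK Rw00 LW par R := rulesOK_of rfl hR0
def cols : List (ℕ × ℕ) := [(512, 1), (1024, 3), (2048, 4), (2560, 5), (3072, 6), (3584, 7), (4096, 9)]
theorem hcols : lall cols (colOK Rw00 LW par) = true := by decide +kernel
noncomputable def JS0 : List ℕ := [nat_lit 0xe0002640c09038200200018100600008200200c0901623b8000826b09043511098434000140130282841202090411108244300f8043e8008203e5000200030e87020100009e1d01071c1b0e8343a1b686c3a040e86da1c0406d81b0286d61a01869419008652190386441802861002018040470b0002c4020140e04300c0a1528080a0220040c0118000c001044201,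
  nat_lit 0x1a003a21000c801c180005fb0680051a]
theorem S0_c : blocks (facts 9 5 14 23 511 16383 8388607 9 511 5 31 A R 32) 32 JS0 273 = true := by decide +kernel
theorem S0 : On (Step.{u} Rw00 LW par A) 273 337 :=
  steps_of_blocks hpar hR S0_c (by decide +kernel)
theorem D0_c : allB (defOK 9 14 23 511 8388607 268 A K) 1 2 = true := by decide +kernel
theorem D0 : On (fun r => defOK par.W par.WL par.E par.mW par.mE 268 A K r = true) 256 384 :=
  On.of_allB D0_c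
noncomputable def JW0 : List ℕ := [nat_lit 0x3920082210862208a]
theorem W0_c : blocks (rows 9 5 14 23 511 16383 8388607 10 1023 70 A 337 1 cols 18) 18 JW0 0 = true := by decide +kernel
theorem W0 : On (Row.{u} Rw00 LW par A 337 1 cols) 0 18 :=
  rows_of_blocks hpar (by decide) hcols W0_c (by decide +kernel)
theorem idx : Idx.{u} Rw00 [[0], [2], [4], [6], [8], [10], [12]] [[0], [2], [4], [6], [8], [10]] 1 :=
  idx_of_cert hpar hR (K := K) (by decide +kernel) (T := 268) (T' := 384) (by decide) D0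
    (subs := [1,2,4,5,6,7]) (by decide +kernel) (T1 := 273) (by decide) (N := 337) S0
    (by decide) (n' := 18) (by decide) W0 (by decide +kernel) (by decide +kernel)
end w00
namespace w01
noncomputable def A_0 : List (ℕ) := [nat_lit 0x9000000010080040300100a502818a06029c0a0630140680300ca04019c0603300c02700804a0101180202280804701001002001c00003000005000008000008000008000c80281500302100403200404800805000]
noncomputable def A : List (List (ℕ)) := [A_0]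
noncomputable def K_0 : List (ℕ) := [nat_lit 0x4160903814060000]
noncomputable def K : List (List (ℕ)) := [K_0]
noncomputable def R_0 : List (Rule) := [Rule.mk (nat_lit 8) (nat_lit 23) (Steps.bwd (nat_lit 8) (Steps.bwd (nat_lit 8) Steps.nil)) (nat_lit 36) (nat_lit 0),
  Rule.mk (nat_lit 7) (nat_lit 32) (Steps.fwd (nat_lit 4096) (Steps.fwd (nat_lit 2560) (Steps.bwd (nat_lit 8) Steps.nil))) (nat_lit 42) (nat_lit 2),
  Rule.mk (nat_lit 5) (nat_lit 41) (Steps.fwd (nat_lit 4096) (Steps.fwd (nat_lit 2560) (Steps.fwd (nat_lit 3584) (Steps.bwd (nat_lit 8) Steps.nil)))) (nat_lit 44) (nat_lit 2),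
  Rule.mk (nat_lit 6) (nat_lit 41) (Steps.bwd (nat_lit 8) (Steps.fwd (nat_lit 3072) (Steps.bwd (nat_lit 8) (Steps.fwd (nat_lit 3584) Steps.nil)))) (nat_lit 46) (nat_lit 1),
  Rule.mk (nat_lit 5) (nat_lit 41) (Steps.fwd (nat_lit 3072) (Steps.fwd (nat_lit 2560) (Steps.fwd (nat_lit 3584) (Steps.bwd (nat_lit 6) Steps.nil)))) (nat_lit 24) (nat_lit 2),
  Rule.mk (nat_lit 7) (nat_lit 41) (Steps.fwd (nat_lit 2560) (Steps.fwd (nat_lit 3072) (Steps.fwd (nat_lit 2560) (Steps.bwd (nat_lit 6) Steps.nil)))) (nat_lit 25) (nat_lit 1),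
  Rule.mk (nat_lit 6) (nat_lit 32) (Steps.bwd (nat_lit 4) (Steps.fwd (nat_lit 2560) (Steps.fwd (nat_lit 2048) Steps.nil))) (nat_lit 22) (nat_lit 0),
  Rule.mk (nat_lit 7) (nat_lit 32) (Steps.bwd (nat_lit 4) (Steps.fwd (nat_lit 3584) (Steps.fwd (nat_lit 2048) Steps.nil))) (nat_lit 30) (nat_lit 1),
  Rule.mk (nat_lit 5) (nat_lit 32) (Steps.bwd (nat_lit 4) (Steps.bwd (nat_lit 6) (Steps.fwd (nat_lit 2048) Steps.nil))) (nat_lit 22) (nat_lit 2),
  Rule.mk (nat_lit 6) (nat_lit 41) (Steps.bwd (nat_lit 8) (Steps.fwd (nat_lit 3584) (Steps.fwd (nat_lit 3072) (Steps.bwd (nat_lit 8) Steps.nil)))) (nat_lit 46) (nat_lit 3),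
  Rule.mk (nat_lit 7) (nat_lit 41) (Steps.fwd (nat_lit 4096) (Steps.bwd (nat_lit 6) (Steps.fwd (nat_lit 4096) (Steps.bwd (nat_lit 6) Steps.nil)))) (nat_lit 47) (nat_lit 1),
  Rule.mk (nat_lit 5) (nat_lit 32) (Steps.bwd (nat_lit 8) (Steps.fwd (nat_lit 3584) (Steps.fwd (nat_lit 4096) Steps.nil))) (nat_lit 42) (nat_lit 0),
  Rule.mk (nat_lit 5) (nat_lit 41) (Steps.fwd (nat_lit 3584) (Steps.fwd (nat_lit 3072) (Steps.fwd (nat_lit 2560) (Steps.bwd (nat_lit 6) Steps.nil)))) (nat_lit 24) (nat_lit 4),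
  Rule.mk (nat_lit 0) (nat_lit 50) (Steps.fwd (nat_lit 2560) (Steps.fwd (nat_lit 4096) (Steps.fwd (nat_lit 2560) (Steps.fwd (nat_lit 3584) (Steps.bwd (nat_lit 8) Steps.nil))))) (nat_lit 44) (nat_lit 1),
  Rule.mk (nat_lit 0) (nat_lit 32) (Steps.fwd (nat_lit 2048) (Steps.fwd (nat_lit 0) (Steps.bwd (nat_lit 4) Steps.nil))) (nat_lit 48) (nat_lit 0),
  Rule.mk (nat_lit 0) (nat_lit 41) (Steps.bwd (nat_lit 0) (Steps.bwd (nat_lit 8) (Steps.bwd (nat_lit 0) (Steps.fwd (nat_lit 4096) Steps.nil)))) (nat_lit 48) (nat_lit 0),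
  Rule.mk (nat_lit 9) (nat_lit 23) (Steps.bwd (nat_lit 0) (Steps.bwd (nat_lit 8) Steps.nil)) (nat_lit 48) (nat_lit 0)]
noncomputable def R : List (List (Rule)) := [R_0]
def LW : List Word := [[], [0], [2], [3], [4], [6], [8], [10], [12], [13], [0], [1], [2], [3], [4], [5], [6], [7], [8], [9], [10], [11]]
def par : Par := ⟨9, 5, 14, 23, 511, 16383, 8388607⟩
theorem hpar : par.ok := by decide
theorem hR0_0 : lall (R) (fun l => lall l (ruleOK Rw01 LW par)) = true := by decide +kernel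
theorem hR0 : lall (R) (fun l => lall l (ruleOK Rw01 LW par)) = true := hR0_0
theorem hR : RulesOK Rw01 LW par R := rulesOK_of rfl hR0
def cols : List (ℕ × ℕ) := [(512, 1), (1024, 3), (2048, 4), (2560, 5), (3072, 6), (3584, 7), (4096, 9)]
theorem hcols : lall cols (colOK Rw01 LW par) = true := by decide +kernel
noncomputable def JS0 : List ℕ := [nat_lit 0x7001107800340080600017785404000a815c020000802d0900024c0004400115800060208a8200f0844081048400210403c020f380404010018000200800a01010101c400808080118000600102c141]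
theorem S0_c : blocks (facts 9 5 14 23 511 16383 8388607 9 511 5 31 A R 32) 32 JS0 267 = true := by decide +kernel
theorem S0 : On (Step.{u} Rw01 LW par A) 267 299 :=
  steps_of_blocks hpar hR S0_c (by decide +kernel)
theorem D0_c : allB (defOK 9 14 23 511 8388607 262 A K) 1 2 = true := by decide +kernel
theorem D0 : On (fun r => defOK par.W par.WL par.E par.mW par.mE 262 A K r = true) 256 384 :=
  On.of_allB D0_c
noncomputable def JW0 : List ℕ := [nat_lit 0x1d10042110461204a]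
theorem W0_c : blocks (rows 9 5 14 23 511 16383 8388607 10 1023 70 A 299 1 cols 18) 18 JW0 0 = true := by decide +kernel
theorem W0 : On (Row.{u} Rw01 LW par A 299 1 cols) 0 18 :=
  rows_of_blocks hpar (by decide) hcols W0_c (by decide +kernel)
theorem idx : Idx.{u} Rw01 [[0], [2], [4], [6], [8], [10], [12]] [[0], [2], [4], [6], [8], [10]] 1 :=
  idx_of_cert hpar hR (K := K) (by decide +kernel) (T := 262) (T' := 384) (by decide) D0
    (subs := [1,2,4,5,6,7]) (by decide +kernel) (T1 := 267) (by decide) (N := 299) S0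
    (by decide) (n' := 18) (by decide) W0 (by decide +kernel) (by decide +kernel)
end w01
namespace w02
noncomputable def A_0 : List (ℕ) := [nat_lit 0x9000000010080040300101000502400b0498180c081c1280602820b0398140a28201070502020903940e07181c1020400d00803180a0528180c40301480501940803380c0660180c40300840201180402700804a010118020228080470100840201040400400800700000c000014000020000020000020006200a0b48181490202520504200e07400c0c10201420302100403200404800805000]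
noncomputable def A : List (List (ℕ)) := [A_0]
noncomputable def K_0 : List (ℕ) := [nat_lit 0x10b854261107834160903814060000]
noncomputable def K : List (List (ℕ)) := [K_0]
noncomputable def R_0 : List (Rule) := [Rule.mk (nat_lit 8) (nat_lit 23) (Steps.bwd (nat_lit 8) (Steps.bwd (nat_lit 8) Steps.nil)) (nat_lit 36) (nat_lit 0),
  Rule.mk (nat_lit 1) (nat_lit 32) (Steps.fwd (nat_lit 4096) (Steps.fwd (nat_lit 512) (Steps.bwd (nat_lit 8) Steps.nil))) (nat_lit 38) (nat_lit 2),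
  Rule.mk (nat_lit 2) (nat_lit 32) (Steps.fwd (nat_lit 4096) (Steps.fwd (nat_lit 1024) (Steps.bwd (nat_lit 8) Steps.nil))) (nat_lit 40) (nat_lit 2),
  Rule.mk (nat_lit 7) (nat_lit 32) (Steps.fwd (nat_lit 4096) (Steps.fwd (nat_lit 2560) (Steps.bwd (nat_lit 8) Steps.nil))) (nat_lit 42) (nat_lit 2),
  Rule.mk (nat_lit 5) (nat_lit 41) (Steps.fwd (nat_lit 4096) (Steps.fwd (nat_lit 2560) (Steps.fwd (nat_lit 3584) (Steps.bwd (nat_lit 8) Steps.nil)))) (nat_lit 44) (nat_lit 2),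
  Rule.mk (nat_lit 6) (nat_lit 41) (Steps.bwd (nat_lit 8) (Steps.fwd (nat_lit 3072) (Steps.bwd (nat_lit 8) (Steps.fwd (nat_lit 2560) Steps.nil)))) (nat_lit 46) (nat_lit 1),
  Rule.mk (nat_lit 5) (nat_lit 41) (Steps.fwd (nat_lit 3072) (Steps.fwd (nat_lit 2560) (Steps.fwd (nat_lit 3584) (Steps.bwd (nat_lit 6) Steps.nil)))) (nat_lit 24) (nat_lit 2),
  Rule.mk (nat_lit 7) (nat_lit 41) (Steps.fwd (nat_lit 2560) (Steps.fwd (nat_lit 3072) (Steps.fwd (nat_lit 2560) (Steps.bwd (nat_lit 6) Steps.nil)))) (nat_lit 25) (nat_lit 1),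
  Rule.mk (nat_lit 3) (nat_lit 32) (Steps.fwd (nat_lit 4096) (Steps.bwd (nat_lit 2) (Steps.bwd (nat_lit 8) Steps.nil))) (nat_lit 41) (nat_lit 3),
  Rule.mk (nat_lit 2) (nat_lit 32) (Steps.bwd (nat_lit 4) (Steps.fwd (nat_lit 1536) (Steps.fwd (nat_lit 2048) Steps.nil))) (nat_lit 14) (nat_lit 0),
  Rule.mk (nat_lit 6) (nat_lit 32) (Steps.bwd (nat_lit 4) (Steps.fwd (nat_lit 2560) (Steps.fwd (nat_lit 2048) Steps.nil))) (nat_lit 22) (nat_lit 0),
  Rule.mk (nat_lit 7) (nat_lit 32) (Steps.bwd (nat_lit 4) (Steps.fwd (nat_lit 3584) (Steps.fwd (nat_lit 2048) Steps.nil))) (nat_lit 30) (nat_lit 1),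
  Rule.mk (nat_lit 5) (nat_lit 32) (Steps.bwd (nat_lit 4) (Steps.bwd (nat_lit 6) (Steps.fwd (nat_lit 2048) Steps.nil))) (nat_lit 22) (nat_lit 2),
  Rule.mk (nat_lit 4) (nat_lit 50) (Steps.bwd (nat_lit 1) (Steps.bwd (nat_lit 4) (Steps.fwd (nat_lit 512) (Steps.fwd (nat_lit 2048) (Steps.fwd (nat_lit 512) Steps.nil))))) (nat_lit 16) (nat_lit 0),
  Rule.mk (nat_lit 5) (nat_lit 32) (Steps.bwd (nat_lit 1) (Steps.fwd (nat_lit 2560) (Steps.fwd (nat_lit 512) Steps.nil))) (nat_lit 18) (nat_lit 0),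
  Rule.mk (nat_lit 6) (nat_lit 32) (Steps.fwd (nat_lit 2048) (Steps.bwd (nat_lit 5) (Steps.fwd (nat_lit 2048) Steps.nil))) (nat_lit 22) (nat_lit 0),
  Rule.mk (nat_lit 5) (nat_lit 32) (Steps.bwd (nat_lit 8) (Steps.fwd (nat_lit 3584) (Steps.fwd (nat_lit 4096) Steps.nil))) (nat_lit 42) (nat_lit 0),
  Rule.mk (nat_lit 1) (nat_lit 32) (Steps.bwd (nat_lit 9) (Steps.bwd (nat_lit 1) (Steps.bwd (nat_lit 8) Steps.nil))) (nat_lit 38) (nat_lit 2),
  Rule.mk (nat_lit 7) (nat_lit 32) (Steps.bwd (nat_lit 9) (Steps.fwd (nat_lit 2560) (Steps.bwd (nat_lit 8) Steps.nil))) (nat_lit 42) (nat_lit 2),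
  Rule.mk (nat_lit 5) (nat_lit 41) (Steps.bwd (nat_lit 8) (Steps.fwd (nat_lit 2560) (Steps.fwd (nat_lit 4096) (Steps.bwd (nat_lit 7) Steps.nil)))) (nat_lit 45) (nat_lit 2),
  Rule.mk (nat_lit 6) (nat_lit 41) (Steps.bwd (nat_lit 5) (Steps.fwd (nat_lit 4096) (Steps.fwd (nat_lit 3072) (Steps.fwd (nat_lit 4096) Steps.nil)))) (nat_lit 47) (nat_lit 0),
  Rule.mk (nat_lit 1) (nat_lit 32) (Steps.bwd (nat_lit 9) (Steps.bwd (nat_lit 1) (Steps.fwd (nat_lit 4608) Steps.nil))) (nat_lit 38) (nat_lit 2),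
  Rule.mk (nat_lit 8) (nat_lit 23) (Steps.bwd (nat_lit 8) (Steps.fwd (nat_lit 4608) Steps.nil)) (nat_lit 36) (nat_lit 0),
  Rule.mk (nat_lit 1) (nat_lit 32) (Steps.fwd (nat_lit 4096) (Steps.bwd (nat_lit 1) (Steps.bwd (nat_lit 8) Steps.nil))) (nat_lit 38) (nat_lit 2),
  Rule.mk (nat_lit 6) (nat_lit 41) (Steps.bwd (nat_lit 8) (Steps.bwd (nat_lit 5) (Steps.bwd (nat_lit 6) (Steps.fwd (nat_lit 4608) Steps.nil)))) (nat_lit 46) (nat_lit 3),
  Rule.mk (nat_lit 0) (nat_lit 131) (Steps.fwd (nat_lit 512) (Steps.fwd (nat_lit 3072) (Steps.fwd (nat_lit 2560) (Steps.fwd (nat_lit 1536) (Steps.fwd (nat_lit 512) (Steps.fwd (nat_lit 3072) (Steps.fwd (nat_lit 512) (Steps.bwd (nat_lit 2) (Steps.bwd (nat_lit 1) (Steps.bwd (nat_lit 6) (Steps.bwd (nat_lit 1) (Steps.fwd (nat_lit 1536) (Steps.fwd (nat_lit 512) (Steps.fwd (nat_lit 3072) Steps.nil)))))))))))))) (nat_lit 34) (nat_lit 11),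
  Rule.mk (nat_lit 0) (nat_lit 32) (Steps.bwd (nat_lit 1) (Steps.fwd (nat_lit 0) (Steps.fwd (nat_lit 512) Steps.nil))) (nat_lit 48) (nat_lit 0),
  Rule.mk (nat_lit 0) (nat_lit 32) (Steps.fwd (nat_lit 4608) (Steps.fwd (nat_lit 0) (Steps.fwd (nat_lit 4096) Steps.nil))) (nat_lit 48) (nat_lit 0),
  Rule.mk (nat_lit 0) (nat_lit 32) (Steps.fwd (nat_lit 2048) (Steps.fwd (nat_lit 0) (Steps.bwd (nat_lit 4) Steps.nil))) (nat_lit 48) (nat_lit 0),
  Rule.mk (nat_lit 0) (nat_lit 41) (Steps.bwd (nat_lit 0) (Steps.bwd (nat_lit 8) (Steps.bwd (nat_lit 0) (Steps.fwd (nat_lit 4096) Steps.nil)))) (nat_lit 48) (nat_lit 0),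
  Rule.mk (nat_lit 9) (nat_lit 23) (Steps.bwd (nat_lit 0) (Steps.bwd (nat_lit 8) Steps.nil)) (nat_lit 48) (nat_lit 0)]
noncomputable def R : List (List (Rule)) := [R_0]
def LW : List Word := [[], [0], [2], [3], [4], [6], [8], [10], [12], [13], [0], [1], [2], [3], [4], [5], [6], [7], [8], [9], [10], [11]]
def par : Par := ⟨9, 5, 14, 23, 511, 16383, 8388607⟩
theorem hpar : par.ok := by decide
theorem hR0_0 : lall (R) (fun l => lall l (ruleOK Rw02 LW par)) = true := by decide +kernel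
theorem hR0 : lall (R) (fun l => lall l (ruleOK Rw02 LW par)) = true := hR0_0
theorem hR : RulesOK Rw02 LW par R := rulesOK_of rfl hR0
def cols : List (ℕ × ℕ) := [(512, 1), (1024, 3), (2048, 4), (2560, 5), (3072, 6), (3584, 7), (4096, 9)]
theorem hcols : lall cols (colOK Rw02 LW par) = true := by decide +kernel
noncomputable def JS0 : List ℕ := [nat_lit 0x200004d8000209008000e0a0380002090401007a1302c1823c8000a26c09043711098436120340c00a8004402115008090fcc06230fc8400810443c000f240008000c3a1c080400028074041c786c3a0d0e86dc1b0e8103a1b70700e1b686c081b6068081a5864021950640e1910600a18480404010020000200800e00020182c6018100c0328080a0220040c0118000c001044201,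
  nat_lit 0x1a003e21000c801e180005fd0680051c]
theorem S0_c : blocks (facts 9 5 14 23 511 16383 8388607 9 511 5 31 A R 32) 32 JS0 273 = true := by decide +kernel
theorem S0 : On (Step.{u} Rw02 LW par A) 273 337 :=
  steps_of_blocks hpar hR S0_c (by decide +kernel)
theorem D0_c : allB (defOK 9 14 23 511 8388607 268 A K) 1 2 = true := by decide +kernel
theorem D0 : On (fun r => defOK par.W par.WL par.E par.mW par.mE 268 A K r = true) 256 384 :=
  On.of_allB D0_c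
noncomputable def JW0 : List ℕ := [nat_lit 0x3920082210862208a]
theorem W0_c : blocks (rows 9 5 14 23 511 16383 8388607 10 1023 70 A 337 1 cols 18) 18 JW0 0 = true := by decide +kernel
theorem W0 : On (Row.{u} Rw02 LW par A 337 1 cols) 0 18 :=
  rows_of_blocks hpar (by decide) hcols W0_c (by decide +kernel)
theorem idx : Idx.{u} Rw02 [[0], [2], [4], [6], [8], [10], [12]] [[0], [2], [4], [6], [8], [10]] 1 :=
  idx_of_cert hpar hR (K := K) (by decide +kernel) (T := 268) (T' := 384) (by decide) D0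
    (subs := [1,2,4,5,6,7]) (by decide +kernel) (T1 := 273) (by decide) (N := 337) S0
    (by decide) (n' := 18) (by decide) W0 (by decide +kernel) (by decide +kernel)
end w02
namespace w03
noncomputable def A_0 : List (ℕ) := [nat_lit 0x9000000010080040300100a003018c0702a40e0448180c503014a0501940803380c0660180900100200401380402500800e000018000028000040000040000040007480c0c70281500302100403200404600805000]
noncomputable def A : List (List (ℕ)) := [A_0]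
noncomputable def K_0 : List (ℕ) := [nat_lit 0x834160903814060000]
noncomputable def K : List (List (ℕ)) := [K_0]
noncomputable def R_0 : List (Rule) := [Rule.mk (nat_lit 5) (nat_lit 32) (Steps.bwd (nat_lit 8) (Steps.fwd (nat_lit 3584) (Steps.fwd (nat_lit 4096) Steps.nil))) (nat_lit 42) (nat_lit 0),
  Rule.mk (nat_lit 7) (nat_lit 41) (Steps.bwd (nat_lit 8) (Steps.fwd (nat_lit 2560) (Steps.fwd (nat_lit 4096) (Steps.fwd (nat_lit 2560) Steps.nil)))) (nat_lit 44) (nat_lit 0),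
  Rule.mk (nat_lit 8) (nat_lit 50) (Steps.bwd (nat_lit 6) (Steps.bwd (nat_lit 8) (Steps.fwd (nat_lit 2560) (Steps.fwd (nat_lit 3584) (Steps.fwd (nat_lit 3072) Steps.nil))))) (nat_lit 46) (nat_lit 2),
  Rule.mk (nat_lit 8) (nat_lit 23) (Steps.bwd (nat_lit 8) (Steps.bwd (nat_lit 8) Steps.nil)) (nat_lit 36) (nat_lit 0),
  Rule.mk (nat_lit 6) (nat_lit 32) (Steps.bwd (nat_lit 4) (Steps.fwd (nat_lit 2560) (Steps.fwd (nat_lit 2048) Steps.nil))) (nat_lit 22) (nat_lit 0),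
  Rule.mk (nat_lit 7) (nat_lit 32) (Steps.bwd (nat_lit 4) (Steps.fwd (nat_lit 3584) (Steps.fwd (nat_lit 2048) Steps.nil))) (nat_lit 30) (nat_lit 1),
  Rule.mk (nat_lit 5) (nat_lit 32) (Steps.bwd (nat_lit 4) (Steps.bwd (nat_lit 6) (Steps.fwd (nat_lit 2048) Steps.nil))) (nat_lit 22) (nat_lit 2),
  Rule.mk (nat_lit 5) (nat_lit 32) (Steps.bwd (nat_lit 7) (Steps.fwd (nat_lit 2560) (Steps.fwd (nat_lit 3584) Steps.nil))) (nat_lit 32) (nat_lit 0),
  Rule.mk (nat_lit 9) (nat_lit 41) (Steps.fwd (nat_lit 2560) (Steps.bwd (nat_lit 7) (Steps.bwd (nat_lit 8) (Steps.bwd (nat_lit 5) Steps.nil)))) (nat_lit 44) (nat_lit 3),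
  Rule.mk (nat_lit 9) (nat_lit 23) (Steps.bwd (nat_lit 9) (Steps.fwd (nat_lit 4096) Steps.nil)) (nat_lit 37) (nat_lit 0),
  Rule.mk (nat_lit 6) (nat_lit 50) (Steps.bwd (nat_lit 9) (Steps.fwd (nat_lit 3072) (Steps.fwd (nat_lit 3584) (Steps.bwd (nat_lit 5) (Steps.bwd (nat_lit 9) Steps.nil))))) (nat_lit 47) (nat_lit 4),
  Rule.mk (nat_lit 0) (nat_lit 59) (Steps.bwd (nat_lit 6) (Steps.fwd (nat_lit 4608) (Steps.fwd (nat_lit 2560) (Steps.fwd (nat_lit 3584) (Steps.bwd (nat_lit 6) (Steps.fwd (nat_lit 4608) Steps.nil)))))) (nat_lit 46) (nat_lit 2),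
  Rule.mk (nat_lit 0) (nat_lit 32) (Steps.bwd (nat_lit 9) (Steps.fwd (nat_lit 0) (Steps.bwd (nat_lit 8) Steps.nil))) (nat_lit 48) (nat_lit 0),
  Rule.mk (nat_lit 0) (nat_lit 32) (Steps.fwd (nat_lit 2048) (Steps.fwd (nat_lit 0) (Steps.bwd (nat_lit 4) Steps.nil))) (nat_lit 48) (nat_lit 0),
  Rule.mk (nat_lit 0) (nat_lit 41) (Steps.bwd (nat_lit 0) (Steps.bwd (nat_lit 8) (Steps.bwd (nat_lit 0) (Steps.fwd (nat_lit 4096) Steps.nil)))) (nat_lit 48) (nat_lit 0),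
  Rule.mk (nat_lit 9) (nat_lit 23) (Steps.bwd (nat_lit 0) (Steps.bwd (nat_lit 8) Steps.nil)) (nat_lit 48) (nat_lit 0)]
noncomputable def R : List (List (Rule)) := [R_0]
def LW : List Word := [[], [0], [2], [3], [4], [6], [8], [10], [12], [13], [0], [1], [2], [3], [4], [5], [6], [7], [8], [9], [10], [11]]
def par : Par := ⟨9, 5, 14, 23, 511, 16383, 8388607⟩
theorem hpar : par.ok := by decide
theorem hR0_0 : lall (R) (fun l => lall l (ruleOK Rw03 LW par)) = true := by decide +kernel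
theorem hR0 : lall (R) (fun l => lall l (ruleOK Rw03 LW par)) = true := hR0_0
theorem hR : RulesOK Rw03 LW par R := rulesOK_of rfl hR0
def cols : List (ℕ × ℕ) := [(512, 1), (1024, 3), (2048, 4), (2560, 5), (3072, 6), (3584, 7), (4096, 9)]
theorem hcols : lall cols (colOK Rw03 LW par) = true := by decide +kernel
noncomputable def JS0 : List ℕ := [nat_lit 0x700100600016007860001770540003680400130200400c008100a0608ac24105008221000241e0007a01e0107842011079c1e0307981c030714000f200c0404070346000680c1a206000181]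
theorem S0_c : blocks (facts 9 5 14 23 511 16383 8388607 9 511 5 31 A R 32) 32 JS0 268 = true := by decide +kernel
theorem S0 : On (Step.{u} Rw03 LW par A) 268 300 :=
  steps_of_blocks hpar hR S0_c (by decide +kernel)
theorem D0_c : allB (defOK 9 14 23 511 8388607 263 A K) 1 2 = true := by decide +kernel
theorem D0 : On (fun r => defOK par.W par.WL par.E par.mW par.mE 263 A K r = true) 256 384 :=
  On.of_allB D0_c
noncomputable def JW0 : List ℕ := [nat_lit 0x1f10042110461204a]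
theorem W0_c : blocks (rows 9 5 14 23 511 16383 8388607 10 1023 70 A 300 1 cols 18) 18 JW0 0 = true := by decide +kernel
theorem W0 : On (Row.{u} Rw03 LW par A 300 1 cols) 0 18 :=
  rows_of_blocks hpar (by decide) hcols W0_c (by decide +kernel)
theorem idx : Idx.{u} Rw03 [[0], [2], [4], [6], [8], [10], [12]] [[0], [2], [4], [6], [8], [10]] 1 :=
  idx_of_cert hpar hR (K := K) (by decide +kernel) (T := 263) (T' := 384) (by decide) D0
    (subs := [1,2,4,5,6,7]) (by decide +kernel) (T1 := 268) (by decide) (N := 300) S0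
    (by decide) (n' := 18) (by decide) W0 (by decide +kernel) (by decide +kernel)
end w03
namespace w11
noncomputable def A_0 : List (ℕ) := [nat_lit 0x24000000040200100c004031c0c0630140c20300d00601940803380c0660180c403008c0201380402500808c0101140402380804201001002001c00003000005000008000008000008000c80281500302100403200404800805000]
noncomputable def A : List (List (ℕ)) := [A_0]
noncomputable def K_0 : List (ℕ) := [nat_lit 0x4160903814060000]
noncomputable def K : List (List (ℕ)) := [K_0]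
noncomputable def R_0 : List (Rule) := [Rule.mk (nat_lit 8) (nat_lit 23) (Steps.bwd (nat_lit 8) (Steps.bwd (nat_lit 8) Steps.nil)) (nat_lit 36) (nat_lit 0),
  Rule.mk (nat_lit 2) (nat_lit 32) (Steps.fwd (nat_lit 4096) (Steps.fwd (nat_lit 1024) (Steps.bwd (nat_lit 8) Steps.nil))) (nat_lit 40) (nat_lit 2),
  Rule.mk (nat_lit 7) (nat_lit 32) (Steps.fwd (nat_lit 4096) (Steps.fwd (nat_lit 2560) (Steps.bwd (nat_lit 8) Steps.nil))) (nat_lit 42) (nat_lit 2),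
  Rule.mk (nat_lit 5) (nat_lit 41) (Steps.fwd (nat_lit 4096) (Steps.fwd (nat_lit 2560) (Steps.fwd (nat_lit 3584) (Steps.bwd (nat_lit 8) Steps.nil)))) (nat_lit 44) (nat_lit 2),
  Rule.mk (nat_lit 6) (nat_lit 50) (Steps.bwd (nat_lit 8) (Steps.fwd (nat_lit 3072) (Steps.bwd (nat_lit 8) (Steps.bwd (nat_lit 2) (Steps.fwd (nat_lit 3584) Steps.nil))))) (nat_lit 46) (nat_lit 1),
  Rule.mk (nat_lit 5) (nat_lit 41) (Steps.fwd (nat_lit 3072) (Steps.fwd (nat_lit 2560) (Steps.fwd (nat_lit 3584) (Steps.bwd (nat_lit 6) Steps.nil)))) (nat_lit 24) (nat_lit 2),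
  Rule.mk (nat_lit 7) (nat_lit 41) (Steps.fwd (nat_lit 2560) (Steps.fwd (nat_lit 3072) (Steps.fwd (nat_lit 2560) (Steps.bwd (nat_lit 6) Steps.nil)))) (nat_lit 25) (nat_lit 1),
  Rule.mk (nat_lit 3) (nat_lit 50) (Steps.fwd (nat_lit 4096) (Steps.bwd (nat_lit 6) (Steps.fwd (nat_lit 4096) (Steps.bwd (nat_lit 6) (Steps.fwd (nat_lit 3584) Steps.nil))))) (nat_lit 47) (nat_lit 2),
  Rule.mk (nat_lit 2) (nat_lit 32) (Steps.bwd (nat_lit 4) (Steps.fwd (nat_lit 1536) (Steps.fwd (nat_lit 2048) Steps.nil))) (nat_lit 14) (nat_lit 0),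
  Rule.mk (nat_lit 6) (nat_lit 32) (Steps.bwd (nat_lit 4) (Steps.fwd (nat_lit 2560) (Steps.fwd (nat_lit 2048) Steps.nil))) (nat_lit 22) (nat_lit 0),
  Rule.mk (nat_lit 7) (nat_lit 32) (Steps.bwd (nat_lit 4) (Steps.fwd (nat_lit 3584) (Steps.fwd (nat_lit 2048) Steps.nil))) (nat_lit 30) (nat_lit 1),
  Rule.mk (nat_lit 5) (nat_lit 32) (Steps.bwd (nat_lit 4) (Steps.bwd (nat_lit 6) (Steps.fwd (nat_lit 2048) Steps.nil))) (nat_lit 22) (nat_lit 2),
  Rule.mk (nat_lit 6) (nat_lit 50) (Steps.bwd (nat_lit 8) (Steps.bwd (nat_lit 2) (Steps.fwd (nat_lit 3584) (Steps.fwd (nat_lit 3072) (Steps.bwd (nat_lit 8) Steps.nil))))) (nat_lit 46) (nat_lit 3),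
  Rule.mk (nat_lit 7) (nat_lit 50) (Steps.bwd (nat_lit 6) (Steps.bwd (nat_lit 8) (Steps.fwd (nat_lit 3072) (Steps.bwd (nat_lit 8) (Steps.bwd (nat_lit 2) Steps.nil))))) (nat_lit 46) (nat_lit 0),
  Rule.mk (nat_lit 0) (nat_lit 41) (Steps.fwd (nat_lit 2560) (Steps.bwd (nat_lit 8) (Steps.fwd (nat_lit 3584) (Steps.fwd (nat_lit 4096) Steps.nil)))) (nat_lit 42) (nat_lit 3),
  Rule.mk (nat_lit 0) (nat_lit 32) (Steps.fwd (nat_lit 2048) (Steps.fwd (nat_lit 0) (Steps.bwd (nat_lit 4) Steps.nil))) (nat_lit 48) (nat_lit 0),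
  Rule.mk (nat_lit 0) (nat_lit 41) (Steps.bwd (nat_lit 0) (Steps.bwd (nat_lit 8) (Steps.bwd (nat_lit 0) (Steps.fwd (nat_lit 4096) Steps.nil)))) (nat_lit 48) (nat_lit 0),
  Rule.mk (nat_lit 9) (nat_lit 23) (Steps.bwd (nat_lit 0) (Steps.bwd (nat_lit 8) Steps.nil)) (nat_lit 48) (nat_lit 0)]
noncomputable def R : List (List (Rule)) := [R_0]
def LW : List Word := [[], [0], [2], [3], [4], [6], [8], [10], [12], [13], [0], [1], [2], [3], [4], [5], [6], [7], [8], [9], [10], [11]]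
def par : Par := ⟨9, 5, 14, 23, 511, 16383, 8388607⟩
theorem hpar : par.ok := by decide
theorem hR0_0 : lall (R) (fun l => lall l (ruleOK Rw11 LW par)) = true := by decide +kernel
theorem hR0 : lall (R) (fun l => lall l (ruleOK Rw11 LW par)) = true := hR0_0
theorem hR : RulesOK Rw11 LW par R := rulesOK_of rfl hR0
def cols : List (ℕ × ℕ) := [(512, 1), (1024, 3), (2048, 4), (2560, 5), (3072, 6), (3584, 7), (4096, 9)]
theorem hcols : lall cols (colOK Rw11 LW par) = true := by decide +kernel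
noncomputable def JS0 : List ℕ := [nat_lit 0x3c009044001c004434000cc0060001811e01010142c007004080302855a00020004130904280609b0260309ac24030928220008a40002088082280080802003800040100180202018141e50100c0a022004080118000a00102c141]
theorem S0_c : blocks (facts 9 5 14 23 511 16383 8388607 9 511 5 31 A R 32) 32 JS0 267 = true := by decide +kernel
theorem S0 : On (Step.{u} Rw11 LW par A) 267 299 :=
  steps_of_blocks hpar hR S0_c (by decide +kernel)
theorem D0_c : allB (defOK 9 14 23 511 8388607 262 A K) 1 2 = true := by decide +kernel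
theorem D0 : On (fun r => defOK par.W par.WL par.E par.mW par.mE 262 A K r = true) 256 384 :=
  On.of_allB D0_c
noncomputable def JW0 : List ℕ := [nat_lit 0x1910042110461204a]
theorem W0_c : blocks (rows 9 5 14 23 511 16383 8388607 10 1023 70 A 299 1 cols 18) 18 JW0 0 = true := by decide +kernel
theorem W0 : On (Row.{u} Rw11 LW par A 299 1 cols) 0 18 :=
  rows_of_blocks hpar (by decide) hcols W0_c (by decide +kernel)
theorem idx : Idx.{u} Rw11 [[0], [2], [4], [6], [8], [10], [12]] [[0], [2], [4], [6], [8], [10]] 1 :=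
  idx_of_cert hpar hR (K := K) (by decide +kernel) (T := 262) (T' := 384) (by decide) D0
    (subs := [1,2,4,5,6,7]) (by decide +kernel) (T1 := 267) (by decide) (N := 299) S0
    (by decide) (n' := 18) (by decide) W0 (by decide +kernel) (by decide +kernel)
end w11
namespace w13
noncomputable def A_0 : List (ℕ) := [nat_lit 0x12000000020100080600201400603180e05481c08903018a0602940a05181406502010404019c0603300c0620180900101080400400804701008a02009c0201280402300800e000018000028000040000040000040007480c0c70281500302100403200404600805000]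
noncomputable def A : List (List (ℕ)) := [A_0]
noncomputable def K_0 : List (ℕ) := [nat_lit 0x834160903814060000]
noncomputable def K : List (List (ℕ)) := [K_0]
noncomputable def R_0 : List (Rule) := [Rule.mk (nat_lit 3) (nat_lit 32) (Steps.bwd (nat_lit 8) (Steps.bwd (nat_lit 2) (Steps.fwd (nat_lit 4096) Steps.nil))) (nat_lit 40) (nat_lit 0),
  Rule.mk (nat_lit 5) (nat_lit 32) (Steps.bwd (nat_lit 8) (Steps.fwd (nat_lit 3584) (Steps.fwd (nat_lit 4096) Steps.nil))) (nat_lit 42) (nat_lit 0),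
  Rule.mk (nat_lit 7) (nat_lit 41) (Steps.bwd (nat_lit 8) (Steps.fwd (nat_lit 2560) (Steps.fwd (nat_lit 4096) (Steps.fwd (nat_lit 2560) Steps.nil)))) (nat_lit 44) (nat_lit 0),
  Rule.mk (nat_lit 5) (nat_lit 41) (Steps.bwd (nat_lit 6) (Steps.fwd (nat_lit 2560) (Steps.fwd (nat_lit 3584) (Steps.fwd (nat_lit 3072) Steps.nil)))) (nat_lit 24) (nat_lit 2),
  Rule.mk (nat_lit 7) (nat_lit 41) (Steps.bwd (nat_lit 6) (Steps.fwd (nat_lit 2560) (Steps.fwd (nat_lit 3072) (Steps.fwd (nat_lit 2560) Steps.nil)))) (nat_lit 24) (nat_lit 0),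
  Rule.mk (nat_lit 8) (nat_lit 59) (Steps.bwd (nat_lit 6) (Steps.bwd (nat_lit 8) (Steps.bwd (nat_lit 2) (Steps.fwd (nat_lit 2560) (Steps.fwd (nat_lit 3584) (Steps.fwd (nat_lit 3072) Steps.nil)))))) (nat_lit 46) (nat_lit 2),
  Rule.mk (nat_lit 2) (nat_lit 59) (Steps.fwd (nat_lit 2560) (Steps.fwd (nat_lit 3584) (Steps.bwd (nat_lit 6) (Steps.bwd (nat_lit 8) (Steps.fwd (nat_lit 3072) (Steps.bwd (nat_lit 8) Steps.nil)))))) (nat_lit 46) (nat_lit 5),
  Rule.mk (nat_lit 8) (nat_lit 23) (Steps.bwd (nat_lit 8) (Steps.bwd (nat_lit 8) Steps.nil)) (nat_lit 36) (nat_lit 0),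
  Rule.mk (nat_lit 2) (nat_lit 32) (Steps.bwd (nat_lit 4) (Steps.fwd (nat_lit 1536) (Steps.fwd (nat_lit 2048) Steps.nil))) (nat_lit 14) (nat_lit 0),
  Rule.mk (nat_lit 6) (nat_lit 32) (Steps.bwd (nat_lit 4) (Steps.fwd (nat_lit 2560) (Steps.fwd (nat_lit 2048) Steps.nil))) (nat_lit 22) (nat_lit 0),
  Rule.mk (nat_lit 7) (nat_lit 32) (Steps.bwd (nat_lit 4) (Steps.fwd (nat_lit 3584) (Steps.fwd (nat_lit 2048) Steps.nil))) (nat_lit 30) (nat_lit 1),
  Rule.mk (nat_lit 2) (nat_lit 32) (Steps.bwd (nat_lit 4) (Steps.bwd (nat_lit 2) (Steps.fwd (nat_lit 2048) Steps.nil))) (nat_lit 14) (nat_lit 0),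
  Rule.mk (nat_lit 5) (nat_lit 32) (Steps.bwd (nat_lit 4) (Steps.bwd (nat_lit 6) (Steps.fwd (nat_lit 2048) Steps.nil))) (nat_lit 22) (nat_lit 2),
  Rule.mk (nat_lit 5) (nat_lit 32) (Steps.bwd (nat_lit 7) (Steps.fwd (nat_lit 2560) (Steps.fwd (nat_lit 3584) Steps.nil))) (nat_lit 32) (nat_lit 0),
  Rule.mk (nat_lit 9) (nat_lit 41) (Steps.fwd (nat_lit 2560) (Steps.bwd (nat_lit 7) (Steps.bwd (nat_lit 8) (Steps.bwd (nat_lit 5) Steps.nil)))) (nat_lit 44) (nat_lit 3),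
  Rule.mk (nat_lit 9) (nat_lit 23) (Steps.bwd (nat_lit 9) (Steps.fwd (nat_lit 4096) Steps.nil)) (nat_lit 37) (nat_lit 0),
  Rule.mk (nat_lit 6) (nat_lit 59) (Steps.bwd (nat_lit 9) (Steps.fwd (nat_lit 3072) (Steps.fwd (nat_lit 3584) (Steps.bwd (nat_lit 5) (Steps.fwd (nat_lit 1024) (Steps.bwd (nat_lit 9) Steps.nil)))))) (nat_lit 47) (nat_lit 5),
  Rule.mk (nat_lit 0) (nat_lit 68) (Steps.bwd (nat_lit 6) (Steps.fwd (nat_lit 4608) (Steps.fwd (nat_lit 1536) (Steps.fwd (nat_lit 2560) (Steps.fwd (nat_lit 3584) (Steps.bwd (nat_lit 6) (Steps.fwd (nat_lit 4608) Steps.nil))))))) (nat_lit 46) (nat_lit 2),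
  Rule.mk (nat_lit 0) (nat_lit 32) (Steps.bwd (nat_lit 9) (Steps.fwd (nat_lit 0) (Steps.bwd (nat_lit 8) Steps.nil))) (nat_lit 48) (nat_lit 0),
  Rule.mk (nat_lit 0) (nat_lit 32) (Steps.fwd (nat_lit 2048) (Steps.fwd (nat_lit 0) (Steps.bwd (nat_lit 4) Steps.nil))) (nat_lit 48) (nat_lit 0),
  Rule.mk (nat_lit 0) (nat_lit 41) (Steps.bwd (nat_lit 0) (Steps.bwd (nat_lit 8) (Steps.bwd (nat_lit 0) (Steps.fwd (nat_lit 4096) Steps.nil)))) (nat_lit 48) (nat_lit 0),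
  Rule.mk (nat_lit 9) (nat_lit 23) (Steps.bwd (nat_lit 0) (Steps.bwd (nat_lit 8) Steps.nil)) (nat_lit 48) (nat_lit 0)]
noncomputable def R : List (List (Rule)) := [R_0]
def LW : List Word := [[], [0], [2], [3], [4], [6], [8], [10], [12], [13], [0], [1], [2], [3], [4], [5], [6], [7], [8], [9], [10], [11]]
def par : Par := ⟨9, 5, 14, 23, 511, 16383, 8388607⟩
theorem hpar : par.ok := by decide
theorem hR0_0 : lall (R) (fun l => lall l (ruleOK Rw13 LW par)) = true := by decide +kernel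
theorem hR0 : lall (R) (fun l => lall l (ruleOK Rw13 LW par)) = true := hR0_0
theorem hR : RulesOK Rw13 LW par R := rulesOK_of rfl hR0
def cols : List (ℕ × ℕ) := [(512, 1), (1024, 3), (2048, 4), (2560, 5), (3072, 6), (3584, 7), (4096, 9)]
theorem hcols : lall cols (colOK Rw13 LW par) = true := by decide +kernel
noncomputable def JS0 : List ℕ := [nat_lit 0x8c016080001c00a87c001ea07000039804001a02014020090040c05038203110c85e0030c05c00f0b0002ce0b00c2c20a8102a10b05c2ad0a01028c0a01c28b0981c26a0901c2490084d000038482201011c0c0503824221030001e0207941c0000838800070101c3068041a206010181]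
theorem S0_c : blocks (facts 9 5 14 23 511 16383 8388607 9 511 5 31 A R 32) 32 JS0 268 = true := by decide +kernel
theorem S0 : On (Step.{u} Rw13 LW par A) 268 300 :=
  steps_of_blocks hpar hR S0_c (by decide +kernel)
theorem D0_c : allB (defOK 9 14 23 511 8388607 263 A K) 1 2 = true := by decide +kernel
theorem D0 : On (fun r => defOK par.W par.WL par.E par.mW par.mE 263 A K r = true) 256 384 :=
  On.of_allB D0_c
noncomputable def JW0 : List ℕ := [nat_lit 0x1110042110461204a]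
theorem W0_c : blocks (rows 9 5 14 23 511 16383 8388607 10 1023 70 A 300 1 cols 18) 18 JW0 0 = true := by decide +kernel
theorem W0 : On (Row.{u} Rw13 LW par A 300 1 cols) 0 18 :=
  rows_of_blocks hpar (by decide) hcols W0_c (by decide +kernel)
theorem idx : Idx.{u} Rw13 [[0], [2], [4], [6], [8], [10], [12]] [[0], [2], [4], [6], [8], [10]] 1 :=
  idx_of_cert hpar hR (K := K) (by decide +kernel) (T := 263) (T' := 384) (by decide) D0
    (subs := [1,2,4,5,6,7]) (by decide +kernel) (T1 := 268) (by decide) (N := 300) S0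
    (by decide) (n' := 18) (by decide) W0 (by decide +kernel) (by decide +kernel)
end w13
namespace w20
noncomputable def A_0 : List (ℕ) := [nat_lit 0x12000000020100080600201c00806001a11084822209038c110894220c104420207814410081c200f383c1210701900e04041a0708300a90602820b01a014074828106048244090424120448201050401ca07038c0e0630140c403014a0602900a0538140860200ca0402080803380c0620180840201040402400400801008a02009c0201280402300804201001c00003000005000008000008000008002420604501008041e0f10141c8068350060624160b481414504825204041c0e07400c0c10201420302100403200404600805000]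
noncomputable def A : List (List (ℕ)) := [A_0]
noncomputable def K_0 : List (ℕ) := [nat_lit 0x446210f87436190b854261107834160903814060000]
noncomputable def K : List (List (ℕ)) := [K_0]
noncomputable def R_0 : List (Rule) := [Rule.mk (nat_lit 1) (nat_lit 33) (Steps.bwd (nat_lit 8) (Steps.fwd (nat_lit 512) (Steps.fwd (nat_lit 4096) Steps.nil))) (nat_lit 38) (nat_lit 0),
  Rule.mk (nat_lit 3) (nat_lit 33) (Steps.bwd (nat_lit 8) (Steps.bwd (nat_lit 2) (Steps.fwd (nat_lit 4096) Steps.nil))) (nat_lit 40) (nat_lit 0),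
  Rule.mk (nat_lit 5) (nat_lit 33) (Steps.bwd (nat_lit 8) (Steps.fwd (nat_lit 3584) (Steps.fwd (nat_lit 4096) Steps.nil))) (nat_lit 42) (nat_lit 0),
  Rule.mk (nat_lit 7) (nat_lit 42) (Steps.bwd (nat_lit 8) (Steps.fwd (nat_lit 2560) (Steps.fwd (nat_lit 4096) (Steps.fwd (nat_lit 2560) Steps.nil)))) (nat_lit 44) (nat_lit 0),
  Rule.mk (nat_lit 5) (nat_lit 42) (Steps.bwd (nat_lit 6) (Steps.fwd (nat_lit 2560) (Steps.fwd (nat_lit 3584) (Steps.fwd (nat_lit 3072) Steps.nil)))) (nat_lit 24) (nat_lit 2),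
  Rule.mk (nat_lit 8) (nat_lit 51) (Steps.bwd (nat_lit 6) (Steps.bwd (nat_lit 8) (Steps.bwd (nat_lit 2) (Steps.bwd (nat_lit 2) (Steps.fwd (nat_lit 3072) Steps.nil))))) (nat_lit 46) (nat_lit 2),
  Rule.mk (nat_lit 8) (nat_lit 24) (Steps.bwd (nat_lit 8) (Steps.bwd (nat_lit 8) Steps.nil)) (nat_lit 36) (nat_lit 0),
  Rule.mk (nat_lit 1) (nat_lit 33) (Steps.fwd (nat_lit 4096) (Steps.fwd (nat_lit 512) (Steps.bwd (nat_lit 8) Steps.nil))) (nat_lit 38) (nat_lit 2),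
  Rule.mk (nat_lit 2) (nat_lit 33) (Steps.fwd (nat_lit 4096) (Steps.fwd (nat_lit 1024) (Steps.bwd (nat_lit 8) Steps.nil))) (nat_lit 40) (nat_lit 2),
  Rule.mk (nat_lit 2) (nat_lit 33) (Steps.bwd (nat_lit 4) (Steps.fwd (nat_lit 1536) (Steps.fwd (nat_lit 2048) Steps.nil))) (nat_lit 14) (nat_lit 0),
  Rule.mk (nat_lit 7) (nat_lit 33) (Steps.bwd (nat_lit 4) (Steps.fwd (nat_lit 3584) (Steps.fwd (nat_lit 2048) Steps.nil))) (nat_lit 30) (nat_lit 1),
  Rule.mk (nat_lit 2) (nat_lit 33) (Steps.bwd (nat_lit 4) (Steps.bwd (nat_lit 2) (Steps.fwd (nat_lit 2048) Steps.nil))) (nat_lit 14) (nat_lit 0),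
  Rule.mk (nat_lit 5) (nat_lit 33) (Steps.bwd (nat_lit 4) (Steps.bwd (nat_lit 6) (Steps.fwd (nat_lit 2048) Steps.nil))) (nat_lit 22) (nat_lit 2),
  Rule.mk (nat_lit 6) (nat_lit 33) (Steps.bwd (nat_lit 4) (Steps.fwd (nat_lit 2560) (Steps.fwd (nat_lit 2048) Steps.nil))) (nat_lit 22) (nat_lit 0),
  Rule.mk (nat_lit 7) (nat_lit 33) (Steps.bwd (nat_lit 1) (Steps.fwd (nat_lit 3584) (Steps.fwd (nat_lit 512) Steps.nil))) (nat_lit 26) (nat_lit 1),
  Rule.mk (nat_lit 4) (nat_lit 51) (Steps.bwd (nat_lit 1) (Steps.bwd (nat_lit 4) (Steps.fwd (nat_lit 512) (Steps.fwd (nat_lit 2048) (Steps.fwd (nat_lit 512) Steps.nil))))) (nat_lit 16) (nat_lit 0),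
  Rule.mk (nat_lit 5) (nat_lit 33) (Steps.bwd (nat_lit 1) (Steps.fwd (nat_lit 2560) (Steps.fwd (nat_lit 512) Steps.nil))) (nat_lit 18) (nat_lit 0),
  Rule.mk (nat_lit 6) (nat_lit 33) (Steps.fwd (nat_lit 2048) (Steps.bwd (nat_lit 5) (Steps.fwd (nat_lit 2048) Steps.nil))) (nat_lit 22) (nat_lit 0),
  Rule.mk (nat_lit 5) (nat_lit 33) (Steps.bwd (nat_lit 7) (Steps.fwd (nat_lit 2560) (Steps.fwd (nat_lit 3584) Steps.nil))) (nat_lit 32) (nat_lit 0),
  Rule.mk (nat_lit 9) (nat_lit 42) (Steps.fwd (nat_lit 2560) (Steps.bwd (nat_lit 7) (Steps.bwd (nat_lit 8) (Steps.bwd (nat_lit 5) Steps.nil)))) (nat_lit 44) (nat_lit 3),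
  Rule.mk (nat_lit 9) (nat_lit 24) (Steps.bwd (nat_lit 9) (Steps.bwd (nat_lit 9) Steps.nil)) (nat_lit 37) (nat_lit 0),
  Rule.mk (nat_lit 2) (nat_lit 33) (Steps.bwd (nat_lit 9) (Steps.fwd (nat_lit 1024) (Steps.fwd (nat_lit 4608) Steps.nil))) (nat_lit 40) (nat_lit 2),
  Rule.mk (nat_lit 6) (nat_lit 51) (Steps.bwd (nat_lit 9) (Steps.fwd (nat_lit 3072) (Steps.fwd (nat_lit 1024) (Steps.fwd (nat_lit 1024) (Steps.bwd (nat_lit 9) Steps.nil))))) (nat_lit 47) (nat_lit 4),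
  Rule.mk (nat_lit 9) (nat_lit 33) (Steps.bwd (nat_lit 5) (Steps.fwd (nat_lit 4608) (Steps.bwd (nat_lit 7) Steps.nil))) (nat_lit 42) (nat_lit 3),
  Rule.mk (nat_lit 8) (nat_lit 42) (Steps.bwd (nat_lit 5) (Steps.bwd (nat_lit 9) (Steps.fwd (nat_lit 2560) (Steps.fwd (nat_lit 3584) Steps.nil)))) (nat_lit 44) (nat_lit 1),
  Rule.mk (nat_lit 1) (nat_lit 33) (Steps.bwd (nat_lit 9) (Steps.bwd (nat_lit 1) (Steps.bwd (nat_lit 8) Steps.nil))) (nat_lit 38) (nat_lit 2),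
  Rule.mk (nat_lit 1) (nat_lit 33) (Steps.bwd (nat_lit 9) (Steps.fwd (nat_lit 512) (Steps.fwd (nat_lit 4608) Steps.nil))) (nat_lit 38) (nat_lit 2),
  Rule.mk (nat_lit 1) (nat_lit 33) (Steps.bwd (nat_lit 8) (Steps.bwd (nat_lit 1) (Steps.bwd (nat_lit 9) Steps.nil))) (nat_lit 38) (nat_lit 0),
  Rule.mk (nat_lit 1) (nat_lit 33) (Steps.bwd (nat_lit 8) (Steps.fwd (nat_lit 512) (Steps.bwd (nat_lit 9) Steps.nil))) (nat_lit 38) (nat_lit 0),
  Rule.mk (nat_lit 7) (nat_lit 33) (Steps.bwd (nat_lit 2) (Steps.fwd (nat_lit 3584) (Steps.fwd (nat_lit 1024) Steps.nil))) (nat_lit 28) (nat_lit 1),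
  Rule.mk (nat_lit 2) (nat_lit 51) (Steps.bwd (nat_lit 1) (Steps.bwd (nat_lit 2) (Steps.bwd (nat_lit 1) (Steps.bwd (nat_lit 2) (Steps.fwd (nat_lit 512) Steps.nil))))) (nat_lit 12) (nat_lit 0),
  Rule.mk (nat_lit 2) (nat_lit 24) (Steps.bwd (nat_lit 2) (Steps.bwd (nat_lit 2) Steps.nil)) (nat_lit 2) (nat_lit 0),
  Rule.mk (nat_lit 2) (nat_lit 33) (Steps.bwd (nat_lit 8) (Steps.fwd (nat_lit 1024) (Steps.bwd (nat_lit 9) Steps.nil))) (nat_lit 41) (nat_lit 1),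
  Rule.mk (nat_lit 6) (nat_lit 51) (Steps.bwd (nat_lit 8) (Steps.bwd (nat_lit 2) (Steps.bwd (nat_lit 2) (Steps.fwd (nat_lit 3072) (Steps.bwd (nat_lit 8) Steps.nil))))) (nat_lit 46) (nat_lit 3),
  Rule.mk (nat_lit 1) (nat_lit 51) (Steps.bwd (nat_lit 2) (Steps.fwd (nat_lit 512) (Steps.fwd (nat_lit 1536) (Steps.bwd (nat_lit 1) (Steps.bwd (nat_lit 2) Steps.nil))))) (nat_lit 12) (nat_lit 1),
  Rule.mk (nat_lit 0) (nat_lit 132) (Steps.fwd (nat_lit 512) (Steps.bwd (nat_lit 6) (Steps.bwd (nat_lit 1) (Steps.bwd (nat_lit 6) (Steps.fwd (nat_lit 2560) (Steps.bwd (nat_lit 2) (Steps.fwd (nat_lit 512) (Steps.fwd (nat_lit 3072) (Steps.fwd (nat_lit 512) (Steps.bwd (nat_lit 2) (Steps.bwd (nat_lit 1) (Steps.bwd (nat_lit 6) (Steps.bwd (nat_lit 1) (Steps.bwd (nat_lit 2) Steps.nil)))))))))))))) (nat_lit 34) (nat_lit 9),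
  Rule.mk (nat_lit 0) (nat_lit 33) (Steps.bwd (nat_lit 1) (Steps.fwd (nat_lit 0) (Steps.fwd (nat_lit 512) Steps.nil))) (nat_lit 48) (nat_lit 0),
  Rule.mk (nat_lit 0) (nat_lit 33) (Steps.bwd (nat_lit 9) (Steps.fwd (nat_lit 0) (Steps.bwd (nat_lit 8) Steps.nil))) (nat_lit 48) (nat_lit 0),
  Rule.mk (nat_lit 0) (nat_lit 33) (Steps.fwd (nat_lit 2048) (Steps.fwd (nat_lit 0) (Steps.bwd (nat_lit 4) Steps.nil))) (nat_lit 48) (nat_lit 0),
  Rule.mk (nat_lit 0) (nat_lit 42) (Steps.bwd (nat_lit 0) (Steps.bwd (nat_lit 8) (Steps.bwd (nat_lit 0) (Steps.fwd (nat_lit 4096) Steps.nil)))) (nat_lit 48) (nat_lit 0),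
  Rule.mk (nat_lit 9) (nat_lit 24) (Steps.bwd (nat_lit 0) (Steps.bwd (nat_lit 8) Steps.nil)) (nat_lit 48) (nat_lit 0)]
noncomputable def R : List (List (Rule)) := [R_0]
def LW : List Word := [[], [0], [2], [3], [4], [6], [8], [10], [12], [13], [0], [1], [2], [3], [4], [5], [6], [7], [8], [9], [10], [11]]
def par : Par := ⟨9, 5, 14, 23, 511, 16383, 8388607⟩
theorem hpar : par.ok := by decide
theorem hR0_0 : lall (R) (fun l => lall l (ruleOK Rw20 LW par)) = true := by decide +kernel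
theorem hR0 : lall (R) (fun l => lall l (ruleOK Rw20 LW par)) = true := hR0_0
theorem hR : RulesOK Rw20 LW par R := rulesOK_of rfl hR0
def cols : List (ℕ × ℕ) := [(512, 1), (1024, 3), (2048, 4), (2560, 5), (3072, 6), (3584, 7), (4096, 9)]
theorem hcols : lall cols (colOK Rw20 LW par) = true := by decide +kernel
noncomputable def JS0 : List ℕ := [nat_lit 0x8188a9c0180454d8a852a8005e2968200e150a591500850c0081a0d058a17138304eb0004ca8244e26002825000953128244a18901224080001012423128244a23404603112222120384822404203109e2104084e1088840687c041f303e060f961e03878a01030044804180120001d1c0c090487036306800010d0a000d01434206404190c30050c04170285c1,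
  nat_lit 0x11c0148a400280050430010a71f0002d3034000c94620001024240901000020301024220b90060b0b02c6118085f001c2a31010be21700c5c1820022d84002e806e1a1b8b458f8ac002b3c561315bc09008add158a87]
theorem S0_c : blocks (facts 9 5 14 23 511 16383 8388607 9 511 6 63 A R 32) 32 JS0 279 = true := by decide +kernel
theorem S0 : On (Step.{u} Rw20 LW par A) 279 343 :=
  steps_of_blocks hpar hR S0_c (by decide +kernel)
theorem D0_c : allB (defOK 9 14 23 511 8388607 274 A K) 1 2 = true := by decide +kernel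
theorem D0 : On (fun r => defOK par.W par.WL par.E par.mW par.mE 274 A K r = true) 256 384 :=
  On.of_allB D0_c
noncomputable def JW0 : List ℕ := [nat_lit 0x1f20082210862208a]
theorem W0_c : blocks (rows 9 5 14 23 511 16383 8388607 10 1023 70 A 343 1 cols 18) 18 JW0 0 = true := by decide +kernel
theorem W0 : On (Row.{u} Rw20 LW par A 343 1 cols) 0 18 :=
  rows_of_blocks hpar (by decide) hcols W0_c (by decide +kernel)
theorem idx : Idx.{u} Rw20 [[0], [2], [4], [6], [8], [10], [12]] [[0], [2], [4], [6], [8], [10]] 1 :=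
  idx_of_cert hpar hR (K := K) (by decide +kernel) (T := 274) (T' := 384) (by decide) D0
    (subs := [1,2,4,5,6,7]) (by decide +kernel) (T1 := 279) (by decide) (N := 343) S0
    (by decide) (n' := 18) (by decide) W0 (by decide +kernel) (by decide +kernel)
end w20
namespace w21
noncomputable def A_0 : List (ℕ) := [nat_lit 0x24000000040200100c004031c0c0630140c20300d00601940803380c0660180c403008c0201380402500808c0101140402380804201001002001c00003000005000008000008000008000c80281500302100403200404800805000]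
noncomputable def A : List (List (ℕ)) := [A_0]
noncomputable def K_0 : List (ℕ) := [nat_lit 0x4160903814060000]
noncomputable def K : List (List (ℕ)) := [K_0]
noncomputable def R_0 : List (Rule) := [Rule.mk (nat_lit 8) (nat_lit 23) (Steps.bwd (nat_lit 8) (Steps.bwd (nat_lit 8) Steps.nil)) (nat_lit 36) (nat_lit 0),
  Rule.mk (nat_lit 2) (nat_lit 32) (Steps.fwd (nat_lit 4096) (Steps.fwd (nat_lit 1024) (Steps.bwd (nat_lit 8) Steps.nil))) (nat_lit 40) (nat_lit 2),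
  Rule.mk (nat_lit 7) (nat_lit 32) (Steps.fwd (nat_lit 4096) (Steps.fwd (nat_lit 2560) (Steps.bwd (nat_lit 8) Steps.nil))) (nat_lit 42) (nat_lit 2),
  Rule.mk (nat_lit 5) (nat_lit 41) (Steps.fwd (nat_lit 4096) (Steps.fwd (nat_lit 2560) (Steps.fwd (nat_lit 3584) (Steps.bwd (nat_lit 8) Steps.nil)))) (nat_lit 44) (nat_lit 2),
  Rule.mk (nat_lit 6) (nat_lit 59) (Steps.bwd (nat_lit 8) (Steps.fwd (nat_lit 3072) (Steps.bwd (nat_lit 8) (Steps.bwd (nat_lit 2) (Steps.bwd (nat_lit 2) (Steps.fwd (nat_lit 3584) Steps.nil)))))) (nat_lit 46) (nat_lit 1),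
  Rule.mk (nat_lit 5) (nat_lit 41) (Steps.fwd (nat_lit 3072) (Steps.fwd (nat_lit 2560) (Steps.fwd (nat_lit 3584) (Steps.bwd (nat_lit 6) Steps.nil)))) (nat_lit 24) (nat_lit 2),
  Rule.mk (nat_lit 7) (nat_lit 41) (Steps.fwd (nat_lit 2560) (Steps.fwd (nat_lit 3072) (Steps.fwd (nat_lit 2560) (Steps.bwd (nat_lit 6) Steps.nil)))) (nat_lit 25) (nat_lit 1),
  Rule.mk (nat_lit 3) (nat_lit 32) (Steps.fwd (nat_lit 4096) (Steps.bwd (nat_lit 2) (Steps.bwd (nat_lit 8) Steps.nil))) (nat_lit 41) (nat_lit 3),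
  Rule.mk (nat_lit 2) (nat_lit 32) (Steps.bwd (nat_lit 4) (Steps.fwd (nat_lit 1536) (Steps.fwd (nat_lit 2048) Steps.nil))) (nat_lit 14) (nat_lit 0),
  Rule.mk (nat_lit 6) (nat_lit 32) (Steps.bwd (nat_lit 4) (Steps.fwd (nat_lit 2560) (Steps.fwd (nat_lit 2048) Steps.nil))) (nat_lit 22) (nat_lit 0),
  Rule.mk (nat_lit 7) (nat_lit 32) (Steps.bwd (nat_lit 4) (Steps.fwd (nat_lit 3584) (Steps.fwd (nat_lit 2048) Steps.nil))) (nat_lit 30) (nat_lit 1),
  Rule.mk (nat_lit 5) (nat_lit 32) (Steps.bwd (nat_lit 4) (Steps.bwd (nat_lit 6) (Steps.fwd (nat_lit 2048) Steps.nil))) (nat_lit 22) (nat_lit 2),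
  Rule.mk (nat_lit 6) (nat_lit 59) (Steps.bwd (nat_lit 8) (Steps.bwd (nat_lit 2) (Steps.bwd (nat_lit 2) (Steps.fwd (nat_lit 3584) (Steps.fwd (nat_lit 3072) (Steps.bwd (nat_lit 8) Steps.nil)))))) (nat_lit 46) (nat_lit 3),
  Rule.mk (nat_lit 7) (nat_lit 59) (Steps.bwd (nat_lit 6) (Steps.bwd (nat_lit 8) (Steps.fwd (nat_lit 3072) (Steps.bwd (nat_lit 8) (Steps.bwd (nat_lit 2) (Steps.bwd (nat_lit 2) Steps.nil)))))) (nat_lit 46) (nat_lit 0),
  Rule.mk (nat_lit 0) (nat_lit 41) (Steps.fwd (nat_lit 2560) (Steps.bwd (nat_lit 8) (Steps.fwd (nat_lit 3584) (Steps.fwd (nat_lit 4096) Steps.nil)))) (nat_lit 42) (nat_lit 3),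
  Rule.mk (nat_lit 0) (nat_lit 32) (Steps.fwd (nat_lit 2048) (Steps.fwd (nat_lit 0) (Steps.bwd (nat_lit 4) Steps.nil))) (nat_lit 48) (nat_lit 0),
  Rule.mk (nat_lit 0) (nat_lit 41) (Steps.bwd (nat_lit 0) (Steps.bwd (nat_lit 8) (Steps.bwd (nat_lit 0) (Steps.fwd (nat_lit 4096) Steps.nil)))) (nat_lit 48) (nat_lit 0),
  Rule.mk (nat_lit 9) (nat_lit 23) (Steps.bwd (nat_lit 0) (Steps.bwd (nat_lit 8) Steps.nil)) (nat_lit 48) (nat_lit 0)]
noncomputable def R : List (List (Rule)) := [R_0]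
def LW : List Word := [[], [0], [2], [3], [4], [6], [8], [10], [12], [13], [0], [1], [2], [3], [4], [5], [6], [7], [8], [9], [10], [11]]
def par : Par := ⟨9, 5, 14, 23, 511, 16383, 8388607⟩
theorem hpar : par.ok := by decide
theorem hR0_0 : lall (R) (fun l => lall l (ruleOK Rw21 LW par)) = true := by decide +kernel
theorem hR0 : lall (R) (fun l => lall l (ruleOK Rw21 LW par)) = true := hR0_0
theorem hR : RulesOK Rw21 LW par R := rulesOK_of rfl hR0
def cols : List (ℕ × ℕ) := [(512, 1), (1024, 3), (2048, 4), (2560, 5), (3072, 6), (3584, 7), (4096, 9)]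
theorem hcols : lall cols (colOK Rw21 LW par) = true := by decide +kernel
noncomputable def JS0 : List ℕ := [nat_lit 0x7801208800380088680019800c0003023c0201010142c0070040803028142ad00010002098482140304d8130184d6120184941100045211028450010100400700008020030040402018141e50100c0a022004080118000a00102c141]
theorem S0_c : blocks (facts 9 5 14 23 511 16383 8388607 9 511 5 31 A R 32) 32 JS0 267 = true := by decide +kernel
theorem S0 : On (Step.{u} Rw21 LW par A) 267 299 :=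
  steps_of_blocks hpar hR S0_c (by decide +kernel)
theorem D0_c : allB (defOK 9 14 23 511 8388607 262 A K) 1 2 = true := by decide +kernel
theorem D0 : On (fun r => defOK par.W par.WL par.E par.mW par.mE 262 A K r = true) 256 384 :=
  On.of_allB D0_c
noncomputable def JW0 : List ℕ := [nat_lit 0x1910042110461204a]
theorem W0_c : blocks (rows 9 5 14 23 511 16383 8388607 10 1023 70 A 299 1 cols 18) 18 JW0 0 = true := by decide +kernel
theorem W0 : On (Row.{u} Rw21 LW par A 299 1 cols) 0 18 :=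
  rows_of_blocks hpar (by decide) hcols W0_c (by decide +kernel)
theorem idx : Idx.{u} Rw21 [[0], [2], [4], [6], [8], [10], [12]] [[0], [2], [4], [6], [8], [10]] 1 :=
  idx_of_cert hpar hR (K := K) (by decide +kernel) (T := 262) (T' := 384) (by decide) D0
    (subs := [1,2,4,5,6,7]) (by decide +kernel) (T1 := 267) (by decide) (N := 299) S0
    (by decide) (n' := 18) (by decide) W0 (by decide +kernel) (by decide +kernel)
end w21
namespace w22
noncomputable def A_0 : List (ℕ) := [nat_lit 0x12000000020100080600201c00806001a11084822209038c110894220d104420207814410081c200f383c1210701500e03841a0808301410582120a0220140830241220481d2090224100828200e50381c60703180a0620180a503014805029c0a04301006502010404019c0603300c0620180840201040402400400801008a02009c0201280402300804201001c00003000005000008000008000008002420684501008041e0f10141c8068350050624160b481814603825203041c0e07400c0c10201420302100403200404600805000]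
noncomputable def A : List (List (ℕ)) := [A_0]
noncomputable def K_0 : List (ℕ) := [nat_lit 0x446210f87436190b854261107834160903814060000]
noncomputable def K : List (List (ℕ)) := [K_0]
noncomputable def R_0 : List (Rule) := [Rule.mk (nat_lit 1) (nat_lit 33) (Steps.bwd (nat_lit 8) (Steps.fwd (nat_lit 512) (Steps.fwd (nat_lit 4096) Steps.nil))) (nat_lit 38) (nat_lit 0),
  Rule.mk (nat_lit 3) (nat_lit 33) (Steps.bwd (nat_lit 8) (Steps.bwd (nat_lit 2) (Steps.fwd (nat_lit 4096) Steps.nil))) (nat_lit 40) (nat_lit 0),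
  Rule.mk (nat_lit 5) (nat_lit 33) (Steps.bwd (nat_lit 8) (Steps.fwd (nat_lit 3584) (Steps.fwd (nat_lit 4096) Steps.nil))) (nat_lit 42) (nat_lit 0),
  Rule.mk (nat_lit 7) (nat_lit 42) (Steps.bwd (nat_lit 8) (Steps.fwd (nat_lit 2560) (Steps.fwd (nat_lit 4096) (Steps.fwd (nat_lit 2560) Steps.nil)))) (nat_lit 44) (nat_lit 0),
  Rule.mk (nat_lit 5) (nat_lit 42) (Steps.bwd (nat_lit 6) (Steps.fwd (nat_lit 2560) (Steps.fwd (nat_lit 3584) (Steps.fwd (nat_lit 3072) Steps.nil)))) (nat_lit 24) (nat_lit 2),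
  Rule.mk (nat_lit 8) (nat_lit 60) (Steps.bwd (nat_lit 6) (Steps.bwd (nat_lit 8) (Steps.bwd (nat_lit 2) (Steps.bwd (nat_lit 2) (Steps.fwd (nat_lit 2560) (Steps.fwd (nat_lit 3072) Steps.nil)))))) (nat_lit 46) (nat_lit 2),
  Rule.mk (nat_lit 8) (nat_lit 24) (Steps.bwd (nat_lit 8) (Steps.bwd (nat_lit 8) Steps.nil)) (nat_lit 36) (nat_lit 0),
  Rule.mk (nat_lit 1) (nat_lit 33) (Steps.fwd (nat_lit 4096) (Steps.fwd (nat_lit 512) (Steps.bwd (nat_lit 8) Steps.nil))) (nat_lit 38) (nat_lit 2),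
  Rule.mk (nat_lit 2) (nat_lit 33) (Steps.fwd (nat_lit 4096) (Steps.fwd (nat_lit 1024) (Steps.bwd (nat_lit 8) Steps.nil))) (nat_lit 40) (nat_lit 2),
  Rule.mk (nat_lit 2) (nat_lit 33) (Steps.bwd (nat_lit 4) (Steps.fwd (nat_lit 1536) (Steps.fwd (nat_lit 2048) Steps.nil))) (nat_lit 14) (nat_lit 0),
  Rule.mk (nat_lit 6) (nat_lit 33) (Steps.bwd (nat_lit 4) (Steps.fwd (nat_lit 2560) (Steps.fwd (nat_lit 2048) Steps.nil))) (nat_lit 22) (nat_lit 0),
  Rule.mk (nat_lit 7) (nat_lit 33) (Steps.bwd (nat_lit 4) (Steps.fwd (nat_lit 3584) (Steps.fwd (nat_lit 2048) Steps.nil))) (nat_lit 30) (nat_lit 1),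
  Rule.mk (nat_lit 2) (nat_lit 33) (Steps.bwd (nat_lit 4) (Steps.bwd (nat_lit 2) (Steps.fwd (nat_lit 2048) Steps.nil))) (nat_lit 14) (nat_lit 0),
  Rule.mk (nat_lit 5) (nat_lit 33) (Steps.bwd (nat_lit 4) (Steps.bwd (nat_lit 6) (Steps.fwd (nat_lit 2048) Steps.nil))) (nat_lit 22) (nat_lit 2),
  Rule.mk (nat_lit 7) (nat_lit 33) (Steps.bwd (nat_lit 1) (Steps.fwd (nat_lit 3584) (Steps.fwd (nat_lit 512) Steps.nil))) (nat_lit 26) (nat_lit 1),
  Rule.mk (nat_lit 4) (nat_lit 51) (Steps.bwd (nat_lit 1) (Steps.bwd (nat_lit 4) (Steps.fwd (nat_lit 512) (Steps.fwd (nat_lit 2048) (Steps.fwd (nat_lit 512) Steps.nil))))) (nat_lit 16) (nat_lit 0),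
  Rule.mk (nat_lit 5) (nat_lit 33) (Steps.bwd (nat_lit 1) (Steps.fwd (nat_lit 2560) (Steps.fwd (nat_lit 512) Steps.nil))) (nat_lit 18) (nat_lit 0),
  Rule.mk (nat_lit 6) (nat_lit 33) (Steps.fwd (nat_lit 2048) (Steps.bwd (nat_lit 5) (Steps.fwd (nat_lit 2048) Steps.nil))) (nat_lit 22) (nat_lit 0),
  Rule.mk (nat_lit 5) (nat_lit 33) (Steps.bwd (nat_lit 7) (Steps.fwd (nat_lit 2560) (Steps.fwd (nat_lit 3584) Steps.nil))) (nat_lit 32) (nat_lit 0),
  Rule.mk (nat_lit 9) (nat_lit 42) (Steps.fwd (nat_lit 2560) (Steps.bwd (nat_lit 7) (Steps.bwd (nat_lit 8) (Steps.bwd (nat_lit 5) Steps.nil)))) (nat_lit 44) (nat_lit 3),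
  Rule.mk (nat_lit 9) (nat_lit 24) (Steps.bwd (nat_lit 9) (Steps.fwd (nat_lit 4096) Steps.nil)) (nat_lit 37) (nat_lit 0),
  Rule.mk (nat_lit 2) (nat_lit 33) (Steps.bwd (nat_lit 9) (Steps.fwd (nat_lit 1024) (Steps.fwd (nat_lit 4608) Steps.nil))) (nat_lit 40) (nat_lit 2),
  Rule.mk (nat_lit 6) (nat_lit 60) (Steps.bwd (nat_lit 9) (Steps.fwd (nat_lit 3072) (Steps.bwd (nat_lit 5) (Steps.fwd (nat_lit 1024) (Steps.fwd (nat_lit 1024) (Steps.bwd (nat_lit 9) Steps.nil)))))) (nat_lit 47) (nat_lit 5),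
  Rule.mk (nat_lit 8) (nat_lit 60) (Steps.bwd (nat_lit 6) (Steps.bwd (nat_lit 8) (Steps.bwd (nat_lit 2) (Steps.bwd (nat_lit 2) (Steps.bwd (nat_lit 5) (Steps.fwd (nat_lit 3072) Steps.nil)))))) (nat_lit 46) (nat_lit 2),
  Rule.mk (nat_lit 9) (nat_lit 60) (Steps.bwd (nat_lit 6) (Steps.fwd (nat_lit 2560) (Steps.bwd (nat_lit 3) (Steps.bwd (nat_lit 3) (Steps.bwd (nat_lit 9) (Steps.fwd (nat_lit 3072) Steps.nil)))))) (nat_lit 47) (nat_lit 6),
  Rule.mk (nat_lit 1) (nat_lit 33) (Steps.bwd (nat_lit 9) (Steps.bwd (nat_lit 1) (Steps.bwd (nat_lit 8) Steps.nil))) (nat_lit 38) (nat_lit 2),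
  Rule.mk (nat_lit 1) (nat_lit 33) (Steps.bwd (nat_lit 9) (Steps.fwd (nat_lit 512) (Steps.fwd (nat_lit 4608) Steps.nil))) (nat_lit 38) (nat_lit 2),
  Rule.mk (nat_lit 1) (nat_lit 33) (Steps.bwd (nat_lit 8) (Steps.bwd (nat_lit 1) (Steps.fwd (nat_lit 4096) Steps.nil))) (nat_lit 38) (nat_lit 0),
  Rule.mk (nat_lit 1) (nat_lit 33) (Steps.bwd (nat_lit 8) (Steps.fwd (nat_lit 512) (Steps.bwd (nat_lit 9) Steps.nil))) (nat_lit 38) (nat_lit 0),
  Rule.mk (nat_lit 7) (nat_lit 33) (Steps.bwd (nat_lit 2) (Steps.fwd (nat_lit 3584) (Steps.fwd (nat_lit 1024) Steps.nil))) (nat_lit 28) (nat_lit 1),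
  Rule.mk (nat_lit 2) (nat_lit 51) (Steps.bwd (nat_lit 1) (Steps.bwd (nat_lit 2) (Steps.bwd (nat_lit 1) (Steps.bwd (nat_lit 2) (Steps.fwd (nat_lit 512) Steps.nil))))) (nat_lit 12) (nat_lit 0),
  Rule.mk (nat_lit 2) (nat_lit 24) (Steps.bwd (nat_lit 2) (Steps.bwd (nat_lit 2) Steps.nil)) (nat_lit 2) (nat_lit 0),
  Rule.mk (nat_lit 2) (nat_lit 33) (Steps.bwd (nat_lit 8) (Steps.fwd (nat_lit 1024) (Steps.fwd (nat_lit 4096) Steps.nil))) (nat_lit 41) (nat_lit 1),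
  Rule.mk (nat_lit 6) (nat_lit 60) (Steps.bwd (nat_lit 8) (Steps.bwd (nat_lit 2) (Steps.bwd (nat_lit 2) (Steps.bwd (nat_lit 5) (Steps.bwd (nat_lit 6) (Steps.bwd (nat_lit 8) Steps.nil)))))) (nat_lit 46) (nat_lit 3),
  Rule.mk (nat_lit 1) (nat_lit 51) (Steps.bwd (nat_lit 2) (Steps.fwd (nat_lit 512) (Steps.fwd (nat_lit 1536) (Steps.bwd (nat_lit 1) (Steps.bwd (nat_lit 2) Steps.nil))))) (nat_lit 12) (nat_lit 1),
  Rule.mk (nat_lit 0) (nat_lit 132) (Steps.fwd (nat_lit 1024) (Steps.fwd (nat_lit 512) (Steps.fwd (nat_lit 3072) (Steps.fwd (nat_lit 512) (Steps.fwd (nat_lit 1024) (Steps.bwd (nat_lit 1) (Steps.bwd (nat_lit 6) (Steps.bwd (nat_lit 1) (Steps.fwd (nat_lit 1024) (Steps.fwd (nat_lit 2560) (Steps.fwd (nat_lit 3072) (Steps.fwd (nat_lit 512) (Steps.fwd (nat_lit 3072) (Steps.bwd (nat_lit 1) Steps.nil)))))))))))))) (nat_lit 35) (nat_lit 5),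
  Rule.mk (nat_lit 0) (nat_lit 33) (Steps.bwd (nat_lit 1) (Steps.bwd (nat_lit 0) (Steps.fwd (nat_lit 512) Steps.nil))) (nat_lit 48) (nat_lit 0),
  Rule.mk (nat_lit 0) (nat_lit 33) (Steps.bwd (nat_lit 9) (Steps.fwd (nat_lit 0) (Steps.bwd (nat_lit 8) Steps.nil))) (nat_lit 48) (nat_lit 0),
  Rule.mk (nat_lit 0) (nat_lit 33) (Steps.fwd (nat_lit 2048) (Steps.fwd (nat_lit 0) (Steps.bwd (nat_lit 4) Steps.nil))) (nat_lit 48) (nat_lit 0),
  Rule.mk (nat_lit 0) (nat_lit 42) (Steps.bwd (nat_lit 0) (Steps.bwd (nat_lit 8) (Steps.bwd (nat_lit 0) (Steps.fwd (nat_lit 4096) Steps.nil)))) (nat_lit 48) (nat_lit 0),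
  Rule.mk (nat_lit 9) (nat_lit 24) (Steps.bwd (nat_lit 0) (Steps.bwd (nat_lit 8) Steps.nil)) (nat_lit 48) (nat_lit 0)]
noncomputable def R : List (List (Rule)) := [R_0]
def LW : List Word := [[], [0], [2], [3], [4], [6], [8], [10], [12], [13], [0], [1], [2], [3], [4], [5], [6], [7], [8], [9], [10], [11]]
def par : Par := ⟨9, 5, 14, 23, 511, 16383, 8388607⟩
theorem hpar : par.ok := by decide
theorem hR0_0 : lall (R) (fun l => lall l (ruleOK Rw22 LW par)) = true := by decide +kernel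
theorem hR0 : lall (R) (fun l => lall l (ruleOK Rw22 LW par)) = true := hR0_0
theorem hR : RulesOK Rw22 LW par R := rulesOK_of rfl hR0
def cols : List (ℕ × ℕ) := [(512, 1), (1024, 3), (2048, 4), (2560, 5), (3072, 6), (3584, 7), (4096, 9)]
theorem hcols : lall cols (colOK Rw22 LW par) = true := by decide +kernel
noncomputable def JS0 : List ℕ := [nat_lit 0x30190a9c0080054d8045e2a6802030381c0c2a64180d08844582960040d068301e295c500f142c2913aa091409c00a09800264c4c09130625050942000040490904c0a1309101200c46888c4a0f1288d01100c44788812222c4423109c2001880d1001c40607c0e1f2c3c070f1402060089008300240003a38180e090487036306800010d0a000d01434206404190c30050c04170285c1,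
  nat_lit 0x238029148005000a08600214e3e000566060001b283020090100c02000102422090100063200c1415050c23010be0038502c31010be21700c5c18c4022d84002e806e1a1b8b458f8ac002b3c561215bc08008add158a87]
theorem S0_c : blocks (facts 9 5 14 23 511 16383 8388607 9 511 6 63 A R 32) 32 JS0 279 = true := by decide +kernel
theorem S0 : On (Step.{u} Rw22 LW par A) 279 343 :=
  steps_of_blocks hpar hR S0_c (by decide +kernel)
theorem D0_c : allB (defOK 9 14 23 511 8388607 274 A K) 1 2 = true := by decide +kernel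
theorem D0 : On (fun r => defOK par.W par.WL par.E par.mW par.mE 274 A K r = true) 256 384 :=
  On.of_allB D0_c
noncomputable def JW0 : List ℕ := [nat_lit 0x1f20082210862208a]
theorem W0_c : blocks (rows 9 5 14 23 511 16383 8388607 10 1023 70 A 343 1 cols 18) 18 JW0 0 = true := by decide +kernel
theorem W0 : On (Row.{u} Rw22 LW par A 343 1 cols) 0 18 :=
  rows_of_blocks hpar (by decide) hcols W0_c (by decide +kernel)
theorem idx : Idx.{u} Rw22 [[0], [2], [4], [6], [8], [10], [12]] [[0], [2], [4], [6], [8], [10]] 1 :=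
  idx_of_cert hpar hR (K := K) (by decide +kernel) (T := 274) (T' := 384) (by decide) D0
    (subs := [1,2,4,5,6,7]) (by decide +kernel) (T1 := 279) (by decide) (N := 343) S0
    (by decide) (n' := 18) (by decide) W0 (by decide +kernel) (by decide +kernel)
end w22
namespace w23
noncomputable def A_0 : List (ℕ) := [nat_lit 0x4800000008040020180080500180c60381520702240c0628180a5028146050194080410100670180cc0301880602100804800801002009c0201280402300800e000018000028000040000040000040007480c0c70281500302100403200404600805000]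
noncomputable def A : List (List (ℕ)) := [A_0]
noncomputable def K_0 : List (ℕ) := [nat_lit 0x834160903814060000]
noncomputable def K : List (List (ℕ)) := [K_0]
noncomputable def R_0 : List (Rule) := [Rule.mk (nat_lit 3) (nat_lit 32) (Steps.bwd (nat_lit 8) (Steps.bwd (nat_lit 2) (Steps.fwd (nat_lit 4096) Steps.nil))) (nat_lit 40) (nat_lit 0),
  Rule.mk (nat_lit 5) (nat_lit 32) (Steps.bwd (nat_lit 8) (Steps.fwd (nat_lit 3584) (Steps.fwd (nat_lit 4096) Steps.nil))) (nat_lit 42) (nat_lit 0),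
  Rule.mk (nat_lit 7) (nat_lit 41) (Steps.bwd (nat_lit 8) (Steps.fwd (nat_lit 2560) (Steps.fwd (nat_lit 4096) (Steps.fwd (nat_lit 2560) Steps.nil)))) (nat_lit 44) (nat_lit 0),
  Rule.mk (nat_lit 8) (nat_lit 68) (Steps.bwd (nat_lit 6) (Steps.bwd (nat_lit 8) (Steps.bwd (nat_lit 2) (Steps.bwd (nat_lit 2) (Steps.fwd (nat_lit 2560) (Steps.fwd (nat_lit 3584) (Steps.fwd (nat_lit 3072) Steps.nil))))))) (nat_lit 46) (nat_lit 2),
  Rule.mk (nat_lit 8) (nat_lit 23) (Steps.bwd (nat_lit 8) (Steps.bwd (nat_lit 8) Steps.nil)) (nat_lit 36) (nat_lit 0),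
  Rule.mk (nat_lit 2) (nat_lit 32) (Steps.fwd (nat_lit 4096) (Steps.fwd (nat_lit 1024) (Steps.bwd (nat_lit 8) Steps.nil))) (nat_lit 40) (nat_lit 2),
  Rule.mk (nat_lit 2) (nat_lit 32) (Steps.bwd (nat_lit 4) (Steps.fwd (nat_lit 1536) (Steps.fwd (nat_lit 2048) Steps.nil))) (nat_lit 14) (nat_lit 0),
  Rule.mk (nat_lit 6) (nat_lit 32) (Steps.bwd (nat_lit 4) (Steps.fwd (nat_lit 2560) (Steps.fwd (nat_lit 2048) Steps.nil))) (nat_lit 22) (nat_lit 0),
  Rule.mk (nat_lit 7) (nat_lit 32) (Steps.bwd (nat_lit 4) (Steps.fwd (nat_lit 3584) (Steps.fwd (nat_lit 2048) Steps.nil))) (nat_lit 30) (nat_lit 1),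
  Rule.mk (nat_lit 2) (nat_lit 32) (Steps.bwd (nat_lit 4) (Steps.bwd (nat_lit 2) (Steps.fwd (nat_lit 2048) Steps.nil))) (nat_lit 14) (nat_lit 0),
  Rule.mk (nat_lit 5) (nat_lit 32) (Steps.bwd (nat_lit 4) (Steps.bwd (nat_lit 6) (Steps.fwd (nat_lit 2048) Steps.nil))) (nat_lit 22) (nat_lit 2),
  Rule.mk (nat_lit 5) (nat_lit 32) (Steps.bwd (nat_lit 7) (Steps.fwd (nat_lit 2560) (Steps.fwd (nat_lit 3584) Steps.nil))) (nat_lit 32) (nat_lit 0),
  Rule.mk (nat_lit 9) (nat_lit 41) (Steps.fwd (nat_lit 2560) (Steps.bwd (nat_lit 7) (Steps.bwd (nat_lit 8) (Steps.bwd (nat_lit 5) Steps.nil)))) (nat_lit 44) (nat_lit 3),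
  Rule.mk (nat_lit 9) (nat_lit 23) (Steps.bwd (nat_lit 9) (Steps.fwd (nat_lit 4096) Steps.nil)) (nat_lit 37) (nat_lit 0),
  Rule.mk (nat_lit 6) (nat_lit 68) (Steps.bwd (nat_lit 9) (Steps.fwd (nat_lit 3072) (Steps.fwd (nat_lit 3584) (Steps.bwd (nat_lit 5) (Steps.fwd (nat_lit 1024) (Steps.fwd (nat_lit 1024) (Steps.bwd (nat_lit 9) Steps.nil))))))) (nat_lit 47) (nat_lit 6),
  Rule.mk (nat_lit 0) (nat_lit 77) (Steps.bwd (nat_lit 6) (Steps.fwd (nat_lit 4608) (Steps.fwd (nat_lit 1536) (Steps.fwd (nat_lit 1536) (Steps.fwd (nat_lit 2560) (Steps.fwd (nat_lit 3584) (Steps.bwd (nat_lit 6) (Steps.fwd (nat_lit 4608) Steps.nil)))))))) (nat_lit 46) (nat_lit 2),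
  Rule.mk (nat_lit 0) (nat_lit 32) (Steps.bwd (nat_lit 9) (Steps.fwd (nat_lit 0) (Steps.bwd (nat_lit 8) Steps.nil))) (nat_lit 48) (nat_lit 0),
  Rule.mk (nat_lit 0) (nat_lit 32) (Steps.fwd (nat_lit 2048) (Steps.fwd (nat_lit 0) (Steps.bwd (nat_lit 4) Steps.nil))) (nat_lit 48) (nat_lit 0),
  Rule.mk (nat_lit 0) (nat_lit 41) (Steps.bwd (nat_lit 0) (Steps.bwd (nat_lit 8) (Steps.bwd (nat_lit 0) (Steps.fwd (nat_lit 4096) Steps.nil)))) (nat_lit 48) (nat_lit 0),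
  Rule.mk (nat_lit 9) (nat_lit 23) (Steps.bwd (nat_lit 0) (Steps.bwd (nat_lit 8) Steps.nil)) (nat_lit 48) (nat_lit 0)]
noncomputable def R : List (List (Rule)) := [R_0]
def LW : List Word := [[], [0], [2], [3], [4], [6], [8], [10], [12], [13], [0], [1], [2], [3], [4], [5], [6], [7], [8], [9], [10], [11]]
def par : Par := ⟨9, 5, 14, 23, 511, 16383, 8388607⟩
theorem hpar : par.ok := by decide
theorem hR0_0 : lall (R) (fun l => lall l (ruleOK Rw23 LW par)) = true := by decide +kernel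
theorem hR0 : lall (R) (fun l => lall l (ruleOK Rw23 LW par)) = true := hR0_0
theorem hR : RulesOK Rw23 LW par R := rulesOK_of rfl hR0
def cols : List (ℕ × ℕ) := [(512, 1), (1024, 3), (2048, 4), (2560, 5), (3072, 6), (3584, 7), (4096, 9)]
theorem hcols : lall cols (colOK Rw23 LW par) = true := by decide +kernel
noncomputable def JS0 : List ℕ := [nat_lit 0x21005020000780261d0007241a0000e20100060080502804010008180c05038202cf0b855c030b05400d0a00028c0a00c282098102610a05426b0900c24a0901424908814228080142070082402600040a04018140e0707838800070101c3068041a206010181]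
theorem S0_c : blocks (facts 9 5 14 23 511 16383 8388607 9 511 5 31 A R 32) 32 JS0 268 = true := by decide +kernel
theorem S0 : On (Step.{u} Rw23 LW par A) 268 300 :=
  steps_of_blocks hpar hR S0_c (by decide +kernel)
theorem D0_c : allB (defOK 9 14 23 511 8388607 263 A K) 1 2 = true := by decide +kernel
theorem D0 : On (fun r => defOK par.W par.WL par.E par.mW par.mE 263 A K r = true) 256 384 :=
  On.of_allB D0_c
noncomputable def JW0 : List ℕ := [nat_lit 0x1510042110461204a]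
theorem W0_c : blocks (rows 9 5 14 23 511 16383 8388607 10 1023 70 A 300 1 cols 18) 18 JW0 0 = true := by decide +kernel
theorem W0 : On (Row.{u} Rw23 LW par A 300 1 cols) 0 18 :=
  rows_of_blocks hpar (by decide) hcols W0_c (by decide +kernel)
theorem idx : Idx.{u} Rw23 [[0], [2], [4], [6], [8], [10], [12]] [[0], [2], [4], [6], [8], [10]] 1 :=
  idx_of_cert hpar hR (K := K) (by decide +kernel) (T := 263) (T' := 384) (by decide) D0
    (subs := [1,2,4,5,6,7]) (by decide +kernel) (T1 := 268) (by decide) (N := 300) S0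
    (by decide) (n' := 18) (by decide) W0 (by decide +kernel) (by decide +kernel)
end w23
namespace f11
noncomputable def A_0 : List (ℕ) := [nat_lit 0x2400005000000020000010080080000300200c80400f0080040100400200181001700800c0600500800280c00f0180200300440600482400d0180260900442000906101b0a10341a40402a80d06500f0294321250602e50202521708202a1350500a80985100503142813304824508044c09089c200f30341e40784c8130494260920481a50883120f071c160840381840603140c03a0160950241070401ca08039c0e0448180680301880602a80a03100c08302001404009c0201280404600808a02011c0402100800801000e00001800002800004000004000004001b506834603064e170c1c141750582c904854c040a242613383c247068448100818060f280c1ca06834803061c0c0b502814402024e030410040720040ca01014e0402200603500404800805000]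
noncomputable def A : List (List (ℕ)) := [A_0]
noncomputable def K_0 : List (ℕ) := [nat_lit 0x8d46631178b456291389446210f87436190b854261107834160903814060000]
noncomputable def K : List (List (ℕ)) := [K_0]
noncomputable def R_0 : List (Rule) := [Rule.mk (nat_lit 8) (nat_lit 24) (Steps.bwd (nat_lit 8) (Steps.bwd (nat_lit 8) Steps.nil)) (nat_lit 36) (nat_lit 0),
  Rule.mk (nat_lit 2) (nat_lit 33) (Steps.fwd (nat_lit 4096) (Steps.fwd (nat_lit 1024) (Steps.bwd (nat_lit 8) Steps.nil))) (nat_lit 40) (nat_lit 2),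
  Rule.mk (nat_lit 7) (nat_lit 33) (Steps.fwd (nat_lit 4096) (Steps.fwd (nat_lit 2560) (Steps.bwd (nat_lit 8) Steps.nil))) (nat_lit 42) (nat_lit 2),
  Rule.mk (nat_lit 5) (nat_lit 42) (Steps.fwd (nat_lit 4096) (Steps.fwd (nat_lit 2560) (Steps.fwd (nat_lit 3584) (Steps.bwd (nat_lit 8) Steps.nil)))) (nat_lit 44) (nat_lit 2),
  Rule.mk (nat_lit 6) (nat_lit 42) (Steps.bwd (nat_lit 8) (Steps.fwd (nat_lit 3072) (Steps.bwd (nat_lit 8) (Steps.bwd (nat_lit 2) Steps.nil)))) (nat_lit 46) (nat_lit 1),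
  Rule.mk (nat_lit 5) (nat_lit 42) (Steps.fwd (nat_lit 3072) (Steps.fwd (nat_lit 2560) (Steps.fwd (nat_lit 3584) (Steps.bwd (nat_lit 6) Steps.nil)))) (nat_lit 24) (nat_lit 2),
  Rule.mk (nat_lit 7) (nat_lit 42) (Steps.fwd (nat_lit 2560) (Steps.fwd (nat_lit 3072) (Steps.fwd (nat_lit 2560) (Steps.bwd (nat_lit 6) Steps.nil)))) (nat_lit 25) (nat_lit 1),
  Rule.mk (nat_lit 10) (nat_lit 33) (Steps.bwd (nat_lit 8) (Steps.bwd (nat_lit 10) (Steps.bwd (nat_lit 8) Steps.nil))) (nat_lit 50) (nat_lit 1),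
  Rule.mk (nat_lit 3) (nat_lit 33) (Steps.fwd (nat_lit 5120) (Steps.bwd (nat_lit 2) (Steps.bwd (nat_lit 10) Steps.nil))) (nat_lit 56) (nat_lit 0),
  Rule.mk (nat_lit 2) (nat_lit 33) (Steps.fwd (nat_lit 4096) (Steps.bwd (nat_lit 3) (Steps.bwd (nat_lit 8) Steps.nil))) (nat_lit 40) (nat_lit 2),
  Rule.mk (nat_lit 10) (nat_lit 51) (Steps.bwd (nat_lit 7) (Steps.fwd (nat_lit 5120) (Steps.fwd (nat_lit 3584) (Steps.bwd (nat_lit 10) (Steps.fwd (nat_lit 3584) Steps.nil))))) (nat_lit 52) (nat_lit 0),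
  Rule.mk (nat_lit 4) (nat_lit 69) (Steps.bwd (nat_lit 10) (Steps.fwd (nat_lit 4096) (Steps.fwd (nat_lit 3584) (Steps.fwd (nat_lit 2048) (Steps.fwd (nat_lit 3584) (Steps.bwd (nat_lit 8) (Steps.fwd (nat_lit 5120) Steps.nil))))))) (nat_lit 58) (nat_lit 5),
  Rule.mk (nat_lit 8) (nat_lit 33) (Steps.bwd (nat_lit 10) (Steps.bwd (nat_lit 8) (Steps.fwd (nat_lit 5120) Steps.nil))) (nat_lit 50) (nat_lit 0),
  Rule.mk (nat_lit 9) (nat_lit 33) (Steps.bwd (nat_lit 10) (Steps.fwd (nat_lit 4096) (Steps.bwd (nat_lit 10) Steps.nil))) (nat_lit 51) (nat_lit 1),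
  Rule.mk (nat_lit 7) (nat_lit 33) (Steps.bwd (nat_lit 4) (Steps.fwd (nat_lit 3584) (Steps.fwd (nat_lit 2048) Steps.nil))) (nat_lit 30) (nat_lit 1),
  Rule.mk (nat_lit 5) (nat_lit 33) (Steps.bwd (nat_lit 4) (Steps.bwd (nat_lit 6) (Steps.fwd (nat_lit 2048) Steps.nil))) (nat_lit 22) (nat_lit 2),
  Rule.mk (nat_lit 7) (nat_lit 33) (Steps.fwd (nat_lit 2560) (Steps.fwd (nat_lit 3584) (Steps.bwd (nat_lit 5) Steps.nil))) (nat_lit 32) (nat_lit 1),
  Rule.mk (nat_lit 10) (nat_lit 51) (Steps.bwd (nat_lit 7) (Steps.bwd (nat_lit 10) (Steps.fwd (nat_lit 3584) (Steps.fwd (nat_lit 5120) (Steps.fwd (nat_lit 3584) Steps.nil))))) (nat_lit 52) (nat_lit 0),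
  Rule.mk (nat_lit 8) (nat_lit 69) (Steps.bwd (nat_lit 10) (Steps.bwd (nat_lit 4) (Steps.fwd (nat_lit 5120) (Steps.fwd (nat_lit 4096) (Steps.fwd (nat_lit 3584) (Steps.fwd (nat_lit 2048) (Steps.fwd (nat_lit 3584) Steps.nil))))))) (nat_lit 58) (nat_lit 3),
  Rule.mk (nat_lit 4) (nat_lit 33) (Steps.bwd (nat_lit 7) (Steps.fwd (nat_lit 2048) (Steps.fwd (nat_lit 3584) Steps.nil))) (nat_lit 30) (nat_lit 0),
  Rule.mk (nat_lit 8) (nat_lit 69) (Steps.bwd (nat_lit 10) (Steps.bwd (nat_lit 4) (Steps.bwd (nat_lit 10) (Steps.fwd (nat_lit 4096) (Steps.fwd (nat_lit 3584) (Steps.fwd (nat_lit 2048) (Steps.fwd (nat_lit 3584) Steps.nil))))))) (nat_lit 58) (nat_lit 3),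
  Rule.mk (nat_lit 7) (nat_lit 33) (Steps.fwd (nat_lit 4096) (Steps.bwd (nat_lit 5) (Steps.bwd (nat_lit 8) Steps.nil))) (nat_lit 42) (nat_lit 2),
  Rule.mk (nat_lit 9) (nat_lit 33) (Steps.bwd (nat_lit 5) (Steps.bwd (nat_lit 8) (Steps.fwd (nat_lit 3584) Steps.nil))) (nat_lit 42) (nat_lit 3),
  Rule.mk (nat_lit 4) (nat_lit 33) (Steps.bwd (nat_lit 7) (Steps.bwd (nat_lit 4) (Steps.fwd (nat_lit 3584) Steps.nil))) (nat_lit 30) (nat_lit 0),
  Rule.mk (nat_lit 5) (nat_lit 33) (Steps.bwd (nat_lit 7) (Steps.bwd (nat_lit 5) (Steps.fwd (nat_lit 3584) Steps.nil))) (nat_lit 32) (nat_lit 0),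
  Rule.mk (nat_lit 4) (nat_lit 69) (Steps.bwd (nat_lit 7) (Steps.fwd (nat_lit 4608) (Steps.fwd (nat_lit 5120) (Steps.fwd (nat_lit 2048) (Steps.fwd (nat_lit 5120) (Steps.bwd (nat_lit 9) (Steps.fwd (nat_lit 3584) Steps.nil))))))) (nat_lit 58) (nat_lit 1),
  Rule.mk (nat_lit 4) (nat_lit 33) (Steps.fwd (nat_lit 3584) (Steps.fwd (nat_lit 2048) (Steps.bwd (nat_lit 7) Steps.nil))) (nat_lit 30) (nat_lit 0),
  Rule.mk (nat_lit 6) (nat_lit 33) (Steps.bwd (nat_lit 4) (Steps.fwd (nat_lit 2560) (Steps.fwd (nat_lit 2048) Steps.nil))) (nat_lit 22) (nat_lit 0),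
  Rule.mk (nat_lit 7) (nat_lit 42) (Steps.bwd (nat_lit 6) (Steps.fwd (nat_lit 2560) (Steps.bwd (nat_lit 6) (Steps.bwd (nat_lit 5) Steps.nil)))) (nat_lit 24) (nat_lit 0),
  Rule.mk (nat_lit 6) (nat_lit 42) (Steps.bwd (nat_lit 5) (Steps.bwd (nat_lit 7) (Steps.bwd (nat_lit 6) (Steps.bwd (nat_lit 5) Steps.nil)))) (nat_lit 24) (nat_lit 3),
  Rule.mk (nat_lit 5) (nat_lit 42) (Steps.bwd (nat_lit 6) (Steps.fwd (nat_lit 2560) (Steps.bwd (nat_lit 6) (Steps.fwd (nat_lit 3584) Steps.nil)))) (nat_lit 25) (nat_lit 2),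
  Rule.mk (nat_lit 6) (nat_lit 42) (Steps.bwd (nat_lit 5) (Steps.fwd (nat_lit 3584) (Steps.bwd (nat_lit 6) (Steps.bwd (nat_lit 5) Steps.nil)))) (nat_lit 24) (nat_lit 3),
  Rule.mk (nat_lit 5) (nat_lit 42) (Steps.bwd (nat_lit 9) (Steps.fwd (nat_lit 2560) (Steps.bwd (nat_lit 7) (Steps.bwd (nat_lit 8) Steps.nil)))) (nat_lit 44) (nat_lit 2),
  Rule.mk (nat_lit 8) (nat_lit 33) (Steps.bwd (nat_lit 7) (Steps.bwd (nat_lit 9) (Steps.bwd (nat_lit 5) Steps.nil))) (nat_lit 42) (nat_lit 1),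
  Rule.mk (nat_lit 8) (nat_lit 24) (Steps.fwd (nat_lit 4608) (Steps.bwd (nat_lit 8) Steps.nil)) (nat_lit 36) (nat_lit 0),
  Rule.mk (nat_lit 10) (nat_lit 33) (Steps.bwd (nat_lit 8) (Steps.fwd (nat_lit 5120) (Steps.bwd (nat_lit 8) Steps.nil))) (nat_lit 50) (nat_lit 1),
  Rule.mk (nat_lit 8) (nat_lit 42) (Steps.bwd (nat_lit 6) (Steps.bwd (nat_lit 8) (Steps.bwd (nat_lit 2) (Steps.fwd (nat_lit 3072) Steps.nil)))) (nat_lit 46) (nat_lit 2),
  Rule.mk (nat_lit 9) (nat_lit 33) (Steps.bwd (nat_lit 10) (Steps.bwd (nat_lit 9) (Steps.fwd (nat_lit 5120) Steps.nil))) (nat_lit 51) (nat_lit 1),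
  Rule.mk (nat_lit 5) (nat_lit 33) (Steps.bwd (nat_lit 8) (Steps.fwd (nat_lit 3584) (Steps.bwd (nat_lit 9) Steps.nil))) (nat_lit 42) (nat_lit 0),
  Rule.mk (nat_lit 8) (nat_lit 33) (Steps.fwd (nat_lit 3584) (Steps.fwd (nat_lit 4096) (Steps.bwd (nat_lit 5) Steps.nil))) (nat_lit 42) (nat_lit 1),
  Rule.mk (nat_lit 8) (nat_lit 42) (Steps.bwd (nat_lit 6) (Steps.fwd (nat_lit 4608) (Steps.fwd (nat_lit 1536) (Steps.fwd (nat_lit 3072) Steps.nil)))) (nat_lit 46) (nat_lit 2),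
  Rule.mk (nat_lit 4) (nat_lit 33) (Steps.bwd (nat_lit 6) (Steps.fwd (nat_lit 2048) (Steps.bwd (nat_lit 5) Steps.nil))) (nat_lit 22) (nat_lit 3),
  Rule.mk (nat_lit 8) (nat_lit 69) (Steps.bwd (nat_lit 10) (Steps.fwd (nat_lit 2048) (Steps.fwd (nat_lit 5120) (Steps.fwd (nat_lit 4096) (Steps.bwd (nat_lit 7) (Steps.fwd (nat_lit 2048) (Steps.fwd (nat_lit 3584) Steps.nil))))))) (nat_lit 58) (nat_lit 3),
  Rule.mk (nat_lit 0) (nat_lit 42) (Steps.bwd (nat_lit 10) (Steps.bwd (nat_lit 8) (Steps.bwd (nat_lit 10) (Steps.bwd (nat_lit 8) Steps.nil)))) (nat_lit 50) (nat_lit 0),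
  Rule.mk (nat_lit 0) (nat_lit 33) (Steps.bwd (nat_lit 4) (Steps.bwd (nat_lit 0) (Steps.fwd (nat_lit 2048) Steps.nil))) (nat_lit 60) (nat_lit 0),
  Rule.mk (nat_lit 0) (nat_lit 33) (Steps.bwd (nat_lit 6) (Steps.fwd (nat_lit 0) (Steps.bwd (nat_lit 6) Steps.nil))) (nat_lit 60) (nat_lit 0),
  Rule.mk (nat_lit 0) (nat_lit 42) (Steps.fwd (nat_lit 3584) (Steps.fwd (nat_lit 0) (Steps.fwd (nat_lit 3584) (Steps.fwd (nat_lit 0) Steps.nil)))) (nat_lit 60) (nat_lit 0),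
  Rule.mk (nat_lit 0) (nat_lit 51) (Steps.bwd (nat_lit 0) (Steps.bwd (nat_lit 5) (Steps.fwd (nat_lit 0) (Steps.bwd (nat_lit 5) (Steps.fwd (nat_lit 0) Steps.nil))))) (nat_lit 60) (nat_lit 0),
  Rule.mk (nat_lit 0) (nat_lit 24) (Steps.fwd (nat_lit 0) (Steps.fwd (nat_lit 0) Steps.nil)) (nat_lit 60) (nat_lit 0),
  Rule.mk (nat_lit 0) (nat_lit 42) (Steps.bwd (nat_lit 6) (Steps.bwd (nat_lit 0) (Steps.bwd (nat_lit 6) (Steps.fwd (nat_lit 0) Steps.nil)))) (nat_lit 60) (nat_lit 0),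
  Rule.mk (nat_lit 0) (nat_lit 42) (Steps.bwd (nat_lit 5) (Steps.bwd (nat_lit 0) (Steps.fwd (nat_lit 2560) (Steps.fwd (nat_lit 0) Steps.nil)))) (nat_lit 60) (nat_lit 0),
  Rule.mk (nat_lit 0) (nat_lit 33) (Steps.bwd (nat_lit 8) (Steps.fwd (nat_lit 0) (Steps.fwd (nat_lit 4096) Steps.nil))) (nat_lit 60) (nat_lit 0),
  Rule.mk (nat_lit 0) (nat_lit 33) (Steps.bwd (nat_lit 9) (Steps.fwd (nat_lit 0) (Steps.bwd (nat_lit 8) Steps.nil))) (nat_lit 60) (nat_lit 0),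
  Rule.mk (nat_lit 0) (nat_lit 42) (Steps.bwd (nat_lit 0) (Steps.fwd (nat_lit 5120) (Steps.fwd (nat_lit 0) (Steps.bwd (nat_lit 10) Steps.nil)))) (nat_lit 60) (nat_lit 0),
  Rule.mk (nat_lit 0) (nat_lit 33) (Steps.fwd (nat_lit 4608) (Steps.fwd (nat_lit 0) (Steps.fwd (nat_lit 4096) Steps.nil))) (nat_lit 60) (nat_lit 0),
  Rule.mk (nat_lit 0) (nat_lit 42) (Steps.bwd (nat_lit 8) (Steps.fwd (nat_lit 0) (Steps.fwd (nat_lit 4096) (Steps.fwd (nat_lit 0) Steps.nil)))) (nat_lit 60) (nat_lit 0),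
  Rule.mk (nat_lit 0) (nat_lit 51) (Steps.bwd (nat_lit 0) (Steps.bwd (nat_lit 5) (Steps.bwd (nat_lit 0) (Steps.bwd (nat_lit 5) (Steps.fwd (nat_lit 0) Steps.nil))))) (nat_lit 60) (nat_lit 0),
  Rule.mk (nat_lit 0) (nat_lit 42) (Steps.fwd (nat_lit 3584) (Steps.bwd (nat_lit 0) (Steps.fwd (nat_lit 3584) (Steps.fwd (nat_lit 0) Steps.nil)))) (nat_lit 60) (nat_lit 0),
  Rule.mk (nat_lit 10) (nat_lit 24) (Steps.bwd (nat_lit 0) (Steps.fwd (nat_lit 5120) Steps.nil)) (nat_lit 60) (nat_lit 0),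
  Rule.mk (nat_lit 9) (nat_lit 24) (Steps.bwd (nat_lit 0) (Steps.bwd (nat_lit 8) Steps.nil)) (nat_lit 60) (nat_lit 0)]
noncomputable def R : List (List (Rule)) := [R_0]
def LW : List Word := [[], [0], [2], [3], [4], [6], [8], [10], [12], [13], [14], [0], [1], [2], [3], [4], [5], [6], [7], [8], [9], [10], [11]]
def par : Par := ⟨9, 5, 14, 23, 511, 16383, 8388607⟩
theorem hpar : par.ok := by decide
theorem hR0_0 : lall (R) (fun l => lall l (ruleOK Rf11 LW par)) = true := by decide +kernel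
theorem hR0 : lall (R) (fun l => lall l (ruleOK Rf11 LW par)) = true := hR0_0
theorem hR : RulesOK Rf11 LW par R := rulesOK_of rfl hR0
def cols : List (ℕ × ℕ) := [(512, 1), (1024, 3), (2048, 4), (2560, 5), (3072, 6), (3584, 7), (4096, 9), (5120, 10)]
theorem hcols : lall cols (colOK Rf11 LW par) = true := by decide +kernel
noncomputable def JS0 : List ℕ := [nat_lit 0x18022d023c05000c05ee8005e317054001536290181c0c07018a5a190b050c8c45a2860582914202c050a570001806b0105c121a0cc522854520814a828170405c2848062c058c81429142629178285e29480001002229050a101401c507814182838542b139a260502c1c0b05098c13008140213162600098a0003000489c4a242002020080070000802001804030289050100c0a021002040086000280021007c1,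
  nat_lit 0x80f88049e001ce40003625a038a80fb1600c13dcb0070a0036160188da9540a13d0041c021273008580047c80003c402190106c0180042802215e4300842e0b8008368086c000358382312c1409000d6b058886b50000c08e0461e19d200030e682300464c8e078121f8c8b001008b38546431986e1c218ca5000680320006318002a3f882a3a038be1030040400805e02190c5f,
  nat_lit 0x3300bc1e803b00007100960103ce80217048640dc9840229d4025f000538]
theorem S0_c : blocks (facts 9 5 14 23 511 16383 8388607 9 511 6 63 A R 32) 32 JS0 288 = true := by decide +kernel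
theorem S0 : On (Step.{u} Rf11 LW par A) 288 384 :=
  steps_of_blocks hpar hR S0_c (by decide +kernel)
theorem D0_c : allB (defOK 9 14 23 511 8388607 283 A K) 1 2 = true := by decide +kernel
theorem D0 : On (fun r => defOK par.W par.WL par.E par.mW par.mE 283 A K r = true) 256 384 :=
  On.of_allB D0_c
noncomputable def JW0 : List ℕ := [nat_lit 0xd033300c2310c6320ca]
theorem W0_c : blocks (rows 9 5 14 23 511 16383 8388607 10 1023 80 A 384 1 cols 16) 16 JW0 0 = true := by decide +kernel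
theorem W0 : On (Row.{u} Rf11 LW par A 384 1 cols) 0 16 :=
  rows_of_blocks hpar (by decide) hcols W0_c (by decide +kernel)
theorem idx : Idx.{u} Rf11 [[0], [2], [4], [6], [8], [10], [12], [14]] [[0], [2], [4], [6], [8], [10]] 1 :=
  idx_of_cert hpar hR (K := K) (by decide +kernel) (T := 283) (T' := 384) (by decide) D0
    (subs := [1,2,4,5,6,7]) (by decide +kernel) (T1 := 288) (by decide) (N := 384) S0
    (by decide) (n' := 16) (by decide) W0 (by decide +kernel) (by decide +kernel)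
end f11
namespace f12
noncomputable def A_0 : List (ℕ) := [nat_lit 0x12000028000000100000080000600800801001c02001810e0301800a03281c0e80381c00803100e0700240890300d00604201209401c0ea0381880902a80a00501002700804a010118020228080470100840200200400380000600000a000010000010000010002540804240e0738180ca01014e0402200603500404800805000]
noncomputable def A : List (List (ℕ)) := [A_0]
noncomputable def K_0 : List (ℕ) := [nat_lit 0x21107834160903814060000]
noncomputable def K : List (List (ℕ)) := [K_0]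
noncomputable def R_0 : List (Rule) := [Rule.mk (nat_lit 8) (nat_lit 23) (Steps.bwd (nat_lit 8) (Steps.bwd (nat_lit 8) Steps.nil)) (nat_lit 36) (nat_lit 0),
  Rule.mk (nat_lit 2) (nat_lit 32) (Steps.fwd (nat_lit 4096) (Steps.fwd (nat_lit 1024) (Steps.bwd (nat_lit 8) Steps.nil))) (nat_lit 40) (nat_lit 2),
  Rule.mk (nat_lit 7) (nat_lit 32) (Steps.fwd (nat_lit 4096) (Steps.fwd (nat_lit 2560) (Steps.bwd (nat_lit 8) Steps.nil))) (nat_lit 42) (nat_lit 2),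
  Rule.mk (nat_lit 5) (nat_lit 41) (Steps.fwd (nat_lit 4096) (Steps.fwd (nat_lit 2560) (Steps.fwd (nat_lit 3584) (Steps.bwd (nat_lit 8) Steps.nil)))) (nat_lit 44) (nat_lit 2),
  Rule.mk (nat_lit 6) (nat_lit 41) (Steps.bwd (nat_lit 8) (Steps.fwd (nat_lit 3072) (Steps.bwd (nat_lit 8) (Steps.bwd (nat_lit 2) Steps.nil)))) (nat_lit 46) (nat_lit 1),
  Rule.mk (nat_lit 5) (nat_lit 41) (Steps.fwd (nat_lit 3072) (Steps.fwd (nat_lit 2560) (Steps.fwd (nat_lit 3584) (Steps.bwd (nat_lit 6) Steps.nil)))) (nat_lit 24) (nat_lit 2),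
  Rule.mk (nat_lit 7) (nat_lit 41) (Steps.fwd (nat_lit 2560) (Steps.fwd (nat_lit 3072) (Steps.fwd (nat_lit 2560) (Steps.bwd (nat_lit 6) Steps.nil)))) (nat_lit 25) (nat_lit 1),
  Rule.mk (nat_lit 10) (nat_lit 32) (Steps.bwd (nat_lit 8) (Steps.bwd (nat_lit 10) (Steps.bwd (nat_lit 8) Steps.nil))) (nat_lit 50) (nat_lit 1),
  Rule.mk (nat_lit 10) (nat_lit 50) (Steps.bwd (nat_lit 7) (Steps.fwd (nat_lit 5120) (Steps.fwd (nat_lit 3584) (Steps.bwd (nat_lit 10) (Steps.fwd (nat_lit 3584) Steps.nil))))) (nat_lit 52) (nat_lit 0),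
  Rule.mk (nat_lit 4) (nat_lit 95) (Steps.bwd (nat_lit 10) (Steps.bwd (nat_lit 9) (Steps.bwd (nat_lit 7) (Steps.bwd (nat_lit 10) (Steps.fwd (nat_lit 4096) (Steps.fwd (nat_lit 3584) (Steps.fwd (nat_lit 2048) (Steps.fwd (nat_lit 3584) (Steps.bwd (nat_lit 8) (Steps.fwd (nat_lit 5120) Steps.nil)))))))))) (nat_lit 58) (nat_lit 5),
  Rule.mk (nat_lit 10) (nat_lit 50) (Steps.bwd (nat_lit 7) (Steps.bwd (nat_lit 10) (Steps.fwd (nat_lit 3584) (Steps.fwd (nat_lit 5120) (Steps.fwd (nat_lit 3584) Steps.nil))))) (nat_lit 52) (nat_lit 0),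
  Rule.mk (nat_lit 8) (nat_lit 32) (Steps.fwd (nat_lit 5120) (Steps.fwd (nat_lit 4608) (Steps.fwd (nat_lit 5120) Steps.nil))) (nat_lit 50) (nat_lit 0),
  Rule.mk (nat_lit 8) (nat_lit 23) (Steps.bwd (nat_lit 8) (Steps.fwd (nat_lit 4608) Steps.nil)) (nat_lit 36) (nat_lit 0),
  Rule.mk (nat_lit 8) (nat_lit 32) (Steps.bwd (nat_lit 10) (Steps.bwd (nat_lit 8) (Steps.fwd (nat_lit 5120) Steps.nil))) (nat_lit 50) (nat_lit 0),
  Rule.mk (nat_lit 9) (nat_lit 32) (Steps.bwd (nat_lit 10) (Steps.fwd (nat_lit 4096) (Steps.bwd (nat_lit 10) Steps.nil))) (nat_lit 51) (nat_lit 1),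
  Rule.mk (nat_lit 0) (nat_lit 104) (Steps.fwd (nat_lit 2048) (Steps.fwd (nat_lit 3584) (Steps.fwd (nat_lit 4608) (Steps.fwd (nat_lit 5120) (Steps.fwd (nat_lit 2048) (Steps.bwd (nat_lit 10) (Steps.fwd (nat_lit 4096) (Steps.fwd (nat_lit 3584) (Steps.bwd (nat_lit 10) (Steps.bwd (nat_lit 9) (Steps.fwd (nat_lit 3584) Steps.nil))))))))))) (nat_lit 58) (nat_lit 0),
  Rule.mk (nat_lit 4) (nat_lit 23) (Steps.bwd (nat_lit 0) (Steps.fwd (nat_lit 2048) Steps.nil)) (nat_lit 60) (nat_lit 0),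
  Rule.mk (nat_lit 0) (nat_lit 41) (Steps.bwd (nat_lit 8) (Steps.fwd (nat_lit 0) (Steps.fwd (nat_lit 4096) (Steps.fwd (nat_lit 0) Steps.nil)))) (nat_lit 60) (nat_lit 0),
  Rule.mk (nat_lit 8) (nat_lit 23) (Steps.bwd (nat_lit 0) (Steps.bwd (nat_lit 9) Steps.nil)) (nat_lit 60) (nat_lit 0),
  Rule.mk (nat_lit 5) (nat_lit 32) (Steps.bwd (nat_lit 8) (Steps.bwd (nat_lit 7) (Steps.fwd (nat_lit 4096) Steps.nil))) (nat_lit 42) (nat_lit 0),
  Rule.mk (nat_lit 0) (nat_lit 50) (Steps.bwd (nat_lit 7) (Steps.bwd (nat_lit 8) (Steps.bwd (nat_lit 5) (Steps.fwd (nat_lit 4096) (Steps.fwd (nat_lit 2560) Steps.nil))))) (nat_lit 44) (nat_lit 4),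
  Rule.mk (nat_lit 7) (nat_lit 23) (Steps.bwd (nat_lit 0) (Steps.bwd (nat_lit 7) Steps.nil)) (nat_lit 60) (nat_lit 0),
  Rule.mk (nat_lit 0) (nat_lit 41) (Steps.bwd (nat_lit 0) (Steps.fwd (nat_lit 5120) (Steps.fwd (nat_lit 0) (Steps.bwd (nat_lit 10) Steps.nil)))) (nat_lit 60) (nat_lit 0),
  Rule.mk (nat_lit 0) (nat_lit 32) (Steps.fwd (nat_lit 2560) (Steps.fwd (nat_lit 0) (Steps.fwd (nat_lit 2560) Steps.nil))) (nat_lit 60) (nat_lit 0),
  Rule.mk (nat_lit 0) (nat_lit 32) (Steps.bwd (nat_lit 7) (Steps.fwd (nat_lit 0) (Steps.fwd (nat_lit 3584) Steps.nil))) (nat_lit 60) (nat_lit 0),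
  Rule.mk (nat_lit 0) (nat_lit 32) (Steps.fwd (nat_lit 4096) (Steps.fwd (nat_lit 0) (Steps.bwd (nat_lit 8) Steps.nil))) (nat_lit 60) (nat_lit 0),
  Rule.mk (nat_lit 0) (nat_lit 41) (Steps.bwd (nat_lit 0) (Steps.fwd (nat_lit 2048) (Steps.fwd (nat_lit 0) (Steps.fwd (nat_lit 2048) Steps.nil)))) (nat_lit 60) (nat_lit 0),
  Rule.mk (nat_lit 0) (nat_lit 23) (Steps.fwd (nat_lit 0) (Steps.fwd (nat_lit 0) Steps.nil)) (nat_lit 60) (nat_lit 0),
  Rule.mk (nat_lit 10) (nat_lit 23) (Steps.bwd (nat_lit 0) (Steps.fwd (nat_lit 5120) Steps.nil)) (nat_lit 60) (nat_lit 0),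
  Rule.mk (nat_lit 9) (nat_lit 23) (Steps.bwd (nat_lit 0) (Steps.bwd (nat_lit 8) Steps.nil)) (nat_lit 60) (nat_lit 0)]
noncomputable def R : List (List (Rule)) := [R_0]
def LW : List Word := [[], [0], [2], [3], [4], [6], [8], [10], [12], [13], [14], [0], [1], [2], [3], [4], [5], [6], [7], [8], [9], [10], [11]]
def par : Par := ⟨9, 5, 14, 23, 511, 16383, 8388607⟩
theorem hpar : par.ok := by decide
theorem hR0_0 : lall (R) (fun l => lall l (ruleOK Rf12 LW par)) = true := by decide +kernel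
theorem hR0 : lall (R) (fun l => lall l (ruleOK Rf12 LW par)) = true := hR0_0
theorem hR : RulesOK Rf12 LW par R := rulesOK_of rfl hR0
def cols : List (ℕ × ℕ) := [(512, 1), (1024, 3), (2048, 4), (2560, 5), (3072, 6), (3584, 7), (4096, 9), (5120, 10)]
theorem hcols : lall cols (colOK Rf12 LW par) = true := by decide +kernel
noncomputable def JS0 : List ℕ := [nat_lit 0x1580bc1400740002e0740009016c4e0205e822010164220001e0440106806e1f005800010007c3d50286c0140c80260102804092030022170001c1e0e0c0142a160b8160060685de190d059c1300342212003024130384c24b09020120c0482024110803d4120002000124854261240040401001c000200800c02018142450100c0a022004080118000a0010381a1]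
theorem S0_c : blocks (facts 9 5 14 23 511 16383 8388607 9 511 5 31 A R 32) 32 JS0 270 = true := by decide +kernel
theorem S0 : On (Step.{u} Rf12 LW par A) 270 302 :=
  steps_of_blocks hpar hR S0_c (by decide +kernel)
theorem D0_c : allB (defOK 9 14 23 511 8388607 265 A K) 1 2 = true := by decide +kernel
theorem D0 : On (fun r => defOK par.W par.WL par.E par.mW par.mE 265 A K r = true) 256 384 :=
  On.of_allB D0_c
noncomputable def JW0 : List ℕ := [nat_lit 0x180510042110461204a]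
theorem W0_c : blocks (rows 9 5 14 23 511 16383 8388607 10 1023 80 A 302 1 cols 16) 16 JW0 0 = true := by decide +kernel
theorem W0 : On (Row.{u} Rf12 LW par A 302 1 cols) 0 16 :=
  rows_of_blocks hpar (by decide) hcols W0_c (by decide +kernel)
theorem idx : Idx.{u} Rf12 [[0], [2], [4], [6], [8], [10], [12], [14]] [[0], [2], [4], [6], [8], [10]] 1 :=
  idx_of_cert hpar hR (K := K) (by decide +kernel) (T := 265) (T' := 384) (by decide) D0
    (subs := [1,2,4,5,6,7]) (by decide +kernel) (T1 := 270) (by decide) (N := 302) S0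
    (by decide) (n' := 16) (by decide) W0 (by decide +kernel) (by decide +kernel)
end f12
namespace f13
noncomputable def A_0 : List (ℕ) := [nat_lit 0x80000140000000400000402a000040050000060100100400301000801801206001c0c40381c00c0380160900281410502420903840e0a20240c10301120601a00c09401c0ea0381880c02a80a00501002700804a010118020228080470100840201040400400800700000c00001400002000002000002000628160b48281470482540804240e0738180ca01014e0402200603500404800805000]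
noncomputable def A : List (List (ℕ)) := [A_0]
noncomputable def K_0 : List (ℕ) := [nat_lit 0x10b854261107834160903814060000]
noncomputable def K : List (List (ℕ)) := [K_0]
noncomputable def R_0 : List (Rule) := [Rule.mk (nat_lit 8) (nat_lit 23) (Steps.bwd (nat_lit 8) (Steps.bwd (nat_lit 8) Steps.nil)) (nat_lit 36) (nat_lit 0),
  Rule.mk (nat_lit 1) (nat_lit 32) (Steps.fwd (nat_lit 4096) (Steps.fwd (nat_lit 512) (Steps.bwd (nat_lit 8) Steps.nil))) (nat_lit 38) (nat_lit 2),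
  Rule.mk (nat_lit 2) (nat_lit 32) (Steps.fwd (nat_lit 4096) (Steps.fwd (nat_lit 1024) (Steps.bwd (nat_lit 8) Steps.nil))) (nat_lit 40) (nat_lit 2),
  Rule.mk (nat_lit 7) (nat_lit 32) (Steps.fwd (nat_lit 4096) (Steps.fwd (nat_lit 2560) (Steps.bwd (nat_lit 8) Steps.nil))) (nat_lit 42) (nat_lit 2),
  Rule.mk (nat_lit 5) (nat_lit 41) (Steps.fwd (nat_lit 4096) (Steps.fwd (nat_lit 2560) (Steps.fwd (nat_lit 3584) (Steps.bwd (nat_lit 8) Steps.nil)))) (nat_lit 44) (nat_lit 2),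
  Rule.mk (nat_lit 6) (nat_lit 41) (Steps.bwd (nat_lit 8) (Steps.fwd (nat_lit 3072) (Steps.bwd (nat_lit 8) (Steps.bwd (nat_lit 2) Steps.nil)))) (nat_lit 46) (nat_lit 1),
  Rule.mk (nat_lit 5) (nat_lit 41) (Steps.fwd (nat_lit 3072) (Steps.fwd (nat_lit 2560) (Steps.fwd (nat_lit 3584) (Steps.bwd (nat_lit 6) Steps.nil)))) (nat_lit 24) (nat_lit 2),
  Rule.mk (nat_lit 7) (nat_lit 41) (Steps.fwd (nat_lit 2560) (Steps.fwd (nat_lit 3072) (Steps.fwd (nat_lit 2560) (Steps.bwd (nat_lit 6) Steps.nil)))) (nat_lit 25) (nat_lit 1),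
  Rule.mk (nat_lit 10) (nat_lit 32) (Steps.bwd (nat_lit 8) (Steps.bwd (nat_lit 10) (Steps.bwd (nat_lit 8) Steps.nil))) (nat_lit 50) (nat_lit 1),
  Rule.mk (nat_lit 10) (nat_lit 50) (Steps.bwd (nat_lit 7) (Steps.fwd (nat_lit 5120) (Steps.fwd (nat_lit 3584) (Steps.bwd (nat_lit 10) (Steps.fwd (nat_lit 3584) Steps.nil))))) (nat_lit 52) (nat_lit 0),
  Rule.mk (nat_lit 4) (nat_lit 122) (Steps.bwd (nat_lit 10) (Steps.bwd (nat_lit 9) (Steps.bwd (nat_lit 7) (Steps.bwd (nat_lit 10) (Steps.bwd (nat_lit 9) (Steps.bwd (nat_lit 7) (Steps.bwd (nat_lit 10) (Steps.fwd (nat_lit 4096) (Steps.fwd (nat_lit 3584) (Steps.fwd (nat_lit 2048) (Steps.fwd (nat_lit 3584) (Steps.bwd (nat_lit 8) (Steps.fwd (nat_lit 5120) Steps.nil))))))))))))) (nat_lit 58) (nat_lit 5),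
  Rule.mk (nat_lit 10) (nat_lit 50) (Steps.bwd (nat_lit 7) (Steps.bwd (nat_lit 10) (Steps.fwd (nat_lit 3584) (Steps.fwd (nat_lit 5120) (Steps.fwd (nat_lit 3584) Steps.nil))))) (nat_lit 52) (nat_lit 0),
  Rule.mk (nat_lit 8) (nat_lit 32) (Steps.fwd (nat_lit 5120) (Steps.fwd (nat_lit 4608) (Steps.fwd (nat_lit 5120) Steps.nil))) (nat_lit 50) (nat_lit 0),
  Rule.mk (nat_lit 8) (nat_lit 32) (Steps.bwd (nat_lit 10) (Steps.bwd (nat_lit 8) (Steps.fwd (nat_lit 5120) Steps.nil))) (nat_lit 50) (nat_lit 0),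
  Rule.mk (nat_lit 9) (nat_lit 32) (Steps.bwd (nat_lit 10) (Steps.fwd (nat_lit 4096) (Steps.bwd (nat_lit 10) Steps.nil))) (nat_lit 51) (nat_lit 1),
  Rule.mk (nat_lit 1) (nat_lit 32) (Steps.bwd (nat_lit 10) (Steps.fwd (nat_lit 512) (Steps.fwd (nat_lit 5120) Steps.nil))) (nat_lit 54) (nat_lit 0),
  Rule.mk (nat_lit 4) (nat_lit 122) (Steps.fwd (nat_lit 3584) (Steps.fwd (nat_lit 4608) (Steps.fwd (nat_lit 5120) (Steps.fwd (nat_lit 2048) (Steps.bwd (nat_lit 10) (Steps.fwd (nat_lit 4096) (Steps.fwd (nat_lit 3584) (Steps.bwd (nat_lit 10) (Steps.bwd (nat_lit 9) (Steps.fwd (nat_lit 3584) (Steps.fwd (nat_lit 5120) (Steps.fwd (nat_lit 4096) (Steps.fwd (nat_lit 3584) Steps.nil))))))))))))) (nat_lit 58) (nat_lit 1),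
  Rule.mk (nat_lit 1) (nat_lit 32) (Steps.bwd (nat_lit 7) (Steps.fwd (nat_lit 512) (Steps.fwd (nat_lit 3584) Steps.nil))) (nat_lit 26) (nat_lit 0),
  Rule.mk (nat_lit 1) (nat_lit 32) (Steps.bwd (nat_lit 8) (Steps.fwd (nat_lit 512) (Steps.fwd (nat_lit 4096) Steps.nil))) (nat_lit 38) (nat_lit 0),
  Rule.mk (nat_lit 0) (nat_lit 59) (Steps.bwd (nat_lit 4) (Steps.fwd (nat_lit 512) (Steps.fwd (nat_lit 2048) (Steps.fwd (nat_lit 512) (Steps.bwd (nat_lit 4) (Steps.fwd (nat_lit 512) Steps.nil)))))) (nat_lit 16) (nat_lit 1),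
  Rule.mk (nat_lit 0) (nat_lit 32) (Steps.bwd (nat_lit 9) (Steps.fwd (nat_lit 0) (Steps.bwd (nat_lit 8) Steps.nil))) (nat_lit 60) (nat_lit 0),
  Rule.mk (nat_lit 0) (nat_lit 32) (Steps.bwd (nat_lit 10) (Steps.fwd (nat_lit 0) (Steps.fwd (nat_lit 5120) Steps.nil))) (nat_lit 60) (nat_lit 0),
  Rule.mk (nat_lit 4) (nat_lit 23) (Steps.bwd (nat_lit 0) (Steps.fwd (nat_lit 2048) Steps.nil)) (nat_lit 60) (nat_lit 0),
  Rule.mk (nat_lit 0) (nat_lit 59) (Steps.fwd (nat_lit 2048) (Steps.fwd (nat_lit 512) (Steps.bwd (nat_lit 4) (Steps.fwd (nat_lit 512) (Steps.fwd (nat_lit 2048) (Steps.fwd (nat_lit 512) Steps.nil)))))) (nat_lit 16) (nat_lit 1),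
  Rule.mk (nat_lit 0) (nat_lit 32) (Steps.bwd (nat_lit 8) (Steps.fwd (nat_lit 0) (Steps.fwd (nat_lit 4096) Steps.nil))) (nat_lit 60) (nat_lit 0),
  Rule.mk (nat_lit 0) (nat_lit 32) (Steps.bwd (nat_lit 9) (Steps.fwd (nat_lit 0) (Steps.fwd (nat_lit 4608) Steps.nil))) (nat_lit 60) (nat_lit 0),
  Rule.mk (nat_lit 0) (nat_lit 41) (Steps.bwd (nat_lit 0) (Steps.fwd (nat_lit 5120) (Steps.fwd (nat_lit 0) (Steps.bwd (nat_lit 10) Steps.nil)))) (nat_lit 60) (nat_lit 0),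
  Rule.mk (nat_lit 0) (nat_lit 32) (Steps.bwd (nat_lit 7) (Steps.fwd (nat_lit 0) (Steps.fwd (nat_lit 3584) Steps.nil))) (nat_lit 60) (nat_lit 0),
  Rule.mk (nat_lit 10) (nat_lit 23) (Steps.bwd (nat_lit 0) (Steps.bwd (nat_lit 10) Steps.nil)) (nat_lit 60) (nat_lit 0),
  Rule.mk (nat_lit 0) (nat_lit 32) (Steps.bwd (nat_lit 6) (Steps.fwd (nat_lit 0) (Steps.fwd (nat_lit 3072) Steps.nil))) (nat_lit 60) (nat_lit 0),
  Rule.mk (nat_lit 8) (nat_lit 23) (Steps.bwd (nat_lit 0) (Steps.fwd (nat_lit 4096) Steps.nil)) (nat_lit 60) (nat_lit 0)]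
noncomputable def R : List (List (Rule)) := [R_0]
def LW : List Word := [[], [0], [2], [3], [4], [6], [8], [10], [12], [13], [14], [0], [1], [2], [3], [4], [5], [6], [7], [8], [9], [10], [11]]
def par : Par := ⟨9, 5, 14, 23, 511, 16383, 8388607⟩
theorem hpar : par.ok := by decide
theorem hR0_0 : lall (R) (fun l => lall l (ruleOK Rf13 LW par)) = true := by decide +kernel
theorem hR0 : lall (R) (fun l => lall l (ruleOK Rf13 LW par)) = true := hR0_0
theorem hR : RulesOK Rf13 LW par R := rulesOK_of rfl hR0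
def cols : List (ℕ × ℕ) := [(512, 1), (1024, 3), (2048, 4), (2560, 5), (3072, 6), (3584, 7), (4096, 9), (5120, 10)]
theorem hcols : lall cols (colOK Rf13 LW par) = true := by decide +kernel
noncomputable def JS0 : List ℕ := [nat_lit 0x2e00f42c0115f0380107e45602128076270103c05b0580449a05800199040000c000400300c005c14000e5810000e5402030000c0203a06c001b901400059870021c906006040d8040e10078700a160b86221b0686e00506869e1c0e865c150b001a160b81c2e166058120a0682812160a85026120884161600024001650642e16480404010020000200800e02020182c6018100c0328080a0220040c0118000c001044201,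
  nat_lit 0x8803f01007a220006fc000085803b]
theorem S0_c : blocks (facts 9 5 14 23 511 16383 8388607 9 511 5 31 A R 32) 32 JS0 273 = true := by decide +kernel
theorem S0 : On (Step.{u} Rf13 LW par A) 273 337 :=
  steps_of_blocks hpar hR S0_c (by decide +kernel)
theorem D0_c : allB (defOK 9 14 23 511 8388607 268 A K) 1 2 = true := by decide +kernel
theorem D0 : On (fun r => defOK par.W par.WL par.E par.mW par.mE 268 A K r = true) 256 384 :=
  On.of_allB D0_c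
noncomputable def JW0 : List ℕ := [nat_lit 0xe83820082210862208a]
theorem W0_c : blocks (rows 9 5 14 23 511 16383 8388607 10 1023 80 A 337 1 cols 16) 16 JW0 0 = true := by decide +kernel
theorem W0 : On (Row.{u} Rf13 LW par A 337 1 cols) 0 16 :=
  rows_of_blocks hpar (by decide) hcols W0_c (by decide +kernel)
theorem idx : Idx.{u} Rf13 [[0], [2], [4], [6], [8], [10], [12], [14]] [[0], [2], [4], [6], [8], [10]] 1 :=
  idx_of_cert hpar hR (K := K) (by decide +kernel) (T := 268) (T' := 384) (by decide) D0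
    (subs := [1,2,4,5,6,7]) (by decide +kernel) (T1 := 273) (by decide) (N := 337) S0
    (by decide) (n' := 16) (by decide) W0 (by decide +kernel) (by decide +kernel)
end f13
namespace f14
noncomputable def A_0 : List (ℕ) := [nat_lit 0x9000014000000080000040000300400400800e01000c0870180c00501940e07401c0e00401c00903001404002c0000600000d01001c06003c1e10783820e06841a0c08301610582820a04841207081c0c10301120601a00c0840241280381d40703101e05501400a02004e0100940202300404501008e0201080402080800801000e00001800002800004000004000004000f50381c906834e0c0628160b48281470482540804240e0738180ca01014e0402200603500404800805000]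
noncomputable def A : List (List (ℕ)) := [A_0]
noncomputable def K_0 : List (ℕ) := [nat_lit 0x87436190b854261107834160903814060000]
noncomputable def K : List (List (ℕ)) := [K_0]
noncomputable def R_0 : List (Rule) := [Rule.mk (nat_lit 8) (nat_lit 24) (Steps.bwd (nat_lit 8) (Steps.bwd (nat_lit 8) Steps.nil)) (nat_lit 36) (nat_lit 0),
  Rule.mk (nat_lit 1) (nat_lit 33) (Steps.fwd (nat_lit 4096) (Steps.fwd (nat_lit 512) (Steps.bwd (nat_lit 8) Steps.nil))) (nat_lit 38) (nat_lit 2),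
  Rule.mk (nat_lit 2) (nat_lit 33) (Steps.fwd (nat_lit 4096) (Steps.fwd (nat_lit 1024) (Steps.bwd (nat_lit 8) Steps.nil))) (nat_lit 40) (nat_lit 2),
  Rule.mk (nat_lit 7) (nat_lit 33) (Steps.fwd (nat_lit 4096) (Steps.fwd (nat_lit 2560) (Steps.bwd (nat_lit 8) Steps.nil))) (nat_lit 42) (nat_lit 2),
  Rule.mk (nat_lit 5) (nat_lit 42) (Steps.fwd (nat_lit 4096) (Steps.fwd (nat_lit 2560) (Steps.fwd (nat_lit 3584) (Steps.bwd (nat_lit 8) Steps.nil)))) (nat_lit 44) (nat_lit 2),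
  Rule.mk (nat_lit 6) (nat_lit 42) (Steps.bwd (nat_lit 8) (Steps.fwd (nat_lit 3072) (Steps.bwd (nat_lit 8) (Steps.bwd (nat_lit 2) Steps.nil)))) (nat_lit 46) (nat_lit 1),
  Rule.mk (nat_lit 5) (nat_lit 42) (Steps.fwd (nat_lit 3072) (Steps.fwd (nat_lit 2560) (Steps.fwd (nat_lit 3584) (Steps.bwd (nat_lit 6) Steps.nil)))) (nat_lit 24) (nat_lit 2),
  Rule.mk (nat_lit 7) (nat_lit 42) (Steps.fwd (nat_lit 2560) (Steps.fwd (nat_lit 3072) (Steps.fwd (nat_lit 2560) (Steps.bwd (nat_lit 6) Steps.nil)))) (nat_lit 25) (nat_lit 1),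
  Rule.mk (nat_lit 10) (nat_lit 33) (Steps.bwd (nat_lit 8) (Steps.bwd (nat_lit 10) (Steps.bwd (nat_lit 8) Steps.nil))) (nat_lit 50) (nat_lit 1),
  Rule.mk (nat_lit 10) (nat_lit 51) (Steps.bwd (nat_lit 7) (Steps.fwd (nat_lit 5120) (Steps.fwd (nat_lit 3584) (Steps.bwd (nat_lit 10) (Steps.fwd (nat_lit 3584) Steps.nil))))) (nat_lit 52) (nat_lit 0),
  Rule.mk (nat_lit 4) (nat_lit 150) (Steps.bwd (nat_lit 10) (Steps.bwd (nat_lit 9) (Steps.bwd (nat_lit 7) (Steps.bwd (nat_lit 10) (Steps.bwd (nat_lit 9) (Steps.bwd (nat_lit 7) (Steps.bwd (nat_lit 10) (Steps.bwd (nat_lit 9) (Steps.bwd (nat_lit 7) (Steps.bwd (nat_lit 10) (Steps.fwd (nat_lit 4096) (Steps.fwd (nat_lit 3584) (Steps.fwd (nat_lit 2048) (Steps.fwd (nat_lit 3584) (Steps.bwd (nat_lit 8) (Steps.fwd (nat_lit 5120) Steps.nil)))))))))))))))) (nat_lit 58) (nat_lit 5),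
  Rule.mk (nat_lit 10) (nat_lit 51) (Steps.bwd (nat_lit 7) (Steps.bwd (nat_lit 10) (Steps.fwd (nat_lit 3584) (Steps.fwd (nat_lit 5120) (Steps.fwd (nat_lit 3584) Steps.nil))))) (nat_lit 52) (nat_lit 0),
  Rule.mk (nat_lit 8) (nat_lit 33) (Steps.fwd (nat_lit 5120) (Steps.fwd (nat_lit 4608) (Steps.fwd (nat_lit 5120) Steps.nil))) (nat_lit 50) (nat_lit 0),
  Rule.mk (nat_lit 8) (nat_lit 24) (Steps.bwd (nat_lit 8) (Steps.fwd (nat_lit 4608) Steps.nil)) (nat_lit 36) (nat_lit 0),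
  Rule.mk (nat_lit 8) (nat_lit 33) (Steps.bwd (nat_lit 10) (Steps.bwd (nat_lit 8) (Steps.fwd (nat_lit 5120) Steps.nil))) (nat_lit 50) (nat_lit 0),
  Rule.mk (nat_lit 9) (nat_lit 33) (Steps.bwd (nat_lit 10) (Steps.fwd (nat_lit 4096) (Steps.bwd (nat_lit 10) Steps.nil))) (nat_lit 51) (nat_lit 1),
  Rule.mk (nat_lit 1) (nat_lit 33) (Steps.bwd (nat_lit 10) (Steps.fwd (nat_lit 512) (Steps.fwd (nat_lit 5120) Steps.nil))) (nat_lit 54) (nat_lit 0),
  Rule.mk (nat_lit 1) (nat_lit 33) (Steps.bwd (nat_lit 7) (Steps.fwd (nat_lit 512) (Steps.fwd (nat_lit 3584) Steps.nil))) (nat_lit 26) (nat_lit 0),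
  Rule.mk (nat_lit 1) (nat_lit 33) (Steps.bwd (nat_lit 8) (Steps.fwd (nat_lit 512) (Steps.fwd (nat_lit 4096) Steps.nil))) (nat_lit 38) (nat_lit 0),
  Rule.mk (nat_lit 1) (nat_lit 33) (Steps.bwd (nat_lit 9) (Steps.fwd (nat_lit 512) (Steps.fwd (nat_lit 4608) Steps.nil))) (nat_lit 38) (nat_lit 2),
  Rule.mk (nat_lit 0) (nat_lit 60) (Steps.fwd (nat_lit 512) (Steps.fwd (nat_lit 2048) (Steps.fwd (nat_lit 512) (Steps.bwd (nat_lit 4) (Steps.fwd (nat_lit 512) (Steps.fwd (nat_lit 2048) Steps.nil)))))) (nat_lit 16) (nat_lit 0),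
  Rule.mk (nat_lit 0) (nat_lit 33) (Steps.fwd (nat_lit 5120) (Steps.fwd (nat_lit 0) (Steps.bwd (nat_lit 10) Steps.nil))) (nat_lit 60) (nat_lit 0),
  Rule.mk (nat_lit 0) (nat_lit 33) (Steps.fwd (nat_lit 4608) (Steps.fwd (nat_lit 0) (Steps.fwd (nat_lit 4096) Steps.nil))) (nat_lit 60) (nat_lit 0),
  Rule.mk (nat_lit 0) (nat_lit 33) (Steps.fwd (nat_lit 3584) (Steps.fwd (nat_lit 0) (Steps.fwd (nat_lit 3584) Steps.nil))) (nat_lit 60) (nat_lit 0),
  Rule.mk (nat_lit 0) (nat_lit 33) (Steps.fwd (nat_lit 4608) (Steps.fwd (nat_lit 0) (Steps.bwd (nat_lit 9) Steps.nil))) (nat_lit 60) (nat_lit 0),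
  Rule.mk (nat_lit 0) (nat_lit 42) (Steps.bwd (nat_lit 8) (Steps.fwd (nat_lit 0) (Steps.fwd (nat_lit 4096) (Steps.fwd (nat_lit 0) Steps.nil)))) (nat_lit 60) (nat_lit 0),
  Rule.mk (nat_lit 8) (nat_lit 24) (Steps.bwd (nat_lit 0) (Steps.bwd (nat_lit 9) Steps.nil)) (nat_lit 60) (nat_lit 0),
  Rule.mk (nat_lit 5) (nat_lit 33) (Steps.bwd (nat_lit 8) (Steps.bwd (nat_lit 7) (Steps.fwd (nat_lit 4096) Steps.nil))) (nat_lit 42) (nat_lit 0),
  Rule.mk (nat_lit 0) (nat_lit 51) (Steps.bwd (nat_lit 7) (Steps.bwd (nat_lit 8) (Steps.bwd (nat_lit 5) (Steps.fwd (nat_lit 4096) (Steps.fwd (nat_lit 2560) Steps.nil))))) (nat_lit 44) (nat_lit 4),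
  Rule.mk (nat_lit 7) (nat_lit 24) (Steps.bwd (nat_lit 0) (Steps.bwd (nat_lit 7) Steps.nil)) (nat_lit 60) (nat_lit 0),
  Rule.mk (nat_lit 0) (nat_lit 42) (Steps.bwd (nat_lit 0) (Steps.fwd (nat_lit 5120) (Steps.fwd (nat_lit 0) (Steps.bwd (nat_lit 10) Steps.nil)))) (nat_lit 60) (nat_lit 0),
  Rule.mk (nat_lit 0) (nat_lit 33) (Steps.fwd (nat_lit 2560) (Steps.fwd (nat_lit 0) (Steps.fwd (nat_lit 2560) Steps.nil))) (nat_lit 60) (nat_lit 0),
  Rule.mk (nat_lit 0) (nat_lit 33) (Steps.bwd (nat_lit 7) (Steps.fwd (nat_lit 0) (Steps.fwd (nat_lit 3584) Steps.nil))) (nat_lit 60) (nat_lit 0),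
  Rule.mk (nat_lit 0) (nat_lit 33) (Steps.fwd (nat_lit 4096) (Steps.fwd (nat_lit 0) (Steps.bwd (nat_lit 8) Steps.nil))) (nat_lit 60) (nat_lit 0),
  Rule.mk (nat_lit 0) (nat_lit 42) (Steps.fwd (nat_lit 3584) (Steps.bwd (nat_lit 0) (Steps.bwd (nat_lit 7) (Steps.fwd (nat_lit 0) Steps.nil)))) (nat_lit 60) (nat_lit 0),
  Rule.mk (nat_lit 0) (nat_lit 24) (Steps.fwd (nat_lit 0) (Steps.fwd (nat_lit 0) Steps.nil)) (nat_lit 60) (nat_lit 0),
  Rule.mk (nat_lit 10) (nat_lit 24) (Steps.bwd (nat_lit 0) (Steps.fwd (nat_lit 5120) Steps.nil)) (nat_lit 60) (nat_lit 0),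
  Rule.mk (nat_lit 9) (nat_lit 24) (Steps.bwd (nat_lit 0) (Steps.bwd (nat_lit 8) Steps.nil)) (nat_lit 60) (nat_lit 0)]
noncomputable def R : List (List (Rule)) := [R_0]
def LW : List Word := [[], [0], [2], [3], [4], [6], [8], [10], [12], [13], [14], [0], [1], [2], [3], [4], [5], [6], [7], [8], [9], [10], [11]]
def par : Par := ⟨9, 5, 14, 23, 511, 16383, 8388607⟩
theorem hpar : par.ok := by decide
theorem hR0_0 : lall (R) (fun l => lall l (ruleOK Rf14 LW par)) = true := by decide +kernel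
theorem hR0 : lall (R) (fun l => lall l (ruleOK Rf14 LW par)) = true := hR0_0
theorem hR : RulesOK Rf14 LW par R := rulesOK_of rfl hR0
def cols : List (ℕ × ℕ) := [(512, 1), (1024, 3), (2048, 4), (2560, 5), (3072, 6), (3584, 7), (4096, 9), (5120, 10)]
theorem hcols : lall cols (colOK Rf14 LW par) = true := by decide +kernel
noncomputable def JS0 : List ℕ := [nat_lit 0x5a0015300e000a190a0004cb0700024603400112e29000816070001c080700150f0003c8878001e503c000f241e0007910f0003ca078001e480a0002a61f0007d20f8383e88181c1e4040210e9e1a001c180c800d0c8680e1a0c9819048281a0a0486430170b054281309044205864000900064a0e06832480404010010000100400380808060c8c03020180628080a021002060086000300020a04c1,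
  nat_lit 0x40014c22004a000148001b8084318f00419883e0101421f0000e01b80436017c6800780001000d066e84c6000705c006c001300049a]
theorem S0_c : blocks (facts 9 5 14 23 511 16383 8388607 9 511 6 63 A R 32) 32 JS0 276 = true := by decide +kernel
theorem S0 : On (Step.{u} Rf14 LW par A) 276 340 :=
  steps_of_blocks hpar hR S0_c (by decide +kernel)
theorem D0_c : allB (defOK 9 14 23 511 8388607 271 A K) 1 2 = true := by decide +kernel
theorem D0 : On (fun r => defOK par.W par.WL par.E par.mW par.mE 271 A K r = true) 256 384 :=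
  On.of_allB D0_c
noncomputable def JW0 : List ℕ := [nat_lit 0xa02720082210862208a]
theorem W0_c : blocks (rows 9 5 14 23 511 16383 8388607 10 1023 80 A 340 1 cols 16) 16 JW0 0 = true := by decide +kernel
theorem W0 : On (Row.{u} Rf14 LW par A 340 1 cols) 0 16 :=
  rows_of_blocks hpar (by decide) hcols W0_c (by decide +kernel)
theorem idx : Idx.{u} Rf14 [[0], [2], [4], [6], [8], [10], [12], [14]] [[0], [2], [4], [6], [8], [10]] 1 :=
  idx_of_cert hpar hR (K := K) (by decide +kernel) (T := 271) (T' := 384) (by decide) D0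
    (subs := [1,2,4,5,6,7]) (by decide +kernel) (T1 := 276) (by decide) (N := 340) S0
    (by decide) (n' := 16) (by decide) W0 (by decide +kernel) (by decide +kernel)
end f14
namespace f21
noncomputable def A_0 : List (ℕ) := [nat_lit 0x464c9aa266450d121d475050f2082441106158cc39b69b991745ca82a7294c52b4a5a91993231066098231990b49207c9d0433d233196749465519a3324cd334a79a1e82b0ac20ae48144842869924084e1322a709c28ee3b827e1f834b52d29f47d108721cc7d88e4235071a086818673c94822086228f3414c5304532a902b0a692a12551c4711cf13c503e9d0238485188642147538523a10c92f08b41a48320f733909aa609378c630c6340c7f1dc4399ca43793412048a1ca82a068e14014711c39488c1905270e4508c81b88c51324c104e12924b0ae82bc4d40d24ea0802552889ea9409024a746f047320cc208e6a2ac8e497284a5122850558a081a89f31004d945c170c4b8ba91bc6f312c3710d82b8c3512c31c49710bc5790f7200655956834cd30a24351cd61e06200e870f06929a46a18d9358c6c17c317cbc10be610cc52c042c1627314c518ce98a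50340c47f9fe831cc708c83208a729c82a132836c5149485224a529446d9b614d53519f07c0d3a4e8282a0a940508112446a0a228882c1f693648f40bc5f84d93606381b25448bb30b6890d113484359aa82e51149ec7b18b817825d174617d0019284521014046499126114da412849a0921f923f8fe90fc3c187a39083e1d907207a306c62389c27186012ce2a068613c4f1852261460151230064204c3340a4318c3618523a86c806c1b307e1f903e1f0e3d0f460f87d08ac2b1c48249024090408c94397a5ea0713dcc5c972316cb851ba6e887b390e3c8f231047550c0300835148c1402680d435508220944316502d0b4a10c43390240947b1614359ae71c47130763604701c0c36876a0c03040461194491ad02d892a0f83e40f63da85b16ca2f88a81b45f50ce33a0401014368da70e03848541424290a52060aa10b42a081e06040402900c83270e439303417a02409082108480ac1c485615942c0b0c0b05c80741d201210904411101b86e80781e2016081c25060c0b816809425305a08942d0c4c0904080e83a20340d142208940482470140928060b241f07d20402a90180e401a16a00f03d00b82e401c0d38280a200602080180c400804200202a40301d401006a00002300200a000,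
  nat_lit 0xa141c02e10e055487014142803421401890a05550520704290a922a818a0a80c2018061c0c07080500660280f381405280a090a0501430281140140c903904540c82290640730321d141906440c872a0ac2f48721c883909101c82e50e42f385a17902d040c17884a0bc31285e178c2f09140e0407090213048120824070c2103e7108442884210c4207102101050702e38380e081c0acc1586e70ac0d2056158c2b03881602840dc16202a16282c0b921605820b01d40580b1c2c0b880783aa0b81f305c0f142e0b861703e40801d283e221c1d020c0e83a207437306e22181e041210816508421381210842108520d020a08421104210284411062203c811031506e0b14370dc61b874a07808383c0f081e06920800a504011202008081004020804470601820300c2825060a0383010600b48300c081809500c016a02c0f3016019c0b02c605816102c252062128825094212822601412284a189c1104460884090c43110621d2031024c1001e50802018400b9c3a088c1d07420e81a5034039c1a06860d034106822401211102208841104410881240440928120250090244048121024090412024604812102406502c0b081602120b02aa07c1f103e0a18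15038a0a81c705415102a0a2415034c0705aa0380e181c02200e0b461682e80b404501e078c0f03540b82e205c04481a06940d034406810a0501428280a0c1402040400c701806300c0214060184030087010043008020804014802802a01405100a02840501d20280e201c07080e01a40700c401806100c0208040120010084010008008023804011402004e008025004011802008401000e0000060000028000010000004000001000b530b261886409d22704ca134c031345909292d105b9669210b631be5ba08539846fa5c94bd2f324a7494f43d0c6ea4c248922322a8684e039cc3c22a24709a18a6860d102b522b1d662c129298c701874438a651de44a12839ea8829364d8c70a2c42a91a49387ea4fe3290411da62049139107f04df37c43e1b8338cc922648e88a9278827a3c946d1b494092252749cc552664320c83a425185204b06761c661d92a12429098a92a4a6d9e0a1f0ec49588f8d19,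
  nat_lit 0x264c4c8a22264db314828985114481411ea144a208a252a45117945211a129108094a5fa8a51c546d9aea4d53a1a6a8928f844549d1b0a415081a0a4909052292829b2a4208d4a105121082e9446914223448191a5108932886809f6a2888f29f66d0cfb22447d91e13ecba49f65fa08f2fce8917e444471197e2f20bf44426c20083608949b08894d836466c17483647019b25d88f72ec67b22492ec5e297669191235c6891aa1348b849a46a88d2444c6a8d62354d712227b0cf740027b0bc60c05e39745e8c5e15482f12842e0b922005d089440045d0b642e88a520044a100120445112a404da111249a8da1c106d0fe124c4841263f286c1f82490f261f83f48fc30987f0f081e87810f454507830a03c1d521e0e450f01b18783b04723752390ec21c83d28ec1f087618941e8c680f479487a312033130c310a481886228c42a0c620d04310a811884b189c25844e0a042709e81384e289c1a984b131025896512c2818962a08340d140d86890d414086809a4340a0e1a06850d04c089e291c4f148a27898313c603898148c4c150c148a851503248a81984321854190c090c83238641990320cc41906670cc6350660988331842318f2818c6118c61b0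c610d94098b270d867286c0b043610501b03681041b08100d901b100e0d87c506c48087e3e9c3f1f0a1f8f841e85a30f83e947a1f4c200b441f42a20ac3828922514240e09250f7297a7b84bd35d27b97012e4e451725c0cb916c65c1c813747539ba7208dd1ec4720ea11e45250f23a8c7910463a8a411805210c01a885204cc06026404c13382606141301820986a50a429386a0a84351ece2083e11045950b22c14590b022c88681644348b42d14400f8e2d05c11684320860e8443204840902a11481488033a4811102408ce71602b08b01f24581ed02c1ae11c4d720e23598d71c0a6b8d851c46c38e03618381ac83607641c03b40601d9c6b0eca3683210ec23407618103017ce180aa50c011086011a8230a8e11814108c3828d61c846b12503589271142408922da04907021f08411ec5538b617845b0a8a2284011145f408a2f905f0c422f8da817c3708ce2010400782200da41b43a08da1c1038,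
  nat_lit 0x35d08319c41a130119c7a8cce264267268833930218c84a9303d449818c14c0f84a606328a131843f906931868118c39a0c626023406c61a05750d03ba0681dcc1e9ca11dcaf50ee3910770fc43b94a6394e541304ba8e5290672a282395140a687ba9344d509a22844d0de12688a24db45104c97aa450a412282b28a828148e1403270a010ac2810a0234e502304471183a044e051813484e0ac227046389a7f908f23088191441188c308c23284608c6230b881189d39184614da2f524609432308f111838a08c12944c13062605119304c889808cc251125128573894478c4a15c22512e91282a30ae4a945727442b942315cae40ae4e984d140426854313450089a4da04d1fd44e9422274da093a36209d124c4a9eaa25489392a848c9522424a9ec9254f520fe8084f54e927aa044290f652046f0d02228281176a378f841bc41887e20d4699f0120c73490639983c1d883987e31cd09311c3b288e1244471aa9238a12a127d9d092842849769424503142479ca134d05085421409f40a027a89f27c44d936127c55113e35209f2e4e4f8ba527c97213e4da84c1a504d95e626cb839365e909b15464d8ba41705c10602e286e17422e0ba21706e40b85e1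c5c17543797a6174be38ba18085d0ec4378de21b86e08de6a9c6f358a379b241bcd238dc5f986e350a3707631b8ae18d85708d32b925792c12b896295c6c1cae34885712e825911392c8910962fc64b15e125d00392e7b14972f444b9ec72bd00295e558caf200457900a0fc9409003624803dce401285200f621005590bb154c5597672acba29565d84ab34c86a8d2634c6c19a66c9cd32fca6989ca1a8d528d434906a1a463507021a86908d43a047835943c18a81e03d38f03a10781d063c1a8a1d0c240e8200c741a54259a871a43818d26b10d435846a1a821b4d609a85e24d42f926b0da2358bc097c4a18be31545f17252f8bc217c5e0cbe2f0c80184a2f0b829786104c52c0e610c253086719845884b03494580e492c0dd41604990b02c4458162a354e441623b24b14048588b022c463298a9890c5404e9898e34c48a2a064694ff19c863944731c6430c8289c640d0832132729ca7314e4c904b,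
  nat_lit 0x4a82718f4238cc1525484112a32c495188a4852111968f8521470a90a0a44845341525424a93c0e54a2e42a504095253a0f03c089c9e05330f909e092a4f03b143d1ea63b09329d89008ec43d27623e84811f32748fa5383fce8f940547ca1223e560d1f4ac28c9582465033a324e151927488ca26229513512c6885133952899b6244c984226688c7e3452341a281dcae51a23a98d120c6689d4a43ce431d47708ea1e92750fc73a8e229d44118431048411c43208ee29047fa88822067d11023e4fc29102290881ecc771986470cc419667a8cc1950662564330cf09989b90db4dd49ca0614dcfa426e8115374ace9ba72745c9c4a2e55091741c28ba7213e92b3272990d3942849ca0694e5182a56918d2b33449598294ad23119a6225233f109198864c4fc49889814c418c8620cc33110b318296a4c13d4a608c243050b2184499d0b4c468598e242d0a4a167ca8903e4c4e19e53e48621f27d0cf933c86d19e33f12d199e8198cf4d4e6799a933ccb099a3328cb195265950532c922196328466194e298ca52646530a61a906519881b18e6198ce28cc531c66428c66a1e34e10f224a9a190f248e87a14543c7a0958481cac3e0c560ac52b09031f8852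0901288481fe22410319203e0490428e551c41428de32709018ce288a90264931cff4a64841d3820c87710673b8f839f84490fc3fcc96a7474b4fb225a81a8fa41ce7d14063e8e8510e4388862182439ac921c45110e5f2087238e438a0521c47508e23a45d11d03788c111c50388e479847238a2388c311c23108e469907341483a30941d3a2a0e4711073c84681e46308f149e43ea0f242489d12a43e135220c8215353cd28214c84108b22085410f34606799e674d09231e63ea8f32a027994c628859214c78a8a614d45512452a8f1095429902929ca29a4a5450a74a4a3e24e2214c710ea4388f121ba7418f11f8a789d04384e809c262a4e81e107410a73a0e429d04088e82102428f2521484210a420c85384e420863210dd29c24328e12046709849384da310c26948622ce4308a3218d4490c83188b1c944588c522c8e1116248c8b238245970822cda3a0c672906274a832122418951a0c460506,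
  nat_lit 0x1e0a5b8b422dd2e09cc97a8e63a50731c673987729cc6e10e61f047325ca3a52e227064992e394a9725474b8c81a5c92892e4bc4649d214bcf0125e8b1d2f498a97a1444bc8431d29b1ce91e48749c423a48219d27a08ee3d1499a4c13d0e349e87508f4344e7a0fc43d126315096a9264a92932267498cd224c660926488466244a3f1380a4490a52228d0911925488a53a44919122381486a1a445508321a798d0d46048692284350c4a1a6f1d0d48ca869c0339ce75230739c774542739a0939c7d11ce9b20e738ca73938a4549a4a2a8b2115394e8aa545454a8122a68049a45d44d22c92684c21344f0c9a4382862026430ed521848a50c310e861fa5430a61a185690f24a0c56a1652b4a9515a761cad468656a3622b4f2095a5524ad3c8e759d6a2b0ec09d67524eb4a44758f483ac7f29d67610eb4a548f9b884a4b13252772529438e94a5844a4c40a52701c7338043ea1c9380ed41c06e14e0439448a1c3340c5321c76a50e4688871e43438f229de77a47c3bd07114ea3bd0b09de3f9cef328477a62a4a0fa4a509ba128440a941fa34a1241250988528440c49a20946110398253091046828820e94413611da8b05363c449b1a084d8d12a6c721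13646948b1966459132a2c8e8d162a448b1fa6469312a34961d1a46c68d22e9468fd219463a8fd4c0e7ea4833f4ca09fa4424fd328e630c8a328df41947688f124427690473b48329da3d90ed120c489f05244492122820c9141c4489fc6478fe124e5290fe4dc47f264a3f88841fc919cfe378a7f192a37c8241be6e1cdf1cca6f9c6437cdc30e46e24ee48c26e240a3707a19b864a0c832523219214c91d3992780cc9474c9523aa46d1e0a3a8e251d27908e94a54751e223a8d849e27928e23ca278a3393c51989e190a4f0a632791e1a2e550d1e420a8f2647478a04a3c8d90d0490c8d98e546d203a3653152442d49219c7490a70a487ca52449c889a4e24dd2752149285273e509399a749d342a4e9c0d334cd29626684652d0a66829d33408c99a7254cd0f12664128c83210321e06320a42990928cc83fc264146a48ca320a4328ca34850518a2528d2c098298192c38d49623284b1012a58900d2c,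
  nat_lit 0x30d45a96a2328c3096a74a4b53bc45a9cc82d468396a6814b549085a986630d2f49869720c3260e61934530c6221865388c3098813866609c33284e28282709ce1384c309c0c104e13042713d21384c60c832284c131c2603061309890984b404c95a8c028c66018072689829805904c04992600ca23012a41803010c02c8c2c232a2c8f4496471a0b2340e590d052c92021647588b243085a19462d06339685a28b42c4a5a0b222d0b319685984b421505a1664440ef31665814b32cd4598c272cc5919665b24b321145b0b432d8b6196e5b84b621125b0e472d874296c7390b62dd44296e4380e6316e3b1cb7]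
noncomputable def A : List (List (ℕ)) := [A_0]
noncomputable def K_0 : List (ℕ) := [nat_lit 0x64a14861e2609e07c18854d786da2b765db74e02879e385a01889fc8b1d289e2f7194f819d473e2084db454212629715f97f5099b5e99c6857b7f5dc7bdcb7adf97ba1784609645c9655f38e1987ca356019a551995f576549518c2318e6338ca3465997691a788de9689d780dc363dd862d8c821836bdc26b60f6e1bf6b225639bc695a66dd555c157855e8605b1611bd735745c9fa77dce745d06cdfb511a35b96f5655b4e15a5399f71d6b5359e6c96c5053f6a5a84c9404eda0675c84d1ec7b5905816957d4c4d5776a9ab4dd4651d436e9584b9637594b635ae595686e56459dbb4e956779be4d91f5152652133571395a96d4f9154a5314795e525665856245d3d4a122431234912d4bd308de36465274f1134811643d1d48525575144a91b4291043908529124611c42d0d4252c4692b4450740d06411054090140000,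
  nat_lit 0x1877d9e47e21b625c5829e5651ca8b62e786077d6058861d82e2a7560c7d229811e68020e841c1836197fdc07de1a899c47f97c5e61c7aa1f8a2247c5e76c185775cc619da64db55cd75]
noncomputable def K : List (List (ℕ)) := [K_0]
noncomputable def R_0 : List (Rule) := [Rule.mk (nat_lit 1) (nat_lit 43) (Steps.bwd (nat_lit 8) (Steps.fwd (nat_lit 1024) (Steps.fwd (nat_lit 8192) Steps.nil))) (nat_lit 38) (nat_lit 0),
  Rule.mk (nat_lit 3) (nat_lit 43) (Steps.bwd (nat_lit 8) (Steps.bwd (nat_lit 2) (Steps.fwd (nat_lit 8192) Steps.nil))) (nat_lit 40) (nat_lit 0),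
  Rule.mk (nat_lit 5) (nat_lit 43) (Steps.bwd (nat_lit 8) (Steps.fwd (nat_lit 7168) (Steps.fwd (nat_lit 8192) Steps.nil))) (nat_lit 42) (nat_lit 0),
  Rule.mk (nat_lit 7) (nat_lit 54) (Steps.bwd (nat_lit 8) (Steps.fwd (nat_lit 5120) (Steps.fwd (nat_lit 8192) (Steps.fwd (nat_lit 5120) Steps.nil)))) (nat_lit 44) (nat_lit 0),
  Rule.mk (nat_lit 5) (nat_lit 54) (Steps.bwd (nat_lit 6) (Steps.fwd (nat_lit 5120) (Steps.fwd (nat_lit 7168) (Steps.fwd (nat_lit 6144) Steps.nil)))) (nat_lit 24) (nat_lit 2),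
  Rule.mk (nat_lit 7) (nat_lit 54) (Steps.bwd (nat_lit 6) (Steps.fwd (nat_lit 5120) (Steps.fwd (nat_lit 6144) (Steps.fwd (nat_lit 5120) Steps.nil)))) (nat_lit 24) (nat_lit 0),
  Rule.mk (nat_lit 8) (nat_lit 54) (Steps.bwd (nat_lit 6) (Steps.bwd (nat_lit 8) (Steps.bwd (nat_lit 2) (Steps.fwd (nat_lit 6144) Steps.nil)))) (nat_lit 46) (nat_lit 2),
  Rule.mk (nat_lit 2) (nat_lit 54) (Steps.bwd (nat_lit 6) (Steps.bwd (nat_lit 8) (Steps.fwd (nat_lit 6144) (Steps.bwd (nat_lit 8) Steps.nil)))) (nat_lit 46) (nat_lit 0),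
  Rule.mk (nat_lit 8) (nat_lit 32) (Steps.bwd (nat_lit 8) (Steps.bwd (nat_lit 8) Steps.nil)) (nat_lit 36) (nat_lit 0),
  Rule.mk (nat_lit 1) (nat_lit 43) (Steps.fwd (nat_lit 8192) (Steps.fwd (nat_lit 1024) (Steps.bwd (nat_lit 8) Steps.nil))) (nat_lit 38) (nat_lit 2),
  Rule.mk (nat_lit 1) (nat_lit 43) (Steps.bwd (nat_lit 10) (Steps.fwd (nat_lit 1024) (Steps.fwd (nat_lit 10240) Steps.nil))) (nat_lit 54) (nat_lit 0),
  Rule.mk (nat_lit 2) (nat_lit 43) (Steps.bwd (nat_lit 10) (Steps.fwd (nat_lit 2048) (Steps.fwd (nat_lit 10240) Steps.nil))) (nat_lit 56) (nat_lit 2),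
  Rule.mk (nat_lit 9) (nat_lit 43) (Steps.bwd (nat_lit 10) (Steps.fwd (nat_lit 8192) (Steps.fwd (nat_lit 10240) Steps.nil))) (nat_lit 51) (nat_lit 1),
  Rule.mk (nat_lit 9) (nat_lit 32) (Steps.bwd (nat_lit 9) (Steps.bwd (nat_lit 9) Steps.nil)) (nat_lit 37) (nat_lit 0),
  Rule.mk (nat_lit 1) (nat_lit 43) (Steps.bwd (nat_lit 9) (Steps.fwd (nat_lit 1024) (Steps.fwd (nat_lit 9216) Steps.nil))) (nat_lit 38) (nat_lit 2),
  Rule.mk (nat_lit 2) (nat_lit 43) (Steps.bwd (nat_lit 9) (Steps.fwd (nat_lit 2048) (Steps.fwd (nat_lit 9216) Steps.nil))) (nat_lit 40) (nat_lit 2),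
  Rule.mk (nat_lit 10) (nat_lit 43) (Steps.bwd (nat_lit 9) (Steps.bwd (nat_lit 10) (Steps.fwd (nat_lit 8192) Steps.nil))) (nat_lit 51) (nat_lit 0),
  Rule.mk (nat_lit 4) (nat_lit 87) (Steps.fwd (nat_lit 10240) (Steps.bwd (nat_lit 8) (Steps.fwd (nat_lit 7168) (Steps.fwd (nat_lit 4096) (Steps.fwd (nat_lit 7168) (Steps.fwd (nat_lit 8192) (Steps.bwd (nat_lit 10) Steps.nil))))))) (nat_lit 58) (nat_lit 5),
  Rule.mk (nat_lit 2) (nat_lit 43) (Steps.bwd (nat_lit 4) (Steps.fwd (nat_lit 3072) (Steps.fwd (nat_lit 4096) Steps.nil))) (nat_lit 14) (nat_lit 0),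
  Rule.mk (nat_lit 6) (nat_lit 43) (Steps.bwd (nat_lit 4) (Steps.fwd (nat_lit 5120) (Steps.fwd (nat_lit 4096) Steps.nil))) (nat_lit 22) (nat_lit 0),
  Rule.mk (nat_lit 7) (nat_lit 43) (Steps.bwd (nat_lit 4) (Steps.fwd (nat_lit 7168) (Steps.fwd (nat_lit 4096) Steps.nil))) (nat_lit 30) (nat_lit 1),
  Rule.mk (nat_lit 2) (nat_lit 43) (Steps.bwd (nat_lit 4) (Steps.bwd (nat_lit 2) (Steps.fwd (nat_lit 4096) Steps.nil))) (nat_lit 14) (nat_lit 0),
  Rule.mk (nat_lit 5) (nat_lit 43) (Steps.bwd (nat_lit 4) (Steps.bwd (nat_lit 6) (Steps.fwd (nat_lit 4096) Steps.nil))) (nat_lit 22) (nat_lit 2),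
  Rule.mk (nat_lit 10) (nat_lit 87) (Steps.bwd (nat_lit 8) (Steps.fwd (nat_lit 7168) (Steps.bwd (nat_lit 4) (Steps.fwd (nat_lit 7168) (Steps.fwd (nat_lit 8192) (Steps.fwd (nat_lit 10240) (Steps.fwd (nat_lit 4096) Steps.nil))))))) (nat_lit 58) (nat_lit 6),
  Rule.mk (nat_lit 2) (nat_lit 43) (Steps.bwd (nat_lit 7) (Steps.bwd (nat_lit 3) (Steps.fwd (nat_lit 7168) Steps.nil))) (nat_lit 28) (nat_lit 2),
  Rule.mk (nat_lit 5) (nat_lit 43) (Steps.bwd (nat_lit 7) (Steps.fwd (nat_lit 5120) (Steps.fwd (nat_lit 7168) Steps.nil))) (nat_lit 32) (nat_lit 0),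
  Rule.mk (nat_lit 9) (nat_lit 54) (Steps.fwd (nat_lit 5120) (Steps.bwd (nat_lit 7) (Steps.bwd (nat_lit 8) (Steps.fwd (nat_lit 5120) Steps.nil)))) (nat_lit 44) (nat_lit 3),
  Rule.mk (nat_lit 10) (nat_lit 87) (Steps.bwd (nat_lit 4) (Steps.bwd (nat_lit 10) (Steps.bwd (nat_lit 8) (Steps.fwd (nat_lit 7168) (Steps.fwd (nat_lit 4096) (Steps.fwd (nat_lit 7168) (Steps.bwd (nat_lit 9) Steps.nil))))))) (nat_lit 58) (nat_lit 4),
  Rule.mk (nat_lit 10) (nat_lit 43) (Steps.bwd (nat_lit 8) (Steps.fwd (nat_lit 10240) (Steps.fwd (nat_lit 9216) Steps.nil))) (nat_lit 50) (nat_lit 1),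
  Rule.mk (nat_lit 3) (nat_lit 43) (Steps.bwd (nat_lit 8) (Steps.fwd (nat_lit 3072) (Steps.fwd (nat_lit 8192) Steps.nil))) (nat_lit 40) (nat_lit 0),
  Rule.mk (nat_lit 8) (nat_lit 32) (Steps.bwd (nat_lit 8) (Steps.fwd (nat_lit 9216) Steps.nil)) (nat_lit 36) (nat_lit 0),
  Rule.mk (nat_lit 10) (nat_lit 43) (Steps.bwd (nat_lit 8) (Steps.bwd (nat_lit 10) (Steps.bwd (nat_lit 8) Steps.nil))) (nat_lit 50) (nat_lit 1),
  Rule.mk (nat_lit 6) (nat_lit 54) (Steps.bwd (nat_lit 3) (Steps.fwd (nat_lit 8192) (Steps.fwd (nat_lit 6144) (Steps.bwd (nat_lit 9) Steps.nil)))) (nat_lit 47) (nat_lit 0),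
  Rule.mk (nat_lit 9) (nat_lit 32) (Steps.bwd (nat_lit 9) (Steps.fwd (nat_lit 8192) Steps.nil)) (nat_lit 37) (nat_lit 0),
  Rule.mk (nat_lit 7) (nat_lit 43) (Steps.bwd (nat_lit 9) (Steps.fwd (nat_lit 5120) (Steps.bwd (nat_lit 8) Steps.nil))) (nat_lit 42) (nat_lit 2),
  Rule.mk (nat_lit 5) (nat_lit 54) (Steps.bwd (nat_lit 9) (Steps.fwd (nat_lit 5120) (Steps.fwd (nat_lit 7168) (Steps.bwd (nat_lit 8) Steps.nil)))) (nat_lit 44) (nat_lit 2),
  Rule.mk (nat_lit 6) (nat_lit 54) (Steps.bwd (nat_lit 9) (Steps.fwd (nat_lit 6144) (Steps.fwd (nat_lit 2048) (Steps.fwd (nat_lit 8192) Steps.nil)))) (nat_lit 47) (nat_lit 3),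
  Rule.mk (nat_lit 10) (nat_lit 43) (Steps.bwd (nat_lit 9) (Steps.bwd (nat_lit 10) (Steps.bwd (nat_lit 9) Steps.nil))) (nat_lit 51) (nat_lit 0),
  Rule.mk (nat_lit 10) (nat_lit 43) (Steps.bwd (nat_lit 9) (Steps.fwd (nat_lit 10240) (Steps.bwd (nat_lit 9) Steps.nil))) (nat_lit 51) (nat_lit 0),
  Rule.mk (nat_lit 1) (nat_lit 43) (Steps.bwd (nat_lit 5) (Steps.fwd (nat_lit 1024) (Steps.fwd (nat_lit 5120) Steps.nil))) (nat_lit 18) (nat_lit 1),
  Rule.mk (nat_lit 3) (nat_lit 43) (Steps.bwd (nat_lit 5) (Steps.bwd (nat_lit 2) (Steps.fwd (nat_lit 5120) Steps.nil))) (nat_lit 20) (nat_lit 3),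
  Rule.mk (nat_lit 1) (nat_lit 43) (Steps.bwd (nat_lit 7) (Steps.fwd (nat_lit 1024) (Steps.fwd (nat_lit 7168) Steps.nil))) (nat_lit 26) (nat_lit 0),
  Rule.mk (nat_lit 2) (nat_lit 43) (Steps.bwd (nat_lit 7) (Steps.fwd (nat_lit 2048) (Steps.fwd (nat_lit 7168) Steps.nil))) (nat_lit 28) (nat_lit 2),
  Rule.mk (nat_lit 4) (nat_lit 43) (Steps.bwd (nat_lit 7) (Steps.fwd (nat_lit 4096) (Steps.fwd (nat_lit 7168) Steps.nil))) (nat_lit 30) (nat_lit 0),
  Rule.mk (nat_lit 8) (nat_lit 43) (Steps.bwd (nat_lit 7) (Steps.bwd (nat_lit 9) (Steps.fwd (nat_lit 5120) Steps.nil))) (nat_lit 42) (nat_lit 1),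
  Rule.mk (nat_lit 10) (nat_lit 65) (Steps.bwd (nat_lit 7) (Steps.fwd (nat_lit 10240) (Steps.fwd (nat_lit 7168) (Steps.bwd (nat_lit 10) (Steps.fwd (nat_lit 7168) Steps.nil))))) (nat_lit 52) (nat_lit 0),
  Rule.mk (nat_lit 8) (nat_lit 43) (Steps.bwd (nat_lit 10) (Steps.bwd (nat_lit 8) (Steps.fwd (nat_lit 10240) Steps.nil))) (nat_lit 50) (nat_lit 0),
  Rule.mk (nat_lit 2) (nat_lit 43) (Steps.bwd (nat_lit 10) (Steps.bwd (nat_lit 3) (Steps.fwd (nat_lit 10240) Steps.nil))) (nat_lit 56) (nat_lit 2),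
  Rule.mk (nat_lit 4) (nat_lit 87) (Steps.bwd (nat_lit 10) (Steps.bwd (nat_lit 8) (Steps.bwd (nat_lit 7) (Steps.fwd (nat_lit 4096) (Steps.fwd (nat_lit 7168) (Steps.fwd (nat_lit 8192) (Steps.fwd (nat_lit 10240) Steps.nil))))))) (nat_lit 58) (nat_lit 5),
  Rule.mk (nat_lit 7) (nat_lit 54) (Steps.bwd (nat_lit 5) (Steps.bwd (nat_lit 8) (Steps.bwd (nat_lit 5) (Steps.bwd (nat_lit 9) Steps.nil)))) (nat_lit 45) (nat_lit 1),
  Rule.mk (nat_lit 10) (nat_lit 65) (Steps.fwd (nat_lit 7168) (Steps.bwd (nat_lit 10) (Steps.fwd (nat_lit 7168) (Steps.fwd (nat_lit 10240) (Steps.bwd (nat_lit 7) Steps.nil))))) (nat_lit 52) (nat_lit 0),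
  Rule.mk (nat_lit 6) (nat_lit 43) (Steps.bwd (nat_lit 4) (Steps.bwd (nat_lit 5) (Steps.fwd (nat_lit 4096) Steps.nil))) (nat_lit 22) (nat_lit 0),
  Rule.mk (nat_lit 6) (nat_lit 54) (Steps.bwd (nat_lit 8) (Steps.bwd (nat_lit 2) (Steps.fwd (nat_lit 6144) (Steps.bwd (nat_lit 8) Steps.nil)))) (nat_lit 46) (nat_lit 3),
  Rule.mk (nat_lit 8) (nat_lit 54) (Steps.bwd (nat_lit 6) (Steps.bwd (nat_lit 8) (Steps.bwd (nat_lit 2) (Steps.bwd (nat_lit 6) Steps.nil)))) (nat_lit 46) (nat_lit 2),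
  Rule.mk (nat_lit 2) (nat_lit 54) (Steps.bwd (nat_lit 6) (Steps.bwd (nat_lit 8) (Steps.bwd (nat_lit 6) (Steps.bwd (nat_lit 8) Steps.nil)))) (nat_lit 46) (nat_lit 0),
  Rule.mk (nat_lit 9) (nat_lit 54) (Steps.bwd (nat_lit 6) (Steps.fwd (nat_lit 2048) (Steps.fwd (nat_lit 8192) (Steps.bwd (nat_lit 6) Steps.nil)))) (nat_lit 47) (nat_lit 4),
  Rule.mk (nat_lit 3) (nat_lit 43) (Steps.bwd (nat_lit 5) (Steps.fwd (nat_lit 3072) (Steps.fwd (nat_lit 5120) Steps.nil))) (nat_lit 20) (nat_lit 3),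
  Rule.mk (nat_lit 5) (nat_lit 54) (Steps.bwd (nat_lit 6) (Steps.fwd (nat_lit 5120) (Steps.fwd (nat_lit 7168) (Steps.bwd (nat_lit 6) Steps.nil)))) (nat_lit 24) (nat_lit 2),
  Rule.mk (nat_lit 6) (nat_lit 54) (Steps.fwd (nat_lit 7168) (Steps.bwd (nat_lit 5) (Steps.bwd (nat_lit 6) (Steps.fwd (nat_lit 5120) Steps.nil)))) (nat_lit 25) (nat_lit 0),
  Rule.mk (nat_lit 1) (nat_lit 43) (Steps.fwd (nat_lit 5120) (Steps.fwd (nat_lit 1024) (Steps.bwd (nat_lit 5) Steps.nil))) (nat_lit 18) (nat_lit 1),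
  Rule.mk (nat_lit 2) (nat_lit 43) (Steps.fwd (nat_lit 5120) (Steps.fwd (nat_lit 2048) (Steps.bwd (nat_lit 5) Steps.nil))) (nat_lit 20) (nat_lit 1),
  Rule.mk (nat_lit 4) (nat_lit 43) (Steps.bwd (nat_lit 6) (Steps.fwd (nat_lit 4096) (Steps.bwd (nat_lit 5) Steps.nil))) (nat_lit 22) (nat_lit 3),
  Rule.mk (nat_lit 7) (nat_lit 54) (Steps.bwd (nat_lit 8) (Steps.fwd (nat_lit 5120) (Steps.fwd (nat_lit 8192) (Steps.bwd (nat_lit 5) Steps.nil)))) (nat_lit 44) (nat_lit 0),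
  Rule.mk (nat_lit 6) (nat_lit 54) (Steps.bwd (nat_lit 8) (Steps.bwd (nat_lit 2) (Steps.bwd (nat_lit 6) (Steps.bwd (nat_lit 8) Steps.nil)))) (nat_lit 46) (nat_lit 3)]
noncomputable def R_1 : List (Rule) := [Rule.mk (nat_lit 8) (nat_lit 54) (Steps.bwd (nat_lit 6) (Steps.bwd (nat_lit 8) (Steps.fwd (nat_lit 3072) (Steps.fwd (nat_lit 6144) Steps.nil)))) (nat_lit 46) (nat_lit 2),
  Rule.mk (nat_lit 1) (nat_lit 43) (Steps.fwd (nat_lit 9216) (Steps.fwd (nat_lit 1024) (Steps.bwd (nat_lit 9) Steps.nil))) (nat_lit 38) (nat_lit 0),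
  Rule.mk (nat_lit 5) (nat_lit 43) (Steps.fwd (nat_lit 9216) (Steps.bwd (nat_lit 7) (Steps.bwd (nat_lit 9) Steps.nil))) (nat_lit 42) (nat_lit 0),
  Rule.mk (nat_lit 10) (nat_lit 43) (Steps.fwd (nat_lit 8192) (Steps.fwd (nat_lit 10240) (Steps.bwd (nat_lit 9) Steps.nil))) (nat_lit 51) (nat_lit 0),
  Rule.mk (nat_lit 4) (nat_lit 43) (Steps.bwd (nat_lit 5) (Steps.fwd (nat_lit 4096) (Steps.fwd (nat_lit 6144) Steps.nil))) (nat_lit 22) (nat_lit 1),
  Rule.mk (nat_lit 7) (nat_lit 43) (Steps.bwd (nat_lit 5) (Steps.bwd (nat_lit 7) (Steps.bwd (nat_lit 5) Steps.nil))) (nat_lit 32) (nat_lit 1),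
  Rule.mk (nat_lit 4) (nat_lit 43) (Steps.bwd (nat_lit 7) (Steps.bwd (nat_lit 4) (Steps.bwd (nat_lit 7) Steps.nil))) (nat_lit 30) (nat_lit 0),
  Rule.mk (nat_lit 5) (nat_lit 43) (Steps.bwd (nat_lit 7) (Steps.fwd (nat_lit 5120) (Steps.bwd (nat_lit 7) Steps.nil))) (nat_lit 32) (nat_lit 0),
  Rule.mk (nat_lit 9) (nat_lit 54) (Steps.bwd (nat_lit 7) (Steps.fwd (nat_lit 5120) (Steps.bwd (nat_lit 8) (Steps.fwd (nat_lit 5120) Steps.nil)))) (nat_lit 45) (nat_lit 0),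
  Rule.mk (nat_lit 10) (nat_lit 87) (Steps.bwd (nat_lit 4) (Steps.fwd (nat_lit 10240) (Steps.bwd (nat_lit 8) (Steps.fwd (nat_lit 7168) (Steps.fwd (nat_lit 4096) (Steps.fwd (nat_lit 7168) (Steps.fwd (nat_lit 8192) Steps.nil))))))) (nat_lit 58) (nat_lit 4),
  Rule.mk (nat_lit 5) (nat_lit 43) (Steps.bwd (nat_lit 8) (Steps.fwd (nat_lit 7168) (Steps.bwd (nat_lit 9) Steps.nil))) (nat_lit 42) (nat_lit 0),
  Rule.mk (nat_lit 10) (nat_lit 43) (Steps.bwd (nat_lit 8) (Steps.fwd (nat_lit 10240) (Steps.bwd (nat_lit 8) Steps.nil))) (nat_lit 50) (nat_lit 1),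
  Rule.mk (nat_lit 10) (nat_lit 87) (Steps.bwd (nat_lit 4) (Steps.fwd (nat_lit 10240) (Steps.bwd (nat_lit 8) (Steps.fwd (nat_lit 7168) (Steps.bwd (nat_lit 4) (Steps.bwd (nat_lit 7) (Steps.bwd (nat_lit 9) Steps.nil))))))) (nat_lit 58) (nat_lit 4),
  Rule.mk (nat_lit 9) (nat_lit 43) (Steps.fwd (nat_lit 10240) (Steps.bwd (nat_lit 9) (Steps.bwd (nat_lit 10) Steps.nil))) (nat_lit 51) (nat_lit 1),
  Rule.mk (nat_lit 1) (nat_lit 43) (Steps.fwd (nat_lit 10240) (Steps.fwd (nat_lit 1024) (Steps.bwd (nat_lit 10) Steps.nil))) (nat_lit 54) (nat_lit 0),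
  Rule.mk (nat_lit 7) (nat_lit 65) (Steps.fwd (nat_lit 10240) (Steps.bwd (nat_lit 7) (Steps.bwd (nat_lit 10) (Steps.fwd (nat_lit 7168) (Steps.bwd (nat_lit 10) Steps.nil))))) (nat_lit 52) (nat_lit 1),
  Rule.mk (nat_lit 5) (nat_lit 43) (Steps.bwd (nat_lit 7) (Steps.bwd (nat_lit 5) (Steps.bwd (nat_lit 7) Steps.nil))) (nat_lit 32) (nat_lit 0),
  Rule.mk (nat_lit 9) (nat_lit 54) (Steps.bwd (nat_lit 7) (Steps.bwd (nat_lit 5) (Steps.fwd (nat_lit 9216) (Steps.bwd (nat_lit 5) Steps.nil)))) (nat_lit 45) (nat_lit 0),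
  Rule.mk (nat_lit 6) (nat_lit 43) (Steps.bwd (nat_lit 4) (Steps.bwd (nat_lit 5) (Steps.bwd (nat_lit 4) Steps.nil))) (nat_lit 22) (nat_lit 0),
  Rule.mk (nat_lit 6) (nat_lit 54) (Steps.fwd (nat_lit 8192) (Steps.bwd (nat_lit 6) (Steps.fwd (nat_lit 2048) (Steps.fwd (nat_lit 8192) Steps.nil)))) (nat_lit 47) (nat_lit 3),
  Rule.mk (nat_lit 7) (nat_lit 43) (Steps.bwd (nat_lit 4) (Steps.fwd (nat_lit 7168) (Steps.bwd (nat_lit 4) Steps.nil))) (nat_lit 30) (nat_lit 1),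
  Rule.mk (nat_lit 5) (nat_lit 54) (Steps.fwd (nat_lit 9216) (Steps.bwd (nat_lit 5) (Steps.fwd (nat_lit 8192) (Steps.bwd (nat_lit 7) Steps.nil)))) (nat_lit 45) (nat_lit 2),
  Rule.mk (nat_lit 4) (nat_lit 43) (Steps.fwd (nat_lit 6144) (Steps.fwd (nat_lit 4096) (Steps.bwd (nat_lit 5) Steps.nil))) (nat_lit 22) (nat_lit 3),
  Rule.mk (nat_lit 6) (nat_lit 54) (Steps.bwd (nat_lit 8) (Steps.bwd (nat_lit 2) (Steps.fwd (nat_lit 6144) (Steps.fwd (nat_lit 9216) Steps.nil)))) (nat_lit 46) (nat_lit 3),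
  Rule.mk (nat_lit 10) (nat_lit 87) (Steps.bwd (nat_lit 8) (Steps.fwd (nat_lit 7168) (Steps.fwd (nat_lit 4096) (Steps.bwd (nat_lit 7) (Steps.fwd (nat_lit 8192) (Steps.bwd (nat_lit 10) (Steps.fwd (nat_lit 4096) Steps.nil))))))) (nat_lit 58) (nat_lit 6),
  Rule.mk (nat_lit 4) (nat_lit 43) (Steps.bwd (nat_lit 5) (Steps.fwd (nat_lit 4096) (Steps.bwd (nat_lit 6) Steps.nil))) (nat_lit 22) (nat_lit 1),
  Rule.mk (nat_lit 7) (nat_lit 54) (Steps.bwd (nat_lit 6) (Steps.bwd (nat_lit 5) (Steps.fwd (nat_lit 6144) (Steps.fwd (nat_lit 5120) Steps.nil)))) (nat_lit 24) (nat_lit 0),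
  Rule.mk (nat_lit 8) (nat_lit 54) (Steps.bwd (nat_lit 6) (Steps.fwd (nat_lit 9216) (Steps.bwd (nat_lit 2) (Steps.bwd (nat_lit 6) Steps.nil)))) (nat_lit 46) (nat_lit 2),
  Rule.mk (nat_lit 2) (nat_lit 54) (Steps.bwd (nat_lit 6) (Steps.fwd (nat_lit 9216) (Steps.bwd (nat_lit 6) (Steps.bwd (nat_lit 8) Steps.nil)))) (nat_lit 46) (nat_lit 0),
  Rule.mk (nat_lit 9) (nat_lit 54) (Steps.bwd (nat_lit 6) (Steps.fwd (nat_lit 2048) (Steps.bwd (nat_lit 9) (Steps.bwd (nat_lit 6) Steps.nil)))) (nat_lit 47) (nat_lit 4),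
  Rule.mk (nat_lit 10) (nat_lit 43) (Steps.fwd (nat_lit 8192) (Steps.bwd (nat_lit 10) (Steps.bwd (nat_lit 9) Steps.nil))) (nat_lit 51) (nat_lit 0),
  Rule.mk (nat_lit 4) (nat_lit 87) (Steps.fwd (nat_lit 7168) (Steps.fwd (nat_lit 8192) (Steps.bwd (nat_lit 10) (Steps.fwd (nat_lit 4096) (Steps.fwd (nat_lit 10240) (Steps.bwd (nat_lit 8) (Steps.fwd (nat_lit 7168) Steps.nil))))))) (nat_lit 58) (nat_lit 1),
  Rule.mk (nat_lit 4) (nat_lit 43) (Steps.fwd (nat_lit 5120) (Steps.bwd (nat_lit 4) (Steps.fwd (nat_lit 6144) Steps.nil))) (nat_lit 22) (nat_lit 1),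
  Rule.mk (nat_lit 4) (nat_lit 43) (Steps.bwd (nat_lit 6) (Steps.bwd (nat_lit 4) (Steps.fwd (nat_lit 5120) Steps.nil))) (nat_lit 22) (nat_lit 3),
  Rule.mk (nat_lit 7) (nat_lit 43) (Steps.bwd (nat_lit 5) (Steps.fwd (nat_lit 7168) (Steps.bwd (nat_lit 5) Steps.nil))) (nat_lit 32) (nat_lit 1),
  Rule.mk (nat_lit 6) (nat_lit 54) (Steps.bwd (nat_lit 5) (Steps.fwd (nat_lit 7168) (Steps.fwd (nat_lit 6144) (Steps.fwd (nat_lit 5120) Steps.nil)))) (nat_lit 24) (nat_lit 3),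
  Rule.mk (nat_lit 2) (nat_lit 43) (Steps.bwd (nat_lit 9) (Steps.bwd (nat_lit 3) (Steps.fwd (nat_lit 9216) Steps.nil))) (nat_lit 40) (nat_lit 2),
  Rule.mk (nat_lit 7) (nat_lit 43) (Steps.bwd (nat_lit 9) (Steps.bwd (nat_lit 5) (Steps.fwd (nat_lit 9216) Steps.nil))) (nat_lit 42) (nat_lit 2),
  Rule.mk (nat_lit 5) (nat_lit 54) (Steps.bwd (nat_lit 9) (Steps.bwd (nat_lit 5) (Steps.fwd (nat_lit 7168) (Steps.fwd (nat_lit 9216) Steps.nil)))) (nat_lit 44) (nat_lit 2),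
  Rule.mk (nat_lit 7) (nat_lit 54) (Steps.bwd (nat_lit 8) (Steps.bwd (nat_lit 5) (Steps.fwd (nat_lit 8192) (Steps.bwd (nat_lit 5) Steps.nil)))) (nat_lit 44) (nat_lit 0),
  Rule.mk (nat_lit 6) (nat_lit 54) (Steps.bwd (nat_lit 8) (Steps.fwd (nat_lit 3072) (Steps.fwd (nat_lit 6144) (Steps.fwd (nat_lit 9216) Steps.nil)))) (nat_lit 46) (nat_lit 3),
  Rule.mk (nat_lit 10) (nat_lit 65) (Steps.fwd (nat_lit 7168) (Steps.fwd (nat_lit 10240) (Steps.fwd (nat_lit 7168) (Steps.fwd (nat_lit 10240) (Steps.bwd (nat_lit 7) Steps.nil))))) (nat_lit 52) (nat_lit 0),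
  Rule.mk (nat_lit 4) (nat_lit 43) (Steps.fwd (nat_lit 5120) (Steps.bwd (nat_lit 4) (Steps.bwd (nat_lit 6) Steps.nil))) (nat_lit 22) (nat_lit 1),
  Rule.mk (nat_lit 7) (nat_lit 54) (Steps.fwd (nat_lit 5120) (Steps.bwd (nat_lit 6) (Steps.bwd (nat_lit 5) (Steps.bwd (nat_lit 6) Steps.nil)))) (nat_lit 25) (nat_lit 1),
  Rule.mk (nat_lit 5) (nat_lit 54) (Steps.bwd (nat_lit 6) (Steps.bwd (nat_lit 5) (Steps.bwd (nat_lit 7) (Steps.bwd (nat_lit 6) Steps.nil)))) (nat_lit 24) (nat_lit 2),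
  Rule.mk (nat_lit 9) (nat_lit 54) (Steps.bwd (nat_lit 6) (Steps.bwd (nat_lit 3) (Steps.bwd (nat_lit 9) (Steps.bwd (nat_lit 6) Steps.nil)))) (nat_lit 47) (nat_lit 4),
  Rule.mk (nat_lit 6) (nat_lit 54) (Steps.bwd (nat_lit 7) (Steps.fwd (nat_lit 5120) (Steps.fwd (nat_lit 6144) (Steps.bwd (nat_lit 5) Steps.nil)))) (nat_lit 25) (nat_lit 0),
  Rule.mk (nat_lit 10) (nat_lit 65) (Steps.bwd (nat_lit 7) (Steps.bwd (nat_lit 10) (Steps.fwd (nat_lit 7168) (Steps.fwd (nat_lit 10240) (Steps.bwd (nat_lit 7) Steps.nil))))) (nat_lit 52) (nat_lit 0),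
  Rule.mk (nat_lit 5) (nat_lit 43) (Steps.bwd (nat_lit 8) (Steps.bwd (nat_lit 7) (Steps.fwd (nat_lit 8192) Steps.nil))) (nat_lit 42) (nat_lit 0),
  Rule.mk (nat_lit 4) (nat_lit 87) (Steps.fwd (nat_lit 10240) (Steps.bwd (nat_lit 8) (Steps.bwd (nat_lit 7) (Steps.fwd (nat_lit 4096) (Steps.bwd (nat_lit 7) (Steps.fwd (nat_lit 8192) (Steps.bwd (nat_lit 10) Steps.nil))))))) (nat_lit 58) (nat_lit 5),
  Rule.mk (nat_lit 7) (nat_lit 43) (Steps.bwd (nat_lit 1) (Steps.fwd (nat_lit 7168) (Steps.fwd (nat_lit 1024) Steps.nil))) (nat_lit 26) (nat_lit 1),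
  Rule.mk (nat_lit 4) (nat_lit 65) (Steps.bwd (nat_lit 1) (Steps.bwd (nat_lit 4) (Steps.fwd (nat_lit 1024) (Steps.fwd (nat_lit 4096) (Steps.fwd (nat_lit 1024) Steps.nil))))) (nat_lit 16) (nat_lit 0),
  Rule.mk (nat_lit 10) (nat_lit 43) (Steps.bwd (nat_lit 1) (Steps.fwd (nat_lit 10240) (Steps.fwd (nat_lit 1024) Steps.nil))) (nat_lit 54) (nat_lit 1),
  Rule.mk (nat_lit 9) (nat_lit 43) (Steps.bwd (nat_lit 1) (Steps.bwd (nat_lit 8) (Steps.fwd (nat_lit 1024) Steps.nil))) (nat_lit 38) (nat_lit 3),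
  Rule.mk (nat_lit 1) (nat_lit 43) (Steps.bwd (nat_lit 9) (Steps.bwd (nat_lit 1) (Steps.bwd (nat_lit 8) Steps.nil))) (nat_lit 38) (nat_lit 2),
  Rule.mk (nat_lit 1) (nat_lit 43) (Steps.bwd (nat_lit 9) (Steps.fwd (nat_lit 1024) (Steps.bwd (nat_lit 8) Steps.nil))) (nat_lit 38) (nat_lit 2),
  Rule.mk (nat_lit 5) (nat_lit 43) (Steps.fwd (nat_lit 1024) (Steps.fwd (nat_lit 5120) (Steps.bwd (nat_lit 1) Steps.nil))) (nat_lit 18) (nat_lit 0),
  Rule.mk (nat_lit 4) (nat_lit 87) (Steps.fwd (nat_lit 10240) (Steps.fwd (nat_lit 9216) (Steps.fwd (nat_lit 7168) (Steps.fwd (nat_lit 4096) (Steps.fwd (nat_lit 7168) (Steps.bwd (nat_lit 9) (Steps.bwd (nat_lit 10) Steps.nil))))))) (nat_lit 58) (nat_lit 5),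
  Rule.mk (nat_lit 1) (nat_lit 43) (Steps.bwd (nat_lit 7) (Steps.fwd (nat_lit 1024) (Steps.bwd (nat_lit 7) Steps.nil))) (nat_lit 26) (nat_lit 0),
  Rule.mk (nat_lit 1) (nat_lit 43) (Steps.bwd (nat_lit 10) (Steps.fwd (nat_lit 1024) (Steps.bwd (nat_lit 10) Steps.nil))) (nat_lit 54) (nat_lit 0),
  Rule.mk (nat_lit 4) (nat_lit 65) (Steps.fwd (nat_lit 1024) (Steps.bwd (nat_lit 4) (Steps.fwd (nat_lit 1024) (Steps.fwd (nat_lit 4096) (Steps.bwd (nat_lit 1) Steps.nil))))) (nat_lit 16) (nat_lit 0),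
  Rule.mk (nat_lit 8) (nat_lit 43) (Steps.bwd (nat_lit 10) (Steps.bwd (nat_lit 8) (Steps.bwd (nat_lit 10) Steps.nil))) (nat_lit 50) (nat_lit 0),
  Rule.mk (nat_lit 4) (nat_lit 65) (Steps.fwd (nat_lit 1024) (Steps.fwd (nat_lit 4096) (Steps.fwd (nat_lit 1024) (Steps.bwd (nat_lit 4) (Steps.bwd (nat_lit 1) Steps.nil))))) (nat_lit 16) (nat_lit 0),
  Rule.mk (nat_lit 5) (nat_lit 43) (Steps.bwd (nat_lit 8) (Steps.bwd (nat_lit 7) (Steps.bwd (nat_lit 9) Steps.nil))) (nat_lit 42) (nat_lit 0)]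
noncomputable def R_2 : List (Rule) := [Rule.mk (nat_lit 1) (nat_lit 43) (Steps.bwd (nat_lit 5) (Steps.fwd (nat_lit 1024) (Steps.bwd (nat_lit 5) Steps.nil))) (nat_lit 18) (nat_lit 1),
  Rule.mk (nat_lit 7) (nat_lit 54) (Steps.bwd (nat_lit 5) (Steps.bwd (nat_lit 8) (Steps.fwd (nat_lit 5120) (Steps.bwd (nat_lit 9) Steps.nil)))) (nat_lit 45) (nat_lit 1),
  Rule.mk (nat_lit 7) (nat_lit 43) (Steps.fwd (nat_lit 1024) (Steps.bwd (nat_lit 7) (Steps.bwd (nat_lit 1) Steps.nil))) (nat_lit 26) (nat_lit 1),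
  Rule.mk (nat_lit 1) (nat_lit 43) (Steps.bwd (nat_lit 8) (Steps.fwd (nat_lit 1024) (Steps.bwd (nat_lit 9) Steps.nil))) (nat_lit 38) (nat_lit 0),
  Rule.mk (nat_lit 7) (nat_lit 43) (Steps.bwd (nat_lit 5) (Steps.bwd (nat_lit 7) (Steps.fwd (nat_lit 5120) Steps.nil))) (nat_lit 32) (nat_lit 1),
  Rule.mk (nat_lit 10) (nat_lit 65) (Steps.fwd (nat_lit 7168) (Steps.fwd (nat_lit 10240) (Steps.fwd (nat_lit 7168) (Steps.bwd (nat_lit 10) (Steps.bwd (nat_lit 7) Steps.nil))))) (nat_lit 52) (nat_lit 0),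
  Rule.mk (nat_lit 4) (nat_lit 43) (Steps.fwd (nat_lit 7168) (Steps.fwd (nat_lit 4096) (Steps.bwd (nat_lit 7) Steps.nil))) (nat_lit 30) (nat_lit 0),
  Rule.mk (nat_lit 5) (nat_lit 43) (Steps.fwd (nat_lit 1024) (Steps.bwd (nat_lit 5) (Steps.bwd (nat_lit 1) Steps.nil))) (nat_lit 18) (nat_lit 0),
  Rule.mk (nat_lit 7) (nat_lit 43) (Steps.fwd (nat_lit 1024) (Steps.fwd (nat_lit 7168) (Steps.bwd (nat_lit 1) Steps.nil))) (nat_lit 26) (nat_lit 1),
  Rule.mk (nat_lit 8) (nat_lit 43) (Steps.fwd (nat_lit 1024) (Steps.bwd (nat_lit 9) (Steps.bwd (nat_lit 1) Steps.nil))) (nat_lit 38) (nat_lit 1),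
  Rule.mk (nat_lit 4) (nat_lit 43) (Steps.bwd (nat_lit 6) (Steps.fwd (nat_lit 4096) (Steps.fwd (nat_lit 5120) Steps.nil))) (nat_lit 22) (nat_lit 3),
  Rule.mk (nat_lit 4) (nat_lit 65) (Steps.bwd (nat_lit 1) (Steps.fwd (nat_lit 4096) (Steps.fwd (nat_lit 1024) (Steps.bwd (nat_lit 4) (Steps.bwd (nat_lit 1) Steps.nil))))) (nat_lit 16) (nat_lit 0),
  Rule.mk (nat_lit 6) (nat_lit 43) (Steps.fwd (nat_lit 4096) (Steps.bwd (nat_lit 5) (Steps.bwd (nat_lit 4) Steps.nil))) (nat_lit 22) (nat_lit 0),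
  Rule.mk (nat_lit 7) (nat_lit 43) (Steps.fwd (nat_lit 4096) (Steps.bwd (nat_lit 7) (Steps.bwd (nat_lit 4) Steps.nil))) (nat_lit 30) (nat_lit 1),
  Rule.mk (nat_lit 5) (nat_lit 54) (Steps.bwd (nat_lit 6) (Steps.bwd (nat_lit 5) (Steps.bwd (nat_lit 7) (Steps.fwd (nat_lit 6144) Steps.nil)))) (nat_lit 24) (nat_lit 2),
  Rule.mk (nat_lit 6) (nat_lit 54) (Steps.bwd (nat_lit 7) (Steps.fwd (nat_lit 5120) (Steps.bwd (nat_lit 6) (Steps.bwd (nat_lit 5) Steps.nil)))) (nat_lit 25) (nat_lit 0),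
  Rule.mk (nat_lit 4) (nat_lit 43) (Steps.fwd (nat_lit 5120) (Steps.fwd (nat_lit 4096) (Steps.bwd (nat_lit 6) Steps.nil))) (nat_lit 22) (nat_lit 1),
  Rule.mk (nat_lit 1) (nat_lit 43) (Steps.fwd (nat_lit 5120) (Steps.bwd (nat_lit 1) (Steps.bwd (nat_lit 5) Steps.nil))) (nat_lit 18) (nat_lit 1),
  Rule.mk (nat_lit 9) (nat_lit 43) (Steps.bwd (nat_lit 10) (Steps.fwd (nat_lit 8192) (Steps.bwd (nat_lit 10) Steps.nil))) (nat_lit 51) (nat_lit 1),
  Rule.mk (nat_lit 7) (nat_lit 65) (Steps.bwd (nat_lit 10) (Steps.fwd (nat_lit 7168) (Steps.bwd (nat_lit 10) (Steps.fwd (nat_lit 7168) (Steps.bwd (nat_lit 10) Steps.nil))))) (nat_lit 52) (nat_lit 1),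
  Rule.mk (nat_lit 9) (nat_lit 43) (Steps.bwd (nat_lit 5) (Steps.bwd (nat_lit 8) (Steps.fwd (nat_lit 7168) Steps.nil))) (nat_lit 42) (nat_lit 3),
  Rule.mk (nat_lit 9) (nat_lit 32) (Steps.fwd (nat_lit 8192) (Steps.bwd (nat_lit 9) Steps.nil)) (nat_lit 37) (nat_lit 0),
  Rule.mk (nat_lit 7) (nat_lit 65) (Steps.bwd (nat_lit 10) (Steps.bwd (nat_lit 7) (Steps.bwd (nat_lit 10) (Steps.fwd (nat_lit 7168) (Steps.bwd (nat_lit 10) Steps.nil))))) (nat_lit 52) (nat_lit 1),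
  Rule.mk (nat_lit 9) (nat_lit 43) (Steps.bwd (nat_lit 5) (Steps.fwd (nat_lit 9216) (Steps.fwd (nat_lit 7168) Steps.nil))) (nat_lit 42) (nat_lit 3),
  Rule.mk (nat_lit 5) (nat_lit 54) (Steps.fwd (nat_lit 9216) (Steps.fwd (nat_lit 5120) (Steps.bwd (nat_lit 9) (Steps.bwd (nat_lit 7) Steps.nil)))) (nat_lit 45) (nat_lit 2),
  Rule.mk (nat_lit 7) (nat_lit 54) (Steps.bwd (nat_lit 8) (Steps.bwd (nat_lit 5) (Steps.bwd (nat_lit 9) (Steps.bwd (nat_lit 5) Steps.nil)))) (nat_lit 44) (nat_lit 0),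
  Rule.mk (nat_lit 6) (nat_lit 43) (Steps.fwd (nat_lit 4096) (Steps.bwd (nat_lit 5) (Steps.fwd (nat_lit 4096) Steps.nil))) (nat_lit 22) (nat_lit 0),
  Rule.mk (nat_lit 2) (nat_lit 54) (Steps.bwd (nat_lit 6) (Steps.fwd (nat_lit 9216) (Steps.fwd (nat_lit 6144) (Steps.bwd (nat_lit 8) Steps.nil)))) (nat_lit 46) (nat_lit 0),
  Rule.mk (nat_lit 2) (nat_lit 32) (Steps.bwd (nat_lit 2) (Steps.bwd (nat_lit 2) Steps.nil)) (nat_lit 2) (nat_lit 0),
  Rule.mk (nat_lit 1) (nat_lit 65) (Steps.bwd (nat_lit 2) (Steps.fwd (nat_lit 1024) (Steps.bwd (nat_lit 2) (Steps.bwd (nat_lit 1) (Steps.bwd (nat_lit 2) Steps.nil))))) (nat_lit 12) (nat_lit 1),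
  Rule.mk (nat_lit 3) (nat_lit 43) (Steps.bwd (nat_lit 10) (Steps.bwd (nat_lit 2) (Steps.bwd (nat_lit 10) Steps.nil))) (nat_lit 56) (nat_lit 0),
  Rule.mk (nat_lit 3) (nat_lit 32) (Steps.bwd (nat_lit 3) (Steps.bwd (nat_lit 3) Steps.nil)) (nat_lit 3) (nat_lit 0),
  Rule.mk (nat_lit 10) (nat_lit 43) (Steps.bwd (nat_lit 3) (Steps.fwd (nat_lit 10240) (Steps.bwd (nat_lit 2) Steps.nil))) (nat_lit 56) (nat_lit 3),
  Rule.mk (nat_lit 1) (nat_lit 65) (Steps.bwd (nat_lit 3) (Steps.fwd (nat_lit 1024) (Steps.fwd (nat_lit 2048) (Steps.bwd (nat_lit 1) (Steps.bwd (nat_lit 3) Steps.nil))))) (nat_lit 13) (nat_lit 0),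
  Rule.mk (nat_lit 7) (nat_lit 43) (Steps.bwd (nat_lit 2) (Steps.bwd (nat_lit 7) (Steps.bwd (nat_lit 3) Steps.nil))) (nat_lit 28) (nat_lit 1),
  Rule.mk (nat_lit 1) (nat_lit 65) (Steps.bwd (nat_lit 2) (Steps.fwd (nat_lit 1024) (Steps.fwd (nat_lit 3072) (Steps.bwd (nat_lit 1) (Steps.bwd (nat_lit 2) Steps.nil))))) (nat_lit 12) (nat_lit 1),
  Rule.mk (nat_lit 1) (nat_lit 65) (Steps.bwd (nat_lit 3) (Steps.fwd (nat_lit 1024) (Steps.bwd (nat_lit 3) (Steps.bwd (nat_lit 1) (Steps.bwd (nat_lit 3) Steps.nil))))) (nat_lit 13) (nat_lit 0),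
  Rule.mk (nat_lit 9) (nat_lit 54) (Steps.bwd (nat_lit 6) (Steps.bwd (nat_lit 3) (Steps.fwd (nat_lit 8192) (Steps.bwd (nat_lit 6) Steps.nil)))) (nat_lit 47) (nat_lit 4),
  Rule.mk (nat_lit 9) (nat_lit 54) (Steps.bwd (nat_lit 7) (Steps.fwd (nat_lit 5120) (Steps.fwd (nat_lit 9216) (Steps.fwd (nat_lit 5120) Steps.nil)))) (nat_lit 45) (nat_lit 0),
  Rule.mk (nat_lit 10) (nat_lit 87) (Steps.bwd (nat_lit 4) (Steps.fwd (nat_lit 10240) (Steps.bwd (nat_lit 8) (Steps.bwd (nat_lit 7) (Steps.bwd (nat_lit 4) (Steps.bwd (nat_lit 7) (Steps.bwd (nat_lit 9) Steps.nil))))))) (nat_lit 58) (nat_lit 4),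
  Rule.mk (nat_lit 4) (nat_lit 43) (Steps.bwd (nat_lit 7) (Steps.bwd (nat_lit 4) (Steps.fwd (nat_lit 7168) Steps.nil))) (nat_lit 30) (nat_lit 0),
  Rule.mk (nat_lit 4) (nat_lit 65) (Steps.bwd (nat_lit 1) (Steps.fwd (nat_lit 4096) (Steps.bwd (nat_lit 1) (Steps.fwd (nat_lit 4096) (Steps.bwd (nat_lit 1) Steps.nil))))) (nat_lit 16) (nat_lit 0),
  Rule.mk (nat_lit 6) (nat_lit 43) (Steps.fwd (nat_lit 4096) (Steps.fwd (nat_lit 5120) (Steps.bwd (nat_lit 4) Steps.nil))) (nat_lit 22) (nat_lit 0),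
  Rule.mk (nat_lit 5) (nat_lit 54) (Steps.bwd (nat_lit 6) (Steps.bwd (nat_lit 7) (Steps.bwd (nat_lit 5) (Steps.fwd (nat_lit 6144) Steps.nil)))) (nat_lit 25) (nat_lit 4),
  Rule.mk (nat_lit 6) (nat_lit 54) (Steps.bwd (nat_lit 7) (Steps.fwd (nat_lit 5120) (Steps.bwd (nat_lit 6) (Steps.fwd (nat_lit 5120) Steps.nil)))) (nat_lit 25) (nat_lit 0),
  Rule.mk (nat_lit 5) (nat_lit 43) (Steps.bwd (nat_lit 4) (Steps.fwd (nat_lit 6144) (Steps.fwd (nat_lit 4096) Steps.nil))) (nat_lit 22) (nat_lit 2),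
  Rule.mk (nat_lit 7) (nat_lit 43) (Steps.bwd (nat_lit 4) (Steps.bwd (nat_lit 7) (Steps.bwd (nat_lit 4) Steps.nil))) (nat_lit 30) (nat_lit 1),
  Rule.mk (nat_lit 1) (nat_lit 65) (Steps.bwd (nat_lit 4) (Steps.fwd (nat_lit 1024) (Steps.bwd (nat_lit 4) (Steps.bwd (nat_lit 1) (Steps.fwd (nat_lit 4096) Steps.nil))))) (nat_lit 16) (nat_lit 1),
  Rule.mk (nat_lit 5) (nat_lit 54) (Steps.bwd (nat_lit 6) (Steps.fwd (nat_lit 5120) (Steps.bwd (nat_lit 7) (Steps.bwd (nat_lit 6) Steps.nil)))) (nat_lit 24) (nat_lit 2),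
  Rule.mk (nat_lit 7) (nat_lit 54) (Steps.bwd (nat_lit 6) (Steps.fwd (nat_lit 5120) (Steps.fwd (nat_lit 6144) (Steps.bwd (nat_lit 5) Steps.nil)))) (nat_lit 24) (nat_lit 0),
  Rule.mk (nat_lit 4) (nat_lit 43) (Steps.fwd (nat_lit 5120) (Steps.fwd (nat_lit 4096) (Steps.fwd (nat_lit 6144) Steps.nil))) (nat_lit 22) (nat_lit 1),
  Rule.mk (nat_lit 1) (nat_lit 43) (Steps.bwd (nat_lit 7) (Steps.bwd (nat_lit 1) (Steps.bwd (nat_lit 7) Steps.nil))) (nat_lit 26) (nat_lit 0),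
  Rule.mk (nat_lit 8) (nat_lit 54) (Steps.bwd (nat_lit 5) (Steps.bwd (nat_lit 9) (Steps.bwd (nat_lit 5) (Steps.bwd (nat_lit 7) Steps.nil)))) (nat_lit 44) (nat_lit 1),
  Rule.mk (nat_lit 1) (nat_lit 43) (Steps.bwd (nat_lit 8) (Steps.bwd (nat_lit 1) (Steps.bwd (nat_lit 9) Steps.nil))) (nat_lit 38) (nat_lit 0),
  Rule.mk (nat_lit 7) (nat_lit 54) (Steps.bwd (nat_lit 8) (Steps.fwd (nat_lit 5120) (Steps.bwd (nat_lit 9) (Steps.bwd (nat_lit 5) Steps.nil)))) (nat_lit 44) (nat_lit 0),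
  Rule.mk (nat_lit 10) (nat_lit 43) (Steps.fwd (nat_lit 1024) (Steps.bwd (nat_lit 10) (Steps.bwd (nat_lit 1) Steps.nil))) (nat_lit 54) (nat_lit 1),
  Rule.mk (nat_lit 3) (nat_lit 43) (Steps.bwd (nat_lit 9) (Steps.fwd (nat_lit 3072) (Steps.bwd (nat_lit 8) Steps.nil))) (nat_lit 41) (nat_lit 3),
  Rule.mk (nat_lit 8) (nat_lit 43) (Steps.bwd (nat_lit 3) (Steps.fwd (nat_lit 8192) (Steps.fwd (nat_lit 3072) Steps.nil))) (nat_lit 41) (nat_lit 2),
  Rule.mk (nat_lit 2) (nat_lit 43) (Steps.bwd (nat_lit 8) (Steps.fwd (nat_lit 2048) (Steps.fwd (nat_lit 8192) Steps.nil))) (nat_lit 41) (nat_lit 1),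
  Rule.mk (nat_lit 7) (nat_lit 43) (Steps.fwd (nat_lit 2048) (Steps.fwd (nat_lit 7168) (Steps.bwd (nat_lit 2) Steps.nil))) (nat_lit 28) (nat_lit 3),
  Rule.mk (nat_lit 4) (nat_lit 43) (Steps.bwd (nat_lit 2) (Steps.fwd (nat_lit 4096) (Steps.bwd (nat_lit 2) Steps.nil))) (nat_lit 14) (nat_lit 1),
  Rule.mk (nat_lit 7) (nat_lit 43) (Steps.bwd (nat_lit 2) (Steps.fwd (nat_lit 7168) (Steps.fwd (nat_lit 2048) Steps.nil))) (nat_lit 28) (nat_lit 1),
  Rule.mk (nat_lit 9) (nat_lit 43) (Steps.bwd (nat_lit 2) (Steps.bwd (nat_lit 8) (Steps.fwd (nat_lit 2048) Steps.nil))) (nat_lit 41) (nat_lit 0),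
  Rule.mk (nat_lit 10) (nat_lit 43) (Steps.bwd (nat_lit 2) (Steps.fwd (nat_lit 10240) (Steps.bwd (nat_lit 3) Steps.nil))) (nat_lit 56) (nat_lit 1)]
noncomputable def R_3 : List (Rule) := [Rule.mk (nat_lit 5) (nat_lit 43) (Steps.fwd (nat_lit 9216) (Steps.fwd (nat_lit 7168) (Steps.bwd (nat_lit 9) Steps.nil))) (nat_lit 42) (nat_lit 0),
  Rule.mk (nat_lit 6) (nat_lit 54) (Steps.bwd (nat_lit 9) (Steps.fwd (nat_lit 6144) (Steps.fwd (nat_lit 2048) (Steps.bwd (nat_lit 9) Steps.nil)))) (nat_lit 47) (nat_lit 3),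
  Rule.mk (nat_lit 3) (nat_lit 43) (Steps.bwd (nat_lit 5) (Steps.bwd (nat_lit 2) (Steps.bwd (nat_lit 5) Steps.nil))) (nat_lit 20) (nat_lit 3),
  Rule.mk (nat_lit 7) (nat_lit 54) (Steps.bwd (nat_lit 5) (Steps.fwd (nat_lit 9216) (Steps.fwd (nat_lit 5120) (Steps.bwd (nat_lit 9) Steps.nil)))) (nat_lit 45) (nat_lit 1),
  Rule.mk (nat_lit 5) (nat_lit 43) (Steps.bwd (nat_lit 3) (Steps.fwd (nat_lit 5120) (Steps.bwd (nat_lit 2) Steps.nil))) (nat_lit 20) (nat_lit 2),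
  Rule.mk (nat_lit 7) (nat_lit 43) (Steps.bwd (nat_lit 3) (Steps.bwd (nat_lit 7) (Steps.bwd (nat_lit 2) Steps.nil))) (nat_lit 28) (nat_lit 3),
  Rule.mk (nat_lit 5) (nat_lit 54) (Steps.bwd (nat_lit 6) (Steps.fwd (nat_lit 5120) (Steps.bwd (nat_lit 7) (Steps.fwd (nat_lit 6144) Steps.nil)))) (nat_lit 24) (nat_lit 2),
  Rule.mk (nat_lit 7) (nat_lit 54) (Steps.bwd (nat_lit 6) (Steps.fwd (nat_lit 5120) (Steps.bwd (nat_lit 6) (Steps.fwd (nat_lit 5120) Steps.nil)))) (nat_lit 24) (nat_lit 0),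
  Rule.mk (nat_lit 9) (nat_lit 54) (Steps.bwd (nat_lit 6) (Steps.bwd (nat_lit 3) (Steps.bwd (nat_lit 9) (Steps.fwd (nat_lit 6144) Steps.nil)))) (nat_lit 47) (nat_lit 4),
  Rule.mk (nat_lit 1) (nat_lit 153) (Steps.bwd (nat_lit 6) (Steps.fwd (nat_lit 5120) (Steps.bwd (nat_lit 2) (Steps.fwd (nat_lit 1024) (Steps.bwd (nat_lit 6) (Steps.fwd (nat_lit 1024) (Steps.bwd (nat_lit 2) (Steps.bwd (nat_lit 1) (Steps.fwd (nat_lit 6144) (Steps.bwd (nat_lit 1) (Steps.bwd (nat_lit 2) (Steps.fwd (nat_lit 1024) (Steps.fwd (nat_lit 6144) Steps.nil))))))))))))) (nat_lit 34) (nat_lit 12),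
  Rule.mk (nat_lit 9) (nat_lit 43) (Steps.fwd (nat_lit 1024) (Steps.fwd (nat_lit 9216) (Steps.bwd (nat_lit 1) Steps.nil))) (nat_lit 38) (nat_lit 3),
  Rule.mk (nat_lit 10) (nat_lit 43) (Steps.bwd (nat_lit 1) (Steps.bwd (nat_lit 10) (Steps.bwd (nat_lit 1) Steps.nil))) (nat_lit 54) (nat_lit 1),
  Rule.mk (nat_lit 3) (nat_lit 43) (Steps.bwd (nat_lit 7) (Steps.bwd (nat_lit 2) (Steps.fwd (nat_lit 7168) Steps.nil))) (nat_lit 28) (nat_lit 0),
  Rule.mk (nat_lit 6) (nat_lit 54) (Steps.fwd (nat_lit 5120) (Steps.bwd (nat_lit 7) (Steps.bwd (nat_lit 6) (Steps.fwd (nat_lit 5120) Steps.nil)))) (nat_lit 24) (nat_lit 3),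
  Rule.mk (nat_lit 2) (nat_lit 54) (Steps.bwd (nat_lit 6) (Steps.fwd (nat_lit 9216) (Steps.bwd (nat_lit 6) (Steps.fwd (nat_lit 9216) Steps.nil)))) (nat_lit 46) (nat_lit 0),
  Rule.mk (nat_lit 1) (nat_lit 153) (Steps.bwd (nat_lit 6) (Steps.fwd (nat_lit 1024) (Steps.fwd (nat_lit 2048) (Steps.fwd (nat_lit 1024) (Steps.fwd (nat_lit 6144) (Steps.bwd (nat_lit 1) (Steps.fwd (nat_lit 2048) (Steps.fwd (nat_lit 5120) (Steps.bwd (nat_lit 6) (Steps.fwd (nat_lit 1024) (Steps.fwd (nat_lit 6144) (Steps.bwd (nat_lit 1) (Steps.bwd (nat_lit 3) Steps.nil))))))))))))) (nat_lit 35) (nat_lit 7),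
  Rule.mk (nat_lit 3) (nat_lit 153) (Steps.fwd (nat_lit 5120) (Steps.bwd (nat_lit 6) (Steps.fwd (nat_lit 1024) (Steps.bwd (nat_lit 6) (Steps.fwd (nat_lit 1024) (Steps.fwd (nat_lit 2048) (Steps.bwd (nat_lit 1) (Steps.fwd (nat_lit 6144) (Steps.bwd (nat_lit 1) (Steps.fwd (nat_lit 2048) (Steps.bwd (nat_lit 1) (Steps.fwd (nat_lit 6144) (Steps.fwd (nat_lit 1024) Steps.nil))))))))))))) (nat_lit 35) (nat_lit 0),
  Rule.mk (nat_lit 2) (nat_lit 43) (Steps.bwd (nat_lit 7) (Steps.fwd (nat_lit 2048) (Steps.bwd (nat_lit 7) Steps.nil))) (nat_lit 28) (nat_lit 2),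
  Rule.mk (nat_lit 3) (nat_lit 43) (Steps.bwd (nat_lit 7) (Steps.fwd (nat_lit 3072) (Steps.bwd (nat_lit 7) Steps.nil))) (nat_lit 28) (nat_lit 0),
  Rule.mk (nat_lit 8) (nat_lit 43) (Steps.bwd (nat_lit 7) (Steps.fwd (nat_lit 8192) (Steps.fwd (nat_lit 5120) Steps.nil))) (nat_lit 42) (nat_lit 1),
  Rule.mk (nat_lit 9) (nat_lit 43) (Steps.bwd (nat_lit 3) (Steps.bwd (nat_lit 8) (Steps.fwd (nat_lit 3072) Steps.nil))) (nat_lit 40) (nat_lit 3),
  Rule.mk (nat_lit 5) (nat_lit 43) (Steps.bwd (nat_lit 3) (Steps.bwd (nat_lit 5) (Steps.bwd (nat_lit 2) Steps.nil))) (nat_lit 20) (nat_lit 2),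
  Rule.mk (nat_lit 9) (nat_lit 43) (Steps.bwd (nat_lit 3) (Steps.fwd (nat_lit 9216) (Steps.fwd (nat_lit 3072) Steps.nil))) (nat_lit 40) (nat_lit 3),
  Rule.mk (nat_lit 10) (nat_lit 43) (Steps.bwd (nat_lit 3) (Steps.fwd (nat_lit 10240) (Steps.fwd (nat_lit 3072) Steps.nil))) (nat_lit 56) (nat_lit 3),
  Rule.mk (nat_lit 4) (nat_lit 87) (Steps.fwd (nat_lit 10240) (Steps.bwd (nat_lit 8) (Steps.fwd (nat_lit 7168) (Steps.bwd (nat_lit 4) (Steps.fwd (nat_lit 7168) (Steps.bwd (nat_lit 9) (Steps.bwd (nat_lit 10) Steps.nil))))))) (nat_lit 58) (nat_lit 5),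
  Rule.mk (nat_lit 6) (nat_lit 54) (Steps.bwd (nat_lit 9) (Steps.fwd (nat_lit 6144) (Steps.bwd (nat_lit 3) (Steps.fwd (nat_lit 8192) Steps.nil)))) (nat_lit 47) (nat_lit 3),
  Rule.mk (nat_lit 10) (nat_lit 87) (Steps.fwd (nat_lit 4096) (Steps.fwd (nat_lit 10240) (Steps.fwd (nat_lit 9216) (Steps.bwd (nat_lit 7) (Steps.bwd (nat_lit 4) (Steps.bwd (nat_lit 7) (Steps.bwd (nat_lit 9) Steps.nil))))))) (nat_lit 58) (nat_lit 4),
  Rule.mk (nat_lit 10) (nat_lit 43) (Steps.bwd (nat_lit 3) (Steps.bwd (nat_lit 10) (Steps.bwd (nat_lit 2) Steps.nil))) (nat_lit 56) (nat_lit 3),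
  Rule.mk (nat_lit 2) (nat_lit 43) (Steps.bwd (nat_lit 8) (Steps.bwd (nat_lit 3) (Steps.fwd (nat_lit 8192) Steps.nil))) (nat_lit 41) (nat_lit 1),
  Rule.mk (nat_lit 8) (nat_lit 43) (Steps.bwd (nat_lit 3) (Steps.fwd (nat_lit 8192) (Steps.bwd (nat_lit 2) Steps.nil))) (nat_lit 41) (nat_lit 2),
  Rule.mk (nat_lit 2) (nat_lit 32) (Steps.fwd (nat_lit 3072) (Steps.bwd (nat_lit 2) Steps.nil)) (nat_lit 2) (nat_lit 0),
  Rule.mk (nat_lit 4) (nat_lit 43) (Steps.bwd (nat_lit 2) (Steps.fwd (nat_lit 4096) (Steps.fwd (nat_lit 3072) Steps.nil))) (nat_lit 14) (nat_lit 1),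
  Rule.mk (nat_lit 4) (nat_lit 43) (Steps.bwd (nat_lit 3) (Steps.bwd (nat_lit 4) (Steps.bwd (nat_lit 3) Steps.nil))) (nat_lit 15) (nat_lit 0),
  Rule.mk (nat_lit 4) (nat_lit 65) (Steps.bwd (nat_lit 1) (Steps.fwd (nat_lit 4096) (Steps.fwd (nat_lit 1024) (Steps.bwd (nat_lit 4) (Steps.fwd (nat_lit 1024) Steps.nil))))) (nat_lit 16) (nat_lit 0),
  Rule.mk (nat_lit 3) (nat_lit 153) (Steps.bwd (nat_lit 1) (Steps.bwd (nat_lit 6) (Steps.fwd (nat_lit 1024) (Steps.fwd (nat_lit 2048) (Steps.bwd (nat_lit 5) (Steps.fwd (nat_lit 6144) (Steps.fwd (nat_lit 1024) (Steps.bwd (nat_lit 6) (Steps.bwd (nat_lit 1) (Steps.bwd (nat_lit 3) (Steps.bwd (nat_lit 1) (Steps.fwd (nat_lit 6144) (Steps.bwd (nat_lit 1) Steps.nil))))))))))))) (nat_lit 35) (nat_lit 10),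
  Rule.mk (nat_lit 1) (nat_lit 153) (Steps.bwd (nat_lit 6) (Steps.bwd (nat_lit 1) (Steps.bwd (nat_lit 3) (Steps.bwd (nat_lit 5) (Steps.fwd (nat_lit 6144) (Steps.fwd (nat_lit 1024) (Steps.bwd (nat_lit 6) (Steps.fwd (nat_lit 1024) (Steps.bwd (nat_lit 3) (Steps.bwd (nat_lit 1) (Steps.fwd (nat_lit 6144) (Steps.bwd (nat_lit 1) (Steps.fwd (nat_lit 2048) Steps.nil))))))))))))) (nat_lit 35) (nat_lit 11),
  Rule.mk (nat_lit 3) (nat_lit 65) (Steps.bwd (nat_lit 1) (Steps.bwd (nat_lit 3) (Steps.bwd (nat_lit 1) (Steps.fwd (nat_lit 2048) (Steps.bwd (nat_lit 1) Steps.nil))))) (nat_lit 13) (nat_lit 1),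
  Rule.mk (nat_lit 9) (nat_lit 43) (Steps.bwd (nat_lit 2) (Steps.bwd (nat_lit 8) (Steps.bwd (nat_lit 3) Steps.nil))) (nat_lit 41) (nat_lit 0),
  Rule.mk (nat_lit 3) (nat_lit 32) (Steps.bwd (nat_lit 3) (Steps.fwd (nat_lit 2048) Steps.nil)) (nat_lit 3) (nat_lit 0),
  Rule.mk (nat_lit 6) (nat_lit 54) (Steps.bwd (nat_lit 3) (Steps.bwd (nat_lit 9) (Steps.bwd (nat_lit 6) (Steps.bwd (nat_lit 9) Steps.nil)))) (nat_lit 47) (nat_lit 0),
  Rule.mk (nat_lit 3) (nat_lit 43) (Steps.fwd (nat_lit 9216) (Steps.fwd (nat_lit 3072) (Steps.bwd (nat_lit 9) Steps.nil))) (nat_lit 40) (nat_lit 0),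
  Rule.mk (nat_lit 2) (nat_lit 43) (Steps.fwd (nat_lit 9216) (Steps.bwd (nat_lit 3) (Steps.bwd (nat_lit 9) Steps.nil))) (nat_lit 41) (nat_lit 1),
  Rule.mk (nat_lit 8) (nat_lit 54) (Steps.bwd (nat_lit 5) (Steps.bwd (nat_lit 9) (Steps.fwd (nat_lit 5120) (Steps.bwd (nat_lit 7) Steps.nil)))) (nat_lit 44) (nat_lit 1),
  Rule.mk (nat_lit 9) (nat_lit 43) (Steps.bwd (nat_lit 3) (Steps.bwd (nat_lit 8) (Steps.bwd (nat_lit 2) Steps.nil))) (nat_lit 40) (nat_lit 3),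
  Rule.mk (nat_lit 8) (nat_lit 43) (Steps.bwd (nat_lit 3) (Steps.bwd (nat_lit 9) (Steps.fwd (nat_lit 3072) Steps.nil))) (nat_lit 41) (nat_lit 2),
  Rule.mk (nat_lit 1) (nat_lit 153) (Steps.bwd (nat_lit 3) (Steps.bwd (nat_lit 5) (Steps.fwd (nat_lit 6144) (Steps.fwd (nat_lit 1024) (Steps.bwd (nat_lit 6) (Steps.fwd (nat_lit 1024) (Steps.bwd (nat_lit 3) (Steps.fwd (nat_lit 1024) (Steps.fwd (nat_lit 6144) (Steps.bwd (nat_lit 1) (Steps.fwd (nat_lit 2048) (Steps.fwd (nat_lit 1024) (Steps.fwd (nat_lit 6144) Steps.nil))))))))))))) (nat_lit 35) (nat_lit 13),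
  Rule.mk (nat_lit 8) (nat_lit 43) (Steps.bwd (nat_lit 1) (Steps.fwd (nat_lit 8192) (Steps.fwd (nat_lit 1024) Steps.nil))) (nat_lit 38) (nat_lit 1),
  Rule.mk (nat_lit 3) (nat_lit 65) (Steps.bwd (nat_lit 1) (Steps.bwd (nat_lit 3) (Steps.fwd (nat_lit 1024) (Steps.fwd (nat_lit 2048) (Steps.bwd (nat_lit 1) Steps.nil))))) (nat_lit 13) (nat_lit 1),
  Rule.mk (nat_lit 4) (nat_lit 43) (Steps.fwd (nat_lit 2048) (Steps.bwd (nat_lit 4) (Steps.bwd (nat_lit 3) Steps.nil))) (nat_lit 15) (nat_lit 0),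
  Rule.mk (nat_lit 7) (nat_lit 43) (Steps.fwd (nat_lit 3072) (Steps.bwd (nat_lit 7) (Steps.bwd (nat_lit 3) Steps.nil))) (nat_lit 28) (nat_lit 1),
  Rule.mk (nat_lit 5) (nat_lit 54) (Steps.bwd (nat_lit 9) (Steps.bwd (nat_lit 5) (Steps.fwd (nat_lit 7168) (Steps.bwd (nat_lit 8) Steps.nil)))) (nat_lit 44) (nat_lit 2),
  Rule.mk (nat_lit 10) (nat_lit 87) (Steps.bwd (nat_lit 4) (Steps.bwd (nat_lit 10) (Steps.bwd (nat_lit 8) (Steps.fwd (nat_lit 7168) (Steps.bwd (nat_lit 4) (Steps.bwd (nat_lit 7) (Steps.bwd (nat_lit 9) Steps.nil))))))) (nat_lit 58) (nat_lit 4),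
  Rule.mk (nat_lit 3) (nat_lit 43) (Steps.fwd (nat_lit 10240) (Steps.bwd (nat_lit 2) (Steps.bwd (nat_lit 10) Steps.nil))) (nat_lit 56) (nat_lit 0),
  Rule.mk (nat_lit 2) (nat_lit 43) (Steps.bwd (nat_lit 10) (Steps.bwd (nat_lit 3) (Steps.bwd (nat_lit 10) Steps.nil))) (nat_lit 56) (nat_lit 2),
  Rule.mk (nat_lit 8) (nat_lit 43) (Steps.bwd (nat_lit 2) (Steps.fwd (nat_lit 8192) (Steps.fwd (nat_lit 2048) Steps.nil))) (nat_lit 40) (nat_lit 1),
  Rule.mk (nat_lit 2) (nat_lit 43) (Steps.bwd (nat_lit 9) (Steps.bwd (nat_lit 3) (Steps.bwd (nat_lit 8) Steps.nil))) (nat_lit 40) (nat_lit 2),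
  Rule.mk (nat_lit 10) (nat_lit 43) (Steps.bwd (nat_lit 1) (Steps.fwd (nat_lit 10240) (Steps.bwd (nat_lit 1) Steps.nil))) (nat_lit 54) (nat_lit 1),
  Rule.mk (nat_lit 1) (nat_lit 65) (Steps.bwd (nat_lit 2) (Steps.bwd (nat_lit 1) (Steps.fwd (nat_lit 3072) (Steps.bwd (nat_lit 1) (Steps.fwd (nat_lit 3072) Steps.nil))))) (nat_lit 12) (nat_lit 1),
  Rule.mk (nat_lit 10) (nat_lit 43) (Steps.bwd (nat_lit 9) (Steps.fwd (nat_lit 10240) (Steps.fwd (nat_lit 8192) Steps.nil))) (nat_lit 51) (nat_lit 0),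
  Rule.mk (nat_lit 4) (nat_lit 87) (Steps.bwd (nat_lit 10) (Steps.fwd (nat_lit 9216) (Steps.bwd (nat_lit 7) (Steps.bwd (nat_lit 4) (Steps.fwd (nat_lit 7168) (Steps.fwd (nat_lit 8192) (Steps.bwd (nat_lit 10) Steps.nil))))))) (nat_lit 58) (nat_lit 5),
  Rule.mk (nat_lit 6) (nat_lit 54) (Steps.fwd (nat_lit 9216) (Steps.fwd (nat_lit 6144) (Steps.fwd (nat_lit 9216) (Steps.bwd (nat_lit 2) Steps.nil)))) (nat_lit 46) (nat_lit 1),
  Rule.mk (nat_lit 2) (nat_lit 43) (Steps.bwd (nat_lit 8) (Steps.fwd (nat_lit 2048) (Steps.bwd (nat_lit 9) Steps.nil))) (nat_lit 41) (nat_lit 1),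
  Rule.mk (nat_lit 6) (nat_lit 54) (Steps.bwd (nat_lit 8) (Steps.bwd (nat_lit 6) (Steps.fwd (nat_lit 9216) (Steps.bwd (nat_lit 2) Steps.nil)))) (nat_lit 46) (nat_lit 1),
  Rule.mk (nat_lit 4) (nat_lit 43) (Steps.fwd (nat_lit 3072) (Steps.fwd (nat_lit 4096) (Steps.bwd (nat_lit 2) Steps.nil))) (nat_lit 14) (nat_lit 1)]
noncomputable def R_4 : List (Rule) := [Rule.mk (nat_lit 4) (nat_lit 43) (Steps.bwd (nat_lit 2) (Steps.bwd (nat_lit 4) (Steps.bwd (nat_lit 2) Steps.nil))) (nat_lit 14) (nat_lit 1),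
  Rule.mk (nat_lit 5) (nat_lit 43) (Steps.bwd (nat_lit 2) (Steps.fwd (nat_lit 5120) (Steps.fwd (nat_lit 2048) Steps.nil))) (nat_lit 20) (nat_lit 0),
  Rule.mk (nat_lit 3) (nat_lit 43) (Steps.bwd (nat_lit 9) (Steps.bwd (nat_lit 2) (Steps.bwd (nat_lit 8) Steps.nil))) (nat_lit 41) (nat_lit 3),
  Rule.mk (nat_lit 5) (nat_lit 43) (Steps.bwd (nat_lit 3) (Steps.bwd (nat_lit 5) (Steps.fwd (nat_lit 3072) Steps.nil))) (nat_lit 20) (nat_lit 2),
  Rule.mk (nat_lit 2) (nat_lit 43) (Steps.bwd (nat_lit 7) (Steps.bwd (nat_lit 3) (Steps.bwd (nat_lit 7) Steps.nil))) (nat_lit 28) (nat_lit 2),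
  Rule.mk (nat_lit 9) (nat_lit 54) (Steps.bwd (nat_lit 7) (Steps.fwd (nat_lit 5120) (Steps.bwd (nat_lit 8) (Steps.bwd (nat_lit 5) Steps.nil)))) (nat_lit 45) (nat_lit 0),
  Rule.mk (nat_lit 8) (nat_lit 87) (Steps.bwd (nat_lit 7) (Steps.fwd (nat_lit 4096) (Steps.fwd (nat_lit 7168) (Steps.fwd (nat_lit 8192) (Steps.bwd (nat_lit 10) (Steps.fwd (nat_lit 4096) (Steps.fwd (nat_lit 10240) Steps.nil))))))) (nat_lit 58) (nat_lit 7),
  Rule.mk (nat_lit 9) (nat_lit 43) (Steps.bwd (nat_lit 2) (Steps.fwd (nat_lit 9216) (Steps.fwd (nat_lit 2048) Steps.nil))) (nat_lit 41) (nat_lit 0),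
  Rule.mk (nat_lit 10) (nat_lit 43) (Steps.bwd (nat_lit 2) (Steps.bwd (nat_lit 10) (Steps.fwd (nat_lit 2048) Steps.nil))) (nat_lit 56) (nat_lit 1),
  Rule.mk (nat_lit 5) (nat_lit 43) (Steps.bwd (nat_lit 3) (Steps.fwd (nat_lit 5120) (Steps.fwd (nat_lit 3072) Steps.nil))) (nat_lit 20) (nat_lit 2),
  Rule.mk (nat_lit 7) (nat_lit 43) (Steps.bwd (nat_lit 3) (Steps.fwd (nat_lit 7168) (Steps.bwd (nat_lit 2) Steps.nil))) (nat_lit 28) (nat_lit 3),
  Rule.mk (nat_lit 1) (nat_lit 43) (Steps.fwd (nat_lit 7168) (Steps.bwd (nat_lit 1) (Steps.bwd (nat_lit 7) Steps.nil))) (nat_lit 26) (nat_lit 0),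
  Rule.mk (nat_lit 5) (nat_lit 43) (Steps.bwd (nat_lit 2) (Steps.fwd (nat_lit 5120) (Steps.bwd (nat_lit 3) Steps.nil))) (nat_lit 20) (nat_lit 0),
  Rule.mk (nat_lit 10) (nat_lit 43) (Steps.bwd (nat_lit 2) (Steps.bwd (nat_lit 10) (Steps.bwd (nat_lit 3) Steps.nil))) (nat_lit 56) (nat_lit 1),
  Rule.mk (nat_lit 6) (nat_lit 153) (Steps.bwd (nat_lit 1) (Steps.bwd (nat_lit 6) (Steps.bwd (nat_lit 1) (Steps.bwd (nat_lit 3) (Steps.fwd (nat_lit 1024) (Steps.fwd (nat_lit 6144) (Steps.fwd (nat_lit 1024) (Steps.fwd (nat_lit 2048) (Steps.fwd (nat_lit 1024) (Steps.bwd (nat_lit 6) (Steps.bwd (nat_lit 1) (Steps.bwd (nat_lit 3) (Steps.bwd (nat_lit 5) Steps.nil))))))))))))) (nat_lit 35) (nat_lit 2),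
  Rule.mk (nat_lit 4) (nat_lit 43) (Steps.bwd (nat_lit 3) (Steps.fwd (nat_lit 4096) (Steps.fwd (nat_lit 2048) Steps.nil))) (nat_lit 15) (nat_lit 0),
  Rule.mk (nat_lit 10) (nat_lit 43) (Steps.bwd (nat_lit 3) (Steps.bwd (nat_lit 10) (Steps.fwd (nat_lit 3072) Steps.nil))) (nat_lit 56) (nat_lit 3),
  Rule.mk (nat_lit 1) (nat_lit 65) (Steps.bwd (nat_lit 3) (Steps.fwd (nat_lit 1024) (Steps.fwd (nat_lit 2048) (Steps.bwd (nat_lit 1) (Steps.fwd (nat_lit 2048) Steps.nil))))) (nat_lit 13) (nat_lit 0),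
  Rule.mk (nat_lit 9) (nat_lit 54) (Steps.bwd (nat_lit 6) (Steps.bwd (nat_lit 3) (Steps.fwd (nat_lit 8192) (Steps.fwd (nat_lit 6144) Steps.nil)))) (nat_lit 47) (nat_lit 4),
  Rule.mk (nat_lit 1) (nat_lit 153) (Steps.bwd (nat_lit 6) (Steps.bwd (nat_lit 5) (Steps.fwd (nat_lit 3072) (Steps.bwd (nat_lit 1) (Steps.bwd (nat_lit 6) (Steps.fwd (nat_lit 1024) (Steps.bwd (nat_lit 2) (Steps.bwd (nat_lit 1) (Steps.fwd (nat_lit 6144) (Steps.fwd (nat_lit 1024) (Steps.bwd (nat_lit 2) (Steps.bwd (nat_lit 1) (Steps.fwd (nat_lit 6144) Steps.nil))))))))))))) (nat_lit 34) (nat_lit 12),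
  Rule.mk (nat_lit 2) (nat_lit 65) (Steps.fwd (nat_lit 1024) (Steps.bwd (nat_lit 2) (Steps.bwd (nat_lit 1) (Steps.bwd (nat_lit 2) (Steps.bwd (nat_lit 1) Steps.nil))))) (nat_lit 12) (nat_lit 0),
  Rule.mk (nat_lit 7) (nat_lit 54) (Steps.bwd (nat_lit 5) (Steps.bwd (nat_lit 6) (Steps.fwd (nat_lit 5120) (Steps.fwd (nat_lit 6144) Steps.nil)))) (nat_lit 25) (nat_lit 1),
  Rule.mk (nat_lit 10) (nat_lit 43) (Steps.fwd (nat_lit 3072) (Steps.bwd (nat_lit 10) (Steps.bwd (nat_lit 3) Steps.nil))) (nat_lit 56) (nat_lit 1),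
  Rule.mk (nat_lit 3) (nat_lit 43) (Steps.bwd (nat_lit 7) (Steps.fwd (nat_lit 3072) (Steps.fwd (nat_lit 7168) Steps.nil))) (nat_lit 28) (nat_lit 0),
  Rule.mk (nat_lit 8) (nat_lit 43) (Steps.bwd (nat_lit 7) (Steps.fwd (nat_lit 8192) (Steps.bwd (nat_lit 5) Steps.nil))) (nat_lit 42) (nat_lit 1),
  Rule.mk (nat_lit 10) (nat_lit 65) (Steps.bwd (nat_lit 7) (Steps.fwd (nat_lit 10240) (Steps.fwd (nat_lit 7168) (Steps.fwd (nat_lit 10240) (Steps.fwd (nat_lit 7168) Steps.nil))))) (nat_lit 52) (nat_lit 0),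
  Rule.mk (nat_lit 4) (nat_lit 43) (Steps.bwd (nat_lit 3) (Steps.fwd (nat_lit 4096) (Steps.bwd (nat_lit 3) Steps.nil))) (nat_lit 15) (nat_lit 0),
  Rule.mk (nat_lit 7) (nat_lit 43) (Steps.bwd (nat_lit 3) (Steps.bwd (nat_lit 7) (Steps.fwd (nat_lit 3072) Steps.nil))) (nat_lit 28) (nat_lit 3),
  Rule.mk (nat_lit 3) (nat_lit 43) (Steps.bwd (nat_lit 7) (Steps.bwd (nat_lit 2) (Steps.bwd (nat_lit 7) Steps.nil))) (nat_lit 28) (nat_lit 0),
  Rule.mk (nat_lit 5) (nat_lit 54) (Steps.bwd (nat_lit 7) (Steps.bwd (nat_lit 6) (Steps.fwd (nat_lit 5120) (Steps.bwd (nat_lit 6) Steps.nil)))) (nat_lit 24) (nat_lit 4),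
  Rule.mk (nat_lit 5) (nat_lit 43) (Steps.bwd (nat_lit 1) (Steps.fwd (nat_lit 5120) (Steps.fwd (nat_lit 1024) Steps.nil))) (nat_lit 18) (nat_lit 0),
  Rule.mk (nat_lit 7) (nat_lit 43) (Steps.bwd (nat_lit 1) (Steps.fwd (nat_lit 7168) (Steps.bwd (nat_lit 1) Steps.nil))) (nat_lit 26) (nat_lit 1),
  Rule.mk (nat_lit 3) (nat_lit 65) (Steps.bwd (nat_lit 1) (Steps.bwd (nat_lit 3) (Steps.bwd (nat_lit 1) (Steps.bwd (nat_lit 3) (Steps.fwd (nat_lit 1024) Steps.nil))))) (nat_lit 13) (nat_lit 1),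
  Rule.mk (nat_lit 6) (nat_lit 153) (Steps.bwd (nat_lit 1) (Steps.fwd (nat_lit 6144) (Steps.fwd (nat_lit 5120) (Steps.fwd (nat_lit 3072) (Steps.fwd (nat_lit 1024) (Steps.fwd (nat_lit 6144) (Steps.fwd (nat_lit 1024) (Steps.bwd (nat_lit 2) (Steps.fwd (nat_lit 1024) (Steps.bwd (nat_lit 6) (Steps.bwd (nat_lit 1) (Steps.bwd (nat_lit 2) (Steps.fwd (nat_lit 1024) Steps.nil))))))))))))) (nat_lit 34) (nat_lit 11),
  Rule.mk (nat_lit 6) (nat_lit 54) (Steps.bwd (nat_lit 8) (Steps.fwd (nat_lit 3072) (Steps.bwd (nat_lit 6) (Steps.fwd (nat_lit 9216) Steps.nil)))) (nat_lit 46) (nat_lit 3),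
  Rule.mk (nat_lit 1) (nat_lit 65) (Steps.bwd (nat_lit 3) (Steps.fwd (nat_lit 1024) (Steps.bwd (nat_lit 3) (Steps.fwd (nat_lit 1024) (Steps.bwd (nat_lit 3) Steps.nil))))) (nat_lit 13) (nat_lit 0),
  Rule.mk (nat_lit 10) (nat_lit 43) (Steps.fwd (nat_lit 1024) (Steps.fwd (nat_lit 10240) (Steps.bwd (nat_lit 1) Steps.nil))) (nat_lit 54) (nat_lit 1),
  Rule.mk (nat_lit 2) (nat_lit 43) (Steps.bwd (nat_lit 4) (Steps.fwd (nat_lit 3072) (Steps.bwd (nat_lit 4) Steps.nil))) (nat_lit 14) (nat_lit 0),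
  Rule.mk (nat_lit 3) (nat_lit 43) (Steps.bwd (nat_lit 4) (Steps.fwd (nat_lit 2048) (Steps.fwd (nat_lit 4096) Steps.nil))) (nat_lit 15) (nat_lit 1),
  Rule.mk (nat_lit 5) (nat_lit 43) (Steps.bwd (nat_lit 4) (Steps.bwd (nat_lit 6) (Steps.bwd (nat_lit 4) Steps.nil))) (nat_lit 22) (nat_lit 2),
  Rule.mk (nat_lit 7) (nat_lit 43) (Steps.bwd (nat_lit 4) (Steps.bwd (nat_lit 7) (Steps.fwd (nat_lit 4096) Steps.nil))) (nat_lit 30) (nat_lit 1),
  Rule.mk (nat_lit 2) (nat_lit 32) (Steps.bwd (nat_lit 2) (Steps.fwd (nat_lit 3072) Steps.nil)) (nat_lit 2) (nat_lit 0),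
  Rule.mk (nat_lit 5) (nat_lit 43) (Steps.bwd (nat_lit 2) (Steps.bwd (nat_lit 5) (Steps.bwd (nat_lit 3) Steps.nil))) (nat_lit 20) (nat_lit 0),
  Rule.mk (nat_lit 7) (nat_lit 43) (Steps.bwd (nat_lit 2) (Steps.bwd (nat_lit 7) (Steps.fwd (nat_lit 2048) Steps.nil))) (nat_lit 28) (nat_lit 1),
  Rule.mk (nat_lit 1) (nat_lit 65) (Steps.bwd (nat_lit 2) (Steps.bwd (nat_lit 1) (Steps.bwd (nat_lit 2) (Steps.bwd (nat_lit 1) (Steps.bwd (nat_lit 2) Steps.nil))))) (nat_lit 12) (nat_lit 1),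
  Rule.mk (nat_lit 5) (nat_lit 54) (Steps.bwd (nat_lit 6) (Steps.fwd (nat_lit 5120) (Steps.fwd (nat_lit 6144) (Steps.bwd (nat_lit 7) Steps.nil)))) (nat_lit 25) (nat_lit 2),
  Rule.mk (nat_lit 1) (nat_lit 153) (Steps.bwd (nat_lit 6) (Steps.fwd (nat_lit 1024) (Steps.bwd (nat_lit 6) (Steps.fwd (nat_lit 5120) (Steps.fwd (nat_lit 3072) (Steps.fwd (nat_lit 1024) (Steps.fwd (nat_lit 6144) (Steps.fwd (nat_lit 1024) (Steps.bwd (nat_lit 2) (Steps.bwd (nat_lit 1) (Steps.bwd (nat_lit 6) (Steps.bwd (nat_lit 1) (Steps.fwd (nat_lit 3072) Steps.nil))))))))))))) (nat_lit 34) (nat_lit 10),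
  Rule.mk (nat_lit 9) (nat_lit 43) (Steps.bwd (nat_lit 1) (Steps.bwd (nat_lit 8) (Steps.bwd (nat_lit 1) Steps.nil))) (nat_lit 38) (nat_lit 3),
  Rule.mk (nat_lit 2) (nat_lit 65) (Steps.bwd (nat_lit 1) (Steps.fwd (nat_lit 3072) (Steps.bwd (nat_lit 1) (Steps.fwd (nat_lit 3072) (Steps.bwd (nat_lit 1) Steps.nil))))) (nat_lit 12) (nat_lit 0),
  Rule.mk (nat_lit 3) (nat_lit 65) (Steps.bwd (nat_lit 1) (Steps.bwd (nat_lit 3) (Steps.fwd (nat_lit 1024) (Steps.bwd (nat_lit 3) (Steps.bwd (nat_lit 1) Steps.nil))))) (nat_lit 13) (nat_lit 1),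
  Rule.mk (nat_lit 3) (nat_lit 43) (Steps.bwd (nat_lit 4) (Steps.bwd (nat_lit 3) (Steps.fwd (nat_lit 4096) Steps.nil))) (nat_lit 15) (nat_lit 1),
  Rule.mk (nat_lit 5) (nat_lit 43) (Steps.bwd (nat_lit 4) (Steps.fwd (nat_lit 6144) (Steps.bwd (nat_lit 4) Steps.nil))) (nat_lit 22) (nat_lit 2),
  Rule.mk (nat_lit 5) (nat_lit 54) (Steps.bwd (nat_lit 6) (Steps.bwd (nat_lit 5) (Steps.fwd (nat_lit 7168) (Steps.fwd (nat_lit 6144) Steps.nil)))) (nat_lit 24) (nat_lit 2),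
  Rule.mk (nat_lit 7) (nat_lit 54) (Steps.bwd (nat_lit 6) (Steps.bwd (nat_lit 5) (Steps.bwd (nat_lit 6) (Steps.fwd (nat_lit 5120) Steps.nil)))) (nat_lit 24) (nat_lit 0),
  Rule.mk (nat_lit 1) (nat_lit 153) (Steps.bwd (nat_lit 6) (Steps.bwd (nat_lit 5) (Steps.bwd (nat_lit 2) (Steps.bwd (nat_lit 1) (Steps.fwd (nat_lit 6144) (Steps.fwd (nat_lit 1024) (Steps.bwd (nat_lit 2) (Steps.fwd (nat_lit 1024) (Steps.fwd (nat_lit 6144) (Steps.bwd (nat_lit 1) (Steps.fwd (nat_lit 3072) (Steps.fwd (nat_lit 1024) (Steps.bwd (nat_lit 6) Steps.nil))))))))))))) (nat_lit 34) (nat_lit 12),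
  Rule.mk (nat_lit 2) (nat_lit 153) (Steps.bwd (nat_lit 1) (Steps.bwd (nat_lit 6) (Steps.bwd (nat_lit 1) (Steps.bwd (nat_lit 6) (Steps.fwd (nat_lit 5120) (Steps.bwd (nat_lit 2) (Steps.fwd (nat_lit 1024) (Steps.fwd (nat_lit 6144) (Steps.bwd (nat_lit 1) (Steps.fwd (nat_lit 3072) (Steps.fwd (nat_lit 1024) (Steps.bwd (nat_lit 6) (Steps.bwd (nat_lit 1) Steps.nil))))))))))))) (nat_lit 34) (nat_lit 9),
  Rule.mk (nat_lit 2) (nat_lit 43) (Steps.bwd (nat_lit 9) (Steps.fwd (nat_lit 2048) (Steps.bwd (nat_lit 8) Steps.nil))) (nat_lit 40) (nat_lit 2),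
  Rule.mk (nat_lit 7) (nat_lit 43) (Steps.bwd (nat_lit 9) (Steps.fwd (nat_lit 5120) (Steps.fwd (nat_lit 9216) Steps.nil))) (nat_lit 42) (nat_lit 2),
  Rule.mk (nat_lit 6) (nat_lit 54) (Steps.bwd (nat_lit 9) (Steps.bwd (nat_lit 6) (Steps.bwd (nat_lit 3) (Steps.fwd (nat_lit 8192) Steps.nil)))) (nat_lit 47) (nat_lit 3),
  Rule.mk (nat_lit 10) (nat_lit 65) (Steps.fwd (nat_lit 7168) (Steps.fwd (nat_lit 10240) (Steps.bwd (nat_lit 7) (Steps.bwd (nat_lit 10) (Steps.bwd (nat_lit 7) Steps.nil))))) (nat_lit 52) (nat_lit 0),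
  Rule.mk (nat_lit 7) (nat_lit 54) (Steps.bwd (nat_lit 6) (Steps.fwd (nat_lit 5120) (Steps.bwd (nat_lit 6) (Steps.bwd (nat_lit 5) Steps.nil)))) (nat_lit 24) (nat_lit 0),
  Rule.mk (nat_lit 8) (nat_lit 54) (Steps.bwd (nat_lit 6) (Steps.bwd (nat_lit 8) (Steps.fwd (nat_lit 3072) (Steps.bwd (nat_lit 6) Steps.nil)))) (nat_lit 46) (nat_lit 2),
  Rule.mk (nat_lit 2) (nat_lit 54) (Steps.bwd (nat_lit 6) (Steps.bwd (nat_lit 8) (Steps.fwd (nat_lit 6144) (Steps.fwd (nat_lit 9216) Steps.nil)))) (nat_lit 46) (nat_lit 0),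
  Rule.mk (nat_lit 1) (nat_lit 153) (Steps.bwd (nat_lit 6) (Steps.fwd (nat_lit 5120) (Steps.fwd (nat_lit 3072) (Steps.bwd (nat_lit 1) (Steps.fwd (nat_lit 6144) (Steps.bwd (nat_lit 1) (Steps.fwd (nat_lit 3072) (Steps.fwd (nat_lit 1024) (Steps.bwd (nat_lit 6) (Steps.fwd (nat_lit 1024) (Steps.bwd (nat_lit 2) (Steps.bwd (nat_lit 1) (Steps.bwd (nat_lit 6) Steps.nil))))))))))))) (nat_lit 34) (nat_lit 12)]
noncomputable def R_5 : List (Rule) := [Rule.mk (nat_lit 2) (nat_lit 65) (Steps.fwd (nat_lit 1024) (Steps.fwd (nat_lit 3072) (Steps.bwd (nat_lit 1) (Steps.bwd (nat_lit 2) (Steps.bwd (nat_lit 1) Steps.nil))))) (nat_lit 12) (nat_lit 0),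
  Rule.mk (nat_lit 7) (nat_lit 43) (Steps.bwd (nat_lit 5) (Steps.fwd (nat_lit 7168) (Steps.fwd (nat_lit 5120) Steps.nil))) (nat_lit 32) (nat_lit 1),
  Rule.mk (nat_lit 6) (nat_lit 54) (Steps.bwd (nat_lit 5) (Steps.fwd (nat_lit 7168) (Steps.bwd (nat_lit 6) (Steps.bwd (nat_lit 5) Steps.nil)))) (nat_lit 24) (nat_lit 3),
  Rule.mk (nat_lit 8) (nat_lit 54) (Steps.bwd (nat_lit 5) (Steps.fwd (nat_lit 8192) (Steps.fwd (nat_lit 5120) (Steps.bwd (nat_lit 7) Steps.nil)))) (nat_lit 44) (nat_lit 1),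
  Rule.mk (nat_lit 8) (nat_lit 54) (Steps.bwd (nat_lit 6) (Steps.fwd (nat_lit 9216) (Steps.fwd (nat_lit 3072) (Steps.bwd (nat_lit 6) Steps.nil)))) (nat_lit 46) (nat_lit 2),
  Rule.mk (nat_lit 1) (nat_lit 153) (Steps.bwd (nat_lit 6) (Steps.fwd (nat_lit 5120) (Steps.fwd (nat_lit 3072) (Steps.bwd (nat_lit 1) (Steps.bwd (nat_lit 6) (Steps.bwd (nat_lit 1) (Steps.fwd (nat_lit 3072) (Steps.bwd (nat_lit 1) (Steps.fwd (nat_lit 6144) (Steps.bwd (nat_lit 1) (Steps.bwd (nat_lit 2) (Steps.fwd (nat_lit 1024) (Steps.bwd (nat_lit 6) Steps.nil))))))))))))) (nat_lit 34) (nat_lit 12),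
  Rule.mk (nat_lit 2) (nat_lit 153) (Steps.bwd (nat_lit 1) (Steps.bwd (nat_lit 6) (Steps.fwd (nat_lit 1024) (Steps.bwd (nat_lit 6) (Steps.fwd (nat_lit 5120) (Steps.fwd (nat_lit 3072) (Steps.bwd (nat_lit 1) (Steps.fwd (nat_lit 6144) (Steps.bwd (nat_lit 1) (Steps.bwd (nat_lit 2) (Steps.fwd (nat_lit 1024) (Steps.bwd (nat_lit 6) (Steps.bwd (nat_lit 1) Steps.nil))))))))))))) (nat_lit 34) (nat_lit 9),
  Rule.mk (nat_lit 7) (nat_lit 54) (Steps.bwd (nat_lit 8) (Steps.fwd (nat_lit 5120) (Steps.bwd (nat_lit 9) (Steps.fwd (nat_lit 5120) Steps.nil)))) (nat_lit 44) (nat_lit 0),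
  Rule.mk (nat_lit 6) (nat_lit 54) (Steps.bwd (nat_lit 8) (Steps.fwd (nat_lit 3072) (Steps.fwd (nat_lit 6144) (Steps.bwd (nat_lit 8) Steps.nil)))) (nat_lit 46) (nat_lit 3),
  Rule.mk (nat_lit 5) (nat_lit 54) (Steps.bwd (nat_lit 9) (Steps.fwd (nat_lit 5120) (Steps.bwd (nat_lit 7) (Steps.bwd (nat_lit 8) Steps.nil)))) (nat_lit 44) (nat_lit 2),
  Rule.mk (nat_lit 3) (nat_lit 43) (Steps.bwd (nat_lit 10) (Steps.fwd (nat_lit 3072) (Steps.bwd (nat_lit 10) Steps.nil))) (nat_lit 56) (nat_lit 0),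
  Rule.mk (nat_lit 4) (nat_lit 87) (Steps.bwd (nat_lit 10) (Steps.bwd (nat_lit 8) (Steps.fwd (nat_lit 7168) (Steps.bwd (nat_lit 4) (Steps.fwd (nat_lit 7168) (Steps.bwd (nat_lit 9) (Steps.fwd (nat_lit 10240) Steps.nil))))))) (nat_lit 58) (nat_lit 5),
  Rule.mk (nat_lit 1) (nat_lit 153) (Steps.bwd (nat_lit 6) (Steps.fwd (nat_lit 1024) (Steps.fwd (nat_lit 2048) (Steps.fwd (nat_lit 5120) (Steps.fwd (nat_lit 6144) (Steps.fwd (nat_lit 1024) (Steps.bwd (nat_lit 6) (Steps.fwd (nat_lit 1024) (Steps.bwd (nat_lit 3) (Steps.bwd (nat_lit 1) (Steps.fwd (nat_lit 6144) (Steps.bwd (nat_lit 1) (Steps.bwd (nat_lit 3) Steps.nil))))))))))))) (nat_lit 35) (nat_lit 11),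
  Rule.mk (nat_lit 2) (nat_lit 65) (Steps.bwd (nat_lit 1) (Steps.bwd (nat_lit 2) (Steps.fwd (nat_lit 1024) (Steps.fwd (nat_lit 3072) (Steps.bwd (nat_lit 1) Steps.nil))))) (nat_lit 12) (nat_lit 0),
  Rule.mk (nat_lit 8) (nat_lit 43) (Steps.bwd (nat_lit 1) (Steps.bwd (nat_lit 9) (Steps.fwd (nat_lit 1024) Steps.nil))) (nat_lit 38) (nat_lit 1),
  Rule.mk (nat_lit 10) (nat_lit 43) (Steps.bwd (nat_lit 1) (Steps.bwd (nat_lit 10) (Steps.fwd (nat_lit 1024) Steps.nil))) (nat_lit 54) (nat_lit 1),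
  Rule.mk (nat_lit 1) (nat_lit 43) (Steps.bwd (nat_lit 9) (Steps.bwd (nat_lit 1) (Steps.fwd (nat_lit 9216) Steps.nil))) (nat_lit 38) (nat_lit 2),
  Rule.mk (nat_lit 4) (nat_lit 87) (Steps.fwd (nat_lit 10240) (Steps.bwd (nat_lit 8) (Steps.bwd (nat_lit 7) (Steps.bwd (nat_lit 4) (Steps.fwd (nat_lit 7168) (Steps.bwd (nat_lit 9) (Steps.bwd (nat_lit 10) Steps.nil))))))) (nat_lit 58) (nat_lit 5),
  Rule.mk (nat_lit 4) (nat_lit 65) (Steps.bwd (nat_lit 1) (Steps.bwd (nat_lit 4) (Steps.fwd (nat_lit 1024) (Steps.fwd (nat_lit 4096) (Steps.bwd (nat_lit 1) Steps.nil))))) (nat_lit 16) (nat_lit 0),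
  Rule.mk (nat_lit 3) (nat_lit 43) (Steps.bwd (nat_lit 9) (Steps.fwd (nat_lit 3072) (Steps.fwd (nat_lit 9216) Steps.nil))) (nat_lit 41) (nat_lit 3),
  Rule.mk (nat_lit 6) (nat_lit 54) (Steps.bwd (nat_lit 9) (Steps.bwd (nat_lit 6) (Steps.fwd (nat_lit 2048) (Steps.fwd (nat_lit 8192) Steps.nil)))) (nat_lit 47) (nat_lit 3),
  Rule.mk (nat_lit 10) (nat_lit 43) (Steps.bwd (nat_lit 8) (Steps.bwd (nat_lit 10) (Steps.fwd (nat_lit 9216) Steps.nil))) (nat_lit 50) (nat_lit 1),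
  Rule.mk (nat_lit 1) (nat_lit 43) (Steps.bwd (nat_lit 8) (Steps.bwd (nat_lit 1) (Steps.fwd (nat_lit 8192) Steps.nil))) (nat_lit 38) (nat_lit 0),
  Rule.mk (nat_lit 3) (nat_lit 43) (Steps.bwd (nat_lit 8) (Steps.fwd (nat_lit 3072) (Steps.bwd (nat_lit 9) Steps.nil))) (nat_lit 40) (nat_lit 0),
  Rule.mk (nat_lit 7) (nat_lit 43) (Steps.bwd (nat_lit 9) (Steps.bwd (nat_lit 5) (Steps.bwd (nat_lit 8) Steps.nil))) (nat_lit 42) (nat_lit 2),
  Rule.mk (nat_lit 3) (nat_lit 43) (Steps.bwd (nat_lit 10) (Steps.bwd (nat_lit 2) (Steps.fwd (nat_lit 10240) Steps.nil))) (nat_lit 56) (nat_lit 0),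
  Rule.mk (nat_lit 9) (nat_lit 87) (Steps.bwd (nat_lit 10) (Steps.bwd (nat_lit 4) (Steps.fwd (nat_lit 10240) (Steps.bwd (nat_lit 8) (Steps.fwd (nat_lit 7168) (Steps.fwd (nat_lit 4096) (Steps.bwd (nat_lit 7) Steps.nil))))))) (nat_lit 58) (nat_lit 3),
  Rule.mk (nat_lit 7) (nat_lit 54) (Steps.bwd (nat_lit 5) (Steps.bwd (nat_lit 8) (Steps.bwd (nat_lit 5) (Steps.fwd (nat_lit 8192) Steps.nil)))) (nat_lit 45) (nat_lit 1),
  Rule.mk (nat_lit 4) (nat_lit 87) (Steps.fwd (nat_lit 10240) (Steps.bwd (nat_lit 8) (Steps.fwd (nat_lit 7168) (Steps.bwd (nat_lit 4) (Steps.fwd (nat_lit 7168) (Steps.fwd (nat_lit 8192) (Steps.fwd (nat_lit 10240) Steps.nil))))))) (nat_lit 58) (nat_lit 5),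
  Rule.mk (nat_lit 1) (nat_lit 153) (Steps.bwd (nat_lit 6) (Steps.fwd (nat_lit 1024) (Steps.fwd (nat_lit 3072) (Steps.bwd (nat_lit 1) (Steps.bwd (nat_lit 6) (Steps.fwd (nat_lit 1024) (Steps.bwd (nat_lit 6) (Steps.fwd (nat_lit 5120) (Steps.bwd (nat_lit 2) (Steps.bwd (nat_lit 1) (Steps.fwd (nat_lit 6144) (Steps.bwd (nat_lit 1) (Steps.bwd (nat_lit 2) Steps.nil))))))))))))) (nat_lit 34) (nat_lit 6),
  Rule.mk (nat_lit 7) (nat_lit 43) (Steps.bwd (nat_lit 1) (Steps.bwd (nat_lit 7) (Steps.fwd (nat_lit 1024) Steps.nil))) (nat_lit 26) (nat_lit 1),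
  Rule.mk (nat_lit 4) (nat_lit 65) (Steps.bwd (nat_lit 1) (Steps.fwd (nat_lit 4096) (Steps.fwd (nat_lit 1024) (Steps.fwd (nat_lit 4096) (Steps.fwd (nat_lit 1024) Steps.nil))))) (nat_lit 16) (nat_lit 0),
  Rule.mk (nat_lit 2) (nat_lit 43) (Steps.fwd (nat_lit 4096) (Steps.bwd (nat_lit 2) (Steps.bwd (nat_lit 4) Steps.nil))) (nat_lit 14) (nat_lit 0),
  Rule.mk (nat_lit 3) (nat_lit 43) (Steps.fwd (nat_lit 4096) (Steps.fwd (nat_lit 2048) (Steps.bwd (nat_lit 4) Steps.nil))) (nat_lit 15) (nat_lit 1),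
  Rule.mk (nat_lit 10) (nat_lit 65) (Steps.bwd (nat_lit 7) (Steps.fwd (nat_lit 10240) (Steps.bwd (nat_lit 7) (Steps.bwd (nat_lit 10) (Steps.bwd (nat_lit 7) Steps.nil))))) (nat_lit 52) (nat_lit 0),
  Rule.mk (nat_lit 10) (nat_lit 65) (Steps.bwd (nat_lit 7) (Steps.fwd (nat_lit 10240) (Steps.bwd (nat_lit 7) (Steps.fwd (nat_lit 10240) (Steps.bwd (nat_lit 7) Steps.nil))))) (nat_lit 52) (nat_lit 0),
  Rule.mk (nat_lit 8) (nat_lit 43) (Steps.fwd (nat_lit 10240) (Steps.fwd (nat_lit 9216) (Steps.bwd (nat_lit 10) Steps.nil))) (nat_lit 50) (nat_lit 0),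
  Rule.mk (nat_lit 9) (nat_lit 43) (Steps.fwd (nat_lit 10240) (Steps.fwd (nat_lit 8192) (Steps.bwd (nat_lit 10) Steps.nil))) (nat_lit 51) (nat_lit 1),
  Rule.mk (nat_lit 8) (nat_lit 43) (Steps.bwd (nat_lit 2) (Steps.bwd (nat_lit 9) (Steps.bwd (nat_lit 3) Steps.nil))) (nat_lit 40) (nat_lit 1),
  Rule.mk (nat_lit 3) (nat_lit 43) (Steps.bwd (nat_lit 4) (Steps.bwd (nat_lit 3) (Steps.bwd (nat_lit 4) Steps.nil))) (nat_lit 15) (nat_lit 1),
  Rule.mk (nat_lit 10) (nat_lit 87) (Steps.bwd (nat_lit 4) (Steps.fwd (nat_lit 10240) (Steps.fwd (nat_lit 9216) (Steps.fwd (nat_lit 7168) (Steps.bwd (nat_lit 4) (Steps.bwd (nat_lit 7) (Steps.fwd (nat_lit 8192) Steps.nil))))))) (nat_lit 58) (nat_lit 4),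
  Rule.mk (nat_lit 1) (nat_lit 65) (Steps.bwd (nat_lit 2) (Steps.fwd (nat_lit 1024) (Steps.bwd (nat_lit 2) (Steps.fwd (nat_lit 1024) (Steps.bwd (nat_lit 2) Steps.nil))))) (nat_lit 12) (nat_lit 1),
  Rule.mk (nat_lit 8) (nat_lit 43) (Steps.bwd (nat_lit 3) (Steps.bwd (nat_lit 9) (Steps.bwd (nat_lit 2) Steps.nil))) (nat_lit 41) (nat_lit 2),
  Rule.mk (nat_lit 6) (nat_lit 54) (Steps.bwd (nat_lit 3) (Steps.bwd (nat_lit 9) (Steps.fwd (nat_lit 6144) (Steps.fwd (nat_lit 8192) Steps.nil)))) (nat_lit 47) (nat_lit 0),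
  Rule.mk (nat_lit 1) (nat_lit 65) (Steps.bwd (nat_lit 3) (Steps.bwd (nat_lit 1) (Steps.fwd (nat_lit 2048) (Steps.bwd (nat_lit 1) (Steps.bwd (nat_lit 3) Steps.nil))))) (nat_lit 13) (nat_lit 0),
  Rule.mk (nat_lit 2) (nat_lit 43) (Steps.fwd (nat_lit 9216) (Steps.fwd (nat_lit 2048) (Steps.bwd (nat_lit 9) Steps.nil))) (nat_lit 41) (nat_lit 1),
  Rule.mk (nat_lit 4) (nat_lit 87) (Steps.bwd (nat_lit 10) (Steps.bwd (nat_lit 8) (Steps.fwd (nat_lit 7168) (Steps.fwd (nat_lit 4096) (Steps.fwd (nat_lit 7168) (Steps.bwd (nat_lit 9) (Steps.bwd (nat_lit 10) Steps.nil))))))) (nat_lit 58) (nat_lit 5),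
  Rule.mk (nat_lit 2) (nat_lit 43) (Steps.bwd (nat_lit 8) (Steps.bwd (nat_lit 3) (Steps.bwd (nat_lit 9) Steps.nil))) (nat_lit 41) (nat_lit 1),
  Rule.mk (nat_lit 5) (nat_lit 54) (Steps.bwd (nat_lit 9) (Steps.bwd (nat_lit 7) (Steps.fwd (nat_lit 5120) (Steps.fwd (nat_lit 9216) Steps.nil)))) (nat_lit 45) (nat_lit 4),
  Rule.mk (nat_lit 3) (nat_lit 43) (Steps.bwd (nat_lit 5) (Steps.fwd (nat_lit 3072) (Steps.bwd (nat_lit 5) Steps.nil))) (nat_lit 20) (nat_lit 3),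
  Rule.mk (nat_lit 9) (nat_lit 43) (Steps.bwd (nat_lit 2) (Steps.fwd (nat_lit 9216) (Steps.bwd (nat_lit 3) Steps.nil))) (nat_lit 41) (nat_lit 0),
  Rule.mk (nat_lit 1) (nat_lit 43) (Steps.fwd (nat_lit 9216) (Steps.bwd (nat_lit 1) (Steps.bwd (nat_lit 9) Steps.nil))) (nat_lit 38) (nat_lit 0),
  Rule.mk (nat_lit 9) (nat_lit 87) (Steps.bwd (nat_lit 10) (Steps.fwd (nat_lit 4096) (Steps.bwd (nat_lit 10) (Steps.fwd (nat_lit 9216) (Steps.fwd (nat_lit 7168) (Steps.fwd (nat_lit 4096) (Steps.bwd (nat_lit 7) Steps.nil))))))) (nat_lit 58) (nat_lit 3),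
  Rule.mk (nat_lit 5) (nat_lit 54) (Steps.bwd (nat_lit 9) (Steps.fwd (nat_lit 7168) (Steps.fwd (nat_lit 5120) (Steps.fwd (nat_lit 9216) Steps.nil)))) (nat_lit 45) (nat_lit 4),
  Rule.mk (nat_lit 4) (nat_lit 65) (Steps.bwd (nat_lit 1) (Steps.bwd (nat_lit 4) (Steps.fwd (nat_lit 1024) (Steps.bwd (nat_lit 4) (Steps.bwd (nat_lit 1) Steps.nil))))) (nat_lit 16) (nat_lit 0),
  Rule.mk (nat_lit 6) (nat_lit 54) (Steps.bwd (nat_lit 8) (Steps.bwd (nat_lit 6) (Steps.bwd (nat_lit 8) (Steps.bwd (nat_lit 2) Steps.nil)))) (nat_lit 46) (nat_lit 1),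
  Rule.mk (nat_lit 4) (nat_lit 43) (Steps.bwd (nat_lit 7) (Steps.fwd (nat_lit 4096) (Steps.bwd (nat_lit 7) Steps.nil))) (nat_lit 30) (nat_lit 0),
  Rule.mk (nat_lit 4) (nat_lit 43) (Steps.bwd (nat_lit 6) (Steps.bwd (nat_lit 4) (Steps.bwd (nat_lit 5) Steps.nil))) (nat_lit 22) (nat_lit 3),
  Rule.mk (nat_lit 4) (nat_lit 43) (Steps.fwd (nat_lit 3072) (Steps.bwd (nat_lit 4) (Steps.fwd (nat_lit 3072) Steps.nil))) (nat_lit 14) (nat_lit 1),
  Rule.mk (nat_lit 4) (nat_lit 43) (Steps.bwd (nat_lit 3) (Steps.bwd (nat_lit 4) (Steps.fwd (nat_lit 2048) Steps.nil))) (nat_lit 15) (nat_lit 0),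
  Rule.mk (nat_lit 8) (nat_lit 43) (Steps.bwd (nat_lit 10) (Steps.fwd (nat_lit 9216) (Steps.fwd (nat_lit 10240) Steps.nil))) (nat_lit 50) (nat_lit 0),
  Rule.mk (nat_lit 6) (nat_lit 54) (Steps.bwd (nat_lit 3) (Steps.fwd (nat_lit 8192) (Steps.bwd (nat_lit 6) (Steps.fwd (nat_lit 8192) Steps.nil)))) (nat_lit 47) (nat_lit 0),
  Rule.mk (nat_lit 3) (nat_lit 43) (Steps.bwd (nat_lit 4) (Steps.fwd (nat_lit 2048) (Steps.bwd (nat_lit 4) Steps.nil))) (nat_lit 15) (nat_lit 1),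
  Rule.mk (nat_lit 1) (nat_lit 65) (Steps.bwd (nat_lit 4) (Steps.bwd (nat_lit 1) (Steps.fwd (nat_lit 4096) (Steps.fwd (nat_lit 1024) (Steps.bwd (nat_lit 4) Steps.nil))))) (nat_lit 16) (nat_lit 1)]
noncomputable def R_6 : List (Rule) := [Rule.mk (nat_lit 8) (nat_lit 43) (Steps.fwd (nat_lit 1024) (Steps.fwd (nat_lit 8192) (Steps.bwd (nat_lit 1) Steps.nil))) (nat_lit 38) (nat_lit 1),
  Rule.mk (nat_lit 9) (nat_lit 54) (Steps.bwd (nat_lit 6) (Steps.fwd (nat_lit 2048) (Steps.bwd (nat_lit 9) (Steps.fwd (nat_lit 6144) Steps.nil)))) (nat_lit 47) (nat_lit 4),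
  Rule.mk (nat_lit 1) (nat_lit 153) (Steps.bwd (nat_lit 6) (Steps.fwd (nat_lit 5120) (Steps.bwd (nat_lit 2) (Steps.bwd (nat_lit 1) (Steps.bwd (nat_lit 6) (Steps.fwd (nat_lit 1024) (Steps.bwd (nat_lit 2) (Steps.fwd (nat_lit 1024) (Steps.fwd (nat_lit 6144) (Steps.fwd (nat_lit 1024) (Steps.bwd (nat_lit 2) (Steps.fwd (nat_lit 1024) (Steps.bwd (nat_lit 6) Steps.nil))))))))))))) (nat_lit 34) (nat_lit 12),
  Rule.mk (nat_lit 2) (nat_lit 153) (Steps.bwd (nat_lit 1) (Steps.bwd (nat_lit 6) (Steps.fwd (nat_lit 1024) (Steps.bwd (nat_lit 6) (Steps.fwd (nat_lit 5120) (Steps.bwd (nat_lit 2) (Steps.fwd (nat_lit 1024) (Steps.fwd (nat_lit 6144) (Steps.fwd (nat_lit 1024) (Steps.bwd (nat_lit 2) (Steps.fwd (nat_lit 1024) (Steps.bwd (nat_lit 6) (Steps.bwd (nat_lit 1) Steps.nil))))))))))))) (nat_lit 34) (nat_lit 9),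
  Rule.mk (nat_lit 6) (nat_lit 43) (Steps.bwd (nat_lit 4) (Steps.fwd (nat_lit 5120) (Steps.bwd (nat_lit 4) Steps.nil))) (nat_lit 22) (nat_lit 0),
  Rule.mk (nat_lit 10) (nat_lit 87) (Steps.bwd (nat_lit 4) (Steps.fwd (nat_lit 10240) (Steps.fwd (nat_lit 9216) (Steps.fwd (nat_lit 7168) (Steps.fwd (nat_lit 4096) (Steps.bwd (nat_lit 7) (Steps.bwd (nat_lit 9) Steps.nil))))))) (nat_lit 58) (nat_lit 4),
  Rule.mk (nat_lit 4) (nat_lit 43) (Steps.bwd (nat_lit 5) (Steps.bwd (nat_lit 4) (Steps.bwd (nat_lit 6) Steps.nil))) (nat_lit 22) (nat_lit 1),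
  Rule.mk (nat_lit 6) (nat_lit 54) (Steps.bwd (nat_lit 5) (Steps.fwd (nat_lit 7168) (Steps.fwd (nat_lit 6144) (Steps.bwd (nat_lit 5) Steps.nil)))) (nat_lit 24) (nat_lit 3),
  Rule.mk (nat_lit 7) (nat_lit 43) (Steps.bwd (nat_lit 3) (Steps.fwd (nat_lit 7168) (Steps.fwd (nat_lit 3072) Steps.nil))) (nat_lit 28) (nat_lit 3),
  Rule.mk (nat_lit 4) (nat_lit 65) (Steps.bwd (nat_lit 1) (Steps.fwd (nat_lit 4096) (Steps.bwd (nat_lit 1) (Steps.bwd (nat_lit 4) (Steps.bwd (nat_lit 1) Steps.nil))))) (nat_lit 16) (nat_lit 0),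
  Rule.mk (nat_lit 9) (nat_lit 54) (Steps.bwd (nat_lit 5) (Steps.fwd (nat_lit 7168) (Steps.fwd (nat_lit 9216) (Steps.bwd (nat_lit 5) Steps.nil)))) (nat_lit 44) (nat_lit 3),
  Rule.mk (nat_lit 6) (nat_lit 153) (Steps.fwd (nat_lit 1024) (Steps.fwd (nat_lit 6144) (Steps.bwd (nat_lit 1) (Steps.fwd (nat_lit 2048) (Steps.fwd (nat_lit 1024) (Steps.bwd (nat_lit 6) (Steps.fwd (nat_lit 1024) (Steps.bwd (nat_lit 3) (Steps.fwd (nat_lit 1024) (Steps.bwd (nat_lit 6) (Steps.bwd (nat_lit 1) (Steps.fwd (nat_lit 2048) (Steps.bwd (nat_lit 5) Steps.nil))))))))))))) (nat_lit 35) (nat_lit 2),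
  Rule.mk (nat_lit 6) (nat_lit 54) (Steps.fwd (nat_lit 8192) (Steps.bwd (nat_lit 6) (Steps.fwd (nat_lit 2048) (Steps.bwd (nat_lit 9) Steps.nil)))) (nat_lit 47) (nat_lit 3),
  Rule.mk (nat_lit 1) (nat_lit 153) (Steps.bwd (nat_lit 3) (Steps.bwd (nat_lit 5) (Steps.fwd (nat_lit 6144) (Steps.bwd (nat_lit 1) (Steps.bwd (nat_lit 6) (Steps.bwd (nat_lit 1) (Steps.bwd (nat_lit 3) (Steps.bwd (nat_lit 1) (Steps.bwd (nat_lit 6) (Steps.bwd (nat_lit 1) (Steps.bwd (nat_lit 3) (Steps.bwd (nat_lit 1) (Steps.bwd (nat_lit 6) Steps.nil))))))))))))) (nat_lit 35) (nat_lit 13),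
  Rule.mk (nat_lit 1) (nat_lit 43) (Steps.bwd (nat_lit 5) (Steps.bwd (nat_lit 1) (Steps.fwd (nat_lit 5120) Steps.nil))) (nat_lit 18) (nat_lit 1),
  Rule.mk (nat_lit 2) (nat_lit 43) (Steps.bwd (nat_lit 5) (Steps.bwd (nat_lit 3) (Steps.bwd (nat_lit 5) Steps.nil))) (nat_lit 20) (nat_lit 1),
  Rule.mk (nat_lit 8) (nat_lit 54) (Steps.bwd (nat_lit 5) (Steps.fwd (nat_lit 8192) (Steps.bwd (nat_lit 5) (Steps.fwd (nat_lit 7168) Steps.nil)))) (nat_lit 44) (nat_lit 1),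
  Rule.mk (nat_lit 1) (nat_lit 65) (Steps.bwd (nat_lit 4) (Steps.bwd (nat_lit 1) (Steps.bwd (nat_lit 4) (Steps.fwd (nat_lit 1024) (Steps.bwd (nat_lit 4) Steps.nil))))) (nat_lit 16) (nat_lit 1),
  Rule.mk (nat_lit 6) (nat_lit 54) (Steps.bwd (nat_lit 8) (Steps.fwd (nat_lit 6144) (Steps.bwd (nat_lit 8) (Steps.bwd (nat_lit 2) Steps.nil)))) (nat_lit 46) (nat_lit 1),
  Rule.mk (nat_lit 3) (nat_lit 54) (Steps.fwd (nat_lit 8192) (Steps.bwd (nat_lit 6) (Steps.fwd (nat_lit 8192) (Steps.bwd (nat_lit 6) Steps.nil)))) (nat_lit 47) (nat_lit 1),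
  Rule.mk (nat_lit 6) (nat_lit 54) (Steps.bwd (nat_lit 5) (Steps.bwd (nat_lit 7) (Steps.bwd (nat_lit 6) (Steps.fwd (nat_lit 5120) Steps.nil)))) (nat_lit 24) (nat_lit 3),
  Rule.mk (nat_lit 5) (nat_lit 54) (Steps.bwd (nat_lit 9) (Steps.bwd (nat_lit 5) (Steps.bwd (nat_lit 7) (Steps.bwd (nat_lit 8) Steps.nil)))) (nat_lit 44) (nat_lit 2),
  Rule.mk (nat_lit 6) (nat_lit 54) (Steps.bwd (nat_lit 9) (Steps.fwd (nat_lit 6144) (Steps.bwd (nat_lit 3) (Steps.bwd (nat_lit 9) Steps.nil)))) (nat_lit 47) (nat_lit 3),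
  Rule.mk (nat_lit 4) (nat_lit 87) (Steps.bwd (nat_lit 10) (Steps.fwd (nat_lit 9216) (Steps.fwd (nat_lit 7168) (Steps.fwd (nat_lit 4096) (Steps.bwd (nat_lit 7) (Steps.fwd (nat_lit 8192) (Steps.fwd (nat_lit 10240) Steps.nil))))))) (nat_lit 58) (nat_lit 5),
  Rule.mk (nat_lit 1) (nat_lit 65) (Steps.bwd (nat_lit 4) (Steps.fwd (nat_lit 1024) (Steps.bwd (nat_lit 4) (Steps.bwd (nat_lit 1) (Steps.bwd (nat_lit 4) Steps.nil))))) (nat_lit 16) (nat_lit 1),
  Rule.mk (nat_lit 9) (nat_lit 54) (Steps.bwd (nat_lit 7) (Steps.bwd (nat_lit 5) (Steps.bwd (nat_lit 8) (Steps.fwd (nat_lit 5120) Steps.nil)))) (nat_lit 45) (nat_lit 0),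
  Rule.mk (nat_lit 10) (nat_lit 65) (Steps.bwd (nat_lit 7) (Steps.bwd (nat_lit 10) (Steps.bwd (nat_lit 7) (Steps.bwd (nat_lit 10) (Steps.bwd (nat_lit 7) Steps.nil))))) (nat_lit 52) (nat_lit 0),
  Rule.mk (nat_lit 1) (nat_lit 43) (Steps.fwd (nat_lit 10240) (Steps.bwd (nat_lit 1) (Steps.bwd (nat_lit 10) Steps.nil))) (nat_lit 54) (nat_lit 0),
  Rule.mk (nat_lit 3) (nat_lit 54) (Steps.bwd (nat_lit 9) (Steps.fwd (nat_lit 6144) (Steps.fwd (nat_lit 8192) (Steps.bwd (nat_lit 6) Steps.nil)))) (nat_lit 47) (nat_lit 1),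
  Rule.mk (nat_lit 6) (nat_lit 54) (Steps.bwd (nat_lit 7) (Steps.bwd (nat_lit 5) (Steps.bwd (nat_lit 6) (Steps.bwd (nat_lit 5) Steps.nil)))) (nat_lit 25) (nat_lit 0),
  Rule.mk (nat_lit 6) (nat_lit 54) (Steps.bwd (nat_lit 3) (Steps.bwd (nat_lit 9) (Steps.fwd (nat_lit 6144) (Steps.bwd (nat_lit 9) Steps.nil)))) (nat_lit 47) (nat_lit 0),
  Rule.mk (nat_lit 9) (nat_lit 54) (Steps.bwd (nat_lit 6) (Steps.bwd (nat_lit 9) (Steps.bwd (nat_lit 6) (Steps.bwd (nat_lit 3) Steps.nil)))) (nat_lit 47) (nat_lit 2),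
  Rule.mk (nat_lit 1) (nat_lit 153) (Steps.fwd (nat_lit 6144) (Steps.bwd (nat_lit 1) (Steps.fwd (nat_lit 3072) (Steps.bwd (nat_lit 1) (Steps.fwd (nat_lit 6144) (Steps.fwd (nat_lit 1024) (Steps.fwd (nat_lit 6144) (Steps.bwd (nat_lit 5) (Steps.fwd (nat_lit 3072) (Steps.bwd (nat_lit 1) (Steps.bwd (nat_lit 6) (Steps.bwd (nat_lit 1) (Steps.bwd (nat_lit 2) Steps.nil))))))))))))) (nat_lit 34) (nat_lit 6),
  Rule.mk (nat_lit 2) (nat_lit 43) (Steps.bwd (nat_lit 5) (Steps.fwd (nat_lit 2048) (Steps.bwd (nat_lit 5) Steps.nil))) (nat_lit 20) (nat_lit 1),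
  Rule.mk (nat_lit 7) (nat_lit 54) (Steps.bwd (nat_lit 5) (Steps.fwd (nat_lit 6144) (Steps.bwd (nat_lit 5) (Steps.bwd (nat_lit 6) Steps.nil)))) (nat_lit 25) (nat_lit 1),
  Rule.mk (nat_lit 7) (nat_lit 54) (Steps.bwd (nat_lit 6) (Steps.bwd (nat_lit 5) (Steps.fwd (nat_lit 6144) (Steps.bwd (nat_lit 5) Steps.nil)))) (nat_lit 24) (nat_lit 0),
  Rule.mk (nat_lit 5) (nat_lit 54) (Steps.bwd (nat_lit 6) (Steps.bwd (nat_lit 5) (Steps.fwd (nat_lit 6144) (Steps.bwd (nat_lit 7) Steps.nil)))) (nat_lit 25) (nat_lit 2),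
  Rule.mk (nat_lit 1) (nat_lit 153) (Steps.bwd (nat_lit 6) (Steps.fwd (nat_lit 1024) (Steps.fwd (nat_lit 6144) (Steps.bwd (nat_lit 5) (Steps.bwd (nat_lit 2) (Steps.fwd (nat_lit 1024) (Steps.fwd (nat_lit 6144) (Steps.fwd (nat_lit 1024) (Steps.fwd (nat_lit 3072) (Steps.bwd (nat_lit 1) (Steps.bwd (nat_lit 6) (Steps.bwd (nat_lit 1) (Steps.fwd (nat_lit 3072) Steps.nil))))))))))))) (nat_lit 34) (nat_lit 10),
  Rule.mk (nat_lit 10) (nat_lit 65) (Steps.bwd (nat_lit 7) (Steps.fwd (nat_lit 10240) (Steps.fwd (nat_lit 7168) (Steps.bwd (nat_lit 10) (Steps.bwd (nat_lit 7) Steps.nil))))) (nat_lit 52) (nat_lit 0),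
  Rule.mk (nat_lit 6) (nat_lit 153) (Steps.bwd (nat_lit 1) (Steps.fwd (nat_lit 3072) (Steps.bwd (nat_lit 1) (Steps.bwd (nat_lit 6) (Steps.fwd (nat_lit 1024) (Steps.bwd (nat_lit 2) (Steps.fwd (nat_lit 1024) (Steps.bwd (nat_lit 6) (Steps.fwd (nat_lit 1024) (Steps.fwd (nat_lit 6144) (Steps.bwd (nat_lit 5) (Steps.fwd (nat_lit 3072) (Steps.bwd (nat_lit 1) Steps.nil))))))))))))) (nat_lit 34) (nat_lit 3),
  Rule.mk (nat_lit 5) (nat_lit 54) (Steps.bwd (nat_lit 6) (Steps.bwd (nat_lit 5) (Steps.fwd (nat_lit 7168) (Steps.bwd (nat_lit 6) Steps.nil)))) (nat_lit 24) (nat_lit 2),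
  Rule.mk (nat_lit 2) (nat_lit 43) (Steps.fwd (nat_lit 5120) (Steps.bwd (nat_lit 3) (Steps.bwd (nat_lit 5) Steps.nil))) (nat_lit 20) (nat_lit 1),
  Rule.mk (nat_lit 3) (nat_lit 43) (Steps.fwd (nat_lit 5120) (Steps.fwd (nat_lit 3072) (Steps.bwd (nat_lit 5) Steps.nil))) (nat_lit 20) (nat_lit 3),
  Rule.mk (nat_lit 3) (nat_lit 65) (Steps.bwd (nat_lit 1) (Steps.bwd (nat_lit 3) (Steps.fwd (nat_lit 1024) (Steps.fwd (nat_lit 2048) (Steps.fwd (nat_lit 1024) Steps.nil))))) (nat_lit 13) (nat_lit 1),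
  Rule.mk (nat_lit 4) (nat_lit 65) (Steps.bwd (nat_lit 1) (Steps.fwd (nat_lit 4096) (Steps.fwd (nat_lit 1024) (Steps.fwd (nat_lit 4096) (Steps.bwd (nat_lit 1) Steps.nil))))) (nat_lit 16) (nat_lit 0),
  Rule.mk (nat_lit 2) (nat_lit 153) (Steps.bwd (nat_lit 1) (Steps.fwd (nat_lit 6144) (Steps.fwd (nat_lit 1024) (Steps.bwd (nat_lit 2) (Steps.bwd (nat_lit 1) (Steps.bwd (nat_lit 6) (Steps.fwd (nat_lit 1024) (Steps.fwd (nat_lit 3072) (Steps.bwd (nat_lit 1) (Steps.bwd (nat_lit 6) (Steps.bwd (nat_lit 1) (Steps.fwd (nat_lit 6144) (Steps.fwd (nat_lit 5120) Steps.nil))))))))))))) (nat_lit 34) (nat_lit 1),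
  Rule.mk (nat_lit 6) (nat_lit 153) (Steps.bwd (nat_lit 1) (Steps.fwd (nat_lit 6144) (Steps.fwd (nat_lit 1024) (Steps.fwd (nat_lit 2048) (Steps.fwd (nat_lit 1024) (Steps.bwd (nat_lit 6) (Steps.bwd (nat_lit 1) (Steps.fwd (nat_lit 2048) (Steps.fwd (nat_lit 1024) (Steps.fwd (nat_lit 6144) (Steps.bwd (nat_lit 1) (Steps.fwd (nat_lit 2048) (Steps.fwd (nat_lit 5120) Steps.nil))))))))))))) (nat_lit 35) (nat_lit 2),
  Rule.mk (nat_lit 10) (nat_lit 87) (Steps.bwd (nat_lit 4) (Steps.bwd (nat_lit 10) (Steps.bwd (nat_lit 8) (Steps.fwd (nat_lit 7168) (Steps.fwd (nat_lit 4096) (Steps.fwd (nat_lit 7168) (Steps.fwd (nat_lit 8192) Steps.nil))))))) (nat_lit 58) (nat_lit 4),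
  Rule.mk (nat_lit 1) (nat_lit 153) (Steps.bwd (nat_lit 6) (Steps.bwd (nat_lit 1) (Steps.bwd (nat_lit 6) (Steps.fwd (nat_lit 5120) (Steps.bwd (nat_lit 2) (Steps.bwd (nat_lit 1) (Steps.fwd (nat_lit 6144) (Steps.bwd (nat_lit 1) (Steps.fwd (nat_lit 3072) (Steps.bwd (nat_lit 1) (Steps.fwd (nat_lit 6144) (Steps.fwd (nat_lit 1024) (Steps.fwd (nat_lit 3072) Steps.nil))))))))))))) (nat_lit 34) (nat_lit 10),
  Rule.mk (nat_lit 2) (nat_lit 65) (Steps.fwd (nat_lit 1024) (Steps.bwd (nat_lit 2) (Steps.fwd (nat_lit 1024) (Steps.fwd (nat_lit 3072) (Steps.bwd (nat_lit 1) Steps.nil))))) (nat_lit 12) (nat_lit 0),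
  Rule.mk (nat_lit 1) (nat_lit 153) (Steps.bwd (nat_lit 6) (Steps.fwd (nat_lit 1024) (Steps.bwd (nat_lit 2) (Steps.fwd (nat_lit 1024) (Steps.fwd (nat_lit 6144) (Steps.bwd (nat_lit 1) (Steps.fwd (nat_lit 3072) (Steps.bwd (nat_lit 1) (Steps.bwd (nat_lit 6) (Steps.bwd (nat_lit 1) (Steps.bwd (nat_lit 6) (Steps.fwd (nat_lit 5120) (Steps.bwd (nat_lit 2) Steps.nil))))))))))))) (nat_lit 34) (nat_lit 2),
  Rule.mk (nat_lit 9) (nat_lit 43) (Steps.fwd (nat_lit 5120) (Steps.fwd (nat_lit 9216) (Steps.bwd (nat_lit 7) Steps.nil))) (nat_lit 42) (nat_lit 3),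
  Rule.mk (nat_lit 6) (nat_lit 54) (Steps.bwd (nat_lit 5) (Steps.fwd (nat_lit 6144) (Steps.bwd (nat_lit 5) (Steps.bwd (nat_lit 7) Steps.nil)))) (nat_lit 24) (nat_lit 1),
  Rule.mk (nat_lit 8) (nat_lit 54) (Steps.fwd (nat_lit 5120) (Steps.fwd (nat_lit 8192) (Steps.bwd (nat_lit 5) (Steps.bwd (nat_lit 7) Steps.nil)))) (nat_lit 44) (nat_lit 1),
  Rule.mk (nat_lit 9) (nat_lit 43) (Steps.bwd (nat_lit 10) (Steps.bwd (nat_lit 9) (Steps.fwd (nat_lit 10240) Steps.nil))) (nat_lit 51) (nat_lit 1),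
  Rule.mk (nat_lit 1) (nat_lit 43) (Steps.bwd (nat_lit 10) (Steps.bwd (nat_lit 1) (Steps.fwd (nat_lit 10240) Steps.nil))) (nat_lit 54) (nat_lit 0),
  Rule.mk (nat_lit 8) (nat_lit 54) (Steps.bwd (nat_lit 5) (Steps.fwd (nat_lit 8192) (Steps.bwd (nat_lit 5) (Steps.bwd (nat_lit 7) Steps.nil)))) (nat_lit 44) (nat_lit 1),
  Rule.mk (nat_lit 9) (nat_lit 43) (Steps.bwd (nat_lit 5) (Steps.fwd (nat_lit 9216) (Steps.bwd (nat_lit 7) Steps.nil))) (nat_lit 42) (nat_lit 3),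
  Rule.mk (nat_lit 1) (nat_lit 153) (Steps.bwd (nat_lit 6) (Steps.bwd (nat_lit 5) (Steps.bwd (nat_lit 2) (Steps.fwd (nat_lit 1024) (Steps.fwd (nat_lit 6144) (Steps.bwd (nat_lit 1) (Steps.fwd (nat_lit 3072) (Steps.bwd (nat_lit 1) (Steps.bwd (nat_lit 6) (Steps.bwd (nat_lit 1) (Steps.bwd (nat_lit 2) (Steps.fwd (nat_lit 1024) (Steps.fwd (nat_lit 6144) Steps.nil))))))))))))) (nat_lit 34) (nat_lit 12),
  Rule.mk (nat_lit 2) (nat_lit 65) (Steps.bwd (nat_lit 1) (Steps.bwd (nat_lit 2) (Steps.bwd (nat_lit 1) (Steps.fwd (nat_lit 3072) (Steps.bwd (nat_lit 1) Steps.nil))))) (nat_lit 12) (nat_lit 0),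
  Rule.mk (nat_lit 2) (nat_lit 54) (Steps.bwd (nat_lit 6) (Steps.bwd (nat_lit 8) (Steps.bwd (nat_lit 6) (Steps.fwd (nat_lit 9216) Steps.nil)))) (nat_lit 46) (nat_lit 0),
  Rule.mk (nat_lit 1) (nat_lit 153) (Steps.bwd (nat_lit 6) (Steps.bwd (nat_lit 1) (Steps.bwd (nat_lit 2) (Steps.fwd (nat_lit 1024) (Steps.bwd (nat_lit 6) (Steps.bwd (nat_lit 1) (Steps.bwd (nat_lit 6) (Steps.bwd (nat_lit 5) (Steps.fwd (nat_lit 3072) (Steps.bwd (nat_lit 1) (Steps.bwd (nat_lit 6) (Steps.fwd (nat_lit 1024) (Steps.bwd (nat_lit 2) Steps.nil))))))))))))) (nat_lit 34) (nat_lit 6),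
  Rule.mk (nat_lit 1) (nat_lit 43) (Steps.bwd (nat_lit 10) (Steps.bwd (nat_lit 1) (Steps.bwd (nat_lit 10) Steps.nil))) (nat_lit 54) (nat_lit 0),
  Rule.mk (nat_lit 5) (nat_lit 43) (Steps.bwd (nat_lit 1) (Steps.fwd (nat_lit 5120) (Steps.bwd (nat_lit 1) Steps.nil))) (nat_lit 18) (nat_lit 0)]
noncomputable def R_7 : List (Rule) := [Rule.mk (nat_lit 8) (nat_lit 43) (Steps.bwd (nat_lit 1) (Steps.fwd (nat_lit 8192) (Steps.bwd (nat_lit 1) Steps.nil))) (nat_lit 38) (nat_lit 1),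
  Rule.mk (nat_lit 6) (nat_lit 54) (Steps.bwd (nat_lit 7) (Steps.fwd (nat_lit 5120) (Steps.fwd (nat_lit 6144) (Steps.fwd (nat_lit 5120) Steps.nil)))) (nat_lit 25) (nat_lit 0),
  Rule.mk (nat_lit 8) (nat_lit 54) (Steps.bwd (nat_lit 2) (Steps.fwd (nat_lit 6144) (Steps.bwd (nat_lit 8) (Steps.bwd (nat_lit 6) Steps.nil)))) (nat_lit 46) (nat_lit 4),
  Rule.mk (nat_lit 10) (nat_lit 87) (Steps.bwd (nat_lit 8) (Steps.fwd (nat_lit 7168) (Steps.bwd (nat_lit 4) (Steps.bwd (nat_lit 7) (Steps.bwd (nat_lit 9) (Steps.bwd (nat_lit 10) (Steps.bwd (nat_lit 4) Steps.nil))))))) (nat_lit 58) (nat_lit 6),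
  Rule.mk (nat_lit 9) (nat_lit 43) (Steps.bwd (nat_lit 1) (Steps.fwd (nat_lit 9216) (Steps.bwd (nat_lit 1) Steps.nil))) (nat_lit 38) (nat_lit 3),
  Rule.mk (nat_lit 1) (nat_lit 153) (Steps.bwd (nat_lit 6) (Steps.fwd (nat_lit 1024) (Steps.fwd (nat_lit 6144) (Steps.fwd (nat_lit 5120) (Steps.bwd (nat_lit 2) (Steps.fwd (nat_lit 1024) (Steps.bwd (nat_lit 6) (Steps.bwd (nat_lit 1) (Steps.bwd (nat_lit 2) (Steps.fwd (nat_lit 1024) (Steps.fwd (nat_lit 6144) (Steps.bwd (nat_lit 1) (Steps.fwd (nat_lit 3072) Steps.nil))))))))))))) (nat_lit 34) (nat_lit 10),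
  Rule.mk (nat_lit 2) (nat_lit 65) (Steps.fwd (nat_lit 1024) (Steps.bwd (nat_lit 2) (Steps.bwd (nat_lit 1) (Steps.fwd (nat_lit 3072) (Steps.bwd (nat_lit 1) Steps.nil))))) (nat_lit 12) (nat_lit 0),
  Rule.mk (nat_lit 4) (nat_lit 65) (Steps.fwd (nat_lit 1024) (Steps.bwd (nat_lit 4) (Steps.bwd (nat_lit 1) (Steps.bwd (nat_lit 4) (Steps.bwd (nat_lit 1) Steps.nil))))) (nat_lit 16) (nat_lit 0),
  Rule.mk (nat_lit 6) (nat_lit 54) (Steps.bwd (nat_lit 9) (Steps.bwd (nat_lit 6) (Steps.bwd (nat_lit 3) (Steps.bwd (nat_lit 9) Steps.nil)))) (nat_lit 47) (nat_lit 3),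
  Rule.mk (nat_lit 3) (nat_lit 54) (Steps.bwd (nat_lit 9) (Steps.fwd (nat_lit 6144) (Steps.bwd (nat_lit 9) (Steps.bwd (nat_lit 6) Steps.nil)))) (nat_lit 47) (nat_lit 1),
  Rule.mk (nat_lit 3) (nat_lit 32) (Steps.fwd (nat_lit 2048) (Steps.bwd (nat_lit 3) Steps.nil)) (nat_lit 3) (nat_lit 0),
  Rule.mk (nat_lit 10) (nat_lit 87) (Steps.bwd (nat_lit 4) (Steps.bwd (nat_lit 10) (Steps.bwd (nat_lit 8) (Steps.bwd (nat_lit 7) (Steps.bwd (nat_lit 4) (Steps.bwd (nat_lit 7) (Steps.bwd (nat_lit 9) Steps.nil))))))) (nat_lit 58) (nat_lit 4),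
  Rule.mk (nat_lit 5) (nat_lit 43) (Steps.bwd (nat_lit 2) (Steps.bwd (nat_lit 5) (Steps.fwd (nat_lit 2048) Steps.nil))) (nat_lit 20) (nat_lit 0),
  Rule.mk (nat_lit 8) (nat_lit 43) (Steps.bwd (nat_lit 2) (Steps.fwd (nat_lit 8192) (Steps.bwd (nat_lit 3) Steps.nil))) (nat_lit 40) (nat_lit 1),
  Rule.mk (nat_lit 1) (nat_lit 65) (Steps.bwd (nat_lit 2) (Steps.fwd (nat_lit 1024) (Steps.fwd (nat_lit 3072) (Steps.bwd (nat_lit 1) (Steps.fwd (nat_lit 3072) Steps.nil))))) (nat_lit 12) (nat_lit 1),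
  Rule.mk (nat_lit 6) (nat_lit 153) (Steps.bwd (nat_lit 1) (Steps.bwd (nat_lit 6) (Steps.fwd (nat_lit 5120) (Steps.fwd (nat_lit 3072) (Steps.bwd (nat_lit 1) (Steps.fwd (nat_lit 6144) (Steps.fwd (nat_lit 1024) (Steps.fwd (nat_lit 3072) (Steps.fwd (nat_lit 1024) (Steps.bwd (nat_lit 6) (Steps.bwd (nat_lit 1) (Steps.fwd (nat_lit 3072) (Steps.bwd (nat_lit 1) Steps.nil))))))))))))) (nat_lit 34) (nat_lit 11),
  Rule.mk (nat_lit 9) (nat_lit 43) (Steps.bwd (nat_lit 5) (Steps.bwd (nat_lit 8) (Steps.bwd (nat_lit 7) Steps.nil))) (nat_lit 42) (nat_lit 3),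
  Rule.mk (nat_lit 8) (nat_lit 54) (Steps.fwd (nat_lit 5120) (Steps.bwd (nat_lit 9) (Steps.bwd (nat_lit 5) (Steps.bwd (nat_lit 7) Steps.nil)))) (nat_lit 44) (nat_lit 1),
  Rule.mk (nat_lit 6) (nat_lit 153) (Steps.fwd (nat_lit 1024) (Steps.bwd (nat_lit 2) (Steps.fwd (nat_lit 1024) (Steps.fwd (nat_lit 6144) (Steps.fwd (nat_lit 1024) (Steps.fwd (nat_lit 6144) (Steps.fwd (nat_lit 5120) (Steps.bwd (nat_lit 2) (Steps.bwd (nat_lit 1) (Steps.fwd (nat_lit 6144) (Steps.fwd (nat_lit 1024) (Steps.fwd (nat_lit 3072) (Steps.bwd (nat_lit 1) Steps.nil))))))))))))) (nat_lit 34) (nat_lit 7),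
  Rule.mk (nat_lit 2) (nat_lit 43) (Steps.bwd (nat_lit 4) (Steps.bwd (nat_lit 2) (Steps.bwd (nat_lit 4) Steps.nil))) (nat_lit 14) (nat_lit 0),
  Rule.mk (nat_lit 7) (nat_lit 54) (Steps.bwd (nat_lit 6) (Steps.bwd (nat_lit 5) (Steps.bwd (nat_lit 6) (Steps.bwd (nat_lit 5) Steps.nil)))) (nat_lit 24) (nat_lit 0),
  Rule.mk (nat_lit 1) (nat_lit 153) (Steps.bwd (nat_lit 6) (Steps.fwd (nat_lit 1024) (Steps.bwd (nat_lit 6) (Steps.bwd (nat_lit 5) (Steps.fwd (nat_lit 3072) (Steps.bwd (nat_lit 1) (Steps.bwd (nat_lit 6) (Steps.bwd (nat_lit 1) (Steps.fwd (nat_lit 3072) (Steps.bwd (nat_lit 1) (Steps.bwd (nat_lit 6) (Steps.fwd (nat_lit 1024) (Steps.bwd (nat_lit 2) Steps.nil))))))))))))) (nat_lit 34) (nat_lit 10),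
  Rule.mk (nat_lit 2) (nat_lit 65) (Steps.bwd (nat_lit 1) (Steps.bwd (nat_lit 2) (Steps.fwd (nat_lit 1024) (Steps.bwd (nat_lit 2) (Steps.bwd (nat_lit 1) Steps.nil))))) (nat_lit 12) (nat_lit 0),
  Rule.mk (nat_lit 7) (nat_lit 65) (Steps.bwd (nat_lit 10) (Steps.fwd (nat_lit 7168) (Steps.bwd (nat_lit 10) (Steps.bwd (nat_lit 7) (Steps.bwd (nat_lit 10) Steps.nil))))) (nat_lit 52) (nat_lit 1),
  Rule.mk (nat_lit 3) (nat_lit 43) (Steps.bwd (nat_lit 9) (Steps.bwd (nat_lit 2) (Steps.fwd (nat_lit 9216) Steps.nil))) (nat_lit 41) (nat_lit 3),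
  Rule.mk (nat_lit 8) (nat_lit 54) (Steps.bwd (nat_lit 6) (Steps.fwd (nat_lit 9216) (Steps.fwd (nat_lit 3072) (Steps.fwd (nat_lit 6144) Steps.nil)))) (nat_lit 46) (nat_lit 2),
  Rule.mk (nat_lit 2) (nat_lit 54) (Steps.bwd (nat_lit 6) (Steps.fwd (nat_lit 9216) (Steps.fwd (nat_lit 6144) (Steps.fwd (nat_lit 9216) Steps.nil)))) (nat_lit 46) (nat_lit 0),
  Rule.mk (nat_lit 1) (nat_lit 153) (Steps.bwd (nat_lit 6) (Steps.fwd (nat_lit 5120) (Steps.bwd (nat_lit 2) (Steps.fwd (nat_lit 1024) (Steps.fwd (nat_lit 6144) (Steps.bwd (nat_lit 1) (Steps.bwd (nat_lit 2) (Steps.bwd (nat_lit 1) (Steps.fwd (nat_lit 6144) (Steps.fwd (nat_lit 1024) (Steps.bwd (nat_lit 2) (Steps.fwd (nat_lit 1024) (Steps.bwd (nat_lit 6) Steps.nil))))))))))))) (nat_lit 34) (nat_lit 12),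
  Rule.mk (nat_lit 2) (nat_lit 43) (Steps.bwd (nat_lit 10) (Steps.fwd (nat_lit 2048) (Steps.bwd (nat_lit 10) Steps.nil))) (nat_lit 56) (nat_lit 2),
  Rule.mk (nat_lit 5) (nat_lit 43) (Steps.bwd (nat_lit 7) (Steps.bwd (nat_lit 5) (Steps.fwd (nat_lit 7168) Steps.nil))) (nat_lit 32) (nat_lit 0),
  Rule.mk (nat_lit 8) (nat_lit 43) (Steps.bwd (nat_lit 7) (Steps.bwd (nat_lit 9) (Steps.bwd (nat_lit 5) Steps.nil))) (nat_lit 42) (nat_lit 1),
  Rule.mk (nat_lit 10) (nat_lit 65) (Steps.bwd (nat_lit 7) (Steps.bwd (nat_lit 10) (Steps.fwd (nat_lit 7168) (Steps.bwd (nat_lit 10) (Steps.bwd (nat_lit 7) Steps.nil))))) (nat_lit 52) (nat_lit 0),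
  Rule.mk (nat_lit 1) (nat_lit 65) (Steps.bwd (nat_lit 4) (Steps.fwd (nat_lit 1024) (Steps.bwd (nat_lit 4) (Steps.fwd (nat_lit 1024) (Steps.fwd (nat_lit 4096) Steps.nil))))) (nat_lit 16) (nat_lit 1),
  Rule.mk (nat_lit 10) (nat_lit 87) (Steps.bwd (nat_lit 4) (Steps.fwd (nat_lit 10240) (Steps.fwd (nat_lit 9216) (Steps.bwd (nat_lit 7) (Steps.bwd (nat_lit 4) (Steps.fwd (nat_lit 7168) (Steps.fwd (nat_lit 8192) Steps.nil))))))) (nat_lit 58) (nat_lit 4),
  Rule.mk (nat_lit 6) (nat_lit 54) (Steps.bwd (nat_lit 5) (Steps.bwd (nat_lit 7) (Steps.bwd (nat_lit 6) (Steps.bwd (nat_lit 5) Steps.nil)))) (nat_lit 24) (nat_lit 3),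
  Rule.mk (nat_lit 3) (nat_lit 43) (Steps.bwd (nat_lit 8) (Steps.bwd (nat_lit 2) (Steps.bwd (nat_lit 9) Steps.nil))) (nat_lit 40) (nat_lit 0),
  Rule.mk (nat_lit 10) (nat_lit 87) (Steps.fwd (nat_lit 4096) (Steps.bwd (nat_lit 10) (Steps.bwd (nat_lit 8) (Steps.bwd (nat_lit 7) (Steps.bwd (nat_lit 4) (Steps.bwd (nat_lit 7) (Steps.bwd (nat_lit 9) Steps.nil))))))) (nat_lit 58) (nat_lit 4),
  Rule.mk (nat_lit 5) (nat_lit 54) (Steps.bwd (nat_lit 6) (Steps.bwd (nat_lit 7) (Steps.fwd (nat_lit 5120) (Steps.fwd (nat_lit 6144) Steps.nil)))) (nat_lit 25) (nat_lit 4),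
  Rule.mk (nat_lit 1) (nat_lit 43) (Steps.bwd (nat_lit 5) (Steps.bwd (nat_lit 1) (Steps.bwd (nat_lit 5) Steps.nil))) (nat_lit 18) (nat_lit 1),
  Rule.mk (nat_lit 6) (nat_lit 54) (Steps.bwd (nat_lit 5) (Steps.bwd (nat_lit 6) (Steps.bwd (nat_lit 5) (Steps.fwd (nat_lit 7168) Steps.nil)))) (nat_lit 24) (nat_lit 1),
  Rule.mk (nat_lit 5) (nat_lit 54) (Steps.bwd (nat_lit 6) (Steps.bwd (nat_lit 7) (Steps.fwd (nat_lit 5120) (Steps.bwd (nat_lit 6) Steps.nil)))) (nat_lit 25) (nat_lit 4),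
  Rule.mk (nat_lit 8) (nat_lit 54) (Steps.bwd (nat_lit 6) (Steps.fwd (nat_lit 9216) (Steps.bwd (nat_lit 2) (Steps.fwd (nat_lit 6144) Steps.nil)))) (nat_lit 46) (nat_lit 2),
  Rule.mk (nat_lit 1) (nat_lit 153) (Steps.bwd (nat_lit 6) (Steps.fwd (nat_lit 1024) (Steps.bwd (nat_lit 6) (Steps.bwd (nat_lit 5) (Steps.bwd (nat_lit 2) (Steps.bwd (nat_lit 1) (Steps.fwd (nat_lit 6144) (Steps.fwd (nat_lit 1024) (Steps.fwd (nat_lit 3072) (Steps.bwd (nat_lit 1) (Steps.fwd (nat_lit 6144) (Steps.bwd (nat_lit 1) (Steps.bwd (nat_lit 2) Steps.nil))))))))))))) (nat_lit 34) (nat_lit 10),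
  Rule.mk (nat_lit 7) (nat_lit 65) (Steps.bwd (nat_lit 10) (Steps.fwd (nat_lit 7168) (Steps.fwd (nat_lit 10240) (Steps.bwd (nat_lit 7) (Steps.fwd (nat_lit 10240) Steps.nil))))) (nat_lit 52) (nat_lit 1),
  Rule.mk (nat_lit 9) (nat_lit 43) (Steps.bwd (nat_lit 3) (Steps.fwd (nat_lit 9216) (Steps.bwd (nat_lit 2) Steps.nil))) (nat_lit 40) (nat_lit 3),
  Rule.mk (nat_lit 5) (nat_lit 54) (Steps.bwd (nat_lit 6) (Steps.fwd (nat_lit 7168) (Steps.bwd (nat_lit 5) (Steps.fwd (nat_lit 6144) Steps.nil)))) (nat_lit 25) (nat_lit 4),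
  Rule.mk (nat_lit 1) (nat_lit 153) (Steps.bwd (nat_lit 6) (Steps.fwd (nat_lit 1024) (Steps.fwd (nat_lit 6144) (Steps.fwd (nat_lit 5120) (Steps.fwd (nat_lit 3072) (Steps.bwd (nat_lit 1) (Steps.fwd (nat_lit 6144) (Steps.bwd (nat_lit 1) (Steps.bwd (nat_lit 2) (Steps.bwd (nat_lit 1) (Steps.bwd (nat_lit 6) (Steps.fwd (nat_lit 1024) (Steps.bwd (nat_lit 2) Steps.nil))))))))))))) (nat_lit 34) (nat_lit 10),
  Rule.mk (nat_lit 2) (nat_lit 65) (Steps.bwd (nat_lit 1) (Steps.bwd (nat_lit 2) (Steps.bwd (nat_lit 1) (Steps.bwd (nat_lit 2) (Steps.bwd (nat_lit 1) Steps.nil))))) (nat_lit 12) (nat_lit 0),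
  Rule.mk (nat_lit 6) (nat_lit 153) (Steps.bwd (nat_lit 1) (Steps.bwd (nat_lit 2) (Steps.bwd (nat_lit 1) (Steps.fwd (nat_lit 6144) (Steps.fwd (nat_lit 1024) (Steps.bwd (nat_lit 6) (Steps.fwd (nat_lit 5120) (Steps.fwd (nat_lit 3072) (Steps.fwd (nat_lit 1024) (Steps.bwd (nat_lit 6) (Steps.bwd (nat_lit 1) (Steps.bwd (nat_lit 2) (Steps.fwd (nat_lit 1024) Steps.nil))))))))))))) (nat_lit 34) (nat_lit 7),
  Rule.mk (nat_lit 10) (nat_lit 87) (Steps.bwd (nat_lit 4) (Steps.fwd (nat_lit 10240) (Steps.fwd (nat_lit 9216) (Steps.fwd (nat_lit 7168) (Steps.bwd (nat_lit 4) (Steps.fwd (nat_lit 7168) (Steps.bwd (nat_lit 9) Steps.nil))))))) (nat_lit 58) (nat_lit 4),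
  Rule.mk (nat_lit 1) (nat_lit 153) (Steps.bwd (nat_lit 6) (Steps.fwd (nat_lit 5120) (Steps.bwd (nat_lit 2) (Steps.fwd (nat_lit 1024) (Steps.bwd (nat_lit 6) (Steps.bwd (nat_lit 1) (Steps.fwd (nat_lit 3072) (Steps.bwd (nat_lit 1) (Steps.bwd (nat_lit 6) (Steps.bwd (nat_lit 1) (Steps.bwd (nat_lit 2) (Steps.fwd (nat_lit 1024) (Steps.bwd (nat_lit 6) Steps.nil))))))))))))) (nat_lit 34) (nat_lit 12),
  Rule.mk (nat_lit 2) (nat_lit 65) (Steps.fwd (nat_lit 1024) (Steps.fwd (nat_lit 3072) (Steps.bwd (nat_lit 1) (Steps.fwd (nat_lit 3072) (Steps.bwd (nat_lit 1) Steps.nil))))) (nat_lit 12) (nat_lit 0),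
  Rule.mk (nat_lit 9) (nat_lit 54) (Steps.bwd (nat_lit 6) (Steps.fwd (nat_lit 2048) (Steps.fwd (nat_lit 8192) (Steps.fwd (nat_lit 6144) Steps.nil)))) (nat_lit 47) (nat_lit 4),
  Rule.mk (nat_lit 1) (nat_lit 153) (Steps.bwd (nat_lit 6) (Steps.bwd (nat_lit 5) (Steps.fwd (nat_lit 3072) (Steps.fwd (nat_lit 1024) (Steps.bwd (nat_lit 6) (Steps.bwd (nat_lit 1) (Steps.fwd (nat_lit 3072) (Steps.fwd (nat_lit 1024) (Steps.fwd (nat_lit 6144) (Steps.fwd (nat_lit 1024) (Steps.fwd (nat_lit 3072) (Steps.fwd (nat_lit 1024) (Steps.fwd (nat_lit 6144) Steps.nil))))))))))))) (nat_lit 34) (nat_lit 12),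
  Rule.mk (nat_lit 2) (nat_lit 65) (Steps.bwd (nat_lit 1) (Steps.fwd (nat_lit 3072) (Steps.bwd (nat_lit 1) (Steps.bwd (nat_lit 2) (Steps.bwd (nat_lit 1) Steps.nil))))) (nat_lit 12) (nat_lit 0),
  Rule.mk (nat_lit 2) (nat_lit 43) (Steps.bwd (nat_lit 5) (Steps.fwd (nat_lit 2048) (Steps.fwd (nat_lit 5120) Steps.nil))) (nat_lit 20) (nat_lit 1),
  Rule.mk (nat_lit 1) (nat_lit 153) (Steps.bwd (nat_lit 6) (Steps.bwd (nat_lit 5) (Steps.bwd (nat_lit 2) (Steps.bwd (nat_lit 1) (Steps.bwd (nat_lit 6) (Steps.fwd (nat_lit 1024) (Steps.fwd (nat_lit 3072) (Steps.bwd (nat_lit 1) (Steps.bwd (nat_lit 6) (Steps.bwd (nat_lit 1) (Steps.fwd (nat_lit 3072) (Steps.fwd (nat_lit 1024) (Steps.bwd (nat_lit 6) Steps.nil))))))))))))) (nat_lit 34) (nat_lit 12),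
  Rule.mk (nat_lit 2) (nat_lit 65) (Steps.bwd (nat_lit 1) (Steps.fwd (nat_lit 3072) (Steps.fwd (nat_lit 1024) (Steps.bwd (nat_lit 2) (Steps.bwd (nat_lit 1) Steps.nil))))) (nat_lit 12) (nat_lit 0),
  Rule.mk (nat_lit 5) (nat_lit 54) (Steps.bwd (nat_lit 9) (Steps.fwd (nat_lit 5120) (Steps.fwd (nat_lit 7168) (Steps.fwd (nat_lit 9216) Steps.nil)))) (nat_lit 44) (nat_lit 2),
  Rule.mk (nat_lit 7) (nat_lit 43) (Steps.bwd (nat_lit 2) (Steps.fwd (nat_lit 7168) (Steps.bwd (nat_lit 3) Steps.nil))) (nat_lit 28) (nat_lit 1),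
  Rule.mk (nat_lit 10) (nat_lit 43) (Steps.bwd (nat_lit 2) (Steps.fwd (nat_lit 10240) (Steps.fwd (nat_lit 2048) Steps.nil))) (nat_lit 56) (nat_lit 1),
  Rule.mk (nat_lit 6) (nat_lit 54) (Steps.bwd (nat_lit 8) (Steps.fwd (nat_lit 3072) (Steps.bwd (nat_lit 6) (Steps.bwd (nat_lit 8) Steps.nil)))) (nat_lit 46) (nat_lit 3),
  Rule.mk (nat_lit 1) (nat_lit 153) (Steps.bwd (nat_lit 6) (Steps.fwd (nat_lit 5120) (Steps.fwd (nat_lit 3072) (Steps.fwd (nat_lit 1024) (Steps.bwd (nat_lit 6) (Steps.bwd (nat_lit 1) (Steps.bwd (nat_lit 2) (Steps.bwd (nat_lit 1) (Steps.fwd (nat_lit 6144) (Steps.fwd (nat_lit 1024) (Steps.bwd (nat_lit 2) (Steps.bwd (nat_lit 1) (Steps.bwd (nat_lit 6) Steps.nil))))))))))))) (nat_lit 34) (nat_lit 12),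
  Rule.mk (nat_lit 3) (nat_lit 153) (Steps.bwd (nat_lit 1) (Steps.bwd (nat_lit 6) (Steps.fwd (nat_lit 1024) (Steps.fwd (nat_lit 2048) (Steps.fwd (nat_lit 5120) (Steps.bwd (nat_lit 6) (Steps.fwd (nat_lit 1024) (Steps.fwd (nat_lit 6144) (Steps.bwd (nat_lit 1) (Steps.bwd (nat_lit 3) (Steps.bwd (nat_lit 1) (Steps.bwd (nat_lit 6) (Steps.bwd (nat_lit 1) Steps.nil))))))))))))) (nat_lit 35) (nat_lit 10)]
noncomputable def R_8 : List (Rule) := [Rule.mk (nat_lit 4) (nat_lit 87) (Steps.fwd (nat_lit 10240) (Steps.bwd (nat_lit 8) (Steps.fwd (nat_lit 7168) (Steps.bwd (nat_lit 4) (Steps.fwd (nat_lit 7168) (Steps.fwd (nat_lit 8192) (Steps.bwd (nat_lit 10) Steps.nil))))))) (nat_lit 58) (nat_lit 5),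
  Rule.mk (nat_lit 6) (nat_lit 54) (Steps.fwd (nat_lit 2048) (Steps.fwd (nat_lit 8192) (Steps.fwd (nat_lit 6144) (Steps.bwd (nat_lit 9) Steps.nil)))) (nat_lit 47) (nat_lit 0),
  Rule.mk (nat_lit 1) (nat_lit 153) (Steps.bwd (nat_lit 6) (Steps.fwd (nat_lit 1024) (Steps.bwd (nat_lit 6) (Steps.bwd (nat_lit 5) (Steps.fwd (nat_lit 3072) (Steps.fwd (nat_lit 1024) (Steps.bwd (nat_lit 6) (Steps.bwd (nat_lit 1) (Steps.fwd (nat_lit 3072) (Steps.bwd (nat_lit 1) (Steps.bwd (nat_lit 6) (Steps.bwd (nat_lit 1) (Steps.bwd (nat_lit 2) Steps.nil))))))))))))) (nat_lit 34) (nat_lit 10),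
  Rule.mk (nat_lit 5) (nat_lit 153) (Steps.bwd (nat_lit 6) (Steps.fwd (nat_lit 1024) (Steps.bwd (nat_lit 6) (Steps.fwd (nat_lit 1024) (Steps.bwd (nat_lit 3) (Steps.bwd (nat_lit 1) (Steps.fwd (nat_lit 6144) (Steps.bwd (nat_lit 1) (Steps.bwd (nat_lit 3) (Steps.fwd (nat_lit 1024) (Steps.bwd (nat_lit 6) (Steps.bwd (nat_lit 1) (Steps.bwd (nat_lit 3) Steps.nil))))))))))))) (nat_lit 35) (nat_lit 1),
  Rule.mk (nat_lit 7) (nat_lit 54) (Steps.fwd (nat_lit 6144) (Steps.fwd (nat_lit 5120) (Steps.fwd (nat_lit 6144) (Steps.bwd (nat_lit 5) Steps.nil)))) (nat_lit 24) (nat_lit 0),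
  Rule.mk (nat_lit 3) (nat_lit 43) (Steps.bwd (nat_lit 10) (Steps.fwd (nat_lit 3072) (Steps.fwd (nat_lit 10240) Steps.nil))) (nat_lit 56) (nat_lit 0),
  Rule.mk (nat_lit 5) (nat_lit 54) (Steps.fwd (nat_lit 7168) (Steps.fwd (nat_lit 9216) (Steps.bwd (nat_lit 5) (Steps.bwd (nat_lit 9) Steps.nil)))) (nat_lit 44) (nat_lit 4),
  Rule.mk (nat_lit 4) (nat_lit 87) (Steps.fwd (nat_lit 7168) (Steps.bwd (nat_lit 9) (Steps.bwd (nat_lit 10) (Steps.fwd (nat_lit 4096) (Steps.bwd (nat_lit 10) (Steps.bwd (nat_lit 8) (Steps.fwd (nat_lit 7168) Steps.nil))))))) (nat_lit 58) (nat_lit 1),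
  Rule.mk (nat_lit 6) (nat_lit 54) (Steps.fwd (nat_lit 2048) (Steps.bwd (nat_lit 9) (Steps.fwd (nat_lit 6144) (Steps.bwd (nat_lit 9) Steps.nil)))) (nat_lit 47) (nat_lit 0),
  Rule.mk (nat_lit 1) (nat_lit 153) (Steps.bwd (nat_lit 6) (Steps.fwd (nat_lit 1024) (Steps.bwd (nat_lit 6) (Steps.bwd (nat_lit 5) (Steps.fwd (nat_lit 3072) (Steps.bwd (nat_lit 1) (Steps.fwd (nat_lit 6144) (Steps.bwd (nat_lit 1) (Steps.fwd (nat_lit 3072) (Steps.fwd (nat_lit 1024) (Steps.fwd (nat_lit 6144) (Steps.fwd (nat_lit 1024) (Steps.bwd (nat_lit 2) Steps.nil))))))))))))) (nat_lit 34) (nat_lit 10)]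
noncomputable def R : List (List (Rule)) := [R_0, R_1, R_2, R_3, R_4, R_5, R_6, R_7, R_8]
def LW : List Word := [[], [0], [2], [3], [4], [6], [8], [10], [12], [13], [14], [0], [1], [2], [3], [4], [5], [6], [7], [8], [9], [10], [11]]
def par : Par := ⟨10, 5, 15, 25, 1023, 32767, 33554431⟩
theorem hpar : par.ok := by decide
theorem hR0_0 : lall (R) (fun l => lall l (ruleOK Rf21 LW par)) = true := by decide +kernel
theorem hR0 : lall (R) (fun l => lall l (ruleOK Rf21 LW par)) = true := hR0_0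
theorem hR : RulesOK Rf21 LW par R := rulesOK_of rfl hR0
def cols : List (ℕ × ℕ) := [(1024, 1), (2048, 3), (4096, 4), (5120, 5), (6144, 6), (7168, 7), (8192, 9), (10240, 10)]
theorem hcols : lall cols (colOK Rf21 LW par) = true := by decide +kernel
noncomputable def JS0 : List ℕ := [nat_lit 0x55401155064ab15b02e060ab8032aa0c154004550032a6010a980454c07953058a98142a60a952028548142a4558a882e54007950058a80122a00a94f02453c1429c048a7026000a901302c04ca9000048a894f29a0894c00a53010296014a581e008a501c5280314a030a48032920594900a5200d29003ca401851c0794702c0100e0040500128e04800010518a281001c0514528803800286008a180c5080000128402800284014a10085040114100ca00052800113f00a4fc01,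
  nat_lit 0xb58072d61816a00e5a80b000004b485e5a4148380525a42e2d25d8b405a59c131670b0b30272cc1596504e5942a2ca0acb2852590159640a0b30022c81396300458c102c65880e00a04cb104c5840a961040b381802c5842500c0600b160090028152be1195e02a578102c65742201205401001084018062b81015b01256c0200c5681f2b4008ad03c568ac81200c00959074ac0012b0010010185740f81a2be5601c2ae04cab82c020ac1570000d9560045581a,
  nat_lit 0x2018290860000380010801991074604380006081a980020c08330685fc4100265c2d1970021998c2fe010bf0806180e0062fa1f97c0045f0022f6008bd80200c0d17d0f80101a0041e8010340043c2f25e00017f0ecbc8002f05dc3a002014c19770c8bb0272ec1c802024050bb0700000280f2ea1b804018038ba06c024018042e81a97e0025cc032e4008b90045f401972054031722e21a1700045c0130006041f981000198372e4008b78645b80196e0a4b68032da1400300a0496c0085b41616d0085b031,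
  nat_lit 0x19c00867002000670190ae000ce8103582b19b00c668553666a4cc8686602119804ccd0100006645432e004cd0a6040d91a50022901d348000510046600a012342280010200044f00002c1689c028169a705266c00991134c8001320098210046401d31e00cc783c63cc70120800118e1301c00231a2598c0046300203a0640218d31e03cc60946840818b054c501031409992052054c509264c0a1891200a00f3102398701e61c2b30c03cc30546340e802118c29960022280200a61444,
  nat_lit 0x9c0280636c2c00a0046d42009c008da0966cc019b30080002a03c060048d406c019b2154dc0033620a1b00066c01336201c051b01a40c0103626bc6836a018d70066b4039ad078d69ac07c2f00d35a6b0670126b0d58cc6a8019aa194d51ab0146a864042024d48c6184009a8114d380534e1485b00269c620b20000e8c20100180600a18c3005a180000050042f80536c148d18bc000050523442e8090d2144d08b805c050173402d8010080e05a3406b82000c342014cf8b26c40280633c2c01100667403,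
  nat_lit 0x200839a139f23a07307700a72c0e00026c000f27b4011ca1e0e51c9038008023921308f396720773927a8e40ec724481c81d4e41ef1687bce40e871c4e9c71cc0b80f390018e41c7004390a5010028e30b0198ed00838a020020087104c016710e18e2708031c2008011c107c011e10123585a07a070021c01c0e888300e6fc49092734031be1bc2f80537a241bc0046f02b00001cdf8be0141e861376370000140c0dd0ba0241882f3722e1c607e734dc0da0041d04e3903600007471c6b,
  nat_lit 0x3603a4403200877c7c00877cef05e0000980021cf180a3bc77468044008ee0960ac011db004000210460840010c02c021da214130043b24081700e7644b05c01cec108008eb8120001b80720c1a8013ac059d73ac7547e076000ea8020bc009d502c0a8010067548205c010ea102764ec1d4200f98083a6008023a4048000e41d0390001fc2c8013a2059d23a27407e3cc004e8002000f306d3cc0007d0b0004e78f873c009cf0b03c00239c3d80000a02c0500b00a0007a,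
  nat_lit 0x7e8fc9f6118400093ea408023ec7d42001e010fa0961cc021f3210001f207cf98070004c0003fc7cc030ac7f0120043e27c0970e6004f78f87bc009ef0b03b8043dc3d8003f8800192003f8000310027f0140be000fe12c004021eb2542c8203d4141f80247bc069ea250230183d23e1f10307a0933e47bcf385e008f48032480000500448812006004f2920004001e4120009f300c7908f0020100111c0000702323407036008000f11180080f9e222c0103600e450013ea02c89,
  nat_lit 0x1305a2ac1389a46000102154115032042a4008004080e80006a0dc1d03d084810a80640080020429c00a164082580005a80c8405c86d02203298010490f21250194a0150e202284002012810d2024024f8020861f421a0129002811400518003fe4e80f4007fc1900403c6e00f3fe510044067f8a10007f4a04027f8fe93e004048dc0127f49e0007f09d3fa000269fc270000020a24d80247e3f11f8021f4002150047e89a428008fc8968d0011f82100021108a8449908e0cd040013ee4a0cd0027d80b,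
  nat_lit 0x14380dd279840000200030401219038038382480e10c93c02805a1830116a2f42e5fa16066858be0060c50a97a0090a13a004180012f00102742610229056848bb0040187f0064245122300c844ba000840a0008091081720087c82b2e01884100e83cb7470015070063e00120d2d80020c02401031060884b50021945f968829058012cc17005006824b2416828012082c50704e0e215504160014162072bc0020840c5700000600491050004002052b400027050814ac,
  nat_lit 0x1c09a342851ea3f4665d24e0648c8d50028e80946c8c9188013380b0074606a22f00e8bc1a460009171a603c01a2d349170014583d8004581282584a4922649a899492129160033440309825026c0a01500e02891853096125159a098809a2f45467a2b00a8b9148b88a007a2c4500284d0208a00099c8a915a270b51300f44c0d005000894cd4508fc00820004960213300011d092659180908f01f23d11a4a446a3d07c0fc02a2232820258444884c91148ec01a203210f80100487cc70082308d88c43e5283b084878c60741010e98a0050e1408740121d4386203d46686cc3,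
  nat_lit 0x1480de164011239c492000069385350020027000048c6f8024902c522010a0858a4322c0085d4866e00248c908de00a90d211ba00000a4237000a754fc90808004161210401612083e908012412112ca400240104b0a21e041a6c1186d80109295cb60760f000a3e3691f23d0380180649c8f4da0020b418832068038059b20000980a13c080094766c0360128e8ba0b40251c9ae00c022383591d237280018941a62511b93c94934a362fc00a3527401a5146a402660a08d0bb,
  nat_lit 0x1202d2e0ca0052ea5b1e00525a08801a5a02400a9801e79000160050f115c04c008054b07826000a95cef01e0312d8c255a550a995455a308570af4ae772600f6958ed03e0852a9d80385625435800a532800800400694ceb15201529072004020783a8002524aa748010081e9280dc02858a9549e478024a6949279d0015271ce00c5a8e516a9389e0eaa35269cc0052613a9352707249834a8a4e692cdd0da001258ca0000424c0061ace500e92c000a92662a40024b498a2d3806c4947200214e294ab0009ac0214619d360690d82cc7011c1c0388990b8492920e3,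
  nat_lit 0x2710029c0ff00a9c9379fc9c4020004de7e8001fe000140009e41c8401da3f47d9f89e00126c3ed3a0024d63c26b4d40701e0049a8fb0180013481e01d368034d49a4fa03400134180320002683e4130014d06c2684ce5027300099cd802e001338ea0601ba6709c020094cc5ca7b4f0994f84ec990220302353218000d48a6339801a774c47b8090089881d4e2009309ba0cc002600080080305e7b0000060b0f5008080110d454ca792f1e801002a624bc7982c01c974b9,
  nat_lit 0x11964489f97b2f45ec9f9125983215305b43c022e8508870c95caa0d0d00000d42a1801d4228242c5400c50285283500500091d452c752802914dad34fe84aa91d29f9085883a53e9ee0bd4827c2f40227b274000bc52e260bb0a615d4e0050089e9070dc1c401279418018024f0160df4f09dd0555827d3ba08004022763854b0014ec11a774ec9d5030440013aa04a0c00a7500c8093c0fa00d3a91803000a741cc0087e002558050029ccbe0ec9cd392020054d272055388824e20a0010081c900,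
  nat_lit 0xaf96029d47d6a09e0100194e8e01d4342a15388f00d01ea6c4701803d4d23ac1c09a993480500f5305a00726863c9a2982880830352e6e2a0602a58ba5943354aa3800c97a9446c012932800180259422149a34058442924646408a5228c00125e28517522abc30a904588bab151e14805252004bd0080009d00000c941a32508aa8d0a218c7f2e7214504852e71fc1755528c450040510a8a2d1300433153a8b1b977ab30a0a285d516474cb91d514890c95c847544842a3576a8844567aea50e85287230a191050ca14e7,
  nat_lit 0x1004260adc999352925e4a49352662100f01b048ad92f0062540fab54b84389403cad0b257a0795987c01982ab337849b165648588c25cac51b0faac0a000c0204cade56096899126abd2c1082195725624956a54020032ad4a449afd558940070feaad2700a2295524c000790e84956b8890fa02154a4802954aa83543d00454e8588d008a98c50f2001529c20004407a244a492200aa91230f01b4032a30fc3900454401875544a84b6000018028b40200394364c68cd29a364c50c0a2a40eaa8122600b0434ac453e90abf0c8a7920,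
  nat_lit 0x1702d0345a26400f6500cd681620a019acf0f80004c1d82604c02e025672880a02d00959aa185b010b31420120056588a57000aca0a4049590005e80101056cf295b504000040147c8042342881702b68882da202b05c28c0f2c750163ac802eb193f0180640b2c54f8292f7036b113d00212d6c05c00c9e31958eb1161a7611402ac24e8a50005829c8080009500000aba44b09214427c5082c58402d600004e0022e812a2445089e1402784e2c701002d5fa6e0a96000a57c9b2cb0140255ea6ab9c06abc22c048085789488911eaec1406cb1d5d2684fd712b94cc010095c023d902640055c935128af931,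
  nat_lit 0x174ae803800324088114610c514ca932315ab9c27004c4d731722bd89ae55442aae75caa8002006b914f002c3d880ab1d0a700014cbd4cc618c2c4c09f1604c19c12c3b4761121575c4a68001da52570992000790e814c010040540b0292f05c0a60435dcb7d4b00c3019eadf3099213a5bc7d97e678b74f8626b702200a131872dc52984b0d5b69d0035d2b6878176b640e006b6d72ad9524530aa084b61485c8b5c096a812d6b9fc0116b01240403800438000080580bc9532f2584b83005e06ab540028e01c1582e252cb89592d256c245f30c06eb51463065701a2d333d6c01e066b4945,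
  nat_lit 0x40692020fc1f0806047a301258c04141824a58024e2ec932ff04cce84f622bfc251c81742e2fe19c0385b5faac8db0c0bf0b900a1617d8ee16d7d0446f4368645f4348110c2be44b5f418d7c176c0830af707828af607c0398b104bd9496001cd7a9badf0402f45617f0735e6ab8305e404b3c0b8bc9565f4c19789bacdc2daf00042daef07cc98e01bebbd5500c2d97704c33c682ed19979b275d8aa0cd196bad51650ba80e0002444408c1dca9b2b008ba478,
  nat_lit 0x1daca58cace0101fb18404203174a800b871d0b300002ec75657085f9c080162ab231762ac51050040018a14200c779151bec5563002098032c4000271775841300400600588ac037188b1057c00033620160006220d489002dd8b81cc44e83d071916380e5a3b4861eaf001008c3c476ea45987056014da81e3c99c00001480801000304612203cc3686e0c8c2c00aba021c3866614a48010a6c244c3521918403c15183812c303d353000ae0006dcd48806da4102484712630982ab600802b04568630c2606060cc662c082f,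
  nat_lit 0x69d9903e0000200c2f403b73662b805c214cc1586d8dc19780206997012000370b21602c9a48045bc3685d65a13b400b4cb06500ad05958ee16d950440042e06c1100005a706b733e30ce45942260100295264e0405b704545930820c47a90a278c996d71ee41bfb255b01c8416486e0046fac8d6b0045109f95601c0400c66ac896a130cd990a1c5142a3202f42a31f4a8768e9050000690000b812aca2244510921045424b1d5a422046638b4003008c6c1600e3a87d0456364f11b084c68c0,
  nat_lit 0x75b4f698b380500cd2ca339801da5204021a4a54010f32603ccd24a2796f45a4214008f1b4746c00b46280009c568c233cd394d15722e25b9bb3455c4030e1688139e11c4d0d541c0d082273ee6c78b424ec318961e4d054a0103c5a0046811ba33f40c7233e038061e3720cf8401e83cd9eaacd2c5233c1c43d1406767f1f4718ce8020f04f19c9084f19c03e100209ab6704d009046cdc206942dd9b0e21dc98b353f82f13c668ac03c34ecccb6,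
  nat_lit 0xf00094d5f01e000768bd8000060c17a0000142e096015f19836c01c0072acf15af8820b83735e5e9b9859002bc8656e2000cd002744738ea0aa283af298009adaf0d8001b5a131ae35a6b25b0003eaeb8533ea9951c0046b0bb802000d5d506b0159abaacf59eab561c5acbd36aa008007386b057002001b33545d80012709c40126250f05e2bdb004d4d753885e80235329c06178006d486f3a8001a89520000100f168039f2388d40ff2ea6f9a790000c0400a11c0010401cba38701ad3573,
  nat_lit 0x5580b0036fac4018004df1426fadf1bdb0ef1ca814c78a0ec0137b6180b0076f42a88500ede58570c11000212000230ae15a3306305009c030059796f00018408a2b4560cb18a13c2684f0941584a9756eec1bba3005d9bb30492def1776ea2e92f32e5d9ba0b801c031716e6640c81925c1b918e00844002494008891b898000720395811062c8579576dec00780f2db9290fe50db68a60180136c05c3f9636d6bfbf22c6da92678605406b6a5f801b6b6d25080e014da0d72a6021b3a080e805366440011e381cd980800007410ba93a0080066ca0680b008d917d,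
  nat_lit 0x1774223581772c009c8b2e20823391720cb3a2720e3d590080082238f6540087f022e4d940002682730e2686f00471ac984873e011c600801400b8b00d0900800a2f5c5b240105d38a2bc1a0be712c2a14178e21340022d80811a01020c1870ec88b3830e19872ca621c2b2058cdab8430d04206706c780072c0f48908413829a3555c801ff9bf1aaed400384704c739e0d6001c131a000c19b53767d0fb1f473c1c43506c2d01b18c2fc009c0006001e992c570bd8006fec597924633000b7f2506602417e009bfb1432c0037e481ec0026fcc4980004df510,
  nat_lit 0x22d008ead1b756ea8a000e085d83aa67c073ac7526b89e03aea10a452069d39c2000c217d21cf33af74cacc02052e955480609dd2272091d184400c1b82645c00006312f4d9e00c155d08a22042bba05e41a3b273e698010626b8e1000eaca005afe80739d675fb98101ae719777e035cd846e75cd01c0000239b67005857766ec9ccb360105585c730cd3c10b6e5c5101a02dcb05800d21aba42e011990049042b15e004f89814d00023e0a8c2c3642884427003726e4998,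
  nat_lit 0x2b05d4ba5832bb4bf19474bfc000014183db6a0018141d64680079a0d1650607263c9c8784d3838858f04d400c005e00580b6173bf2d0008ec16e1ea16aee0002d0083e4240494a89fd7b27f4a8124239ad0da019deb4c1686f003778a28e27e6ef1ddb4a025f93bb774d2004010fc5dd346fc4e2bb9260409c3770d106984eedc8100410c4309212a24cff9fe0f01e9f53eb0a6d0806772029db32e114d0bb55500a81376832c157660706209af1dd98ce011e2bb22e40e019762328097600700000cee0ea00a0941ebaf6801883407aeb85c0000c1d800a3a1df00475a6b8a8008eb0c5,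
  nat_lit 0x377e62a517a30520a494800e00c0222a3df6cdf98651fcf78373a7008503dd4f4243eb13ef703a1ae275ed8c400402a2a8a8791b200001cbd19800d140a21490520a87d0520b03085f1ecf65b11e11287ebd817a239d61f4f5c0822c4607cbd601c01172446a5801242395660005c8742ca47c8b8610b8f98013d36c0548067a40a06b004f4527002fa4299b82bdfd0ab15027c0e01d108758798eb0a8f41af00c00d4bb104c4899108e01c23a47505379ed70557c0f3876434149e68e6178293cc47c0047f52455a88610af0033cb6b42d81a02e009e5358f8401bc947e18067000508017c0f85ab0000cc17b5413c2604e78cd4ab44c4f143e,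
  nat_lit 0x30ea20c4a0380720fd783275df2492d3f86f819030924fddbd812009fb98083802bf638000bf52742d871000600007f00642886f6f00947041692124aa9556aa41381f042fd1f9b760e1febf37e4d4bfe006fc43e0e21ca333f1512179177e0dd0047f2fbd427f20e5f70b42d2333ed63cf686d068005b90021744bc0e080bb8000b60d0880b0201f537105861be96dc0181c03e1314a8c21d9f432e8de480767cea500100ef98f87f8f94220047763087e6d8009dc13827db50001f9ff36913c02be242c858057c28513600af8110002f7ce7,
  nat_lit 0x852c22842119c80020440948a0cee380088e2c92501e0405e00601507c272c95963f87b8ee820e308729910e0780f0b8720eb81c640a01423aa0698f0c40b8002e40087a022e28008400d88a16e8d8a4009814cc81d815025292e80160402808801c074d04b80480c0984898ca1544214416001c400007906c7e70c0f84f02d011c289605601891074094024741381280215001838190c0000221601e220e0a80200effd2101c081ff3828304f3fd7000080500edf90e121009fe33e0100bbfb37011c007f4b5c8d02efe50a02efe0e7,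
  nat_lit 0x80701ee880000804cb400e04a1595e13047c2a4cc0080d1163c9221572a053d484cd5330d01dba0000038053e4058898b611e1439f1d021c275cc0404184ce74aa865095cd00e10a121c109a3880003c000092b6270082bd14c721ac35b089cc04eab21082a0995642005115cc883e9a101991079330001f1cb84107c0241d729212240090702418600e0da7506e0d01c0051044b5e803096199065c992610821c183cc1f04282eacc4a1da02a0b84823402c160989380882a118f70090500f00904c22,
  nat_lit 0x969321d62d4ec04e09b1182002711409000020560ab25ceb807157188520ed1dcbe59239b734e8995c447584a09aa2b10dd594ac668a44223e89b248821f46e1ca256208de3d04a440069a109487e164631230f91d1ee23e1e8320040d81c61400076062ea25a0a614004c3b6b44c0e11c50ee1d37803c01c393e628803870e08080070dc7392c00e1b23e03623c363004112086ab38069d90d0a3368b8e19a5611d71c324040089c0cb1165d4b901c02422c3e540a89503a6000504604c04e8b908e10e182241041f42f4442142e39c010099660c9d2,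
  nat_lit 0xa38e30bbc068c34604742d1808be82a703b71787b005284a2d0a5e000ca0284760001f92190b28e0122dbba01c0145a02c970038b24980001220c10019504028ea19c0c0172cf5a6d91ce365a4657a2c3b84c4981608aeedc954b057e2b3b42818f95b8aa1d15229b1508b0102f03f87b0f24fe2a09a3a09fc5361426c618a49a03607f145680f02ea283a8024538d68a0614d4116232278ce19445c4e5662c99089aaa0b4898070001fc0e81782704a0187a1fa0562584f2600bc4a4ea2a810892ec8038991207702511c22,
  nat_lit 0x81654447c272a1d3150f1edea5e0a0940c7a7a4592878f21f0000b02d0200a2148d4c786468128b99f1dde826a6963b3751dc1bc755084899c8e82d0f433d1cde70031d01b04c208000082a4b80044b697a3894d1e8becc18e0ed04a5d33c637bcc0081a0c769f556aa03979400818036f227f9860b636bc60c63a46c744100258d62d00000d1a829290c91928003cc0089790ab30002bb2c56512a248498d391e00e33bc43ad34278011199e13c519a3295e074024644993b2cb3b876e323c127c720e58c6290cb993189df,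
  nat_lit 0x4b863aa264bbdc79cf34973000408992cb984f107255673af3e64a1472d0614937367ac924a81480401537e49248418c3c91370250c09207633431123ce110b238a00500340583b91c9252b9e20de469d00ee4a48c3702e039916f6cbb06b2291c05e0ba44a080d2441ce0024682261c148e796121d979704d49bc8619c5a1d090a134a626b2106691a76241bb3260e8482040b254b9023c4cc900114c7964438970007b0000b6258928b89301c036039052095771ad8fe01d4447e7ac6928e5191f438,
  nat_lit 0xdb30ce4cb316cdd1b8964458011422928c9d13e402cb143a6a806960840ff0112bcbe2660225717a0025693a0045f0c1292475f40013c67924a5ae9050d3d47b96fae7a9a3bc6e4cf0352adf399e37c0d4aa6085101e02b2a5da1282580bca84b84d09502d29c06010006531160f01b8380cd2d4080007c8000d102648ad71e43d07e37eafd610824d19a55cc1cca47c4cc012010016519e07e8fe57106f289f00dc0e2509de0541b4a07168983393eaf88306d2791f0633f80099a004031f42e0000083b24180931e63589a2a45853ca68810652894549b7be72d8da45269139da670d0c990de524ed34126007,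
  nat_lit 0x77cf04ce1c5e252c99ab800c1c02ae744cd5a8060b1998fe81516332dce9ce2c6653f94c458cc940a728b1990704e398e4e8031f01f26c80d4f0004e3a1e488b31cf31a62a7646c0c007988fd81600d30d3a1600066120640c014c10400000830941c583f4010e951c7730c9c234868680901a0b387301f91f8bace1cbf2703f4ed3832f9a401b498e04bd23cb997097845d182300265e0c81d8044bb18d9c0089742291c00b2e5f823e0025c1860040592a2ab401f700001866970010d701597330554d427bd0a5d91ce3992d9f69b55d5c84b57d41fcbd5952d13f,
  nat_lit 0x24043cea7f1164fc9d2e691c10d3a0e00f939c9d0d22244328703539c014022f2740109ccff30b5c4066728080100a4e4081830169c625dce02f388bb01002e70ab001c05ce02da714df024004f31242d08905409e6f2aabe9df53f9bacb00200737026b5d4f66d8ccf48fb4da2e4024d9038f90070028880b0007380000e02c0b8fd3523cc7a9541733d26b8008000300a02e3ae7e1da1562b0583a24ea3026b3fe07405cd79aafab5f4e22fa6a191390380bd9a61d04417b3483e0049c8d79a93c8380000121c46b00a05cf44d07f9af3623cb33cb7,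
  nat_lit 0xa059d5067f04490ea0a95ba5673410bdb5740c9d01403585afe5f940c01c11761f85d1a04aab9cb9ee9e808496257cd000467fba59fe9d0087413f8b9874e867e820019cfcfc1e1d04fb08801b9672aeea0276d7300100081e7ca624ce98a7cbd90e1404f881958a819ee49afdae73d87e2f05d0bc8740028d0f90ec001180009ac004f481535b2f3ed54281870a9908e3ec23a981c279c0802c4313d50f6d1bab7b76971ddd54b0df3ca0309354280cf1324cf0b70df3c1db1d22e0374ef516df86e9dc1f0019eec36c5c05484434ed4381e0889d88450d10b3adce,
  nat_lit 0x2890ec000fe80001a4a0738e87e8061272424504a090ad910e4ec9cc4b03687c1417a8a83aa1c370be7cb7fe86b7a11023dfea18038260430228580d59e0ac07a140291e4234257a0014510c00582428901a108404e26141dce]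
theorem S0_c : blocks (facts 10 5 15 25 1023 32767 33554431 11 2047 10 1023 A R 32) 32 JS0 575 = true := by decide +kernel
theorem S0 : On (Step.{u} Rf21 LW par A) 575 1887 :=
  steps_of_blocks hpar hR S0_c (by decide +kernel)
theorem D0_c : allB (defOK 10 15 25 1023 33554431 570 A K) 3 2 = true := by decide +kernel
theorem D0 : On (fun r => defOK par.W par.WL par.E par.mW par.mE 570 A K r = true) 256 640 :=
  On.of_allB D0_c
noncomputable def JW0 : List ℕ := [nat_lit 0x9f4ca68dd98d9ab9389f7c649ea9ee9e39e89e19299ed8cf9f9ca4cad9e99fe925a008c98d38cb8d68308378d4061c6798a98598e98c953c849919928de8e48dc8da8e08d88e3893c989bc9549a9c9dc7c9d19d2a039d996d94991bcb1a087eccb9a219b78ed980caaa22a249d5caea0aa0ca0ecb3a10839a1acb7c9a99a973a18a1ca1e9f59fda12a14a0fcb5a16c66cbba2798f8dbc9ccb0a28a2acb8a32a34cbda36cb2a30a2ca1ba2ea38cbca3acb4a3da3ecbacbea40a42a44a46a48a4a,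
  nat_lit 0x9daca191393d9449439dc84396ac8296c94e93fc8596e8b993bc7a946948945c7d94a857908c7591c91191a8d991e8a17a8c027f0c057f27ee7757ed9b49719b6c6cc97c949b99ba8e8c68c6b8ec8ee8e78f088397f98897ac8998197c9869829f8ca89afc888fbcab9fa8c39d4c9f937c7896792d9d67e79dbca39e29de9e092c9e483fa029e7cac9dfa0492ba077ad7e07af834831836832bfa8389c69c8c9bc9099d9ca9cc9ce8e98eb99e99bc8f9759a188d95b951c87901972974976978,
  nat_lit 0x9028f58fd9009048ff9078a793a93191d93c93e9399418539eb9f28fcc8cc8e8fe9f1c6292e934936c79c769289328498f2c72922920c779249278658d28d18915558a9805563c658ccc6183d7c083a4667bf8ce8c1c5f7b1c288c66c87a58c804ea5105004a04c048054056a5306405e05b05c04905305797ec8ac86c8d99c995996998909c6e90a90c8e1c7190e89d88ec44890549c47c12531892c999c497b9b1c969be9c09c295a95995590d952c7f95c95695f9a390b9a89aa9429ad8ab,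
  nat_lit 0x6227657f6c047f8c0759b7f4c4a867851c0a7f3c06be68a07807826554e877d768beb76a76c76eb82596772769be576bc4388487fc3c88187b5fb88296bc929ae9b08efc959b28bd8f38f8c6ac6d8fa8e68f68978c0c5dc5a8768958be6658c2964c8092394c96692a9698b57e17e87e24e37e43c07df7e6c2dc2a83c79f83b3bfc2683e7a97ab7b0bf37b26b97a67ac7d47867d204b04d7cf7d67c77c87c57cc05a05d7ce7d07c69659a699fc919059949a48b1c4287c88873a88a8865d488c,
  nat_lit 0x5b70597b6bf27b8aa0bf57b464379abecbef79cb46798796a5256652455e49f5215605645c60637bc789bf71557bb7b56607a0bf179e7a26be795797541b4954c54854a3e153b550c4b89e89b571c462154af89c808c10c0e211aeec136f57f541c41f424426428b0342c42252e53252552c4ab52a42b42385a8ac89abda8a833f4a38aa95e96294794f915c7e961861c3284dc3532ec2e854493856903918912910914c709178a3c2c7ea840b58c2f331829842c59c567f180084e8b665f8b8,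
  nat_lit 0xc558b2889bd2c508aeb8c8b06d1bbc73d73b725740b74bd15e1b6b5e45e25c35d35e65d95d75dc5deb69b665d25da5d8c4ec488a4bc4c5174b8198a6c33c308507fd84f8030ab85284484a7e3a4c84645d0a5848c39868862078847bb8b908644e555c54d554556aec55855150fb10c0faca3db804514c0c8cd8c58a563188b7415d1c6376dbf9bf07c17c2ba078f793461b133b83bc468467263b0e825bfc7b7c297b92ac82e82b6caba56b76c62b36c95456cc04f5b44255ad41b5175b2565,
  nat_lit 0x5e04205eeb6d5f05f25e85ec5d6b425f45f65f8b6f5ea5edc58c52c5bc408808ba66a8bc75e62787587787387863dc3fc3889887e86f894879bc8896642b62b7fb7064464664a64c661b4c66263bb8564764964d4e44e60354e20834c2b2f4e0c5485f863b067e56b168d8b43afae73c63c23c43c13833b6ae53b13b93bd3bb3be2af3b72032a06b66b42616b8a4eb9c7d57da08db2c6a5381bff7d878178abed78878c0457907927c9c010a376768b38b7dd7d9c247cb7bdbeebf607782c82a,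
  nat_lit 0x569be31b776618557c4d875b75fbe132b76247910358e761457b187f78017ff802198c0daba46fc097fc7f97fba983e7c4fc4c841341c3620fc1e8a22e8329c08c0b7fe7fa23d3d5824785c2076348b0f1c23822650652654a700c1656b8164e4ec31a1364e90cd4ee4f04ea59f69f0bfab277c59977e777c2577181d31fb1e47382782365a65cb83a7e0b565765964fb5b595196597231598b30b564a96930b32347734ef77a7766d9c16c3ac3d87286c70d86a80780b874c4187187a71dc3e,
  nat_lit 0x6cb7065af4276fd52654f70359eb5d41959c4294375a04b16f06ed51942f6afb026f26d3b4553e53452d53752953c4bf4a84b24a14a64aa44d4ac4b074d6e9b40b0a6ad52b750589753715575bdb54b3ff7545793361ffa94acb33c33e339ac840c416418b0141aafe414410497b234a049c49e39d40e4110b8a5e48347148a48cb1d4880a90b14900edb1f48d48f4895914db3fbb5920d3f932159229fa9020b32f3343300f5ac985b85dc34a92c37858499860623b4e628b6462a62cb79624,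
  nat_lit 0x5b65be5c0b655c25c45bc5ba25a25925c25e260aa115725656856e53555f4b930956a56c14335db4139830752052251f5c75c85cc5cab675ce5b85bb15014506aa54043154a7514eb445086bb6c03ba6bf6c24c95404f404154206db475464e14f7553614b686165c561861230c60a60cb6c60560eb73603572b515745705574434bd578809bdcc1567762b74374662575775c38f1c82ed6976f675a806bde3d14554633b5bb47601a015fa952102122142182093963de3d73ddaef3e03e23e6,
  nat_lit 0x4edb4a61a5cb61cb7762061331d601606b716046085fd60216ca7916e16816a16717217417aaea3d63d83daaed2ff3d4b5ab6063263063462f61f6364601773e8aa8462a8a26746416d2d42d8ab6ab92daa9e2dc50e2d7b361043b344fb394591b346d6ba6bc469ba1b9e27d45eb0c3c745b27745c165b0f6d66cf11d4f325321f30a6d46d0ba7b3c6c42a55824f96d22ab2b025d25f2b22ad069aaf6fabb66b345a3f1bb96f96cd4d65b05ae5ac5a52fd55b5a951126d51840b2fb516513b3b,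
  nat_lit 0x6d770e7095f764170b611bbf6786715e567667a67cb8b67450b539c145e380c5cf73f80e68266f5df68168467d67f67558b5ab633bc572462e7216376f170573cbd363574a748bd0814bca5c1c1867b745c1b812c1d72d5cdbce6857428178130b9a580be0bc0c00bb0c20af0a80a70b2a5d0b40b60ad0ae028032034a4d03603803002c08e09808c08a0900880920960a0a5b0a209c09e09b09509707a07e08007908208408606f69b69cb9318d0916a06a268f690694689a7a09f69669868e,
  nat_lit 0x347ae13a83a639b3a13a334d4b74ca27b3ee3c54c34c44c8ae43ab28b3c8ae910d3743ac346348acd3432e234a11034c3ae344ae31e33b23b42cc3ad20220420108ba801f402a1fd22b2412440d711ba9d0e024329e23eaad2a22a4aaa0dd2a81f7b9a6b23c32736b06abb9d4d74de200b2da7c4cc4dc4d367947fb921a56a46a6b956862cb37716137b37e380ad919502903e04003a04204404602d68349b68843a68a38cb8f6872c53731cc38438838aadb2b406607406ba5506c07607206e,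
  nat_lit 0x22a22c22ea5c230232a60a9658a58c12f3ed229b32587b57c1c77981ca6849547481e81a23a23722f23519f0cfa9b2386d8ba2acc6c5ab834eba8bab7567584b549d5363a06ff56d6eb71a63fb86bc35f3719bbe6e3712607b88716b6ebc17106db811c3b86e87086d72986b651413b7eb895f166767266d69a5a35ef73064563873272b65b4a5663b875f966666866c590b7a63e63a6406395feb7d691b245f5727b8460972e72a31c31910131e1ddac531730f43113b081b0703726e43814f,
  nat_lit 0x1b21af1b609d1aca831b81b4af618f3fa3403353f80f6af915d1a720aa9320c20e1d42082e9abd16f2ea2ec1872ee17d17b182178a7b18418618017c32317f32a32432cac4326ac70d202f0ee0eca670f00f20e340d48048247748447b48647d13513e137a711400b713c1380c60c80ca0bd0cc0ce0d00c44f63111494f20d9b334fa4eb815be8c213254851df82081b2b90fd0cbab31412332c22c0b141b0b1747032d4723333eb496b21491a8849447ab1a47c12119c197a7f19e0ba133a6e,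
  nat_lit 0x3373f52f94016ae527b982a922222422621b22821e220a971f6a8f1f81eb1631f51c31fc11237d3fc3dc33d3feafbaf86fbbbb5a7b006fc4057007024061bd40840aafcaff39f36239727fadf39939a39c33a2e56de4d53fd3d9213442baf5934ffb26629c1980db7671e80f58557b61bbcf61762d737738573b53a842eb38957d4c757e0f907d100a69a661020fe0fa456449453454ae844e127458b0943e17943b1ad1661ab17545f43db16476478475206465abb2de2d92a32e32e12472e4,
  nat_lit 0x3222f13d03ce3d23cd3cbac61a119b1911a4a811a81a315912012a12e124130123128a6f15c12d16015a162089a77158279add38e38516b38d3921b52843953e93c93d30ebaf13ea4cfb5f5a659d5a44415775a86ea6ee3f71252692c76e56d54301d340942e434436b053614b64c04b44a74b84444ba4be6e2bb3297b3ead02d36e6bb0b0844aadeb0b44744c2172dd40736b3053a76ac5283e5353584b5551c299357583b34588752bd66a915b2bd6a1bd957f74c74e61568061d744bd5739,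
  nat_lit 0x1882f72f82f52fa2fcabf2cf25baa326a21a26825526524d24b2502452492522541e724c51024fb3d3422d151aa72b3a24aaa527427027226f1f12571e1a8d1ee1ea1ec1a91711d107b292304ac130630830230013443351db3f36d51b45151e1511f335aacead12db35e3601e01530e71e21e4a8b1e81d7142146148a6c14a12214c13950a507b37ac246a50350c4fd30d31410bac31e528031230e6df723708726bc260fbc7b7c6e1bcd60d73171770a734711a871cb1cd1c91c109a1ce1d0,
  nat_lit 0xc703d0e6a650e80ea0e40e20d3a630da0d60d80d50de0c5107387402400afd4043a52952b82ba1ef2b62bc193ab12b5067ad535936536c34b3703012c41090db24814b2c62c82c118918a19018ca7d192a561941ba1bea851691c0a821c41c628528828aaa928c28121c28610607110a1050e910c10e0fbb152e7ae2a6446b3cc2a7287278aa727a2712760391fb27c2aa378227ad713111f36f23911311811ca6d11a11ea6a1142ca117aacab72d02d2ab42ce23b2f22753ef3f00852bfaae,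
  nat_lit 0x6e05814032f44354406ddbb1350ad335b36429b2e0368363af7af23f63ecaf40d428f115351354358acf35634f282352a861da0efa891dc1de1d81d66dab283a9ac0446445badbaa4fe5004523cf28d5025044fc0f829129629829aaab29c2942233f326bad6af5a9c3672421bbb976a837a1ed6a73911c74ceb2b1f92b737f4cd4d04d2]
theorem W0_c : blocks (rows 10 5 15 25 1023 32767 33554431 12 4095 96 A 1887 315 cols 16) 16 JW0 0 = true := by decide +kernel
theorem W0 : On (Row.{u} Rf21 LW par A 1887 315 cols) 0 320 :=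
  rows_of_blocks hpar (by decide) hcols W0_c (by decide +kernel)
theorem idx : Idx.{u} Rf21 [[0], [2], [4], [6], [8], [10], [12], [14]] [[0], [2], [4], [6], [8], [10]] 315 :=
  idx_of_cert hpar hR (K := K) (by decide +kernel) (T := 570) (T' := 640) (by decide) D0
    (subs := [1,2,4,5,6,7]) (by decide +kernel) (T1 := 575) (by decide) (N := 1887) S0
    (by decide) (n' := 320) (by decide) W0 (by decide +kernel) (by decide +kernel)
end f21
namespace f22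
noncomputable def A_0 : List (ℕ) := [nat_lit 0x10000000040050000400280000600000604380c0c80301480603000e05201c0e00401480803a01007501c0c80380540501a40800400804701008a02009c0201280400700000c000014000020000020000020004280c0738140c50181520302280403500004600805000]
noncomputable def A : List (List (ℕ)) := [A_0]
noncomputable def K_0 : List (ℕ) := [nat_lit 0x107834160903814060000]
noncomputable def K : List (List (ℕ)) := [K_0]
noncomputable def R_0 : List (Rule) := [Rule.mk (nat_lit 5) (nat_lit 32) (Steps.bwd (nat_lit 8) (Steps.fwd (nat_lit 3584) (Steps.fwd (nat_lit 4096) Steps.nil))) (nat_lit 42) (nat_lit 0),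
  Rule.mk (nat_lit 7) (nat_lit 41) (Steps.bwd (nat_lit 8) (Steps.fwd (nat_lit 2560) (Steps.fwd (nat_lit 4096) (Steps.fwd (nat_lit 2560) Steps.nil)))) (nat_lit 44) (nat_lit 0),
  Rule.mk (nat_lit 5) (nat_lit 41) (Steps.bwd (nat_lit 6) (Steps.fwd (nat_lit 2560) (Steps.fwd (nat_lit 3584) (Steps.fwd (nat_lit 3072) Steps.nil)))) (nat_lit 24) (nat_lit 2),
  Rule.mk (nat_lit 7) (nat_lit 41) (Steps.bwd (nat_lit 6) (Steps.fwd (nat_lit 2560) (Steps.fwd (nat_lit 3072) (Steps.fwd (nat_lit 2560) Steps.nil)))) (nat_lit 24) (nat_lit 0),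
  Rule.mk (nat_lit 8) (nat_lit 41) (Steps.bwd (nat_lit 6) (Steps.bwd (nat_lit 8) (Steps.bwd (nat_lit 2) (Steps.fwd (nat_lit 3072) Steps.nil)))) (nat_lit 46) (nat_lit 2),
  Rule.mk (nat_lit 9) (nat_lit 32) (Steps.bwd (nat_lit 10) (Steps.fwd (nat_lit 4096) (Steps.fwd (nat_lit 5120) Steps.nil))) (nat_lit 51) (nat_lit 1),
  Rule.mk (nat_lit 10) (nat_lit 32) (Steps.bwd (nat_lit 9) (Steps.bwd (nat_lit 10) (Steps.fwd (nat_lit 4096) Steps.nil))) (nat_lit 51) (nat_lit 0),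
  Rule.mk (nat_lit 8) (nat_lit 32) (Steps.bwd (nat_lit 7) (Steps.bwd (nat_lit 9) (Steps.fwd (nat_lit 2560) Steps.nil))) (nat_lit 42) (nat_lit 1),
  Rule.mk (nat_lit 10) (nat_lit 50) (Steps.bwd (nat_lit 7) (Steps.fwd (nat_lit 5120) (Steps.fwd (nat_lit 3584) (Steps.bwd (nat_lit 10) (Steps.fwd (nat_lit 3584) Steps.nil))))) (nat_lit 52) (nat_lit 0),
  Rule.mk (nat_lit 8) (nat_lit 32) (Steps.bwd (nat_lit 10) (Steps.bwd (nat_lit 8) (Steps.fwd (nat_lit 5120) Steps.nil))) (nat_lit 50) (nat_lit 0),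
  Rule.mk (nat_lit 4) (nat_lit 95) (Steps.bwd (nat_lit 10) (Steps.bwd (nat_lit 8) (Steps.bwd (nat_lit 7) (Steps.fwd (nat_lit 5120) (Steps.bwd (nat_lit 8) (Steps.fwd (nat_lit 3584) (Steps.fwd (nat_lit 2048) (Steps.fwd (nat_lit 3584) (Steps.fwd (nat_lit 4096) (Steps.bwd (nat_lit 10) Steps.nil)))))))))) (nat_lit 58) (nat_lit 5),
  Rule.mk (nat_lit 0) (nat_lit 104) (Steps.fwd (nat_lit 2048) (Steps.fwd (nat_lit 3584) (Steps.fwd (nat_lit 4096) (Steps.fwd (nat_lit 5120) (Steps.fwd (nat_lit 2048) (Steps.fwd (nat_lit 5120) (Steps.bwd (nat_lit 8) (Steps.fwd (nat_lit 3584) (Steps.fwd (nat_lit 5120) (Steps.fwd (nat_lit 4608) (Steps.fwd (nat_lit 3584) Steps.nil))))))))))) (nat_lit 58) (nat_lit 0),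
  Rule.mk (nat_lit 4) (nat_lit 23) (Steps.bwd (nat_lit 0) (Steps.fwd (nat_lit 2048) Steps.nil)) (nat_lit 60) (nat_lit 0),
  Rule.mk (nat_lit 0) (nat_lit 32) (Steps.bwd (nat_lit 8) (Steps.fwd (nat_lit 0) (Steps.fwd (nat_lit 4096) Steps.nil))) (nat_lit 60) (nat_lit 0),
  Rule.mk (nat_lit 8) (nat_lit 23) (Steps.bwd (nat_lit 0) (Steps.fwd (nat_lit 4096) Steps.nil)) (nat_lit 60) (nat_lit 0),
  Rule.mk (nat_lit 7) (nat_lit 41) (Steps.fwd (nat_lit 2560) (Steps.bwd (nat_lit 8) (Steps.bwd (nat_lit 5) (Steps.bwd (nat_lit 9) Steps.nil)))) (nat_lit 45) (nat_lit 1),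
  Rule.mk (nat_lit 0) (nat_lit 59) (Steps.fwd (nat_lit 3584) (Steps.bwd (nat_lit 10) (Steps.fwd (nat_lit 3584) (Steps.fwd (nat_lit 5120) (Steps.bwd (nat_lit 7) (Steps.bwd (nat_lit 10) Steps.nil)))))) (nat_lit 52) (nat_lit 0),
  Rule.mk (nat_lit 0) (nat_lit 32) (Steps.bwd (nat_lit 5) (Steps.fwd (nat_lit 0) (Steps.fwd (nat_lit 2560) Steps.nil))) (nat_lit 60) (nat_lit 0),
  Rule.mk (nat_lit 0) (nat_lit 32) (Steps.bwd (nat_lit 9) (Steps.fwd (nat_lit 0) (Steps.bwd (nat_lit 8) Steps.nil))) (nat_lit 60) (nat_lit 0),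
  Rule.mk (nat_lit 10) (nat_lit 23) (Steps.bwd (nat_lit 0) (Steps.bwd (nat_lit 10) Steps.nil)) (nat_lit 60) (nat_lit 0),
  Rule.mk (nat_lit 0) (nat_lit 41) (Steps.bwd (nat_lit 0) (Steps.bwd (nat_lit 4) (Steps.fwd (nat_lit 0) (Steps.fwd (nat_lit 2048) Steps.nil)))) (nat_lit 60) (nat_lit 0)]
noncomputable def R : List (List (Rule)) := [R_0]
def LW : List Word := [[], [0], [2], [3], [4], [6], [8], [10], [12], [13], [14], [0], [1], [2], [3], [4], [5], [6], [7], [8], [9], [10], [11]]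
def par : Par := ⟨9, 5, 14, 23, 511, 16383, 8388607⟩
theorem hpar : par.ok := by decide
theorem hR0_0 : lall (R) (fun l => lall l (ruleOK Rf22 LW par)) = true := by decide +kernel
theorem hR0 : lall (R) (fun l => lall l (ruleOK Rf22 LW par)) = true := hR0_0
theorem hR : RulesOK Rf22 LW par R := rulesOK_of rfl hR0
def cols : List (ℕ × ℕ) := [(512, 1), (1024, 3), (2048, 4), (2560, 5), (3072, 6), (3584, 7), (4096, 9), (5120, 10)]
theorem hcols : lall cols (colOK Rf22 LW par) = true := by decide +kernel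
noncomputable def JS0 : List ℕ := [nat_lit 0x11003c300203006a1f01501c010e4c28000d4838000d8343600882830000c400e01780400d0280406e00801a120a0581618020002203090018030b8281a0a0b80c2202082c000107a81e01030041e9078401c8098441e7080001e602820221028001e0207901c00008386000700c1c2068001a1]
theorem S0_c : blocks (facts 9 5 14 23 511 16383 8388607 9 511 5 31 A R 32) 32 JS0 269 = true := by decide +kernel
theorem S0 : On (Step.{u} Rf22 LW par A) 269 301 :=
  steps_of_blocks hpar hR S0_c (by decide +kernel)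
theorem D0_c : allB (defOK 9 14 23 511 8388607 264 A K) 1 2 = true := by decide +kernel
theorem D0 : On (fun r => defOK par.W par.WL par.E par.mW par.mE 264 A K r = true) 256 384 :=
  On.of_allB D0_c
noncomputable def JW0 : List ℕ := [nat_lit 0x581210042110461204a]
theorem W0_c : blocks (rows 9 5 14 23 511 16383 8388607 10 1023 80 A 301 1 cols 16) 16 JW0 0 = true := by decide +kernel
theorem W0 : On (Row.{u} Rf22 LW par A 301 1 cols) 0 16 :=
  rows_of_blocks hpar (by decide) hcols W0_c (by decide +kernel)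
theorem idx : Idx.{u} Rf22 [[0], [2], [4], [6], [8], [10], [12], [14]] [[0], [2], [4], [6], [8], [10]] 1 :=
  idx_of_cert hpar hR (K := K) (by decide +kernel) (T := 264) (T' := 384) (by decide) D0
    (subs := [1,2,4,5,6,7]) (by decide +kernel) (T1 := 269) (by decide) (N := 301) S0
    (by decide) (n' := 16) (by decide) W0 (by decide +kernel) (by decide +kernel)
end f22
namespace f23
noncomputable def A_0 : List (ℕ) := [nat_lit 0x90000140000000200000800a0100800501000801000c0670180c00602000e0000200000480400a0180160b082c1410502420904041007081c0850380c80b02a80a03080c08102001404009c0201280404600808a02011c0402100800801000e00001800002800004000004000004000b502814804824e0804280e0740180c701814e0402200603500404800805000]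
noncomputable def A : List (List (ℕ)) := [A_0]
noncomputable def K_0 : List (ℕ) := [nat_lit 0x854261107834160903814060000]
noncomputable def K : List (List (ℕ)) := [K_0]
noncomputable def R_0 : List (Rule) := [Rule.mk (nat_lit 8) (nat_lit 23) (Steps.bwd (nat_lit 8) (Steps.bwd (nat_lit 8) Steps.nil)) (nat_lit 36) (nat_lit 0),
  Rule.mk (nat_lit 2) (nat_lit 32) (Steps.fwd (nat_lit 4096) (Steps.fwd (nat_lit 1024) (Steps.bwd (nat_lit 8) Steps.nil))) (nat_lit 40) (nat_lit 2),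
  Rule.mk (nat_lit 7) (nat_lit 32) (Steps.fwd (nat_lit 4096) (Steps.fwd (nat_lit 2560) (Steps.bwd (nat_lit 8) Steps.nil))) (nat_lit 42) (nat_lit 2),
  Rule.mk (nat_lit 5) (nat_lit 41) (Steps.fwd (nat_lit 4096) (Steps.fwd (nat_lit 2560) (Steps.fwd (nat_lit 3584) (Steps.bwd (nat_lit 8) Steps.nil)))) (nat_lit 44) (nat_lit 2),
  Rule.mk (nat_lit 6) (nat_lit 41) (Steps.bwd (nat_lit 8) (Steps.fwd (nat_lit 3072) (Steps.bwd (nat_lit 8) (Steps.bwd (nat_lit 2) Steps.nil)))) (nat_lit 46) (nat_lit 1),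
  Rule.mk (nat_lit 5) (nat_lit 41) (Steps.fwd (nat_lit 3072) (Steps.fwd (nat_lit 2560) (Steps.fwd (nat_lit 3584) (Steps.bwd (nat_lit 6) Steps.nil)))) (nat_lit 24) (nat_lit 2),
  Rule.mk (nat_lit 7) (nat_lit 41) (Steps.fwd (nat_lit 2560) (Steps.fwd (nat_lit 3072) (Steps.fwd (nat_lit 2560) (Steps.bwd (nat_lit 6) Steps.nil)))) (nat_lit 25) (nat_lit 1),
  Rule.mk (nat_lit 10) (nat_lit 32) (Steps.bwd (nat_lit 8) (Steps.bwd (nat_lit 10) (Steps.bwd (nat_lit 8) Steps.nil))) (nat_lit 50) (nat_lit 1),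
  Rule.mk (nat_lit 1) (nat_lit 32) (Steps.fwd (nat_lit 5120) (Steps.fwd (nat_lit 512) (Steps.bwd (nat_lit 10) Steps.nil))) (nat_lit 54) (nat_lit 0),
  Rule.mk (nat_lit 1) (nat_lit 32) (Steps.fwd (nat_lit 4096) (Steps.fwd (nat_lit 512) (Steps.bwd (nat_lit 8) Steps.nil))) (nat_lit 38) (nat_lit 2),
  Rule.mk (nat_lit 10) (nat_lit 50) (Steps.bwd (nat_lit 7) (Steps.fwd (nat_lit 5120) (Steps.fwd (nat_lit 3584) (Steps.bwd (nat_lit 10) (Steps.fwd (nat_lit 3584) Steps.nil))))) (nat_lit 52) (nat_lit 0),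
  Rule.mk (nat_lit 4) (nat_lit 122) (Steps.bwd (nat_lit 10) (Steps.bwd (nat_lit 8) (Steps.bwd (nat_lit 7) (Steps.bwd (nat_lit 10) (Steps.bwd (nat_lit 8) (Steps.bwd (nat_lit 7) (Steps.bwd (nat_lit 10) (Steps.bwd (nat_lit 8) (Steps.fwd (nat_lit 3584) (Steps.fwd (nat_lit 2048) (Steps.fwd (nat_lit 3584) (Steps.fwd (nat_lit 4096) (Steps.fwd (nat_lit 5120) Steps.nil))))))))))))) (nat_lit 58) (nat_lit 5),
  Rule.mk (nat_lit 5) (nat_lit 32) (Steps.bwd (nat_lit 8) (Steps.bwd (nat_lit 7) (Steps.fwd (nat_lit 4096) Steps.nil))) (nat_lit 42) (nat_lit 0),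
  Rule.mk (nat_lit 1) (nat_lit 32) (Steps.fwd (nat_lit 2560) (Steps.fwd (nat_lit 512) (Steps.bwd (nat_lit 5) Steps.nil))) (nat_lit 18) (nat_lit 1),
  Rule.mk (nat_lit 1) (nat_lit 32) (Steps.bwd (nat_lit 10) (Steps.fwd (nat_lit 512) (Steps.fwd (nat_lit 5120) Steps.nil))) (nat_lit 54) (nat_lit 0),
  Rule.mk (nat_lit 1) (nat_lit 32) (Steps.bwd (nat_lit 7) (Steps.fwd (nat_lit 512) (Steps.fwd (nat_lit 3584) Steps.nil))) (nat_lit 26) (nat_lit 0),
  Rule.mk (nat_lit 1) (nat_lit 32) (Steps.bwd (nat_lit 8) (Steps.fwd (nat_lit 512) (Steps.fwd (nat_lit 4096) Steps.nil))) (nat_lit 38) (nat_lit 0),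
  Rule.mk (nat_lit 0) (nat_lit 59) (Steps.fwd (nat_lit 512) (Steps.fwd (nat_lit 2048) (Steps.fwd (nat_lit 512) (Steps.bwd (nat_lit 4) (Steps.fwd (nat_lit 512) (Steps.fwd (nat_lit 2048) Steps.nil)))))) (nat_lit 16) (nat_lit 0),
  Rule.mk (nat_lit 0) (nat_lit 32) (Steps.fwd (nat_lit 5120) (Steps.fwd (nat_lit 0) (Steps.bwd (nat_lit 10) Steps.nil))) (nat_lit 60) (nat_lit 0),
  Rule.mk (nat_lit 0) (nat_lit 32) (Steps.fwd (nat_lit 4096) (Steps.fwd (nat_lit 0) (Steps.bwd (nat_lit 8) Steps.nil))) (nat_lit 60) (nat_lit 0),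
  Rule.mk (nat_lit 0) (nat_lit 32) (Steps.fwd (nat_lit 3584) (Steps.fwd (nat_lit 0) (Steps.fwd (nat_lit 3584) Steps.nil))) (nat_lit 60) (nat_lit 0),
  Rule.mk (nat_lit 7) (nat_lit 23) (Steps.bwd (nat_lit 0) (Steps.bwd (nat_lit 7) Steps.nil)) (nat_lit 60) (nat_lit 0),
  Rule.mk (nat_lit 0) (nat_lit 59) (Steps.fwd (nat_lit 3584) (Steps.bwd (nat_lit 10) (Steps.fwd (nat_lit 3584) (Steps.fwd (nat_lit 5120) (Steps.fwd (nat_lit 3584) (Steps.bwd (nat_lit 10) Steps.nil)))))) (nat_lit 52) (nat_lit 0),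
  Rule.mk (nat_lit 0) (nat_lit 32) (Steps.bwd (nat_lit 8) (Steps.fwd (nat_lit 0) (Steps.fwd (nat_lit 4096) Steps.nil))) (nat_lit 60) (nat_lit 0),
  Rule.mk (nat_lit 0) (nat_lit 32) (Steps.bwd (nat_lit 7) (Steps.fwd (nat_lit 0) (Steps.fwd (nat_lit 3584) Steps.nil))) (nat_lit 60) (nat_lit 0),
  Rule.mk (nat_lit 10) (nat_lit 23) (Steps.bwd (nat_lit 0) (Steps.fwd (nat_lit 5120) Steps.nil)) (nat_lit 60) (nat_lit 0),
  Rule.mk (nat_lit 0) (nat_lit 41) (Steps.bwd (nat_lit 0) (Steps.fwd (nat_lit 5120) (Steps.fwd (nat_lit 0) (Steps.fwd (nat_lit 5120) Steps.nil)))) (nat_lit 60) (nat_lit 0),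
  Rule.mk (nat_lit 0) (nat_lit 32) (Steps.fwd (nat_lit 3072) (Steps.fwd (nat_lit 0) (Steps.fwd (nat_lit 3072) Steps.nil))) (nat_lit 60) (nat_lit 0),
  Rule.mk (nat_lit 9) (nat_lit 23) (Steps.bwd (nat_lit 0) (Steps.bwd (nat_lit 8) Steps.nil)) (nat_lit 60) (nat_lit 0)]
noncomputable def R : List (List (Rule)) := [R_0]
def LW : List Word := [[], [0], [2], [3], [4], [6], [8], [10], [12], [13], [14], [0], [1], [2], [3], [4], [5], [6], [7], [8], [9], [10], [11]]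
def par : Par := ⟨9, 5, 14, 23, 511, 16383, 8388607⟩
theorem hpar : par.ok := by decide
theorem hR0_0 : lall (R) (fun l => lall l (ruleOK Rf23 LW par)) = true := by decide +kernel
theorem hR0 : lall (R) (fun l => lall l (ruleOK Rf23 LW par)) = true := hR0_0
theorem hR : RulesOK Rf23 LW par R := rulesOK_of rfl hR0
def cols : List (ℕ × ℕ) := [(512, 1), (1024, 3), (2048, 4), (2560, 5), (3072, 6), (3584, 7), (4096, 9), (5120, 10)]
theorem hcols : lall cols (colOK Rf23 LW par) = true := by decide +kernel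
noncomputable def JS0 : List ℕ := [nat_lit 0x803a0f80033c000042401d85003a0c0004f9148004f8138004e1213802e230058480010d01c000fcc2a000ed448000dd042000ccc0c00030200c00905c0017785c0017885c0017805c00177800080070642e166864360b0702c36190b0542813090458160102804165858001650001a00485c2a1440040401001c000200800c02018142850100c0a022004080118000a0010401e1,
  nat_lit 0xc003d]
theorem S0_c : blocks (facts 9 5 14 23 511 16383 8388607 9 511 5 31 A R 32) 32 JS0 272 = true := by decide +kernel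
theorem S0 : On (Step.{u} Rf23 LW par A) 272 336 :=
  steps_of_blocks hpar hR S0_c (by decide +kernel)
theorem D0_c : allB (defOK 9 14 23 511 8388607 267 A K) 1 2 = true := by decide +kernel
theorem D0 : On (fun r => defOK par.W par.WL par.E par.mW par.mE 267 A K r = true) 256 384 :=
  On.of_allB D0_c
noncomputable def JW0 : List ℕ := [nat_lit 0x1003f20082210862208a]
theorem W0_c : blocks (rows 9 5 14 23 511 16383 8388607 10 1023 80 A 336 1 cols 16) 16 JW0 0 = true := by decide +kernel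
theorem W0 : On (Row.{u} Rf23 LW par A 336 1 cols) 0 16 :=
  rows_of_blocks hpar (by decide) hcols W0_c (by decide +kernel)
theorem idx : Idx.{u} Rf23 [[0], [2], [4], [6], [8], [10], [12], [14]] [[0], [2], [4], [6], [8], [10]] 1 :=
  idx_of_cert hpar hR (K := K) (by decide +kernel) (T := 267) (T' := 384) (by decide) D0
    (subs := [1,2,4,5,6,7]) (by decide +kernel) (T1 := 272) (by decide) (N := 336) S0
    (by decide) (n' := 16) (by decide) W0 (by decide +kernel) (by decide +kernel)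
end f23
namespace f24
noncomputable def A_0 : List (ℕ) := [nat_lit 0x9000014000000080000040200200000500000605480c0650281500403240c0428180c00381d4060300100300240800500000b0000180100340600703820e06841a0c08301610582820a0484120808200e103810a0701901c0550140610181020400280801380402500808c0101140402380804201001002001c00003000005000008000008000008001ca0683500c061c160b502814804824e0804280e0740180c701814e0402200603500404800805000]
noncomputable def A : List (List (ℕ)) := [A_0]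
noncomputable def K_0 : List (ℕ) := [nat_lit 0x436190b854261107834160903814060000]
noncomputable def K : List (List (ℕ)) := [K_0]
noncomputable def R_0 : List (Rule) := [Rule.mk (nat_lit 8) (nat_lit 24) (Steps.bwd (nat_lit 8) (Steps.bwd (nat_lit 8) Steps.nil)) (nat_lit 36) (nat_lit 0),
  Rule.mk (nat_lit 2) (nat_lit 33) (Steps.fwd (nat_lit 4096) (Steps.fwd (nat_lit 1024) (Steps.bwd (nat_lit 8) Steps.nil))) (nat_lit 40) (nat_lit 2),
  Rule.mk (nat_lit 7) (nat_lit 33) (Steps.fwd (nat_lit 4096) (Steps.fwd (nat_lit 2560) (Steps.bwd (nat_lit 8) Steps.nil))) (nat_lit 42) (nat_lit 2),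
  Rule.mk (nat_lit 5) (nat_lit 42) (Steps.fwd (nat_lit 4096) (Steps.fwd (nat_lit 2560) (Steps.fwd (nat_lit 3584) (Steps.bwd (nat_lit 8) Steps.nil)))) (nat_lit 44) (nat_lit 2),
  Rule.mk (nat_lit 6) (nat_lit 42) (Steps.bwd (nat_lit 8) (Steps.fwd (nat_lit 3072) (Steps.bwd (nat_lit 8) (Steps.bwd (nat_lit 2) Steps.nil)))) (nat_lit 46) (nat_lit 1),
  Rule.mk (nat_lit 5) (nat_lit 42) (Steps.fwd (nat_lit 3072) (Steps.fwd (nat_lit 2560) (Steps.fwd (nat_lit 3584) (Steps.bwd (nat_lit 6) Steps.nil)))) (nat_lit 24) (nat_lit 2),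
  Rule.mk (nat_lit 7) (nat_lit 42) (Steps.fwd (nat_lit 2560) (Steps.fwd (nat_lit 3072) (Steps.fwd (nat_lit 2560) (Steps.bwd (nat_lit 6) Steps.nil)))) (nat_lit 25) (nat_lit 1),
  Rule.mk (nat_lit 10) (nat_lit 33) (Steps.bwd (nat_lit 8) (Steps.bwd (nat_lit 10) (Steps.bwd (nat_lit 8) Steps.nil))) (nat_lit 50) (nat_lit 1),
  Rule.mk (nat_lit 1) (nat_lit 33) (Steps.fwd (nat_lit 5120) (Steps.fwd (nat_lit 512) (Steps.bwd (nat_lit 10) Steps.nil))) (nat_lit 54) (nat_lit 0),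
  Rule.mk (nat_lit 1) (nat_lit 33) (Steps.fwd (nat_lit 4096) (Steps.fwd (nat_lit 512) (Steps.bwd (nat_lit 8) Steps.nil))) (nat_lit 38) (nat_lit 2),
  Rule.mk (nat_lit 10) (nat_lit 51) (Steps.bwd (nat_lit 7) (Steps.fwd (nat_lit 5120) (Steps.fwd (nat_lit 3584) (Steps.bwd (nat_lit 10) (Steps.fwd (nat_lit 3584) Steps.nil))))) (nat_lit 52) (nat_lit 0),
  Rule.mk (nat_lit 4) (nat_lit 150) (Steps.bwd (nat_lit 10) (Steps.bwd (nat_lit 8) (Steps.bwd (nat_lit 7) (Steps.bwd (nat_lit 10) (Steps.bwd (nat_lit 8) (Steps.bwd (nat_lit 7) (Steps.bwd (nat_lit 10) (Steps.bwd (nat_lit 8) (Steps.bwd (nat_lit 7) (Steps.bwd (nat_lit 10) (Steps.bwd (nat_lit 8) (Steps.fwd (nat_lit 3584) (Steps.fwd (nat_lit 2048) (Steps.fwd (nat_lit 3584) (Steps.fwd (nat_lit 4096) (Steps.fwd (nat_lit 5120) Steps.nil)))))))))))))))) (nat_lit 58) (nat_lit 5),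
  Rule.mk (nat_lit 5) (nat_lit 33) (Steps.bwd (nat_lit 8) (Steps.bwd (nat_lit 7) (Steps.fwd (nat_lit 4096) Steps.nil))) (nat_lit 42) (nat_lit 0),
  Rule.mk (nat_lit 1) (nat_lit 33) (Steps.fwd (nat_lit 2560) (Steps.fwd (nat_lit 512) (Steps.bwd (nat_lit 5) Steps.nil))) (nat_lit 18) (nat_lit 1),
  Rule.mk (nat_lit 1) (nat_lit 33) (Steps.bwd (nat_lit 10) (Steps.fwd (nat_lit 512) (Steps.fwd (nat_lit 5120) Steps.nil))) (nat_lit 54) (nat_lit 0),
  Rule.mk (nat_lit 1) (nat_lit 33) (Steps.bwd (nat_lit 7) (Steps.fwd (nat_lit 512) (Steps.fwd (nat_lit 3584) Steps.nil))) (nat_lit 26) (nat_lit 0),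
  Rule.mk (nat_lit 1) (nat_lit 33) (Steps.bwd (nat_lit 8) (Steps.fwd (nat_lit 512) (Steps.fwd (nat_lit 4096) Steps.nil))) (nat_lit 38) (nat_lit 0),
  Rule.mk (nat_lit 0) (nat_lit 60) (Steps.fwd (nat_lit 512) (Steps.fwd (nat_lit 2048) (Steps.fwd (nat_lit 512) (Steps.bwd (nat_lit 4) (Steps.fwd (nat_lit 512) (Steps.fwd (nat_lit 2048) Steps.nil)))))) (nat_lit 16) (nat_lit 0),
  Rule.mk (nat_lit 0) (nat_lit 33) (Steps.fwd (nat_lit 5120) (Steps.fwd (nat_lit 0) (Steps.bwd (nat_lit 10) Steps.nil))) (nat_lit 60) (nat_lit 0),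
  Rule.mk (nat_lit 0) (nat_lit 33) (Steps.fwd (nat_lit 4096) (Steps.fwd (nat_lit 0) (Steps.bwd (nat_lit 8) Steps.nil))) (nat_lit 60) (nat_lit 0),
  Rule.mk (nat_lit 0) (nat_lit 33) (Steps.fwd (nat_lit 3584) (Steps.fwd (nat_lit 0) (Steps.fwd (nat_lit 3584) Steps.nil))) (nat_lit 60) (nat_lit 0),
  Rule.mk (nat_lit 10) (nat_lit 24) (Steps.bwd (nat_lit 0) (Steps.bwd (nat_lit 10) Steps.nil)) (nat_lit 60) (nat_lit 0),
  Rule.mk (nat_lit 0) (nat_lit 60) (Steps.bwd (nat_lit 10) (Steps.bwd (nat_lit 7) (Steps.bwd (nat_lit 10) (Steps.fwd (nat_lit 3584) (Steps.fwd (nat_lit 5120) (Steps.fwd (nat_lit 3584) Steps.nil)))))) (nat_lit 52) (nat_lit 1),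
  Rule.mk (nat_lit 5) (nat_lit 24) (Steps.bwd (nat_lit 0) (Steps.fwd (nat_lit 2560) Steps.nil)) (nat_lit 60) (nat_lit 0),
  Rule.mk (nat_lit 9) (nat_lit 24) (Steps.bwd (nat_lit 0) (Steps.bwd (nat_lit 8) Steps.nil)) (nat_lit 60) (nat_lit 0),
  Rule.mk (nat_lit 8) (nat_lit 42) (Steps.bwd (nat_lit 5) (Steps.bwd (nat_lit 9) (Steps.fwd (nat_lit 2560) (Steps.fwd (nat_lit 3584) Steps.nil)))) (nat_lit 44) (nat_lit 1),
  Rule.mk (nat_lit 5) (nat_lit 42) (Steps.bwd (nat_lit 8) (Steps.bwd (nat_lit 5) (Steps.bwd (nat_lit 9) (Steps.bwd (nat_lit 7) Steps.nil)))) (nat_lit 45) (nat_lit 2),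
  Rule.mk (nat_lit 9) (nat_lit 33) (Steps.bwd (nat_lit 5) (Steps.bwd (nat_lit 8) (Steps.fwd (nat_lit 3584) Steps.nil))) (nat_lit 42) (nat_lit 3),
  Rule.mk (nat_lit 0) (nat_lit 42) (Steps.fwd (nat_lit 4608) (Steps.fwd (nat_lit 5120) (Steps.bwd (nat_lit 8) (Steps.fwd (nat_lit 5120) Steps.nil)))) (nat_lit 50) (nat_lit 1),
  Rule.mk (nat_lit 0) (nat_lit 33) (Steps.fwd (nat_lit 2560) (Steps.fwd (nat_lit 0) (Steps.fwd (nat_lit 2560) Steps.nil))) (nat_lit 60) (nat_lit 0),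
  Rule.mk (nat_lit 0) (nat_lit 33) (Steps.bwd (nat_lit 8) (Steps.fwd (nat_lit 0) (Steps.fwd (nat_lit 4096) Steps.nil))) (nat_lit 60) (nat_lit 0),
  Rule.mk (nat_lit 0) (nat_lit 42) (Steps.bwd (nat_lit 0) (Steps.fwd (nat_lit 3584) (Steps.fwd (nat_lit 0) (Steps.fwd (nat_lit 3584) Steps.nil)))) (nat_lit 60) (nat_lit 0),
  Rule.mk (nat_lit 0) (nat_lit 24) (Steps.fwd (nat_lit 0) (Steps.fwd (nat_lit 0) Steps.nil)) (nat_lit 60) (nat_lit 0),
  Rule.mk (nat_lit 10) (nat_lit 24) (Steps.bwd (nat_lit 0) (Steps.fwd (nat_lit 5120) Steps.nil)) (nat_lit 60) (nat_lit 0)]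
noncomputable def R : List (List (Rule)) := [R_0]
def LW : List Word := [[], [0], [2], [3], [4], [6], [8], [10], [12], [13], [14], [0], [1], [2], [3], [4], [5], [6], [7], [8], [9], [10], [11]]
def par : Par := ⟨9, 5, 14, 23, 511, 16383, 8388607⟩
theorem hpar : par.ok := by decide
theorem hR0_0 : lall (R) (fun l => lall l (ruleOK Rf24 LW par)) = true := by decide +kernel
theorem hR0 : lall (R) (fun l => lall l (ruleOK Rf24 LW par)) = true := hR0_0
theorem hR : RulesOK Rf24 LW par R := rulesOK_of rfl hR0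
def cols : List (ℕ × ℕ) := [(512, 1), (1024, 3), (2048, 4), (2560, 5), (3072, 6), (3584, 7), (4096, 9), (5120, 10)]
theorem hcols : lall cols (colOK Rf24 LW par) = true := by decide +kernel
noncomputable def JS0 : List ℕ := [nat_lit 0x2c00b21100302b170585c2b002e28002c290009951500048a04400224c3000102a2a00079413800389824000905824009068001a3c34000d221a0006900d000347868001a4434000d201a00068f00010007070341934381e05838161e0e06430170b054281309044c0c80814020c961900064a0003400486830172002020080070000802001804030285c50100c0a02100204008600028002098481,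
  nat_lit 0xf004c8800110000308980235004038008d5f1300004f06c0418003a3100801c1780404006c5e0100005a]
theorem S0_c : blocks (facts 9 5 14 23 511 16383 8388607 9 511 6 63 A R 32) 32 JS0 275 = true := by decide +kernel
theorem S0 : On (Step.{u} Rf24 LW par A) 275 339 :=
  steps_of_blocks hpar hR S0_c (by decide +kernel)
theorem D0_c : allB (defOK 9 14 23 511 8388607 270 A K) 1 2 = true := by decide +kernel
theorem D0 : On (fun r => defOK par.W par.WL par.E par.mW par.mE 270 A K r = true) 256 384 :=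
  On.of_allB D0_c
noncomputable def JW0 : List ℕ := [nat_lit 0xb82d20082210862208a]
theorem W0_c : blocks (rows 9 5 14 23 511 16383 8388607 10 1023 80 A 339 1 cols 16) 16 JW0 0 = true := by decide +kernel
theorem W0 : On (Row.{u} Rf24 LW par A 339 1 cols) 0 16 :=
  rows_of_blocks hpar (by decide) hcols W0_c (by decide +kernel)
theorem idx : Idx.{u} Rf24 [[0], [2], [4], [6], [8], [10], [12], [14]] [[0], [2], [4], [6], [8], [10]] 1 :=
  idx_of_cert hpar hR (K := K) (by decide +kernel) (T := 270) (T' := 384) (by decide) D0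
    (subs := [1,2,4,5,6,7]) (by decide +kernel) (T1 := 275) (by decide) (N := 339) S0
    (by decide) (n' := 16) (by decide) W0 (by decide +kernel) (by decide +kernel)
end f24
end
end CA.HJTC
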