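import Cfsg.Agent.Lib.Comp.CTodd
set_option autoImplicit false
set_option linter.all false
set_option maxRecDepth 100000
universe u
namespace CA.HJTQ
open CA.CNet CA.CWord CA.CLevel CA.CSimple CA.CPoint CA.CTodd 
noncomputable section
namespace q
def RQ : List Word := [[0,0], [2,2], [4,4], [6,6], [8,8], [8,0,8,0], [8,2,8,2], [8,4,8,4], [8,6,8,6], [2,0,2,0,8], [4,0,4,0,8], [6,0,6,0,8], [4,2,4,2,8], [6,2,6,2,8], [6,4,6,4,8]]
noncomputable def A_0 : List (ℕ) := [nat_lit 0xfb0b87c8703f43c1b41f0f20c87887434c3c1c4100e50e84d8703a8280c61d0810c8428502ac200c217065098550301642c0ba0f08a0586686c24c3217a1a0920b85a8601c82c1b2140430d86884c108341820f03a0c0208542541007211075038188341540c046140220980d03c084240320e011050160540ac220540d0050287e0603d02c1c80b0ec0784200c190040b6020cc0385e0182cc0c1b80e0d4050618281100207601032008520442701a0f60d094048398241481215a040240004680c06c000da02012000148241340201200]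
noncomputable def A : List (List (ℕ)) := [A_0]
noncomputable def K_0 : List (ℕ) := [nat_lit 0x8f476371c8a44e2f128b456110e86c2e0d1a8642a09198c42603118843e050782c0e0000]
noncomputable def K : List (List (ℕ)) := [K_0]
noncomputable def R_0 : List (Rule) := [Rule.mk (nat_lit 5) (nat_lit 33) (Steps.bwd (nat_lit 1) (Steps.bwd (nat_lit 5) (Steps.bwd (nat_lit 1) Steps.nil))) (nat_lit 10) (nat_lit 1),
  Rule.mk (nat_lit 2) (nat_lit 33) (Steps.bwd (nat_lit 5) (Steps.bwd (nat_lit 2) (Steps.bwd (nat_lit 5) Steps.nil))) (nat_lit 12) (nat_lit 0),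
  Rule.mk (nat_lit 3) (nat_lit 33) (Steps.bwd (nat_lit 5) (Steps.bwd (nat_lit 3) (Steps.bwd (nat_lit 5) Steps.nil))) (nat_lit 14) (nat_lit 0),
  Rule.mk (nat_lit 4) (nat_lit 33) (Steps.bwd (nat_lit 5) (Steps.bwd (nat_lit 4) (Steps.bwd (nat_lit 5) Steps.nil))) (nat_lit 16) (nat_lit 0),
  Rule.mk (nat_lit 1) (nat_lit 42) (Steps.bwd (nat_lit 2) (Steps.fwd (nat_lit 512) (Steps.fwd (nat_lit 2560) (Steps.fwd (nat_lit 1024) Steps.nil)))) (nat_lit 18) (nat_lit 2),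
  Rule.mk (nat_lit 1) (nat_lit 42) (Steps.bwd (nat_lit 3) (Steps.fwd (nat_lit 512) (Steps.fwd (nat_lit 2560) (Steps.fwd (nat_lit 1536) Steps.nil)))) (nat_lit 20) (nat_lit 2),
  Rule.mk (nat_lit 1) (nat_lit 42) (Steps.bwd (nat_lit 4) (Steps.fwd (nat_lit 512) (Steps.fwd (nat_lit 2560) (Steps.fwd (nat_lit 2048) Steps.nil)))) (nat_lit 22) (nat_lit 2),
  Rule.mk (nat_lit 2) (nat_lit 42) (Steps.bwd (nat_lit 3) (Steps.fwd (nat_lit 1024) (Steps.fwd (nat_lit 2560) (Steps.fwd (nat_lit 1536) Steps.nil)))) (nat_lit 24) (nat_lit 2),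
  Rule.mk (nat_lit 2) (nat_lit 42) (Steps.bwd (nat_lit 4) (Steps.fwd (nat_lit 1024) (Steps.fwd (nat_lit 2560) (Steps.fwd (nat_lit 2048) Steps.nil)))) (nat_lit 26) (nat_lit 2),
  Rule.mk (nat_lit 3) (nat_lit 42) (Steps.bwd (nat_lit 4) (Steps.fwd (nat_lit 1536) (Steps.fwd (nat_lit 2560) (Steps.fwd (nat_lit 2048) Steps.nil)))) (nat_lit 28) (nat_lit 2),
  Rule.mk (nat_lit 5) (nat_lit 33) (Steps.bwd (nat_lit 2) (Steps.fwd (nat_lit 2560) (Steps.fwd (nat_lit 1024) Steps.nil))) (nat_lit 12) (nat_lit 1),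
  Rule.mk (nat_lit 1) (nat_lit 33) (Steps.bwd (nat_lit 5) (Steps.bwd (nat_lit 1) (Steps.bwd (nat_lit 5) Steps.nil))) (nat_lit 10) (nat_lit 0),
  Rule.mk (nat_lit 5) (nat_lit 33) (Steps.bwd (nat_lit 3) (Steps.fwd (nat_lit 2560) (Steps.fwd (nat_lit 1536) Steps.nil))) (nat_lit 14) (nat_lit 1),
  Rule.mk (nat_lit 5) (nat_lit 33) (Steps.bwd (nat_lit 4) (Steps.fwd (nat_lit 2560) (Steps.fwd (nat_lit 2048) Steps.nil))) (nat_lit 16) (nat_lit 1),
  Rule.mk (nat_lit 2) (nat_lit 42) (Steps.bwd (nat_lit 3) (Steps.bwd (nat_lit 2) (Steps.bwd (nat_lit 5) (Steps.fwd (nat_lit 1536) Steps.nil)))) (nat_lit 24) (nat_lit 2),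
  Rule.mk (nat_lit 1) (nat_lit 42) (Steps.fwd (nat_lit 1024) (Steps.bwd (nat_lit 1) (Steps.bwd (nat_lit 5) (Steps.bwd (nat_lit 2) Steps.nil)))) (nat_lit 18) (nat_lit 2),
  Rule.mk (nat_lit 2) (nat_lit 42) (Steps.bwd (nat_lit 4) (Steps.bwd (nat_lit 2) (Steps.bwd (nat_lit 5) (Steps.fwd (nat_lit 2048) Steps.nil)))) (nat_lit 26) (nat_lit 2),
  Rule.mk (nat_lit 3) (nat_lit 42) (Steps.bwd (nat_lit 4) (Steps.bwd (nat_lit 3) (Steps.bwd (nat_lit 5) (Steps.fwd (nat_lit 2048) Steps.nil)))) (nat_lit 28) (nat_lit 2),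
  Rule.mk (nat_lit 1) (nat_lit 42) (Steps.fwd (nat_lit 1536) (Steps.bwd (nat_lit 1) (Steps.bwd (nat_lit 5) (Steps.bwd (nat_lit 3) Steps.nil)))) (nat_lit 20) (nat_lit 2),
  Rule.mk (nat_lit 2) (nat_lit 42) (Steps.bwd (nat_lit 3) (Steps.bwd (nat_lit 2) (Steps.fwd (nat_lit 2560) (Steps.fwd (nat_lit 1536) Steps.nil)))) (nat_lit 24) (nat_lit 2),
  Rule.mk (nat_lit 5) (nat_lit 33) (Steps.fwd (nat_lit 1024) (Steps.fwd (nat_lit 2560) (Steps.bwd (nat_lit 2) Steps.nil))) (nat_lit 12) (nat_lit 1),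
  Rule.mk (nat_lit 2) (nat_lit 42) (Steps.bwd (nat_lit 4) (Steps.bwd (nat_lit 2) (Steps.fwd (nat_lit 2560) (Steps.fwd (nat_lit 2048) Steps.nil)))) (nat_lit 26) (nat_lit 2),
  Rule.mk (nat_lit 3) (nat_lit 42) (Steps.bwd (nat_lit 4) (Steps.bwd (nat_lit 3) (Steps.fwd (nat_lit 2560) (Steps.fwd (nat_lit 2048) Steps.nil)))) (nat_lit 28) (nat_lit 2),
  Rule.mk (nat_lit 5) (nat_lit 33) (Steps.fwd (nat_lit 1536) (Steps.fwd (nat_lit 2560) (Steps.bwd (nat_lit 3) Steps.nil))) (nat_lit 14) (nat_lit 1),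
  Rule.mk (nat_lit 2) (nat_lit 42) (Steps.bwd (nat_lit 3) (Steps.bwd (nat_lit 2) (Steps.bwd (nat_lit 5) (Steps.bwd (nat_lit 3) Steps.nil)))) (nat_lit 24) (nat_lit 2),
  Rule.mk (nat_lit 1) (nat_lit 42) (Steps.bwd (nat_lit 5) (Steps.fwd (nat_lit 1024) (Steps.bwd (nat_lit 1) (Steps.bwd (nat_lit 2) Steps.nil)))) (nat_lit 18) (nat_lit 4),
  Rule.mk (nat_lit 2) (nat_lit 42) (Steps.bwd (nat_lit 4) (Steps.bwd (nat_lit 2) (Steps.bwd (nat_lit 5) (Steps.bwd (nat_lit 4) Steps.nil)))) (nat_lit 26) (nat_lit 2),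
  Rule.mk (nat_lit 3) (nat_lit 42) (Steps.bwd (nat_lit 4) (Steps.bwd (nat_lit 3) (Steps.bwd (nat_lit 5) (Steps.bwd (nat_lit 4) Steps.nil)))) (nat_lit 28) (nat_lit 2),
  Rule.mk (nat_lit 1) (nat_lit 42) (Steps.bwd (nat_lit 5) (Steps.fwd (nat_lit 1536) (Steps.bwd (nat_lit 1) (Steps.bwd (nat_lit 3) Steps.nil)))) (nat_lit 20) (nat_lit 4),
  Rule.mk (nat_lit 2) (nat_lit 42) (Steps.fwd (nat_lit 2560) (Steps.fwd (nat_lit 1536) (Steps.bwd (nat_lit 2) (Steps.bwd (nat_lit 3) Steps.nil)))) (nat_lit 24) (nat_lit 4),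
  Rule.mk (nat_lit 5) (nat_lit 33) (Steps.fwd (nat_lit 1536) (Steps.bwd (nat_lit 5) (Steps.bwd (nat_lit 3) Steps.nil))) (nat_lit 14) (nat_lit 1),
  Rule.mk (nat_lit 2) (nat_lit 42) (Steps.bwd (nat_lit 5) (Steps.fwd (nat_lit 1536) (Steps.bwd (nat_lit 2) (Steps.bwd (nat_lit 3) Steps.nil)))) (nat_lit 24) (nat_lit 4),
  Rule.mk (nat_lit 1) (nat_lit 42) (Steps.fwd (nat_lit 2560) (Steps.fwd (nat_lit 1536) (Steps.fwd (nat_lit 512) (Steps.bwd (nat_lit 3) Steps.nil)))) (nat_lit 20) (nat_lit 4),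
  Rule.mk (nat_lit 5) (nat_lit 33) (Steps.bwd (nat_lit 2) (Steps.bwd (nat_lit 5) (Steps.bwd (nat_lit 2) Steps.nil))) (nat_lit 12) (nat_lit 1),
  Rule.mk (nat_lit 1) (nat_lit 42) (Steps.bwd (nat_lit 5) (Steps.bwd (nat_lit 2) (Steps.fwd (nat_lit 512) (Steps.bwd (nat_lit 2) Steps.nil)))) (nat_lit 18) (nat_lit 4),
  Rule.mk (nat_lit 3) (nat_lit 42) (Steps.fwd (nat_lit 1024) (Steps.bwd (nat_lit 5) (Steps.bwd (nat_lit 3) (Steps.bwd (nat_lit 2) Steps.nil)))) (nat_lit 24) (nat_lit 3)]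
noncomputable def R : List (List (Rule)) := [R_0]
def LW : List Word := [[], [0], [2], [4], [6], [8]]
def par : Par := ⟨9, 3, 12, 21, 511, 4095, 2097151⟩
theorem hpar : par.ok := by decide
theorem hR0_0 : lall (R) (fun l => lall l (ruleOK RQ LW par)) = true := by decide +kernel
theorem hR0 : lall (R) (fun l => lall l (ruleOK RQ LW par)) = true := hR0_0
theorem hR : RulesOK RQ LW par R := rulesOK_of rfl hR0
def cols : List (ℕ × ℕ) := [(512, 1), (1024, 2), (1536, 3), (2048, 4), (2560, 5)]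
theorem hcols : lall cols (colOK RQ LW par) = true := by decide +kernel
noncomputable def JS0 : List ℕ := [nat_lit 0x361e1d091b008401a066800350aaa190d8dc44c8001806605a37140857000280ca8ac6a27102c00050195150cc4a1f5000060702d3108c4501e4800040602900f8bc4e1d4400040582500f0b44a1c3c00081298211586ce0001c4a6080521a34000612981f13864b100200c19283e07030649100180a19203a051106470f0104219183e0310064501068322004361a0c001c0d841e0e8701,
  nat_lit 0x41b1085e40086410068c001200c437100705a480432170840000b80c0508d43e3315ae011007c0b00000e027c7041168a5700018060278543f1b8a12008501e087400390cb01e108ec4ce004220e03b4001b05d5]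
theorem S0_c : blocks (facts 9 3 12 21 511 4095 2097151 9 511 6 63 A R 32) 32 JS0 286 = true := by decide +kernel
theorem S0 : On (Step.{u} RQ LW par A) 286 350 :=
  steps_of_blocks hpar hR S0_c (by decide +kernel)
theorem D0_c : allB (defOK 9 12 21 511 2097151 287 A K) 1 2 = true := by decide +kernel
theorem D0 : On (fun r => defOK par.W par.WL par.E par.mW par.mE 287 A K r = true) 256 384 :=
  On.of_allB D0_c
noncomputable def JW0 : List ℕ := [nat_lit 0x50200991785d134910784e0f05120893148422b4780ec41180382846c0c8540f8a30c46e1606329c4b13c722c4a01e847190392243a0b037110862947017067250a914c742d4a22907c1a03f22c351003d114842344610c6b258982ac762eca62a0aa2e06226c5716c611988e2745f1946a2409227c691f8791ec7d2e4ac2bc6d1bc732c0882cc711d4b42288c2dc772e89a2709e2f47f2b8b22d8bc,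
  nat_lit 0x232041f09021088830a8270a42e21c340cc280bc850c02d080482545609455130970ac5a1644923c4a09836]
theorem W0_c : blocks (rows 9 3 12 21 511 4095 2097151 10 1023 50 A 350 32 cols 25) 25 JW0 0 = true := by decide +kernel
theorem W0 : On (Row.{u} RQ LW par A 350 32 cols) 0 50 :=
  rows_of_blocks hpar (by decide) hcols W0_c (by decide +kernel)
theorem idx : Idx.{u} RQ [[0], [2], [4], [6], [8]] [] 32 :=
  idx_of_cert hpar hR (K := K) (by decide +kernel) (T := 287) (T' := 384) (by decide) D0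
    (subs := []) (by decide +kernel) (T1 := 286) (by decide) (N := 350) S0
    (by decide) (n' := 50) (by decide) W0 (by decide +kernel) (by decide +kernel)
end q
end
end CA.HJTQ
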