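import Cfsg.Agent.Lib.HJ.HJM
import Cfsg.Agent.Lib.HJ.HJTC
import Cfsg.Agent.Lib.HJ.HJTQ
import Cfsg.Agent.Lib.Walt.J1F

/-!
Homomorphisms from the models `A`, `M`, `B` (of order 32) to a group with generators satisfying the relations.
-/

set_option autoImplicit false
set_option maxRecDepth 100000

namespace CA.HJM

open CA.CWord CA.CTodd CA.HJRel Subgroup

universe u

/-- the model of `2^{1+4}_-` -/
def B : Type := Fin 32

instance : DecidableEq B := inferInstanceAs (DecidableEq (Fin 32))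
instance : Fintype B := inferInstanceAs (Fintype (Fin 32))
instance decAllB (p : B → Prop) [h : DecidablePred p] : Decidable (∀ a, p a) :=
  @Nat.decidableForallFin 32 p h
instance decExB (p : B → Prop) [h : DecidablePred p] : Decidable (∃ a, p a) :=
  @Nat.decidableExistsFin 32 p h
instance : Mul B := ⟨qm⟩
instance : One B := ⟨mkQ 0⟩
instance : Inv B := ⟨qi⟩

theorem B_left : ∀ a : B, a⁻¹ * a = 1 ∧ 1 * a = a := by decide +kernel

instance : Group B := Group.ofLeftAxioms qm_assoc (fun a => (B_left a).2) (fun a => (B_left a).1)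

theorem card_B : Nat.card B = 32 := by
  show Nat.card (Fin 32) = 32
  simp

def S (i : Fin 5) : B := mkQ (lk 0xf8421 4 15 i)
def Z : B := mkQ 16

theorem b0 : ∀ m : B, m = 1 ∨ ∃ a ∈ [S 0, S 1, S 2, S 3, Z],
    lk 0x43323222322222214332322132212110 4 15 (Fin.val (a * m)) <
      lk 0x43323222322222214332322132212110 4 15 (Fin.val m) := by decide +kernel
theorem b1 : ∀ m : B, m * m = 1 → m = 1 ∨ m = Z ∨ ∃ i, m = S i ∨ m = S i * Z := by decide +kernel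
theorem b2 : ∀ e0 ∈ [1, Z], ∀ e1 ∈ [1, Z], ∀ e2 ∈ [1, Z], ∀ e3 ∈ [1, Z], ∃ c : B, c * S 0 * c⁻¹ = S 0 * e0 ∧
    c * S 1 * c⁻¹ = S 1 * e1 ∧ c * S 2 * c⁻¹ = S 2 * e2 ∧ c * S 3 * c⁻¹ = S 3 * e3 := by decide +kernel
theorem b3 : ∀ c : A, S (pf c 0) * S (pf c 1) * S (pf c 2) * S (pf c 3) = S (pf c 4) := by decide +kernel
theorem b4 : (∀ i j, S i = S j ∨ S i = S j * Z → i = j) ∧ (∀ i, S i * S i = 1 ∧ S i ≠ 1 ∧ S i ≠ Z) ∧
    (∀ m : B, ∀ i, m * S i * m⁻¹ = S i ∨ m * S i * m⁻¹ = S i * Z) ∧ S 0 * S 1 * S 2 * S 3 = S 4 ∧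
    S 0 * S 1 * S 2 * S 3 * S 4 = 1 ∧ S 3 * S 4 * S 3 * S 4 * Z = 1 := by decide +kernel
theorem p0 : pf t0 0 = 1 ∧ pf t0 1 = 0 ∧ pf t0 2 = 3 ∧ pf t0 3 = 2 ∧ pf t0 4 = 4 ∧
    pf x0 0 = 1 ∧ pf x0 2 = 0 ∧ pf x0 3 = 3 ∧ pf x0 4 = 4 ∧ pf u0 4 = 3 ∧
    x0 ^ 3 = 1 ∧ (t0 * x0) ^ 3 = 1 ∧ (t0 * u0) ^ 3 = 1 ∧ u0 * x0 * u0⁻¹ * x0 = 1 ∧ u0 * u0 = 1 ∧ t0 * t0 = 1 := by
  decide +kernel
theorem p1 : ∀ i j : Fin 5, ∃ c : A, pf c i = j := by decide +kernel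
theorem m8 : ∀ m : M, m = 1 ∨ m = z ∨ ∃ a ∈ [s, w, t * w * t, x * t * w * t * x⁻¹], m * a * m⁻¹ * a⁻¹ = z ∨
    ∃ b ∈ [s, w, t * w * t, x * t * w * t * x⁻¹],
      b * (m * a * m⁻¹ * a⁻¹) * b⁻¹ * (m * a * m⁻¹ * a⁻¹)⁻¹ = z := by decide +kernel

theorem top_of_rank {Γ : Type*} [Group Γ] {K : Subgroup Γ} {l : List Γ} (hl : ∀ a ∈ l, a ∈ K) (rk : Γ → ℕ)
    (h : ∀ m, m = 1 ∨ ∃ a ∈ l, rk (a * m) < rk m) : K = ⊤ := by
  refine eq_top_iff.2 fun m _ => ?_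
  induction hn : rk m using Nat.strong_induction_on generalizing m with
  | _ n ih =>
    rcases h m with rfl | ⟨a, ha, h1⟩
    · exact one_mem _
    · exact (mul_mem_cancel_left (hl a ha)).1 (ih _ (hn ▸ h1) _ trivial rfl)

theorem topA {K : Subgroup A} (h1 : t0 ∈ K) (h2 : x0 ∈ K) (h3 : u0 ∈ K) : K = ⊤ :=
  top_of_rank (l := [t0, x0, u0]) (by simp [h1, h2, h3]) (fun m => lk tS 4 15 m.v) a0

theorem topB {K : Subgroup B} (h0 : S 0 ∈ K) (h1 : S 1 ∈ K) (h2 : S 2 ∈ K) (h3 : S 3 ∈ K) (h4 : Z ∈ K) : K = ⊤ :=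
  top_of_rank (l := [S 0, S 1, S 2, S 3, Z]) (by simp [h0, h1, h2, h3, h4])
    (fun m => lk 0x43323222322222214332322132212110 4 15 (Fin.val m)) b0

theorem topM {K : Subgroup M} (h1 : t ∈ K) (h2 : x ∈ K) (h3 : u ∈ K) (h4 : s ∈ K) : K = ⊤ :=
  top_of_rank (l := [t, x, u, s]) (by simp [h1, h2, h3, h4]) (fun m => lk tR 5 31 m.v) m0

/-- the generators as a sequence -/
def sq8 {G : Type*} [Group G] (a b c d e f g h : G) : ℕ → G
  | 0 => a | 1 => b | 2 => c | 3 => d | 4 => e | 5 => f | 6 => g | 7 => h | _ => 1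

theorem gen_mem {G : Type*} [Group G] (g : ℕ → G) {ws : List Word} (i : ℕ) (h : [2 * i] ∈ ws) :
    g i ∈ grp g ws := ev_gen g i ▸ mem_grp g h

theorem hom_top {rels gens : List Word} {N : ℕ} (hB : Bound.{u} rels gens N) {P : Type u} {Q : Type}
    [Group P] [Group Q] {g : ℕ → P} {q : ℕ → Q} (hg : ∀ r ∈ rels, ev g r = 1)
    (hq : ∀ r ∈ rels, ev q r = 1) (ht : grp q gens = ⊤) (hN : Nat.card Q = N) :
    ∃ φ : Q →* P, (∀ i, nth gens [] i = [2 * i] → φ (q i) = g i) ∧ φ.range = grp g gens := by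
  obtain ⟨φ, h2, h3⟩ := CA.J1.hom_of_bound.{u, 0} hB hg hq (by rw [ht, card_top, hN])
  let e : Q ≃* grp q gens := topEquiv.symm.trans (MulEquiv.subgroupCongr ht.symm)
  refine ⟨φ.comp e.toMonoidHom, fun i hi => ?_, by
    rw [MonoidHom.range_comp, MonoidHom.range_eq_top.2 e.surjective, ← MonoidHom.range_eq_map, h3]⟩
  have h4 : ev g (subst gens [2 * i]) = g i := by rw [ev_subst, ev_gen, hi, ev_gen]
  have h5 : ev q (subst gens [2 * i]) = q i := by rw [ev_subst, ev_gen, hi, ev_gen]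
  rw [← h4, ← h2]
  exact congrArg φ (Subtype.ext h5.symm)

theorem bA : Bound.{u} RA gA 60 := Bound.of_idx HJTC.a.idx (Bound.nil _) (by norm_num)
theorem bH : Bound.{u} RH gH 1920 := Bound.of_idx HJTC.h.idx (bA.mono (by decide)) (by norm_num)
theorem bQ : Bound.{u} HJTQ.q.RQ [[0], [2], [4], [6], [8]] 32 :=
  Bound.of_idx HJTQ.q.idx (Bound.nil _) (by norm_num)

variable {G : Type u} [Group G]

theorem homA {a r c : G} (ha : a * a = 1) (hr : r ^ 3 = 1) (hc : c * c = 1) (h1 : (a * r) ^ 3 = 1)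
    (h2 : c * r * (c * r) = 1) (h3 : (a * c) ^ 3 = 1) : ∃ ψ : A →* G, ψ t0 = a ∧ ψ x0 = r ∧ ψ u0 = c := by
  obtain ⟨ψ, h4, -⟩ := hom_top (g := sq8 a r c 1 1 1 1 1) (q := sq8 t0 x0 u0 1 1 1 1 1) bA
    (by simpa [RA, lv, sq8, pow_succ, mul_assoc] using And.intro ha (And.intro hr (And.intro hc
      (And.intro h1 (And.intro h2 h3))))) (by decide +kernel)
    (topA (gen_mem _ 0 (by decide)) (gen_mem _ 1 (by decide)) (gen_mem _ 2 (by decide))) card_A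
  exact ⟨ψ, h4 0 rfl, h4 1 rfl, h4 2 rfl⟩

theorem homB {a b c d z : G} (h : ∀ r ∈ HJTQ.q.RQ, ev (sq8 a b c d z 1 1 1) r = 1) :
    ∃ χ : B →* G, χ (S 0) = a ∧ χ (S 1) = b ∧ χ (S 2) = c ∧ χ (S 3) = d ∧ χ Z = z := by
  obtain ⟨ψ, h4, -⟩ := hom_top (q := sq8 (S 0) (S 1) (S 2) (S 3) Z 1 1 1) bQ h
    (by decide +kernel) (topB (gen_mem _ 0 (by decide)) (gen_mem _ 1 (by decide)) (gen_mem _ 2 (by decide))
      (gen_mem _ 3 (by decide)) (gen_mem _ 4 (by decide))) card_B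
  exact ⟨ψ, h4 0 rfl, h4 1 rfl, h4 2 rfl, h4 3 rfl, h4 4 rfl⟩

theorem relM : ∀ r ∈ RH, ev (sq8 t x u s w z 1 1) r = 1 := by decide +kernel

theorem homM {t' x' u' s' w' z' : G} (h : ∀ r ∈ RH, ev (sq8 t' x' u' s' w' z' 1 1) r = 1) :
    ∃ φ : M →* G, φ t = t' ∧ φ x = x' ∧ φ u = u' ∧ φ s = s' ∧ φ w = w' ∧ φ z = z' := by
  obtain ⟨ψ, h4, -⟩ := hom_top bH h relM (topM (gen_mem _ 0 (by decide)) (gen_mem _ 1 (by decide))
    (gen_mem _ 2 (by decide)) (gen_mem _ 3 (by decide))) card_M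
  exact ⟨ψ, h4 0 rfl, h4 1 rfl, h4 2 rfl, h4 3 rfl, h4 4 rfl, h4 5 rfl⟩

theorem inj_M {φ : M →* G} (h : φ z ≠ 1) : Function.Injective φ := by
  refine (injective_iff_map_eq_one φ).2 fun m hm => ?_
  have k : ∀ a, φ (m * a * m⁻¹ * a⁻¹) = 1 := fun a => by simp [hm]
  rcases m8 m with e | e | ⟨a, -, e | ⟨b, -, e⟩⟩
  · exact e
  · exact absurd (e ▸ hm) h
  · exact absurd (e ▸ k a) h
  · refine absurd ?_ h
    rw [← e, map_mul, map_mul, map_mul, map_inv _ (_ * _), k]; simp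

theorem inj_A {ψ : A →* G} (h : ψ t0 ≠ 1) : Function.Injective ψ :=
  (MonoidHom.ker_eq_bot_iff _).1 ((MonoidHom.normal_ker ψ).eq_bot_or_eq_top.resolve_right fun e =>
    h (e.ge trivial : t0 ∈ ψ.ker))

end CA.HJM
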