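import Cfsg.Agent.Lib.Comp.CTodd
/-! Relators for the generators `t, x, u, s, w, z, r, g` of the Hall-Janko group. -/
set_option autoImplicit false
namespace CA.HJRel
open CA.CWord
def RA : List Word := [[0,0], [2,2,2], [4,4], [0,2,0,2,0,2], [4,2,4,2], [0,4,0,4,0,4]]
def RH : List Word := [[0,0], [2,2,2], [4,4], [6,6], [8,8], [10,10], [0,2,0,2,0,2], [4,2,4,2], [0,4,0,4,0,4], [0,6,0,6], [2,6,3,6], [4,6,4,8], [8,6,8,6,10], [10,0,10,0], [10,2,10,3], [10,4,10,4], [10,6,10,6], [2,0,8,0,2,0,8,0,2,0,8,0,8,6]]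
def Rr : List Word := [[12,12,12], [12,0,13,0], [12,2,13,3], [12,10,13,6], [12,6,13,6,10]]
def Rg : List Word := [[8,12,8,12,2], [14,14], [14,12,14,12], [10,14,10,14,10,14], [14,0,14,0], [14,2,14,3]]
def gA : List Word := [[0], [2], [4]]
def gH : List Word := [[0], [2], [4], [6], [8], [10]]
def gR : List Word := [[0], [2], [4], [6], [8], [10], [12]]
def gG : List Word := [[0], [2], [4], [6], [8], [10], [12], [14]]
def Rw00 : List Word := [[0,0], [2,2,2], [4,4], [6,6], [8,8], [10,10], [0,2,0,2,0,2], [4,2,4,2], [0,4,0,4,0,4], [0,6,0,6], [2,6,3,6], [4,6,4,8], [8,6,8,6,10], [10,0,10,0], [10,2,10,3], [10,4,10,4], [10,6,10,6], [2,0,8,0,2,0,8,0,2,0,8,0,8,6], [12,12,12], [12,0,13,0], [12,2,13,3], [12,10,13,6], [12,6,13,6,10], [8,12,8,12]]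
def Rw01 : List Word := [[0,0], [2,2,2], [4,4], [6,6], [8,8], [10,10], [0,2,0,2,0,2], [4,2,4,2], [0,4,0,4,0,4], [0,6,0,6], [2,6,3,6], [4,6,4,8], [8,6,8,6,10], [10,0,10,0], [10,2,10,3], [10,4,10,4], [10,6,10,6], [2,0,8,0,2,0,8,0,2,0,8,0,8,6], [12,12,12], [12,0,13,0], [12,2,13,3], [12,10,13,6], [12,6,13,6,10], [8,12,8,12,10]]
def Rw02 : List Word := [[0,0], [2,2,2], [4,4], [6,6], [8,8], [10,10], [0,2,0,2,0,2], [4,2,4,2], [0,4,0,4,0,4], [0,6,0,6], [2,6,3,6], [4,6,4,8], [8,6,8,6,10], [10,0,10,0], [10,2,10,3], [10,4,10,4], [10,6,10,6], [2,0,8,0,2,0,8,0,2,0,8,0,8,6], [12,12,12], [12,0,13,0], [12,2,13,3], [12,10,13,6], [12,6,13,6,10], [8,12,8,12,6]]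
def Rw03 : List Word := [[0,0], [2,2,2], [4,4], [6,6], [8,8], [10,10], [0,2,0,2,0,2], [4,2,4,2], [0,4,0,4,0,4], [0,6,0,6], [2,6,3,6], [4,6,4,8], [8,6,8,6,10], [10,0,10,0], [10,2,10,3], [10,4,10,4], [10,6,10,6], [2,0,8,0,2,0,8,0,2,0,8,0,8,6], [12,12,12], [12,0,13,0], [12,2,13,3], [12,10,13,6], [12,6,13,6,10], [8,12,8,12,6,10]]
def Rw11 : List Word := [[0,0], [2,2,2], [4,4], [6,6], [8,8], [10,10], [0,2,0,2,0,2], [4,2,4,2], [0,4,0,4,0,4], [0,6,0,6], [2,6,3,6], [4,6,4,8], [8,6,8,6,10], [10,0,10,0], [10,2,10,3], [10,4,10,4], [10,6,10,6], [2,0,8,0,2,0,8,0,2,0,8,0,8,6], [12,12,12], [12,0,13,0], [12,2,13,3], [12,10,13,6], [12,6,13,6,10], [8,12,8,12,2,10]]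
def Rw13 : List Word := [[0,0], [2,2,2], [4,4], [6,6], [8,8], [10,10], [0,2,0,2,0,2], [4,2,4,2], [0,4,0,4,0,4], [0,6,0,6], [2,6,3,6], [4,6,4,8], [8,6,8,6,10], [10,0,10,0], [10,2,10,3], [10,4,10,4], [10,6,10,6], [2,0,8,0,2,0,8,0,2,0,8,0,8,6], [12,12,12], [12,0,13,0], [12,2,13,3], [12,10,13,6], [12,6,13,6,10], [8,12,8,12,2,6,10]]
def Rw20 : List Word := [[0,0], [2,2,2], [4,4], [6,6], [8,8], [10,10], [0,2,0,2,0,2], [4,2,4,2], [0,4,0,4,0,4], [0,6,0,6], [2,6,3,6], [4,6,4,8], [8,6,8,6,10], [10,0,10,0], [10,2,10,3], [10,4,10,4], [10,6,10,6], [2,0,8,0,2,0,8,0,2,0,8,0,8,6], [12,12,12], [12,0,13,0], [12,2,13,3], [12,10,13,6], [12,6,13,6,10], [8,12,8,12,2,2]]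
def Rw21 : List Word := [[0,0], [2,2,2], [4,4], [6,6], [8,8], [10,10], [0,2,0,2,0,2], [4,2,4,2], [0,4,0,4,0,4], [0,6,0,6], [2,6,3,6], [4,6,4,8], [8,6,8,6,10], [10,0,10,0], [10,2,10,3], [10,4,10,4], [10,6,10,6], [2,0,8,0,2,0,8,0,2,0,8,0,8,6], [12,12,12], [12,0,13,0], [12,2,13,3], [12,10,13,6], [12,6,13,6,10], [8,12,8,12,2,2,10]]
def Rw22 : List Word := [[0,0], [2,2,2], [4,4], [6,6], [8,8], [10,10], [0,2,0,2,0,2], [4,2,4,2], [0,4,0,4,0,4], [0,6,0,6], [2,6,3,6], [4,6,4,8], [8,6,8,6,10], [10,0,10,0], [10,2,10,3], [10,4,10,4], [10,6,10,6], [2,0,8,0,2,0,8,0,2,0,8,0,8,6], [12,12,12], [12,0,13,0], [12,2,13,3], [12,10,13,6], [12,6,13,6,10], [8,12,8,12,2,2,6]]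
def Rw23 : List Word := [[0,0], [2,2,2], [4,4], [6,6], [8,8], [10,10], [0,2,0,2,0,2], [4,2,4,2], [0,4,0,4,0,4], [0,6,0,6], [2,6,3,6], [4,6,4,8], [8,6,8,6,10], [10,0,10,0], [10,2,10,3], [10,4,10,4], [10,6,10,6], [2,0,8,0,2,0,8,0,2,0,8,0,8,6], [12,12,12], [12,0,13,0], [12,2,13,3], [12,10,13,6], [12,6,13,6,10], [8,12,8,12,2,2,6,10]]
def Rf11 : List Word := [[0,0], [2,2,2], [4,4], [6,6], [8,8], [10,10], [0,2,0,2,0,2], [4,2,4,2], [0,4,0,4,0,4], [0,6,0,6], [2,6,3,6], [4,6,4,8], [8,6,8,6,10], [10,0,10,0], [10,2,10,3], [10,4,10,4], [10,6,10,6], [2,0,8,0,2,0,8,0,2,0,8,0,8,6], [12,12,12], [12,0,13,0], [12,2,13,3], [12,10,13,6], [12,6,13,6,10], [8,12,8,12,2], [14,14], [14,12,14,12], [10,14,10,14,10,14], [14,0,14,0], [14,2,14,3], [4,10,12,14,4,15,13,11]]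
def Rf12 : List Word := [[0,0], [2,2,2], [4,4], [6,6], [8,8], [10,10], [0,2,0,2,0,2], [4,2,4,2], [0,4,0,4,0,4], [0,6,0,6], [2,6,3,6], [4,6,4,8], [8,6,8,6,10], [10,0,10,0], [10,2,10,3], [10,4,10,4], [10,6,10,6], [2,0,8,0,2,0,8,0,2,0,8,0,8,6], [12,12,12], [12,0,13,0], [12,2,13,3], [12,10,13,6], [12,6,13,6,10], [8,12,8,12,2], [14,14], [14,12,14,12], [10,14,10,14,10,14], [14,0,14,0], [14,2,14,3], [4,10,12,14,4,15,13,11,15,13,11]]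
def Rf13 : List Word := [[0,0], [2,2,2], [4,4], [6,6], [8,8], [10,10], [0,2,0,2,0,2], [4,2,4,2], [0,4,0,4,0,4], [0,6,0,6], [2,6,3,6], [4,6,4,8], [8,6,8,6,10], [10,0,10,0], [10,2,10,3], [10,4,10,4], [10,6,10,6], [2,0,8,0,2,0,8,0,2,0,8,0,8,6], [12,12,12], [12,0,13,0], [12,2,13,3], [12,10,13,6], [12,6,13,6,10], [8,12,8,12,2], [14,14], [14,12,14,12], [10,14,10,14,10,14], [14,0,14,0], [14,2,14,3], [4,10,12,14,4,15,13,11,15,13,11,15,13,11]]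
def Rf14 : List Word := [[0,0], [2,2,2], [4,4], [6,6], [8,8], [10,10], [0,2,0,2,0,2], [4,2,4,2], [0,4,0,4,0,4], [0,6,0,6], [2,6,3,6], [4,6,4,8], [8,6,8,6,10], [10,0,10,0], [10,2,10,3], [10,4,10,4], [10,6,10,6], [2,0,8,0,2,0,8,0,2,0,8,0,8,6], [12,12,12], [12,0,13,0], [12,2,13,3], [12,10,13,6], [12,6,13,6,10], [8,12,8,12,2], [14,14], [14,12,14,12], [10,14,10,14,10,14], [14,0,14,0], [14,2,14,3], [4,10,12,14,4,15,13,11,15,13,11,15,13,11,15,13,11]]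
def Rf21 : List Word := [[0,0], [2,2,2], [4,4], [6,6], [8,8], [10,10], [0,2,0,2,0,2], [4,2,4,2], [0,4,0,4,0,4], [0,6,0,6], [2,6,3,6], [4,6,4,8], [8,6,8,6,10], [10,0,10,0], [10,2,10,3], [10,4,10,4], [10,6,10,6], [2,0,8,0,2,0,8,0,2,0,8,0,8,6], [12,12,12], [12,0,13,0], [12,2,13,3], [12,10,13,6], [12,6,13,6,10], [8,12,8,12,2], [14,14], [14,12,14,12], [10,14,10,14,10,14], [14,0,14,0], [14,2,14,3], [4,10,13,14,4,15,12,11]]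
def Rf22 : List Word := [[0,0], [2,2,2], [4,4], [6,6], [8,8], [10,10], [0,2,0,2,0,2], [4,2,4,2], [0,4,0,4,0,4], [0,6,0,6], [2,6,3,6], [4,6,4,8], [8,6,8,6,10], [10,0,10,0], [10,2,10,3], [10,4,10,4], [10,6,10,6], [2,0,8,0,2,0,8,0,2,0,8,0,8,6], [12,12,12], [12,0,13,0], [12,2,13,3], [12,10,13,6], [12,6,13,6,10], [8,12,8,12,2], [14,14], [14,12,14,12], [10,14,10,14,10,14], [14,0,14,0], [14,2,14,3], [4,10,13,14,4,15,12,11,15,12,11]]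
def Rf23 : List Word := [[0,0], [2,2,2], [4,4], [6,6], [8,8], [10,10], [0,2,0,2,0,2], [4,2,4,2], [0,4,0,4,0,4], [0,6,0,6], [2,6,3,6], [4,6,4,8], [8,6,8,6,10], [10,0,10,0], [10,2,10,3], [10,4,10,4], [10,6,10,6], [2,0,8,0,2,0,8,0,2,0,8,0,8,6], [12,12,12], [12,0,13,0], [12,2,13,3], [12,10,13,6], [12,6,13,6,10], [8,12,8,12,2], [14,14], [14,12,14,12], [10,14,10,14,10,14], [14,0,14,0], [14,2,14,3], [4,10,13,14,4,15,12,11,15,12,11,15,12,11]]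
def Rf24 : List Word := [[0,0], [2,2,2], [4,4], [6,6], [8,8], [10,10], [0,2,0,2,0,2], [4,2,4,2], [0,4,0,4,0,4], [0,6,0,6], [2,6,3,6], [4,6,4,8], [8,6,8,6,10], [10,0,10,0], [10,2,10,3], [10,4,10,4], [10,6,10,6], [2,0,8,0,2,0,8,0,2,0,8,0,8,6], [12,12,12], [12,0,13,0], [12,2,13,3], [12,10,13,6], [12,6,13,6,10], [8,12,8,12,2], [14,14], [14,12,14,12], [10,14,10,14,10,14], [14,0,14,0], [14,2,14,3], [4,10,13,14,4,15,12,11,15,12,11,15,12,11,15,12,11]]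
end CA.HJRel
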