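import Mathlib

/-!
Products of two elements of order three in small groups.
-/

set_option autoImplicit false
set_option maxRecDepth 100000

namespace CA.JKE

open Equiv

/-- the orders of products of two elements of order three -/
def Ex (X : Type*) [Group X] : Prop := ∀ a b : X, a ^ 3 = 1 → b ^ 3 = 1 →
  (a * b) ^ 3 = 1 ∨ (a * b) ^ 4 = 1 ∨ (a * b) ^ 5 = 1 ∨ (a * b) ^ 7 = 1

theorem Ex.of_inj {X Y : Type*} [Group X] [Group Y] (h : Ex Y) (f : X →* Y) (hf : Function.Injective f) : Ex X :=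
  fun a b ha hb => by
    simpa only [← map_mul, ← map_pow, map_eq_one_iff f hf] using
      h (f a) (f b) (by rw [← map_pow, ha, map_one]) (by rw [← map_pow, hb, map_one])

theorem p6 : ∀ g : Perm (Fin 6), g ^ 3 = 1 ∨ g ^ 4 = 1 ∨ g ^ 5 = 1 ∨ Perm.sign g = -1 := by decide +kernel

theorem ex6 : Ex (Perm (Fin 6)) := fun a b ha hb => by
  have k : ∀ a : Perm (Fin 6), a ^ 3 = 1 → Perm.sign a = 1 := fun a ha => by
    have := congrArg Perm.sign ha
    rcases Int.units_eq_one_or (Perm.sign a) with e | e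
    · exact e
    · rw [map_pow, e] at this; exact absurd this (by decide)
  rcases p6 (a * b) with e | e | e | e
  exacts [.inl e, .inr (.inl e), .inr (.inr (.inl e)), absurd e (by rw [map_mul, k a ha, k b hb]; decide)]

theorem exn {n : ℕ} (h : n ≤ 6) : Ex (Perm (Fin n)) :=
  ex6.of_inj (Perm.viaEmbeddingHom (Fin.castLEEmb h)) (Perm.viaEmbeddingHom_injective _)

theorem l3 : ∀ a b c d e f g h i : ZMod 2, !![a, b, c; d, e, f; g, h, i] ^ 3 = 1 ∨ !![a, b, c; d, e, f; g, h, i] ^ 4 = 1 ∨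
    !![a, b, c; d, e, f; g, h, i] ^ 7 = 1 ∨ a * e * i - a * f * h - b * d * i + b * f * g + c * d * h - c * e * g = 0 := by
  decide +kernel

theorem exL : Ex (Matrix.SpecialLinearGroup (Fin 3) (ZMod 2)) := fun a b _ _ => by
  generalize a * b = g
  have k : ∀ n : ℕ, g.1 ^ n = 1 → g ^ n = 1 := fun n e => Subtype.ext (by simpa using e)
  have := l3 (g.1 0 0) (g.1 0 1) (g.1 0 2) (g.1 1 0) (g.1 1 1) (g.1 1 2) (g.1 2 0) (g.1 2 1) (g.1 2 2)
  rw [← Matrix.eta_fin_three, ← Matrix.det_fin_three, g.2] at this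
  rcases this with e | e | e | e
  exacts [.inl (k _ e), .inr (.inl (k _ e)), .inr (.inr (.inr (k _ e))), absurd e (by decide)]

end CA.JKE
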