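import Cfsg.Agent.Lib.HJ.JKRel
set_option autoImplicit false
set_option linter.all false
set_option maxRecDepth 100000
universe u
namespace CA.JKa
open CA.CNet CA.CWord CA.CLevel CA.CSimple CA.CPoint CA.CTodd CA.JKRel
noncomputable section
namespace k3
noncomputable def A_0 : List (ℕ) := [nat_lit 0x38000140000200003000010000003000006000008000080200c180190c50c80680800c0402e190c30c0640e00d83006e00010018600e4320361801d0301301801c040441901c0c00f8000800c074010240381300c0840c04e06a060050080e0040f00e0600d1e5100040547504e010080400a8ea8980e01c2002c138148840cc0602e26031118168e810c44056270321181a0940d87a07c3d0451201b8b20f07e0883c0421d8209030f8630743ea301a51e8da0fc65486428371142290b1148944a3c4441eb218fd10882c843d24117c208ba900494783da2b16d1f0a28fc74c7c3cc3d1c61e0eb8ec73c741c83909e1b8d08dc64c6e17c3618b1b0c18d466c6812e340af198c50c8238622c22f07e170a58b850c5a2b42d15b160378b013c562942a0661486389c0184e264271091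38888984ac4c1de26101128910940784a232240df1208588c0fc4620622102108078843f84006c1f0e10f86987c0b83c1961e0c30e86d87007c3802e1b0ca0d0070641142e114170b10b8490582ac2c1421501c0a84d050174281161302d098418482042202a1107c0801203c14c1e0780e04b0702183416c1803a0c00d05824828050120220700b0300501406808452442262190c90885458414402011d0fc8f87c87a3dc381e31d8ef8e475052394381c40c0dd0d86c46a35c161a2180cc8c865c2831230186080bd0b85c45a2dc0e162140ac8a855c14292281460409d8904dc0825c1c1270108f8684580a21e191060307d0783c43a1dc040e20c06c86835c0e192180c60005d8502d40c1580c0a50084e8282500e11a090840203c8381c81a0d8060610402d0281540a094080440001d0180c406052040230100d8000480001200]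
noncomputable def A : List (List (ℕ)) := [A_0]
noncomputable def K_0 : List (ℕ) := [nat_lit 0x28943a1506813f9f4f6793b9d4e671379b4d66933994c6612f974b6592b954a6512793496492391486411f8f476391b8d46631178b456291389446210f87436190b854261107834160903814060000]
noncomputable def K : List (List (ℕ)) := [K_0]
noncomputable def R_0 : List (Rule) := [Rule.mk (nat_lit 2) (nat_lit 37) (Steps.bwd (nat_lit 3) (Steps.bwd (nat_lit 2) (Steps.fwd (nat_lit 1536) Steps.nil))) (nat_lit 10) (nat_lit 0),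
  Rule.mk (nat_lit 2) (nat_lit 47) (Steps.bwd (nat_lit 1) (Steps.bwd (nat_lit 3) (Steps.bwd (nat_lit 2) (Steps.fwd (nat_lit 512) Steps.nil)))) (nat_lit 6) (nat_lit 3),
  Rule.mk (nat_lit 3) (nat_lit 37) (Steps.bwd (nat_lit 1) (Steps.bwd (nat_lit 3) (Steps.fwd (nat_lit 512) Steps.nil))) (nat_lit 8) (nat_lit 1),
  Rule.mk (nat_lit 1) (nat_lit 47) (Steps.bwd (nat_lit 2) (Steps.bwd (nat_lit 1) (Steps.bwd (nat_lit 3) (Steps.fwd (nat_lit 1024) Steps.nil)))) (nat_lit 6) (nat_lit 2),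
  Rule.mk (nat_lit 4) (nat_lit 37) (Steps.bwd (nat_lit 2) (Steps.bwd (nat_lit 4) (Steps.fwd (nat_lit 1024) Steps.nil))) (nat_lit 20) (nat_lit 0),
  Rule.mk (nat_lit 1) (nat_lit 47) (Steps.bwd (nat_lit 5) (Steps.bwd (nat_lit 1) (Steps.bwd (nat_lit 3) (Steps.bwd (nat_lit 4) Steps.nil)))) (nat_lit 18) (nat_lit 2),
  Rule.mk (nat_lit 5) (nat_lit 37) (Steps.bwd (nat_lit 2) (Steps.bwd (nat_lit 5) (Steps.fwd (nat_lit 1024) Steps.nil))) (nat_lit 21) (nat_lit 1),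
  Rule.mk (nat_lit 5) (nat_lit 37) (Steps.bwd (nat_lit 1) (Steps.bwd (nat_lit 4) (Steps.fwd (nat_lit 1536) Steps.nil))) (nat_lit 16) (nat_lit 3),
  Rule.mk (nat_lit 3) (nat_lit 47) (Steps.bwd (nat_lit 1) (Steps.fwd (nat_lit 1024) (Steps.bwd (nat_lit 1) (Steps.fwd (nat_lit 1024) Steps.nil)))) (nat_lit 7) (nat_lit 1),
  Rule.mk (nat_lit 3) (nat_lit 47) (Steps.bwd (nat_lit 4) (Steps.bwd (nat_lit 1) (Steps.bwd (nat_lit 5) (Steps.bwd (nat_lit 1) Steps.nil)))) (nat_lit 18) (nat_lit 0),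
  Rule.mk (nat_lit 3) (nat_lit 37) (Steps.bwd (nat_lit 2) (Steps.fwd (nat_lit 1536) (Steps.fwd (nat_lit 1024) Steps.nil))) (nat_lit 10) (nat_lit 1),
  Rule.mk (nat_lit 3) (nat_lit 37) (Steps.bwd (nat_lit 1) (Steps.fwd (nat_lit 1536) (Steps.bwd (nat_lit 1) Steps.nil))) (nat_lit 8) (nat_lit 1),
  Rule.mk (nat_lit 4) (nat_lit 47) (Steps.bwd (nat_lit 1) (Steps.fwd (nat_lit 2048) (Steps.fwd (nat_lit 512) (Steps.fwd (nat_lit 1536) Steps.nil)))) (nat_lit 18) (nat_lit 1),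
  Rule.mk (nat_lit 4) (nat_lit 27) (Steps.bwd (nat_lit 4) (Steps.bwd (nat_lit 4) Steps.nil)) (nat_lit 12) (nat_lit 0),
  Rule.mk (nat_lit 5) (nat_lit 27) (Steps.bwd (nat_lit 5) (Steps.fwd (nat_lit 2048) Steps.nil)) (nat_lit 13) (nat_lit 0),
  Rule.mk (nat_lit 3) (nat_lit 47) (Steps.bwd (nat_lit 4) (Steps.fwd (nat_lit 512) (Steps.bwd (nat_lit 5) (Steps.fwd (nat_lit 512) Steps.nil)))) (nat_lit 18) (nat_lit 0),
  Rule.mk (nat_lit 5) (nat_lit 27) (Steps.bwd (nat_lit 5) (Steps.bwd (nat_lit 5) Steps.nil)) (nat_lit 13) (nat_lit 0),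
  Rule.mk (nat_lit 3) (nat_lit 37) (Steps.bwd (nat_lit 5) (Steps.fwd (nat_lit 512) (Steps.fwd (nat_lit 2560) Steps.nil))) (nat_lit 16) (nat_lit 2),
  Rule.mk (nat_lit 2) (nat_lit 37) (Steps.bwd (nat_lit 5) (Steps.bwd (nat_lit 2) (Steps.bwd (nat_lit 5) Steps.nil))) (nat_lit 21) (nat_lit 0),
  Rule.mk (nat_lit 4) (nat_lit 27) (Steps.bwd (nat_lit 4) (Steps.fwd (nat_lit 2560) Steps.nil)) (nat_lit 12) (nat_lit 0),
  Rule.mk (nat_lit 1) (nat_lit 37) (Steps.bwd (nat_lit 4) (Steps.fwd (nat_lit 1536) (Steps.bwd (nat_lit 5) Steps.nil))) (nat_lit 16) (nat_lit 0),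
  Rule.mk (nat_lit 3) (nat_lit 37) (Steps.bwd (nat_lit 5) (Steps.bwd (nat_lit 1) (Steps.bwd (nat_lit 4) Steps.nil))) (nat_lit 16) (nat_lit 2),
  Rule.mk (nat_lit 2) (nat_lit 37) (Steps.bwd (nat_lit 5) (Steps.fwd (nat_lit 1024) (Steps.fwd (nat_lit 2048) Steps.nil))) (nat_lit 21) (nat_lit 0),
  Rule.mk (nat_lit 1) (nat_lit 37) (Steps.bwd (nat_lit 3) (Steps.bwd (nat_lit 1) (Steps.bwd (nat_lit 3) Steps.nil))) (nat_lit 8) (nat_lit 0),
  Rule.mk (nat_lit 2) (nat_lit 37) (Steps.bwd (nat_lit 3) (Steps.fwd (nat_lit 1024) (Steps.fwd (nat_lit 1536) Steps.nil))) (nat_lit 10) (nat_lit 0),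
  Rule.mk (nat_lit 5) (nat_lit 47) (Steps.bwd (nat_lit 3) (Steps.bwd (nat_lit 1) (Steps.bwd (nat_lit 4) (Steps.bwd (nat_lit 1) Steps.nil)))) (nat_lit 19) (nat_lit 0),
  Rule.mk (nat_lit 6) (nat_lit 37) (Steps.bwd (nat_lit 1) (Steps.bwd (nat_lit 6) (Steps.fwd (nat_lit 512) Steps.nil))) (nat_lit 26) (nat_lit 0),
  Rule.mk (nat_lit 2) (nat_lit 47) (Steps.bwd (nat_lit 7) (Steps.bwd (nat_lit 2) (Steps.fwd (nat_lit 1536) (Steps.bwd (nat_lit 6) Steps.nil)))) (nat_lit 24) (nat_lit 2),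
  Rule.mk (nat_lit 7) (nat_lit 37) (Steps.bwd (nat_lit 1) (Steps.bwd (nat_lit 7) (Steps.fwd (nat_lit 512) Steps.nil))) (nat_lit 27) (nat_lit 1),
  Rule.mk (nat_lit 7) (nat_lit 37) (Steps.bwd (nat_lit 2) (Steps.bwd (nat_lit 6) (Steps.fwd (nat_lit 1536) Steps.nil))) (nat_lit 22) (nat_lit 3),
  Rule.mk (nat_lit 3) (nat_lit 47) (Steps.bwd (nat_lit 2) (Steps.fwd (nat_lit 512) (Steps.bwd (nat_lit 2) (Steps.fwd (nat_lit 512) Steps.nil)))) (nat_lit 6) (nat_lit 0),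
  Rule.mk (nat_lit 3) (nat_lit 47) (Steps.bwd (nat_lit 6) (Steps.fwd (nat_lit 1024) (Steps.bwd (nat_lit 7) (Steps.bwd (nat_lit 2) Steps.nil)))) (nat_lit 24) (nat_lit 0),
  Rule.mk (nat_lit 3) (nat_lit 37) (Steps.bwd (nat_lit 1) (Steps.fwd (nat_lit 1536) (Steps.fwd (nat_lit 512) Steps.nil))) (nat_lit 8) (nat_lit 1),
  Rule.mk (nat_lit 3) (nat_lit 37) (Steps.bwd (nat_lit 2) (Steps.fwd (nat_lit 1536) (Steps.bwd (nat_lit 2) Steps.nil))) (nat_lit 10) (nat_lit 1),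
  Rule.mk (nat_lit 1) (nat_lit 47) (Steps.bwd (nat_lit 2) (Steps.bwd (nat_lit 1) (Steps.fwd (nat_lit 1536) (Steps.fwd (nat_lit 1024) Steps.nil)))) (nat_lit 6) (nat_lit 2),
  Rule.mk (nat_lit 6) (nat_lit 47) (Steps.bwd (nat_lit 2) (Steps.fwd (nat_lit 3072) (Steps.fwd (nat_lit 1024) (Steps.bwd (nat_lit 3) Steps.nil)))) (nat_lit 24) (nat_lit 1),
  Rule.mk (nat_lit 6) (nat_lit 27) (Steps.bwd (nat_lit 6) (Steps.bwd (nat_lit 6) Steps.nil)) (nat_lit 14) (nat_lit 0),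
  Rule.mk (nat_lit 7) (nat_lit 27) (Steps.bwd (nat_lit 7) (Steps.fwd (nat_lit 3072) Steps.nil)) (nat_lit 15) (nat_lit 0),
  Rule.mk (nat_lit 2) (nat_lit 47) (Steps.bwd (nat_lit 7) (Steps.bwd (nat_lit 2) (Steps.bwd (nat_lit 3) (Steps.bwd (nat_lit 6) Steps.nil)))) (nat_lit 24) (nat_lit 2),
  Rule.mk (nat_lit 3) (nat_lit 47) (Steps.bwd (nat_lit 6) (Steps.fwd (nat_lit 1024) (Steps.bwd (nat_lit 7) (Steps.fwd (nat_lit 1024) Steps.nil)))) (nat_lit 24) (nat_lit 0),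
  Rule.mk (nat_lit 7) (nat_lit 27) (Steps.bwd (nat_lit 7) (Steps.bwd (nat_lit 7) Steps.nil)) (nat_lit 15) (nat_lit 0),
  Rule.mk (nat_lit 3) (nat_lit 37) (Steps.bwd (nat_lit 7) (Steps.fwd (nat_lit 1024) (Steps.fwd (nat_lit 3584) Steps.nil))) (nat_lit 22) (nat_lit 2),
  Rule.mk (nat_lit 1) (nat_lit 37) (Steps.bwd (nat_lit 7) (Steps.bwd (nat_lit 1) (Steps.bwd (nat_lit 7) Steps.nil))) (nat_lit 27) (nat_lit 0),
  Rule.mk (nat_lit 6) (nat_lit 27) (Steps.bwd (nat_lit 6) (Steps.fwd (nat_lit 3584) Steps.nil)) (nat_lit 14) (nat_lit 0),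
  Rule.mk (nat_lit 2) (nat_lit 37) (Steps.bwd (nat_lit 6) (Steps.fwd (nat_lit 1536) (Steps.bwd (nat_lit 7) Steps.nil))) (nat_lit 22) (nat_lit 0),
  Rule.mk (nat_lit 1) (nat_lit 37) (Steps.bwd (nat_lit 6) (Steps.bwd (nat_lit 1) (Steps.bwd (nat_lit 6) Steps.nil))) (nat_lit 26) (nat_lit 1),
  Rule.mk (nat_lit 3) (nat_lit 37) (Steps.bwd (nat_lit 7) (Steps.fwd (nat_lit 1024) (Steps.bwd (nat_lit 6) Steps.nil))) (nat_lit 22) (nat_lit 2),
  Rule.mk (nat_lit 1) (nat_lit 37) (Steps.bwd (nat_lit 7) (Steps.fwd (nat_lit 512) (Steps.fwd (nat_lit 3072) Steps.nil))) (nat_lit 27) (nat_lit 0),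
  Rule.mk (nat_lit 1) (nat_lit 37) (Steps.bwd (nat_lit 3) (Steps.fwd (nat_lit 512) (Steps.fwd (nat_lit 1536) Steps.nil))) (nat_lit 8) (nat_lit 0),
  Rule.mk (nat_lit 2) (nat_lit 37) (Steps.bwd (nat_lit 3) (Steps.bwd (nat_lit 2) (Steps.bwd (nat_lit 3) Steps.nil))) (nat_lit 10) (nat_lit 0),
  Rule.mk (nat_lit 6) (nat_lit 37) (Steps.bwd (nat_lit 3) (Steps.bwd (nat_lit 7) (Steps.bwd (nat_lit 2) Steps.nil))) (nat_lit 22) (nat_lit 1),
  Rule.mk (nat_lit 7) (nat_lit 47) (Steps.bwd (nat_lit 3) (Steps.bwd (nat_lit 2) (Steps.bwd (nat_lit 6) (Steps.bwd (nat_lit 2) Steps.nil)))) (nat_lit 25) (nat_lit 0),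
  Rule.mk (nat_lit 2) (nat_lit 47) (Steps.bwd (nat_lit 7) (Steps.fwd (nat_lit 1024) (Steps.bwd (nat_lit 3) (Steps.bwd (nat_lit 6) Steps.nil)))) (nat_lit 24) (nat_lit 2),
  Rule.mk (nat_lit 7) (nat_lit 37) (Steps.bwd (nat_lit 2) (Steps.bwd (nat_lit 6) (Steps.bwd (nat_lit 3) Steps.nil))) (nat_lit 22) (nat_lit 3),
  Rule.mk (nat_lit 3) (nat_lit 47) (Steps.bwd (nat_lit 6) (Steps.bwd (nat_lit 2) (Steps.bwd (nat_lit 7) (Steps.bwd (nat_lit 2) Steps.nil)))) (nat_lit 24) (nat_lit 0),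
  Rule.mk (nat_lit 6) (nat_lit 37) (Steps.bwd (nat_lit 1) (Steps.bwd (nat_lit 6) (Steps.bwd (nat_lit 1) Steps.nil))) (nat_lit 26) (nat_lit 0),
  Rule.mk (nat_lit 2) (nat_lit 47) (Steps.bwd (nat_lit 7) (Steps.fwd (nat_lit 1024) (Steps.fwd (nat_lit 1536) (Steps.bwd (nat_lit 6) Steps.nil)))) (nat_lit 24) (nat_lit 2),
  Rule.mk (nat_lit 7) (nat_lit 37) (Steps.bwd (nat_lit 1) (Steps.bwd (nat_lit 7) (Steps.bwd (nat_lit 1) Steps.nil))) (nat_lit 27) (nat_lit 1),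
  Rule.mk (nat_lit 7) (nat_lit 57) (Steps.bwd (nat_lit 4) (Steps.fwd (nat_lit 3072) (Steps.fwd (nat_lit 2560) (Steps.bwd (nat_lit 7) (Steps.bwd (nat_lit 4) Steps.nil))))) (nat_lit 28) (nat_lit 0),
  Rule.mk (nat_lit 3) (nat_lit 47) (Steps.bwd (nat_lit 2) (Steps.bwd (nat_lit 6) (Steps.fwd (nat_lit 1024) (Steps.bwd (nat_lit 7) Steps.nil)))) (nat_lit 25) (nat_lit 1),
  Rule.mk (nat_lit 5) (nat_lit 47) (Steps.bwd (nat_lit 1) (Steps.fwd (nat_lit 1536) (Steps.bwd (nat_lit 4) (Steps.bwd (nat_lit 1) Steps.nil)))) (nat_lit 18) (nat_lit 3),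
  Rule.mk (nat_lit 5) (nat_lit 37) (Steps.fwd (nat_lit 512) (Steps.fwd (nat_lit 2560) (Steps.bwd (nat_lit 3) Steps.nil))) (nat_lit 16) (nat_lit 3),
  Rule.mk (nat_lit 5) (nat_lit 37) (Steps.bwd (nat_lit 2) (Steps.bwd (nat_lit 5) (Steps.bwd (nat_lit 2) Steps.nil))) (nat_lit 21) (nat_lit 1),
  Rule.mk (nat_lit 5) (nat_lit 57) (Steps.bwd (nat_lit 6) (Steps.bwd (nat_lit 5) (Steps.fwd (nat_lit 3584) (Steps.fwd (nat_lit 2048) (Steps.fwd (nat_lit 3584) Steps.nil))))) (nat_lit 29) (nat_lit 0)]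
noncomputable def R_1 : List (Rule) := [Rule.mk (nat_lit 5) (nat_lit 37) (Steps.bwd (nat_lit 1) (Steps.bwd (nat_lit 4) (Steps.bwd (nat_lit 3) Steps.nil))) (nat_lit 16) (nat_lit 3),
  Rule.mk (nat_lit 4) (nat_lit 37) (Steps.bwd (nat_lit 2) (Steps.fwd (nat_lit 2560) (Steps.fwd (nat_lit 1024) Steps.nil))) (nat_lit 20) (nat_lit 0),
  Rule.mk (nat_lit 1) (nat_lit 47) (Steps.bwd (nat_lit 2) (Steps.bwd (nat_lit 1) (Steps.bwd (nat_lit 3) (Steps.bwd (nat_lit 2) Steps.nil)))) (nat_lit 6) (nat_lit 2),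
  Rule.mk (nat_lit 2) (nat_lit 37) (Steps.bwd (nat_lit 6) (Steps.fwd (nat_lit 1536) (Steps.fwd (nat_lit 3072) Steps.nil))) (nat_lit 22) (nat_lit 0),
  Rule.mk (nat_lit 5) (nat_lit 37) (Steps.fwd (nat_lit 1024) (Steps.bwd (nat_lit 5) (Steps.bwd (nat_lit 2) Steps.nil))) (nat_lit 21) (nat_lit 1),
  Rule.mk (nat_lit 4) (nat_lit 47) (Steps.bwd (nat_lit 1) (Steps.bwd (nat_lit 5) (Steps.fwd (nat_lit 512) (Steps.bwd (nat_lit 3) Steps.nil)))) (nat_lit 18) (nat_lit 1),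
  Rule.mk (nat_lit 4) (nat_lit 57) (Steps.fwd (nat_lit 3072) (Steps.fwd (nat_lit 2560) (Steps.fwd (nat_lit 3072) (Steps.bwd (nat_lit 4) (Steps.fwd (nat_lit 3072) Steps.nil))))) (nat_lit 28) (nat_lit 1),
  Rule.mk (nat_lit 4) (nat_lit 37) (Steps.bwd (nat_lit 2) (Steps.bwd (nat_lit 4) (Steps.bwd (nat_lit 2) Steps.nil))) (nat_lit 20) (nat_lit 0),
  Rule.mk (nat_lit 5) (nat_lit 47) (Steps.bwd (nat_lit 1) (Steps.bwd (nat_lit 3) (Steps.bwd (nat_lit 4) (Steps.fwd (nat_lit 512) Steps.nil)))) (nat_lit 18) (nat_lit 3),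
  Rule.mk (nat_lit 5) (nat_lit 37) (Steps.fwd (nat_lit 1024) (Steps.bwd (nat_lit 5) (Steps.fwd (nat_lit 1024) Steps.nil))) (nat_lit 21) (nat_lit 1),
  Rule.mk (nat_lit 4) (nat_lit 37) (Steps.bwd (nat_lit 3) (Steps.bwd (nat_lit 5) (Steps.fwd (nat_lit 512) Steps.nil))) (nat_lit 16) (nat_lit 1),
  Rule.mk (nat_lit 6) (nat_lit 57) (Steps.bwd (nat_lit 5) (Steps.bwd (nat_lit 6) (Steps.fwd (nat_lit 2048) (Steps.bwd (nat_lit 6) (Steps.bwd (nat_lit 5) Steps.nil))))) (nat_lit 29) (nat_lit 1),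
  Rule.mk (nat_lit 0) (nat_lit 47) (Steps.bwd (nat_lit 2) (Steps.bwd (nat_lit 6) (Steps.fwd (nat_lit 1536) (Steps.bwd (nat_lit 7) Steps.nil)))) (nat_lit 22) (nat_lit 3),
  Rule.mk (nat_lit 0) (nat_lit 37) (Steps.fwd (nat_lit 1536) (Steps.fwd (nat_lit 0) (Steps.fwd (nat_lit 1536) Steps.nil))) (nat_lit 30) (nat_lit 0),
  Rule.mk (nat_lit 0) (nat_lit 37) (Steps.fwd (nat_lit 1024) (Steps.bwd (nat_lit 0) (Steps.fwd (nat_lit 1024) Steps.nil))) (nat_lit 30) (nat_lit 0),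
  Rule.mk (nat_lit 4) (nat_lit 27) (Steps.bwd (nat_lit 0) (Steps.bwd (nat_lit 5) Steps.nil)) (nat_lit 30) (nat_lit 0),
  Rule.mk (nat_lit 0) (nat_lit 37) (Steps.fwd (nat_lit 2048) (Steps.fwd (nat_lit 0) (Steps.fwd (nat_lit 2560) Steps.nil))) (nat_lit 30) (nat_lit 0),
  Rule.mk (nat_lit 0) (nat_lit 37) (Steps.fwd (nat_lit 3072) (Steps.fwd (nat_lit 0) (Steps.bwd (nat_lit 6) Steps.nil))) (nat_lit 30) (nat_lit 0),
  Rule.mk (nat_lit 0) (nat_lit 47) (Steps.fwd (nat_lit 512) (Steps.bwd (nat_lit 0) (Steps.fwd (nat_lit 512) (Steps.fwd (nat_lit 0) Steps.nil)))) (nat_lit 30) (nat_lit 0),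
  Rule.mk (nat_lit 0) (nat_lit 37) (Steps.bwd (nat_lit 4) (Steps.bwd (nat_lit 0) (Steps.bwd (nat_lit 5) Steps.nil))) (nat_lit 30) (nat_lit 0),
  Rule.mk (nat_lit 0) (nat_lit 37) (Steps.bwd (nat_lit 1) (Steps.fwd (nat_lit 0) (Steps.fwd (nat_lit 512) Steps.nil))) (nat_lit 30) (nat_lit 0),
  Rule.mk (nat_lit 0) (nat_lit 37) (Steps.bwd (nat_lit 3) (Steps.fwd (nat_lit 0) (Steps.fwd (nat_lit 1536) Steps.nil))) (nat_lit 30) (nat_lit 0),
  Rule.mk (nat_lit 0) (nat_lit 37) (Steps.fwd (nat_lit 2560) (Steps.bwd (nat_lit 0) (Steps.fwd (nat_lit 2048) Steps.nil))) (nat_lit 30) (nat_lit 0),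
  Rule.mk (nat_lit 0) (nat_lit 37) (Steps.fwd (nat_lit 1536) (Steps.bwd (nat_lit 0) (Steps.fwd (nat_lit 1536) Steps.nil))) (nat_lit 30) (nat_lit 0),
  Rule.mk (nat_lit 0) (nat_lit 47) (Steps.bwd (nat_lit 5) (Steps.fwd (nat_lit 0) (Steps.fwd (nat_lit 2560) (Steps.fwd (nat_lit 0) Steps.nil)))) (nat_lit 30) (nat_lit 0),
  Rule.mk (nat_lit 0) (nat_lit 37) (Steps.bwd (nat_lit 3) (Steps.fwd (nat_lit 0) (Steps.bwd (nat_lit 3) Steps.nil))) (nat_lit 30) (nat_lit 0),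
  Rule.mk (nat_lit 0) (nat_lit 37) (Steps.bwd (nat_lit 6) (Steps.fwd (nat_lit 0) (Steps.fwd (nat_lit 3072) Steps.nil))) (nat_lit 30) (nat_lit 0),
  Rule.mk (nat_lit 0) (nat_lit 47) (Steps.fwd (nat_lit 2048) (Steps.bwd (nat_lit 0) (Steps.fwd (nat_lit 2560) (Steps.fwd (nat_lit 0) Steps.nil)))) (nat_lit 30) (nat_lit 0),
  Rule.mk (nat_lit 0) (nat_lit 37) (Steps.fwd (nat_lit 3072) (Steps.fwd (nat_lit 0) (Steps.fwd (nat_lit 3584) Steps.nil))) (nat_lit 30) (nat_lit 0),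
  Rule.mk (nat_lit 5) (nat_lit 27) (Steps.bwd (nat_lit 0) (Steps.bwd (nat_lit 4) Steps.nil)) (nat_lit 30) (nat_lit 0),
  Rule.mk (nat_lit 0) (nat_lit 37) (Steps.fwd (nat_lit 2048) (Steps.bwd (nat_lit 0) (Steps.fwd (nat_lit 2560) Steps.nil))) (nat_lit 30) (nat_lit 0),
  Rule.mk (nat_lit 0) (nat_lit 47) (Steps.bwd (nat_lit 0) (Steps.bwd (nat_lit 7) (Steps.fwd (nat_lit 0) (Steps.fwd (nat_lit 3584) Steps.nil)))) (nat_lit 30) (nat_lit 0),
  Rule.mk (nat_lit 4) (nat_lit 27) (Steps.bwd (nat_lit 0) (Steps.fwd (nat_lit 2048) Steps.nil)) (nat_lit 30) (nat_lit 0),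
  Rule.mk (nat_lit 0) (nat_lit 27) (Steps.fwd (nat_lit 0) (Steps.fwd (nat_lit 0) Steps.nil)) (nat_lit 30) (nat_lit 0),
  Rule.mk (nat_lit 0) (nat_lit 37) (Steps.bwd (nat_lit 7) (Steps.fwd (nat_lit 0) (Steps.bwd (nat_lit 6) Steps.nil))) (nat_lit 30) (nat_lit 0),
  Rule.mk (nat_lit 0) (nat_lit 67) (Steps.fwd (nat_lit 3584) (Steps.fwd (nat_lit 2048) (Steps.bwd (nat_lit 6) (Steps.bwd (nat_lit 5) (Steps.bwd (nat_lit 6) (Steps.bwd (nat_lit 5) Steps.nil)))))) (nat_lit 29) (nat_lit 0),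
  Rule.mk (nat_lit 0) (nat_lit 37) (Steps.bwd (nat_lit 1) (Steps.fwd (nat_lit 0) (Steps.bwd (nat_lit 1) Steps.nil))) (nat_lit 30) (nat_lit 0),
  Rule.mk (nat_lit 0) (nat_lit 37) (Steps.bwd (nat_lit 2) (Steps.fwd (nat_lit 0) (Steps.fwd (nat_lit 1024) Steps.nil))) (nat_lit 30) (nat_lit 0),
  Rule.mk (nat_lit 0) (nat_lit 37) (Steps.bwd (nat_lit 4) (Steps.fwd (nat_lit 0) (Steps.bwd (nat_lit 5) Steps.nil))) (nat_lit 30) (nat_lit 0),
  Rule.mk (nat_lit 0) (nat_lit 37) (Steps.bwd (nat_lit 6) (Steps.bwd (nat_lit 0) (Steps.fwd (nat_lit 3072) Steps.nil))) (nat_lit 30) (nat_lit 0),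
  Rule.mk (nat_lit 0) (nat_lit 37) (Steps.fwd (nat_lit 3072) (Steps.bwd (nat_lit 0) (Steps.fwd (nat_lit 3584) Steps.nil))) (nat_lit 30) (nat_lit 0),
  Rule.mk (nat_lit 0) (nat_lit 37) (Steps.fwd (nat_lit 3584) (Steps.bwd (nat_lit 0) (Steps.bwd (nat_lit 7) Steps.nil))) (nat_lit 30) (nat_lit 0),
  Rule.mk (nat_lit 0) (nat_lit 47) (Steps.bwd (nat_lit 7) (Steps.fwd (nat_lit 0) (Steps.bwd (nat_lit 6) (Steps.fwd (nat_lit 0) Steps.nil)))) (nat_lit 30) (nat_lit 0),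
  Rule.mk (nat_lit 0) (nat_lit 47) (Steps.bwd (nat_lit 3) (Steps.bwd (nat_lit 0) (Steps.bwd (nat_lit 3) (Steps.fwd (nat_lit 0) Steps.nil)))) (nat_lit 30) (nat_lit 0),
  Rule.mk (nat_lit 7) (nat_lit 27) (Steps.bwd (nat_lit 0) (Steps.bwd (nat_lit 6) Steps.nil)) (nat_lit 30) (nat_lit 0),
  Rule.mk (nat_lit 6) (nat_lit 27) (Steps.bwd (nat_lit 0) (Steps.fwd (nat_lit 3072) Steps.nil)) (nat_lit 30) (nat_lit 0),
  Rule.mk (nat_lit 0) (nat_lit 47) (Steps.bwd (nat_lit 4) (Steps.bwd (nat_lit 0) (Steps.fwd (nat_lit 2048) (Steps.fwd (nat_lit 0) Steps.nil)))) (nat_lit 30) (nat_lit 0),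
  Rule.mk (nat_lit 3) (nat_lit 27) (Steps.bwd (nat_lit 0) (Steps.fwd (nat_lit 1536) Steps.nil)) (nat_lit 30) (nat_lit 0),
  Rule.mk (nat_lit 7) (nat_lit 27) (Steps.bwd (nat_lit 0) (Steps.fwd (nat_lit 3584) Steps.nil)) (nat_lit 30) (nat_lit 0),
  Rule.mk (nat_lit 3) (nat_lit 27) (Steps.bwd (nat_lit 0) (Steps.bwd (nat_lit 3) Steps.nil)) (nat_lit 30) (nat_lit 0),
  Rule.mk (nat_lit 0) (nat_lit 47) (Steps.fwd (nat_lit 2560) (Steps.fwd (nat_lit 1536) (Steps.bwd (nat_lit 5) (Steps.bwd (nat_lit 1) Steps.nil)))) (nat_lit 16) (nat_lit 0),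
  Rule.mk (nat_lit 0) (nat_lit 57) (Steps.bwd (nat_lit 0) (Steps.fwd (nat_lit 2560) (Steps.fwd (nat_lit 0) (Steps.bwd (nat_lit 5) (Steps.fwd (nat_lit 0) Steps.nil))))) (nat_lit 30) (nat_lit 0),
  Rule.mk (nat_lit 0) (nat_lit 37) (Steps.bwd (nat_lit 6) (Steps.bwd (nat_lit 0) (Steps.bwd (nat_lit 7) Steps.nil))) (nat_lit 30) (nat_lit 0),
  Rule.mk (nat_lit 2) (nat_lit 27) (Steps.bwd (nat_lit 0) (Steps.bwd (nat_lit 2) Steps.nil)) (nat_lit 30) (nat_lit 0),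
  Rule.mk (nat_lit 1) (nat_lit 27) (Steps.bwd (nat_lit 0) (Steps.bwd (nat_lit 1) Steps.nil)) (nat_lit 30) (nat_lit 0),
  Rule.mk (nat_lit 5) (nat_lit 27) (Steps.bwd (nat_lit 0) (Steps.fwd (nat_lit 2560) Steps.nil)) (nat_lit 30) (nat_lit 0)]
noncomputable def R : List (List (Rule)) := [R_0, R_1]
def LW : List Word := [[], [0], [2], [4], [6], [7], [8], [9]]
def par : Par := ⟨9, 3, 12, 21, 511, 4095, 2097151⟩
theorem hpar : par.ok := by decide
theorem hR0_0 : lall (R) (fun l => lall l (ruleOK Rk3 LW par)) = true := by decide +kernel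
theorem hR0 : lall (R) (fun l => lall l (ruleOK Rk3 LW par)) = true := hR0_0
theorem hR : RulesOK Rk3 LW par R := rulesOK_of rfl hR0
def cols : List (ℕ × ℕ) := [(512, 1), (1024, 2), (1536, 3), (2048, 5), (3072, 7)]
theorem hcols : lall cols (colOK Rk3 LW par) = true := by decide +kernel
noncomputable def JS0 : List ℕ := [nat_lit 0x1b128493a000362e092706112849362a898020946807014493200804241813057120b8022b88e5802038472a0708c500204c46260688a444703445242688844000040d1108002018142206028431e00086384e0240110c680c00884304910c420a23000208b10801120411421004220822449110401002082200700046114400c238822005118451084108230882083114441084104210862081,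
  nat_lit 0x20d0575a2c0042d0ae7c33168566c1b0ae2b1d000321d4566a398ae2b1b1885901c57683d8b22b33008051559010030a8c4581d454600186629af16c524c04816292e0080f145681e282c0082b141581c27a91440e13d50ae2729000010a44e50008080589c9c0b135300026a5090250084d4827806268988c060044b4432098259b13c00129089600842252012c021344a3e3109a249e,
  nat_lit 0x2c001822004008c084071d86026008302f96188061805f86380002f4205c6417a08f22983600009005e000177e0a8002e3e1c4600005b7a018c02e0b6f00016d28bc2e0b6cc0016d4800178900a8b6ec781705b0a1d064010b8905e00c5c16d180c008b4883016c5a702f0002ca1168010bc59402d0042e0b27c35170586c170b22c3a000310bc5872198b22c381700216859463c0b42c9b1740016108b2010ee2c37,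
  nat_lit 0x550143800300c2028cf7c14016f09e02929744f0183c9c0302a0210b704b01830ac2380c165b108050b2d0060780a0fd90800405ac022020395c9101026ac2100612550400402ea000380063b5306c03036902a010154470006801c000193c740000e9c0c02a000dd340f0985a1f801983e00009cb1b8001e250300101205491cc0101e402e000cc200100086140148e1b05e008c5186318861700000e1745,
  nat_lit 0x32c0001000e655809781701af1bc02f21ec06e23b80dc0091240329b78e004ee2f009da028d4041b1b0061b40811358ec040cb8c041ac0017f580003e2010130180cb84600a2d552cc051bb50a8028cda454010b2d00200605e7220022a67190008a598c800052ca0015a0286a4a89d90bf00ef186035e1b803c23c00f84a801c45c60a00d780100b111602e1,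
  nat_lit 0xd6013684202f83ac04ee04809c0e800fb018001a3d40000b1000020020d003d0ce00405c64100003e8]
theorem S0_c : blocks (facts 9 3 12 21 511 4095 2097151 10 1023 7 127 A R 32) 32 JS0 324 = true := by decide +kernel
theorem S0 : On (Step.{u} Rk3 LW par A) 324 516 :=
  steps_of_blocks hpar hR S0_c (by decide +kernel)
theorem D0_c : allB (defOK 9 12 21 511 2097151 325 A K) 1 2 = true := by decide +kernel
theorem D0 : On (fun r => defOK par.W par.WL par.E par.mW par.mE 325 A K r = true) 256 384 :=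
  On.of_allB D0_c
noncomputable def JW0 : List ℕ := [nat_lit 0x2d05e0c81a030]
theorem W0_c : blocks (rows 9 3 12 21 511 4095 2097151 11 2047 55 A 516 1 cols 25) 25 JW0 0 = true := by decide +kernel
theorem W0 : On (Row.{u} Rk3 LW par A 516 1 cols) 0 25 :=
  rows_of_blocks hpar (by decide) hcols W0_c (by decide +kernel)
theorem idx : Idx.{u} Rk3 [[0], [2], [4], [6], [8]] [] 1 :=
  idx_of_cert hpar hR (K := K) (by decide +kernel) (T := 325) (T' := 384) (by decide) D0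
    (subs := []) (by decide +kernel) (T1 := 324) (by decide) (N := 516) S0
    (by decide) (n' := 25) (by decide) W0 (by decide +kernel) (by decide +kernel)
end k3
namespace k5
noncomputable def A_0 : List (ℕ) := [nat_lit 0x4019fc7fd2a8fe47d1facfb3f19f47df3e0fa8589f24f83e11ee7bc26cf62791ea8f43d292e79a3c8f284a9e2cef3c392677f248eee759db8943b39d475f244ea2749d388d3a19cc73e378e6e431cbcdc39311871f36ce2c441c28e03809be6fe22cde46d1ba4dc37390e6d9368dac429b2cd83639046bf338d6c421abccd35310069a348d22689a3883341198679338cee4099a4cc3330fa65b320cae3d9938c03238ec63f2f8c6c3e18bcbd3130f061a308c226098387b3011785f92f8bee3b97a4bc2f30ea5da2e8ba25c9738732e11685b92d8b6e3896a4b42d30da59f1acb2c571628b02c095e57e1acae45515a4ac2b38ce5592a8aac329528a52a094e53f188a625294b85e29394651f160a2c2b1424a02830a84fa2749e24e93b84e2711364d92689ac2613289526092e4bf1209624a92b84625192249d1109284492344324290e47c1148ea4311b04123091645a2288a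82211248522110e43d1088644290b03e21190241d0f08283c9034372028ee3fc0f47ea3b0fb0391f08f63da1e87a81e0f24751e10ee3bd0e07643a8eb0361d18e239d0b8728348e34291c28ce37c0bc6ea330db02b1b08d635a1a86a8170d24651a10ce33d0a8664328cb0281918c431c16862a128c345818204e2fd15c5e8118ba45c1710b62dc0985a22b0b28581628482ba158568100aac5215283c29c12852a0c8a344814203e27d11c4e80d89a44c13109625c0784a22309284812283423a1184680c08ac4211382c21e0e842e0a883c3810302e1ff0dc3ec0987a83c0f08761de0583a41b0724380e38281b90d836c0806ac330d305819f02432e1506380f0c301617a0b82e21685b80e0b10501590a82ae050524280a301013b09026e0204b81c09380411f06822c02843c1908300c0fa0781e20e83b8040710300d90681ae038324180630000bb05016a0302b00c05280209d028128038234090420080790380e40681b00603081005a0280aa0281280802200003a0180620180a40401180401b00002400002400,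
  nat_lit 0x1371364b326c9564d130c9912f93223f2609644b89589621692847a24c9264991a892244924204248904489114912399202152408d24711908d10611844a2308764608b08b21991642b2288864488148910e91043121c3f84306d0841f91084192107f441904c831ea9063ea208812410770822011023c52047f2400fcc800e29003eb1fc7b83f8fa47e0ea8fc3e41f43983e0f287c1dd8f81ec1ec7663d8eac7a1e18f21dd1e437a3c0ec4770ea0ec32d1d02883a0dc8741cc8e837a1cc726398e24720b60e43821c468a388dcc700aa8e036b1bc6d23705946e1b20da15c1b0694360cec6c0be0d63331ac656350d0c690b68d214d1a0662338590660820c831118c228318c28621668c42fb18424a308bcc601788be10d17c5d82f04705d1618ba13c1705762e0acc5b1648b62cb16822a2d04b45915c8b010c15c1882a8a84551410a829b1505222983b0531268a427b1441aa2889cc501320a027113c1ca2789b04e06e09a2521344862683f04c11d89823312c4962503b44a0668922391201c82386dc4511108a1f911440222086c440ef8881f110c424218258431048841cf1083f620829c410f98801e61003e41f823c3f0f707c09e0f43a21e87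0c3d05f0781bb0f03661d872c3a04b8740af0e43741c0238370a386a0460d43341a057c3302b86405e0bc2c21781f82e0a185a15b0b00de16013c2b0a50540660a418e1380182709904e10909c2221304ac2607784c1010942441280782508c8480df0902161180fc230818440f608820410803c2107f04003607c1c20f834c1f01703c0cb0781860e836c1c00f83801706c1940d00381902282e00405c1140b82c41704902c0ab0580da0b02841500e02a09a0500ba0a022c130168260830481020880541103e02002403c0c407814c0f01e01c04b03808606816c0c00e81800d02c0920500500900880e00b0180140280680444121e8794310e28521ad0b431a1485d3990ac84212d0642295a83c3ed06a5720b4ff41215e81d3f902855a02500,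
  nat_lit 0x10821c0a84241502782810800409a1f0434140270261040180500b01440e00c82605300405a0282bc350590440b30140560500745003981e0180b415a0c81989308605c0ac0600ce4a043c0a0360aa0700a81602881d02d02689e10913415a2704205308201a0650ac15e1602a82805703c06b0b80982602b02c0248a81020a808c2a840c460580500480701f40d83f0520828920aa0681fa17812c1f07d81a09c0782020502541807f01009700c1f20103d41907f8160990181f00283c80007a0020f32ea9c872d2ecb787311dc512538aa49e1508dc280a20ec1541da2a03c05007889e0ee2501424982808d04f92209e24813a836440e388820790f38aa1e87343d09c872190e4413a1a72c4350c486a05d0c42f20e85242ce7a851f550940d2128414250448420ed083f2a1081241d0628395910741520c7ed41904282a06d052aaa0a8044110228196150340620455c404fb4809e59013fda027b7400af8801ffcf33f89fe7ea3fcf4e7f1610fe3f31ea5753f4f7c7e9f84fd2b69f87dc2b0fa27d9f3cfa2621f27b23e4f467c9390f83cd9f07933dcf527b9354f625a9ea7993d09987991b8f13b19dc48f3b88ee761d48eb23b1d442e3a0e647391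58e73949cc6ef398e447290fce53899c8706390e2471913ce33871c4446384dc6709198e036d9c06d337cdd66f115cde21b9ba6da37089c6d8fb8d93549b26b9360d566b903cd73519ac6a23547ee6a9a78d42031a667334c84c6919acd23319a267b3407fe68105ccf33519c3f6334ca46598a4cb32599460f328c84648f58c931c9905ff320c646398acc71df98e623318c2c631888c51e798a61e31078c6197ccc31f31845eb308bc66097e8c12fd9803d730076e5f97a8be1e717a3862ecb825d8e98ba2d19725bb2e06fe5c0e5cb72d516c3762d4b26598d58b21a31625712c4ac6588d98b02ad9605532bcad4578d5cae19b95a55a2b069c55950ca918395231f2a0a64538bf8a61639482ae2849e65093aca014393e27e27849c4e13249c,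
  nat_lit 0x800006000006000000200000060000040101000202100400a00800c0301080600500c0b22c7164590520acc591648b210d164a40540b00630820b02b02a4580320b005c1581442c816c03c108b205f0178402e018c032028018201700c82b01800040004002400380a01c014008000068031580f000e00c2101304002708006e1080940500580a0850800440280180004380000808804e0000080600580a00f1e38f00582142501b10b40300407c018114010050020160040200180380204380600401008800801c0002184e03701001c0701100700500e03e0380260780fc0f00910f4000000840000440702080e01004807e0901000200400000904002c0981107806202004104007c0981141200a82204305407e0881083f0200220170d807a1b00ec3701e0ec0c70d80703b82103b01e8ee07b1e28ec1b80e8c4a6386e0391dc1041d00f07603e0f80831ec1083c81fc7604098e0cb1e00fa3d01f8cb86218c0ca314190620324caa629970c920b9963ef32483e651098c62138f83f631081c628ffcc832c19e648330ca06898c0d21f01ac620334c50671900d01f4180418304c70698ee0d41f81864082f47f05f9000be35217c5ec354d9a6088903f21710e21d21c42a2188b08510688005f09008c10015c2608b81207e0000fe1387e09321c1d04382204304810a08b114176228250400468480302141ca04701801c070400350980640480780001704e0310f811e428388420489280bb1101740b81401603a01601b]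
noncomputable def A : List (List (ℕ)) := [A_0]
noncomputable def K_0 : List (ℕ) := [nat_lit 0x7f9fd7f1fb7e9f97e1f77d9f57d1f37c9f17c1ef7b9ed7b1eb7a9e97a1e7799e5791e3789e1781df779dd771db769d9761d7759d5751d3749d1741cf739cd731cb729c9721c7719c5711c3709c1701bf6f9bd6f1bb6e9b96e1b76d9b56d1b36c9b16c1af6b9ad6b1ab6a9a96a1a7699a5691a3689a16819f6799d6719b66999661976599565193649916418f6398d6318b62989621876198561183609816017f5f97d5f17b5e9795e1775d9755d1735c9715c16f5b96d5b16b5a9695a1675996559163589615815f5795d5715b56959561575595555153549515414f5394d5314b52949521475194551143509415013f4f93d4f13b4e9394e1374d9354d1334c9314c12f4b92d4b12b4a9294a1274992549123489214811f4791d4711b46919461174591545113449114410f4390d4310b429094210741905411034090140000,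
  nat_lit 0x20f83a0d8320b82a098220781a058120380a01801ff]
noncomputable def K : List (List (ℕ)) := [K_0]
noncomputable def R_0 : List (Rule) := [Rule.mk (nat_lit 2) (nat_lit 41) (Steps.bwd (nat_lit 3) (Steps.bwd (nat_lit 2) (Steps.fwd (nat_lit 3072) Steps.nil))) (nat_lit 10) (nat_lit 0),
  Rule.mk (nat_lit 2) (nat_lit 52) (Steps.bwd (nat_lit 1) (Steps.bwd (nat_lit 3) (Steps.bwd (nat_lit 2) (Steps.fwd (nat_lit 1024) Steps.nil)))) (nat_lit 6) (nat_lit 3),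
  Rule.mk (nat_lit 3) (nat_lit 41) (Steps.bwd (nat_lit 1) (Steps.bwd (nat_lit 3) (Steps.fwd (nat_lit 1024) Steps.nil))) (nat_lit 8) (nat_lit 1),
  Rule.mk (nat_lit 1) (nat_lit 52) (Steps.bwd (nat_lit 2) (Steps.bwd (nat_lit 1) (Steps.bwd (nat_lit 3) (Steps.fwd (nat_lit 2048) Steps.nil)))) (nat_lit 6) (nat_lit 2),
  Rule.mk (nat_lit 4) (nat_lit 41) (Steps.bwd (nat_lit 2) (Steps.bwd (nat_lit 4) (Steps.fwd (nat_lit 2048) Steps.nil))) (nat_lit 20) (nat_lit 0),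
  Rule.mk (nat_lit 1) (nat_lit 52) (Steps.bwd (nat_lit 5) (Steps.bwd (nat_lit 1) (Steps.bwd (nat_lit 3) (Steps.bwd (nat_lit 4) Steps.nil)))) (nat_lit 18) (nat_lit 2),
  Rule.mk (nat_lit 5) (nat_lit 41) (Steps.bwd (nat_lit 2) (Steps.bwd (nat_lit 5) (Steps.fwd (nat_lit 2048) Steps.nil))) (nat_lit 21) (nat_lit 1),
  Rule.mk (nat_lit 5) (nat_lit 41) (Steps.bwd (nat_lit 1) (Steps.bwd (nat_lit 4) (Steps.fwd (nat_lit 3072) Steps.nil))) (nat_lit 16) (nat_lit 3),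
  Rule.mk (nat_lit 3) (nat_lit 52) (Steps.bwd (nat_lit 1) (Steps.fwd (nat_lit 2048) (Steps.bwd (nat_lit 1) (Steps.fwd (nat_lit 2048) Steps.nil)))) (nat_lit 7) (nat_lit 1),
  Rule.mk (nat_lit 3) (nat_lit 52) (Steps.bwd (nat_lit 4) (Steps.bwd (nat_lit 1) (Steps.bwd (nat_lit 5) (Steps.bwd (nat_lit 1) Steps.nil)))) (nat_lit 18) (nat_lit 0),
  Rule.mk (nat_lit 3) (nat_lit 41) (Steps.bwd (nat_lit 2) (Steps.fwd (nat_lit 3072) (Steps.fwd (nat_lit 2048) Steps.nil))) (nat_lit 10) (nat_lit 1),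
  Rule.mk (nat_lit 3) (nat_lit 41) (Steps.bwd (nat_lit 1) (Steps.fwd (nat_lit 3072) (Steps.bwd (nat_lit 1) Steps.nil))) (nat_lit 8) (nat_lit 1),
  Rule.mk (nat_lit 2) (nat_lit 52) (Steps.bwd (nat_lit 1) (Steps.fwd (nat_lit 3072) (Steps.bwd (nat_lit 2) (Steps.fwd (nat_lit 1024) Steps.nil)))) (nat_lit 6) (nat_lit 3),
  Rule.mk (nat_lit 4) (nat_lit 52) (Steps.bwd (nat_lit 1) (Steps.fwd (nat_lit 4096) (Steps.fwd (nat_lit 1024) (Steps.fwd (nat_lit 3072) Steps.nil)))) (nat_lit 18) (nat_lit 1),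
  Rule.mk (nat_lit 4) (nat_lit 30) (Steps.bwd (nat_lit 4) (Steps.bwd (nat_lit 4) Steps.nil)) (nat_lit 12) (nat_lit 0),
  Rule.mk (nat_lit 5) (nat_lit 30) (Steps.bwd (nat_lit 5) (Steps.fwd (nat_lit 4096) Steps.nil)) (nat_lit 13) (nat_lit 0),
  Rule.mk (nat_lit 3) (nat_lit 52) (Steps.bwd (nat_lit 4) (Steps.fwd (nat_lit 1024) (Steps.bwd (nat_lit 5) (Steps.fwd (nat_lit 1024) Steps.nil)))) (nat_lit 18) (nat_lit 0),
  Rule.mk (nat_lit 5) (nat_lit 30) (Steps.bwd (nat_lit 5) (Steps.bwd (nat_lit 5) Steps.nil)) (nat_lit 13) (nat_lit 0),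
  Rule.mk (nat_lit 3) (nat_lit 41) (Steps.bwd (nat_lit 5) (Steps.fwd (nat_lit 1024) (Steps.fwd (nat_lit 5120) Steps.nil))) (nat_lit 16) (nat_lit 2),
  Rule.mk (nat_lit 2) (nat_lit 41) (Steps.bwd (nat_lit 5) (Steps.bwd (nat_lit 2) (Steps.bwd (nat_lit 5) Steps.nil))) (nat_lit 21) (nat_lit 0),
  Rule.mk (nat_lit 4) (nat_lit 30) (Steps.bwd (nat_lit 4) (Steps.fwd (nat_lit 5120) Steps.nil)) (nat_lit 12) (nat_lit 0),
  Rule.mk (nat_lit 1) (nat_lit 41) (Steps.bwd (nat_lit 4) (Steps.fwd (nat_lit 3072) (Steps.bwd (nat_lit 5) Steps.nil))) (nat_lit 16) (nat_lit 0),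
  Rule.mk (nat_lit 3) (nat_lit 41) (Steps.bwd (nat_lit 5) (Steps.bwd (nat_lit 1) (Steps.bwd (nat_lit 4) Steps.nil))) (nat_lit 16) (nat_lit 2),
  Rule.mk (nat_lit 2) (nat_lit 41) (Steps.bwd (nat_lit 5) (Steps.fwd (nat_lit 2048) (Steps.fwd (nat_lit 4096) Steps.nil))) (nat_lit 21) (nat_lit 0),
  Rule.mk (nat_lit 1) (nat_lit 41) (Steps.bwd (nat_lit 3) (Steps.bwd (nat_lit 1) (Steps.bwd (nat_lit 3) Steps.nil))) (nat_lit 8) (nat_lit 0),
  Rule.mk (nat_lit 2) (nat_lit 41) (Steps.bwd (nat_lit 3) (Steps.fwd (nat_lit 2048) (Steps.fwd (nat_lit 3072) Steps.nil))) (nat_lit 10) (nat_lit 0),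
  Rule.mk (nat_lit 4) (nat_lit 41) (Steps.bwd (nat_lit 3) (Steps.bwd (nat_lit 5) (Steps.bwd (nat_lit 1) Steps.nil))) (nat_lit 16) (nat_lit 1),
  Rule.mk (nat_lit 5) (nat_lit 52) (Steps.bwd (nat_lit 3) (Steps.bwd (nat_lit 1) (Steps.bwd (nat_lit 4) (Steps.bwd (nat_lit 1) Steps.nil)))) (nat_lit 19) (nat_lit 0),
  Rule.mk (nat_lit 6) (nat_lit 41) (Steps.bwd (nat_lit 1) (Steps.bwd (nat_lit 6) (Steps.fwd (nat_lit 1024) Steps.nil))) (nat_lit 26) (nat_lit 0),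
  Rule.mk (nat_lit 2) (nat_lit 52) (Steps.bwd (nat_lit 7) (Steps.bwd (nat_lit 2) (Steps.fwd (nat_lit 3072) (Steps.bwd (nat_lit 6) Steps.nil)))) (nat_lit 24) (nat_lit 2),
  Rule.mk (nat_lit 7) (nat_lit 41) (Steps.bwd (nat_lit 1) (Steps.bwd (nat_lit 7) (Steps.fwd (nat_lit 1024) Steps.nil))) (nat_lit 27) (nat_lit 1),
  Rule.mk (nat_lit 7) (nat_lit 41) (Steps.bwd (nat_lit 2) (Steps.bwd (nat_lit 6) (Steps.fwd (nat_lit 3072) Steps.nil))) (nat_lit 22) (nat_lit 3),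
  Rule.mk (nat_lit 3) (nat_lit 52) (Steps.bwd (nat_lit 2) (Steps.fwd (nat_lit 1024) (Steps.bwd (nat_lit 2) (Steps.fwd (nat_lit 1024) Steps.nil)))) (nat_lit 6) (nat_lit 0),
  Rule.mk (nat_lit 3) (nat_lit 52) (Steps.bwd (nat_lit 6) (Steps.fwd (nat_lit 2048) (Steps.bwd (nat_lit 7) (Steps.bwd (nat_lit 2) Steps.nil)))) (nat_lit 24) (nat_lit 0),
  Rule.mk (nat_lit 3) (nat_lit 41) (Steps.bwd (nat_lit 1) (Steps.fwd (nat_lit 3072) (Steps.fwd (nat_lit 1024) Steps.nil))) (nat_lit 8) (nat_lit 1),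
  Rule.mk (nat_lit 3) (nat_lit 41) (Steps.bwd (nat_lit 2) (Steps.fwd (nat_lit 3072) (Steps.bwd (nat_lit 2) Steps.nil))) (nat_lit 10) (nat_lit 1),
  Rule.mk (nat_lit 1) (nat_lit 52) (Steps.bwd (nat_lit 2) (Steps.bwd (nat_lit 1) (Steps.fwd (nat_lit 3072) (Steps.fwd (nat_lit 2048) Steps.nil)))) (nat_lit 6) (nat_lit 2),
  Rule.mk (nat_lit 6) (nat_lit 52) (Steps.bwd (nat_lit 2) (Steps.fwd (nat_lit 6144) (Steps.fwd (nat_lit 2048) (Steps.bwd (nat_lit 3) Steps.nil)))) (nat_lit 24) (nat_lit 1),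
  Rule.mk (nat_lit 6) (nat_lit 30) (Steps.bwd (nat_lit 6) (Steps.bwd (nat_lit 6) Steps.nil)) (nat_lit 14) (nat_lit 0),
  Rule.mk (nat_lit 7) (nat_lit 30) (Steps.bwd (nat_lit 7) (Steps.fwd (nat_lit 6144) Steps.nil)) (nat_lit 15) (nat_lit 0),
  Rule.mk (nat_lit 2) (nat_lit 52) (Steps.bwd (nat_lit 7) (Steps.bwd (nat_lit 2) (Steps.bwd (nat_lit 3) (Steps.bwd (nat_lit 6) Steps.nil)))) (nat_lit 24) (nat_lit 2),
  Rule.mk (nat_lit 3) (nat_lit 52) (Steps.bwd (nat_lit 6) (Steps.fwd (nat_lit 2048) (Steps.bwd (nat_lit 7) (Steps.fwd (nat_lit 2048) Steps.nil)))) (nat_lit 24) (nat_lit 0),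
  Rule.mk (nat_lit 7) (nat_lit 30) (Steps.bwd (nat_lit 7) (Steps.bwd (nat_lit 7) Steps.nil)) (nat_lit 15) (nat_lit 0),
  Rule.mk (nat_lit 3) (nat_lit 41) (Steps.bwd (nat_lit 7) (Steps.fwd (nat_lit 2048) (Steps.fwd (nat_lit 7168) Steps.nil))) (nat_lit 22) (nat_lit 2),
  Rule.mk (nat_lit 1) (nat_lit 41) (Steps.bwd (nat_lit 7) (Steps.bwd (nat_lit 1) (Steps.bwd (nat_lit 7) Steps.nil))) (nat_lit 27) (nat_lit 0),
  Rule.mk (nat_lit 6) (nat_lit 30) (Steps.bwd (nat_lit 6) (Steps.fwd (nat_lit 7168) Steps.nil)) (nat_lit 14) (nat_lit 0),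
  Rule.mk (nat_lit 2) (nat_lit 41) (Steps.bwd (nat_lit 6) (Steps.fwd (nat_lit 3072) (Steps.bwd (nat_lit 7) Steps.nil))) (nat_lit 22) (nat_lit 0),
  Rule.mk (nat_lit 1) (nat_lit 41) (Steps.bwd (nat_lit 6) (Steps.bwd (nat_lit 1) (Steps.bwd (nat_lit 6) Steps.nil))) (nat_lit 26) (nat_lit 1),
  Rule.mk (nat_lit 3) (nat_lit 41) (Steps.bwd (nat_lit 7) (Steps.fwd (nat_lit 2048) (Steps.bwd (nat_lit 6) Steps.nil))) (nat_lit 22) (nat_lit 2),
  Rule.mk (nat_lit 1) (nat_lit 41) (Steps.bwd (nat_lit 7) (Steps.fwd (nat_lit 1024) (Steps.fwd (nat_lit 6144) Steps.nil))) (nat_lit 27) (nat_lit 0),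
  Rule.mk (nat_lit 1) (nat_lit 41) (Steps.bwd (nat_lit 3) (Steps.fwd (nat_lit 1024) (Steps.fwd (nat_lit 3072) Steps.nil))) (nat_lit 8) (nat_lit 0),
  Rule.mk (nat_lit 2) (nat_lit 41) (Steps.bwd (nat_lit 3) (Steps.bwd (nat_lit 2) (Steps.bwd (nat_lit 3) Steps.nil))) (nat_lit 10) (nat_lit 0),
  Rule.mk (nat_lit 6) (nat_lit 41) (Steps.bwd (nat_lit 3) (Steps.bwd (nat_lit 7) (Steps.bwd (nat_lit 2) Steps.nil))) (nat_lit 22) (nat_lit 1),
  Rule.mk (nat_lit 7) (nat_lit 52) (Steps.bwd (nat_lit 3) (Steps.bwd (nat_lit 2) (Steps.bwd (nat_lit 6) (Steps.bwd (nat_lit 2) Steps.nil)))) (nat_lit 25) (nat_lit 0),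
  Rule.mk (nat_lit 2) (nat_lit 52) (Steps.bwd (nat_lit 7) (Steps.fwd (nat_lit 2048) (Steps.bwd (nat_lit 3) (Steps.bwd (nat_lit 6) Steps.nil)))) (nat_lit 24) (nat_lit 2),
  Rule.mk (nat_lit 7) (nat_lit 41) (Steps.bwd (nat_lit 2) (Steps.bwd (nat_lit 6) (Steps.bwd (nat_lit 3) Steps.nil))) (nat_lit 22) (nat_lit 3),
  Rule.mk (nat_lit 3) (nat_lit 52) (Steps.bwd (nat_lit 6) (Steps.bwd (nat_lit 2) (Steps.bwd (nat_lit 7) (Steps.bwd (nat_lit 2) Steps.nil)))) (nat_lit 24) (nat_lit 0),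
  Rule.mk (nat_lit 6) (nat_lit 52) (Steps.bwd (nat_lit 2) (Steps.fwd (nat_lit 6144) (Steps.fwd (nat_lit 2048) (Steps.fwd (nat_lit 3072) Steps.nil)))) (nat_lit 24) (nat_lit 1),
  Rule.mk (nat_lit 6) (nat_lit 41) (Steps.bwd (nat_lit 1) (Steps.bwd (nat_lit 6) (Steps.bwd (nat_lit 1) Steps.nil))) (nat_lit 26) (nat_lit 0),
  Rule.mk (nat_lit 2) (nat_lit 52) (Steps.bwd (nat_lit 7) (Steps.fwd (nat_lit 2048) (Steps.fwd (nat_lit 3072) (Steps.bwd (nat_lit 6) Steps.nil)))) (nat_lit 24) (nat_lit 2),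
  Rule.mk (nat_lit 7) (nat_lit 41) (Steps.bwd (nat_lit 1) (Steps.bwd (nat_lit 7) (Steps.bwd (nat_lit 1) Steps.nil))) (nat_lit 27) (nat_lit 1),
  Rule.mk (nat_lit 1) (nat_lit 41) (Steps.bwd (nat_lit 7) (Steps.fwd (nat_lit 1024) (Steps.bwd (nat_lit 7) Steps.nil))) (nat_lit 27) (nat_lit 0),
  Rule.mk (nat_lit 1) (nat_lit 41) (Steps.bwd (nat_lit 7) (Steps.bwd (nat_lit 1) (Steps.fwd (nat_lit 6144) Steps.nil))) (nat_lit 27) (nat_lit 0),
  Rule.mk (nat_lit 1) (nat_lit 52) (Steps.bwd (nat_lit 5) (Steps.fwd (nat_lit 1024) (Steps.bwd (nat_lit 3) (Steps.bwd (nat_lit 4) Steps.nil)))) (nat_lit 18) (nat_lit 2)]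
noncomputable def R_1 : List (Rule) := [Rule.mk (nat_lit 5) (nat_lit 41) (Steps.bwd (nat_lit 1) (Steps.bwd (nat_lit 4) (Steps.bwd (nat_lit 3) Steps.nil))) (nat_lit 16) (nat_lit 3),
  Rule.mk (nat_lit 4) (nat_lit 41) (Steps.bwd (nat_lit 2) (Steps.bwd (nat_lit 4) (Steps.bwd (nat_lit 2) Steps.nil))) (nat_lit 20) (nat_lit 0),
  Rule.mk (nat_lit 1) (nat_lit 52) (Steps.bwd (nat_lit 5) (Steps.fwd (nat_lit 1024) (Steps.fwd (nat_lit 3072) (Steps.bwd (nat_lit 4) Steps.nil)))) (nat_lit 18) (nat_lit 2),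
  Rule.mk (nat_lit 5) (nat_lit 41) (Steps.bwd (nat_lit 2) (Steps.bwd (nat_lit 5) (Steps.bwd (nat_lit 2) Steps.nil))) (nat_lit 21) (nat_lit 1),
  Rule.mk (nat_lit 3) (nat_lit 52) (Steps.bwd (nat_lit 4) (Steps.fwd (nat_lit 1024) (Steps.bwd (nat_lit 5) (Steps.bwd (nat_lit 1) Steps.nil)))) (nat_lit 18) (nat_lit 0),
  Rule.mk (nat_lit 4) (nat_lit 52) (Steps.bwd (nat_lit 1) (Steps.fwd (nat_lit 4096) (Steps.fwd (nat_lit 1024) (Steps.bwd (nat_lit 3) Steps.nil)))) (nat_lit 18) (nat_lit 1),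
  Rule.mk (nat_lit 2) (nat_lit 41) (Steps.bwd (nat_lit 5) (Steps.fwd (nat_lit 2048) (Steps.bwd (nat_lit 5) Steps.nil))) (nat_lit 21) (nat_lit 0),
  Rule.mk (nat_lit 4) (nat_lit 41) (Steps.bwd (nat_lit 3) (Steps.bwd (nat_lit 5) (Steps.fwd (nat_lit 1024) Steps.nil))) (nat_lit 16) (nat_lit 1),
  Rule.mk (nat_lit 2) (nat_lit 41) (Steps.bwd (nat_lit 4) (Steps.bwd (nat_lit 2) (Steps.bwd (nat_lit 4) Steps.nil))) (nat_lit 20) (nat_lit 1),
  Rule.mk (nat_lit 3) (nat_lit 41) (Steps.bwd (nat_lit 5) (Steps.fwd (nat_lit 1024) (Steps.bwd (nat_lit 4) Steps.nil))) (nat_lit 16) (nat_lit 2),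
  Rule.mk (nat_lit 2) (nat_lit 41) (Steps.bwd (nat_lit 5) (Steps.bwd (nat_lit 2) (Steps.fwd (nat_lit 4096) Steps.nil))) (nat_lit 21) (nat_lit 0),
  Rule.mk (nat_lit 3) (nat_lit 41) (Steps.bwd (nat_lit 7) (Steps.bwd (nat_lit 2) (Steps.bwd (nat_lit 6) Steps.nil))) (nat_lit 22) (nat_lit 2),
  Rule.mk (nat_lit 6) (nat_lit 41) (Steps.bwd (nat_lit 3) (Steps.bwd (nat_lit 7) (Steps.fwd (nat_lit 2048) Steps.nil))) (nat_lit 22) (nat_lit 1),
  Rule.mk (nat_lit 7) (nat_lit 107) (Steps.bwd (nat_lit 4) (Steps.fwd (nat_lit 6144) (Steps.fwd (nat_lit 5120) (Steps.fwd (nat_lit 6144) (Steps.fwd (nat_lit 5120) (Steps.bwd (nat_lit 7) (Steps.bwd (nat_lit 4) (Steps.bwd (nat_lit 7) (Steps.bwd (nat_lit 4) Steps.nil))))))))) (nat_lit 28) (nat_lit 0),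
  Rule.mk (nat_lit 4) (nat_lit 41) (Steps.bwd (nat_lit 3) (Steps.fwd (nat_lit 4096) (Steps.bwd (nat_lit 1) Steps.nil))) (nat_lit 16) (nat_lit 1),
  Rule.mk (nat_lit 5) (nat_lit 52) (Steps.bwd (nat_lit 3) (Steps.bwd (nat_lit 1) (Steps.bwd (nat_lit 4) (Steps.fwd (nat_lit 1024) Steps.nil)))) (nat_lit 19) (nat_lit 0),
  Rule.mk (nat_lit 5) (nat_lit 52) (Steps.bwd (nat_lit 3) (Steps.fwd (nat_lit 1024) (Steps.bwd (nat_lit 4) (Steps.fwd (nat_lit 1024) Steps.nil)))) (nat_lit 19) (nat_lit 0),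
  Rule.mk (nat_lit 7) (nat_lit 41) (Steps.bwd (nat_lit 2) (Steps.fwd (nat_lit 7168) (Steps.fwd (nat_lit 3072) Steps.nil))) (nat_lit 22) (nat_lit 3),
  Rule.mk (nat_lit 7) (nat_lit 52) (Steps.bwd (nat_lit 3) (Steps.bwd (nat_lit 2) (Steps.fwd (nat_lit 7168) (Steps.fwd (nat_lit 2048) Steps.nil)))) (nat_lit 25) (nat_lit 0),
  Rule.mk (nat_lit 3) (nat_lit 41) (Steps.bwd (nat_lit 1) (Steps.bwd (nat_lit 3) (Steps.bwd (nat_lit 1) Steps.nil))) (nat_lit 8) (nat_lit 1),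
  Rule.mk (nat_lit 6) (nat_lit 41) (Steps.bwd (nat_lit 1) (Steps.fwd (nat_lit 7168) (Steps.bwd (nat_lit 1) Steps.nil))) (nat_lit 26) (nat_lit 0),
  Rule.mk (nat_lit 2) (nat_lit 52) (Steps.bwd (nat_lit 1) (Steps.bwd (nat_lit 3) (Steps.bwd (nat_lit 2) (Steps.bwd (nat_lit 1) Steps.nil)))) (nat_lit 6) (nat_lit 3),
  Rule.mk (nat_lit 5) (nat_lit 107) (Steps.bwd (nat_lit 6) (Steps.bwd (nat_lit 5) (Steps.fwd (nat_lit 7168) (Steps.fwd (nat_lit 4096) (Steps.fwd (nat_lit 7168) (Steps.bwd (nat_lit 5) (Steps.fwd (nat_lit 7168) (Steps.fwd (nat_lit 4096) (Steps.bwd (nat_lit 6) Steps.nil))))))))) (nat_lit 29) (nat_lit 0),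
  Rule.mk (nat_lit 6) (nat_lit 41) (Steps.bwd (nat_lit 3) (Steps.fwd (nat_lit 6144) (Steps.bwd (nat_lit 2) Steps.nil))) (nat_lit 22) (nat_lit 1),
  Rule.mk (nat_lit 7) (nat_lit 52) (Steps.bwd (nat_lit 3) (Steps.bwd (nat_lit 2) (Steps.bwd (nat_lit 6) (Steps.fwd (nat_lit 2048) Steps.nil)))) (nat_lit 25) (nat_lit 0),
  Rule.mk (nat_lit 7) (nat_lit 52) (Steps.bwd (nat_lit 3) (Steps.fwd (nat_lit 2048) (Steps.bwd (nat_lit 6) (Steps.fwd (nat_lit 2048) Steps.nil)))) (nat_lit 25) (nat_lit 0),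
  Rule.mk (nat_lit 4) (nat_lit 41) (Steps.bwd (nat_lit 2) (Steps.fwd (nat_lit 5120) (Steps.bwd (nat_lit 2) Steps.nil))) (nat_lit 20) (nat_lit 0),
  Rule.mk (nat_lit 6) (nat_lit 52) (Steps.bwd (nat_lit 2) (Steps.fwd (nat_lit 6144) (Steps.bwd (nat_lit 2) (Steps.bwd (nat_lit 3) Steps.nil)))) (nat_lit 24) (nat_lit 1),
  Rule.mk (nat_lit 0) (nat_lit 118) (Steps.bwd (nat_lit 6) (Steps.fwd (nat_lit 4096) (Steps.bwd (nat_lit 6) (Steps.fwd (nat_lit 4096) (Steps.bwd (nat_lit 6) (Steps.bwd (nat_lit 5) (Steps.bwd (nat_lit 6) (Steps.fwd (nat_lit 4096) (Steps.fwd (nat_lit 7168) (Steps.fwd (nat_lit 4096) Steps.nil)))))))))) (nat_lit 29) (nat_lit 0),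
  Rule.mk (nat_lit 0) (nat_lit 41) (Steps.bwd (nat_lit 1) (Steps.fwd (nat_lit 0) (Steps.fwd (nat_lit 1024) Steps.nil))) (nat_lit 30) (nat_lit 0),
  Rule.mk (nat_lit 0) (nat_lit 41) (Steps.bwd (nat_lit 2) (Steps.fwd (nat_lit 0) (Steps.fwd (nat_lit 2048) Steps.nil))) (nat_lit 30) (nat_lit 0),
  Rule.mk (nat_lit 0) (nat_lit 41) (Steps.fwd (nat_lit 3072) (Steps.fwd (nat_lit 0) (Steps.bwd (nat_lit 3) Steps.nil))) (nat_lit 30) (nat_lit 0),
  Rule.mk (nat_lit 0) (nat_lit 41) (Steps.fwd (nat_lit 3072) (Steps.fwd (nat_lit 0) (Steps.fwd (nat_lit 3072) Steps.nil))) (nat_lit 30) (nat_lit 0),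
  Rule.mk (nat_lit 0) (nat_lit 41) (Steps.fwd (nat_lit 7168) (Steps.bwd (nat_lit 0) (Steps.fwd (nat_lit 6144) Steps.nil))) (nat_lit 30) (nat_lit 0),
  Rule.mk (nat_lit 0) (nat_lit 41) (Steps.fwd (nat_lit 6144) (Steps.bwd (nat_lit 0) (Steps.fwd (nat_lit 7168) Steps.nil))) (nat_lit 30) (nat_lit 0),
  Rule.mk (nat_lit 0) (nat_lit 41) (Steps.bwd (nat_lit 7) (Steps.bwd (nat_lit 0) (Steps.bwd (nat_lit 6) Steps.nil))) (nat_lit 30) (nat_lit 0),
  Rule.mk (nat_lit 0) (nat_lit 41) (Steps.bwd (nat_lit 6) (Steps.bwd (nat_lit 0) (Steps.fwd (nat_lit 6144) Steps.nil))) (nat_lit 30) (nat_lit 0),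
  Rule.mk (nat_lit 0) (nat_lit 41) (Steps.bwd (nat_lit 3) (Steps.fwd (nat_lit 0) (Steps.bwd (nat_lit 3) Steps.nil))) (nat_lit 30) (nat_lit 0),
  Rule.mk (nat_lit 6) (nat_lit 30) (Steps.bwd (nat_lit 0) (Steps.fwd (nat_lit 6144) Steps.nil)) (nat_lit 30) (nat_lit 0),
  Rule.mk (nat_lit 6) (nat_lit 30) (Steps.bwd (nat_lit 0) (Steps.bwd (nat_lit 7) Steps.nil)) (nat_lit 30) (nat_lit 0),
  Rule.mk (nat_lit 7) (nat_lit 30) (Steps.bwd (nat_lit 0) (Steps.bwd (nat_lit 6) Steps.nil)) (nat_lit 30) (nat_lit 0),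
  Rule.mk (nat_lit 7) (nat_lit 30) (Steps.bwd (nat_lit 0) (Steps.fwd (nat_lit 7168) Steps.nil)) (nat_lit 30) (nat_lit 0),
  Rule.mk (nat_lit 4) (nat_lit 107) (Steps.bwd (nat_lit 7) (Steps.fwd (nat_lit 5120) (Steps.bwd (nat_lit 7) (Steps.fwd (nat_lit 5120) (Steps.bwd (nat_lit 7) (Steps.bwd (nat_lit 4) (Steps.fwd (nat_lit 6144) (Steps.bwd (nat_lit 4) (Steps.bwd (nat_lit 7) Steps.nil))))))))) (nat_lit 28) (nat_lit 1),
  Rule.mk (nat_lit 5) (nat_lit 52) (Steps.fwd (nat_lit 1024) (Steps.fwd (nat_lit 3072) (Steps.bwd (nat_lit 4) (Steps.fwd (nat_lit 1024) Steps.nil)))) (nat_lit 18) (nat_lit 3),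
  Rule.mk (nat_lit 0) (nat_lit 118) (Steps.fwd (nat_lit 7168) (Steps.bwd (nat_lit 5) (Steps.bwd (nat_lit 6) (Steps.bwd (nat_lit 5) (Steps.bwd (nat_lit 6) (Steps.bwd (nat_lit 5) (Steps.bwd (nat_lit 6) (Steps.fwd (nat_lit 4096) (Steps.fwd (nat_lit 7168) (Steps.bwd (nat_lit 5) Steps.nil)))))))))) (nat_lit 29) (nat_lit 0),
  Rule.mk (nat_lit 0) (nat_lit 41) (Steps.fwd (nat_lit 1024) (Steps.fwd (nat_lit 0) (Steps.bwd (nat_lit 1) Steps.nil))) (nat_lit 30) (nat_lit 0),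
  Rule.mk (nat_lit 0) (nat_lit 41) (Steps.fwd (nat_lit 2048) (Steps.fwd (nat_lit 0) (Steps.bwd (nat_lit 2) Steps.nil))) (nat_lit 30) (nat_lit 0),
  Rule.mk (nat_lit 0) (nat_lit 41) (Steps.bwd (nat_lit 4) (Steps.fwd (nat_lit 0) (Steps.bwd (nat_lit 5) Steps.nil))) (nat_lit 30) (nat_lit 0),
  Rule.mk (nat_lit 0) (nat_lit 41) (Steps.bwd (nat_lit 7) (Steps.fwd (nat_lit 0) (Steps.bwd (nat_lit 6) Steps.nil))) (nat_lit 30) (nat_lit 0),
  Rule.mk (nat_lit 0) (nat_lit 41) (Steps.fwd (nat_lit 5120) (Steps.fwd (nat_lit 0) (Steps.fwd (nat_lit 4096) Steps.nil))) (nat_lit 30) (nat_lit 0),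
  Rule.mk (nat_lit 0) (nat_lit 41) (Steps.fwd (nat_lit 7168) (Steps.fwd (nat_lit 0) (Steps.fwd (nat_lit 6144) Steps.nil))) (nat_lit 30) (nat_lit 0),
  Rule.mk (nat_lit 0) (nat_lit 41) (Steps.fwd (nat_lit 4096) (Steps.fwd (nat_lit 0) (Steps.fwd (nat_lit 5120) Steps.nil))) (nat_lit 30) (nat_lit 0),
  Rule.mk (nat_lit 0) (nat_lit 41) (Steps.fwd (nat_lit 6144) (Steps.fwd (nat_lit 0) (Steps.bwd (nat_lit 6) Steps.nil))) (nat_lit 30) (nat_lit 0),
  Rule.mk (nat_lit 0) (nat_lit 41) (Steps.bwd (nat_lit 4) (Steps.fwd (nat_lit 0) (Steps.fwd (nat_lit 4096) Steps.nil))) (nat_lit 30) (nat_lit 0),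
  Rule.mk (nat_lit 0) (nat_lit 41) (Steps.bwd (nat_lit 2) (Steps.fwd (nat_lit 0) (Steps.bwd (nat_lit 2) Steps.nil))) (nat_lit 30) (nat_lit 0),
  Rule.mk (nat_lit 0) (nat_lit 41) (Steps.fwd (nat_lit 5120) (Steps.fwd (nat_lit 0) (Steps.bwd (nat_lit 5) Steps.nil))) (nat_lit 30) (nat_lit 0),
  Rule.mk (nat_lit 0) (nat_lit 41) (Steps.bwd (nat_lit 5) (Steps.fwd (nat_lit 0) (Steps.fwd (nat_lit 5120) Steps.nil))) (nat_lit 30) (nat_lit 0),
  Rule.mk (nat_lit 0) (nat_lit 41) (Steps.bwd (nat_lit 6) (Steps.fwd (nat_lit 0) (Steps.bwd (nat_lit 7) Steps.nil))) (nat_lit 30) (nat_lit 0),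
  Rule.mk (nat_lit 0) (nat_lit 41) (Steps.fwd (nat_lit 7168) (Steps.fwd (nat_lit 0) (Steps.bwd (nat_lit 7) Steps.nil))) (nat_lit 30) (nat_lit 0),
  Rule.mk (nat_lit 0) (nat_lit 41) (Steps.bwd (nat_lit 5) (Steps.fwd (nat_lit 0) (Steps.bwd (nat_lit 4) Steps.nil))) (nat_lit 30) (nat_lit 0),
  Rule.mk (nat_lit 0) (nat_lit 41) (Steps.fwd (nat_lit 6144) (Steps.fwd (nat_lit 0) (Steps.fwd (nat_lit 7168) Steps.nil))) (nat_lit 30) (nat_lit 0),
  Rule.mk (nat_lit 0) (nat_lit 41) (Steps.fwd (nat_lit 4096) (Steps.fwd (nat_lit 0) (Steps.bwd (nat_lit 4) Steps.nil))) (nat_lit 30) (nat_lit 0),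
  Rule.mk (nat_lit 0) (nat_lit 41) (Steps.fwd (nat_lit 4096) (Steps.bwd (nat_lit 0) (Steps.bwd (nat_lit 4) Steps.nil))) (nat_lit 30) (nat_lit 0),
  Rule.mk (nat_lit 0) (nat_lit 52) (Steps.bwd (nat_lit 5) (Steps.fwd (nat_lit 0) (Steps.fwd (nat_lit 5120) (Steps.fwd (nat_lit 0) Steps.nil)))) (nat_lit 30) (nat_lit 0)]
noncomputable def R_2 : List (Rule) := [Rule.mk (nat_lit 0) (nat_lit 30) (Steps.fwd (nat_lit 0) (Steps.fwd (nat_lit 0) Steps.nil)) (nat_lit 30) (nat_lit 0),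
  Rule.mk (nat_lit 0) (nat_lit 41) (Steps.bwd (nat_lit 1) (Steps.fwd (nat_lit 0) (Steps.bwd (nat_lit 1) Steps.nil))) (nat_lit 30) (nat_lit 0),
  Rule.mk (nat_lit 0) (nat_lit 41) (Steps.fwd (nat_lit 4096) (Steps.bwd (nat_lit 0) (Steps.fwd (nat_lit 5120) Steps.nil))) (nat_lit 30) (nat_lit 0),
  Rule.mk (nat_lit 0) (nat_lit 52) (Steps.fwd (nat_lit 5120) (Steps.bwd (nat_lit 0) (Steps.bwd (nat_lit 5) (Steps.fwd (nat_lit 0) Steps.nil)))) (nat_lit 30) (nat_lit 0),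
  Rule.mk (nat_lit 0) (nat_lit 41) (Steps.bwd (nat_lit 5) (Steps.bwd (nat_lit 0) (Steps.bwd (nat_lit 4) Steps.nil))) (nat_lit 30) (nat_lit 0),
  Rule.mk (nat_lit 0) (nat_lit 52) (Steps.bwd (nat_lit 0) (Steps.fwd (nat_lit 7168) (Steps.fwd (nat_lit 0) (Steps.fwd (nat_lit 6144) Steps.nil)))) (nat_lit 30) (nat_lit 0),
  Rule.mk (nat_lit 0) (nat_lit 52) (Steps.fwd (nat_lit 1024) (Steps.bwd (nat_lit 0) (Steps.fwd (nat_lit 1024) (Steps.fwd (nat_lit 0) Steps.nil)))) (nat_lit 30) (nat_lit 0),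
  Rule.mk (nat_lit 0) (nat_lit 52) (Steps.bwd (nat_lit 0) (Steps.bwd (nat_lit 6) (Steps.fwd (nat_lit 0) (Steps.fwd (nat_lit 6144) Steps.nil)))) (nat_lit 30) (nat_lit 0),
  Rule.mk (nat_lit 0) (nat_lit 52) (Steps.bwd (nat_lit 0) (Steps.bwd (nat_lit 2) (Steps.fwd (nat_lit 0) (Steps.fwd (nat_lit 2048) Steps.nil)))) (nat_lit 30) (nat_lit 0),
  Rule.mk (nat_lit 0) (nat_lit 52) (Steps.bwd (nat_lit 0) (Steps.bwd (nat_lit 4) (Steps.fwd (nat_lit 0) (Steps.bwd (nat_lit 5) Steps.nil)))) (nat_lit 30) (nat_lit 0),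
  Rule.mk (nat_lit 0) (nat_lit 52) (Steps.bwd (nat_lit 0) (Steps.fwd (nat_lit 5120) (Steps.fwd (nat_lit 0) (Steps.bwd (nat_lit 5) Steps.nil)))) (nat_lit 30) (nat_lit 0),
  Rule.mk (nat_lit 0) (nat_lit 52) (Steps.bwd (nat_lit 0) (Steps.fwd (nat_lit 2048) (Steps.fwd (nat_lit 0) (Steps.bwd (nat_lit 2) Steps.nil)))) (nat_lit 30) (nat_lit 0),
  Rule.mk (nat_lit 0) (nat_lit 52) (Steps.bwd (nat_lit 0) (Steps.fwd (nat_lit 1024) (Steps.fwd (nat_lit 0) (Steps.bwd (nat_lit 1) Steps.nil)))) (nat_lit 30) (nat_lit 0),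
  Rule.mk (nat_lit 0) (nat_lit 52) (Steps.bwd (nat_lit 0) (Steps.bwd (nat_lit 1) (Steps.fwd (nat_lit 0) (Steps.bwd (nat_lit 1) Steps.nil)))) (nat_lit 30) (nat_lit 0),
  Rule.mk (nat_lit 0) (nat_lit 52) (Steps.fwd (nat_lit 3072) (Steps.bwd (nat_lit 0) (Steps.fwd (nat_lit 3072) (Steps.fwd (nat_lit 0) Steps.nil)))) (nat_lit 30) (nat_lit 0),
  Rule.mk (nat_lit 0) (nat_lit 52) (Steps.bwd (nat_lit 2) (Steps.bwd (nat_lit 0) (Steps.bwd (nat_lit 2) (Steps.fwd (nat_lit 0) Steps.nil)))) (nat_lit 30) (nat_lit 0),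
  Rule.mk (nat_lit 0) (nat_lit 41) (Steps.bwd (nat_lit 6) (Steps.bwd (nat_lit 0) (Steps.bwd (nat_lit 7) Steps.nil))) (nat_lit 30) (nat_lit 0),
  Rule.mk (nat_lit 0) (nat_lit 41) (Steps.fwd (nat_lit 6144) (Steps.bwd (nat_lit 0) (Steps.bwd (nat_lit 6) Steps.nil))) (nat_lit 30) (nat_lit 0),
  Rule.mk (nat_lit 0) (nat_lit 41) (Steps.fwd (nat_lit 7168) (Steps.bwd (nat_lit 0) (Steps.bwd (nat_lit 7) Steps.nil))) (nat_lit 30) (nat_lit 0),
  Rule.mk (nat_lit 0) (nat_lit 52) (Steps.bwd (nat_lit 0) (Steps.bwd (nat_lit 3) (Steps.fwd (nat_lit 0) (Steps.fwd (nat_lit 3072) Steps.nil)))) (nat_lit 30) (nat_lit 0),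
  Rule.mk (nat_lit 0) (nat_lit 41) (Steps.bwd (nat_lit 6) (Steps.fwd (nat_lit 0) (Steps.fwd (nat_lit 6144) Steps.nil))) (nat_lit 30) (nat_lit 0),
  Rule.mk (nat_lit 0) (nat_lit 52) (Steps.bwd (nat_lit 0) (Steps.bwd (nat_lit 2) (Steps.fwd (nat_lit 0) (Steps.bwd (nat_lit 2) Steps.nil)))) (nat_lit 30) (nat_lit 0),
  Rule.mk (nat_lit 0) (nat_lit 52) (Steps.fwd (nat_lit 4096) (Steps.bwd (nat_lit 0) (Steps.fwd (nat_lit 5120) (Steps.fwd (nat_lit 0) Steps.nil)))) (nat_lit 30) (nat_lit 0),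
  Rule.mk (nat_lit 0) (nat_lit 52) (Steps.fwd (nat_lit 6144) (Steps.bwd (nat_lit 0) (Steps.bwd (nat_lit 6) (Steps.fwd (nat_lit 0) Steps.nil)))) (nat_lit 30) (nat_lit 0),
  Rule.mk (nat_lit 5) (nat_lit 30) (Steps.bwd (nat_lit 0) (Steps.bwd (nat_lit 4) Steps.nil)) (nat_lit 30) (nat_lit 0),
  Rule.mk (nat_lit 4) (nat_lit 30) (Steps.bwd (nat_lit 0) (Steps.fwd (nat_lit 4096) Steps.nil)) (nat_lit 30) (nat_lit 0),
  Rule.mk (nat_lit 5) (nat_lit 30) (Steps.bwd (nat_lit 0) (Steps.fwd (nat_lit 5120) Steps.nil)) (nat_lit 30) (nat_lit 0),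
  Rule.mk (nat_lit 4) (nat_lit 30) (Steps.bwd (nat_lit 0) (Steps.bwd (nat_lit 5) Steps.nil)) (nat_lit 30) (nat_lit 0),
  Rule.mk (nat_lit 5) (nat_lit 107) (Steps.bwd (nat_lit 6) (Steps.fwd (nat_lit 4096) (Steps.bwd (nat_lit 6) (Steps.fwd (nat_lit 4096) (Steps.bwd (nat_lit 6) (Steps.bwd (nat_lit 5) (Steps.fwd (nat_lit 7168) (Steps.fwd (nat_lit 4096) (Steps.bwd (nat_lit 6) Steps.nil))))))))) (nat_lit 29) (nat_lit 0),
  Rule.mk (nat_lit 4) (nat_lit 52) (Steps.bwd (nat_lit 1) (Steps.bwd (nat_lit 5) (Steps.fwd (nat_lit 1024) (Steps.fwd (nat_lit 3072) Steps.nil)))) (nat_lit 18) (nat_lit 1),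
  Rule.mk (nat_lit 4) (nat_lit 41) (Steps.fwd (nat_lit 2048) (Steps.bwd (nat_lit 4) (Steps.fwd (nat_lit 2048) Steps.nil))) (nat_lit 20) (nat_lit 0),
  Rule.mk (nat_lit 0) (nat_lit 118) (Steps.fwd (nat_lit 4096) (Steps.bwd (nat_lit 6) (Steps.bwd (nat_lit 5) (Steps.fwd (nat_lit 7168) (Steps.fwd (nat_lit 4096) (Steps.bwd (nat_lit 6) (Steps.bwd (nat_lit 5) (Steps.fwd (nat_lit 7168) (Steps.fwd (nat_lit 4096) (Steps.bwd (nat_lit 6) Steps.nil)))))))))) (nat_lit 29) (nat_lit 1),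
  Rule.mk (nat_lit 0) (nat_lit 41) (Steps.bwd (nat_lit 7) (Steps.bwd (nat_lit 0) (Steps.fwd (nat_lit 7168) Steps.nil))) (nat_lit 30) (nat_lit 0),
  Rule.mk (nat_lit 0) (nat_lit 41) (Steps.fwd (nat_lit 2048) (Steps.fwd (nat_lit 0) (Steps.fwd (nat_lit 2048) Steps.nil))) (nat_lit 30) (nat_lit 0),
  Rule.mk (nat_lit 0) (nat_lit 41) (Steps.bwd (nat_lit 3) (Steps.fwd (nat_lit 0) (Steps.fwd (nat_lit 3072) Steps.nil))) (nat_lit 30) (nat_lit 0),
  Rule.mk (nat_lit 4) (nat_lit 107) (Steps.fwd (nat_lit 6144) (Steps.bwd (nat_lit 4) (Steps.fwd (nat_lit 6144) (Steps.fwd (nat_lit 5120) (Steps.bwd (nat_lit 7) (Steps.fwd (nat_lit 5120) (Steps.fwd (nat_lit 6144) (Steps.bwd (nat_lit 4) (Steps.bwd (nat_lit 7) Steps.nil))))))))) (nat_lit 28) (nat_lit 1),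
  Rule.mk (nat_lit 0) (nat_lit 52) (Steps.fwd (nat_lit 4096) (Steps.fwd (nat_lit 2048) (Steps.bwd (nat_lit 5) (Steps.fwd (nat_lit 2048) Steps.nil)))) (nat_lit 21) (nat_lit 0),
  Rule.mk (nat_lit 0) (nat_lit 41) (Steps.fwd (nat_lit 1024) (Steps.bwd (nat_lit 0) (Steps.fwd (nat_lit 1024) Steps.nil))) (nat_lit 30) (nat_lit 0),
  Rule.mk (nat_lit 0) (nat_lit 41) (Steps.bwd (nat_lit 7) (Steps.fwd (nat_lit 0) (Steps.fwd (nat_lit 7168) Steps.nil))) (nat_lit 30) (nat_lit 0),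
  Rule.mk (nat_lit 0) (nat_lit 52) (Steps.bwd (nat_lit 0) (Steps.fwd (nat_lit 5120) (Steps.bwd (nat_lit 0) (Steps.bwd (nat_lit 5) Steps.nil)))) (nat_lit 30) (nat_lit 0),
  Rule.mk (nat_lit 0) (nat_lit 41) (Steps.bwd (nat_lit 4) (Steps.bwd (nat_lit 0) (Steps.bwd (nat_lit 5) Steps.nil))) (nat_lit 30) (nat_lit 0),
  Rule.mk (nat_lit 0) (nat_lit 52) (Steps.bwd (nat_lit 4) (Steps.fwd (nat_lit 0) (Steps.fwd (nat_lit 4096) (Steps.fwd (nat_lit 0) Steps.nil)))) (nat_lit 30) (nat_lit 0),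
  Rule.mk (nat_lit 0) (nat_lit 41) (Steps.fwd (nat_lit 5120) (Steps.bwd (nat_lit 0) (Steps.fwd (nat_lit 4096) Steps.nil))) (nat_lit 30) (nat_lit 0),
  Rule.mk (nat_lit 0) (nat_lit 52) (Steps.fwd (nat_lit 7168) (Steps.bwd (nat_lit 0) (Steps.bwd (nat_lit 7) (Steps.fwd (nat_lit 0) Steps.nil)))) (nat_lit 30) (nat_lit 0),
  Rule.mk (nat_lit 0) (nat_lit 52) (Steps.bwd (nat_lit 0) (Steps.bwd (nat_lit 7) (Steps.bwd (nat_lit 0) (Steps.fwd (nat_lit 7168) Steps.nil)))) (nat_lit 30) (nat_lit 0),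
  Rule.mk (nat_lit 0) (nat_lit 52) (Steps.fwd (nat_lit 7168) (Steps.fwd (nat_lit 0) (Steps.bwd (nat_lit 7) (Steps.fwd (nat_lit 0) Steps.nil)))) (nat_lit 30) (nat_lit 0),
  Rule.mk (nat_lit 0) (nat_lit 41) (Steps.fwd (nat_lit 0) (Steps.fwd (nat_lit 0) (Steps.fwd (nat_lit 0) Steps.nil))) (nat_lit 30) (nat_lit 0),
  Rule.mk (nat_lit 0) (nat_lit 52) (Steps.bwd (nat_lit 0) (Steps.bwd (nat_lit 5) (Steps.fwd (nat_lit 0) (Steps.bwd (nat_lit 4) Steps.nil)))) (nat_lit 30) (nat_lit 0),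
  Rule.mk (nat_lit 0) (nat_lit 63) (Steps.bwd (nat_lit 0) (Steps.fwd (nat_lit 5120) (Steps.fwd (nat_lit 0) (Steps.bwd (nat_lit 5) (Steps.fwd (nat_lit 0) Steps.nil))))) (nat_lit 30) (nat_lit 0),
  Rule.mk (nat_lit 0) (nat_lit 52) (Steps.bwd (nat_lit 3) (Steps.bwd (nat_lit 0) (Steps.bwd (nat_lit 3) (Steps.fwd (nat_lit 0) Steps.nil)))) (nat_lit 30) (nat_lit 0),
  Rule.mk (nat_lit 0) (nat_lit 52) (Steps.bwd (nat_lit 0) (Steps.bwd (nat_lit 4) (Steps.fwd (nat_lit 0) (Steps.fwd (nat_lit 4096) Steps.nil)))) (nat_lit 30) (nat_lit 0),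
  Rule.mk (nat_lit 0) (nat_lit 52) (Steps.bwd (nat_lit 0) (Steps.bwd (nat_lit 1) (Steps.fwd (nat_lit 0) (Steps.fwd (nat_lit 1024) Steps.nil)))) (nat_lit 30) (nat_lit 0),
  Rule.mk (nat_lit 0) (nat_lit 52) (Steps.bwd (nat_lit 0) (Steps.fwd (nat_lit 3072) (Steps.fwd (nat_lit 0) (Steps.fwd (nat_lit 3072) Steps.nil)))) (nat_lit 30) (nat_lit 0),
  Rule.mk (nat_lit 0) (nat_lit 52) (Steps.fwd (nat_lit 5120) (Steps.fwd (nat_lit 0) (Steps.fwd (nat_lit 4096) (Steps.fwd (nat_lit 0) Steps.nil)))) (nat_lit 30) (nat_lit 0),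
  Rule.mk (nat_lit 0) (nat_lit 41) (Steps.fwd (nat_lit 5120) (Steps.bwd (nat_lit 0) (Steps.bwd (nat_lit 5) Steps.nil))) (nat_lit 30) (nat_lit 0),
  Rule.mk (nat_lit 0) (nat_lit 63) (Steps.bwd (nat_lit 0) (Steps.bwd (nat_lit 5) (Steps.bwd (nat_lit 0) (Steps.fwd (nat_lit 5120) (Steps.fwd (nat_lit 0) Steps.nil))))) (nat_lit 30) (nat_lit 0),
  Rule.mk (nat_lit 0) (nat_lit 52) (Steps.fwd (nat_lit 7168) (Steps.fwd (nat_lit 0) (Steps.fwd (nat_lit 6144) (Steps.fwd (nat_lit 0) Steps.nil)))) (nat_lit 30) (nat_lit 0),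
  Rule.mk (nat_lit 0) (nat_lit 52) (Steps.bwd (nat_lit 0) (Steps.fwd (nat_lit 6144) (Steps.bwd (nat_lit 0) (Steps.bwd (nat_lit 6) Steps.nil)))) (nat_lit 30) (nat_lit 0),
  Rule.mk (nat_lit 0) (nat_lit 52) (Steps.bwd (nat_lit 0) (Steps.bwd (nat_lit 6) (Steps.fwd (nat_lit 0) (Steps.bwd (nat_lit 7) Steps.nil)))) (nat_lit 30) (nat_lit 0),
  Rule.mk (nat_lit 2) (nat_lit 30) (Steps.bwd (nat_lit 0) (Steps.fwd (nat_lit 2048) Steps.nil)) (nat_lit 30) (nat_lit 0),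
  Rule.mk (nat_lit 2) (nat_lit 30) (Steps.bwd (nat_lit 0) (Steps.bwd (nat_lit 2) Steps.nil)) (nat_lit 30) (nat_lit 0),
  Rule.mk (nat_lit 1) (nat_lit 30) (Steps.bwd (nat_lit 0) (Steps.bwd (nat_lit 1) Steps.nil)) (nat_lit 30) (nat_lit 0),
  Rule.mk (nat_lit 0) (nat_lit 52) (Steps.fwd (nat_lit 4096) (Steps.fwd (nat_lit 0) (Steps.bwd (nat_lit 4) (Steps.fwd (nat_lit 0) Steps.nil)))) (nat_lit 30) (nat_lit 0),
  Rule.mk (nat_lit 0) (nat_lit 52) (Steps.bwd (nat_lit 4) (Steps.fwd (nat_lit 0) (Steps.bwd (nat_lit 5) (Steps.fwd (nat_lit 0) Steps.nil)))) (nat_lit 30) (nat_lit 0)]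
noncomputable def R_3 : List (Rule) := [Rule.mk (nat_lit 0) (nat_lit 52) (Steps.bwd (nat_lit 6) (Steps.bwd (nat_lit 0) (Steps.bwd (nat_lit 7) (Steps.fwd (nat_lit 0) Steps.nil)))) (nat_lit 30) (nat_lit 0),
  Rule.mk (nat_lit 0) (nat_lit 52) (Steps.bwd (nat_lit 0) (Steps.fwd (nat_lit 4096) (Steps.bwd (nat_lit 0) (Steps.fwd (nat_lit 5120) Steps.nil)))) (nat_lit 30) (nat_lit 0),
  Rule.mk (nat_lit 1) (nat_lit 30) (Steps.bwd (nat_lit 0) (Steps.fwd (nat_lit 1024) Steps.nil)) (nat_lit 30) (nat_lit 0),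
  Rule.mk (nat_lit 3) (nat_lit 30) (Steps.bwd (nat_lit 0) (Steps.fwd (nat_lit 3072) Steps.nil)) (nat_lit 30) (nat_lit 0),
  Rule.mk (nat_lit 0) (nat_lit 52) (Steps.bwd (nat_lit 0) (Steps.bwd (nat_lit 3) (Steps.fwd (nat_lit 0) (Steps.bwd (nat_lit 3) Steps.nil)))) (nat_lit 30) (nat_lit 0),
  Rule.mk (nat_lit 0) (nat_lit 118) (Steps.fwd (nat_lit 7168) (Steps.fwd (nat_lit 4096) (Steps.fwd (nat_lit 7168) (Steps.fwd (nat_lit 4096) (Steps.bwd (nat_lit 6) (Steps.bwd (nat_lit 5) (Steps.fwd (nat_lit 7168) (Steps.fwd (nat_lit 4096) (Steps.fwd (nat_lit 7168) (Steps.fwd (nat_lit 4096) Steps.nil)))))))))) (nat_lit 29) (nat_lit 0),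
  Rule.mk (nat_lit 0) (nat_lit 52) (Steps.bwd (nat_lit 5) (Steps.fwd (nat_lit 0) (Steps.bwd (nat_lit 4) (Steps.fwd (nat_lit 0) Steps.nil)))) (nat_lit 30) (nat_lit 0),
  Rule.mk (nat_lit 0) (nat_lit 41) (Steps.fwd (nat_lit 2048) (Steps.bwd (nat_lit 0) (Steps.fwd (nat_lit 2048) Steps.nil))) (nat_lit 30) (nat_lit 0),
  Rule.mk (nat_lit 0) (nat_lit 52) (Steps.bwd (nat_lit 0) (Steps.fwd (nat_lit 6144) (Steps.bwd (nat_lit 0) (Steps.fwd (nat_lit 7168) Steps.nil)))) (nat_lit 30) (nat_lit 0),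
  Rule.mk (nat_lit 3) (nat_lit 30) (Steps.bwd (nat_lit 0) (Steps.bwd (nat_lit 3) Steps.nil)) (nat_lit 30) (nat_lit 0)]
noncomputable def R : List (List (Rule)) := [R_0, R_1, R_2, R_3]
def LW : List Word := [[], [0], [2], [4], [6], [7], [8], [9]]
def par : Par := ⟨10, 3, 13, 23, 1023, 8191, 8388607⟩
theorem hpar : par.ok := by decide
theorem hR0_0 : lall (R) (fun l => lall l (ruleOK Rk5 LW par)) = true := by decide +kernel
theorem hR0 : lall (R) (fun l => lall l (ruleOK Rk5 LW par)) = true := hR0_0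
theorem hR : RulesOK Rk5 LW par R := rulesOK_of rfl hR0
def cols : List (ℕ × ℕ) := [(1024, 1), (2048, 2), (3072, 3), (4096, 5), (6144, 7)]
theorem hcols : lall cols (colOK Rk5 LW par) = true := by decide +kernel
noncomputable def JS0 : List ℕ := [nat_lit 0x246468031181c25a4688b8d80800c458680080322a3246492115180044908a0b91c22620008079131601e448540101422428038888911301c4444c8c910120000040711011002010059100601643c400010f0f2340280110f0e2224500110e0d00c004868611421c43414888002181643400913218144340110f218124508790b080084308583800222440858311221842c148891021a430108890f218064408790d218044348710c01,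
  nat_lit 0x36288494dca112624a3a4c49400724c6c5289412535004014921a00800c48ccc939442466400c1b92231254484a00500c24260008081202f02047cb80102f23e5a03c8f1592001e478b09311d2b0020081691d2a00c4709c00804016470a40591b2800046c9c1382800446c988e8032364689403001232484c88d1191d23a0008c119190020908c1111900446c8c1093023645c800f11822e3e0000f12a22e3c4bc8c1171d,
  nat_lit 0x208c4b4f80792c2b25c03c9616134256560040103d25654018951380100802c951480b252500009493841070008949312b0064a4941280600249c901b12824e764ac001262324e0041a9262224e00894926210784a4929c03524c494f40003806c494f01d12624a764bc9380124c6c5449392535000018929780724a564b4929583d070004939d12900249c931294524e498749380128a498e493802252498841b92924a700e8931251f,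
  nat_lit 0x27e5c09d8c0012e04e85c0080f2742c03c9c8a80f272244ec07939132824e0480080209c4e044031370f00201005937060164d840001360f09c124011360e2704ec011350d00c0049a0616126a4d0149c000266164d000960266144d001136266121189b132410924cc990380008a57c992015d2664c8149f13500c4ccd80100526468020031313326a120989f8030904c0c49c12f2801403097980020204b8bc0812d2e,
  nat_lit 0x300514a20294800050c2ca20012fe50c28a200228c50c242b94628482168a194207000158bf142402f850ca10286028a50d200100f2862c03ca10a8020bc5091c0714112286038a0899492802400000855280220040180b2800c02c9f8800027e1e1682880127e8c01c0093e0c09c4fc9f211420004f42c9f00209c4f5140104e2782c4f40113f278121549f93b4109c4f09da20000a213c9da18542784ed08bc13f278360040113b19,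
  nat_lit 0x2ca8880002a21e1b0338022a21c54cab0022a01a0180094f0c31a540a7829530005382ca780131853828a78022a2538243215129a8219ca714d0700018cc594d40312538a6829592a0014a70e1982a05346c03805298340040114b1929e63ca58c00131e5285c0100f2942c03ca48a8020d4524500714812294038a40995028e240000086028e220040200b28e0c02ca30800028c1e17c2e00228c1c520a580228a1a018009440c,
  nat_lit 0xb080c2be2659caf09000006028af830002be1e1f43a0022be8c584b20022bc1a0180095d0c0e0578aea11610005702cae8010e057114ae8022be570243c15f2b6821c4ae15b440001d03915b430ee570ada11a92be5706c050072b6340040215a192bc680ad0c0033405645cb095810016034ac2480202255c5808956150061e4ab0a0102aa2400c058102aa8055807954132b854c48008020d854c44031520f0020100595206,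
  nat_lit 0x194b19621f000184d31623734858cb10e964004598b19086a2cc588e0319632c47a000330642c4781a0b19623b2c858cac3a9662ca7659c00164232ca0003a164220f4598b21c07b2ca590ec4187e002594e8b38022ca59094d91652c83a5a000163232c8004d8963392c8008b3163210f8598b11c07f2c65887c0007b360588dcd71632c43a5b8b28032c63859c3f1634b0041fcb125007012589240100d2c22c034b00a8020fe5811c0615f12,
  nat_lit 0xb2d450000b5138650c0004b51d0070025a490d796a2d23a5b400168232d2008d716839004178b3979680045a8b39085d2d4598e0301672cc3e0002e1ac2cc6e6a8b39661d0d218400967262d2004b3966250c059cb31d967002180b3111670045a4b3108662d2594e02f9662ca7a000310602ca78190b31653b0006b8b3260072cc5c1a8328022cc745a0019662ca4a0180096424350594b20e96800058c8cb200134e58ce4008622c45e188b316238,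
  nat_lit 0x10005d8cc008742ec7c5e0069762c2fc5d4ac000010d65d4a8008030145d4a405174280005d09c390670025d098030012e648198ba1733b2ee000b911973002194b9111730045d4b91086e2ea5c4e0331722e27a000350672e2781b4b91713b00200cb91a0070085c4cc011c02e2985e4b8140020225c0bc0896f2e0061c8b7968102dc5600c050102dc6e5bc0796d2c2ea5b0ac008020ca5b0a80296b2700200c0596b29,
  nat_lit 0x752f65e81c000713ac5e900ea17b2f40a1dcbe97b4d2fe008be9617f2f856004be940000f01d8be9e0792fc5f4ecf01802fc6a0080797e2f01e5f4b8010802fa5a038be15802012038be1b9842f656004010742f654014bd13801006028bd1480a2f250000bc938740de004bc9d0060025e090e61792f03a5f000177232f0004e5977392f0008bd177210da5e8bb1c0702ee5d87c0006c3945d8dce41772ec3a1d4bc1774d,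
  nat_lit 0x320628480418a0f0020140498a0601662440001890f0ec768021890e01e62cc498856324004c3aa80330e619500780d3106194cea80430a9e000010153d0041bcec18440006750c1a380b01060d48e7986304840080080d1d0ce610021815130a608c01a9800045fccce70000025fd40001800c89e000c017e3e0001f47f1442c04a4668602fc9c1e83b0022fc1c600c18022fa1a0180097c0c3b05f4be029800005ec2cbe0013ae5ec28008722f42c1c8bf17a41,
  nat_lit 0x86c010a96117000854b00b80028397c5c00041cbc86427001000060169b4156499072e9a101c004cd2e04b0026656c0d007332aa11c0119808330668cb8180a33665cec010010840a024cc80432cb40f8cb9954832a008ca0d009000004ca2c80032a0196000038326280e109a592e652c7a08d32a64d5c1119500c64d400500732434004021911932a21cc8a58033d66405c0d98f12014030c7a4802330638580c98d0f006794c68a01331824008c880d318866340618b13,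
  nat_lit 0xcd80b0acf666c0584e7a4f602ce43c950014735e0cc809090ee5cc048ce7131c024e738abb01014dd8c780807ceaaf0039d47455a01c21b9abc00c741c96000509ac2b00021cd5f3200101e389a9006149c0d6002096c06b0009cb6f57800027372a829e340ec0001363e5091bd06eda80000059440ac0004d8986c1383f54619d53e4bc0022b3a6d613801b51ca006d271801b4048006ce4a4018486615800ce332a120067099056803088c62b40184562,
  nat_lit 0x1b702c90009c4008504055684396502a9ea14cb803480012180480b812dc050a0c1832028121cc080118154204d404282e0260f5f55d8011a0f40442b8002590803c08c0a910224820cc68102bec056808043782b604031be29001e119c8a780f0970462800a327d310000643080401b020214880d0b500a34069287f55003145bb95501816df8c180c1a6f4a0006048745520311f3e94001873df14580b0a0ecaa005a3973,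
  nat_lit 0x1450140d8ecb980b349dc02ece7300d8f20352870c0e1b3933e806d762f2f10386d248dd01b5af220303281d221204380f85e7900a1780f2718f09807c70beabf002389f4ea800284052380501e813d2010be382bd000165f40001d813a80003101c8d0040760403819815780042b399d200017c0d4600303502ba80d2927e398064998138b5ce0614780a893a0004f80168a3c2000708078900405a04ca81747ef46c40ba3d71,
  nat_lit 0x2b801483b0950008415bd330041cac6ab001804702ac0087f30952002415dca98004d4bc9500026a5509500026a55095000500dc00040a7c7da6400035a786a2a836ca7800aa037a569324ea91017382f005b393e017364c805cd93701734a4806ccaee01ad270808339c4020d477008349c5020ceba008349ae020485bc002350202c2614781024af268c07923770081640012b9700003a04cd00e4ae036596880e0b72a73407ae091,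
  nat_lit 0xb5c039746f2fc01d6a41acf00c5c4005428600e039c54080601d2246803011a750201407c891000842e9941804010e24340180b6500800a6888801210c0448001097722200082001a520a00082208002cec159503142077163107a41fc01da939007694d801da47b007674ca01da47d807674d601da07b0076a4d80187a51a6d00c9a9947d0064c9223f803261a22ce01873b010300c3ce49360064c7423e4030ee93,
  nat_lit 0x8408056ba03c2600db100002205ad00109801ec00480b810100280657a480188e5e51c80b6af56cc40632c750067b4059f2ae02203009bcb2e018c8dc5968073f6ea7ec031e96240203991001ad4060358ecaa0001cc82850080d3dee6c78019f27d3fe008fc4a80000b02c8c0031e6e00c02a040501c002492b0bb0005c156004054098e014b59d0022d201260aa8be0099b5a2020c75480b01132628042d374,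
  nat_lit 0x7100490801dd0050e60043fdc80201f02004114086f0448f98c0db79042064065c3730109cadd3b0074b805a5961821694de00980b8240004831c4318019901003a040180e03f5e01805c080003102010094080100d0204dba8030b56cde4012070016a00c0240b7900081c02da00a0310217802b397b4b001029000b300403e0403a07004962c803810816c8000fe0108d00001a042b00165e03e19748009b,
  nat_lit 0x10b808c341e0266cd2800344f600c04c0a03003340098400b33d7200004c0b50016800046100f03e03d82e080140e041a5e0260024ce83c08a05b770204da4011fa0247f2fdcd812be4a602d9d0200a3eefed2004b3e7673604af40637a0141f6e4400126902a026701400b9c50e06ef1a08033a2e42200bb3a580261e1ec020088100601c0d57a55024d70065d80200f0200403009af,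
  nat_lit 0xef8025f01d002ceee800e500100502000024081e00408c01e48004f80040ad7001005020000140aa4002077200001a00201b1c0000400004a1c0c00f00e0000200d03003c03800c6354001a80000634800f150b809c4]
theorem S0_c : blocks (facts 10 3 13 23 1023 8191 8388607 11 2047 8 255 A R 32) 32 JS0 527 = true := by decide +kernel
theorem S0 : On (Step.{u} Rk5 LW par A) 527 1231 :=
  steps_of_blocks hpar hR S0_c (by decide +kernel)
theorem D0_c : allB (defOK 10 13 23 1023 8388607 528 A K) 3 2 = true := by decide +kernel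
theorem D0 : On (fun r => defOK par.W par.WL par.E par.mW par.mE 528 A K r = true) 256 640 :=
  On.of_allB D0_c
noncomputable def JW0 : List ℕ := [nat_lit 0x2206c024064020]
theorem W0_c : blocks (rows 10 3 13 23 1023 8191 8388607 12 4095 60 A 1231 1 cols 25) 25 JW0 0 = true := by decide +kernel
theorem W0 : On (Row.{u} Rk5 LW par A 1231 1 cols) 0 25 :=
  rows_of_blocks hpar (by decide) hcols W0_c (by decide +kernel)
theorem idx : Idx.{u} Rk5 [[0], [2], [4], [6], [8]] [] 1 :=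
  idx_of_cert hpar hR (K := K) (by decide +kernel) (T := 528) (T' := 640) (by decide) D0
    (subs := []) (by decide +kernel) (T1 := 527) (by decide) (N := 1231) S0
    (by decide) (n' := 25) (by decide) W0 (by decide +kernel) (by decide +kernel)
end k5
namespace k75
noncomputable def A_0 : List (ℕ) := [nat_lit 0x4021fe7ff3f8fe87e9fbcfc3f21f67df1d0faa2a9f30f83e39ee7bc3d8f6e7a9eb0f43d39e679c3c8f2e789e30f03c394a77c3b8eec769db0ec3b31d675c3a0ea4531d30a63a21ce73f398e68729cbce43921c671f388e28709c3ce03821be6ff378de8151bb8dc3721b66de368da86c9b38d83621606bf09cd62581ab0d43539a669c348d2e689a30d034399e67c338cee6699b0cc33399665c1e8ca8649938c832218e63e318c686298b8c431210a61a03cc2860983cc030217e5ff2f8be85e97bcbc2f21765df2e8ba85c973cb82e20205bc2d8b6c5a96b0b42d316659c2c8b2c589630552c215e57f2b8ae85695bcac2b215655f2a8aa854953ca82a214e53f298a680614b05729214651f288a2850943ca028213e4ff2789e84e93bc9c2721364df2689a8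3213305626104a4bc25896e4a92b09425392649c24892e4892309024391e47c2388ee4691b05b23311645c2288ac4491308822310e43c21886c0310b08421390641c20882e409030802038fe3fc1f87ee3e8fb07c1f38f63dc0347a83c8f38781e20ee3be1d87683a8eb8741d20b439f038724028e30701c38de37c1b86ee368db06c1b38d635c1a86ae348d30681a382233a18c6640c0cb45a19182031b168628308c38601820be2fe1785e82e8bb8181728a82da1505a2020b281116281a2bb158564018aa45415181a29f148528288a3c5014209e27f1384e82689bc4c13209625f1284a80b89384812208e23e1184682288b84411204421f0fc4241f0824221038521fb0a43e60787bc3c0f20761df0e83a81c873c380e206e1bf0d83681a86bc340d204819e0c8328188638300c205e17e0b82e81185bc280b104c15908c2ae058528020a18161390982661284a40109304611e00422810843c2008203e0ff0781e80e83bc1c0720360df0681a80c833c180620080bc05816c0a82b01405302609c04812c0882300304381207d0180e40301a40303381005a0040aa02812c080210000390180660280a40001300601e00002800803000,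
  nat_lit 0x8033feffc7f9fecfebfb1e67f3bd4fdc7e9facfcbf31487e23eefbe7d9f688abeb1277d23e6f9f7c9f28f8be3df07c23def7f7b9ee8f6bdbd4c7b23d6f5e7a9ea8efbd3de87a23cef3f0b9e66efbcb1e47933c6f1c789e2cf0bc31e0783068ef9091dea15bbbcc4771bb6ed9085da2eb3b25d8761baeeb9081d6c103abdc875237ce9f741d2ee3ba2820741b8ee7b739ce20fb9b9cc732396e5e729ca8e4b939c872237ee3f70dc62dfb8bdab71134ce1b6adc22e0b82dc070083cdfe079be8deb7bdbc6f2376ddf6e9ba8dcb73db86e236edbf6d9b68dab6bda56d2366d9e6c9b28d8b639b06c2334d7f6a5aead435a9a86b3b48d5a079aaad3b52da46a1b4ed39075a680f34b19b693b3ed1a675a22cdb43d88681306cfb6219e2ceb3ad9c670838cde0719a8ccb33d9866232ecbf659968cab2bd94652326c9f649928c8b23d7d64231ec7e6398e8c6b1b98c6322e8c5f6198aac2b13d7c621038c3d611866be30ad84610836c1c07182cc0b031806032febfc5f97ecbeafb1755f3af2bda5dd7aeb32f2d665e0aeebbb5d97620d2eb81a5d22e6b9f5c9728b8ae3d705c22deb7f5b96e8b6adbd6c5b22d6b5f1796a838ad35635a12c6b3f5816640d2c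b562591ac0b1b5896220cac301a583a50aff10d5e4252bb15c573ab6adc5695aeacab3158563aaeabc55956eaaaab1465532a6a9c54952ca8aa3150543292a7b5394e40b29b14c533a96a5c5294aea4a93147523a80a3e059468a2a8b944512286a1e509428a0a8393e50102a9fc0553e89ea7b8144f2a609db1653a23da731384e3a6e9bc4d936e9aa6b1344d3a6699c4c932e98a631304c396297c4b92ec96a5b12c4b325695c4a92ac212534864a28ce93c49926e92a4b124493a4691c48922e90a43120483a3e8fc4791ee8ea3b0414732368dc4691ac8ca3311846322e8bc25d16e61a2b114453a2689c44912e88a23110443a1e87c4390ee86a1b10c433a1685c1cd0ac84a1310842320e83c41906c82a0b06341220681f40902880a03d00,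
  nat_lit 0x4a50e894c21d296750cc5294a09d49424146669405c926325a4c93b2c12726524e82309fa4e8d32fcc028da384c14719a86bc4704168b21cc6018521a8621889968591a50b3612285b34511525ba2a8b00a3a2a832174186828e85050d5a12843348d3284a144d442906816c4290441e0b1d043ea1627d31705827d1d3cf93109d674e3bcea84d0c90ea3a48ca0643a43426f1d0c850a79d057c360db64a12a4dc37492c204374d526b9aec2d0a91ae63b2b4ae2641924af359994166358c266a9abcca09b9aa10a310848621948b709b19461d0a0c380707e4c32e58645c321c3345c1344b819a1706110b4c2e5b931cc22c58f60892c45325b16ec2b26316e5331d0a722e8304a602f9604c9294a423d1488970fb9481ea26498214130c2c0261302e22341664b12e41703f92e32a21c8c61088308c2190b4431190866338b78861620f642a0880ae428f4c4302b0f439915c7362d81a8730fe0e43940b072e338e44090398e419f1c467e2a0204670420cc19b19464e038c98560310c831e0380c23183385d18b0781ee1883d22e0b7c061588b62d60140dc2d07ac5815f8182b601c5542b813c5515782001b154168250470530920920ba10c4280485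244203f0820bb1003fa1601483f0fa80e1f40940a21f07b01100e07a19c0600481984882d02c85812e0ac2461505300802e0521450382741404b00701a84e0540982680284f40f00584e00e09022e0b805c2200b02e0220400220781040e01701a02303008805804c0a01d01200301c00c020010028f24771df8ea3a91cc73e388e246f1bf8da3691ac6be348d246719f7863281b463cc18c245f17f8ba2e916c5be2c8b245715f8aa2a911c53e288a244f13f5aa2650cc4ae2489086511c88a22d10c4322088343f0fc87a1ed0c43a832872c2d0d986a1a70b4330328624230bf85616218c2ae0c850c2709b84a12218423831843c1f07c7960e906c1b9aa83106105982a0a702413208823c0f03c81a06f02c0b204813bed01f80a0286b403200,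
  nat_lit 0x854a490a28552450942520b82ac2909381614302c0a2130c1c2818684493708420950369c1f0726f5be506c169250bdc16179811fb701c069e57d5c041a37f4c14fe94255480494500b12d5ed00a369fc7afbf88937e9fb289bbd9fb7d885cf397ddf86e9b8b9f814d3ea6c17d56a4f99dcdf37d09defa21c465efa1a89ea7b19faac67b1c1cf43d39c17393d2e997a0c66f4bd08c73213cef32309e6c160545e60d73c0f2972c53cf2bbe8d577f04a15e77dde28a0a6dde7699d8761775d66eebafddb76b3b68b476ddcaaf9185dc75e38ae7d765d88e7040dd90873ac92b755d5417b93dd56f63a8dfa74dcc4893984da365b9689a72dcbc5b16c1ca0b9b92e4a324c86e43068a92a4340be42a81c4553464aa2a83100eb2ada8255b9d8ac2ac342e0b2b01e25639dcad2b0380df92b4ad0e318e5d270fba4dfb749c726318add171e3a2e87709c54e8381dce71b39ce2973dcd8d2b371cd07d38ee067181f6e2b891a46ae388e1d6b5c24e1b811a16a2b84e0c69c1e6e103f9bf6fbb68d376f9a6cda35f99e66d35ed316b9a42d6b36dac692356d336a9a14d4b39da768b34ed4668da12d403b1a6075348c4168d9ccd103ada1622340cf267d85acf30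f19d676308cf56281c6cf03b99b66bb20c1f66983cc83179785d5316c1962979ec4aead895f2310c1b61d7a4c32edd846172f6bd16141b8c1b0455860920ec141785d8c103697c598af60db5e979aad2f09795da25eb1d5e1778b1034d7806f2ea2ff5ad61eba2b08fc3ed2b2b3956559e751d5d5a58d2b4ad05a15b23b2b69695a5a5cb095a568c752d0c75580ad0b3e4a16749c8bad675822cc971594764b2ac2d655908ea97a590754b12c79294bcac60cc584194b02be516089abeaf128c438af25a95c5752582575754aca809715453fa90a7c290964a799554c532992648534b64a6298cd8365296a52368944a4a8ed4825528e0ae51d3fca302913f4ee11a9d24ed3aa2e022d3a4e5a0c9cf4bc66e9c894d2b4aca2e4bb4a92f60c8cd92f,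
  nat_lit 0x55083ed5e11dd0423b561bd2043880e8835a6e4037b4802043a906a2005f0c38fe41c20412649854c1b0c2b0618a200344d3069c5f0be35c1c3694384d3b66cc708d1020be200124be061c1c43f83e0a111c38a0eb248920d11001be69b0fec3c1fc1c10490409455039c0e06787f0ce0fe19d66c350cf2671cec49b82c9307892664046c8005ec1247f5f30debab1bd83c7b8fe09108014424075c92055af90910711224886748304a8961d8678346d386b19c0cfb575a27123440ea688950571260ac3242386483747f05e43293c5f38e0378625784381ee1028ed1f03f024021051c32c5e1243b64882a88405789422970eb36d406bda20d21280ad7044202508084006b8800ca1f81769e0898700bc9f01031f411e1102905e10e2794f009022c4802a41141e9880d8760406d2d70d9b0d698e0db7a441ec1e4081706b04c0270980520020147d05d1e021d1c42b40c3044f90820f808e0608f60100f8006000ba2253c026000830c8f05407a059084228eb87edc30e698c0da40826f1da40c0201600a00801400c030024060040f80b90200122c04ecf007d8e80b11d010e1981701104c8b00e91ec11a0c04e80000383009a0300200600340403210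e0b100001c47029ce909d83048d080226e287e9c70e62061380000e4020150550430f60b80340200c21601864c8e80a556b0b84d04e8540321f41290100e64682981f08920813900c0ce2c0198990828b80ea0602160f04443c0b387a1280642180e8440620b003410d07021e3085981b0870c017a17e3382fb6298722fc779876fbb3ad366759d0da3081b360f26ebb06c983e9c26e1908ed2709786c5380cd2721b06694771db2a23b8b38bc63b8f1ab11978f23247e86b2323f64631898bc3551897ca2c8b32348d08b51b11745edeb34d45f18234a302f6305e308a73b0eda8a6284761daa2787644d12d87225c4d17262586744643e8761970e1786098219765d281e0650d435d2448fc350d42ea1bf0b862e1b2e8c3218c8652330bc22a17,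
  nat_lit 0x80000080000400000e0000000500003e0005500000100001b00003800000c0306380622c00c038018044110b10221770440380881ec110f402215404407a08807c1f0da83e03d04438e0880607b0638301d20600320c81fc1904003e13c06434a9e06d44710c88e17506438e0c87a0180b10300f73dc2c40c85e01f02e8301bf06403c0c80681a00e8340f806834a0d00781a03f83401b06c1000d80741b0d308e08206c03c0d86ac820ba83415406c1020d80701c04003822c0700fe0e00781c0409ee17707003a0e87a01d0d283a1c70703a40e82001d0cd9001a55d44327b862dc76da88e9b53e02f03808ec1d00f1001bd07434c4007101e10710081d2003564007508004083c48155310240854d750bd83c19b074382cd86a81d0d70bc06f1c02d6c18619c7ed73a59ae696b5cda87401e6d2b5c9a58b318f1622041d6402d623b]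
noncomputable def A : List (List (ℕ)) := [A_0]
noncomputable def K_0 : List (ℕ) := [nat_lit 0x7f9fd7f1fb7e9f97e1f77d9f57d1f37c9f17c1ef7b9ed7b1eb7a9e97a1e7799e5791e3789e1781df779dd771db769d9761d7759d5751d3749d1741cf739cd731cb729c9721c7719c5711c3709c1701bf6f9bd6f1bb6e9b96e1b76d9b56d1b36c9b16c1af6b9ad6b1ab6a9a96a1a7699a5691a3689a16819f6799d6719b66999661976599565193649916418f6398d6318b62989621876198561183609816017f5f97d5f17b5e9795e1775d9755d1735c9715c16f5b96d5b16b5a9695a1675996559163589615815f5795d5715b56959561575595555153549515414f5394d5314b52949521475194551143509415013f4f93d4f13b4e9394e1374d9354d1334c9314c12f4b92d4b12b4a9294a1274992549123489214811f4791d4711b46919461174591545113449114410f4390d4310b429094210741905411034090140000,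
  nat_lit 0xbfafdbf2fbbeaf9be2f7bdaf5bd2f3bcaf1bc2efbbaedbb2ebbaae9ba2e7b9ae5b92e3b8ae1b82dfb7addb72dbb6ad9b62d7b5ad5b52d3b4ad1b42cfb3acdb32cbb2ac9b22c7b1ac5b12c3b0ac1b02bfafabdaf2bbaeab9ae2b7adab5ad2b3acab1ac2afabaadab2abaaaa9aa2a7a9aa5a92a3a8aa1a829fa7a9da729ba6a99a6297a5a95a5293a4a91a428fa3a8da328ba2a89a2287a1a85a1283a0a81a027f9fa7d9f27b9ea799e2779da759d2739ca719c26f9ba6d9b26b9aa699a26799a659926398a619825f97a5d9725b96a599625795a559525394a519424f93a4d9324b92a499224791a459124390a419023f8fa3d8f23b8ea398e2378da358d2338ca318c22f8ba2d8b22b8aa298a22789a258922388a218821f87a1d8721b86a198621785a158521384a118420f83a0d8320b82a098220781a058120380a01801ff,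
  nat_lit 0x33bceb39ce337cdb35cd333ccb31cc32fcbb2dcb32bcab29ca327c9b25c9323c8b21c831fc7b1dc731bc6b19c6317c5b15c5313c4b11c430fc3b0dc330bc2b09c2307c1b05c1303c0b01c02ff]
noncomputable def K : List (List (ℕ)) := [K_0]
noncomputable def R_0 : List (Rule) := [Rule.mk (nat_lit 4) (nat_lit 31) (Steps.bwd (nat_lit 4) (Steps.bwd (nat_lit 4) Steps.nil)) (nat_lit 12) (nat_lit 0),
  Rule.mk (nat_lit 6) (nat_lit 31) (Steps.bwd (nat_lit 6) (Steps.bwd (nat_lit 6) Steps.nil)) (nat_lit 14) (nat_lit 0),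
  Rule.mk (nat_lit 3) (nat_lit 42) (Steps.bwd (nat_lit 1) (Steps.bwd (nat_lit 3) (Steps.bwd (nat_lit 1) Steps.nil))) (nat_lit 8) (nat_lit 1),
  Rule.mk (nat_lit 2) (nat_lit 42) (Steps.bwd (nat_lit 3) (Steps.bwd (nat_lit 2) (Steps.bwd (nat_lit 3) Steps.nil))) (nat_lit 10) (nat_lit 0),
  Rule.mk (nat_lit 3) (nat_lit 42) (Steps.bwd (nat_lit 5) (Steps.bwd (nat_lit 1) (Steps.bwd (nat_lit 4) Steps.nil))) (nat_lit 16) (nat_lit 2),
  Rule.mk (nat_lit 4) (nat_lit 42) (Steps.bwd (nat_lit 2) (Steps.bwd (nat_lit 4) (Steps.fwd (nat_lit 2048) Steps.nil))) (nat_lit 20) (nat_lit 0),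
  Rule.mk (nat_lit 3) (nat_lit 42) (Steps.bwd (nat_lit 7) (Steps.bwd (nat_lit 2) (Steps.bwd (nat_lit 6) Steps.nil))) (nat_lit 22) (nat_lit 2),
  Rule.mk (nat_lit 6) (nat_lit 42) (Steps.bwd (nat_lit 1) (Steps.bwd (nat_lit 6) (Steps.fwd (nat_lit 1024) Steps.nil))) (nat_lit 26) (nat_lit 0),
  Rule.mk (nat_lit 1) (nat_lit 53) (Steps.bwd (nat_lit 2) (Steps.fwd (nat_lit 1024) (Steps.fwd (nat_lit 3072) (Steps.fwd (nat_lit 2048) Steps.nil)))) (nat_lit 6) (nat_lit 2),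
  Rule.mk (nat_lit 1) (nat_lit 53) (Steps.bwd (nat_lit 5) (Steps.fwd (nat_lit 1024) (Steps.fwd (nat_lit 3072) (Steps.bwd (nat_lit 4) Steps.nil)))) (nat_lit 18) (nat_lit 2),
  Rule.mk (nat_lit 2) (nat_lit 53) (Steps.bwd (nat_lit 7) (Steps.fwd (nat_lit 2048) (Steps.fwd (nat_lit 3072) (Steps.bwd (nat_lit 6) Steps.nil)))) (nat_lit 24) (nat_lit 2),
  Rule.mk (nat_lit 6) (nat_lit 108) (Steps.bwd (nat_lit 4) (Steps.bwd (nat_lit 6) (Steps.bwd (nat_lit 4) (Steps.bwd (nat_lit 6) (Steps.bwd (nat_lit 4) (Steps.bwd (nat_lit 6) (Steps.bwd (nat_lit 4) (Steps.bwd (nat_lit 6) (Steps.bwd (nat_lit 4) Steps.nil))))))))) (nat_lit 30) (nat_lit 0),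
  Rule.mk (nat_lit 7) (nat_lit 152) (Steps.bwd (nat_lit 4) (Steps.bwd (nat_lit 7) (Steps.bwd (nat_lit 4) (Steps.bwd (nat_lit 7) (Steps.bwd (nat_lit 4) (Steps.bwd (nat_lit 7) (Steps.bwd (nat_lit 4) (Steps.bwd (nat_lit 7) (Steps.bwd (nat_lit 4) (Steps.bwd (nat_lit 7) (Steps.bwd (nat_lit 4) (Steps.fwd (nat_lit 6144) (Steps.bwd (nat_lit 4) Steps.nil))))))))))))) (nat_lit 28) (nat_lit 0),
  Rule.mk (nat_lit 7) (nat_lit 31) (Steps.fwd (nat_lit 6144) (Steps.bwd (nat_lit 7) Steps.nil)) (nat_lit 15) (nat_lit 0),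
  Rule.mk (nat_lit 5) (nat_lit 42) (Steps.fwd (nat_lit 1024) (Steps.bwd (nat_lit 4) (Steps.bwd (nat_lit 3) Steps.nil))) (nat_lit 16) (nat_lit 3),
  Rule.mk (nat_lit 4) (nat_lit 53) (Steps.bwd (nat_lit 1) (Steps.fwd (nat_lit 4096) (Steps.bwd (nat_lit 3) (Steps.bwd (nat_lit 1) Steps.nil)))) (nat_lit 19) (nat_lit 3),
  Rule.mk (nat_lit 4) (nat_lit 31) (Steps.bwd (nat_lit 4) (Steps.fwd (nat_lit 5120) Steps.nil)) (nat_lit 12) (nat_lit 0),
  Rule.mk (nat_lit 5) (nat_lit 42) (Steps.bwd (nat_lit 1) (Steps.bwd (nat_lit 4) (Steps.fwd (nat_lit 3072) Steps.nil))) (nat_lit 16) (nat_lit 3),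
  Rule.mk (nat_lit 4) (nat_lit 53) (Steps.bwd (nat_lit 1) (Steps.bwd (nat_lit 5) (Steps.bwd (nat_lit 1) (Steps.bwd (nat_lit 3) Steps.nil)))) (nat_lit 18) (nat_lit 1),
  Rule.mk (nat_lit 5) (nat_lit 42) (Steps.bwd (nat_lit 2) (Steps.bwd (nat_lit 5) (Steps.bwd (nat_lit 2) Steps.nil))) (nat_lit 21) (nat_lit 1),
  Rule.mk (nat_lit 4) (nat_lit 108) (Steps.bwd (nat_lit 6) (Steps.bwd (nat_lit 4) (Steps.bwd (nat_lit 6) (Steps.bwd (nat_lit 4) (Steps.bwd (nat_lit 6) (Steps.bwd (nat_lit 4) (Steps.bwd (nat_lit 6) (Steps.bwd (nat_lit 4) (Steps.bwd (nat_lit 6) Steps.nil))))))))) (nat_lit 30) (nat_lit 1),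
  Rule.mk (nat_lit 4) (nat_lit 152) (Steps.bwd (nat_lit 7) (Steps.bwd (nat_lit 4) (Steps.bwd (nat_lit 7) (Steps.bwd (nat_lit 4) (Steps.bwd (nat_lit 7) (Steps.bwd (nat_lit 4) (Steps.bwd (nat_lit 7) (Steps.bwd (nat_lit 4) (Steps.bwd (nat_lit 7) (Steps.bwd (nat_lit 4) (Steps.fwd (nat_lit 6144) (Steps.bwd (nat_lit 4) (Steps.fwd (nat_lit 6144) Steps.nil))))))))))))) (nat_lit 28) (nat_lit 1),
  Rule.mk (nat_lit 1) (nat_lit 42) (Steps.bwd (nat_lit 3) (Steps.fwd (nat_lit 1024) (Steps.bwd (nat_lit 3) Steps.nil))) (nat_lit 8) (nat_lit 0),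
  Rule.mk (nat_lit 4) (nat_lit 42) (Steps.fwd (nat_lit 3072) (Steps.fwd (nat_lit 4096) (Steps.bwd (nat_lit 1) Steps.nil))) (nat_lit 16) (nat_lit 1),
  Rule.mk (nat_lit 5) (nat_lit 53) (Steps.bwd (nat_lit 1) (Steps.bwd (nat_lit 3) (Steps.fwd (nat_lit 5120) (Steps.bwd (nat_lit 1) Steps.nil)))) (nat_lit 18) (nat_lit 3),
  Rule.mk (nat_lit 5) (nat_lit 42) (Steps.bwd (nat_lit 2) (Steps.fwd (nat_lit 4096) (Steps.bwd (nat_lit 2) Steps.nil))) (nat_lit 21) (nat_lit 1),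
  Rule.mk (nat_lit 6) (nat_lit 42) (Steps.bwd (nat_lit 1) (Steps.fwd (nat_lit 7168) (Steps.bwd (nat_lit 1) Steps.nil))) (nat_lit 26) (nat_lit 0),
  Rule.mk (nat_lit 4) (nat_lit 42) (Steps.bwd (nat_lit 3) (Steps.fwd (nat_lit 4096) (Steps.bwd (nat_lit 1) Steps.nil))) (nat_lit 16) (nat_lit 1),
  Rule.mk (nat_lit 4) (nat_lit 108) (Steps.bwd (nat_lit 6) (Steps.bwd (nat_lit 4) (Steps.bwd (nat_lit 6) (Steps.bwd (nat_lit 4) (Steps.bwd (nat_lit 6) (Steps.bwd (nat_lit 4) (Steps.fwd (nat_lit 7168) (Steps.bwd (nat_lit 4) (Steps.bwd (nat_lit 6) Steps.nil))))))))) (nat_lit 30) (nat_lit 1),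
  Rule.mk (nat_lit 7) (nat_lit 42) (Steps.fwd (nat_lit 2048) (Steps.bwd (nat_lit 6) (Steps.bwd (nat_lit 3) Steps.nil))) (nat_lit 22) (nat_lit 3),
  Rule.mk (nat_lit 7) (nat_lit 31) (Steps.bwd (nat_lit 7) (Steps.bwd (nat_lit 7) Steps.nil)) (nat_lit 15) (nat_lit 0),
  Rule.mk (nat_lit 6) (nat_lit 53) (Steps.bwd (nat_lit 2) (Steps.bwd (nat_lit 7) (Steps.bwd (nat_lit 2) (Steps.bwd (nat_lit 3) Steps.nil)))) (nat_lit 24) (nat_lit 1),
  Rule.mk (nat_lit 7) (nat_lit 53) (Steps.fwd (nat_lit 3072) (Steps.bwd (nat_lit 2) (Steps.fwd (nat_lit 7168) (Steps.bwd (nat_lit 2) Steps.nil)))) (nat_lit 25) (nat_lit 0),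
  Rule.mk (nat_lit 7) (nat_lit 42) (Steps.fwd (nat_lit 1024) (Steps.fwd (nat_lit 6144) (Steps.bwd (nat_lit 1) Steps.nil))) (nat_lit 27) (nat_lit 1),
  Rule.mk (nat_lit 6) (nat_lit 31) (Steps.fwd (nat_lit 7168) (Steps.bwd (nat_lit 6) Steps.nil)) (nat_lit 14) (nat_lit 0),
  Rule.mk (nat_lit 6) (nat_lit 31) (Steps.bwd (nat_lit 6) (Steps.fwd (nat_lit 7168) Steps.nil)) (nat_lit 14) (nat_lit 0),
  Rule.mk (nat_lit 1) (nat_lit 42) (Steps.bwd (nat_lit 3) (Steps.bwd (nat_lit 1) (Steps.bwd (nat_lit 3) Steps.nil))) (nat_lit 8) (nat_lit 0),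
  Rule.mk (nat_lit 6) (nat_lit 42) (Steps.fwd (nat_lit 1024) (Steps.fwd (nat_lit 7168) (Steps.bwd (nat_lit 1) Steps.nil))) (nat_lit 26) (nat_lit 0),
  Rule.mk (nat_lit 2) (nat_lit 42) (Steps.bwd (nat_lit 3) (Steps.fwd (nat_lit 2048) (Steps.bwd (nat_lit 3) Steps.nil))) (nat_lit 10) (nat_lit 0),
  Rule.mk (nat_lit 6) (nat_lit 42) (Steps.fwd (nat_lit 3072) (Steps.bwd (nat_lit 7) (Steps.bwd (nat_lit 2) Steps.nil))) (nat_lit 22) (nat_lit 1),
  Rule.mk (nat_lit 7) (nat_lit 53) (Steps.bwd (nat_lit 2) (Steps.bwd (nat_lit 3) (Steps.fwd (nat_lit 7168) (Steps.bwd (nat_lit 2) Steps.nil)))) (nat_lit 24) (nat_lit 3),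
  Rule.mk (nat_lit 4) (nat_lit 42) (Steps.bwd (nat_lit 2) (Steps.bwd (nat_lit 4) (Steps.bwd (nat_lit 2) Steps.nil))) (nat_lit 20) (nat_lit 0),
  Rule.mk (nat_lit 1) (nat_lit 53) (Steps.bwd (nat_lit 2) (Steps.fwd (nat_lit 1024) (Steps.fwd (nat_lit 3072) (Steps.bwd (nat_lit 2) Steps.nil)))) (nat_lit 6) (nat_lit 2),
  Rule.mk (nat_lit 7) (nat_lit 42) (Steps.fwd (nat_lit 1024) (Steps.bwd (nat_lit 7) (Steps.bwd (nat_lit 1) Steps.nil))) (nat_lit 27) (nat_lit 1),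
  Rule.mk (nat_lit 3) (nat_lit 42) (Steps.bwd (nat_lit 2) (Steps.fwd (nat_lit 3072) (Steps.fwd (nat_lit 2048) Steps.nil))) (nat_lit 10) (nat_lit 1),
  Rule.mk (nat_lit 7) (nat_lit 42) (Steps.bwd (nat_lit 2) (Steps.bwd (nat_lit 6) (Steps.bwd (nat_lit 3) Steps.nil))) (nat_lit 22) (nat_lit 3),
  Rule.mk (nat_lit 4) (nat_lit 53) (Steps.fwd (nat_lit 1024) (Steps.fwd (nat_lit 4096) (Steps.bwd (nat_lit 1) (Steps.bwd (nat_lit 3) Steps.nil)))) (nat_lit 18) (nat_lit 1),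
  Rule.mk (nat_lit 2) (nat_lit 53) (Steps.bwd (nat_lit 7) (Steps.bwd (nat_lit 2) (Steps.bwd (nat_lit 3) (Steps.bwd (nat_lit 6) Steps.nil)))) (nat_lit 24) (nat_lit 2),
  Rule.mk (nat_lit 3) (nat_lit 42) (Steps.bwd (nat_lit 2) (Steps.bwd (nat_lit 3) (Steps.bwd (nat_lit 2) Steps.nil))) (nat_lit 10) (nat_lit 1),
  Rule.mk (nat_lit 1) (nat_lit 53) (Steps.bwd (nat_lit 3) (Steps.bwd (nat_lit 2) (Steps.fwd (nat_lit 1024) (Steps.bwd (nat_lit 2) Steps.nil)))) (nat_lit 6) (nat_lit 4),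
  Rule.mk (nat_lit 6) (nat_lit 108) (Steps.bwd (nat_lit 4) (Steps.bwd (nat_lit 6) (Steps.bwd (nat_lit 4) (Steps.bwd (nat_lit 6) (Steps.bwd (nat_lit 4) (Steps.bwd (nat_lit 6) (Steps.bwd (nat_lit 4) (Steps.bwd (nat_lit 6) (Steps.fwd (nat_lit 5120) Steps.nil))))))))) (nat_lit 30) (nat_lit 0),
  Rule.mk (nat_lit 3) (nat_lit 42) (Steps.bwd (nat_lit 7) (Steps.fwd (nat_lit 2048) (Steps.bwd (nat_lit 6) Steps.nil))) (nat_lit 22) (nat_lit 2),
  Rule.mk (nat_lit 7) (nat_lit 152) (Steps.bwd (nat_lit 4) (Steps.bwd (nat_lit 7) (Steps.bwd (nat_lit 4) (Steps.bwd (nat_lit 7) (Steps.bwd (nat_lit 4) (Steps.bwd (nat_lit 7) (Steps.bwd (nat_lit 4) (Steps.bwd (nat_lit 7) (Steps.bwd (nat_lit 4) (Steps.bwd (nat_lit 7) (Steps.bwd (nat_lit 4) (Steps.fwd (nat_lit 6144) (Steps.fwd (nat_lit 5120) Steps.nil))))))))))))) (nat_lit 28) (nat_lit 0),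
  Rule.mk (nat_lit 2) (nat_lit 42) (Steps.fwd (nat_lit 7168) (Steps.bwd (nat_lit 3) (Steps.bwd (nat_lit 7) Steps.nil))) (nat_lit 22) (nat_lit 0),
  Rule.mk (nat_lit 1) (nat_lit 42) (Steps.bwd (nat_lit 6) (Steps.bwd (nat_lit 1) (Steps.bwd (nat_lit 6) Steps.nil))) (nat_lit 26) (nat_lit 1),
  Rule.mk (nat_lit 2) (nat_lit 53) (Steps.fwd (nat_lit 6144) (Steps.bwd (nat_lit 2) (Steps.bwd (nat_lit 3) (Steps.bwd (nat_lit 6) Steps.nil)))) (nat_lit 24) (nat_lit 2),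
  Rule.mk (nat_lit 4) (nat_lit 108) (Steps.bwd (nat_lit 6) (Steps.bwd (nat_lit 4) (Steps.bwd (nat_lit 6) (Steps.bwd (nat_lit 4) (Steps.bwd (nat_lit 6) (Steps.bwd (nat_lit 4) (Steps.bwd (nat_lit 6) (Steps.fwd (nat_lit 5120) (Steps.bwd (nat_lit 6) Steps.nil))))))))) (nat_lit 30) (nat_lit 1),
  Rule.mk (nat_lit 3) (nat_lit 42) (Steps.fwd (nat_lit 4096) (Steps.fwd (nat_lit 1024) (Steps.bwd (nat_lit 4) Steps.nil))) (nat_lit 16) (nat_lit 2),
  Rule.mk (nat_lit 2) (nat_lit 42) (Steps.bwd (nat_lit 4) (Steps.bwd (nat_lit 2) (Steps.fwd (nat_lit 5120) Steps.nil))) (nat_lit 20) (nat_lit 1),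
  Rule.mk (nat_lit 7) (nat_lit 152) (Steps.bwd (nat_lit 4) (Steps.bwd (nat_lit 7) (Steps.bwd (nat_lit 4) (Steps.bwd (nat_lit 7) (Steps.bwd (nat_lit 4) (Steps.bwd (nat_lit 7) (Steps.bwd (nat_lit 4) (Steps.bwd (nat_lit 7) (Steps.bwd (nat_lit 4) (Steps.bwd (nat_lit 7) (Steps.bwd (nat_lit 4) (Steps.bwd (nat_lit 7) (Steps.fwd (nat_lit 5120) Steps.nil))))))))))))) (nat_lit 28) (nat_lit 0),
  Rule.mk (nat_lit 1) (nat_lit 42) (Steps.fwd (nat_lit 6144) (Steps.bwd (nat_lit 1) (Steps.bwd (nat_lit 7) Steps.nil))) (nat_lit 27) (nat_lit 0),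
  Rule.mk (nat_lit 3) (nat_lit 42) (Steps.fwd (nat_lit 4096) (Steps.bwd (nat_lit 1) (Steps.bwd (nat_lit 4) Steps.nil))) (nat_lit 16) (nat_lit 2),
  Rule.mk (nat_lit 2) (nat_lit 42) (Steps.bwd (nat_lit 4) (Steps.bwd (nat_lit 2) (Steps.bwd (nat_lit 4) Steps.nil))) (nat_lit 20) (nat_lit 1),
  Rule.mk (nat_lit 2) (nat_lit 42) (Steps.fwd (nat_lit 7168) (Steps.fwd (nat_lit 3072) (Steps.bwd (nat_lit 7) Steps.nil))) (nat_lit 22) (nat_lit 0)]
noncomputable def R_1 : List (Rule) := [Rule.mk (nat_lit 1) (nat_lit 42) (Steps.bwd (nat_lit 4) (Steps.bwd (nat_lit 3) (Steps.fwd (nat_lit 4096) Steps.nil))) (nat_lit 16) (nat_lit 0),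
  Rule.mk (nat_lit 7) (nat_lit 152) (Steps.bwd (nat_lit 4) (Steps.bwd (nat_lit 7) (Steps.bwd (nat_lit 4) (Steps.bwd (nat_lit 7) (Steps.bwd (nat_lit 4) (Steps.bwd (nat_lit 7) (Steps.bwd (nat_lit 4) (Steps.bwd (nat_lit 7) (Steps.bwd (nat_lit 4) (Steps.bwd (nat_lit 7) (Steps.bwd (nat_lit 4) (Steps.bwd (nat_lit 7) (Steps.bwd (nat_lit 4) Steps.nil))))))))))))) (nat_lit 28) (nat_lit 0),
  Rule.mk (nat_lit 1) (nat_lit 42) (Steps.bwd (nat_lit 4) (Steps.fwd (nat_lit 3072) (Steps.fwd (nat_lit 4096) Steps.nil))) (nat_lit 16) (nat_lit 0),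
  Rule.mk (nat_lit 1) (nat_lit 42) (Steps.bwd (nat_lit 6) (Steps.bwd (nat_lit 1) (Steps.fwd (nat_lit 7168) Steps.nil))) (nat_lit 26) (nat_lit 1),
  Rule.mk (nat_lit 3) (nat_lit 53) (Steps.bwd (nat_lit 4) (Steps.bwd (nat_lit 1) (Steps.fwd (nat_lit 4096) (Steps.bwd (nat_lit 1) Steps.nil)))) (nat_lit 18) (nat_lit 0),
  Rule.mk (nat_lit 6) (nat_lit 108) (Steps.bwd (nat_lit 4) (Steps.bwd (nat_lit 6) (Steps.bwd (nat_lit 4) (Steps.bwd (nat_lit 6) (Steps.bwd (nat_lit 4) (Steps.bwd (nat_lit 6) (Steps.bwd (nat_lit 4) (Steps.fwd (nat_lit 7168) (Steps.bwd (nat_lit 4) Steps.nil))))))))) (nat_lit 30) (nat_lit 0),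
  Rule.mk (nat_lit 3) (nat_lit 42) (Steps.fwd (nat_lit 6144) (Steps.fwd (nat_lit 2048) (Steps.bwd (nat_lit 6) Steps.nil))) (nat_lit 22) (nat_lit 2),
  Rule.mk (nat_lit 1) (nat_lit 53) (Steps.fwd (nat_lit 4096) (Steps.bwd (nat_lit 3) (Steps.bwd (nat_lit 1) (Steps.bwd (nat_lit 4) Steps.nil)))) (nat_lit 19) (nat_lit 4),
  Rule.mk (nat_lit 1) (nat_lit 42) (Steps.bwd (nat_lit 7) (Steps.fwd (nat_lit 1024) (Steps.bwd (nat_lit 7) Steps.nil))) (nat_lit 27) (nat_lit 0),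
  Rule.mk (nat_lit 2) (nat_lit 42) (Steps.bwd (nat_lit 4) (Steps.fwd (nat_lit 2048) (Steps.bwd (nat_lit 4) Steps.nil))) (nat_lit 20) (nat_lit 1),
  Rule.mk (nat_lit 3) (nat_lit 42) (Steps.fwd (nat_lit 2048) (Steps.fwd (nat_lit 3072) (Steps.bwd (nat_lit 2) Steps.nil))) (nat_lit 10) (nat_lit 1),
  Rule.mk (nat_lit 3) (nat_lit 42) (Steps.fwd (nat_lit 6144) (Steps.bwd (nat_lit 2) (Steps.fwd (nat_lit 7168) Steps.nil))) (nat_lit 22) (nat_lit 2),
  Rule.mk (nat_lit 1) (nat_lit 53) (Steps.bwd (nat_lit 2) (Steps.fwd (nat_lit 1024) (Steps.bwd (nat_lit 3) (Steps.bwd (nat_lit 2) Steps.nil)))) (nat_lit 6) (nat_lit 2),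
  Rule.mk (nat_lit 5) (nat_lit 53) (Steps.fwd (nat_lit 1024) (Steps.bwd (nat_lit 3) (Steps.fwd (nat_lit 5120) (Steps.bwd (nat_lit 1) Steps.nil)))) (nat_lit 18) (nat_lit 3),
  Rule.mk (nat_lit 2) (nat_lit 53) (Steps.fwd (nat_lit 6144) (Steps.bwd (nat_lit 2) (Steps.fwd (nat_lit 3072) (Steps.bwd (nat_lit 6) Steps.nil)))) (nat_lit 24) (nat_lit 2),
  Rule.mk (nat_lit 3) (nat_lit 42) (Steps.bwd (nat_lit 7) (Steps.bwd (nat_lit 2) (Steps.fwd (nat_lit 7168) Steps.nil))) (nat_lit 22) (nat_lit 2),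
  Rule.mk (nat_lit 1) (nat_lit 53) (Steps.fwd (nat_lit 4096) (Steps.fwd (nat_lit 1024) (Steps.bwd (nat_lit 3) (Steps.bwd (nat_lit 4) Steps.nil)))) (nat_lit 18) (nat_lit 2),
  Rule.mk (nat_lit 2) (nat_lit 53) (Steps.bwd (nat_lit 7) (Steps.bwd (nat_lit 2) (Steps.bwd (nat_lit 3) (Steps.fwd (nat_lit 7168) Steps.nil)))) (nat_lit 24) (nat_lit 2),
  Rule.mk (nat_lit 3) (nat_lit 42) (Steps.fwd (nat_lit 2048) (Steps.bwd (nat_lit 3) (Steps.bwd (nat_lit 2) Steps.nil))) (nat_lit 10) (nat_lit 1),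
  Rule.mk (nat_lit 4) (nat_lit 108) (Steps.bwd (nat_lit 6) (Steps.bwd (nat_lit 4) (Steps.bwd (nat_lit 6) (Steps.bwd (nat_lit 4) (Steps.bwd (nat_lit 6) (Steps.bwd (nat_lit 4) (Steps.fwd (nat_lit 7168) (Steps.bwd (nat_lit 4) (Steps.fwd (nat_lit 7168) Steps.nil))))))))) (nat_lit 30) (nat_lit 1),
  Rule.mk (nat_lit 1) (nat_lit 53) (Steps.fwd (nat_lit 4096) (Steps.bwd (nat_lit 1) (Steps.bwd (nat_lit 3) (Steps.bwd (nat_lit 4) Steps.nil)))) (nat_lit 18) (nat_lit 2),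
  Rule.mk (nat_lit 3) (nat_lit 53) (Steps.bwd (nat_lit 2) (Steps.fwd (nat_lit 7168) (Steps.fwd (nat_lit 2048) (Steps.bwd (nat_lit 7) Steps.nil)))) (nat_lit 25) (nat_lit 1),
  Rule.mk (nat_lit 1) (nat_lit 53) (Steps.bwd (nat_lit 5) (Steps.bwd (nat_lit 1) (Steps.bwd (nat_lit 3) (Steps.bwd (nat_lit 4) Steps.nil)))) (nat_lit 18) (nat_lit 2),
  Rule.mk (nat_lit 6) (nat_lit 108) (Steps.bwd (nat_lit 4) (Steps.bwd (nat_lit 6) (Steps.bwd (nat_lit 4) (Steps.bwd (nat_lit 6) (Steps.bwd (nat_lit 4) (Steps.fwd (nat_lit 7168) (Steps.bwd (nat_lit 4) (Steps.fwd (nat_lit 7168) (Steps.bwd (nat_lit 4) Steps.nil))))))))) (nat_lit 30) (nat_lit 0),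
  Rule.mk (nat_lit 1) (nat_lit 53) (Steps.bwd (nat_lit 5) (Steps.bwd (nat_lit 1) (Steps.bwd (nat_lit 3) (Steps.fwd (nat_lit 5120) Steps.nil)))) (nat_lit 18) (nat_lit 2),
  Rule.mk (nat_lit 3) (nat_lit 42) (Steps.fwd (nat_lit 1024) (Steps.bwd (nat_lit 3) (Steps.bwd (nat_lit 1) Steps.nil))) (nat_lit 8) (nat_lit 1),
  Rule.mk (nat_lit 4) (nat_lit 108) (Steps.bwd (nat_lit 6) (Steps.bwd (nat_lit 4) (Steps.bwd (nat_lit 6) (Steps.bwd (nat_lit 4) (Steps.bwd (nat_lit 6) (Steps.bwd (nat_lit 4) (Steps.bwd (nat_lit 6) (Steps.fwd (nat_lit 5120) (Steps.fwd (nat_lit 7168) Steps.nil))))))))) (nat_lit 30) (nat_lit 1),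
  Rule.mk (nat_lit 3) (nat_lit 53) (Steps.bwd (nat_lit 4) (Steps.fwd (nat_lit 1024) (Steps.fwd (nat_lit 4096) (Steps.fwd (nat_lit 1024) Steps.nil)))) (nat_lit 18) (nat_lit 0),
  Rule.mk (nat_lit 2) (nat_lit 42) (Steps.bwd (nat_lit 6) (Steps.bwd (nat_lit 3) (Steps.fwd (nat_lit 6144) Steps.nil))) (nat_lit 22) (nat_lit 0),
  Rule.mk (nat_lit 2) (nat_lit 42) (Steps.fwd (nat_lit 4096) (Steps.bwd (nat_lit 2) (Steps.fwd (nat_lit 4096) Steps.nil))) (nat_lit 21) (nat_lit 0),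
  Rule.mk (nat_lit 3) (nat_lit 53) (Steps.bwd (nat_lit 4) (Steps.bwd (nat_lit 1) (Steps.fwd (nat_lit 4096) (Steps.fwd (nat_lit 1024) Steps.nil)))) (nat_lit 18) (nat_lit 0),
  Rule.mk (nat_lit 2) (nat_lit 53) (Steps.fwd (nat_lit 6144) (Steps.bwd (nat_lit 2) (Steps.bwd (nat_lit 3) (Steps.fwd (nat_lit 7168) Steps.nil)))) (nat_lit 24) (nat_lit 2),
  Rule.mk (nat_lit 4) (nat_lit 108) (Steps.bwd (nat_lit 6) (Steps.bwd (nat_lit 4) (Steps.bwd (nat_lit 6) (Steps.bwd (nat_lit 4) (Steps.bwd (nat_lit 6) (Steps.bwd (nat_lit 4) (Steps.fwd (nat_lit 7168) (Steps.fwd (nat_lit 5120) (Steps.fwd (nat_lit 7168) Steps.nil))))))))) (nat_lit 30) (nat_lit 1),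
  Rule.mk (nat_lit 1) (nat_lit 53) (Steps.fwd (nat_lit 4096) (Steps.bwd (nat_lit 1) (Steps.fwd (nat_lit 3072) (Steps.bwd (nat_lit 4) Steps.nil)))) (nat_lit 18) (nat_lit 2),
  Rule.mk (nat_lit 2) (nat_lit 42) (Steps.bwd (nat_lit 6) (Steps.bwd (nat_lit 3) (Steps.bwd (nat_lit 7) Steps.nil))) (nat_lit 22) (nat_lit 0),
  Rule.mk (nat_lit 1) (nat_lit 42) (Steps.fwd (nat_lit 6144) (Steps.fwd (nat_lit 1024) (Steps.bwd (nat_lit 7) Steps.nil))) (nat_lit 27) (nat_lit 0),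
  Rule.mk (nat_lit 3) (nat_lit 53) (Steps.fwd (nat_lit 2048) (Steps.fwd (nat_lit 7168) (Steps.fwd (nat_lit 2048) (Steps.bwd (nat_lit 7) Steps.nil)))) (nat_lit 25) (nat_lit 1),
  Rule.mk (nat_lit 3) (nat_lit 42) (Steps.bwd (nat_lit 5) (Steps.fwd (nat_lit 1024) (Steps.bwd (nat_lit 4) Steps.nil))) (nat_lit 16) (nat_lit 2),
  Rule.mk (nat_lit 2) (nat_lit 42) (Steps.fwd (nat_lit 3072) (Steps.fwd (nat_lit 2048) (Steps.bwd (nat_lit 3) Steps.nil))) (nat_lit 10) (nat_lit 0),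
  Rule.mk (nat_lit 1) (nat_lit 53) (Steps.bwd (nat_lit 2) (Steps.fwd (nat_lit 1024) (Steps.fwd (nat_lit 2048) (Steps.bwd (nat_lit 3) Steps.nil)))) (nat_lit 7) (nat_lit 2),
  Rule.mk (nat_lit 3) (nat_lit 42) (Steps.fwd (nat_lit 1024) (Steps.fwd (nat_lit 3072) (Steps.bwd (nat_lit 1) Steps.nil))) (nat_lit 8) (nat_lit 1),
  Rule.mk (nat_lit 2) (nat_lit 53) (Steps.bwd (nat_lit 1) (Steps.fwd (nat_lit 3072) (Steps.fwd (nat_lit 2048) (Steps.bwd (nat_lit 1) Steps.nil)))) (nat_lit 6) (nat_lit 3),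
  Rule.mk (nat_lit 3) (nat_lit 53) (Steps.bwd (nat_lit 6) (Steps.bwd (nat_lit 2) (Steps.bwd (nat_lit 7) (Steps.bwd (nat_lit 2) Steps.nil)))) (nat_lit 24) (nat_lit 0),
  Rule.mk (nat_lit 3) (nat_lit 53) (Steps.bwd (nat_lit 1) (Steps.bwd (nat_lit 4) (Steps.bwd (nat_lit 1) (Steps.fwd (nat_lit 4096) Steps.nil)))) (nat_lit 19) (nat_lit 1),
  Rule.mk (nat_lit 3) (nat_lit 53) (Steps.bwd (nat_lit 2) (Steps.bwd (nat_lit 6) (Steps.fwd (nat_lit 2048) (Steps.bwd (nat_lit 7) Steps.nil)))) (nat_lit 25) (nat_lit 1),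
  Rule.mk (nat_lit 3) (nat_lit 42) (Steps.bwd (nat_lit 1) (Steps.fwd (nat_lit 3072) (Steps.fwd (nat_lit 1024) Steps.nil))) (nat_lit 8) (nat_lit 1),
  Rule.mk (nat_lit 4) (nat_lit 42) (Steps.fwd (nat_lit 2048) (Steps.fwd (nat_lit 5120) (Steps.bwd (nat_lit 2) Steps.nil))) (nat_lit 20) (nat_lit 0),
  Rule.mk (nat_lit 2) (nat_lit 53) (Steps.fwd (nat_lit 6144) (Steps.bwd (nat_lit 3) (Steps.bwd (nat_lit 2) (Steps.fwd (nat_lit 7168) Steps.nil)))) (nat_lit 25) (nat_lit 4),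
  Rule.mk (nat_lit 2) (nat_lit 42) (Steps.bwd (nat_lit 3) (Steps.bwd (nat_lit 2) (Steps.fwd (nat_lit 3072) Steps.nil))) (nat_lit 10) (nat_lit 0),
  Rule.mk (nat_lit 0) (nat_lit 53) (Steps.bwd (nat_lit 4) (Steps.bwd (nat_lit 3) (Steps.fwd (nat_lit 4096) (Steps.fwd (nat_lit 1024) Steps.nil)))) (nat_lit 16) (nat_lit 0),
  Rule.mk (nat_lit 5) (nat_lit 31) (Steps.bwd (nat_lit 0) (Steps.bwd (nat_lit 4) Steps.nil)) (nat_lit 32) (nat_lit 0),
  Rule.mk (nat_lit 5) (nat_lit 31) (Steps.bwd (nat_lit 5) (Steps.fwd (nat_lit 4096) Steps.nil)) (nat_lit 13) (nat_lit 0),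
  Rule.mk (nat_lit 7) (nat_lit 53) (Steps.fwd (nat_lit 3072) (Steps.fwd (nat_lit 2048) (Steps.fwd (nat_lit 7168) (Steps.bwd (nat_lit 2) Steps.nil)))) (nat_lit 25) (nat_lit 0),
  Rule.mk (nat_lit 4) (nat_lit 108) (Steps.bwd (nat_lit 6) (Steps.bwd (nat_lit 4) (Steps.bwd (nat_lit 6) (Steps.bwd (nat_lit 4) (Steps.bwd (nat_lit 6) (Steps.bwd (nat_lit 4) (Steps.bwd (nat_lit 6) (Steps.bwd (nat_lit 4) (Steps.fwd (nat_lit 7168) Steps.nil))))))))) (nat_lit 30) (nat_lit 1),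
  Rule.mk (nat_lit 7) (nat_lit 152) (Steps.bwd (nat_lit 4) (Steps.bwd (nat_lit 7) (Steps.bwd (nat_lit 4) (Steps.bwd (nat_lit 7) (Steps.bwd (nat_lit 4) (Steps.bwd (nat_lit 7) (Steps.bwd (nat_lit 4) (Steps.bwd (nat_lit 7) (Steps.bwd (nat_lit 4) (Steps.fwd (nat_lit 6144) (Steps.bwd (nat_lit 4) (Steps.fwd (nat_lit 6144) (Steps.bwd (nat_lit 4) Steps.nil))))))))))))) (nat_lit 28) (nat_lit 0),
  Rule.mk (nat_lit 2) (nat_lit 42) (Steps.bwd (nat_lit 6) (Steps.fwd (nat_lit 3072) (Steps.bwd (nat_lit 7) Steps.nil))) (nat_lit 22) (nat_lit 0),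
  Rule.mk (nat_lit 3) (nat_lit 42) (Steps.bwd (nat_lit 7) (Steps.fwd (nat_lit 2048) (Steps.fwd (nat_lit 7168) Steps.nil))) (nat_lit 22) (nat_lit 2),
  Rule.mk (nat_lit 1) (nat_lit 42) (Steps.fwd (nat_lit 3072) (Steps.bwd (nat_lit 1) (Steps.bwd (nat_lit 3) Steps.nil))) (nat_lit 8) (nat_lit 0),
  Rule.mk (nat_lit 2) (nat_lit 53) (Steps.bwd (nat_lit 7) (Steps.bwd (nat_lit 2) (Steps.fwd (nat_lit 3072) (Steps.fwd (nat_lit 7168) Steps.nil)))) (nat_lit 24) (nat_lit 2),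
  Rule.mk (nat_lit 1) (nat_lit 42) (Steps.bwd (nat_lit 3) (Steps.bwd (nat_lit 1) (Steps.fwd (nat_lit 3072) Steps.nil))) (nat_lit 8) (nat_lit 0),
  Rule.mk (nat_lit 6) (nat_lit 42) (Steps.fwd (nat_lit 1024) (Steps.bwd (nat_lit 6) (Steps.bwd (nat_lit 1) Steps.nil))) (nat_lit 26) (nat_lit 0),
  Rule.mk (nat_lit 2) (nat_lit 53) (Steps.fwd (nat_lit 3072) (Steps.bwd (nat_lit 6) (Steps.bwd (nat_lit 2) (Steps.fwd (nat_lit 6144) Steps.nil)))) (nat_lit 24) (nat_lit 4),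
  Rule.mk (nat_lit 2) (nat_lit 42) (Steps.bwd (nat_lit 3) (Steps.fwd (nat_lit 2048) (Steps.fwd (nat_lit 3072) Steps.nil))) (nat_lit 10) (nat_lit 0),
  Rule.mk (nat_lit 1) (nat_lit 53) (Steps.bwd (nat_lit 2) (Steps.bwd (nat_lit 1) (Steps.fwd (nat_lit 3072) (Steps.bwd (nat_lit 2) Steps.nil)))) (nat_lit 6) (nat_lit 2)]
noncomputable def R_2 : List (Rule) := [Rule.mk (nat_lit 2) (nat_lit 42) (Steps.bwd (nat_lit 5) (Steps.fwd (nat_lit 2048) (Steps.fwd (nat_lit 4096) Steps.nil))) (nat_lit 21) (nat_lit 0),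
  Rule.mk (nat_lit 1) (nat_lit 53) (Steps.bwd (nat_lit 5) (Steps.bwd (nat_lit 1) (Steps.fwd (nat_lit 3072) (Steps.bwd (nat_lit 4) Steps.nil)))) (nat_lit 18) (nat_lit 2),
  Rule.mk (nat_lit 6) (nat_lit 53) (Steps.bwd (nat_lit 2) (Steps.fwd (nat_lit 6144) (Steps.bwd (nat_lit 2) (Steps.bwd (nat_lit 3) Steps.nil)))) (nat_lit 24) (nat_lit 1),
  Rule.mk (nat_lit 1) (nat_lit 53) (Steps.bwd (nat_lit 5) (Steps.fwd (nat_lit 1024) (Steps.bwd (nat_lit 3) (Steps.bwd (nat_lit 4) Steps.nil)))) (nat_lit 18) (nat_lit 2),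
  Rule.mk (nat_lit 3) (nat_lit 42) (Steps.bwd (nat_lit 1) (Steps.fwd (nat_lit 3072) (Steps.bwd (nat_lit 1) Steps.nil))) (nat_lit 8) (nat_lit 1),
  Rule.mk (nat_lit 2) (nat_lit 53) (Steps.bwd (nat_lit 3) (Steps.bwd (nat_lit 6) (Steps.bwd (nat_lit 2) (Steps.bwd (nat_lit 7) Steps.nil)))) (nat_lit 24) (nat_lit 4),
  Rule.mk (nat_lit 0) (nat_lit 53) (Steps.bwd (nat_lit 3) (Steps.fwd (nat_lit 4096) (Steps.fwd (nat_lit 1024) (Steps.bwd (nat_lit 4) Steps.nil)))) (nat_lit 16) (nat_lit 1),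
  Rule.mk (nat_lit 2) (nat_lit 31) (Steps.bwd (nat_lit 0) (Steps.bwd (nat_lit 2) Steps.nil)) (nat_lit 32) (nat_lit 0),
  Rule.mk (nat_lit 7) (nat_lit 31) (Steps.bwd (nat_lit 0) (Steps.bwd (nat_lit 6) Steps.nil)) (nat_lit 32) (nat_lit 0),
  Rule.mk (nat_lit 1) (nat_lit 42) (Steps.bwd (nat_lit 7) (Steps.fwd (nat_lit 1024) (Steps.fwd (nat_lit 6144) Steps.nil))) (nat_lit 27) (nat_lit 0),
  Rule.mk (nat_lit 7) (nat_lit 31) (Steps.bwd (nat_lit 7) (Steps.fwd (nat_lit 6144) Steps.nil)) (nat_lit 15) (nat_lit 0),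
  Rule.mk (nat_lit 5) (nat_lit 42) (Steps.fwd (nat_lit 2048) (Steps.bwd (nat_lit 5) (Steps.bwd (nat_lit 2) Steps.nil))) (nat_lit 21) (nat_lit 1),
  Rule.mk (nat_lit 2) (nat_lit 53) (Steps.bwd (nat_lit 7) (Steps.fwd (nat_lit 2048) (Steps.fwd (nat_lit 3072) (Steps.fwd (nat_lit 7168) Steps.nil)))) (nat_lit 24) (nat_lit 2),
  Rule.mk (nat_lit 1) (nat_lit 53) (Steps.fwd (nat_lit 4096) (Steps.fwd (nat_lit 1024) (Steps.fwd (nat_lit 3072) (Steps.bwd (nat_lit 4) Steps.nil)))) (nat_lit 18) (nat_lit 2),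
  Rule.mk (nat_lit 7) (nat_lit 42) (Steps.bwd (nat_lit 1) (Steps.bwd (nat_lit 7) (Steps.fwd (nat_lit 1024) Steps.nil))) (nat_lit 27) (nat_lit 1),
  Rule.mk (nat_lit 6) (nat_lit 42) (Steps.fwd (nat_lit 3072) (Steps.fwd (nat_lit 6144) (Steps.bwd (nat_lit 2) Steps.nil))) (nat_lit 22) (nat_lit 1),
  Rule.mk (nat_lit 3) (nat_lit 53) (Steps.bwd (nat_lit 2) (Steps.fwd (nat_lit 7168) (Steps.bwd (nat_lit 2) (Steps.fwd (nat_lit 6144) Steps.nil)))) (nat_lit 25) (nat_lit 1),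
  Rule.mk (nat_lit 1) (nat_lit 42) (Steps.bwd (nat_lit 7) (Steps.bwd (nat_lit 1) (Steps.fwd (nat_lit 6144) Steps.nil))) (nat_lit 27) (nat_lit 0),
  Rule.mk (nat_lit 0) (nat_lit 53) (Steps.bwd (nat_lit 1) (Steps.bwd (nat_lit 3) (Steps.fwd (nat_lit 1024) (Steps.bwd (nat_lit 3) Steps.nil)))) (nat_lit 8) (nat_lit 1),
  Rule.mk (nat_lit 1) (nat_lit 31) (Steps.bwd (nat_lit 0) (Steps.bwd (nat_lit 1) Steps.nil)) (nat_lit 32) (nat_lit 0),
  Rule.mk (nat_lit 0) (nat_lit 42) (Steps.bwd (nat_lit 6) (Steps.fwd (nat_lit 0) (Steps.bwd (nat_lit 7) Steps.nil))) (nat_lit 32) (nat_lit 0),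
  Rule.mk (nat_lit 3) (nat_lit 31) (Steps.bwd (nat_lit 0) (Steps.fwd (nat_lit 3072) Steps.nil)) (nat_lit 32) (nat_lit 0),
  Rule.mk (nat_lit 0) (nat_lit 42) (Steps.fwd (nat_lit 4096) (Steps.fwd (nat_lit 0) (Steps.bwd (nat_lit 4) Steps.nil))) (nat_lit 32) (nat_lit 0),
  Rule.mk (nat_lit 6) (nat_lit 31) (Steps.bwd (nat_lit 0) (Steps.bwd (nat_lit 7) Steps.nil)) (nat_lit 32) (nat_lit 0),
  Rule.mk (nat_lit 0) (nat_lit 42) (Steps.fwd (nat_lit 7168) (Steps.fwd (nat_lit 0) (Steps.bwd (nat_lit 7) Steps.nil))) (nat_lit 32) (nat_lit 0),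
  Rule.mk (nat_lit 4) (nat_lit 31) (Steps.bwd (nat_lit 0) (Steps.fwd (nat_lit 4096) Steps.nil)) (nat_lit 32) (nat_lit 0),
  Rule.mk (nat_lit 3) (nat_lit 42) (Steps.bwd (nat_lit 2) (Steps.bwd (nat_lit 3) (Steps.fwd (nat_lit 2048) Steps.nil))) (nat_lit 10) (nat_lit 1),
  Rule.mk (nat_lit 0) (nat_lit 53) (Steps.bwd (nat_lit 4) (Steps.bwd (nat_lit 2) (Steps.fwd (nat_lit 5120) (Steps.fwd (nat_lit 2048) Steps.nil)))) (nat_lit 20) (nat_lit 1),
  Rule.mk (nat_lit 6) (nat_lit 31) (Steps.bwd (nat_lit 0) (Steps.fwd (nat_lit 6144) Steps.nil)) (nat_lit 32) (nat_lit 0),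
  Rule.mk (nat_lit 3) (nat_lit 53) (Steps.bwd (nat_lit 6) (Steps.bwd (nat_lit 2) (Steps.bwd (nat_lit 7) (Steps.fwd (nat_lit 2048) Steps.nil)))) (nat_lit 24) (nat_lit 0),
  Rule.mk (nat_lit 3) (nat_lit 53) (Steps.bwd (nat_lit 2) (Steps.bwd (nat_lit 6) (Steps.bwd (nat_lit 2) (Steps.bwd (nat_lit 7) Steps.nil)))) (nat_lit 25) (nat_lit 1),
  Rule.mk (nat_lit 5) (nat_lit 53) (Steps.bwd (nat_lit 1) (Steps.fwd (nat_lit 3072) (Steps.bwd (nat_lit 4) (Steps.bwd (nat_lit 1) Steps.nil)))) (nat_lit 18) (nat_lit 3),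
  Rule.mk (nat_lit 4) (nat_lit 42) (Steps.fwd (nat_lit 3072) (Steps.bwd (nat_lit 5) (Steps.bwd (nat_lit 1) Steps.nil))) (nat_lit 16) (nat_lit 1),
  Rule.mk (nat_lit 1) (nat_lit 42) (Steps.fwd (nat_lit 3072) (Steps.fwd (nat_lit 1024) (Steps.bwd (nat_lit 3) Steps.nil))) (nat_lit 8) (nat_lit 0),
  Rule.mk (nat_lit 1) (nat_lit 42) (Steps.bwd (nat_lit 6) (Steps.fwd (nat_lit 1024) (Steps.bwd (nat_lit 6) Steps.nil))) (nat_lit 26) (nat_lit 1),
  Rule.mk (nat_lit 2) (nat_lit 53) (Steps.bwd (nat_lit 7) (Steps.bwd (nat_lit 2) (Steps.fwd (nat_lit 3072) (Steps.bwd (nat_lit 6) Steps.nil)))) (nat_lit 24) (nat_lit 2),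
  Rule.mk (nat_lit 6) (nat_lit 42) (Steps.bwd (nat_lit 3) (Steps.fwd (nat_lit 6144) (Steps.bwd (nat_lit 2) Steps.nil))) (nat_lit 22) (nat_lit 1),
  Rule.mk (nat_lit 7) (nat_lit 152) (Steps.bwd (nat_lit 4) (Steps.bwd (nat_lit 7) (Steps.bwd (nat_lit 4) (Steps.bwd (nat_lit 7) (Steps.bwd (nat_lit 4) (Steps.bwd (nat_lit 7) (Steps.bwd (nat_lit 4) (Steps.bwd (nat_lit 7) (Steps.fwd (nat_lit 5120) (Steps.fwd (nat_lit 6144) (Steps.bwd (nat_lit 4) (Steps.fwd (nat_lit 6144) (Steps.fwd (nat_lit 5120) Steps.nil))))))))))))) (nat_lit 28) (nat_lit 0),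
  Rule.mk (nat_lit 6) (nat_lit 108) (Steps.bwd (nat_lit 4) (Steps.bwd (nat_lit 6) (Steps.bwd (nat_lit 4) (Steps.fwd (nat_lit 7168) (Steps.fwd (nat_lit 5120) (Steps.fwd (nat_lit 7168) (Steps.bwd (nat_lit 4) (Steps.fwd (nat_lit 7168) (Steps.bwd (nat_lit 4) Steps.nil))))))))) (nat_lit 30) (nat_lit 0),
  Rule.mk (nat_lit 1) (nat_lit 42) (Steps.fwd (nat_lit 7168) (Steps.bwd (nat_lit 1) (Steps.bwd (nat_lit 6) Steps.nil))) (nat_lit 26) (nat_lit 1),
  Rule.mk (nat_lit 6) (nat_lit 108) (Steps.bwd (nat_lit 4) (Steps.bwd (nat_lit 6) (Steps.bwd (nat_lit 4) (Steps.fwd (nat_lit 7168) (Steps.bwd (nat_lit 4) (Steps.fwd (nat_lit 7168) (Steps.bwd (nat_lit 4) (Steps.bwd (nat_lit 6) (Steps.fwd (nat_lit 5120) Steps.nil))))))))) (nat_lit 30) (nat_lit 0),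
  Rule.mk (nat_lit 1) (nat_lit 42) (Steps.fwd (nat_lit 7168) (Steps.fwd (nat_lit 1024) (Steps.bwd (nat_lit 6) Steps.nil))) (nat_lit 26) (nat_lit 1),
  Rule.mk (nat_lit 6) (nat_lit 108) (Steps.bwd (nat_lit 4) (Steps.bwd (nat_lit 6) (Steps.bwd (nat_lit 4) (Steps.bwd (nat_lit 6) (Steps.bwd (nat_lit 4) (Steps.bwd (nat_lit 6) (Steps.fwd (nat_lit 5120) (Steps.fwd (nat_lit 7168) (Steps.bwd (nat_lit 4) Steps.nil))))))))) (nat_lit 30) (nat_lit 0),
  Rule.mk (nat_lit 1) (nat_lit 53) (Steps.fwd (nat_lit 4096) (Steps.fwd (nat_lit 3072) (Steps.bwd (nat_lit 1) (Steps.bwd (nat_lit 4) Steps.nil)))) (nat_lit 19) (nat_lit 4),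
  Rule.mk (nat_lit 3) (nat_lit 53) (Steps.bwd (nat_lit 2) (Steps.bwd (nat_lit 1) (Steps.fwd (nat_lit 2048) (Steps.fwd (nat_lit 1024) Steps.nil)))) (nat_lit 6) (nat_lit 0),
  Rule.mk (nat_lit 3) (nat_lit 42) (Steps.bwd (nat_lit 1) (Steps.bwd (nat_lit 3) (Steps.fwd (nat_lit 1024) Steps.nil))) (nat_lit 8) (nat_lit 1),
  Rule.mk (nat_lit 0) (nat_lit 64) (Steps.fwd (nat_lit 1024) (Steps.fwd (nat_lit 3072) (Steps.bwd (nat_lit 4) (Steps.bwd (nat_lit 1) (Steps.fwd (nat_lit 4096) Steps.nil))))) (nat_lit 18) (nat_lit 3),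
  Rule.mk (nat_lit 1) (nat_lit 31) (Steps.bwd (nat_lit 0) (Steps.fwd (nat_lit 1024) Steps.nil)) (nat_lit 32) (nat_lit 0),
  Rule.mk (nat_lit 3) (nat_lit 31) (Steps.bwd (nat_lit 0) (Steps.bwd (nat_lit 3) Steps.nil)) (nat_lit 32) (nat_lit 0),
  Rule.mk (nat_lit 4) (nat_lit 53) (Steps.bwd (nat_lit 1) (Steps.bwd (nat_lit 5) (Steps.bwd (nat_lit 1) (Steps.fwd (nat_lit 3072) Steps.nil)))) (nat_lit 18) (nat_lit 1),
  Rule.mk (nat_lit 1) (nat_lit 53) (Steps.bwd (nat_lit 2) (Steps.bwd (nat_lit 1) (Steps.bwd (nat_lit 3) (Steps.bwd (nat_lit 2) Steps.nil)))) (nat_lit 6) (nat_lit 2),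
  Rule.mk (nat_lit 1) (nat_lit 42) (Steps.bwd (nat_lit 7) (Steps.bwd (nat_lit 1) (Steps.bwd (nat_lit 7) Steps.nil))) (nat_lit 27) (nat_lit 0),
  Rule.mk (nat_lit 7) (nat_lit 42) (Steps.fwd (nat_lit 1024) (Steps.bwd (nat_lit 7) (Steps.fwd (nat_lit 1024) Steps.nil))) (nat_lit 27) (nat_lit 1),
  Rule.mk (nat_lit 5) (nat_lit 53) (Steps.fwd (nat_lit 3072) (Steps.fwd (nat_lit 1024) (Steps.bwd (nat_lit 4) (Steps.bwd (nat_lit 1) Steps.nil)))) (nat_lit 19) (nat_lit 0),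
  Rule.mk (nat_lit 6) (nat_lit 42) (Steps.bwd (nat_lit 3) (Steps.bwd (nat_lit 7) (Steps.bwd (nat_lit 2) Steps.nil))) (nat_lit 22) (nat_lit 1),
  Rule.mk (nat_lit 7) (nat_lit 152) (Steps.bwd (nat_lit 4) (Steps.bwd (nat_lit 7) (Steps.bwd (nat_lit 4) (Steps.bwd (nat_lit 7) (Steps.bwd (nat_lit 4) (Steps.bwd (nat_lit 7) (Steps.bwd (nat_lit 4) (Steps.fwd (nat_lit 6144) (Steps.bwd (nat_lit 4) (Steps.fwd (nat_lit 6144) (Steps.bwd (nat_lit 4) (Steps.fwd (nat_lit 6144) (Steps.bwd (nat_lit 4) Steps.nil))))))))))))) (nat_lit 28) (nat_lit 0),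
  Rule.mk (nat_lit 2) (nat_lit 53) (Steps.fwd (nat_lit 3072) (Steps.bwd (nat_lit 6) (Steps.fwd (nat_lit 2048) (Steps.bwd (nat_lit 7) Steps.nil)))) (nat_lit 24) (nat_lit 4),
  Rule.mk (nat_lit 3) (nat_lit 53) (Steps.bwd (nat_lit 6) (Steps.fwd (nat_lit 2048) (Steps.bwd (nat_lit 7) (Steps.bwd (nat_lit 2) Steps.nil)))) (nat_lit 24) (nat_lit 0),
  Rule.mk (nat_lit 0) (nat_lit 53) (Steps.fwd (nat_lit 7168) (Steps.bwd (nat_lit 3) (Steps.bwd (nat_lit 7) (Steps.fwd (nat_lit 2048) Steps.nil)))) (nat_lit 22) (nat_lit 0),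
  Rule.mk (nat_lit 1) (nat_lit 53) (Steps.fwd (nat_lit 2048) (Steps.bwd (nat_lit 1) (Steps.fwd (nat_lit 3072) (Steps.bwd (nat_lit 2) Steps.nil)))) (nat_lit 6) (nat_lit 2),
  Rule.mk (nat_lit 4) (nat_lit 53) (Steps.bwd (nat_lit 1) (Steps.fwd (nat_lit 4096) (Steps.bwd (nat_lit 1) (Steps.bwd (nat_lit 3) Steps.nil)))) (nat_lit 18) (nat_lit 1),
  Rule.mk (nat_lit 1) (nat_lit 53) (Steps.fwd (nat_lit 4096) (Steps.bwd (nat_lit 3) (Steps.fwd (nat_lit 1024) (Steps.bwd (nat_lit 4) Steps.nil)))) (nat_lit 19) (nat_lit 4),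
  Rule.mk (nat_lit 2) (nat_lit 53) (Steps.bwd (nat_lit 3) (Steps.fwd (nat_lit 7168) (Steps.fwd (nat_lit 2048) (Steps.bwd (nat_lit 7) Steps.nil)))) (nat_lit 24) (nat_lit 4),
  Rule.mk (nat_lit 0) (nat_lit 53) (Steps.bwd (nat_lit 4) (Steps.bwd (nat_lit 2) (Steps.bwd (nat_lit 4) (Steps.bwd (nat_lit 2) Steps.nil)))) (nat_lit 20) (nat_lit 1)]
noncomputable def R_3 : List (Rule) := [Rule.mk (nat_lit 7) (nat_lit 31) (Steps.bwd (nat_lit 0) (Steps.fwd (nat_lit 7168) Steps.nil)) (nat_lit 32) (nat_lit 0),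
  Rule.mk (nat_lit 0) (nat_lit 42) (Steps.bwd (nat_lit 4) (Steps.fwd (nat_lit 0) (Steps.fwd (nat_lit 4096) Steps.nil))) (nat_lit 32) (nat_lit 0),
  Rule.mk (nat_lit 6) (nat_lit 42) (Steps.fwd (nat_lit 3072) (Steps.bwd (nat_lit 7) (Steps.fwd (nat_lit 2048) Steps.nil))) (nat_lit 22) (nat_lit 1),
  Rule.mk (nat_lit 0) (nat_lit 64) (Steps.bwd (nat_lit 1) (Steps.bwd (nat_lit 3) (Steps.fwd (nat_lit 5120) (Steps.bwd (nat_lit 1) (Steps.fwd (nat_lit 4096) Steps.nil))))) (nat_lit 18) (nat_lit 3),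
  Rule.mk (nat_lit 0) (nat_lit 42) (Steps.bwd (nat_lit 3) (Steps.bwd (nat_lit 0) (Steps.fwd (nat_lit 3072) Steps.nil))) (nat_lit 32) (nat_lit 0),
  Rule.mk (nat_lit 0) (nat_lit 42) (Steps.fwd (nat_lit 7168) (Steps.fwd (nat_lit 0) (Steps.fwd (nat_lit 6144) Steps.nil))) (nat_lit 32) (nat_lit 0),
  Rule.mk (nat_lit 0) (nat_lit 42) (Steps.bwd (nat_lit 7) (Steps.fwd (nat_lit 0) (Steps.fwd (nat_lit 7168) Steps.nil))) (nat_lit 32) (nat_lit 0),
  Rule.mk (nat_lit 0) (nat_lit 42) (Steps.bwd (nat_lit 7) (Steps.fwd (nat_lit 0) (Steps.bwd (nat_lit 6) Steps.nil))) (nat_lit 32) (nat_lit 0),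
  Rule.mk (nat_lit 0) (nat_lit 42) (Steps.fwd (nat_lit 1024) (Steps.fwd (nat_lit 0) (Steps.bwd (nat_lit 1) Steps.nil))) (nat_lit 32) (nat_lit 0),
  Rule.mk (nat_lit 0) (nat_lit 42) (Steps.fwd (nat_lit 2048) (Steps.fwd (nat_lit 0) (Steps.bwd (nat_lit 2) Steps.nil))) (nat_lit 32) (nat_lit 0),
  Rule.mk (nat_lit 0) (nat_lit 42) (Steps.bwd (nat_lit 3) (Steps.fwd (nat_lit 0) (Steps.bwd (nat_lit 3) Steps.nil))) (nat_lit 32) (nat_lit 0),
  Rule.mk (nat_lit 0) (nat_lit 42) (Steps.fwd (nat_lit 5120) (Steps.fwd (nat_lit 0) (Steps.fwd (nat_lit 4096) Steps.nil))) (nat_lit 32) (nat_lit 0),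
  Rule.mk (nat_lit 0) (nat_lit 42) (Steps.fwd (nat_lit 2048) (Steps.fwd (nat_lit 0) (Steps.fwd (nat_lit 2048) Steps.nil))) (nat_lit 32) (nat_lit 0),
  Rule.mk (nat_lit 0) (nat_lit 42) (Steps.fwd (nat_lit 1024) (Steps.bwd (nat_lit 0) (Steps.fwd (nat_lit 1024) Steps.nil))) (nat_lit 32) (nat_lit 0),
  Rule.mk (nat_lit 0) (nat_lit 42) (Steps.bwd (nat_lit 3) (Steps.fwd (nat_lit 0) (Steps.fwd (nat_lit 3072) Steps.nil))) (nat_lit 32) (nat_lit 0),
  Rule.mk (nat_lit 0) (nat_lit 42) (Steps.bwd (nat_lit 4) (Steps.fwd (nat_lit 0) (Steps.bwd (nat_lit 5) Steps.nil))) (nat_lit 32) (nat_lit 0),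
  Rule.mk (nat_lit 0) (nat_lit 42) (Steps.bwd (nat_lit 5) (Steps.bwd (nat_lit 0) (Steps.bwd (nat_lit 4) Steps.nil))) (nat_lit 32) (nat_lit 0),
  Rule.mk (nat_lit 0) (nat_lit 42) (Steps.bwd (nat_lit 2) (Steps.fwd (nat_lit 0) (Steps.bwd (nat_lit 2) Steps.nil))) (nat_lit 32) (nat_lit 0),
  Rule.mk (nat_lit 0) (nat_lit 42) (Steps.fwd (nat_lit 3072) (Steps.fwd (nat_lit 0) (Steps.bwd (nat_lit 3) Steps.nil))) (nat_lit 32) (nat_lit 0),
  Rule.mk (nat_lit 0) (nat_lit 42) (Steps.bwd (nat_lit 4) (Steps.bwd (nat_lit 0) (Steps.fwd (nat_lit 4096) Steps.nil))) (nat_lit 32) (nat_lit 0),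
  Rule.mk (nat_lit 0) (nat_lit 42) (Steps.fwd (nat_lit 4096) (Steps.bwd (nat_lit 0) (Steps.bwd (nat_lit 4) Steps.nil))) (nat_lit 32) (nat_lit 0),
  Rule.mk (nat_lit 0) (nat_lit 31) (Steps.fwd (nat_lit 0) (Steps.fwd (nat_lit 0) Steps.nil)) (nat_lit 32) (nat_lit 0),
  Rule.mk (nat_lit 0) (nat_lit 53) (Steps.bwd (nat_lit 0) (Steps.fwd (nat_lit 2048) (Steps.bwd (nat_lit 0) (Steps.fwd (nat_lit 2048) Steps.nil)))) (nat_lit 32) (nat_lit 0),
  Rule.mk (nat_lit 0) (nat_lit 42) (Steps.fwd (nat_lit 1024) (Steps.bwd (nat_lit 0) (Steps.bwd (nat_lit 1) Steps.nil))) (nat_lit 32) (nat_lit 0),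
  Rule.mk (nat_lit 0) (nat_lit 53) (Steps.bwd (nat_lit 0) (Steps.fwd (nat_lit 2048) (Steps.fwd (nat_lit 0) (Steps.bwd (nat_lit 2) Steps.nil)))) (nat_lit 32) (nat_lit 0),
  Rule.mk (nat_lit 0) (nat_lit 42) (Steps.fwd (nat_lit 3072) (Steps.bwd (nat_lit 0) (Steps.fwd (nat_lit 3072) Steps.nil))) (nat_lit 32) (nat_lit 0),
  Rule.mk (nat_lit 0) (nat_lit 64) (Steps.bwd (nat_lit 0) (Steps.fwd (nat_lit 1024) (Steps.bwd (nat_lit 0) (Steps.bwd (nat_lit 1) (Steps.fwd (nat_lit 0) Steps.nil))))) (nat_lit 32) (nat_lit 0),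
  Rule.mk (nat_lit 0) (nat_lit 42) (Steps.bwd (nat_lit 7) (Steps.bwd (nat_lit 0) (Steps.fwd (nat_lit 7168) Steps.nil))) (nat_lit 32) (nat_lit 0),
  Rule.mk (nat_lit 0) (nat_lit 53) (Steps.bwd (nat_lit 0) (Steps.bwd (nat_lit 7) (Steps.bwd (nat_lit 0) (Steps.bwd (nat_lit 6) Steps.nil)))) (nat_lit 32) (nat_lit 0),
  Rule.mk (nat_lit 0) (nat_lit 53) (Steps.bwd (nat_lit 0) (Steps.fwd (nat_lit 1024) (Steps.fwd (nat_lit 0) (Steps.fwd (nat_lit 1024) Steps.nil)))) (nat_lit 32) (nat_lit 0),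
  Rule.mk (nat_lit 2) (nat_lit 31) (Steps.bwd (nat_lit 0) (Steps.fwd (nat_lit 2048) Steps.nil)) (nat_lit 32) (nat_lit 0),
  Rule.mk (nat_lit 0) (nat_lit 42) (Steps.fwd (nat_lit 3072) (Steps.fwd (nat_lit 0) (Steps.fwd (nat_lit 3072) Steps.nil))) (nat_lit 32) (nat_lit 0),
  Rule.mk (nat_lit 0) (nat_lit 53) (Steps.bwd (nat_lit 7) (Steps.fwd (nat_lit 0) (Steps.fwd (nat_lit 7168) (Steps.fwd (nat_lit 0) Steps.nil)))) (nat_lit 32) (nat_lit 0),
  Rule.mk (nat_lit 0) (nat_lit 42) (Steps.bwd (nat_lit 6) (Steps.fwd (nat_lit 0) (Steps.fwd (nat_lit 6144) Steps.nil))) (nat_lit 32) (nat_lit 0),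
  Rule.mk (nat_lit 0) (nat_lit 42) (Steps.bwd (nat_lit 5) (Steps.fwd (nat_lit 0) (Steps.bwd (nat_lit 4) Steps.nil))) (nat_lit 32) (nat_lit 0),
  Rule.mk (nat_lit 0) (nat_lit 42) (Steps.fwd (nat_lit 7168) (Steps.bwd (nat_lit 0) (Steps.bwd (nat_lit 7) Steps.nil))) (nat_lit 32) (nat_lit 0),
  Rule.mk (nat_lit 0) (nat_lit 53) (Steps.fwd (nat_lit 6144) (Steps.fwd (nat_lit 0) (Steps.fwd (nat_lit 7168) (Steps.fwd (nat_lit 0) Steps.nil)))) (nat_lit 32) (nat_lit 0),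
  Rule.mk (nat_lit 0) (nat_lit 42) (Steps.fwd (nat_lit 6144) (Steps.fwd (nat_lit 0) (Steps.bwd (nat_lit 6) Steps.nil))) (nat_lit 32) (nat_lit 0),
  Rule.mk (nat_lit 0) (nat_lit 42) (Steps.fwd (nat_lit 5120) (Steps.bwd (nat_lit 0) (Steps.fwd (nat_lit 4096) Steps.nil))) (nat_lit 32) (nat_lit 0),
  Rule.mk (nat_lit 5) (nat_lit 31) (Steps.bwd (nat_lit 0) (Steps.fwd (nat_lit 5120) Steps.nil)) (nat_lit 32) (nat_lit 0),
  Rule.mk (nat_lit 0) (nat_lit 42) (Steps.fwd (nat_lit 4096) (Steps.fwd (nat_lit 0) (Steps.fwd (nat_lit 5120) Steps.nil))) (nat_lit 32) (nat_lit 0),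
  Rule.mk (nat_lit 0) (nat_lit 42) (Steps.fwd (nat_lit 6144) (Steps.bwd (nat_lit 0) (Steps.fwd (nat_lit 7168) Steps.nil))) (nat_lit 32) (nat_lit 0),
  Rule.mk (nat_lit 0) (nat_lit 53) (Steps.bwd (nat_lit 7) (Steps.fwd (nat_lit 0) (Steps.bwd (nat_lit 6) (Steps.fwd (nat_lit 0) Steps.nil)))) (nat_lit 32) (nat_lit 0),
  Rule.mk (nat_lit 0) (nat_lit 42) (Steps.fwd (nat_lit 3072) (Steps.bwd (nat_lit 0) (Steps.bwd (nat_lit 3) Steps.nil))) (nat_lit 32) (nat_lit 0),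
  Rule.mk (nat_lit 0) (nat_lit 42) (Steps.bwd (nat_lit 1) (Steps.fwd (nat_lit 0) (Steps.fwd (nat_lit 1024) Steps.nil))) (nat_lit 32) (nat_lit 0),
  Rule.mk (nat_lit 0) (nat_lit 42) (Steps.fwd (nat_lit 2048) (Steps.bwd (nat_lit 0) (Steps.bwd (nat_lit 2) Steps.nil))) (nat_lit 32) (nat_lit 0),
  Rule.mk (nat_lit 0) (nat_lit 53) (Steps.bwd (nat_lit 6) (Steps.bwd (nat_lit 0) (Steps.bwd (nat_lit 7) (Steps.fwd (nat_lit 0) Steps.nil)))) (nat_lit 32) (nat_lit 0),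
  Rule.mk (nat_lit 0) (nat_lit 53) (Steps.fwd (nat_lit 4096) (Steps.fwd (nat_lit 0) (Steps.bwd (nat_lit 4) (Steps.fwd (nat_lit 0) Steps.nil)))) (nat_lit 32) (nat_lit 0),
  Rule.mk (nat_lit 0) (nat_lit 42) (Steps.fwd (nat_lit 6144) (Steps.bwd (nat_lit 0) (Steps.bwd (nat_lit 6) Steps.nil))) (nat_lit 32) (nat_lit 0),
  Rule.mk (nat_lit 0) (nat_lit 42) (Steps.fwd (nat_lit 6144) (Steps.fwd (nat_lit 0) (Steps.fwd (nat_lit 7168) Steps.nil))) (nat_lit 32) (nat_lit 0),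
  Rule.mk (nat_lit 0) (nat_lit 53) (Steps.bwd (nat_lit 0) (Steps.fwd (nat_lit 7168) (Steps.fwd (nat_lit 0) (Steps.bwd (nat_lit 7) Steps.nil)))) (nat_lit 32) (nat_lit 0),
  Rule.mk (nat_lit 0) (nat_lit 53) (Steps.fwd (nat_lit 1024) (Steps.bwd (nat_lit 0) (Steps.bwd (nat_lit 1) (Steps.fwd (nat_lit 0) Steps.nil)))) (nat_lit 32) (nat_lit 0),
  Rule.mk (nat_lit 0) (nat_lit 53) (Steps.fwd (nat_lit 2048) (Steps.bwd (nat_lit 0) (Steps.bwd (nat_lit 2) (Steps.fwd (nat_lit 0) Steps.nil)))) (nat_lit 32) (nat_lit 0),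
  Rule.mk (nat_lit 0) (nat_lit 53) (Steps.bwd (nat_lit 0) (Steps.fwd (nat_lit 6144) (Steps.fwd (nat_lit 0) (Steps.bwd (nat_lit 6) Steps.nil)))) (nat_lit 32) (nat_lit 0),
  Rule.mk (nat_lit 0) (nat_lit 53) (Steps.bwd (nat_lit 1) (Steps.bwd (nat_lit 0) (Steps.fwd (nat_lit 1024) (Steps.fwd (nat_lit 0) Steps.nil)))) (nat_lit 32) (nat_lit 0),
  Rule.mk (nat_lit 0) (nat_lit 53) (Steps.bwd (nat_lit 1) (Steps.bwd (nat_lit 0) (Steps.bwd (nat_lit 1) (Steps.fwd (nat_lit 0) Steps.nil)))) (nat_lit 32) (nat_lit 0),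
  Rule.mk (nat_lit 0) (nat_lit 42) (Steps.bwd (nat_lit 5) (Steps.bwd (nat_lit 0) (Steps.fwd (nat_lit 5120) Steps.nil))) (nat_lit 32) (nat_lit 0),
  Rule.mk (nat_lit 0) (nat_lit 53) (Steps.bwd (nat_lit 0) (Steps.bwd (nat_lit 4) (Steps.bwd (nat_lit 0) (Steps.fwd (nat_lit 4096) Steps.nil)))) (nat_lit 32) (nat_lit 0),
  Rule.mk (nat_lit 0) (nat_lit 42) (Steps.bwd (nat_lit 2) (Steps.bwd (nat_lit 0) (Steps.fwd (nat_lit 2048) Steps.nil))) (nat_lit 32) (nat_lit 0),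
  Rule.mk (nat_lit 2) (nat_lit 42) (Steps.bwd (nat_lit 0) (Steps.bwd (nat_lit 2) (Steps.fwd (nat_lit 0) Steps.nil))) (nat_lit 32) (nat_lit 0),
  Rule.mk (nat_lit 0) (nat_lit 53) (Steps.bwd (nat_lit 3) (Steps.fwd (nat_lit 0) (Steps.bwd (nat_lit 3) (Steps.fwd (nat_lit 0) Steps.nil)))) (nat_lit 32) (nat_lit 0),
  Rule.mk (nat_lit 0) (nat_lit 53) (Steps.bwd (nat_lit 0) (Steps.bwd (nat_lit 5) (Steps.fwd (nat_lit 0) (Steps.bwd (nat_lit 4) Steps.nil)))) (nat_lit 32) (nat_lit 0),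
  Rule.mk (nat_lit 0) (nat_lit 53) (Steps.bwd (nat_lit 0) (Steps.fwd (nat_lit 3072) (Steps.fwd (nat_lit 0) (Steps.bwd (nat_lit 3) Steps.nil)))) (nat_lit 32) (nat_lit 0),
  Rule.mk (nat_lit 0) (nat_lit 64) (Steps.bwd (nat_lit 0) (Steps.bwd (nat_lit 4) (Steps.fwd (nat_lit 0) (Steps.fwd (nat_lit 4096) (Steps.fwd (nat_lit 0) Steps.nil))))) (nat_lit 32) (nat_lit 0)]
noncomputable def R_4 : List (Rule) := [Rule.mk (nat_lit 0) (nat_lit 53) (Steps.bwd (nat_lit 0) (Steps.bwd (nat_lit 2) (Steps.fwd (nat_lit 0) (Steps.bwd (nat_lit 2) Steps.nil)))) (nat_lit 32) (nat_lit 0),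
  Rule.mk (nat_lit 0) (nat_lit 42) (Steps.bwd (nat_lit 2) (Steps.bwd (nat_lit 0) (Steps.bwd (nat_lit 2) Steps.nil))) (nat_lit 32) (nat_lit 0),
  Rule.mk (nat_lit 0) (nat_lit 64) (Steps.bwd (nat_lit 0) (Steps.bwd (nat_lit 5) (Steps.fwd (nat_lit 0) (Steps.bwd (nat_lit 4) (Steps.fwd (nat_lit 0) Steps.nil))))) (nat_lit 32) (nat_lit 0),
  Rule.mk (nat_lit 0) (nat_lit 53) (Steps.fwd (nat_lit 6144) (Steps.fwd (nat_lit 0) (Steps.bwd (nat_lit 6) (Steps.fwd (nat_lit 0) Steps.nil)))) (nat_lit 32) (nat_lit 0),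
  Rule.mk (nat_lit 0) (nat_lit 53) (Steps.fwd (nat_lit 2048) (Steps.fwd (nat_lit 0) (Steps.bwd (nat_lit 2) (Steps.fwd (nat_lit 0) Steps.nil)))) (nat_lit 32) (nat_lit 0),
  Rule.mk (nat_lit 0) (nat_lit 42) (Steps.fwd (nat_lit 0) (Steps.fwd (nat_lit 0) (Steps.fwd (nat_lit 0) Steps.nil))) (nat_lit 32) (nat_lit 0),
  Rule.mk (nat_lit 0) (nat_lit 53) (Steps.bwd (nat_lit 2) (Steps.fwd (nat_lit 0) (Steps.bwd (nat_lit 2) (Steps.fwd (nat_lit 0) Steps.nil)))) (nat_lit 32) (nat_lit 0),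
  Rule.mk (nat_lit 0) (nat_lit 53) (Steps.bwd (nat_lit 0) (Steps.fwd (nat_lit 4096) (Steps.fwd (nat_lit 0) (Steps.bwd (nat_lit 4) Steps.nil)))) (nat_lit 32) (nat_lit 0),
  Rule.mk (nat_lit 0) (nat_lit 53) (Steps.bwd (nat_lit 0) (Steps.fwd (nat_lit 6144) (Steps.bwd (nat_lit 0) (Steps.bwd (nat_lit 6) Steps.nil)))) (nat_lit 32) (nat_lit 0),
  Rule.mk (nat_lit 0) (nat_lit 64) (Steps.bwd (nat_lit 0) (Steps.fwd (nat_lit 3072) (Steps.bwd (nat_lit 0) (Steps.bwd (nat_lit 3) (Steps.fwd (nat_lit 0) Steps.nil))))) (nat_lit 32) (nat_lit 0),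
  Rule.mk (nat_lit 0) (nat_lit 53) (Steps.bwd (nat_lit 0) (Steps.bwd (nat_lit 6) (Steps.fwd (nat_lit 0) (Steps.bwd (nat_lit 7) Steps.nil)))) (nat_lit 32) (nat_lit 0),
  Rule.mk (nat_lit 0) (nat_lit 64) (Steps.bwd (nat_lit 0) (Steps.bwd (nat_lit 7) (Steps.fwd (nat_lit 0) (Steps.bwd (nat_lit 6) (Steps.fwd (nat_lit 0) Steps.nil))))) (nat_lit 32) (nat_lit 0),
  Rule.mk (nat_lit 0) (nat_lit 64) (Steps.fwd (nat_lit 0) (Steps.fwd (nat_lit 0) (Steps.fwd (nat_lit 0) (Steps.fwd (nat_lit 0) (Steps.fwd (nat_lit 0) Steps.nil))))) (nat_lit 32) (nat_lit 0),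
  Rule.mk (nat_lit 0) (nat_lit 42) (Steps.bwd (nat_lit 1) (Steps.fwd (nat_lit 0) (Steps.bwd (nat_lit 1) Steps.nil))) (nat_lit 32) (nat_lit 0),
  Rule.mk (nat_lit 0) (nat_lit 53) (Steps.bwd (nat_lit 0) (Steps.bwd (nat_lit 3) (Steps.fwd (nat_lit 0) (Steps.bwd (nat_lit 3) Steps.nil)))) (nat_lit 32) (nat_lit 0),
  Rule.mk (nat_lit 0) (nat_lit 42) (Steps.fwd (nat_lit 2048) (Steps.bwd (nat_lit 0) (Steps.fwd (nat_lit 2048) Steps.nil))) (nat_lit 32) (nat_lit 0),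
  Rule.mk (nat_lit 0) (nat_lit 64) (Steps.bwd (nat_lit 0) (Steps.fwd (nat_lit 3072) (Steps.fwd (nat_lit 0) (Steps.fwd (nat_lit 3072) (Steps.fwd (nat_lit 0) Steps.nil))))) (nat_lit 32) (nat_lit 0),
  Rule.mk (nat_lit 0) (nat_lit 53) (Steps.fwd (nat_lit 0) (Steps.fwd (nat_lit 0) (Steps.fwd (nat_lit 0) (Steps.fwd (nat_lit 0) Steps.nil)))) (nat_lit 32) (nat_lit 0),
  Rule.mk (nat_lit 0) (nat_lit 64) (Steps.bwd (nat_lit 0) (Steps.fwd (nat_lit 2048) (Steps.fwd (nat_lit 0) (Steps.bwd (nat_lit 2) (Steps.fwd (nat_lit 0) Steps.nil))))) (nat_lit 32) (nat_lit 0),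
  Rule.mk (nat_lit 0) (nat_lit 75) (Steps.fwd (nat_lit 0) (Steps.fwd (nat_lit 0) (Steps.fwd (nat_lit 0) (Steps.fwd (nat_lit 0) (Steps.fwd (nat_lit 0) (Steps.fwd (nat_lit 0) Steps.nil)))))) (nat_lit 32) (nat_lit 0),
  Rule.mk (nat_lit 0) (nat_lit 53) (Steps.fwd (nat_lit 4096) (Steps.bwd (nat_lit 0) (Steps.bwd (nat_lit 4) (Steps.fwd (nat_lit 0) Steps.nil)))) (nat_lit 32) (nat_lit 0)]
noncomputable def R : List (List (Rule)) := [R_0, R_1, R_2, R_3, R_4]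
def LW : List Word := [[], [0], [2], [4], [6], [7], [8], [9]]
def par : Par := ⟨10, 3, 13, 23, 1023, 8191, 8388607⟩
theorem hpar : par.ok := by decide
theorem hR0_0 : lall (R) (fun l => lall l (ruleOK Rk75 LW par)) = true := by decide +kernel
theorem hR0 : lall (R) (fun l => lall l (ruleOK Rk75 LW par)) = true := hR0_0
theorem hR : RulesOK Rk75 LW par R := rulesOK_of rfl hR0
def cols : List (ℕ × ℕ) := [(1024, 1), (2048, 2), (3072, 3), (4096, 5), (6144, 7)]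
theorem hcols : lall cols (colOK Rk75 LW par) = true := by decide +kernel
noncomputable def JS0 : List ℕ := [nat_lit 0x4b09680822744c895122234448851021f43c160009080206d2c2364568a914a2844e8982a034060064560b49802d1822b04a314668ac100292522b038000240149094515018000024881400a91914811152290009242692400a28092440001144c00526248080004940181e89912a2401a2744c020000041c02c0523045e8b916a2c4568a914a2844e8981a0292223646a8d119a324628c0180200380646c0b0100191f2360523c00a8f51b0251f24046c080088e91b01d1ca4046c060068ed1b0140023746c044728e11b80d1d2390123b47401,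
  nat_lit 0xe01a217138004dc0d44c0d90fa1612a5f436240008e8460693925e4328610ba1642a85018064052204320a000015368890e80843c86012000170093226d42e0802898d0c014008030500b04285c0000105c2000485d0b0112e0000f8004ce0903c9750b21501a5243e0148a9981021e43a8710da1a4328610ba1642a160389940f2234448851021f43c1d03c09402a2305800020970388ec118064440903a0691106c0d239444070000491a8680fa37442040029552ca580c80001e8e0300700ba1f0b80049601,
  nat_lit 0x5b09480c548f91fa0d1da820008087c000290501ea8804482904a0840e81902a0440680900a001e23100483c760012a2731d03050a83906a0c41682904a081c802012028108e00081e02a370008d8078d00da0a1223742811000134228d9418494248450820f41c8350620b414825040d40002b492345020610ba1642a85109a12422330029f51a2331900046a8b8621114127a42a3004a000220082084405c2f0020290f0b80003f4f6254ea9f5088b41427e4e28690ca1842e8590aa1442684908834000154582c0720f403219158384ce8645409112219028014e29d01e8a40000c44a28,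
  nat_lit 0xd80bcf81ef3dc7b4f61eb3d47a4f41e73cc0d5300acfb0fd1a1f5008005248800813c340293e67c8f89f03de7b8f6918008540320609c000168310e0530e61b8f8934fd0015004c0000cc0d92c2b86a3f24a42c930fc10c179f700801020a0492000028380829c3e87ccf91f13e07bcf71ed3d87acf51080029a53c8c08aa641f9f9218404fc000f9120002100a2470160e8fb1f53e87ccf91f13e046002a3926232229fe00092088a30309fe2186152e7f4fe1fb3f47e4fc1f73ec7d4fa1f3212094967f482004218151e8004c4020800fc10a0540880d012014007fcff1fd3f87ec78109242051f801528160250280001702a3e,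
  nat_lit 0x8254e3f55a21c2f9d53a874ce91d13a05b0001a14e0d9400664c8774ee1db3b4764ec1d73ac754ea0d4008470561c000194301693ea8150076cb20143222f3c878cf11e13c077cef1dd3b876c8483c031e82080358c1f4031e73cc794f21e32c00046e010a88a8f30a80008c4ea9a8ae8a0f28054c8773de43000a8c4183d2b0775427b4f61eb3d47a4f41e73cc794f21e32121a3e4013da0011a0f9190003d63d000190172302aa860e4088f71ed3d87acf51e92a00702c0002e0003706b29a995361c4f6148fd0004283e424000fc0f4fb0003d4840a200149807238660347a03603c02000280000080e,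
  nat_lit 0x152a159089a000294030670f21e0e8999650033a25e45a004e80f8010a4024044ca0056703d32000150b44c6298479d63aa750e99d23a2740e79ce39a7306a75c002321f2300007547a0041584145c620000a50d0f90b8a10ac75ceb1d53a874ce918444a2a3ae073bc00145931448003bc3f3bc0002587330046488178ef17d2d85e3ba4141e008e9179178003a23e00211c1e8f4002bc080401209c0ec1d73ac754ea1d33a4744e81cf39c3c3b8001429741e23b0ce770b89b13e9db20aaa006754987540020b1f20900074c7a0040b81640e55,
  nat_lit 0x150a02c051d4002830f22a0fe72ce5011270003a1ca000730aa12c009c93902e05a000e27200023b262390007207e7200004846e704f8004e4128009d0390074f21d4e418d7c1c7010003a073ce61cb394724e41c7062f739a01000004381bc00ab139e040002b04983c2e85c39c6e002a85550243680000a0e10a2652a1d53a874ce91d13a073ce71cd398425741acf6800361d80007b082184312c03b06b000a6d740d0402f0134758ea9d43a6748e89180129903a078d40042704b0c000006004d21f14c0693a657,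
  nat_lit 0x3a60011077c002c400a870000040500b049dc02e828002180000a0108501e0d0071cd420013aa0e44c000e80082d00d06202ce59340084f4580dd0600027029020b7014724680258a9c9151ff058730e4a095b8033908100a728e381400029392005000a0021c63fab4052000e31f8000270567d04a714e21f1861c500b0c0860a8e29ec002e306c7a1b22f0e21e4000951009f8aa2e96b9c3151f300070cbc0000d1f33c0b461077c081c939071ce31c538870ce11c13b9d339a245a22c8ea9d339872ce51c939076,
  nat_lit 0x17020014e802c0400f00e74014774e807c0a00b39e34014cece78a8021d239e05014020e789cef3393a08f00076403898039ce39a2566a738020080f8113ee8e0021b1240fc002f0008d4666760e81cf39c734e61cb0ab3100e00ce8234f28063a674012cbcf21d0280000040351800cf11cf021d039e0000f84cf180039c1239a001959e3081ce39a73006ca0e7091719d74581a190b8ceb1d53a874ce91d13a073ce71cd069e70009107e9104c2550025201610800228f18000f80600289,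
  nat_lit 0x20e01a064ea9c538870ce11c13806fcdf1bd3780d018d70fb01a392720e39c638a580007740b2400b00e00a72016024068083900a012030039c8158130107206801daa9c8150053967200a020029c8139d46a67251e734071c80400039a00c4c010e31c512b4e38c0169c024021c7469e2010730e3824e69ce38e08696780e3940ef9e438e06008778e3810f000138e123ba0002271400b473be1000077c0383ce29c43860368671448000008380601a3c2734e61cb394724e41c738c714e203405b423f806ce89d039e738e6960001e702e90,
  nat_lit 0x5de00c0d25cec8024b1d90029401800912ba8008104a9d0000941a4000011cf49acd00470924730e087c0a80a3803400200165905658d56de6fd2201db79be1500039272c060a40380537a27398db4df23ce280e37a080086f0dd894001e4008276d4724e01bf37c6f4de1bb0ab68012014e0234e31c7380086cc768e014000010009d83ba6fc0c000011d50a0033ac6f8086fcdf000024133ae000de848de0006c075c206f4de1bb01b5d37a24,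
  nat_lit 0x1e100e78010254001de5080024832c4a280911dd3b87c3be7780002c099e700077424770003953ce103ba770ed80dc91dd1228c172e0c0027c00009704633ce76d167c4ed8041882804076c167840129a2f1e0000b488225d2f8950029e52c30c0018cef0004e892120004ef270570af0009b3ba0016e97471af701c7748a810002217c803076970940093486400a201a8004a2f40067f9320d401258178014a00f00898,
  nat_lit 0x2e4398f30fd810e33ca414de008f2979748003c83e00241c820f4001572a6366e0588c391d1787a0f39e63ca790f19e23c2a65fe03cf50fc000925ac344f225080954302038f41e73cc580007a0460001983552836218008f31480f83b07200500c18001e4039e4000c10bcc08698d23c8a40024188291b3500073e5c44c5c8f49e212b923ce240004700e28cae3a1722794f21e33c4784f00300091b21641c60000b6009cbb9e3c60800045c6d288abb953c4053ca004001b9690ea3c292012408f00d0f2b9b3c28f,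
  nat_lit 0xf89f6002123ce00562794002c0f9809790000f22bcf29e43c60378a79404d8471aa50006d3c8000708d63004644e0b0f2114f20004685e0ec1f8f21e00003e07a04000794f22b9df80e3d49201610813000569e9000040131800831362a7a48a471860213da5c64e078f60fda300000232d580046234455000510e6c6830dd11830367a0f39e63ca79156b207a00f3d00b3f079d16b3c001e71f00003eb3554808c4981280314621e73cc795527a0001f8541f601e000f31200004f4143404807c10ac624a3e0f31e53c8a7,
  nat_lit 0x690000f5978008ca6244ed7200064046320ca7766f5f29ff0107b8f69ec3d67a8f49e85c0000b48fd6e1682b0003daa43da001941799303b0747b5487d8fd1ed030016b0038022d8003582c01b2b87b0f59f0061fe3ee7c4f81ef3dc7b4f6030ad95c7b67c506028fb9f102b5000080c8280c003502800300080c7e80c0700b00052000b903e014009ec5a9eb00200c01040001f40081e3dc7a8f480da494f3d4437a07a402b74009ea5a009010004f482c000073da00566018f91e9022d80180007e004010003e2b2,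
  nat_lit 0x11aca7830000718df2d000020f686e020030e1618bb002c11780013a34400281610df002a052a3540127475003500c21a400d82be0010d04c8030028824e0053ea557a0004fa971f40080027c600cc10ce08002fc00bcc308e088a001e58f80c0d91ae000f62f800001654398ac0042f2453e67c8f89f03de7b8f69ec3d67a81a00001801253ee3e40109e024f98005e800284510032f1f603606e7c0f6d8496800319f200098606000f825c1c0390007b976001a4047462ba,
  nat_lit 0x1160079d56445601c7618c7b8069c7659c801a6a12effc061d7683f0016882e602d2c5cc051b16711601498300024a4345fa808300d02f201ca933e1b807688972ca018d4b3a17006676c72e40188d334f7806646cc3b2014a832cd500429cca3a400ca6326170036769985000d9ab08e68035bcc839a0097231a1480266c9784a0099931def802222c284a0099926611801660c27ba00562318790002a0c57b80095aab71d2c4,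
  nat_lit 0x37803cd0d321280eb7d1e01d3e497000009ad1c80d9f2000de000009acfbc0da08002dd7f006dddb1e3380b8c69900a041ace040e3766e000016d6034730009c4014db42600cb2330b200202eda02a004b080a6cb31000029b00040bb59158033d6c68a0009e73080000f6b1ea00087c0735c050136b165026631aa89409bf0633d4026eed8ede0091556a1bb022b087e045a63086c0100f6d31aa03c57b49ac00f64697,
  nat_lit 0x9400c3856440a030fc58f1000c220ee818360d257e06054b80860183990c02e449cef340bbb9710c502c27da61780b275248173a4e64840612033120816474c290c055110400c3d36101a7220703eb950401c06e950680712c6d00e1b07240c038fe98e0980dac12481c44ce348c06d2d09c0d87271011710049a9b864081e398c27e4079ecb090780d68ae08bc07db5b1c6301f506c256c07d582547501e19ec9,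
  nat_lit 0x7d00a9cc783f002a7cdab0e80abfd6129202a88676055831180a15c4c96c026df77804dd8a641c0126fc340250898f23c0940d4b8a20249648e04c7a25e0e813808c23e6050f130802aa9028251de4a00aba17e814264ee60e04c99bb4ef0133caec1ac04d4bb222e014548c20007b40a3ce75c640287b1d50940abe86380502a239d30c00a95771ba702ce712f0880b4106125502e7f9330fc0c08a66360030e8,
  nat_lit 0xdf01624a9767e008b58167b00066c054013d4058116b162028cbd8a5bc0a37c9c0184e93902e96272059610240b3b67345102f0518e30c0b251a30184c17502e960740613b1340cc3b614aa0330a1332040d10d644370350798e4940ca68928186f81724a009943d22081782c01de71e40b8ac7914a030551e25480c3166415702ec758c5300b1cc9d0154d152028df85005207b0863014242da,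
  nat_lit 0x8f402c1db081d80a006fb2fc06182ce80b9ce3b016646c22080551001c07358118164a47102d17d320700b39e78cd502c62dc6db40a98d6600701ad601c050beb185881301c019f4cf80a0407cb460265ad98d08092c61081679c978ce05a1530a3381a8aac703a06403b500e8186fcc40311092f26c0c12b4b9430309602e50c04b3f7c46000e2a18e2a003274bc8054d00267e010063de2c81688e97,
  nat_lit 0x2000d5d940100f35a7d81e616c2042075100064b0002ce06a000000f35809805080085fe100102c1df8004e81e03ed639a07cdeb99b50216cc005fc688101906102303e66dd8d980f1966c4ad03c0f1cc14c0e9c87201919e071c23f5a101c60974036980e0069d0d440d177639870329602e6080c3f0718194e8e10328803c0652c6f4050c74a91603494672069305bc0ca201d80c006f9,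
  nat_lit 0x40096b00701cd600c0340ec181c8013e800a12010043580180403d06966004f8baa8c80004095000015ad458024b10010800a029ac0002500205b070000680083a7b802020d60020180bc18049d0034ec60b438029ca4a804392068ac410010046b00238e0680f3ae8501903c950146e40c01e0030300e051ac02c0b01f6685402c1c98a1500bb9764351034b1044065101ac000698101203ad6008000950038080403ed6,
  nat_lit 0x9ac00c678020700022202005358e800017d1000000c05c18658013860461e334001c08700002205c1082c86d3a00334c003cc078146b00e0280560c0296b8007360061803007b584a80005aee0000a5ac04c0b358040090450600e0200fc18000016b52f0027ac12c2c0d3cf000f95f000c0282683526002b31d54ac003854a800008d6a5000e920008400400cd60000e8009fb0410a0040100ac18008066b0000140360d48401042000f3,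
  nat_lit 0x708036fd6a00494662011355a8032240006c00359df0010040108300300e0360c002a6801659150020140881404a0ae2800001b5ab18010c4001ec0080300f83000066d600000dad54400a1c0010801405dac0240b833830080160701102c86802188000c88088980601204a0c0140401904f12]
theorem S0_c : blocks (facts 10 3 13 23 1023 8191 8388607 11 2047 9 511 A R 32) 32 JS0 827 = true := by decide +kernel
theorem S0 : On (Step.{u} Rk75 LW par A) 827 1659 :=
  steps_of_blocks hpar hR S0_c (by decide +kernel)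
theorem D0_c : allB (defOK 10 13 23 1023 8388607 828 A K) 5 2 = true := by decide +kernel
theorem D0 : On (fun r => defOK par.W par.WL par.E par.mW par.mE 828 A K r = true) 256 896 :=
  On.of_allB D0_c
noncomputable def JW0 : List ℕ := [nat_lit 0x1d01a1ec016018]
theorem W0_c : blocks (rows 10 3 13 23 1023 8191 8388607 12 4095 60 A 1659 1 cols 25) 25 JW0 0 = true := by decide +kernel
theorem W0 : On (Row.{u} Rk75 LW par A 1659 1 cols) 0 25 :=
  rows_of_blocks hpar (by decide) hcols W0_c (by decide +kernel)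
theorem idx : Idx.{u} Rk75 [[0], [2], [4], [6], [8]] [] 1 :=
  idx_of_cert hpar hR (K := K) (by decide +kernel) (T := 828) (T' := 896) (by decide) D0
    (subs := []) (by decide +kernel) (T1 := 827) (by decide) (N := 1659) S0
    (by decide) (n' := 25) (by decide) W0 (by decide +kernel) (by decide +kernel)
end k75
namespace k77
noncomputable def A_0 : List (ℕ) := [nat_lit 0x20183e8ff43ec7f11fa3f78791f847d8fbc1dc7d31ee3e78751f18778f7e1d07b71da3d70761e9c760f3c1c87921e23c48f01e183a8ef43ac7711da3b78731d84758ebc1bc7531ce3a786d1d186f8e7e1a07371ba39706e1c9c6e0e3c1a87121c23848e01c18368df436c6f11ba3778691b846d8dbc19c6d21b23648d81b18330d7434c6b11aa3578641a84698d3c18069619634705f1a1c640cfc16c67219a3348cc19982f0cb431c65119232785a1904638c7c16063318631785618985d8c3e154617172307057181c5c0bfc14c5f217a2f48bc17982b0bb42dc5d11722e785417045b8b7c1405b31662d784e1698558b3e1245971522c704f161c540afc12c57215a2b48ac159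8270ab429c5511522a784a1504538a7c12053314629684614904d8a3a11451513228604714144c09f810c4f113a27509c13902309b225c4d213226684413084b89781004b312625683e129045893a0e449511224603f12144408f80ec47111a23508c11901f08b221c45211222683a11084388780e043310621683610903d883a0d44150f220603710143c07f80cc3f10fa1f507c0f901b07b21dc3d20f21e68340f083b87780c03b30e61d682e0e9035873a0a43950d21c602f0e143406f80ac3710da1b506c0d901706b219c3520d21a682a0d083386780a033504c19605c0c9412863a16831404e1868590c101185f21782f20ba1760260b842c05b41682d50481650580b101005761502b503c15604c0a940c853a12829403e1468490a100d84f213827209a13601e09842404b412825503412504809100c047611023702c11703c089c0a843e0e821602e10783908180983f40f81f107a0f701607881c03b20e81d70280e483807180803760d01b701c0d702c069c04833e0a819601e0c782906180582f40b817105a0b700e05881402b20a81570140a4828051804027609013700809701c049c01023e06811600a08781904180301f40780f103a07700403880c01b20680d700e06481803180001760500b500c05600c029400813a02809400e04680902100200f203807201a03600601840400b402805500a0250080110000074018031006014804008c010036000012000004800,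
  nat_lit 0x4004fe1ff47f8ff522e7f51fc3f90899fb67e4fd43ea7e690c3f04fb9f747d8fb42227d49f13e88f99f3a434f923e27c610b3e0cf69efa424f743ca7b69083d94f19eb8428f553c47a61063d04f39e74798f342127949e13c88f19e3a41cf123c27861033c147e1df4778ef42027749d93b88ed9dba3f4ed23b27660fb3b0cea9d7a3e4eb439a7568f83a94e59d383e8e953947460f63a04e79cf4738e741f27349c93988e59cba3dce523927260f33904e39c74718e341e27149c13888e19c3a3b4e123827060eb3810731bf26f8df237a6f60e93784dc1bb46e8dd51ce6e51b83710719b7a384db535c6d60e23694d69b38378d913626c51b03610709af26b0d751ba6b51ac35906d9ab26a8d523526a60d93510d39a72698d3419e6959a23494669a38668d1519068699834106719fa65ccf419467499c3388cd99b8334cd132c6651983314649974658cb418e6559923294629938628c9518864698832106318fa61cc7418463498c3188c598b8314c5130c6251883114619874618c3417e61598230945e98385e8c1517060697830105f17fa5dcbf41745f497c2f88bd97b82f4bd12ec5e51782f145c97745d8bb416e5d59722e945a97385a8b9516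85c69682e105b16fa59cb741645b496c2d88b596b82d4b512cc5a51682d14599674598b3415e5959622c94569638568b151505869582c105715fa55caf415457495c2b88ad95b82b4ad12ac5651582b14549574558ab414e5559522a9c52953c528a971485479482a185314fe51ca7614453514c2984a594bc294a5228c524948291c519472518a3613e515942289c4e943c4e8a1713050793828184f13fe4dc9f61344f513c27849d93bc2749d226c4e4938271c4c93724d89b612e4d5932269c4a933c4a89971284c792826184b12fe49c9761244b512c25849592bc25495224c4a4928251c49927249893611e49788d249847123e46c91611448512024048f91fc2348f223447491c239c4491b24688d610e467885231887917e2108b721a457086229c86113c20889222244491022184290f442c87121a43788321848590bc1fc85320e42787d21187f907e1e08371fa41707e209c7e103c1e8812202404900,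
  nat_lit 0x60097faff2bf97f637cbf79b75f997dafb4be97d6366be4af85f18d52f7e6a17b35e8bd72ef5e9cd1af3ebb17925e2bc4af05e18d22ef4bad7715dabb79a25d8575aebc6797535ceba799c5d196fae7e65d7375bab9719d5c9d6e2e3c6657125c2b84ae05c18ce2df4b6d6f15bab779985b856dadbc6596d35aeb679945b1967ad7e64d6b759ab571955a9d662d3c6456925a2b44ad05a18ca2cf4b2d67159ab37992598565acbc63965358eb2798c59195fac7e61d63757ab1718d589d5e2c3c625612582b04ac05818c62bf4aed5f157aaf798857855dabbc6195d356eae7984571957ab7e60d5b755aad7185569d562b3c605592562ac4ab05618c22af4aad57155aab7982558555aabc5f955354eaa797c55194faa7e5dd53753aa9717d549d4e2a3c5e5512542a84aa05418be29f4a6d4f153aa7797853854da9bc5d94d352ea67974531947a97e5cd4b751aa57175529d46293c5c5492522a44a905218ba28f4a2d47151aa37972518545a8bc5b9452512a24a885118b62874a0d43150aa17968508541a83c5994164f4a07963501d3c27fe9dd3f62c29f527c4f853da7bc5913d24ec9e4a784f1cb127729d93b62bc9d726c4e9caba73e9a93962b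a9c7a694e18aca6f49b93714da9b715c4d893426b29a93572b09a4a684d18ab26769913352a899625c4c94a9a63a9693142aa986a594c10a8a5f29792f24ba9761544b852c25b49692d52a49652584b10a725769512b529895624c4a94a3a53a92929429a946a494a10a4a4f293927249a93614c49852424b49292552909252484910a3247691123528891623c4894a1a43a8e921428a906a394810a0a3f28f91f247a8f614447851c23b48e91d52848e523847109f23784e51b146a8d523446909e23328bd1924628c6938460917a2f84d91734568b6934459111a2ba4cd1554428a613545151022784c513144a89522444909a223287d11244288693244090fa1f84b90f143a87521c43909621b285d0d243286692843090ba1784990b424a854a14429091213684109524084620842148da0fa819074242836a0541908ea0b2829052412826120410502207481903523881520440908d2032809012402806119,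
  nat_lit 0x8005ffbff6ff5ff56a4ff53fa7f8dfdbfbefe1fd46aafe4bf87f09fbbf78a45fb17e4fd53f47e9546bf34fc9f94516fc53f07e159e3ef4fb9f74672fb53ec7d959fbebef95f537cefa6a897d11efbe7aa11f357baf9628a7c95ee3e38a19f117c2f853e07c1144bdf2f6def27baf76a857b89edbdb8a0ded47b2f67bd87b05ebbd7ef59eb4704f553d47a99e6bd32f49e9779ef46b857a09e7bcfaa05e7279af3627e799de4bcb8bf1e54790f26a757905e23c74f19e354e8f153c47891383c3a9b9e14782f04bc0780dddbbfcef9df377aef4bbc778ddd3bbeee9dd54d4ee5bb7770dda3b7ced9db56e4ed73b47691343b36ec1d974ccec73a8761d32bafee99d764ceeb7ba5759931bab4ea9d51752ea72667509d23a72e99d374c8e94ba47499303a36e81d174bce87398741d2cb9fee59cf64bee77b9573992db9b4e69cd1732e6725e7309ca3972e59cb74b4e54b9472992c393ee2dc964a6e453907205c7b8fc959c72714e34b8c719d2a38b2e29c564a0e253887105c3b87c919c32704e14b84709d223832e09c16480e072377009bfb7f2df9bf646adf53796f85bdb7be8c5bd16f2de722f6f0dbab77e8b5bb66dcdd7a2c6e9db6373edadb9645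4dc53706e05b7b6fc8b5b726d4db4b6c6d9d15b6b2da9b5644eda5b666d1d0eb67cd79b37430d97b5c6c990f363ed6db16434d853606c05afb5fc875af26b4d74b5c6b9d0cb5b2d69ad642ed673586b09abb57c851ab36a8d5734d6a9d08b53ed2da97694d4720f6a09a7b4f2d39a76424d353496985a5b4be841a51692d2720c691da1b474d19a3168ad172026889a0b43e7f9a11682d071fc6818f633f4cf99f167acf71ef67899c33b2ce99d73dace4b386718f4b37ecd99b73c0cd5334668599b33c77d99265ecc79db660597b2fc765973656cb79d765999232be759957644ca71d86518ea3274c9993164ac971d76489903232c899173aac84b206418e8b1f6c718f739ec77315639ce531bec4d8d7624c671cc63098bb172c598b639ec55311628589b13e72d891622c471c9620d86b0fe71d87660ac379c2619d81b0bc721857604c271c4610983b072c1983638ec15301608581b03e70d811602c071c1,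
  nat_lit 0x32c0f01860740db03800f81c005c0d819406800e03200201702280b816205c09202c05581602080a814205401c02a04d01401740a011604c02d026041812020408802a04407c02001200f01880780a603c03c01c02580e010c0680b203405b01800e80c0034058092028014012008807002c03001401401a009366cd69b1a00cd7d32a6b79a7357cd49a8669cd3f34a69298f346b129a0a674cf7336673999337cca99918c4cb930a6555d1326cc09911754c7b2fe6345cd314cc4988a61cc38ba661197d3054c0981573cbf52fa5f45c72f74b797865d4bbf2da5d396b2e74b8970e5bcb732da5b39692d7cb496956ecb372c659395d2c74b09615d64afd2ba5745b72b637e958655cabd2965519532a7ca8950e51ca7ab6253293f295c9f94964e4a3ab66512943287c9e9415bdc9fb2624f45ad274c9c938a4dc9b8b664d192f266ad7930a4bc978b4e4b7927256347928649c93524a4945a3245c8e921564c8f9226475591236c8891916548bb21e45458d224c86911563c87521a434587216c7d9091b4483320a412903206b62900a3fc7f8da63f28fb1f6b678f9e3b47b71e23d55831e64708f155e477b1ba3b45851d6c6d8e915f47331ca3928e3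1c62c18e063646f51ba37557b1b546c8d915dc6b71a23558af1a630b8d1629467ac2a3348ad196b108c922fc63f1863128c3185c548c1e2fc5ff17a2f18bb177c598b9a2dc5b716a2d68b316630a8b0a28c57515a2b6899155c538a9e28c53f1362918a3147c4e8a1585c4f513a27556f13544c899159c4b71222557311264358915cbc478e5223587511639a889a18443d0e6217863107435881a19c3ff0f21f787b0f4c3c879e1dc3b50c21d572b0e5437870e1b43770d61b78670d639b869215c33aaa21958530c62aa86161442f8a9a17185b0b542c859154c2b309e1528530a6aa7850a13c278a8e133849096416849550c23b07a11453b086c1d841a0fc1f707a0f183b075c1b839e0dc1baa760d382d067418831599417d05a0b453705632a828609c13d04609281d045c0e821e06c0facb607580d036296818605c0b502a054533024c05810a03c07aa5e03280b0162938095a8c03affa0146a7006bfd,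
  nat_lit 0x152c5704fc2b454315a29d8ac154c5584de2ac24f1542a10a9099854097a29820414c2810a614a4530a1429452314a2728a513e8520a322902141482890a31354518a0628822514427d8a113b05089f228020d14027a09f08704f09b42784cb13c11e09d130c4e89762704d313610a89b08b44d098226420c1300e209612084b095225848a12a25189511e84a09322501ec12824909311544989062481d512423d89111b04888f22401e512023a08f07704708b423844b11c0fe08d110c4688762304531160f688b07344508822241e41100c2086100843085221840a10a21188510644203282104121061ea883100c41034a2083fb1021fc88006344007e81fc19c0fc1ed07e0f2c3f03781f43c30fa1dd87c0f4c3d832a1ec1ad0f41e087906303c02881d83820ec1d48760e283a87461d43650ea1cc87405b03a07241cc3550e61c187205543906f61c436c0e21bc87005943806e81bc15c0dc1ad06e0d2c3702f81b43430da19d86c0d4c3582da1ac14d0d41a086905903406241983210ca08a0650c683205ba19030b0c60928630c0c31060218410d0c217e06004702f85c417c2d30be09e05e0b2c2f05861742db0b808a85c04b42d859216810c0b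212285703102b851415c2b10ae1490560aac2b04da1582820aa15085503b02a853415025d0a814585303542985061482740a414085103942884f81400dc09e13104f094c2781f813824b09c12184d096c2601da1300cd09612484a039024838e11c08608e119047082423842211822b08c0f7846080422844411409608a10c844077c22041610c0a708610184207d821040410408f0820ff04002781f83c20fc1d307e05f03e072c1f03860f41db07804b83c02bc1d83940e808e0720a383701181b83640dc18906e0c883606ac1b02de0d818106a0d103501b81a83320d015f0680c5833015c1983060c81760640c1031019c1882fc0c005e05e0b082f054c1780fc0b814b05c0a182d05681682b60b006f05802782b05281500cc0a400604e099027042413822209812b04c077826040412824409401e04a08c824037c12021608c03f04608182203d811020408400f04207f02000d80f81c207c0d303e01701e,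
  nat_lit 0x2944a6948653453629851d94c28cca5949652850f29429394928e8a40a0c51c9b728a25f1452888a293f2514a0128850d94427c4a1942450c4e6286504942273ca113f65044cf2824f994027c89f89be4fc9ee27c26b13d27449e93864f44f62784dd93c26cc9d93964e84e727426393926e89c09bc4dc47e26a4d113525e49a93024d099b2684b8933264899891c4cc9892644a793226089892f64c449f2624b993025989812e44bc48725e4b712e12589692a24b494325a25b12c24ec9612664ac94b25424792a129c9492744a048624e490925244c92122448c45f24648712211589091e24848e324223b120236c9011a647c8eb23c23391e23688e08bc46c8a923245d11810388c116245c87722e451916107c8b113645489a228203914225889882c44887922443591210d88890c644485b22043990f103c87884e43886221a20310c0ef8851094428821214414909210c8490744203e62104189071fdc8390464183cf20c40d90520688207be4108162061eb1021fac8107ec4047e32023ed9001fcc7f87ce3fc3c71fc3f10fd0f787e0ebe3e87ca1f43d08fa1ea47c8f863e47871f23dd0f80e387c0f623dc7771ee3d18f60e7c7b0f363d478e1e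a3cd0f40e1c7a0f2c3cc3961e43bc8f21dac79076c3c47631e23ad8f01dcc77871e3bc3a71dc3b10ed0e18760e943a87211d43948e91d0c748e743a03661d03988e71bdc738e4639834f1cc38d8e51c687206be3907161c61ab0e21be4710dd63883761c23718e11b6c700de43806f31be1b38df0d1c6f0dc437435e1b835c8da1a6c6c0d6635c3171ae1978d61a886a861c35067b1a23370d119e86805ce34067619e16f0ce1964670c963382fe19a3218cd18ec660ca632c2ef1961678ca19086485cc3205bf18c1430c618a8630c0231860918a3118c5179c628c343102961883088c3175c618c143086031841538c217ec608bdc3045fa1801478c017d85f853c2f85d917c2e58be0af85e8b862f45bb1782e90bc174c5d852e2ec2af1742e10b90a385c048c2d85aa16c2c08b616245a8b462d45791682cd0b409b85a0b222cc5571662c18b2095c590af62c456e1622bd0b0099c580aec2bc25e15c2ac8ae,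
  nat_lit 0x3d68f79ee67bcf693dc4161ee3d88f69e4a7b4f593d87a99ec20f4f61e967acf3c3d67a49ea2094f51e887a48343d078d9e82150f39e2679cf0b3cc7919e520b4f2908a790f113c64121e23b2cef1dc67748053ba7689db1ff0ed1c9a760e923b075c9d83a68eb9d6675ce753ae7451d63aa4eb0f58758ea23aa7329d53a4cea0f7a750e8b3a673e1d33a24e90f4a748e843a23da1d039a8e81cb67407d439e7299cf392ce71cc67347ad39a3e29cc3944e58f487287743907151c81e50e39c2671ce0b38c7119c51e14e28eca710e113863be1c21cd0df9bc46fc75437c6e59be370cde9bb66f072d3783a29bb3724dd0e486e4daa36e6d19b61bb4db1b366d4d9936837e9b43650d98de86c8d7336438a1b135acd89ac66c070535e6b49ae1bf0d68d686ac6d43543461a81a34d399f4694d2134a6811a4346cd219ba690d113463321a33428d1199a688cfb3423269a133ccd019c8680cf133e32e99f33b0cf0ca8674cd233a66199d19d0ce1976670cb333666599a1994cd0c8a664cb933032e19730d4ca98f4654ca132a641194326cca18ba650c723266489931830c99914648c4d32463d9911874c898e6640c6432063898f1814c798d863861431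a62918d310cc68c68630c3b31861998b312cc50c1a62862531261c9881810c3976a6145bc30a5fd1853084c29804610c1b3085ee9842fc8c1982260c5e43066051822f34c117f66045cd3025f99802f90c017e25fc5dd2fe5f617e1750be97a45f4bc32fa2fa17c2eecbe17665ecbcb2f42f297a1714bc97725e05dc2ee59a97515f0ba96f45d4ba12ea5c11742e6cba16ba5d0b722e65c89731630b997145c8b4d2e45bd9711674b896e65c0b642e05b896f1614b796d85b85942da5a916d2d0cb68b685b0b3b2d859996b2d2cb50b1a5a85a52d259c9681610b395f4594b212ca5811642c6cb2162258c5642c65851622b34b115f658454d2c25799602bc4af8aba57caec2bc2aa15d2b48ae95865745742b855d95c2accad95965685652b42a29592ae4ac0ab855c4fe2aa55115529e4aa9502550a9b2a852f95429c4a9952454c50e2a6544952293ca914f654451f2a253995029c8a78a0e53ca6e29c28b14d,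
  nat_lit 0x53cd4f97bea7cbbf53ca7129d2f594e28bea68b76534a6529a52854d2952a654c3532a43a9952e94c170ca614b152ea3ba97528d4b172ea5949b52aa4729552694a16fea514965265c729251e54928d6a48bae522a31a91516d4828e6a3cb8751e5cfa8e51894696fca30b4e514a1ca8a2db944a836a2143350e5afa872cfd432844a14b56508a052822c19412802a053cf5029fda802c5d4027e49fd3ee4fc58727d4f0d3e965c9f13bb4f89d9a7b4f2d3d160e9e8b1f4f29dd2782bf93ba7449d4ade4ea9cca744d7d3a27169ccac74e69c1a724e093895ae9c537e4e056726f4d8537a6a69bcaee4dc9a5a6e4d0d36a6b69b0adf4d855fa6b4d293515ac9a52c54ce53a2674c2933a66299d3124cc995a664bb53326049953214ca5422654c693225ba9913114c6985a632a5531a6069892f44c4980a6129f530a5f8980a8c4be97125f4b4d2f95589792cb4bc961a5d4b6d2e150a970a9d4b6964a5a29f12ca51495d2b14ae9492564aad2b2542954a5c4aa94d25449752a251694ca454a6941a524a052894aa94527c4a052624f494d2794d893924b49c921a4d496d2614ba930a3d496924a4a29512493e891d23148e90924648ad232442914a0448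a90d244477522241690ca15486901a4248052093fa9051fc48050623f474d1f94588f91cb47c8e1a3d476d1e140a8f0a1d4768e4a3a27f11ca3688dc9cc46c8cd23627b11aa3068d517b4688c8a34464d1993ba8cc9bd4648c0a3127511812e88b914245c8b4a2e452916a2c68b513a4588aca2c26111622a48ad1154568a1a2a26551522768a51394504bea2844d113931889911a44c885a2626b112a2068950fb448889a23261511933a8891014424be22025310f21b487896c43a861a1d42ed0e21a686c95d43649ea1a43050c92a88610a342c492a1541a909a12284d072424845a1242050891f884507a42081ea1041ad0791ca83d06341c830a0d23d506a0b88308ec416819a0b243105205682902341281da0823f50411ba81d02940c47a2054009019fd6808fe34027fda0022b500118a7fcfe93fc4521fd3e34fd90b87ecfc93f47d29f921d0fc11287dcfa33ea4329f43e44f990f87c8f523e07bc9f0,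
  nat_lit 0x696da8213cd3da5369ed25b4e698da6a0eed3508f698d2934b41b9a51ffcd1da1b68e80f346684da33416d1500f688d093434019a133fcd00f6667ecf0b3f674d9f9f0ccf99cb67cce1b3d676d9e1ebecf0f77676ce533a3d599c9e0ecdd99166acc5b35660d9a32f6cccef7664cc13313bb9981d1ccb996a65ccb1b2d65059632b4cb0e9e658ca8b2b647d959d5eca9936652c9f3283a9993b242c9cec664cc81b25646d921d3ec90eb7646c853223a5990b11ec7ce4e63ec7931f63458fb1d6c798b763cc7131d39d98eb1b2c718a7638c69b1b397d8db194c68e6f634c6331939998c3152c6189b630743317624d8bb116c598a262cc51b1539dd8a9caec5189262673731238398830f4c41851620c2cb0f61cd87b092c3986a61c71b30e618586b04ec3585a618c29b0c387d863096c2d83e616c2530a38bd85308cc24e26610c14b08606d841c8cc1d81360ec05b06608d829c6ec14e17608c0930338b9811bbcc00dfe5febf1afd36b97e1b5ebecd5e5f2bafaf65e897aaeeebd0cff5e66872f25de5791a5cbc575b5e0bb9aef341d779a3ebb97625da67f2ec5b7d75196cba974a5d4b90aea5ca574ae86ba57075d2b9d2e83379742e62b9d6f75c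eb91ae6331d732e36b9570e5cab8d2e4335d722e2cb8ccce5c4b7cae25bad7119dcb856e35c2b6dae05bcd6f99beb7ccbf5bcb712dd33596e18ecb696ca5b4b50ada5aa56cad86b656995b0b5d2d832196c2d62b5d6775aeb51ad6325d6b2d36b5569a5a863fad45a5969991cb496795a4b35ad232b968acc6b4565b5a0b39acf321d67993eb3966259a63f2cc30d9652c32b20c5e590623ac6586d62ac1cb1561a58862bac4585961989cb095f9584af5ac231b960abc6b055db580af9abf317d5f987eaf95e257a62b2bc2fd95d2b94ae95a1574ae1ab956e95c180cae15b156eabbab756a95b2b46ad8c1756cac72b556695a17fead15965666072b255ad59185cac5563562aadab055cd57980eabcc1f55cab12ad2ff95629beaa8bb6554aa52aa5485552a52aa5543552a9d2a82f79542a62a9d4f754ea91aa62f1d532a36a9551a5485ebaa4545951979ca894f9544a75aa22fb950a9c6a854db540a792a0,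
  nat_lit 0x531604406301d4a480d00d4047f9602402300e00b806d4ac037ff201354b005f96800ff9c007eddffb538ffdff77e6ff4bfe7e9dfeb548ff5a8d7f8fdf3fc7f45fdbf9efe94747f2fd93f97e8dfca928fe1f9b7f0fc9bf75215fb28cafd5f997e8a3e3f37cfdf8b38afc5f867d4fbcbf07d39f7b3a8fbdf777c6fb4bee7c9df6b3eafb5f667ccfacbec6771f5a838fa9f497d4fa1be97c69f43e72fa14447d0f7abe77ca5f33e46f9942d7ccf863e57c65f2287af91f147c6a1a3e27be9f13dd6f894547c2f71be17b6df03de6f7d4457bea12bde7b85eea878f71c3c7b4f663877a29ecbcf6f61e737aef4d3d67115ea3d5ae25e9b7aae1a3d379dde9bd2ae11e8b7a4f433d15055e83ce2f3d3fc79cf322fd7965e63caef2de497949ca3ca78f5e4bc76f213957909d6bc778a5e32718f15dc5786de23c2771de0b78af05bad780ee73c077f1ba3bb2efd36477cee8bbe4df1dea6b8ef1b9d776ee53ba4d35dcbb82ee5375770ede26d7685dbbb52ed9bbc76a9833b375c5d93b16ec9d61762ec13b14c59d8baf2ec1d3f760eb5baf4c9dd7a61eeb5d5e75898f3ab7505d5a67cea9d23752e9dba84c5dd4265ee9dd2a74c9873a54b19d1ba04e852ee74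2e5fba073adcfa5aee7d2e773a96f39b7305cdb966e6d2fe734e55b9a728dccb974e65cbb730977b984b3dcbb954e592e672a947b937239c9253ce45c71722e31b914af9c838b6e41c5371ee35b8e4a5dc7255ee35c5a71894738b70c5c4a47ce21c1370ee1538770adc3242ee1922f70ae0d3844839c1a32ce01be9700dedb8046d9bfb7a6dfdbcb6fcdf1b7d469dbea30edf1bd26f68cf37a44f9bc3774de1bb36eedc8b766ea9bb229cdd9ba16eadb7b756e6dba22bedd1b926e68a3b736e39b922acdc5b716e2db1b7145d9b836b6dc1b536dedb5b6e453db722cedb5b5a6d88a336b42f9b4b684da5b3b6d0d88b676cc9b3a1ccd9db296ccd77b666c6db2a19ed95b136c8d89363437db1b61cd890d66c2d78b616b8db0a1ecd81adb6c0d69b5f6badaf21ced790c76bad6d35c4379ada16cd650b76b0d48b566a25aab544d550766aad4cb54699daa3526d4d0876a6d4535241bda9350cd4507e6a0d34b50,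
  nat_lit 0x964a5bade92da58a96ceb6cb5960a5acb352d16e59672c8cb35c36594b18b825719632bccb0765257cadd29a55b95b2934ac6ff6564ab8dea502956df24aa94fe554a9ae0250b952b564a893ca544a732a253394f28cca65a72532d7b29652194b28d4a493ce522dab29251794726eca36f36514a1adf650194327fca093c64fad4b27e4ec93cb5a49d932e4eada92724c393925dc9b5ab64d49832656a493125a34392a64b494f255674928b4a493587248ac5923d63d91ab12c8b58b644ac4921e42190ad9ec85901242479d20db2d9071e3c826c7641481d1ee4019031eb4808f8e4036892023ff8e91f8c7f8ebe3f366b1fa3ee8ef1f0c7d6c923e2bb91ee3d18f71e5c7a8e8a3cc7831e56048f31bec788ec63bc7571dd5ed8ef1d1c768e523b47431d55fd8eb1ce47457d239c7051ce3738e6b0a4728dae3946c71c637b8e0b02c70579637c6d31b95fc8dac3ec6b8a3235b0eb1aa3418d3142469613634459b19d86c8cd162c656192324638ad62f28c7163c638c0e31458d1862a28c117bc608bf186450517d5b48bd139c5e8bb55d45c517626b8baae6c5c8b8627c4c71722be8b915fc5b8a6a2dc55516a2b38b31494598ac62c310b16186d8a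d15eb0e8a4e2bc55d15a2668aac2645289be29451ac3e2838a313f450571627c4d31395a489b0dac4b72d225c4a312e24b8950e2c4a890624b9b91261bd8910f244772b62343d91162038890eb444882e21c41510a1bf885100c41869a20c3f51021b68810efc3f862a1f43470f9cd487b0d543d8795ca43850f21d387909ec3b866e1dc3af0c21c98750d943a85fe1cb9990e61be862e62c38865a1c43730e1cbd86f0da39686a61b434f0d6199868a96434864a19c2ab0ce1898650c1c3254f61942f70c616c8630bcc3054961842e90bd53485d0a5c2e555216c2870b613b8590a8c2c854e15aa5b0ad5458550a0c29549214419b09950484d090c25537212c1ab09210b846a8ac2353d610a9f907d51483ca7a41d65f60e2a1b06a0cc541058c1982e60c331905e0ae82504dc1565760a4138cba07a826a4e41282159440f304207781f034c0e52960740c90354b481901dc0c535205c06702e02b814a56c09,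
  nat_lit 0x422020251008110802b0f9993138cc9a211da48896eb202df33615f99a0af56305b8ec845059417019c0aed6485bc65c2c076022c19d0af16205c2eb845775e22b1980b056285ba61c2ea30792f183e72dd608a498844e305d2fa601178bf64b298445d2fdce6820100c0f09b06642c258617118b0ba0c405c860325d4cc227980e740c305d26302e730b8e7185e9713288c66282e530992c2671170c273986071cf303d2da641130c685cc3004c84bc15b9cb0ab954d83ca8aaa9833553aa08a9cbfe3925ffa5a4c6226a5f0ad92c85747342ab03e26c856135cc485c63144ca186263a5d0ae0e8055e2fc4d55371520c61324e705629702b554760f8c1132d2c05727302b039e15925b0acc61098c2e044554b60da9daa94c18626aa2c1d83c21629eaaa1548846a9c42639215625a0ad0bf06241484d61882690ba1120c0062e2f844a5482128b71118c2862b07c42717a2239840c60c0862c2e44492f221ec1b10ad5288445e843983a2152a810855008645fc31117622597c10e14d88605d843a53e21d97b10f0bc086aa74434548221a9e10ccbb886caa844455021faa6110553888132fc479abe254c9d11a64788b31bc494bb8e84c7d1212ef62f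0e23174bd8e5a5eec4e1cd6269631cc4b1d8c43cac6223899935bc4b9a5a25c4a13512e662b0eab1588c267a5ce73a22899c97f9ca4b798b44913421ac62c96f9cf4b38e69d00e852cf6251204d162e1cc1cb0e898987327303a36301ca25acc462589a70da31162a1caa5ae724e7073ac5039a3941cf3160e6ce787387343a06241cba5e0c6d2c0632c443963921cfa5f0c712d863c96431a4b418fcd9d00e6c29b335ecd89aca6bccdd35e6979ad356ae9990a6accc535269d62333d4d39a2e69ae3934a6539a5347cc79a0668ccd53466379a0c5a4d099da64315b33e64e99f338ccf6296674cd8c4e66199b32fccc994665ae5932e64a995306cca990664cc7732573d993319cc89892644c6331d72598f3164c65cd262cc073157549892fdcc497ce61cc1730972d984ba2cc197e6602e492fe5ed75d2bdcbd95ea5e4b2f2f1d9d9792eebb1974a5dbb0b2ea59e9752e63af96a65cadf92e25a1970b8a4b7,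
  nat_lit 0x27a2041ececaceb73d84e840a3afcf69d5c7ac9d880c7479f02e5d19137103194f3dc7631ee2e791a13c101cbaf4624e040946c1499ea0c90f4864e8bc29a7715a1a350a619586807b032346014c9ed0c94f586448cc2943e01902320a58f7064c8d029746214a9710dfce986727503382dc1bcb430f0cb806fc75833f2e81be1d70ce8ea86785bc37a3a219f1720e00ec06765cc37d2ea1bd8c312b0e787dc72c3f118c25126e125860095a7343ec17e2551ce0fbce607e03084ab3a01f68c412a4e487d63144a11822500551290c087c660c3e70a025195d124c28894c5f83e60a62539850fa4c207d41504a53001f205212a0bf87ca15849e8cfe03057127c2605b430a8b017214316fa3085e05082c68c52e706284f0b6633680f197c051541690490b4c61d1662e82852e346184a0b606351642dc2892dd46346bf02e3268122f42832eb06084b0b5c5f050e5d20bf09c16ac68f02a3568182ec28a16946217283102685ad01848f09016a0b00638b851803081678d3a0419bc5cc6282d42c419480e2474051228cd72e22cc1911860b4197c5b859032031816d816248409122c6082cc2bc19317e0b58b506560509190304911880b48b406494a058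a2d818f1800b64081234b98316a5c2c85261631710620b70318a682c952a1621750628ba030ca642ca23f4d5a960b0cb9031266028c2e00c3a980b1ccd851c66829232e14599d0a44ce05206ac2083321468c90fd5b4d5e2d9aaf090b5773678bb9b145ded96aec6c7575c84abc9b445e4ec646b7676323adb19ccb051e3303f81961f90ca0fdc6707ec3582111901fa2f111fd7808fcbb847d91be34bb291a57789031afc905d8241c8ad195d858cabac4828c9a45bae91aa4778ccebec665e4240467f23ccb758f2344ae30fccb48cd1a1d648d11ac4bb8c825e46712d46387e61744000b21fe05b0ffc3286a81703fd34a23a46ad244cdf5912384b8317ccd9a411d563733462319a34623bc8a12ce34895e673aca918258986e670d008f665fac992025b18ce65ccf88f31944ba589cce98ac674cf08f122c4b28d425ec6612e562f33068447a91e25a2c70b6ccb057d1a04b0762228bb3117dd688b21603fe,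
  nat_lit 0xdc0b98550de03a86d406803f0940468700db02b86e80cc3660141ae8140e302a053615432c0ea0f50360d880d80781ac16e05a0590760dac2a06e614832e0e20f8073030028811e1c82a80a614f87003043906e214c3720a41510710a8c60054e14429e1820f70570ca43b03d21503280a014e8560cb43783da05438d02c1c70320d9c0e80702eb8750d80b882e02cc2b06ea1bc36d03201f0500ddc1b86c61d80c20a019587407b03a85481bc2a50261c583f0e4c1806d007c03a177c38852c1c41781681b41721801b80b908a05c045c1c80bf02e1c883e0e486003d614432a16e0eb0b807545e83b03042a90ae150180a2f4bf044c2dc22d0621b482b086437818a89a8bc17411385302445e84562f417c05410c04309505c82ec2e81d305a10d05002403a018c5d822816e0978bb07445c01ec96398017c0bd8bd03d05f04542f01311760bc8b805dc7a03b02e41d416e0bc0bc075c2204aa11825205c10e05502583a81862f022c17807d0540254bc045a2f81331740980b904d01404362e40f52f00eb0ba05e85e02fa10025105e10e85202483881885dc22e17407c8b703dc5f01e62ec12e2a3c52042094c5d81f05dc1d53020e68be07487a02f8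6001c93020e5980072847e1ec5fc22511fc39829085c3782503e81311e609987204a84f828e60418530a0e697e073c3a024e3dc12f2fe0e817f0730c003083d01322fe0c11840724c283965f81ce1440a58a505343a82583e41301ea09a07604ace5839a5f818314c0a507104b47c025c2901483040e61840728a8c4b096425e1ec09a87304984981d62440f229e0aaa59096c4801dc96025d1280762580968a704c696425c29c0aa09603c04a81e25402614b612f150054c4901de5441524b012f88f03b4a784ca0e41c107e0e395009881e039054426607a0e2154098ca984c20e01c507c0e3152099caa84c80e81c229c13003b070d9557022803b00821880400c3c53076211430b1461d90460c245287582843ad08e1850420c3852075c27c3af0861868a20ecc220618e0441513023289711ac4d08d227046813a23389b11a84f08cc2644642e3d1b23710489c880a74f9ea651cf49d4c7a4b7645e4d840b,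
  nat_lit 0xcf800032c0020000008000000ac0000584003000000180000210420c0000003460002f4000177000021000090a19809d3460dd93906d00001520000bd00009280002908785ec0002ef00003400002e800017800015700020e000106c00008000009e00000280002140005e400008600003d80012104f02ae0000432af40000002ac00006000004d00006f00003840004680002310001df80005d400004000000b00002100000500000ee00007500003780008dc0002140000270001c080000480000e200005200020f80001fc0005e00002ec0001b2812013c00015a0482340000cd80001a40007840003c10001bc012010000002604812500008f800002004077e00037401017800000d00006cc0000330001ae80000180002080000170000f50850bbc09004e00004500001f80002c400007800004a00004682708bc00032e00001800000180000080002e600016e00000080105b80080940040a900203580102c400800a00000d01a1b5001006c0086d60043740021bc0020dcc0683d400401900201080101cc00811e00400300215400100680180320840bd00200a001002c0082ea0040c10020030010db00086e200400a0141b880200b81706e6000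37200c0340000a7c0d083e028049094151801006005001e0282a801415380a002c05854e00c41d01600600b0aa00000a600c29e00200980a007006809612c1ea01600780b07a417065000006e002151003014403053a0302a70020160030ca403065a1280710140f704f07b401802a2102ee0f6242826011c74033437c23601e02480102c800800e01c37800602b8060dd40300ac0180b10141b6021010805018201c02d05a1bc0060ddc2586d413c36d10217580105bc03005603004801403800b03081680aa0ac0b005619584b01d42780de1301ec05614e82e01500580ec0b02a205602806e106c0380262182f20ee242020010c18015602c04d1c011906805d42686d61240720901b806905d000071c01801400000b0010e4400802e0683930321c901804282680ec1300740900600490e043803dc1201eb05819702c014834083c1c02a90900398730a9c0c08322f217e1001788340d945e70de0ac0b1,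
  nat_lit 0x1000000c0000007b4f6a80000017baf7e0000007100003d40001c38000f3000034e0003c90000d41a78000000690d2380000019bb37c00000048e0003cd0001230000bfc0003f07e280000017e80007ec0003e20002750001a180003440006b20001c00000df9c00d0da1c0000002f95f21acb59e0000004d80001e000009f00005140004fc0000d21a413f0d209cd3984fc9fb00000012c000051000013a0003000000db00006d000042c0001510000870000cbc0002fc5f832f65f40000001980003760001b700009c800042c0005e600015b00006680003740001cc0001ab0001dc000025c4b83566ac2163570000000ef80003400000fc341c00000026800026c00022f]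
noncomputable def A : List (List (ℕ)) := [A_0]
noncomputable def K_0 : List (ℕ) := [nat_lit 0x3fc7f4fe1fb3f47e4fc1f73ec7d4fa1f33e47c4f81ef3dc7b4f61eb3d47a4f41e73cc794f21e33c4784f01df3bc774ee1db3b4764ec1d73ac754ea1d33a4744e81cf39c734e61cb394724e41c738c714e21c3384704e01bf37c6f4de1bb3746e4dc1b736c6d4da1b33646c4d81af35c6b4d61ab3546a4d41a734c694d21a3344684d019f33c674ce19b334664cc19732c654ca193324644c818f31c634c618b314624c418730c614c2183304604c017f2fc5f4be17b2f45e4bc1772ec5d4ba1732e45c4b816f2dc5b4b616b2d45a4b41672cc594b21632c4584b015f2bc574ae15b2b4564ac1572ac554aa1532a4544a814f29c534a614b294524a414728c514a2143284504a013f27c4f49e13b2744e49c13726c4d49a1332644c49812f25c4b49612b2544a49412724c494921232444849011f23c4748e11b2344648c11722c4548a1132244448810f21c4348610b2144248410720c4148210320440480000,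
  nat_lit 0x5fcbf57e2fb5f4be57c2f75ecbd57a2f35e4bc5782ef5dcbb5762eb5d4ba5742e75ccb95722e35c4b85702df5bcb756e2db5b4b656c2d75acb556a2d35a4b45682cf59cb35662cb594b25642c758cb15622c3584b05602bf57caf55e2bb574ae55c2b756cad55a2b3564ac5582af55cab5562ab554aa5542a754ca95522a3544a855029f53ca754e29b534a654c29752ca554a293524a454828f51ca354628b514a254428750ca1542283504a054027f4fc9f53e27b4f49e53c2774ec9d53a2734e49c53826f4dc9b53626b4d49a5342674cc995322634c49853025f4bc9752e25b4b49652c2574ac9552a2534a49452824f49c9352624b4949252424748c915222434849052023f47c8f51e23b4748e51c23746c8d51a2334648c51822f45c8b51622b4548a51422744c895122234448851021f43c8750e21b4348650c21742c8550a2134248450820f41c8350620b4148250420740c81502203404805001ff,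
  nat_lit 0x7fcff5fe3fb7f4fe5fc3f77ecfd5fa3f37e4fc5f83ef7dcfb5f63eb7d4fa5f43e77ccf95f23e37c4f85f03df7bcf75ee3db7b4f65ec3d77acf55ea3d37a4f45e83cf79cf35e63cb794f25e43c778cf15e23c3784f05e03bf77cef5de3bb774ee5dc3b776ced5da3b3764ec5d83af75ceb5d63ab754ea5d43a774ce95d23a3744e85d039f73ce75ce39b734e65cc39772ce55ca393724e45c838f71ce35c638b714e25c438770ce15c2383704e05c037f6fcdf5be37b6f4de5bc3776ecdd5ba3736e4dc5b836f6dcdb5b636b6d4da5b43676ccd95b23636c4d85b035f6bcd75ae35b6b4d65ac3576acd55aa3536a4d45a834f69cd35a634b694d25a434768cd15a2343684d05a033f67ccf59e33b674ce59c33766ccd59a333664cc59832f65ccb59632b654ca59432764cc9592323644c859031f63cc758e31b634c658c31762cc558a313624c458830f61cc358630b614c258430760cc1582303604c05802ff,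
  nat_lit 0x9fd3f67e4fb9f53e67c4f79ed3d67a4f39e53c6784ef9dd3b6764eb9d53a6744e79cd396724e39c5386704df9bd3766e4db9b53666c4d79ad3566a4d39a5346684cf99d336664cb995326644c798d316624c3985306604bf97d2f65e4bb9752e65c4b796d2d65a4b39652c6584af95d2b6564ab9552a6544a794d296524a39452865049f93d2764e49b9352664c49792d2564a4939252464848f91d2364648b9152264448790d216424839052064047f8fd1f63e47b8f51e63c4778ed1d63a4738e51c63846f8dd1b63646b8d51a6344678cd196324638c51863045f8bd1762e45b8b51662c4578ad1562a4538a51462844f89d1362644b8951262444788d116224438851062043f87d0f61e43b8750e61c43786d0d61a4338650c61842f85d0b61642b8550a61442784d096124238450861041f83d0760e41b8350660c41782d0560a4138250460840f81d0360640b8150260440780d01602403805006003ff,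
  nat_lit 0x2ec5d7bad756ea5d3ba5746e85cfb9d736e65cbb95726e45c7b8d716e25c3b85706e05bfb7d6f6de5bbb756e6dc5b7b6d6d6da5b3b656c6d85afb5d6b6d65abb556a6d45a7b4d696d25a3b45686d059fb3d676ce59bb35666cc597b2d656ca593b25646c858fb1d636c658bb15626c4587b0d616c2583b05606c057fafd5f6be57baf55e6bc577aed5d6ba573ae55c6b856fadd5b6b656bad55a6b4567acd596b2563ac5586b055fabd576ae55bab5566ac557aad556aa553aa5546a854fa9d536a654ba95526a4547a8d516a2543a85506a053fa7d4f69e53ba754e69c537a6d4d69a533a654c69852fa5d4b69652ba554a694527a4d49692523a454869051fa3d4768e51ba354668c517a2d4568a513a254468850fa1d4368650ba1542684507a0d41682503a05406804ff]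
noncomputable def K : List (List (ℕ)) := [K_0]
noncomputable def R_0 : List (Rule) := [Rule.mk (nat_lit 2) (nat_lit 48) (Steps.bwd (nat_lit 3) (Steps.bwd (nat_lit 2) (Steps.fwd (nat_lit 6144) Steps.nil))) (nat_lit 10) (nat_lit 0),
  Rule.mk (nat_lit 2) (nat_lit 61) (Steps.bwd (nat_lit 1) (Steps.bwd (nat_lit 3) (Steps.bwd (nat_lit 2) (Steps.fwd (nat_lit 2048) Steps.nil)))) (nat_lit 6) (nat_lit 3),
  Rule.mk (nat_lit 3) (nat_lit 48) (Steps.bwd (nat_lit 1) (Steps.bwd (nat_lit 3) (Steps.fwd (nat_lit 2048) Steps.nil))) (nat_lit 8) (nat_lit 1),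
  Rule.mk (nat_lit 1) (nat_lit 61) (Steps.bwd (nat_lit 2) (Steps.bwd (nat_lit 1) (Steps.bwd (nat_lit 3) (Steps.fwd (nat_lit 4096) Steps.nil)))) (nat_lit 6) (nat_lit 2),
  Rule.mk (nat_lit 4) (nat_lit 48) (Steps.bwd (nat_lit 2) (Steps.bwd (nat_lit 4) (Steps.fwd (nat_lit 4096) Steps.nil))) (nat_lit 20) (nat_lit 0),
  Rule.mk (nat_lit 1) (nat_lit 61) (Steps.bwd (nat_lit 5) (Steps.bwd (nat_lit 1) (Steps.bwd (nat_lit 3) (Steps.bwd (nat_lit 4) Steps.nil)))) (nat_lit 18) (nat_lit 2),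
  Rule.mk (nat_lit 5) (nat_lit 48) (Steps.bwd (nat_lit 2) (Steps.bwd (nat_lit 5) (Steps.fwd (nat_lit 4096) Steps.nil))) (nat_lit 21) (nat_lit 1),
  Rule.mk (nat_lit 5) (nat_lit 48) (Steps.bwd (nat_lit 1) (Steps.bwd (nat_lit 4) (Steps.fwd (nat_lit 6144) Steps.nil))) (nat_lit 16) (nat_lit 3),
  Rule.mk (nat_lit 3) (nat_lit 61) (Steps.bwd (nat_lit 1) (Steps.fwd (nat_lit 4096) (Steps.bwd (nat_lit 1) (Steps.fwd (nat_lit 4096) Steps.nil)))) (nat_lit 7) (nat_lit 1),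
  Rule.mk (nat_lit 1) (nat_lit 48) (Steps.bwd (nat_lit 4) (Steps.fwd (nat_lit 6144) (Steps.bwd (nat_lit 5) Steps.nil))) (nat_lit 16) (nat_lit 0),
  Rule.mk (nat_lit 3) (nat_lit 61) (Steps.bwd (nat_lit 4) (Steps.bwd (nat_lit 1) (Steps.bwd (nat_lit 5) (Steps.bwd (nat_lit 1) Steps.nil)))) (nat_lit 18) (nat_lit 0),
  Rule.mk (nat_lit 3) (nat_lit 48) (Steps.bwd (nat_lit 2) (Steps.fwd (nat_lit 6144) (Steps.fwd (nat_lit 4096) Steps.nil))) (nat_lit 10) (nat_lit 1),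
  Rule.mk (nat_lit 3) (nat_lit 48) (Steps.bwd (nat_lit 1) (Steps.fwd (nat_lit 6144) (Steps.bwd (nat_lit 1) Steps.nil))) (nat_lit 8) (nat_lit 1),
  Rule.mk (nat_lit 2) (nat_lit 61) (Steps.bwd (nat_lit 1) (Steps.fwd (nat_lit 6144) (Steps.bwd (nat_lit 2) (Steps.fwd (nat_lit 2048) Steps.nil)))) (nat_lit 6) (nat_lit 3),
  Rule.mk (nat_lit 4) (nat_lit 61) (Steps.bwd (nat_lit 1) (Steps.fwd (nat_lit 8192) (Steps.fwd (nat_lit 2048) (Steps.fwd (nat_lit 6144) Steps.nil)))) (nat_lit 18) (nat_lit 1),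
  Rule.mk (nat_lit 4) (nat_lit 35) (Steps.bwd (nat_lit 4) (Steps.bwd (nat_lit 4) Steps.nil)) (nat_lit 12) (nat_lit 0),
  Rule.mk (nat_lit 5) (nat_lit 35) (Steps.bwd (nat_lit 5) (Steps.fwd (nat_lit 8192) Steps.nil)) (nat_lit 13) (nat_lit 0),
  Rule.mk (nat_lit 3) (nat_lit 61) (Steps.bwd (nat_lit 4) (Steps.fwd (nat_lit 2048) (Steps.bwd (nat_lit 5) (Steps.fwd (nat_lit 2048) Steps.nil)))) (nat_lit 18) (nat_lit 0),
  Rule.mk (nat_lit 5) (nat_lit 35) (Steps.bwd (nat_lit 5) (Steps.bwd (nat_lit 5) Steps.nil)) (nat_lit 13) (nat_lit 0),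
  Rule.mk (nat_lit 3) (nat_lit 48) (Steps.bwd (nat_lit 5) (Steps.fwd (nat_lit 2048) (Steps.fwd (nat_lit 10240) Steps.nil))) (nat_lit 16) (nat_lit 2),
  Rule.mk (nat_lit 2) (nat_lit 48) (Steps.bwd (nat_lit 5) (Steps.bwd (nat_lit 2) (Steps.bwd (nat_lit 5) Steps.nil))) (nat_lit 21) (nat_lit 0),
  Rule.mk (nat_lit 4) (nat_lit 35) (Steps.bwd (nat_lit 4) (Steps.fwd (nat_lit 10240) Steps.nil)) (nat_lit 12) (nat_lit 0),
  Rule.mk (nat_lit 2) (nat_lit 48) (Steps.bwd (nat_lit 4) (Steps.bwd (nat_lit 2) (Steps.bwd (nat_lit 4) Steps.nil))) (nat_lit 20) (nat_lit 1),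
  Rule.mk (nat_lit 3) (nat_lit 48) (Steps.bwd (nat_lit 5) (Steps.bwd (nat_lit 1) (Steps.bwd (nat_lit 4) Steps.nil))) (nat_lit 16) (nat_lit 2),
  Rule.mk (nat_lit 2) (nat_lit 48) (Steps.bwd (nat_lit 5) (Steps.fwd (nat_lit 4096) (Steps.fwd (nat_lit 8192) Steps.nil))) (nat_lit 21) (nat_lit 0),
  Rule.mk (nat_lit 1) (nat_lit 48) (Steps.bwd (nat_lit 3) (Steps.bwd (nat_lit 1) (Steps.bwd (nat_lit 3) Steps.nil))) (nat_lit 8) (nat_lit 0),
  Rule.mk (nat_lit 2) (nat_lit 48) (Steps.bwd (nat_lit 3) (Steps.fwd (nat_lit 4096) (Steps.fwd (nat_lit 6144) Steps.nil))) (nat_lit 10) (nat_lit 0),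
  Rule.mk (nat_lit 4) (nat_lit 48) (Steps.bwd (nat_lit 3) (Steps.bwd (nat_lit 5) (Steps.bwd (nat_lit 1) Steps.nil))) (nat_lit 16) (nat_lit 1),
  Rule.mk (nat_lit 6) (nat_lit 48) (Steps.bwd (nat_lit 1) (Steps.bwd (nat_lit 6) (Steps.fwd (nat_lit 2048) Steps.nil))) (nat_lit 26) (nat_lit 0),
  Rule.mk (nat_lit 2) (nat_lit 61) (Steps.bwd (nat_lit 7) (Steps.bwd (nat_lit 2) (Steps.fwd (nat_lit 6144) (Steps.bwd (nat_lit 6) Steps.nil)))) (nat_lit 24) (nat_lit 2),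
  Rule.mk (nat_lit 7) (nat_lit 48) (Steps.bwd (nat_lit 1) (Steps.bwd (nat_lit 7) (Steps.fwd (nat_lit 2048) Steps.nil))) (nat_lit 27) (nat_lit 1),
  Rule.mk (nat_lit 7) (nat_lit 48) (Steps.bwd (nat_lit 2) (Steps.bwd (nat_lit 6) (Steps.fwd (nat_lit 6144) Steps.nil))) (nat_lit 22) (nat_lit 3),
  Rule.mk (nat_lit 3) (nat_lit 61) (Steps.bwd (nat_lit 2) (Steps.fwd (nat_lit 2048) (Steps.bwd (nat_lit 2) (Steps.fwd (nat_lit 2048) Steps.nil)))) (nat_lit 6) (nat_lit 0),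
  Rule.mk (nat_lit 3) (nat_lit 61) (Steps.bwd (nat_lit 6) (Steps.fwd (nat_lit 4096) (Steps.bwd (nat_lit 7) (Steps.bwd (nat_lit 2) Steps.nil)))) (nat_lit 24) (nat_lit 0),
  Rule.mk (nat_lit 3) (nat_lit 48) (Steps.bwd (nat_lit 1) (Steps.fwd (nat_lit 6144) (Steps.fwd (nat_lit 2048) Steps.nil))) (nat_lit 8) (nat_lit 1),
  Rule.mk (nat_lit 3) (nat_lit 48) (Steps.bwd (nat_lit 2) (Steps.fwd (nat_lit 6144) (Steps.bwd (nat_lit 2) Steps.nil))) (nat_lit 10) (nat_lit 1),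
  Rule.mk (nat_lit 1) (nat_lit 61) (Steps.bwd (nat_lit 2) (Steps.bwd (nat_lit 1) (Steps.fwd (nat_lit 6144) (Steps.fwd (nat_lit 4096) Steps.nil)))) (nat_lit 6) (nat_lit 2),
  Rule.mk (nat_lit 6) (nat_lit 61) (Steps.bwd (nat_lit 2) (Steps.fwd (nat_lit 12288) (Steps.fwd (nat_lit 4096) (Steps.bwd (nat_lit 3) Steps.nil)))) (nat_lit 24) (nat_lit 1),
  Rule.mk (nat_lit 6) (nat_lit 35) (Steps.bwd (nat_lit 6) (Steps.bwd (nat_lit 6) Steps.nil)) (nat_lit 14) (nat_lit 0),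
  Rule.mk (nat_lit 7) (nat_lit 35) (Steps.bwd (nat_lit 7) (Steps.fwd (nat_lit 12288) Steps.nil)) (nat_lit 15) (nat_lit 0),
  Rule.mk (nat_lit 2) (nat_lit 61) (Steps.bwd (nat_lit 7) (Steps.bwd (nat_lit 2) (Steps.bwd (nat_lit 3) (Steps.bwd (nat_lit 6) Steps.nil)))) (nat_lit 24) (nat_lit 2),
  Rule.mk (nat_lit 3) (nat_lit 61) (Steps.bwd (nat_lit 6) (Steps.fwd (nat_lit 4096) (Steps.bwd (nat_lit 7) (Steps.fwd (nat_lit 4096) Steps.nil)))) (nat_lit 24) (nat_lit 0),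
  Rule.mk (nat_lit 7) (nat_lit 35) (Steps.bwd (nat_lit 7) (Steps.bwd (nat_lit 7) Steps.nil)) (nat_lit 15) (nat_lit 0),
  Rule.mk (nat_lit 3) (nat_lit 48) (Steps.bwd (nat_lit 7) (Steps.fwd (nat_lit 4096) (Steps.fwd (nat_lit 14336) Steps.nil))) (nat_lit 22) (nat_lit 2),
  Rule.mk (nat_lit 1) (nat_lit 48) (Steps.bwd (nat_lit 7) (Steps.bwd (nat_lit 1) (Steps.bwd (nat_lit 7) Steps.nil))) (nat_lit 27) (nat_lit 0),
  Rule.mk (nat_lit 6) (nat_lit 35) (Steps.bwd (nat_lit 6) (Steps.fwd (nat_lit 14336) Steps.nil)) (nat_lit 14) (nat_lit 0),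
  Rule.mk (nat_lit 2) (nat_lit 48) (Steps.bwd (nat_lit 6) (Steps.fwd (nat_lit 6144) (Steps.bwd (nat_lit 7) Steps.nil))) (nat_lit 22) (nat_lit 0),
  Rule.mk (nat_lit 1) (nat_lit 48) (Steps.bwd (nat_lit 6) (Steps.bwd (nat_lit 1) (Steps.bwd (nat_lit 6) Steps.nil))) (nat_lit 26) (nat_lit 1),
  Rule.mk (nat_lit 3) (nat_lit 48) (Steps.bwd (nat_lit 7) (Steps.fwd (nat_lit 4096) (Steps.bwd (nat_lit 6) Steps.nil))) (nat_lit 22) (nat_lit 2),
  Rule.mk (nat_lit 1) (nat_lit 48) (Steps.bwd (nat_lit 7) (Steps.fwd (nat_lit 2048) (Steps.fwd (nat_lit 12288) Steps.nil))) (nat_lit 27) (nat_lit 0),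
  Rule.mk (nat_lit 1) (nat_lit 48) (Steps.bwd (nat_lit 3) (Steps.fwd (nat_lit 2048) (Steps.fwd (nat_lit 6144) Steps.nil))) (nat_lit 8) (nat_lit 0),
  Rule.mk (nat_lit 2) (nat_lit 48) (Steps.bwd (nat_lit 3) (Steps.bwd (nat_lit 2) (Steps.bwd (nat_lit 3) Steps.nil))) (nat_lit 10) (nat_lit 0),
  Rule.mk (nat_lit 6) (nat_lit 48) (Steps.bwd (nat_lit 3) (Steps.bwd (nat_lit 7) (Steps.bwd (nat_lit 2) Steps.nil))) (nat_lit 22) (nat_lit 1),
  Rule.mk (nat_lit 2) (nat_lit 61) (Steps.bwd (nat_lit 7) (Steps.fwd (nat_lit 4096) (Steps.bwd (nat_lit 3) (Steps.bwd (nat_lit 6) Steps.nil)))) (nat_lit 24) (nat_lit 2),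
  Rule.mk (nat_lit 7) (nat_lit 48) (Steps.bwd (nat_lit 2) (Steps.bwd (nat_lit 6) (Steps.bwd (nat_lit 3) Steps.nil))) (nat_lit 22) (nat_lit 3),
  Rule.mk (nat_lit 3) (nat_lit 61) (Steps.bwd (nat_lit 6) (Steps.bwd (nat_lit 2) (Steps.bwd (nat_lit 7) (Steps.bwd (nat_lit 2) Steps.nil)))) (nat_lit 24) (nat_lit 0),
  Rule.mk (nat_lit 6) (nat_lit 61) (Steps.bwd (nat_lit 2) (Steps.fwd (nat_lit 12288) (Steps.fwd (nat_lit 4096) (Steps.fwd (nat_lit 6144) Steps.nil)))) (nat_lit 24) (nat_lit 1),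
  Rule.mk (nat_lit 3) (nat_lit 48) (Steps.bwd (nat_lit 7) (Steps.bwd (nat_lit 2) (Steps.bwd (nat_lit 6) Steps.nil))) (nat_lit 22) (nat_lit 2),
  Rule.mk (nat_lit 7) (nat_lit 61) (Steps.bwd (nat_lit 3) (Steps.bwd (nat_lit 2) (Steps.bwd (nat_lit 6) (Steps.bwd (nat_lit 2) Steps.nil)))) (nat_lit 25) (nat_lit 0),
  Rule.mk (nat_lit 6) (nat_lit 48) (Steps.bwd (nat_lit 1) (Steps.bwd (nat_lit 6) (Steps.bwd (nat_lit 1) Steps.nil))) (nat_lit 26) (nat_lit 0),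
  Rule.mk (nat_lit 2) (nat_lit 61) (Steps.bwd (nat_lit 7) (Steps.fwd (nat_lit 4096) (Steps.fwd (nat_lit 6144) (Steps.bwd (nat_lit 6) Steps.nil)))) (nat_lit 24) (nat_lit 2),
  Rule.mk (nat_lit 7) (nat_lit 48) (Steps.bwd (nat_lit 1) (Steps.bwd (nat_lit 7) (Steps.bwd (nat_lit 1) Steps.nil))) (nat_lit 27) (nat_lit 1),
  Rule.mk (nat_lit 1) (nat_lit 48) (Steps.bwd (nat_lit 7) (Steps.fwd (nat_lit 2048) (Steps.bwd (nat_lit 7) Steps.nil))) (nat_lit 27) (nat_lit 0),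
  Rule.mk (nat_lit 1) (nat_lit 48) (Steps.bwd (nat_lit 7) (Steps.bwd (nat_lit 1) (Steps.fwd (nat_lit 12288) Steps.nil))) (nat_lit 27) (nat_lit 0)]
noncomputable def R_1 : List (Rule) := [Rule.mk (nat_lit 6) (nat_lit 48) (Steps.bwd (nat_lit 3) (Steps.bwd (nat_lit 7) (Steps.fwd (nat_lit 4096) Steps.nil))) (nat_lit 22) (nat_lit 1),
  Rule.mk (nat_lit 1) (nat_lit 61) (Steps.bwd (nat_lit 5) (Steps.fwd (nat_lit 2048) (Steps.bwd (nat_lit 3) (Steps.bwd (nat_lit 4) Steps.nil)))) (nat_lit 18) (nat_lit 2),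
  Rule.mk (nat_lit 5) (nat_lit 48) (Steps.bwd (nat_lit 1) (Steps.bwd (nat_lit 4) (Steps.bwd (nat_lit 3) Steps.nil))) (nat_lit 16) (nat_lit 3),
  Rule.mk (nat_lit 5) (nat_lit 61) (Steps.bwd (nat_lit 3) (Steps.bwd (nat_lit 1) (Steps.bwd (nat_lit 4) (Steps.bwd (nat_lit 1) Steps.nil)))) (nat_lit 19) (nat_lit 0),
  Rule.mk (nat_lit 4) (nat_lit 48) (Steps.bwd (nat_lit 2) (Steps.bwd (nat_lit 4) (Steps.bwd (nat_lit 2) Steps.nil))) (nat_lit 20) (nat_lit 0),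
  Rule.mk (nat_lit 1) (nat_lit 61) (Steps.bwd (nat_lit 5) (Steps.fwd (nat_lit 2048) (Steps.fwd (nat_lit 6144) (Steps.bwd (nat_lit 4) Steps.nil)))) (nat_lit 18) (nat_lit 2),
  Rule.mk (nat_lit 5) (nat_lit 48) (Steps.bwd (nat_lit 2) (Steps.bwd (nat_lit 5) (Steps.bwd (nat_lit 2) Steps.nil))) (nat_lit 21) (nat_lit 1),
  Rule.mk (nat_lit 3) (nat_lit 61) (Steps.bwd (nat_lit 4) (Steps.fwd (nat_lit 2048) (Steps.bwd (nat_lit 5) (Steps.bwd (nat_lit 1) Steps.nil)))) (nat_lit 18) (nat_lit 0),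
  Rule.mk (nat_lit 4) (nat_lit 61) (Steps.bwd (nat_lit 1) (Steps.fwd (nat_lit 8192) (Steps.fwd (nat_lit 2048) (Steps.bwd (nat_lit 3) Steps.nil)))) (nat_lit 18) (nat_lit 1),
  Rule.mk (nat_lit 2) (nat_lit 48) (Steps.bwd (nat_lit 5) (Steps.fwd (nat_lit 4096) (Steps.bwd (nat_lit 5) Steps.nil))) (nat_lit 21) (nat_lit 0),
  Rule.mk (nat_lit 2) (nat_lit 48) (Steps.bwd (nat_lit 5) (Steps.bwd (nat_lit 2) (Steps.fwd (nat_lit 8192) Steps.nil))) (nat_lit 21) (nat_lit 0),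
  Rule.mk (nat_lit 3) (nat_lit 48) (Steps.bwd (nat_lit 5) (Steps.fwd (nat_lit 2048) (Steps.bwd (nat_lit 4) Steps.nil))) (nat_lit 16) (nat_lit 2),
  Rule.mk (nat_lit 4) (nat_lit 48) (Steps.bwd (nat_lit 3) (Steps.bwd (nat_lit 5) (Steps.fwd (nat_lit 2048) Steps.nil))) (nat_lit 16) (nat_lit 1),
  Rule.mk (nat_lit 4) (nat_lit 178) (Steps.bwd (nat_lit 6) (Steps.bwd (nat_lit 4) (Steps.bwd (nat_lit 6) (Steps.bwd (nat_lit 4) (Steps.bwd (nat_lit 6) (Steps.bwd (nat_lit 4) (Steps.bwd (nat_lit 6) (Steps.bwd (nat_lit 4) (Steps.bwd (nat_lit 6) (Steps.fwd (nat_lit 10240) (Steps.fwd (nat_lit 14336) (Steps.fwd (nat_lit 10240) (Steps.fwd (nat_lit 14336) Steps.nil))))))))))))) (nat_lit 30) (nat_lit 1),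
  Rule.mk (nat_lit 1) (nat_lit 48) (Steps.bwd (nat_lit 6) (Steps.fwd (nat_lit 2048) (Steps.bwd (nat_lit 6) Steps.nil))) (nat_lit 26) (nat_lit 1),
  Rule.mk (nat_lit 4) (nat_lit 48) (Steps.fwd (nat_lit 6144) (Steps.fwd (nat_lit 8192) (Steps.bwd (nat_lit 1) Steps.nil))) (nat_lit 16) (nat_lit 1),
  Rule.mk (nat_lit 5) (nat_lit 61) (Steps.bwd (nat_lit 3) (Steps.bwd (nat_lit 1) (Steps.bwd (nat_lit 4) (Steps.fwd (nat_lit 2048) Steps.nil)))) (nat_lit 19) (nat_lit 0),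
  Rule.mk (nat_lit 5) (nat_lit 61) (Steps.bwd (nat_lit 3) (Steps.fwd (nat_lit 2048) (Steps.bwd (nat_lit 4) (Steps.fwd (nat_lit 2048) Steps.nil)))) (nat_lit 19) (nat_lit 0),
  Rule.mk (nat_lit 5) (nat_lit 178) (Steps.bwd (nat_lit 7) (Steps.bwd (nat_lit 5) (Steps.bwd (nat_lit 7) (Steps.bwd (nat_lit 5) (Steps.bwd (nat_lit 7) (Steps.bwd (nat_lit 5) (Steps.bwd (nat_lit 7) (Steps.fwd (nat_lit 8192) (Steps.bwd (nat_lit 7) (Steps.bwd (nat_lit 5) (Steps.bwd (nat_lit 7) (Steps.bwd (nat_lit 5) (Steps.bwd (nat_lit 7) Steps.nil))))))))))))) (nat_lit 31) (nat_lit 0),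
  Rule.mk (nat_lit 4) (nat_lit 61) (Steps.bwd (nat_lit 1) (Steps.fwd (nat_lit 8192) (Steps.bwd (nat_lit 1) (Steps.bwd (nat_lit 3) Steps.nil)))) (nat_lit 18) (nat_lit 1),
  Rule.mk (nat_lit 4) (nat_lit 48) (Steps.bwd (nat_lit 3) (Steps.fwd (nat_lit 8192) (Steps.fwd (nat_lit 2048) Steps.nil))) (nat_lit 16) (nat_lit 1),
  Rule.mk (nat_lit 1) (nat_lit 48) (Steps.bwd (nat_lit 6) (Steps.fwd (nat_lit 2048) (Steps.fwd (nat_lit 14336) Steps.nil))) (nat_lit 26) (nat_lit 1),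
  Rule.mk (nat_lit 4) (nat_lit 48) (Steps.fwd (nat_lit 6144) (Steps.bwd (nat_lit 5) (Steps.bwd (nat_lit 1) Steps.nil))) (nat_lit 16) (nat_lit 1),
  Rule.mk (nat_lit 5) (nat_lit 48) (Steps.bwd (nat_lit 1) (Steps.fwd (nat_lit 10240) (Steps.fwd (nat_lit 6144) Steps.nil))) (nat_lit 16) (nat_lit 3),
  Rule.mk (nat_lit 7) (nat_lit 48) (Steps.bwd (nat_lit 1) (Steps.fwd (nat_lit 12288) (Steps.fwd (nat_lit 2048) Steps.nil))) (nat_lit 27) (nat_lit 1),
  Rule.mk (nat_lit 7) (nat_lit 178) (Steps.bwd (nat_lit 4) (Steps.fwd (nat_lit 12288) (Steps.bwd (nat_lit 4) (Steps.fwd (nat_lit 12288) (Steps.fwd (nat_lit 10240) (Steps.fwd (nat_lit 12288) (Steps.fwd (nat_lit 10240) (Steps.bwd (nat_lit 7) (Steps.bwd (nat_lit 4) (Steps.bwd (nat_lit 7) (Steps.bwd (nat_lit 4) (Steps.fwd (nat_lit 12288) (Steps.bwd (nat_lit 4) Steps.nil))))))))))))) (nat_lit 28) (nat_lit 0),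
  Rule.mk (nat_lit 6) (nat_lit 178) (Steps.bwd (nat_lit 5) (Steps.fwd (nat_lit 14336) (Steps.fwd (nat_lit 8192) (Steps.bwd (nat_lit 6) (Steps.fwd (nat_lit 8192) (Steps.fwd (nat_lit 14336) (Steps.bwd (nat_lit 5) (Steps.bwd (nat_lit 6) (Steps.bwd (nat_lit 5) (Steps.bwd (nat_lit 6) (Steps.fwd (nat_lit 8192) (Steps.bwd (nat_lit 6) (Steps.bwd (nat_lit 5) Steps.nil))))))))))))) (nat_lit 29) (nat_lit 1),
  Rule.mk (nat_lit 5) (nat_lit 48) (Steps.fwd (nat_lit 2048) (Steps.fwd (nat_lit 10240) (Steps.bwd (nat_lit 3) Steps.nil))) (nat_lit 16) (nat_lit 3),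
  Rule.mk (nat_lit 4) (nat_lit 61) (Steps.bwd (nat_lit 1) (Steps.bwd (nat_lit 5) (Steps.fwd (nat_lit 2048) (Steps.bwd (nat_lit 3) Steps.nil)))) (nat_lit 18) (nat_lit 1),
  Rule.mk (nat_lit 3) (nat_lit 61) (Steps.bwd (nat_lit 2) (Steps.bwd (nat_lit 6) (Steps.fwd (nat_lit 4096) (Steps.bwd (nat_lit 7) Steps.nil)))) (nat_lit 25) (nat_lit 1),
  Rule.mk (nat_lit 5) (nat_lit 48) (Steps.fwd (nat_lit 2048) (Steps.bwd (nat_lit 4) (Steps.bwd (nat_lit 3) Steps.nil))) (nat_lit 16) (nat_lit 3),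
  Rule.mk (nat_lit 5) (nat_lit 48) (Steps.fwd (nat_lit 4096) (Steps.bwd (nat_lit 5) (Steps.bwd (nat_lit 2) Steps.nil))) (nat_lit 21) (nat_lit 1),
  Rule.mk (nat_lit 2) (nat_lit 48) (Steps.bwd (nat_lit 4) (Steps.fwd (nat_lit 4096) (Steps.bwd (nat_lit 4) Steps.nil))) (nat_lit 20) (nat_lit 1),
  Rule.mk (nat_lit 2) (nat_lit 61) (Steps.bwd (nat_lit 7) (Steps.fwd (nat_lit 6144) (Steps.fwd (nat_lit 4096) (Steps.bwd (nat_lit 6) Steps.nil)))) (nat_lit 25) (nat_lit 4),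
  Rule.mk (nat_lit 4) (nat_lit 48) (Steps.fwd (nat_lit 4096) (Steps.fwd (nat_lit 10240) (Steps.bwd (nat_lit 2) Steps.nil))) (nat_lit 20) (nat_lit 0),
  Rule.mk (nat_lit 4) (nat_lit 178) (Steps.bwd (nat_lit 7) (Steps.bwd (nat_lit 4) (Steps.fwd (nat_lit 12288) (Steps.fwd (nat_lit 10240) (Steps.fwd (nat_lit 12288) (Steps.bwd (nat_lit 4) (Steps.fwd (nat_lit 12288) (Steps.fwd (nat_lit 10240) (Steps.bwd (nat_lit 7) (Steps.bwd (nat_lit 4) (Steps.fwd (nat_lit 12288) (Steps.bwd (nat_lit 4) (Steps.bwd (nat_lit 7) Steps.nil))))))))))))) (nat_lit 28) (nat_lit 1),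
  Rule.mk (nat_lit 6) (nat_lit 48) (Steps.fwd (nat_lit 2048) (Steps.fwd (nat_lit 14336) (Steps.bwd (nat_lit 1) Steps.nil))) (nat_lit 26) (nat_lit 0),
  Rule.mk (nat_lit 1) (nat_lit 48) (Steps.bwd (nat_lit 4) (Steps.bwd (nat_lit 3) (Steps.bwd (nat_lit 5) Steps.nil))) (nat_lit 16) (nat_lit 0),
  Rule.mk (nat_lit 6) (nat_lit 61) (Steps.bwd (nat_lit 2) (Steps.bwd (nat_lit 7) (Steps.bwd (nat_lit 2) (Steps.bwd (nat_lit 3) Steps.nil)))) (nat_lit 24) (nat_lit 1),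
  Rule.mk (nat_lit 1) (nat_lit 61) (Steps.bwd (nat_lit 5) (Steps.bwd (nat_lit 1) (Steps.fwd (nat_lit 6144) (Steps.bwd (nat_lit 4) Steps.nil)))) (nat_lit 18) (nat_lit 2),
  Rule.mk (nat_lit 6) (nat_lit 48) (Steps.fwd (nat_lit 2048) (Steps.bwd (nat_lit 6) (Steps.bwd (nat_lit 1) Steps.nil))) (nat_lit 26) (nat_lit 0),
  Rule.mk (nat_lit 7) (nat_lit 178) (Steps.bwd (nat_lit 4) (Steps.fwd (nat_lit 12288) (Steps.bwd (nat_lit 4) (Steps.fwd (nat_lit 12288) (Steps.fwd (nat_lit 10240) (Steps.fwd (nat_lit 12288) (Steps.fwd (nat_lit 10240) (Steps.bwd (nat_lit 7) (Steps.bwd (nat_lit 4) (Steps.fwd (nat_lit 12288) (Steps.bwd (nat_lit 4) (Steps.bwd (nat_lit 7) (Steps.bwd (nat_lit 4) Steps.nil))))))))))))) (nat_lit 28) (nat_lit 0),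
  Rule.mk (nat_lit 7) (nat_lit 48) (Steps.bwd (nat_lit 2) (Steps.fwd (nat_lit 14336) (Steps.fwd (nat_lit 6144) Steps.nil))) (nat_lit 22) (nat_lit 3),
  Rule.mk (nat_lit 7) (nat_lit 61) (Steps.bwd (nat_lit 3) (Steps.bwd (nat_lit 2) (Steps.fwd (nat_lit 14336) (Steps.fwd (nat_lit 4096) Steps.nil)))) (nat_lit 25) (nat_lit 0),
  Rule.mk (nat_lit 3) (nat_lit 48) (Steps.bwd (nat_lit 1) (Steps.bwd (nat_lit 3) (Steps.bwd (nat_lit 1) Steps.nil))) (nat_lit 8) (nat_lit 1),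
  Rule.mk (nat_lit 6) (nat_lit 48) (Steps.bwd (nat_lit 1) (Steps.fwd (nat_lit 14336) (Steps.bwd (nat_lit 1) Steps.nil))) (nat_lit 26) (nat_lit 0),
  Rule.mk (nat_lit 7) (nat_lit 178) (Steps.bwd (nat_lit 5) (Steps.bwd (nat_lit 7) (Steps.bwd (nat_lit 5) (Steps.bwd (nat_lit 7) (Steps.bwd (nat_lit 5) (Steps.fwd (nat_lit 12288) (Steps.fwd (nat_lit 8192) (Steps.fwd (nat_lit 12288) (Steps.bwd (nat_lit 5) (Steps.bwd (nat_lit 7) (Steps.bwd (nat_lit 5) (Steps.bwd (nat_lit 7) (Steps.bwd (nat_lit 5) Steps.nil))))))))))))) (nat_lit 31) (nat_lit 1),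
  Rule.mk (nat_lit 5) (nat_lit 61) (Steps.bwd (nat_lit 1) (Steps.bwd (nat_lit 3) (Steps.fwd (nat_lit 10240) (Steps.bwd (nat_lit 1) Steps.nil)))) (nat_lit 18) (nat_lit 3),
  Rule.mk (nat_lit 4) (nat_lit 48) (Steps.bwd (nat_lit 2) (Steps.fwd (nat_lit 10240) (Steps.fwd (nat_lit 4096) Steps.nil))) (nat_lit 20) (nat_lit 0),
  Rule.mk (nat_lit 2) (nat_lit 48) (Steps.bwd (nat_lit 6) (Steps.bwd (nat_lit 3) (Steps.bwd (nat_lit 7) Steps.nil))) (nat_lit 22) (nat_lit 0),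
  Rule.mk (nat_lit 4) (nat_lit 178) (Steps.bwd (nat_lit 6) (Steps.bwd (nat_lit 4) (Steps.bwd (nat_lit 6) (Steps.bwd (nat_lit 4) (Steps.bwd (nat_lit 6) (Steps.bwd (nat_lit 4) (Steps.fwd (nat_lit 14336) (Steps.bwd (nat_lit 4) (Steps.fwd (nat_lit 14336) (Steps.fwd (nat_lit 10240) (Steps.fwd (nat_lit 14336) (Steps.fwd (nat_lit 10240) (Steps.fwd (nat_lit 14336) Steps.nil))))))))))))) (nat_lit 30) (nat_lit 1),
  Rule.mk (nat_lit 5) (nat_lit 178) (Steps.bwd (nat_lit 7) (Steps.bwd (nat_lit 5) (Steps.bwd (nat_lit 7) (Steps.bwd (nat_lit 5) (Steps.bwd (nat_lit 7) (Steps.bwd (nat_lit 5) (Steps.fwd (nat_lit 12288) (Steps.bwd (nat_lit 5) (Steps.fwd (nat_lit 12288) (Steps.fwd (nat_lit 8192) (Steps.fwd (nat_lit 12288) (Steps.fwd (nat_lit 8192) (Steps.fwd (nat_lit 12288) Steps.nil))))))))))))) (nat_lit 31) (nat_lit 0),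
  Rule.mk (nat_lit 3) (nat_lit 48) (Steps.bwd (nat_lit 5) (Steps.bwd (nat_lit 1) (Steps.fwd (nat_lit 10240) Steps.nil))) (nat_lit 16) (nat_lit 2),
  Rule.mk (nat_lit 7) (nat_lit 178) (Steps.bwd (nat_lit 4) (Steps.fwd (nat_lit 12288) (Steps.fwd (nat_lit 10240) (Steps.fwd (nat_lit 12288) (Steps.bwd (nat_lit 4) (Steps.fwd (nat_lit 12288) (Steps.bwd (nat_lit 4) (Steps.fwd (nat_lit 12288) (Steps.bwd (nat_lit 4) (Steps.bwd (nat_lit 7) (Steps.bwd (nat_lit 4) (Steps.fwd (nat_lit 12288) (Steps.bwd (nat_lit 4) Steps.nil))))))))))))) (nat_lit 28) (nat_lit 0),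
  Rule.mk (nat_lit 4) (nat_lit 48) (Steps.bwd (nat_lit 3) (Steps.fwd (nat_lit 8192) (Steps.bwd (nat_lit 1) Steps.nil))) (nat_lit 16) (nat_lit 1),
  Rule.mk (nat_lit 4) (nat_lit 48) (Steps.bwd (nat_lit 2) (Steps.fwd (nat_lit 10240) (Steps.bwd (nat_lit 2) Steps.nil))) (nat_lit 20) (nat_lit 0),
  Rule.mk (nat_lit 7) (nat_lit 48) (Steps.fwd (nat_lit 2048) (Steps.bwd (nat_lit 7) (Steps.bwd (nat_lit 1) Steps.nil))) (nat_lit 27) (nat_lit 1),
  Rule.mk (nat_lit 3) (nat_lit 48) (Steps.bwd (nat_lit 2) (Steps.bwd (nat_lit 3) (Steps.bwd (nat_lit 2) Steps.nil))) (nat_lit 10) (nat_lit 1),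
  Rule.mk (nat_lit 3) (nat_lit 48) (Steps.bwd (nat_lit 7) (Steps.bwd (nat_lit 2) (Steps.fwd (nat_lit 14336) Steps.nil))) (nat_lit 22) (nat_lit 2),
  Rule.mk (nat_lit 2) (nat_lit 61) (Steps.bwd (nat_lit 1) (Steps.fwd (nat_lit 6144) (Steps.fwd (nat_lit 4096) (Steps.fwd (nat_lit 2048) Steps.nil)))) (nat_lit 6) (nat_lit 3),
  Rule.mk (nat_lit 3) (nat_lit 61) (Steps.bwd (nat_lit 6) (Steps.bwd (nat_lit 2) (Steps.bwd (nat_lit 7) (Steps.fwd (nat_lit 4096) Steps.nil)))) (nat_lit 24) (nat_lit 0),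
  Rule.mk (nat_lit 6) (nat_lit 178) (Steps.bwd (nat_lit 5) (Steps.bwd (nat_lit 6) (Steps.fwd (nat_lit 8192) (Steps.fwd (nat_lit 14336) (Steps.fwd (nat_lit 8192) (Steps.bwd (nat_lit 6) (Steps.fwd (nat_lit 8192) (Steps.fwd (nat_lit 14336) (Steps.bwd (nat_lit 5) (Steps.bwd (nat_lit 6) (Steps.fwd (nat_lit 8192) (Steps.bwd (nat_lit 6) (Steps.bwd (nat_lit 5) Steps.nil))))))))))))) (nat_lit 29) (nat_lit 1),
  Rule.mk (nat_lit 4) (nat_lit 61) (Steps.bwd (nat_lit 1) (Steps.bwd (nat_lit 5) (Steps.fwd (nat_lit 2048) (Steps.fwd (nat_lit 6144) Steps.nil)))) (nat_lit 18) (nat_lit 1),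
  Rule.mk (nat_lit 5) (nat_lit 48) (Steps.fwd (nat_lit 4096) (Steps.bwd (nat_lit 5) (Steps.fwd (nat_lit 4096) Steps.nil))) (nat_lit 21) (nat_lit 1)]
noncomputable def R_2 : List (Rule) := [Rule.mk (nat_lit 1) (nat_lit 61) (Steps.bwd (nat_lit 2) (Steps.fwd (nat_lit 2048) (Steps.bwd (nat_lit 3) (Steps.bwd (nat_lit 2) Steps.nil)))) (nat_lit 6) (nat_lit 2),
  Rule.mk (nat_lit 3) (nat_lit 61) (Steps.bwd (nat_lit 4) (Steps.bwd (nat_lit 1) (Steps.bwd (nat_lit 5) (Steps.fwd (nat_lit 2048) Steps.nil)))) (nat_lit 18) (nat_lit 0),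
  Rule.mk (nat_lit 2) (nat_lit 48) (Steps.bwd (nat_lit 6) (Steps.fwd (nat_lit 6144) (Steps.fwd (nat_lit 12288) Steps.nil))) (nat_lit 22) (nat_lit 0),
  Rule.mk (nat_lit 2) (nat_lit 48) (Steps.bwd (nat_lit 3) (Steps.fwd (nat_lit 4096) (Steps.bwd (nat_lit 3) Steps.nil))) (nat_lit 10) (nat_lit 0),
  Rule.mk (nat_lit 7) (nat_lit 61) (Steps.bwd (nat_lit 3) (Steps.fwd (nat_lit 4096) (Steps.bwd (nat_lit 6) (Steps.fwd (nat_lit 4096) Steps.nil)))) (nat_lit 25) (nat_lit 0),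
  Rule.mk (nat_lit 1) (nat_lit 61) (Steps.bwd (nat_lit 2) (Steps.fwd (nat_lit 2048) (Steps.bwd (nat_lit 2) (Steps.bwd (nat_lit 3) Steps.nil)))) (nat_lit 7) (nat_lit 2),
  Rule.mk (nat_lit 5) (nat_lit 48) (Steps.bwd (nat_lit 1) (Steps.fwd (nat_lit 10240) (Steps.bwd (nat_lit 3) Steps.nil))) (nat_lit 16) (nat_lit 3),
  Rule.mk (nat_lit 2) (nat_lit 61) (Steps.bwd (nat_lit 7) (Steps.fwd (nat_lit 4096) (Steps.bwd (nat_lit 3) (Steps.fwd (nat_lit 14336) Steps.nil)))) (nat_lit 24) (nat_lit 2),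
  Rule.mk (nat_lit 2) (nat_lit 61) (Steps.bwd (nat_lit 7) (Steps.fwd (nat_lit 4096) (Steps.fwd (nat_lit 6144) (Steps.fwd (nat_lit 14336) Steps.nil)))) (nat_lit 24) (nat_lit 2),
  Rule.mk (nat_lit 4) (nat_lit 178) (Steps.bwd (nat_lit 7) (Steps.bwd (nat_lit 4) (Steps.fwd (nat_lit 12288) (Steps.fwd (nat_lit 10240) (Steps.fwd (nat_lit 12288) (Steps.bwd (nat_lit 4) (Steps.fwd (nat_lit 12288) (Steps.fwd (nat_lit 10240) (Steps.fwd (nat_lit 12288) (Steps.bwd (nat_lit 4) (Steps.bwd (nat_lit 7) (Steps.bwd (nat_lit 4) (Steps.fwd (nat_lit 12288) Steps.nil))))))))))))) (nat_lit 28) (nat_lit 1),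
  Rule.mk (nat_lit 7) (nat_lit 178) (Steps.bwd (nat_lit 4) (Steps.fwd (nat_lit 12288) (Steps.fwd (nat_lit 10240) (Steps.fwd (nat_lit 12288) (Steps.bwd (nat_lit 4) (Steps.fwd (nat_lit 12288) (Steps.bwd (nat_lit 4) (Steps.fwd (nat_lit 12288) (Steps.bwd (nat_lit 4) (Steps.fwd (nat_lit 12288) (Steps.bwd (nat_lit 4) (Steps.bwd (nat_lit 7) (Steps.bwd (nat_lit 4) Steps.nil))))))))))))) (nat_lit 28) (nat_lit 0),
  Rule.mk (nat_lit 7) (nat_lit 178) (Steps.bwd (nat_lit 5) (Steps.bwd (nat_lit 7) (Steps.bwd (nat_lit 5) (Steps.bwd (nat_lit 7) (Steps.bwd (nat_lit 5) (Steps.bwd (nat_lit 7) (Steps.fwd (nat_lit 8192) (Steps.bwd (nat_lit 7) (Steps.bwd (nat_lit 5) (Steps.bwd (nat_lit 7) (Steps.bwd (nat_lit 5) (Steps.bwd (nat_lit 7) (Steps.bwd (nat_lit 5) Steps.nil))))))))))))) (nat_lit 31) (nat_lit 1),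
  Rule.mk (nat_lit 5) (nat_lit 61) (Steps.bwd (nat_lit 1) (Steps.fwd (nat_lit 6144) (Steps.fwd (nat_lit 10240) (Steps.bwd (nat_lit 1) Steps.nil)))) (nat_lit 18) (nat_lit 3),
  Rule.mk (nat_lit 7) (nat_lit 178) (Steps.bwd (nat_lit 5) (Steps.bwd (nat_lit 7) (Steps.bwd (nat_lit 5) (Steps.bwd (nat_lit 7) (Steps.bwd (nat_lit 5) (Steps.fwd (nat_lit 12288) (Steps.bwd (nat_lit 5) (Steps.fwd (nat_lit 12288) (Steps.fwd (nat_lit 8192) (Steps.fwd (nat_lit 12288) (Steps.fwd (nat_lit 8192) (Steps.fwd (nat_lit 12288) (Steps.bwd (nat_lit 5) Steps.nil))))))))))))) (nat_lit 31) (nat_lit 1),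
  Rule.mk (nat_lit 1) (nat_lit 48) (Steps.bwd (nat_lit 3) (Steps.fwd (nat_lit 2048) (Steps.bwd (nat_lit 3) Steps.nil))) (nat_lit 8) (nat_lit 0),
  Rule.mk (nat_lit 5) (nat_lit 61) (Steps.bwd (nat_lit 3) (Steps.fwd (nat_lit 2048) (Steps.bwd (nat_lit 4) (Steps.bwd (nat_lit 1) Steps.nil)))) (nat_lit 19) (nat_lit 0),
  Rule.mk (nat_lit 1) (nat_lit 61) (Steps.bwd (nat_lit 2) (Steps.fwd (nat_lit 2048) (Steps.bwd (nat_lit 3) (Steps.fwd (nat_lit 4096) Steps.nil)))) (nat_lit 6) (nat_lit 2),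
  Rule.mk (nat_lit 4) (nat_lit 178) (Steps.bwd (nat_lit 6) (Steps.bwd (nat_lit 4) (Steps.bwd (nat_lit 6) (Steps.bwd (nat_lit 4) (Steps.bwd (nat_lit 6) (Steps.bwd (nat_lit 4) (Steps.bwd (nat_lit 6) (Steps.fwd (nat_lit 10240) (Steps.fwd (nat_lit 14336) (Steps.fwd (nat_lit 10240) (Steps.fwd (nat_lit 14336) (Steps.fwd (nat_lit 10240) (Steps.fwd (nat_lit 14336) Steps.nil))))))))))))) (nat_lit 30) (nat_lit 1),
  Rule.mk (nat_lit 5) (nat_lit 178) (Steps.bwd (nat_lit 7) (Steps.bwd (nat_lit 5) (Steps.bwd (nat_lit 7) (Steps.bwd (nat_lit 5) (Steps.bwd (nat_lit 7) (Steps.bwd (nat_lit 5) (Steps.bwd (nat_lit 7) (Steps.bwd (nat_lit 5) (Steps.bwd (nat_lit 7) (Steps.bwd (nat_lit 5) (Steps.bwd (nat_lit 7) (Steps.bwd (nat_lit 5) (Steps.bwd (nat_lit 7) Steps.nil))))))))))))) (nat_lit 31) (nat_lit 0),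
  Rule.mk (nat_lit 2) (nat_lit 61) (Steps.bwd (nat_lit 1) (Steps.bwd (nat_lit 3) (Steps.fwd (nat_lit 4096) (Steps.fwd (nat_lit 2048) Steps.nil)))) (nat_lit 6) (nat_lit 3),
  Rule.mk (nat_lit 7) (nat_lit 178) (Steps.bwd (nat_lit 4) (Steps.fwd (nat_lit 12288) (Steps.fwd (nat_lit 10240) (Steps.fwd (nat_lit 12288) (Steps.bwd (nat_lit 4) (Steps.fwd (nat_lit 12288) (Steps.fwd (nat_lit 10240) (Steps.bwd (nat_lit 7) (Steps.bwd (nat_lit 4) (Steps.bwd (nat_lit 7) (Steps.bwd (nat_lit 4) (Steps.fwd (nat_lit 12288) (Steps.bwd (nat_lit 4) Steps.nil))))))))))))) (nat_lit 28) (nat_lit 0),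
  Rule.mk (nat_lit 5) (nat_lit 48) (Steps.bwd (nat_lit 2) (Steps.fwd (nat_lit 8192) (Steps.bwd (nat_lit 2) Steps.nil))) (nat_lit 21) (nat_lit 1),
  Rule.mk (nat_lit 5) (nat_lit 178) (Steps.bwd (nat_lit 6) (Steps.bwd (nat_lit 5) (Steps.fwd (nat_lit 14336) (Steps.bwd (nat_lit 5) (Steps.fwd (nat_lit 14336) (Steps.fwd (nat_lit 8192) (Steps.fwd (nat_lit 14336) (Steps.bwd (nat_lit 5) (Steps.bwd (nat_lit 6) (Steps.bwd (nat_lit 5) (Steps.fwd (nat_lit 14336) (Steps.fwd (nat_lit 8192) (Steps.bwd (nat_lit 6) Steps.nil))))))))))))) (nat_lit 29) (nat_lit 0),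
  Rule.mk (nat_lit 6) (nat_lit 48) (Steps.fwd (nat_lit 6144) (Steps.fwd (nat_lit 12288) (Steps.bwd (nat_lit 2) Steps.nil))) (nat_lit 22) (nat_lit 1),
  Rule.mk (nat_lit 0) (nat_lit 191) (Steps.fwd (nat_lit 14336) (Steps.fwd (nat_lit 10240) (Steps.fwd (nat_lit 14336) (Steps.fwd (nat_lit 10240) (Steps.bwd (nat_lit 6) (Steps.fwd (nat_lit 10240) (Steps.fwd (nat_lit 14336) (Steps.fwd (nat_lit 10240) (Steps.fwd (nat_lit 14336) (Steps.bwd (nat_lit 4) (Steps.bwd (nat_lit 6) (Steps.bwd (nat_lit 4) (Steps.fwd (nat_lit 14336) (Steps.fwd (nat_lit 10240) Steps.nil)))))))))))))) (nat_lit 30) (nat_lit 1),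
  Rule.mk (nat_lit 0) (nat_lit 48) (Steps.bwd (nat_lit 1) (Steps.fwd (nat_lit 0) (Steps.fwd (nat_lit 2048) Steps.nil))) (nat_lit 32) (nat_lit 0),
  Rule.mk (nat_lit 0) (nat_lit 48) (Steps.bwd (nat_lit 2) (Steps.fwd (nat_lit 0) (Steps.fwd (nat_lit 4096) Steps.nil))) (nat_lit 32) (nat_lit 0),
  Rule.mk (nat_lit 0) (nat_lit 48) (Steps.fwd (nat_lit 6144) (Steps.fwd (nat_lit 0) (Steps.bwd (nat_lit 3) Steps.nil))) (nat_lit 32) (nat_lit 0),
  Rule.mk (nat_lit 0) (nat_lit 48) (Steps.fwd (nat_lit 14336) (Steps.bwd (nat_lit 0) (Steps.fwd (nat_lit 12288) Steps.nil))) (nat_lit 32) (nat_lit 0),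
  Rule.mk (nat_lit 0) (nat_lit 48) (Steps.bwd (nat_lit 7) (Steps.bwd (nat_lit 0) (Steps.fwd (nat_lit 14336) Steps.nil))) (nat_lit 32) (nat_lit 0),
  Rule.mk (nat_lit 0) (nat_lit 48) (Steps.bwd (nat_lit 2) (Steps.fwd (nat_lit 0) (Steps.bwd (nat_lit 2) Steps.nil))) (nat_lit 32) (nat_lit 0),
  Rule.mk (nat_lit 0) (nat_lit 48) (Steps.fwd (nat_lit 14336) (Steps.bwd (nat_lit 0) (Steps.bwd (nat_lit 7) Steps.nil))) (nat_lit 32) (nat_lit 0),
  Rule.mk (nat_lit 0) (nat_lit 48) (Steps.bwd (nat_lit 6) (Steps.bwd (nat_lit 0) (Steps.bwd (nat_lit 7) Steps.nil))) (nat_lit 32) (nat_lit 0),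
  Rule.mk (nat_lit 0) (nat_lit 48) (Steps.fwd (nat_lit 12288) (Steps.bwd (nat_lit 0) (Steps.fwd (nat_lit 14336) Steps.nil))) (nat_lit 32) (nat_lit 0),
  Rule.mk (nat_lit 0) (nat_lit 48) (Steps.bwd (nat_lit 3) (Steps.fwd (nat_lit 0) (Steps.bwd (nat_lit 3) Steps.nil))) (nat_lit 32) (nat_lit 0),
  Rule.mk (nat_lit 7) (nat_lit 35) (Steps.bwd (nat_lit 0) (Steps.fwd (nat_lit 14336) Steps.nil)) (nat_lit 32) (nat_lit 0),
  Rule.mk (nat_lit 4) (nat_lit 35) (Steps.bwd (nat_lit 0) (Steps.fwd (nat_lit 8192) Steps.nil)) (nat_lit 32) (nat_lit 0),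
  Rule.mk (nat_lit 0) (nat_lit 48) (Steps.bwd (nat_lit 5) (Steps.bwd (nat_lit 0) (Steps.bwd (nat_lit 4) Steps.nil))) (nat_lit 32) (nat_lit 0),
  Rule.mk (nat_lit 6) (nat_lit 35) (Steps.bwd (nat_lit 0) (Steps.bwd (nat_lit 7) Steps.nil)) (nat_lit 32) (nat_lit 0),
  Rule.mk (nat_lit 0) (nat_lit 48) (Steps.bwd (nat_lit 6) (Steps.bwd (nat_lit 0) (Steps.fwd (nat_lit 12288) Steps.nil))) (nat_lit 32) (nat_lit 0),
  Rule.mk (nat_lit 0) (nat_lit 48) (Steps.fwd (nat_lit 12288) (Steps.bwd (nat_lit 0) (Steps.bwd (nat_lit 6) Steps.nil))) (nat_lit 32) (nat_lit 0),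
  Rule.mk (nat_lit 0) (nat_lit 48) (Steps.bwd (nat_lit 5) (Steps.bwd (nat_lit 0) (Steps.fwd (nat_lit 10240) Steps.nil))) (nat_lit 32) (nat_lit 0),
  Rule.mk (nat_lit 0) (nat_lit 48) (Steps.fwd (nat_lit 4096) (Steps.fwd (nat_lit 0) (Steps.bwd (nat_lit 2) Steps.nil))) (nat_lit 32) (nat_lit 0),
  Rule.mk (nat_lit 7) (nat_lit 35) (Steps.bwd (nat_lit 0) (Steps.bwd (nat_lit 6) Steps.nil)) (nat_lit 32) (nat_lit 0),
  Rule.mk (nat_lit 0) (nat_lit 48) (Steps.fwd (nat_lit 8192) (Steps.bwd (nat_lit 0) (Steps.bwd (nat_lit 4) Steps.nil))) (nat_lit 32) (nat_lit 0),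
  Rule.mk (nat_lit 6) (nat_lit 35) (Steps.bwd (nat_lit 0) (Steps.fwd (nat_lit 12288) Steps.nil)) (nat_lit 32) (nat_lit 0),
  Rule.mk (nat_lit 0) (nat_lit 48) (Steps.fwd (nat_lit 10240) (Steps.bwd (nat_lit 0) (Steps.fwd (nat_lit 8192) Steps.nil))) (nat_lit 32) (nat_lit 0),
  Rule.mk (nat_lit 0) (nat_lit 48) (Steps.fwd (nat_lit 10240) (Steps.bwd (nat_lit 0) (Steps.bwd (nat_lit 5) Steps.nil))) (nat_lit 32) (nat_lit 0),
  Rule.mk (nat_lit 5) (nat_lit 35) (Steps.bwd (nat_lit 0) (Steps.fwd (nat_lit 10240) Steps.nil)) (nat_lit 32) (nat_lit 0),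
  Rule.mk (nat_lit 0) (nat_lit 48) (Steps.bwd (nat_lit 4) (Steps.bwd (nat_lit 0) (Steps.fwd (nat_lit 8192) Steps.nil))) (nat_lit 32) (nat_lit 0),
  Rule.mk (nat_lit 5) (nat_lit 35) (Steps.bwd (nat_lit 0) (Steps.bwd (nat_lit 4) Steps.nil)) (nat_lit 32) (nat_lit 0),
  Rule.mk (nat_lit 4) (nat_lit 35) (Steps.bwd (nat_lit 0) (Steps.bwd (nat_lit 5) Steps.nil)) (nat_lit 32) (nat_lit 0),
  Rule.mk (nat_lit 0) (nat_lit 191) (Steps.fwd (nat_lit 12288) (Steps.bwd (nat_lit 4) (Steps.fwd (nat_lit 12288) (Steps.fwd (nat_lit 10240) (Steps.fwd (nat_lit 12288) (Steps.fwd (nat_lit 10240) (Steps.fwd (nat_lit 12288) (Steps.bwd (nat_lit 4) (Steps.bwd (nat_lit 7) (Steps.fwd (nat_lit 10240) (Steps.bwd (nat_lit 7) (Steps.fwd (nat_lit 10240) (Steps.fwd (nat_lit 12288) (Steps.fwd (nat_lit 10240) Steps.nil)))))))))))))) (nat_lit 28) (nat_lit 1),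
  Rule.mk (nat_lit 0) (nat_lit 48) (Steps.fwd (nat_lit 2048) (Steps.fwd (nat_lit 0) (Steps.fwd (nat_lit 2048) Steps.nil))) (nat_lit 32) (nat_lit 0),
  Rule.mk (nat_lit 0) (nat_lit 48) (Steps.fwd (nat_lit 6144) (Steps.fwd (nat_lit 0) (Steps.fwd (nat_lit 6144) Steps.nil))) (nat_lit 32) (nat_lit 0),
  Rule.mk (nat_lit 0) (nat_lit 48) (Steps.bwd (nat_lit 6) (Steps.fwd (nat_lit 0) (Steps.bwd (nat_lit 7) Steps.nil))) (nat_lit 32) (nat_lit 0),
  Rule.mk (nat_lit 0) (nat_lit 48) (Steps.fwd (nat_lit 12288) (Steps.fwd (nat_lit 0) (Steps.fwd (nat_lit 14336) Steps.nil))) (nat_lit 32) (nat_lit 0),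
  Rule.mk (nat_lit 0) (nat_lit 48) (Steps.fwd (nat_lit 14336) (Steps.fwd (nat_lit 0) (Steps.fwd (nat_lit 12288) Steps.nil))) (nat_lit 32) (nat_lit 0),
  Rule.mk (nat_lit 0) (nat_lit 48) (Steps.bwd (nat_lit 7) (Steps.fwd (nat_lit 0) (Steps.bwd (nat_lit 6) Steps.nil))) (nat_lit 32) (nat_lit 0),
  Rule.mk (nat_lit 0) (nat_lit 48) (Steps.bwd (nat_lit 6) (Steps.fwd (nat_lit 0) (Steps.fwd (nat_lit 12288) Steps.nil))) (nat_lit 32) (nat_lit 0),
  Rule.mk (nat_lit 0) (nat_lit 48) (Steps.fwd (nat_lit 10240) (Steps.fwd (nat_lit 0) (Steps.fwd (nat_lit 8192) Steps.nil))) (nat_lit 32) (nat_lit 0),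
  Rule.mk (nat_lit 0) (nat_lit 48) (Steps.fwd (nat_lit 8192) (Steps.fwd (nat_lit 0) (Steps.fwd (nat_lit 10240) Steps.nil))) (nat_lit 32) (nat_lit 0),
  Rule.mk (nat_lit 0) (nat_lit 48) (Steps.bwd (nat_lit 5) (Steps.fwd (nat_lit 0) (Steps.bwd (nat_lit 4) Steps.nil))) (nat_lit 32) (nat_lit 0),
  Rule.mk (nat_lit 0) (nat_lit 48) (Steps.fwd (nat_lit 4096) (Steps.fwd (nat_lit 0) (Steps.fwd (nat_lit 4096) Steps.nil))) (nat_lit 32) (nat_lit 0)]
noncomputable def R_3 : List (Rule) := [Rule.mk (nat_lit 0) (nat_lit 48) (Steps.bwd (nat_lit 4) (Steps.fwd (nat_lit 0) (Steps.bwd (nat_lit 5) Steps.nil))) (nat_lit 32) (nat_lit 0),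
  Rule.mk (nat_lit 0) (nat_lit 48) (Steps.fwd (nat_lit 10240) (Steps.fwd (nat_lit 0) (Steps.bwd (nat_lit 5) Steps.nil))) (nat_lit 32) (nat_lit 0),
  Rule.mk (nat_lit 0) (nat_lit 48) (Steps.fwd (nat_lit 8192) (Steps.fwd (nat_lit 0) (Steps.bwd (nat_lit 4) Steps.nil))) (nat_lit 32) (nat_lit 0),
  Rule.mk (nat_lit 0) (nat_lit 48) (Steps.fwd (nat_lit 8192) (Steps.bwd (nat_lit 0) (Steps.fwd (nat_lit 10240) Steps.nil))) (nat_lit 32) (nat_lit 0),
  Rule.mk (nat_lit 0) (nat_lit 48) (Steps.bwd (nat_lit 7) (Steps.fwd (nat_lit 0) (Steps.fwd (nat_lit 14336) Steps.nil))) (nat_lit 32) (nat_lit 0),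
  Rule.mk (nat_lit 0) (nat_lit 48) (Steps.bwd (nat_lit 4) (Steps.fwd (nat_lit 0) (Steps.fwd (nat_lit 8192) Steps.nil))) (nat_lit 32) (nat_lit 0),
  Rule.mk (nat_lit 0) (nat_lit 48) (Steps.bwd (nat_lit 5) (Steps.fwd (nat_lit 0) (Steps.fwd (nat_lit 10240) Steps.nil))) (nat_lit 32) (nat_lit 0),
  Rule.mk (nat_lit 0) (nat_lit 48) (Steps.fwd (nat_lit 12288) (Steps.fwd (nat_lit 0) (Steps.bwd (nat_lit 6) Steps.nil))) (nat_lit 32) (nat_lit 0),
  Rule.mk (nat_lit 0) (nat_lit 48) (Steps.fwd (nat_lit 14336) (Steps.fwd (nat_lit 0) (Steps.bwd (nat_lit 7) Steps.nil))) (nat_lit 32) (nat_lit 0),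
  Rule.mk (nat_lit 0) (nat_lit 48) (Steps.bwd (nat_lit 1) (Steps.fwd (nat_lit 0) (Steps.bwd (nat_lit 1) Steps.nil))) (nat_lit 32) (nat_lit 0),
  Rule.mk (nat_lit 6) (nat_lit 48) (Steps.bwd (nat_lit 0) (Steps.fwd (nat_lit 12288) (Steps.fwd (nat_lit 0) Steps.nil))) (nat_lit 32) (nat_lit 0),
  Rule.mk (nat_lit 0) (nat_lit 48) (Steps.bwd (nat_lit 3) (Steps.fwd (nat_lit 0) (Steps.fwd (nat_lit 6144) Steps.nil))) (nat_lit 32) (nat_lit 0),
  Rule.mk (nat_lit 7) (nat_lit 48) (Steps.bwd (nat_lit 0) (Steps.fwd (nat_lit 14336) (Steps.fwd (nat_lit 0) Steps.nil))) (nat_lit 32) (nat_lit 0),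
  Rule.mk (nat_lit 7) (nat_lit 48) (Steps.bwd (nat_lit 0) (Steps.bwd (nat_lit 6) (Steps.fwd (nat_lit 0) Steps.nil))) (nat_lit 32) (nat_lit 0),
  Rule.mk (nat_lit 6) (nat_lit 48) (Steps.bwd (nat_lit 0) (Steps.bwd (nat_lit 7) (Steps.fwd (nat_lit 0) Steps.nil))) (nat_lit 32) (nat_lit 0),
  Rule.mk (nat_lit 0) (nat_lit 48) (Steps.bwd (nat_lit 7) (Steps.bwd (nat_lit 0) (Steps.bwd (nat_lit 6) Steps.nil))) (nat_lit 32) (nat_lit 0),
  Rule.mk (nat_lit 0) (nat_lit 61) (Steps.bwd (nat_lit 0) (Steps.fwd (nat_lit 8192) (Steps.bwd (nat_lit 0) (Steps.bwd (nat_lit 4) Steps.nil)))) (nat_lit 32) (nat_lit 0),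
  Rule.mk (nat_lit 0) (nat_lit 61) (Steps.fwd (nat_lit 10240) (Steps.fwd (nat_lit 0) (Steps.fwd (nat_lit 8192) (Steps.fwd (nat_lit 0) Steps.nil)))) (nat_lit 32) (nat_lit 0),
  Rule.mk (nat_lit 0) (nat_lit 35) (Steps.fwd (nat_lit 0) (Steps.fwd (nat_lit 0) Steps.nil)) (nat_lit 32) (nat_lit 0),
  Rule.mk (nat_lit 0) (nat_lit 61) (Steps.bwd (nat_lit 0) (Steps.fwd (nat_lit 6144) (Steps.fwd (nat_lit 0) (Steps.fwd (nat_lit 6144) Steps.nil)))) (nat_lit 32) (nat_lit 0),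
  Rule.mk (nat_lit 0) (nat_lit 61) (Steps.bwd (nat_lit 5) (Steps.fwd (nat_lit 0) (Steps.bwd (nat_lit 4) (Steps.fwd (nat_lit 0) Steps.nil)))) (nat_lit 32) (nat_lit 0),
  Rule.mk (nat_lit 0) (nat_lit 74) (Steps.bwd (nat_lit 0) (Steps.bwd (nat_lit 4) (Steps.fwd (nat_lit 0) (Steps.bwd (nat_lit 5) (Steps.fwd (nat_lit 0) Steps.nil))))) (nat_lit 32) (nat_lit 0),
  Rule.mk (nat_lit 0) (nat_lit 61) (Steps.fwd (nat_lit 8192) (Steps.fwd (nat_lit 0) (Steps.bwd (nat_lit 4) (Steps.fwd (nat_lit 0) Steps.nil)))) (nat_lit 32) (nat_lit 0),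
  Rule.mk (nat_lit 0) (nat_lit 61) (Steps.bwd (nat_lit 0) (Steps.fwd (nat_lit 12288) (Steps.bwd (nat_lit 0) (Steps.fwd (nat_lit 14336) Steps.nil)))) (nat_lit 32) (nat_lit 0),
  Rule.mk (nat_lit 0) (nat_lit 61) (Steps.fwd (nat_lit 12288) (Steps.fwd (nat_lit 0) (Steps.bwd (nat_lit 6) (Steps.fwd (nat_lit 0) Steps.nil)))) (nat_lit 32) (nat_lit 0),
  Rule.mk (nat_lit 0) (nat_lit 61) (Steps.bwd (nat_lit 0) (Steps.fwd (nat_lit 2048) (Steps.fwd (nat_lit 0) (Steps.bwd (nat_lit 1) Steps.nil)))) (nat_lit 32) (nat_lit 0),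
  Rule.mk (nat_lit 0) (nat_lit 61) (Steps.bwd (nat_lit 0) (Steps.fwd (nat_lit 4096) (Steps.fwd (nat_lit 0) (Steps.bwd (nat_lit 2) Steps.nil)))) (nat_lit 32) (nat_lit 0),
  Rule.mk (nat_lit 0) (nat_lit 61) (Steps.bwd (nat_lit 6) (Steps.bwd (nat_lit 0) (Steps.fwd (nat_lit 12288) (Steps.fwd (nat_lit 0) Steps.nil)))) (nat_lit 32) (nat_lit 0),
  Rule.mk (nat_lit 0) (nat_lit 61) (Steps.fwd (nat_lit 14336) (Steps.bwd (nat_lit 0) (Steps.fwd (nat_lit 12288) (Steps.fwd (nat_lit 0) Steps.nil)))) (nat_lit 32) (nat_lit 0),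
  Rule.mk (nat_lit 0) (nat_lit 61) (Steps.fwd (nat_lit 10240) (Steps.bwd (nat_lit 0) (Steps.bwd (nat_lit 5) (Steps.fwd (nat_lit 0) Steps.nil)))) (nat_lit 32) (nat_lit 0),
  Rule.mk (nat_lit 0) (nat_lit 61) (Steps.fwd (nat_lit 10240) (Steps.fwd (nat_lit 0) (Steps.bwd (nat_lit 5) (Steps.fwd (nat_lit 0) Steps.nil)))) (nat_lit 32) (nat_lit 0),
  Rule.mk (nat_lit 0) (nat_lit 61) (Steps.bwd (nat_lit 0) (Steps.bwd (nat_lit 4) (Steps.bwd (nat_lit 0) (Steps.bwd (nat_lit 5) Steps.nil)))) (nat_lit 32) (nat_lit 0),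
  Rule.mk (nat_lit 0) (nat_lit 61) (Steps.bwd (nat_lit 4) (Steps.fwd (nat_lit 0) (Steps.bwd (nat_lit 5) (Steps.fwd (nat_lit 0) Steps.nil)))) (nat_lit 32) (nat_lit 0),
  Rule.mk (nat_lit 0) (nat_lit 61) (Steps.fwd (nat_lit 14336) (Steps.bwd (nat_lit 0) (Steps.bwd (nat_lit 7) (Steps.fwd (nat_lit 0) Steps.nil)))) (nat_lit 32) (nat_lit 0),
  Rule.mk (nat_lit 0) (nat_lit 61) (Steps.bwd (nat_lit 6) (Steps.fwd (nat_lit 0) (Steps.bwd (nat_lit 7) (Steps.fwd (nat_lit 0) Steps.nil)))) (nat_lit 32) (nat_lit 0),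
  Rule.mk (nat_lit 0) (nat_lit 61) (Steps.fwd (nat_lit 14336) (Steps.fwd (nat_lit 0) (Steps.bwd (nat_lit 7) (Steps.fwd (nat_lit 0) Steps.nil)))) (nat_lit 32) (nat_lit 0),
  Rule.mk (nat_lit 0) (nat_lit 61) (Steps.fwd (nat_lit 12288) (Steps.fwd (nat_lit 0) (Steps.fwd (nat_lit 14336) (Steps.fwd (nat_lit 0) Steps.nil)))) (nat_lit 32) (nat_lit 0),
  Rule.mk (nat_lit 0) (nat_lit 61) (Steps.bwd (nat_lit 7) (Steps.fwd (nat_lit 0) (Steps.bwd (nat_lit 6) (Steps.fwd (nat_lit 0) Steps.nil)))) (nat_lit 32) (nat_lit 0),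
  Rule.mk (nat_lit 0) (nat_lit 61) (Steps.bwd (nat_lit 0) (Steps.fwd (nat_lit 8192) (Steps.fwd (nat_lit 0) (Steps.fwd (nat_lit 10240) Steps.nil)))) (nat_lit 32) (nat_lit 0),
  Rule.mk (nat_lit 0) (nat_lit 61) (Steps.bwd (nat_lit 0) (Steps.bwd (nat_lit 5) (Steps.fwd (nat_lit 0) (Steps.fwd (nat_lit 10240) Steps.nil)))) (nat_lit 32) (nat_lit 0),
  Rule.mk (nat_lit 0) (nat_lit 48) (Steps.fwd (nat_lit 0) (Steps.fwd (nat_lit 0) (Steps.fwd (nat_lit 0) Steps.nil))) (nat_lit 32) (nat_lit 0),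
  Rule.mk (nat_lit 0) (nat_lit 61) (Steps.bwd (nat_lit 0) (Steps.fwd (nat_lit 2048) (Steps.fwd (nat_lit 0) (Steps.fwd (nat_lit 2048) Steps.nil)))) (nat_lit 32) (nat_lit 0),
  Rule.mk (nat_lit 0) (nat_lit 61) (Steps.bwd (nat_lit 0) (Steps.bwd (nat_lit 3) (Steps.fwd (nat_lit 0) (Steps.bwd (nat_lit 3) Steps.nil)))) (nat_lit 32) (nat_lit 0),
  Rule.mk (nat_lit 0) (nat_lit 61) (Steps.bwd (nat_lit 0) (Steps.bwd (nat_lit 6) (Steps.fwd (nat_lit 0) (Steps.fwd (nat_lit 12288) Steps.nil)))) (nat_lit 32) (nat_lit 0),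
  Rule.mk (nat_lit 0) (nat_lit 61) (Steps.bwd (nat_lit 0) (Steps.bwd (nat_lit 1) (Steps.fwd (nat_lit 0) (Steps.bwd (nat_lit 1) Steps.nil)))) (nat_lit 32) (nat_lit 0),
  Rule.mk (nat_lit 0) (nat_lit 61) (Steps.bwd (nat_lit 0) (Steps.bwd (nat_lit 2) (Steps.fwd (nat_lit 0) (Steps.fwd (nat_lit 4096) Steps.nil)))) (nat_lit 32) (nat_lit 0),
  Rule.mk (nat_lit 0) (nat_lit 61) (Steps.bwd (nat_lit 0) (Steps.fwd (nat_lit 14336) (Steps.fwd (nat_lit 0) (Steps.bwd (nat_lit 7) Steps.nil)))) (nat_lit 32) (nat_lit 0),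
  Rule.mk (nat_lit 0) (nat_lit 61) (Steps.bwd (nat_lit 0) (Steps.bwd (nat_lit 5) (Steps.fwd (nat_lit 0) (Steps.bwd (nat_lit 4) Steps.nil)))) (nat_lit 32) (nat_lit 0),
  Rule.mk (nat_lit 0) (nat_lit 61) (Steps.bwd (nat_lit 0) (Steps.bwd (nat_lit 4) (Steps.fwd (nat_lit 0) (Steps.bwd (nat_lit 5) Steps.nil)))) (nat_lit 32) (nat_lit 0),
  Rule.mk (nat_lit 0) (nat_lit 61) (Steps.bwd (nat_lit 0) (Steps.bwd (nat_lit 3) (Steps.fwd (nat_lit 0) (Steps.fwd (nat_lit 6144) Steps.nil)))) (nat_lit 32) (nat_lit 0),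
  Rule.mk (nat_lit 0) (nat_lit 61) (Steps.bwd (nat_lit 0) (Steps.bwd (nat_lit 2) (Steps.fwd (nat_lit 0) (Steps.bwd (nat_lit 2) Steps.nil)))) (nat_lit 32) (nat_lit 0),
  Rule.mk (nat_lit 0) (nat_lit 74) (Steps.bwd (nat_lit 0) (Steps.fwd (nat_lit 10240) (Steps.fwd (nat_lit 0) (Steps.bwd (nat_lit 5) (Steps.fwd (nat_lit 0) Steps.nil))))) (nat_lit 32) (nat_lit 0),
  Rule.mk (nat_lit 0) (nat_lit 61) (Steps.bwd (nat_lit 0) (Steps.fwd (nat_lit 4096) (Steps.fwd (nat_lit 0) (Steps.fwd (nat_lit 4096) Steps.nil)))) (nat_lit 32) (nat_lit 0),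
  Rule.mk (nat_lit 0) (nat_lit 74) (Steps.bwd (nat_lit 0) (Steps.fwd (nat_lit 14336) (Steps.fwd (nat_lit 0) (Steps.fwd (nat_lit 12288) (Steps.fwd (nat_lit 0) Steps.nil))))) (nat_lit 32) (nat_lit 0),
  Rule.mk (nat_lit 0) (nat_lit 74) (Steps.bwd (nat_lit 0) (Steps.fwd (nat_lit 4096) (Steps.fwd (nat_lit 0) (Steps.fwd (nat_lit 4096) (Steps.fwd (nat_lit 0) Steps.nil))))) (nat_lit 32) (nat_lit 0),
  Rule.mk (nat_lit 0) (nat_lit 74) (Steps.bwd (nat_lit 0) (Steps.bwd (nat_lit 5) (Steps.fwd (nat_lit 0) (Steps.fwd (nat_lit 10240) (Steps.fwd (nat_lit 0) Steps.nil))))) (nat_lit 32) (nat_lit 0),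
  Rule.mk (nat_lit 0) (nat_lit 61) (Steps.bwd (nat_lit 6) (Steps.bwd (nat_lit 0) (Steps.bwd (nat_lit 7) (Steps.fwd (nat_lit 0) Steps.nil)))) (nat_lit 32) (nat_lit 0),
  Rule.mk (nat_lit 0) (nat_lit 61) (Steps.bwd (nat_lit 0) (Steps.fwd (nat_lit 6144) (Steps.fwd (nat_lit 0) (Steps.bwd (nat_lit 3) Steps.nil)))) (nat_lit 32) (nat_lit 0),
  Rule.mk (nat_lit 0) (nat_lit 61) (Steps.fwd (nat_lit 0) (Steps.fwd (nat_lit 0) (Steps.fwd (nat_lit 0) (Steps.fwd (nat_lit 0) Steps.nil)))) (nat_lit 32) (nat_lit 0),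
  Rule.mk (nat_lit 0) (nat_lit 74) (Steps.bwd (nat_lit 0) (Steps.fwd (nat_lit 14336) (Steps.fwd (nat_lit 0) (Steps.bwd (nat_lit 7) (Steps.fwd (nat_lit 0) Steps.nil))))) (nat_lit 32) (nat_lit 0),
  Rule.mk (nat_lit 0) (nat_lit 74) (Steps.bwd (nat_lit 0) (Steps.fwd (nat_lit 8192) (Steps.fwd (nat_lit 0) (Steps.fwd (nat_lit 10240) (Steps.fwd (nat_lit 0) Steps.nil))))) (nat_lit 32) (nat_lit 0),
  Rule.mk (nat_lit 0) (nat_lit 74) (Steps.bwd (nat_lit 0) (Steps.bwd (nat_lit 6) (Steps.fwd (nat_lit 0) (Steps.fwd (nat_lit 12288) (Steps.fwd (nat_lit 0) Steps.nil))))) (nat_lit 32) (nat_lit 0),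
  Rule.mk (nat_lit 0) (nat_lit 61) (Steps.fwd (nat_lit 6144) (Steps.bwd (nat_lit 0) (Steps.fwd (nat_lit 6144) (Steps.fwd (nat_lit 0) Steps.nil)))) (nat_lit 32) (nat_lit 0),
  Rule.mk (nat_lit 0) (nat_lit 61) (Steps.fwd (nat_lit 12288) (Steps.bwd (nat_lit 0) (Steps.bwd (nat_lit 6) (Steps.fwd (nat_lit 0) Steps.nil)))) (nat_lit 32) (nat_lit 0)]
noncomputable def R_4 : List (Rule) := [Rule.mk (nat_lit 0) (nat_lit 74) (Steps.bwd (nat_lit 0) (Steps.fwd (nat_lit 8192) (Steps.fwd (nat_lit 0) (Steps.bwd (nat_lit 4) (Steps.fwd (nat_lit 0) Steps.nil))))) (nat_lit 32) (nat_lit 0),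
  Rule.mk (nat_lit 0) (nat_lit 61) (Steps.fwd (nat_lit 4096) (Steps.bwd (nat_lit 0) (Steps.bwd (nat_lit 2) (Steps.fwd (nat_lit 0) Steps.nil)))) (nat_lit 32) (nat_lit 0),
  Rule.mk (nat_lit 0) (nat_lit 61) (Steps.bwd (nat_lit 2) (Steps.bwd (nat_lit 0) (Steps.bwd (nat_lit 2) (Steps.fwd (nat_lit 0) Steps.nil)))) (nat_lit 32) (nat_lit 0),
  Rule.mk (nat_lit 0) (nat_lit 61) (Steps.bwd (nat_lit 6) (Steps.fwd (nat_lit 0) (Steps.fwd (nat_lit 12288) (Steps.fwd (nat_lit 0) Steps.nil)))) (nat_lit 32) (nat_lit 0),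
  Rule.mk (nat_lit 0) (nat_lit 74) (Steps.bwd (nat_lit 0) (Steps.bwd (nat_lit 1) (Steps.fwd (nat_lit 0) (Steps.fwd (nat_lit 2048) (Steps.fwd (nat_lit 0) Steps.nil))))) (nat_lit 32) (nat_lit 0),
  Rule.mk (nat_lit 0) (nat_lit 61) (Steps.bwd (nat_lit 4) (Steps.bwd (nat_lit 0) (Steps.fwd (nat_lit 8192) (Steps.fwd (nat_lit 0) Steps.nil)))) (nat_lit 32) (nat_lit 0),
  Rule.mk (nat_lit 0) (nat_lit 74) (Steps.bwd (nat_lit 0) (Steps.fwd (nat_lit 6144) (Steps.fwd (nat_lit 0) (Steps.fwd (nat_lit 6144) (Steps.fwd (nat_lit 0) Steps.nil))))) (nat_lit 32) (nat_lit 0),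
  Rule.mk (nat_lit 0) (nat_lit 61) (Steps.bwd (nat_lit 1) (Steps.bwd (nat_lit 0) (Steps.bwd (nat_lit 1) (Steps.fwd (nat_lit 0) Steps.nil)))) (nat_lit 32) (nat_lit 0),
  Rule.mk (nat_lit 0) (nat_lit 74) (Steps.bwd (nat_lit 0) (Steps.fwd (nat_lit 12288) (Steps.bwd (nat_lit 0) (Steps.bwd (nat_lit 6) (Steps.fwd (nat_lit 0) Steps.nil))))) (nat_lit 32) (nat_lit 0),
  Rule.mk (nat_lit 0) (nat_lit 61) (Steps.fwd (nat_lit 14336) (Steps.fwd (nat_lit 0) (Steps.fwd (nat_lit 12288) (Steps.fwd (nat_lit 0) Steps.nil)))) (nat_lit 32) (nat_lit 0),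
  Rule.mk (nat_lit 0) (nat_lit 74) (Steps.bwd (nat_lit 0) (Steps.fwd (nat_lit 2048) (Steps.fwd (nat_lit 0) (Steps.fwd (nat_lit 2048) (Steps.fwd (nat_lit 0) Steps.nil))))) (nat_lit 32) (nat_lit 0),
  Rule.mk (nat_lit 0) (nat_lit 74) (Steps.bwd (nat_lit 0) (Steps.fwd (nat_lit 10240) (Steps.fwd (nat_lit 0) (Steps.fwd (nat_lit 8192) (Steps.fwd (nat_lit 0) Steps.nil))))) (nat_lit 32) (nat_lit 0),
  Rule.mk (nat_lit 0) (nat_lit 74) (Steps.bwd (nat_lit 0) (Steps.bwd (nat_lit 5) (Steps.bwd (nat_lit 0) (Steps.fwd (nat_lit 10240) (Steps.fwd (nat_lit 0) Steps.nil))))) (nat_lit 32) (nat_lit 0),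
  Rule.mk (nat_lit 0) (nat_lit 61) (Steps.fwd (nat_lit 8192) (Steps.fwd (nat_lit 0) (Steps.fwd (nat_lit 10240) (Steps.fwd (nat_lit 0) Steps.nil)))) (nat_lit 32) (nat_lit 0),
  Rule.mk (nat_lit 0) (nat_lit 61) (Steps.bwd (nat_lit 5) (Steps.fwd (nat_lit 0) (Steps.fwd (nat_lit 10240) (Steps.fwd (nat_lit 0) Steps.nil)))) (nat_lit 32) (nat_lit 0),
  Rule.mk (nat_lit 3) (nat_lit 35) (Steps.bwd (nat_lit 0) (Steps.bwd (nat_lit 3) Steps.nil)) (nat_lit 32) (nat_lit 0),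
  Rule.mk (nat_lit 1) (nat_lit 35) (Steps.bwd (nat_lit 0) (Steps.bwd (nat_lit 1) Steps.nil)) (nat_lit 32) (nat_lit 0),
  Rule.mk (nat_lit 2) (nat_lit 35) (Steps.bwd (nat_lit 0) (Steps.bwd (nat_lit 2) Steps.nil)) (nat_lit 32) (nat_lit 0),
  Rule.mk (nat_lit 0) (nat_lit 61) (Steps.bwd (nat_lit 4) (Steps.fwd (nat_lit 0) (Steps.fwd (nat_lit 8192) (Steps.fwd (nat_lit 0) Steps.nil)))) (nat_lit 32) (nat_lit 0),
  Rule.mk (nat_lit 0) (nat_lit 61) (Steps.bwd (nat_lit 7) (Steps.bwd (nat_lit 0) (Steps.fwd (nat_lit 14336) (Steps.fwd (nat_lit 0) Steps.nil)))) (nat_lit 32) (nat_lit 0),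
  Rule.mk (nat_lit 0) (nat_lit 74) (Steps.bwd (nat_lit 0) (Steps.bwd (nat_lit 4) (Steps.bwd (nat_lit 0) (Steps.fwd (nat_lit 8192) (Steps.fwd (nat_lit 0) Steps.nil))))) (nat_lit 32) (nat_lit 0),
  Rule.mk (nat_lit 0) (nat_lit 61) (Steps.bwd (nat_lit 7) (Steps.fwd (nat_lit 0) (Steps.fwd (nat_lit 14336) (Steps.fwd (nat_lit 0) Steps.nil)))) (nat_lit 32) (nat_lit 0),
  Rule.mk (nat_lit 0) (nat_lit 61) (Steps.bwd (nat_lit 3) (Steps.bwd (nat_lit 0) (Steps.bwd (nat_lit 3) (Steps.fwd (nat_lit 0) Steps.nil)))) (nat_lit 32) (nat_lit 0),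
  Rule.mk (nat_lit 0) (nat_lit 61) (Steps.bwd (nat_lit 0) (Steps.bwd (nat_lit 6) (Steps.bwd (nat_lit 0) (Steps.fwd (nat_lit 12288) Steps.nil)))) (nat_lit 32) (nat_lit 0),
  Rule.mk (nat_lit 0) (nat_lit 74) (Steps.bwd (nat_lit 0) (Steps.bwd (nat_lit 6) (Steps.bwd (nat_lit 0) (Steps.bwd (nat_lit 7) (Steps.fwd (nat_lit 0) Steps.nil))))) (nat_lit 32) (nat_lit 0),
  Rule.mk (nat_lit 0) (nat_lit 74) (Steps.bwd (nat_lit 0) (Steps.bwd (nat_lit 7) (Steps.bwd (nat_lit 0) (Steps.bwd (nat_lit 6) (Steps.fwd (nat_lit 0) Steps.nil))))) (nat_lit 32) (nat_lit 0),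
  Rule.mk (nat_lit 0) (nat_lit 74) (Steps.bwd (nat_lit 0) (Steps.bwd (nat_lit 4) (Steps.bwd (nat_lit 0) (Steps.bwd (nat_lit 5) (Steps.fwd (nat_lit 0) Steps.nil))))) (nat_lit 32) (nat_lit 0),
  Rule.mk (nat_lit 0) (nat_lit 61) (Steps.bwd (nat_lit 5) (Steps.bwd (nat_lit 0) (Steps.bwd (nat_lit 4) (Steps.fwd (nat_lit 0) Steps.nil)))) (nat_lit 32) (nat_lit 0),
  Rule.mk (nat_lit 0) (nat_lit 61) (Steps.bwd (nat_lit 7) (Steps.bwd (nat_lit 0) (Steps.bwd (nat_lit 6) (Steps.fwd (nat_lit 0) Steps.nil)))) (nat_lit 32) (nat_lit 0),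
  Rule.mk (nat_lit 0) (nat_lit 61) (Steps.bwd (nat_lit 4) (Steps.bwd (nat_lit 0) (Steps.bwd (nat_lit 5) (Steps.fwd (nat_lit 0) Steps.nil)))) (nat_lit 32) (nat_lit 0),
  Rule.mk (nat_lit 0) (nat_lit 61) (Steps.bwd (nat_lit 5) (Steps.bwd (nat_lit 0) (Steps.fwd (nat_lit 10240) (Steps.fwd (nat_lit 0) Steps.nil)))) (nat_lit 32) (nat_lit 0)]
noncomputable def R : List (List (Rule)) := [R_0, R_1, R_2, R_3, R_4]
def LW : List Word := [[], [0], [2], [4], [6], [7], [8], [9]]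
def par : Par := ⟨11, 3, 14, 25, 2047, 16383, 33554431⟩
theorem hpar : par.ok := by decide
theorem hR0_0 : lall (R) (fun l => lall l (ruleOK Rk77 LW par)) = true := by decide +kernel
theorem hR0 : lall (R) (fun l => lall l (ruleOK Rk77 LW par)) = true := hR0_0
theorem hR : RulesOK Rk77 LW par R := rulesOK_of rfl hR0
def cols : List (ℕ × ℕ) := [(2048, 1), (4096, 2), (6144, 3), (8192, 5), (12288, 7)]
theorem hcols : lall cols (colOK Rk77 LW par) = true := by decide +kernel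
noncomputable def JS0 : List ℕ := [nat_lit 0x27b93909c21c00400189c01b000800c9be1a27193b89be1900113b89bc18004802c9bc1700100409ba0a00813702c00200a93702a00f26d84c9ba00f26d8509c64da09800000200f26d04800200400613680c00c26c8440004d908139001600226c83c9b64de00113601c007000935c1a4de26c135c0a4db0001358184d700113749ac0b00100189aa0a26b00089b04d50493749b04d40400109aa4d40380009b44d926a0189b64d526a0149b44d926b1354084da26c1354064d926c13589aa0226b135c9aa01,
  nat_lit 0x3927713b43e00001a94309da3628513b89da1d28993c49dc3500100149da3400400189d83327814349d83200180dc9d63127993a85000a00613a86000200813a45e0102740b800402f2740b401e4e71593a401e4e71613bc9cc2b000800805a4e61500189ca2700080100164e514802c9c82800013904e02701400089c826273000c9c84e31280180024e21213ec9c64e20e93980004e11193880020242708889c40022721384424f927213804001e27093803e00000f13cc9c01e27c13849c01d,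
  nat_lit 0x4b28013f06e04427e93f07c00002381149f83d02493f49f83c28413fc00e4fd1d94a89fe4fc1a800800a4fb1a002000c4fa1993f8a424fa19000ca424f91d14049f02800500309f03000100449ee2f00893d85c00202593d85a01027a8ac9ee01027a8b09fa4f415800400403e27a0a800c4f313800400800c2798a40184f21400009e42701f80e40044f21c93d00064f227889400e001278090a1e4f12780749e800027788c9e000228713bc7000201b13b85e4ef00113c49dc2101a93c49da37,
  nat_lit 0x143000253a28582ca18002287142c1205728714288605a28594280e00002b14e4a144229b942ca140528b143400e50b1d8174a1a50a20800800a5091a002000c5081994300ae50820000c0ae50718943ca0c280050030a0c300010040a0a2f00814105c00202a94107e00f2818aca0a00f2818b0a1650215800400404c2810a800c50113800400800b2808a4016500140000a0027028011c00450013140800650027f89400c00127f09008a4ff27f0f0a0400027e88c9fc00102213f4444fe00114009fa21,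
  nat_lit 0x6328d94688a51e00014641851a000818ca324828d0008a385190481aca38518218190a325182380000ce06528c1180d451928c114a4851b00394648855628d946038009003945c3600100214583451a2a69458320032a694543051d28a04401400c28a05c0040102898280205120b00080d65120a803ca2213289803ca221428c944026001001017ca2012003143c20001002002ca1e060059438220002870400be05a00114381e5102898008a1a0e0030004a180d29d9434a18052880000a160c,
  nat_lit 0xa5000f293050a5c52509800400407529284800c52408000400800b292018016523088000a461003b01c0004523079494a5000229103800c001290834abe522290814a4a000290030a420012af148016521001148ca4009036948ca3e430389480a3e0700001b4aba51f21156ca4051f0294900e252025800801e52005003ca3e1600101d0a3e4a00714782652000714782852628e84c000001035947424001002002ca3a0600594702200028e0400e006700114709251e2908008a360e0030004a340d,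
  nat_lit 0x410e53326000801e53305003ca64160010220a644a00714c42653300714c42853929804c00000103f94c024001002002ca600600594bc2200029784010807b00114bc9253129a0008a5c0e0030004a5a0d03b94b8a5a452988000a580c29680040ee52c2414b400452f2960240fe52f29590c0f052c29591c00007b03c94ac8c07e29614ac8a57929794b03800800314ac3600100194a83452e2b814a8320022b814a4305312940440040102940280205270b00081045270a803ca4c13,
  nat_lit 0x59f2a29508380080031504360010019500345442cb1500320022cb14fc3000a00614fc2e00200814f81401029e85800409929e85401e53c0994f801e53c0a1510a7613000800811a53b090018a7410000801001653a03002ca721100014e42008d0440008a720f29d94f8004538070018002537069614a705370294ec0005360614dc00258429b02ca6e00229c94d81208529c94d48608829b14d40e000042160ca6a422c094d8a6a0504714e4a6c4d0038014a6a1b0008008a681a29c0218a684b,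
  nat_lit 0xa02d6953c6c5ab2a8153c3a55b2a9001caa0440549548a9e4d004801ca9c1b0008010a9a1a2a88284a9a4b0018288a984c2aa152c2200a006152c2e0020081528140102a48580040a12a492801e54809952801e5480a1540a8e130008008130547090018a8c10000801001654603002ca8a1100015142009c0498008a8a492a3952800454407001800254306823ca8854322951c00054206150c00208f2a1120a860022a29508120972a29504860902a115048e0000498244a824604b1508a8245,
  nat_lit 0x40ac2ae0bcaba0022af9570420b32af956c6e0ac2ae156c7c00005782b4ab63d0591570ab63c2e4957cab8350010010ab6340038014ab4332af1700ab4320011700ab23a0050030ab2300010040ab02f008155c5c00205a955c5a00f2ab0acab000f2ab0b0abc5551580040040a92aa8a800c55413800400800b2aa0a4016553140000aa62705482900045531c95540065532a909400c0012a8890b5e5522a8874aaa0002a808caa20012d7154070551001154caa021050954ca9e370521540a9e1f,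
  nat_lit 0x15c000056b1195b00025d92b58e0ad80022b715ac420be2b715a86e0c12b595a83e00005e9760ad4362eb15acad41d2bb15b400c56b1d8318ada56a2080080085691a002000a5681995b017e56820000817e5671895bcacc280010048acc2f00915945c00305f95947e0112b20ac00600b00895906c565008158c5856b2b10ac00200205a1588540062b089c00200400615845200c2b00a00005601382e415e0022b0098ac40032b0157c4a0070009578480ad2af95787856200015744655e00102b0aba22,
  nat_lit 0x106395cc540010020030ae62900615c8500002b909c1900c300115c87257400195c8ae2250038004ae0242f195c4ae01d2ba0000ade232b80008bc456f1c000818056e1795bc0045712b708417e5712b68dc18456e2b687c0000be2f015b46c5de2b715b43a57100015bcadc252b8000418056f1115c00045722b788418a5722b70dc17c56f2b70f80000c105f95b87a0c32b795b8780010010318ae02a00315bc4e001002002cade2900595b8500002b709c18c0c100115b87257000195b8ada250030004ad8242ed15b4ad81d,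
  nat_lit 0x40102c00bc02057f1700081b257f1f803cafc2b2c0003cafc2c2c315f4560010010340afa2a00315f04e001002002caf82900595ec500002bd89c1a80cb00115ec4c57d00195ecaf4250030004af22406495e8af23c2be8000af0232bc80041905781115e400457b2bc08419e57b2bb8dc1905782bb8f80000cb06495dc7a0ce2bc15dc7800200195e06800600215dc6657b2f915dc640012f915d87400200815d85e0102ba8b80040d32ba8b401e5741595d801e5741615f0ae62b,
  nat_lit 0xe72c696307861f2c816346a002001963068006002162c6658f30b162c6400130b16287400200716285e00e2c48b80040eb2c48b401a58815962801a588161640b0e2b00000041be58715000400600a2c38a4014586140000b0c27070036c0025861c8018002585121820b0c5850e96240005841196140026072c20e0b0a0022c39610420d92c3960c6e0dc2c2160c3e00006c1818b06363021610b061d2c7961800a5841d80080085831a001c00a5821996181b45822000081b4581189624b0028,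
  nat_lit 0x5961383d41e00022cb0e4b300032cb16544a0050009650486262ca96503a598000164c465940009894b26382ca0004b2c5931083b4b2c5921b80001da6252c98d8c465942c9874b300f22ca10000400f2ca0bc01e5931700081e45931f8038b242b2ca0038b242c2cd16445600000083a8b222a000801001659114802cb202800016404e0ee0730008b20262c9000cb2058f12801800258e120390b1e58e1e164800058d1196380020e32c6888b1c0022c81634420e92c816306e0e22c696307c000072838cb183d,
  nat_lit 0x80085a31a002000a5a21996981fe5a22000081fe5a118802c01a5a11800080225a0178044b3e2e00183f8b3e3f0081678560030058040b3c362cf803cb3a2c2d296705600100103d0b382a003166c4e001002002cb36290059668500002cd09c1f00ef00116684c59c0019668b32250030004b30240769664b303c2ce0000b2e232cc00041d859711166000459a2cb8841e659a2cb0dc1d85972cb0f80000ef07696587a0f22cb965878598317165c6400000083d0b2e2a0008010014597148028b2c28,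
  nat_lit 0x8496c0b5e3e00004302145af1e843cb605af1e16ecb640062d80eccb85b22d78d40040042d70d000e0052d68ccb626532d68c80046532d60e801200b2d60c000400f2d58bc01e5aa1700082225aa168038b522b2d58038b522c2d896a0560000008414b502a00080100165a814802cb4e28000169c4e1060808008b4e392d4800cb4e5a61280180025a512190cb4c5a50e96a40005a41196940026422d20e0b4a0022d39690420fe2d3968c6e1012d2168c3e00007e9904b463631f9690b461d082969cb4841,
  nat_lit 0x17040005bc0616f400266a2de02cb7a0022df96f0121182df96ec8611b2de16ec0e00008b99a4b764233396f0b760509096fcb78410010014b76340040018b74332df0468b74400018468b72312e096e05000900596e06000200796dc5e00f2db0b80041192db0fc01c5b51596dc01c5b51616f4b682b000000421e5b415000400800b2da0a40165b3140000b662708a842c0045b31316d40065b32d909400c0012d88902125b22d88f0b6a0002d808cb6200108416c0445b100116ccb602108816ccb5e37,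
  nat_lit 0x400800b2e48180165c8088000b901009604900045c8249728b9a0022e383800c0012e30342405c72e3114b940002e2830b8c0010901714905c60011720b8a090939720b88430901714b8847000048c2425c4230498b8a5c422801c00a5c50d80040045c40d1720cf45c40c8004cf45c30c000801e5c305003cb841600104acb84150071704265c30071704285c92e004c00000108f970024001002002cb800600596fc220002df84024011b00116fc1e5c12e20008b7c0e0030004b7a0d33596f8b7a05,
  nat_lit 0x100104e8bb012003175c20001002002cbae060059758220002eb04027613500117581e5d82ed8008baa0e0030004ba80d3491754ba8052ec0000ba60c2ea0004d225d30597500045d62e98242645d62e910c26c5d32e901c00013234817488468e2e997480a5de2ea801cba64409c9754ba44d004801cba21b0008010ba01a2ea04c8ba04b00184ccb9e4c2eb97382200a00617382e0020081734140102e60580041312e612801e5cb09973401e5cb0a174cb941300080082525ca090018b9210,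
  nat_lit 0x2f4803cbce142f7979826001001051cbcc12003179420001002002cbca060059790220002f20402961420011790925e62f48008bc60e0030004bc40d09f178cbc4452f30000bc20c2f1000427c5e12417880045e42f082428c5e42f010c27c5e12f011c00014209f97808c1452f097808a5ec2f1801cbc244356978cbc01c004801cbbe1b0008010bbc1a2f11a90bbc190019a90bba182f297702200a00617702e002008176c140102ed0580041472ed05401e5d909976c01e5d90a1784bb013,
  nat_lit 0x40bea16001058cbea1500797d0265f600797d0285fc2f984c0020020ab97cc240062f904000200400597c80c00b2f88440005f108055c2a40022f883cbe65f600117c01c00600097bc1a6bd2f817bc0a5f300017b8185ef0009af0bdc0b2f78008be25ee04853cbe25ed218548bdc5ed03800029c6bb2f6908d725ee2f6814bf25f000317b88800900397b43600100217b0345f00a817b0960030a897ac985f32f504401400c2f505c0040102f48280205e80b000829e5e825003cbce13,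
  nat_lit 0x2ff8000bf40c2fd80042ac5fa2417ec0045fd2fd0242b85fd2fc90c2aa5fa2fc91c0001580ab17e48c15a2fd17e48a5fc36797e8325fc00597e8286012fc84c0000010ad17e4240010018020bf20600417e0220002fc0402b815600097e01e00400097dc1a6c62fc17dc0a5fa00017d8185f70001b14bec0b0aa97e4bec430000558d8c5f6211b10bee5f602856c2b20002fb83cd8e5f82fb8140005f80b0574bf25f821802000c5f90d80040065f80d17f0d9c5f80c8008d9c5f70c17fcbec110010040bec0a,
  nat_lit 0xf30184cc0a00f301850c1660209800400415830104800c60108000400800b300818016600088000c00100ad854c004600249808c0a0022ff83800c0012ff03429e5ff2ff114c040002fe830bfc0010a797f4905fe0011800bfa090ab1800bf8430a797f4bf84700005482a05fc230554bfa5fc2285742b00012fe83cbfe60200097f01c6d12fe97f00a60000017ec185fc0009b40bf60b2fe0008bfc5fb048558bfc5fa218564bf65fa0380002aa6cf2fd108d9a5fb2fd0142c015900097f0925fe3008004bf60e0ab17f0bf645,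
  nat_lit 0x3070038c181430a182c260010010580c16120029828200010018028c14060051824220003048402c415b00098249200600098201a15830498208a60c000181c186080008560c0e483040008c14607048578c1460621855cc0e6062380002b41583031182b8607303114c1400137318241660a0009830c12090b01830c10430000580dcc609211b90c14609029854c1800630511001200730486c002004304068c1816130412c006162303930c1e6060880280186060b8008020605050040c08160010580c084a,
  nat_lit 0x3088008c26610048590c2660f218598c2060f0380002c66f8307908dec610307814c2661600018401c615000184018611000858cc20483088008c266100485a0c2660f218584c2060f2380002c81623079182cc610307914c2c6110009840886fe308983c38000001983c1400330784c2d4165000183c1e6f4308183c0a611000984cc20090b51844c20070000598dea610211bccc2261002802000a6110d80040046100d18502d06102580042d260f26000802060f050040c1c1600185a0c1c4a007983426003005003cc1a42,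
  nat_lit 0x16d30c98608a1750b80004c320f30d9878002618071c20c3261802987000061706186000270730b82cc3000230d185c1216e30d18588617130b98580e0000b69c18c2c42382185cc2c0530c00002e06172405c0c3061721801c00a6180d80040046170d186ce106170c8004e106160c000801c616050038c2a1600105d4c2a1500698502661600698502861c30984c0000010b5184c240010018028c26060051848220003090402d616600098481e00600098441a6fa30918440a6150001840186110009be4c200b,
  nat_lit 0x105dcc480a3128008c4e6240485d8c4e6232185e4c486230380002ea71b311908e326243118142fa62731213401000631186c002003311068c4c17631112c00417731093001200b31085c00400f31002801e61f0b00082ec61f250038c3c133100038c3c1431318742600000085b8c3a12000801001661d03002cc38110001870201730b50008c384930f188400461b07001800261a068598c3661a22987800061906186800216630c920c3400230e18641216e30e18608616630c98608e0000b5059cc3046,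
  nat_lit 0x5f4e5e62e211cb4c5e62e028618c6462f26800400462e0d18c830062e25800430262d26000801c62d050038c58160010604c584a00698ac2662d00698ac2863331504c0000010bc98a8240010018028c540600518a4220003148402fa17500098a49200600098a01a17231498a08a62c000189c1862800085c8c4e483140008c546270485e4c546262185c8c4e6262380002ea1733131182ee6273131140006270805f82f200131383cc5262c00098981c71e31398980a62a0001894186260011c74c4a0b,
  nat_lit 0x31e18fc004639070018002638068614c726382298f00006370618e000218531b920c7000231d18dc1218d31d18d88618631b98d88e0000c4861cc6c460c598dcc6c450038014c6e1b0008008c6c1a31d1cfcc6c190009cfcc6a180010038c6a0a00718d02c0020c818d02a00d31984cc6a00d319850c7663209800000218431904800200300518c80c00a31884400063108061430000131883c00c001318034e62631318014c68000317830c6000139818bc1663000118c8c5e090bf18c8c5c430c098bcc5c07,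
  nat_lit 0x6843380023248e4c9600332499204a006000991c48758324191c3a64b0001918466470009d5cc8c383238008c92646108664c926451b8670c8c6450f80003307563228d8ea8646322874ca26480039918881a032419149a00a003991036001002190c346470cc190c960030cc99089864a32084401600d32085c00401132002802263f0b000c33063f250040c7c13001802c02063e2118fc01e63d0a1914c7813000800831c63c090018c7610000801001663b03002cc741100018e8201920c48008c7449,
  nat_lit 0x69ccaa6511b86a8ca46510f800034c76d3288d8ed665232887400400c3290bc0186511700083566511f802cca02b328802cca02c32b993c560000010024c9e29000193c4e1a90d08004c9e260030004c9c240d0193cc9c3c3290000c9a23327000433e64d11193800465032688434a6503260dc33c64d3260f80001a10cf99307a1a332699307800200799345e00f3260b80041ac3260b401c64b15993401c64b16194cc942b000000434064a15000400800b3250a4016649140000c9227,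
  nat_lit 0x10010cbc340038014cba3333086c0cba4000106c0cb831332196c50002008196c5e01032d0b80041b032d0fc01e65915996c01e659161984cb02b000800834c658150018cae27000801001665714802ccac2800019584e1ab0d08008cac2632c000ccac65512801800265412067ccaa6541e196000065311995000219e329888ca800232b194c421a632b19486e19f32999487c0000d10680ca43d0d2994cca43c0d686a00026531c9954002653329094edc653329074ca60013b71948706530011954ca421,
  nat_lit 0xde86eccd63d0e019b0cd63c33b99b800a66c1d9e78cdc66b1a800800666a1a00180086691999b4f2a669190004f2a6681d0008020668178040cce2e001070ccce2d00799985666800799985866e3328ac0000010db9994540010020030cca2900619905000033209c3701b30011990726660019990cc6250038004cc4243c3198ccc41d3330000cc2233310008f0a6611c000836066017998400466333008435e66332f8dc36466032f87c0001ae3c1997c6c781330197c3a66b3310018cc03b0db9988cbe41,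
  nat_lit 0xc00133b090f5467733b074cf400033a88ccec0013d499d47067600119e0cea210e319e0ce8370e499d4ce81f0000714f506741b1e98cea6740e873ccf06752080040046741a001800667319800439267318800801e67317803cce42e0018728ce43f00719c4560020048038ce2363390034ce02c33c19bc5600533789c00200300519bc5200a3370a000066e13871437600133709800c00133689037466e3368f0ce200033608ccda0010dc99b04466d00119bccd8210e099bccd6370dd19b0cd63e,
  nat_lit 0x20079a005e00f33f8b80041d933f8fc01c67e159a0001c67e161a18cfa2b000000439e67d15000400800b33e8a401667c140000cf8270ea872c00467c1319f800667c33d89400c00133d09039267b33d0f0cfc00033c88ccf40010e419e44467a00119f0cf2210e819f0cf0370e499e4cf03e00007303946781e873ccf26781e1ef0cf86791a801801067a180034cf22e34199e8560010010738cf42a00319e44e001002002ccf22900599e05000033c09c39c1c900119e07267a00199e0cee25,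
  nat_lit 0x38014d1c333491f68d1c320011f68d1a3a34a9a30500020081a305e0103458b80041ec3458b401e68a159a3001e68a161a48d122b00080083c0689150018d1027000801001668814802cd0e280001a1c4e1e00ed8008d0e39344800cd0e686128018002685121f24d0c6850e9a24000684119a140027c83420e0d0a0023439a10421d83439a0c6e1db3421a0c3e0000eb9f1cd06363e29a10d061d0f01a1cd08410010010d06340038014d04333430764d04400010764d0231004802cd0230,
  nat_lit 0x6930019a44d20250030004d1e243e71a40d1e1d3498000d1c233478004f9a68e1c1a3c0046913470843a06913468dc3a668e34687c0001cf3e61a346c7ca3471a343a1d70e98000d1c393e71a3cd1c1d0000768d1e310001a3c5c1db3481a3c6e7de3489a403a6993498000d243b0000018d242f0039a48560083490a03dc1e50009a484c6940009a48d22250f21a48d223c34900043c8691111a480046943488843d66943480dc3c86913480f80001e70f29a407a1ea3489a407869c3498018d223b3f19a4cd20350010010d1e34,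
  nat_lit 0x69f1387b03ce00234f8e4d4200334f9a784a0070009a74487e434f1a743a6a10001a704669d0011f8cd38380010790d362f34e0008d3c69b10878cd3c69a1b8798d3669a0f80003c47e134d0d8fbe69b34d074fd269e34d8d400400434d0d001000534c8ccd3a7e034c8c80047e034c0e801600d34c0c000401134b8bc02269617000c3ca696168040d2a2b001802c0206951b1a5801e694161a70d262b00080083b2693150018d2427000801001669214802cd22280001a444e1d80ea0008d2239,
  nat_lit 0x20fc1aac620060041aac600020051aa85e00a3548b80021f83548fc0126a8159ac0d502b0019aa04e00035409c3ee1ed0009aa04c6aa0009aa0d4e250f61aa0d4e3c35400043d86a7111aa00046aa3538843e86aa3530dc3da6a73530f80001f00f71a987a1f33539a98786b13548014d4e3b3fd9aa4d4c35000800cd4a340030010d48330011fccd483a3559a8c500020079a8c5e00f3510b80041f63510b401c6a1159a8801c6a1161aa0d402b00080100186a0148030d3e28,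
  nat_lit 0x1d40e91ab47a1d63571ab4781e50f10004d5e390020004d5c243f89abcd5c1d3588000d5a233570000fe06ad1c077cd606ad1b80003be7f13568d8fde6ae3568740006ae1387d03d6002357098d600033571ab44a0060009ab0481e93569ab0786b00001aac466ac00087a0d56223560008d5c6ab1087bcd5c6aa1b879cd566aa1f00003d61e83550f43dc6ab3550f0d586ab159abc0046ad356094006000355890d5e00035588cd580003ff9aac701f53571aac6e0000faa000d56363ff1ab0d561d0fe9abcd58410000008d5634,
  nat_lit 0x1ae80066b835b89400c00135b090ff06b735b074d7400035a88cd6c0013fb9ad4706b60011ae0d6a210ef1ae0d68370f09ad4d681f0000774fec6b41b1fd0d6a6b40e8000d6a2e0ef9ad8d6a37002800cd6c330040028d6c300010038d6a2f0071ad05c0020f01ad07e00d3598acd6800d3598b0d746b215800400800b3590a40166b1140000d62270ee87540046b1131acc0066b135809400c0013578903a66b03578f0d6600035708cd5e0010e91ab8446af0011ac4d5c210ec1ac4d5a370e89ab8d5a3e,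
  nat_lit 0x69b0c566c40069b0c586ca3610ac0020040059b085200b3608a00006c11387a43c0002360898d860033609b004a0060009afc481de3601afc786c30001af8466bf0008774d7c2235f8008d826be108790d826bd1b8774d7c6bd1f00003c01de35e8f43c46be35e8f101e6c135f0d400000235e8d000480835e8e801200b35e8c000400f35e0bc01e6bb1700083e26bb168038d742b35e0038d742c3611ae4560000008798d722a00080100166b914802cd70280001ae04e1e60f10008d7039,
  nat_lit 0xd960023669b28421d23669b246e1cb3651b247c0000e70730d923d0e81b28d923c3668004d966ca128770d966ca1e1b2c0041dc3650880041dc3648bcd940023661b24421e13661b206e1da3649b207c0000ee876cd903d0ef9b24d903c0f907b40046ca1c9b300066ca36489400c0013640910226c9364074d9800036388cd900014081b1c706c80011b28d8e210f49b28d8c370f69b1cd8c1f00007a501e6c61b2034d8e6c60e87c4d946c72080000046c61a00083da6c61880200146c618000801c6c5178038d882e00107b0d883f,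
  nat_lit 0x3688008da66d0108760da66cf1b8740da06cf1f00003a81d13678f43ae6d03678f10346d33680d400200c3688bc0186d0170030da02b3690030da02c36c1b3c5600b3680a03b01d30011b44726d30019b44da0250038004d9e244051b40d9e1d3698000d9c2336780090126ce1c00083a06cd179b380046d036688439e6d03660dc3a46cd36607c0001ce4039b306c8053669b303a00b3668a00006cd13875c39e002366898d9e0033669b304a0060009b2c481cd3661b2c786cf0001b28466cb0008730d9422,
  nat_lit 0xe6dd36c10400000502f95cdb600136b9583ba00136b954db06d736b0683b88280001b58a882736c1b589a05c1260f1c98e55853fa9dd48e9e849ca09cdae6d62980003c06d6252098db600336b148dac00236a8cd03e0000009b54a200036c0760a06d60001b509e0000260134da80638921712aa9f42a616414e2a414f124cd0426d536a1383c26d836a904db21dc36a9000041dc36a0c400e00936a0c000400b3698bc0166d21700083b86d21f8028da22b3698028da22c36c9b40560093688a00006d113876c3a0001368898da60013689b404a1cf3689b40786d1000873cda022,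
  nat_lit 0xdce067318028dce00036f18801600036f03400a00036f0b000672e36f184e5400036f18000000102f17c0026e336e9b70bc0603958004dba5d0021b74db81f0001b74e525c0001b74db63100007612984aa2ab16c953056626425b047405e36d96c3ac6dc36d91c0001d90eb9b6c8c1da36e1b6c8a00036e846ca00000009b6c5a00141a0e249585522d49714b1e51c228a3c42346db2d00040046db050008db4160011b68266db0011b74db4090f21b74db2430ee9b68db24700007803bc6d9230788db46d922803cdb4130009b682c00c0011b68b27220001b64b005f0008008db244,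
  nat_lit 0x41dc6ea3300300026ea101e5cdd46e9238000dd40093280001d80e73741181da2d64e71494b56ac92e92a1898e3a50fa9bb8dd0644271bacdd01c0000008dce1a001211cdce18004802cdce17000803cdcc0a0079b942c00f37284c00400a0079b94846e60071b90286ec37184c00c6e308000400800b3718180166e2088000dc4100f5079c0046e2079b90dce00237083800c00137003506e6e1370014dc800036f830dc000141b1b7c166e00011b88dbe090f11b88dbc430f29b7cdbc07000078506a6de2120ccdbe6de028000dbe10,
  nat_lit 0x37d1bd42600437a84000e6f5089bfc0026f537000cdea6f43680280106f637a1b01d20033799540000010078f800279a0719bc80c0070021bc8d60e337a1bc40a0e13798004de25237a1bc4de0350001bc8de03f0000824754a392c617b8bfe5b429510c91b80e03781a840c2010011bc01e6f237a8008dde0e0028004ddc0d42a1bbcddc053790000dda0c37700010a66ed0587fcde26ed218808ddc6ed0380003fc8533769090a26ee376814dea0013770dcf446ee37691c0000010059a40020f00779bb0d000a0058004dd86707a9bb0dd64500000040223e,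
  nat_lit 0x87a37e9bec9a7e849f2871540ae731b9875586a5e4cfa1e8df86fb3a21d400000137e1440006ff109940dfa00037d93c0001320989becd07e149ba855532ade31a1859584a5b4ce21dcdf86fb39800000600737f99cdf800009d9bec167e10001bec8600037f84d0c600337e1be8e42200021be8e200037e04c8266700000004df42d00088787a25052d92bb0c405ea54a28412647dc37d1bc0020030049be80c00937c8440006f908085441a00137c92400a00137c0344146f937c114df800037b830df00001051bdc9021237d9bdc8620b37c1bdc8e0001070830dee461089be0dee4500183dcdf0150069bdc2600237d8024dee4637c0020dec14,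
  nat_lit 0x44e08160018898e084a0081c0c260030050040e0642382003ce04143851c04260010010878e02120029c0020001001802ce00060059bfc2200037f8404402190009bfc920070009bf81a21637f9bf88a7020001bf4186fe0010858dfa480010858df80a37e8008dfe6fc04886cdfe6fb218850df86fb23800042e21537d9184326fc37d91401a6fd0009bf08888037e9bec380013831bec1470937d04000e6fa099bf0dfe6fa3a8008df2110011be8222140001becaa21443d8000df654,
  nat_lit 0x2271417000000271e38a1f40040070031c503c0133898a00040183898c0030712170004014712391c6ce222e38a1c445600d38c0008e223d0098004e202c0721ee00027102e804000e0023879f000000a3d99800140153879c38520023871c34f672038c1c348e00f0091c30f40000010054f200206e9ec0e16060038384e144b0080004e142006d8010e127800100040161d06a1c2c00870829001ce12707209c1c004706199e980000013831440007070689dc0000013828b40028951f31490ba4b1d59517a15324301540334e0a760010044e0a0a,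
  nat_lit 0x1c8401200138ea14e4400038e21000e00038e20c0020020e59c71040070eb9c6cc271c0019c84e36810e3801ce34470e58000e3480000000c3925f0019c88e327182f0000e30273901c68e30350e6870c00271a3f8010e347190f8000e341c12e0000e3471818800047a9e82a4981169c68259d9730a043a242e9c60fc23b38c9c608e00011f88f0e30461209c64e30450141c6c008719221f30e367180e00000047170d00081ea7170c007ce2c130009ca0e2c0a3949c542001f38a84c0207150b1c84e2a130061c54200060041c78e2a22,
  nat_lit 0x988e58728218994e527280380004c28d83941091ac7293940143d672b0011ca4887413959ca03802139404c0021f2394028e807270b0088e4e1139a9c9c2201b39385803272709801ce4e1000000204c4450020004e4e726448004e4a280009c98e4a7a3971cc8e4a41398806c004725441c94e482b0001ccc3c26300c9ccc0027233109684a600139197403200239103400000212818000800e0049c846c0110041c805824f00a00010e0003970050e58863969c9c00471e110000e3a2e,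
  nat_lit 0x1600c0011ce0ce00639c8008e6e210c79cdce6c0500000040243e000a12ce6a660060004e6a200c71cd4e68070001cd401265000064831673321212c6ee4ef2eeadc97326ab5ae961488a27439c9ccd148f239b1ccc380000011cc8340024759cc83000a0061cc82e0010081cc41401039805802073009800c016010398108e6200f397850e6e72e09800400426a39704800c72d08000400800b39681801672c088000e5810135099400472c079cb8e6200239583800c0013950351b472b395014e5c000394830e5400146c9ca41672a0011cb0e5209,
  nat_lit 0x8a1c8c85b733c1b6cdccb9459faa8134e85d39c2300020030041ce00c00839b8440007370809fc4ee00139b92400800139b0344e873739b114e7200039a830e6c00013a1cd49027c39c1cd48600013c89dce6a4613d9cd8e6a450001cdc3ac770001cdce6a3f0000a0c89cb0932d2ec97846965a494787761d339aa2c50027b0001cd41e8f639b1cd40a28439c9cd89a00239b858e7a738098004e72111419cf4e74431421cf0e7645000802402073c211d0ce76130041cec200130009cecdc19d0009ce90e7410009ce86e19e39d1ce48e0000008030d20020c98650e7006,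
  nat_lit 0xe8c0023a28cd22c0000009d14a20003a40a44a07460001d109e0000b685b8e8806420a63553eb4e5d6af757a6b9b59629752307453a224800000400c9d30ce745000a1c8e88480071d14e881d0d40000e86430001d383587800a1d20e84720d386880027423f8010e847410f800001e1a02e1d20002740160a30e8a74026801c00c73f00800000273e0d000451673e26000c00800c39f24452200c39e9c45167440051cf5200010049cf11e0033a21cf02a0093a11cec9800b39d0440028644d72a9d68cb9d3779b7170eb18524a410e748e3a09ce42285e0001ce48e00039d06443208d0000004e702d,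
  nat_lit 0x3a904054c29e0009d48920060009d441a29b3a91d448a7550001d40187510008a6cea0483a88008ea6750048a88ea674f218a6cea074f23800053c29c3a79185427503a79140000190c290c0000010061d3c540160079d44e9e940088010e9c5942b0008e9a580000004306600009d5001274c1e860c0020023a61100147503a59040000070c195ce9c0013a51585320013a5154e9674a3a48685309220009d24a80060021d24e90944901d28e904d3a50008e8e840be8d809f261635d1c457b0ba2599a99123e7483a3a4ce947480001d186c00014c9d189491d3a5800ce8c52,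
  nat_lit 0x77015f2580167690001d887a0100038008ec47c0000029240600050054ec4761148008ec27603d8b1403076038803c02475f3d00000040153c80084f891d3af01800e2803ae92c0200013ae8804f40043ae1e00040010058744e675e0021d6ca40073ae1d688275a0011d64669130000004eb2510001d684e0770000004eb02d000a4fc92a5ef3591c78e887025d996b08b626c3ac2540040103ac0280207570b000c55875725003ceac13001802801e756211d5c01c7550a1d74ea8130008008546754090014ea610000800c014753030028ea411,
  nat_lit 0x4080040f0eaa151803c3e29c14d003d1689e49d0039178a149d80383c0a914d003517ea845e00354e0ed006006d4c113005a9527400a0f626c3be00a5212040121dd518a380121e25124bc0108ad508a200101dd5124ac00e8ad508a3800e8a84f24b400c1e3500ec000a2894e27b000828a4f89f40088ae4f09f40061d44e8ea80049234e279800227c4d8ebc00027c4d27955da65137daeccb1c41f11d85180007663b480244f0990001d98288980000004ec8150008055252a6848a04c105882f4d3212029883b3b225c0020093b21c8eda763171d98ec62b,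
  nat_lit 0xa600e521e88020a402600495c049009ab008c015520804030ae02080654e20c00ca9025e0185a2334030a746a80615812a00bacc3f001757235c02eac08f00596282200a9e756479200b290f2801553840c0287924d080c02aae41500516210700980e1601f400a29103801401cabd1840145607c8028ae07f804c062ad41400494a8c00092b11760125392280221e75587d4022a4,
  nat_lit 0x151c0221375e859c022177622c800228505f94b80200306105e402014b5fac600201366194c401e027612c4001e0335f2c6001c84760ac5801a1426021cc01a85a5f055001886b590e0c0188495c85c80181545fa15c01616e580e200141514fac240140375f14f40121225e94d801084e518db80108415c8db800e12b5e276c00e1325d8dc800c8435d0dd400c8405ca76800a12c5c0dc80081275b8dc000883e5ca75800612b5c27480041225b8da80021284f8dac0001255b051427211800081006060823e41f2519aa1601300a024eb5,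
  nat_lit 0xd1601c04328cd1e01c0222e008801c1c5a8860001b1cd274d2801b01e2ec32601b529a0003603b5c0c040363925101280349fb542220034b3345806806abb02080693e89e17a00653f8a84ca8064714a902500613eea85f38060068c52ae006029abe0c000616288400c2cd64401801baf42fc01858a21402e17a5b061802eb11c780583069c0b600582fcc44c7005870ea902580546f69d2a300513169a3428050066c55eb804c066bc341004909eb72a08048050c3,
  nat_lit 0x75a0215710bc04016f610eec040a45a78080138bd2b2808416cbf1da00855ca1d010ab14d80200a3318aca021056b0542c021539080040151612874040ac1d580815ca180102b084e01f43f304aae01f401b0d81001f0293140b00215082793660201d628113202159869c044b10d00089621a0010a94752021570e74042a452e00802b2be213007c72e9c031807c71aa21878079422a86348078fc4bf3a680740fcab2a7807410cc1,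
  nat_lit 0xed803aa10640e0c0383c34e8e28038a394f0ed0036a1164a50803818b5c8ebc03a37d5da824038a3750a8a003837f62a824036a3050a4fc03a16662a82403a3bd548ec003837f5c24f803a1725e09ac0408955c0de80403b251289003ea035d160003e82061a8c003ea71e6007d4893901285e57444201205f56c3bd01229088e0230b030c7620235729fc04416063a8d0044ac3ec808813ec86438088140c24fc8088742a950c00846e0bc5a78085020bd5a8808417ec7,
  nat_lit 0x28e0048ac445808c240c652d808d585820110599863b201129110602108a2f94a4021562dc80401675f060c04010958292c040a41ee807d5c57d00f22557e14700f0451848a100f03f5548a400f0415643ca00f2b16ce01d44731c28001d429afd47e01d1c531471401c1e927513801e42a2a84fe01e4592ec4f201f451aec50402045232595002147eaf4ff00201012acfdc01f101b28fea01f412b2078001f560f0003cae2b18075108c109880741f0c3,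
  nat_lit 0x293405417b5d002c25802a6784a0054b400a21f0054ce09780a5663ae01505e99000743e80a99aa560152b02d40294413047f80295200590fa02965a1f4050b40cc00a0246a646380a0242af0cd80a025ab063100a046eba3d8809c4669c3da809c456bf3d9009c45cc13d0009c45cbf3d78099246c25bf00a02fccc00b2194050cb1df00a14889201384757c3eb013a90b060260be3094ae02652297c04aa75bc00902eabd4480090240bd0c4009024aad,
  nat_lit 0xb6a0135a3b0cba00134b1b08e440124b0a7d1ac012598684024b14670049628d5008ad11a00135a0648028b10c980596218e00d2cc32c01952850c03eb40a0807d6214d00fac576601f134318e2001e131270e2201e128ae0e2201e12cae0e1001e128aecdfe01e4f8324e2001e129aec77e01e0c62ed4a20220c6ae87820240c72e001c890012b38294024528ef404e1825c003d102028668ef805217c64007c2680296584c8050b1,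
  nat_lit 0x18c0022be5632fc40226345330080205f26125ac0208e96309b80221ac6198240226355530000205f8612b740200674f3000020be15f981c01e6355909b801e1a861123001e04d4f11ec01c04a50120401c04d68120401a04d542b7801a0566811b40180535011e8018057681200016057542b5401604e6811bc01404b50152c014b156600280ca9e56a00240caa15e400244fac723e805405e9e56300500589d2e9804c8f4a32ea004c4eac12eb004d2d2c32e5804d2c6c32e6804c4eabf,
  nat_lit 0x77500f2c557864e00ead19ce01d55faeceea01d25e2e8ca201c5a3378038abe5c018c038ac03700715cccc00e12c99066100dac4ca001a5a1e040344395d0a380341c5619de003443a5d1de40326154d193c032b33b10060caca302380614e06600c29d7f40176092b4c88016302af52f801647ab1d2fa01647c3180c801656191002abef63afdc028c0e5801ac028a7607804cc0ec33068048c8ab213b80491d6bf13c804836ac23070048c60aa,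
  nat_lit 0x30e802e2ee5eb5900309106399400329cd5fb0c40382e25f213803a1d16130cc03a2ec5ea14003c1c961996c0409cc60a1140449126081f0044a441e80883aec23d4808889cb960f008566ce9011134d92c3b010ac4efa023269ae4cf202258b0d0042a567a808559abb03780854e069010ab0f3202222a2e59de021567ae0c52020589de0040b1b62b0b803eb13cb008088cb9606807d6676a00f93017266400f2cc0ba01e52018403cae,
  nat_lit 0x601003d3d8bd021003c3d4c62fc003c5f6c12fe003d3cac2014803c3cabe300803c5f8bf021803c3cebd2f7003c5fac1014003c3eabd01b803d25ebd685803c3bab9080003c5e6bb072803c5d8c93cd003c3dabb28a003d268bb3d4003c3acb8074003c5e4b8684003c3b6ba079003c5d4c807b803c5ceb83cf803d232b8076003c5d6c93cc003d232bb07f803d3acbb67d803d23ec567f00403ccba6b480403bebd33180453b4c132f00493aabf42e0051230bf34e80583e2c36b400583aabe,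
  nat_lit 0xad800a2b0a100145216800262f05f108c026ac21300495cb5c00929d77c0114f5afd6b8011562efc0202ef610e9c020b5c5410280204234eaad402041d54a9cc0204f2548d34020b153600409eea955f00407f4b91fd003c83c9d1d2003d69c9e556003d582a11ff003d5869e1d1803c9f29d1fc003d586a81cb803c9e69d1fd803c826a21ce003d6929e532003d694a101f003c3dcc7304003d3dec3604003c5fac701f803c3fec7106803d42ea6027803d258be,
  nat_lit 0x20c00180cd5fa0d80169b05ea0e401628363b5c40140de6320bc0140df5fa0bc0122856335c00120c663b5e001028560aa3c0122fe5e1cc801206a62b36001a0735d9ca001a0855e1cb801e07962b34002205b5d9cbc0260785e1c9c02c0635e334002e06e5c2dd002eac2d380585f2c32d38055400c621c80554843200aab086401457141c028ae5e8804c5f8c32d180505febd55f00515843300a290b500144f93195ac014562b60028a72d100505f6be,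
  nat_lit 0x8039a65940089681880075ea00417a4d24338040cf0c15ea0040b0e00d68af6c01e59863368c01ec6f5e9cb8020a8164b7bc0204845c23b8020b205d33780203aa5e37a0020b22641c98020a7a64a378020b225cb358020a7e5c9c7c0203aa5da35402048c62a38c0204825e3350020a785c9c4c0203a55db784020b1764b35402039a5e236802048262a830020b36c000401ccc7422803d374bd6c3803c512bf41300381a0c14200039366be41780341b8c16bf0034514bf41400301d6c1,
  nat_lit 0x2ec01b0faae9a1201b3a52eda0401a3aa285aca01a3c82a4fb4019692284fc201968fb40fce018693aa03c20080faaa42dc0070b42f19fe01867e320fce0183c3289aaa01768faa19f401767da802ce0170ef2882f40160f4ae8b5e015528014020d36a88050edaa26ac804da40a16d90051908be6d98050d00c60089678028be16b8014b5e0132d20029ac87700999ed8200c2d3004cb30d5436804cd00bf5f300017b6bd0008049a6bdb00196a5607360011668020d44308044cf4bf6d200458e6be,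
  nat_lit 0x8054d369300a94888801497c17a71f00b1ab18ecf500a9a6d8400e007b4d9e40036502fcd5400238cac802401569802802ad3008008da6793012ab801869b01218b1aed450122b1bee023629b05afc0236a0b40fd20223cd280ff00223ca2a4ff00213d2a74ea602168b2743300211040001b0009008b4c30001f102ae8ff601f3d1a88fd401e3cb2800001f200f07adb200200934c30801c0c6aa1ad001c69527833401c0f7003db018a00d882d7418600e07f400ed8,
  nat_lit 0x1802f699d0407673b63b450074d1758008ce7a024359348e7402466031c030cc8011b449bc01039e80e4d68d245380e4c0ebe6f580e587cc170d00e58e6c143c0019abcb901b9f0400a8656e8028e7000432035d0e40033dd8089b6dd1001b55992d1100131718e00e01034c016032698004064d347100c8ca6bd3950040d74c7681003d95ac168200c59fec339180c0e58b244500c0bfabd70700c0c92c34338015aa0b90171ed0008db96e1cc800662961a18c0047ae013351b7e0013d78065b685b0001e90022da,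
  nat_lit 0x1148001272ae804603369807c082d300d007da6891005b02d76897005304d7875a004acceb4044645a6803802669b9f80884875cb8fc088c955f810daf8014440b88cd20135980a0ebc0126423851160213ebaf000075801031f9aa00d01b34d21e04033c2f9c0e0406292fce9604039f31da4c041367b0d20e0413392f5bd60023ec2ec07ed72000a1bdc4d2a000196d7a02401f34ce9003e3662f800cd1e01e9b31c21cc01f2b1a3603d39d2fda2c03c3a100a1c002636300f0ca2df,
  nat_lit 0x3a5008c48164ba4408c47f64a6c008c4b36425b408c8fc6322b008ca449a8114266c772e8110260c270a81116b8bb01122900864a57239ec088e3a61385c03ab575da66008e4b164b75c08ee0a683850026ba05d80a11300120663900768a10231701c801a44e0119846e374381188e4c84c281148caba4d101156babb73901151ecbf6ff8115588980222b9ca0043098afd254042098b19bfe001247ae403001d698098080d36e48109138a973c81108b8c84bb010d650bc6fc800817cb9,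
  nat_lit 0xec50282e498aecd0279395929b0027ada98ae3c027b169708de02794797201e02703b9929c30272e4170ea1027249d7ee7c02705517e95302685457a02171600bc98ae571a00b8970c946a8134a22b901381301e4c943b0131c549e46a812c0f6bc015a3200985d86ca3200965e85d21d80968c35100a118a04b25936518a04a5b92f119804b2ee2e403c04a61fae1c4204a61d3151980492f12e91780290753211840285daaf0020e1b0240369cae23023aed170e24023b0f976e1e023aeb57602b45681181bae4,
  nat_lit 0x147800125d8085d6f1600012e407eed0000169a6a1b00092d40b2ec00b8135a604302c34dd94005693b0d37000438d00cdd6ec40019c5808aea0038091a6ebd02a83b184026016b4c0080210293a400001e69a5d80022450133a1d32000121b0804205369a6580a624400039c03602469a6540a23ef63015c0a4b44a9814c35ac24ec014c9c6c946a814d48e91029055d7e96c028855d8c8e802912f972028028ae4d70998028b9ad7cea802824bd8201346b814171ce646e813c984ba,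
  nat_lit 0x1406769bad80d21e75ea95800618b63807148a0020c40011e8a52000a438048eb794000121804c7980200cad350a8004ab403c6d800026200349638800e06369a75800273501d3c93a0000398814db601b030b4c00604f69bad40c027601a3c4010017698074088d375c017850004b78264c0ba27e5ebc2c020b9202ebbd2ce05e0eb30dd5805d54fb1943a05d76faed3fc05f736b213fc05e48a2f1c7e05e093ae932005d6d4b3001602e69bb4c000bab01b3b801605b69baa00ba185608004082d3,
  nat_lit 0x101e8400259e80c5f000301734dea000065c01d5da01f014b4c03e04c026ba401af4c00095e408ef700701cda600f03b34d3e80016b00191e401b020b4c04007469bd280664f403a3c932a0750fcb0d3480741c53094720744fbb251d60750e3aed1f60740a032545007474a2e800000902b3a54d20025e68001e400700434de7a0002848125da00003834c000e9000414200def600500fda600b02234de3a06e4fd2e401205669bcd40024fd0003d401203c69801002406b748028076d3,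
  nat_lit 0x180e9a60002a30005536ff00080d9a6000000b4c012f5c0019500000fe003015811ae97b80004a780007a8118106d3007022da60567ad805c8aa0657e803010cd3791800457ac20010091a601a04434c014f570010a980c8f80010035a6001002b4c00000169801d4d200532c0001f800100834c02ca72001912dae0001600009504de003006808a0797dbd7800066103cbe801207f698064072d300705a0016a617129e800476800036805a0686980002ae00151e3e406007c6980b80f8d3,
  nat_lit 0x802d69800c02cd30002150002f948180f012ad30000005a6f9200021680b8da0010285a600c54b8129312e60062a28092ede72005155e0487108279ac016026b4c02c563001aaca04f8b0013084000da0168145a600060b800d51ce200701a00d6e9003811011ce90208109a601300a34c04e02869800c00cd3000045c002a7d71001c03c04d03d3ec00002a04bba400aaa00000b6c036f40050059a6068542803c8c60108080e5d78004541c014ec0034acae0006062698014026d300080240b4e9,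
  nat_lit 0xb2a880441c46c8079f3e02111841003cfb301021c8137070082af00025186b8015f5800028cb4803e02b698041538012538b6403a051698039534014745b9802cf97009ba420800e4f48049f4d067d28000a2ac600c008da6fa300089597a0167d48000b100a7828000160d3007be40000587057bd8026032057ba402402e6980015580013d8b5402008e69805803ad378e82bc4a0be534000d516a2003be20004f5b82002c0400a274802801ed30048048156e90040029a6007004827dd2a840028661900007c0801043504,
  nat_lit 0x140b569a310000b300002d1a603c7de80013b40b37b001c166d30013684166984818000ef20b2778c2001c0186980ddf700010ef4280400216980e80a8d301a3ed4004a870553d80700516980dc08e08c7480d809cd30183ec40069318200ec0d4099748010018099748005560002622b640580b2698004044d301781380ac0b47d80001fe00155600821202403834c05806c05aba4056040028ba4000ccd05d28361000e008b4c01afb400009ada401005c34c030aa400dbc25b20207d0806936704,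
  nat_lit 0x13010002c28b0f011a6ac01e0007caf5806cae0182b7c00267673016dfb8000336c280000a669810dfd400014f029618015052b4df140a5507af9c980a541d2bcf200a5420abc0b205c6981600d006f7480a0074d3002804803c9fc87253416266064802408ad302001dda60215680074222e60102b3c03a0e373000c014d300f2b34000bc7730224176d300f00b9a600057900b801000686812c0a2d30253f7400065a01dc140000b86980b5fa800114682de180477ed000083208f85804016cd34fa8000002a6,
  nat_lit 0x8980c8000a627f80cd6201901abde004aea00f8095a602f01e0105cbb0f01700ec098ddc870068036053783c1001600d02a347a2c0030040159d6b1301500dc0aee74870020014057798c5802a01602b26ce1400100134c00a00702b15be2c05462401540040008abdc804e001590000038df2630a8c0aeb4000000806cc477280a52f405f000c5001800d02f3c021468300d2900a6ffa030a899a401c0148001ba50e01d8195a601a0138195cc10f027bfd80c887989bfec0cd127fd81a2220160118035d470f025bfc80188d8693fd80c310,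
  nat_lit 0x2004809ceece50010011a600000380993eae50020015a601444200940040018d806003602543bc39ce40240002c848a0255a00152760250008002346a50110001a061f0082b0040025013165e2601100a009dc990f0008018050eed82000000a02849a428000001698058d44028001800232000000b4dea8027000800230767014800142da6014ab803a01f015061a2c01c00f0001dbd1600500c1a601a00e0028d22e501280010dcb700500bda601000a34c02c01801886922c02669280c52fd170000005a600c00880c9d3713,
  nat_lit 0x40015a000c004a700196740080008f9658008b3002320c00c0008a355c00ca400380200165fa72802001200b63c41000e008005b312080000018038b431300720f401e0028f002801600f63fc3c01200a008229a1c8a6007ad000c6b700880023acfc006290014dce00a8001b865f00aa9c00600400a9f2a1c00800700598e7130008008038df987810003ad3e6000643e602000047106802059801401802669f45803e022013a0be1c0010038099c9113]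
theorem S0_c : blocks (facts 11 3 14 25 2047 16383 33554431 13 8191 9 511 A R 32) 32 JS0 1496 = true := by decide +kernel
theorem S0 : On (Step.{u} Rk77 LW par A) 1496 4440 :=
  steps_of_blocks hpar hR S0_c (by decide +kernel)
theorem D0_c : allB (defOK 11 14 25 2047 33554431 1497 A K) 10 2 = true := by decide +kernel
theorem D0 : On (fun r => defOK par.W par.WL par.E par.mW par.mE 1497 A K r = true) 256 1536 :=
  On.of_allB D0_c
noncomputable def JW0 : List ℕ := [nat_lit 0xc00280be02d80b8]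
theorem W0_c : blocks (rows 11 3 14 25 2047 16383 33554431 14 16383 70 A 4440 1 cols 25) 25 JW0 0 = true := by decide +kernel
theorem W0 : On (Row.{u} Rk77 LW par A 4440 1 cols) 0 25 :=
  rows_of_blocks hpar (by decide) hcols W0_c (by decide +kernel)
theorem idx : Idx.{u} Rk77 [[0], [2], [4], [6], [8]] [] 1 :=
  idx_of_cert hpar hR (K := K) (by decide +kernel) (T := 1497) (T' := 1536) (by decide) D0
    (subs := []) (by decide +kernel) (T1 := 1496) (by decide) (N := 4440) S0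
    (by decide) (n' := 25) (by decide) W0 (by decide +kernel) (by decide +kernel)
end k77
namespace a30
noncomputable def A_0 : List (ℕ) := [nat_lit 0x400c7e9fe53f8fe31e27e88fa3f067d9f663e8fa41a87c94f83e106a9ee43d4f611e47a8cf03d0a799e643c8f249a27890f03c10649de53b8ee31d47694ec3b04729d673a4ea21427488e13a0a729ce6398e611c0729ce4390c701c6237ce239c27094df380e6f9be134cde39b66e9055370a6d9b66350da29b26c88d03608241ae7348d629a86a905035082b9a6233cd2119c6888cb340c6519e2324ce399a6694c93308271964110ca208664904032066398e3280c6313c628cc4310c5018672d0c231826084b6300a4d97e1158be31365e84ba2f064a97632a0ba39705c8ca62e065b96e324cb631625a8ca52d064f96632c8b2313a589cae2c022b95e81acae493856a06c2b123c9562258aa31505488a82a0a5314e2298a6394a528ca4290a519462288a248ca50844028022813e32789e39384e8c9c27084d93680b09a49104ca46026121812e52589609284a949425103892652489240e048a48924101d11e621c8e2912469483230c4311662288a10fa4488802204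3c90e12188610f6428c79210240906120882390240887c2012338fe51f87e30fa3e9c7b1f0a3d8f681687a28f23ca4731e021f0ee71d87630de3a84641d02370e641c87208be38906f1c02330de20dc6e38d8368c2d1b0c2c0d621986a20b03484651a0a310ce51906638ca328834190c300c6418862186e3090601806180be41645e20ba2e8c2f17082d8b611685a105c2c84581604158ae71485618922a8c48150c288a6211052108028884214121089e31044e389a268c40130e2589631104a188424a42712062388e908046408a229c44111010086910842484420984010100f87e50ec3e38761ea41b0f081d876806c3a38721c982b0e0e1b86e108436306a1a9c340d0c1986650c432386218902f0c0e1785e10742e205a169c2c0b0210056106c2a20281494240a0a1304e404c262032128821090410046708822284010881f080e0f83e403c1e28380e900a070804036401c1a302c0c9c17060c0a02e604c1608220a8811050209026903012282208a40d040e0781e80340e201a06880603060281620140a281204a404020e0380e800c060808028403010801006400402300200a000,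
  nat_lit 0x1988338c2119c5930ce1c886717ca3306a31986330ca2e1465188e3207021906308c42f14630cc6318ba61885e38c22e18610c86308ba71805b28c02e1c5f0b062f86231785928ba168c5c16862d85c216c5938b62c1c5a16062c85621642948ae2b1857150a2b886315c4e10ae281c5611862b04881545330aa289c5511c62a8a671504518a8122453148a29896214c2148a4282052140c2909a21482940a228145112842888231404f10a012a04f124e27850913843109c25944d125026094613045109824204b099225890612c284094241c4a120a2488c2124264090231447110c23884711c44488e209c4610cc23046811823488a21184510ca228805110403886112443104a2108281001f40820e243f0fc61f87c80783c407c1f083e0f0a1e87690f41e40781e083c0ec61d85c60e837287415043a0a421c87050e43030701b103809021c05e60dc33206e1304360c8a1b06670d82c286a11043508c21a05a50d02508661698320c081905010c82708621618310b8a1803c10c02b285e0e042e0ace1703e10b42b2058149c2a084a1504630a82710540b10290a041484430a42738500a902808841404a509c23104e129c26090613040209817204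a0f8825084e1203440902230460f9423048811822408818204210182004081003e607c1d383c04901e07860f03650741b38380e081c06c40d83210681a283408081a06460d02a60641018320b8418060a0c00c90600f10300b8c1803c60b82c901811102c0a8c16050e0b028505809082a07201504ce0a826102814480a0a081304840a024304c0b4024089c1203cc0902060440b482008141001c208010103c0f281e07040d03460701860380c281c05980d034e0681650340b081805900c02c606016702c073014041809024404808902008281004080801ca0380e301c05300c031006018e0300a501805200a029c05010e02008601003280802080400ce01806200c0208040114020010010047008021804008401004e008025004011802001c00000c00000500000200000080000020021e34350e2218869908430685a1654290a3a12849104420a83a0e8399062a0a82a4ed410280a0673cd0239e480a0ce,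
  nat_lit 0x185061966630c9c19864e88c32e42618a61308bd11844e90c230505b9404304be19825f88c12d0a6096642c8af21605988c02ed06005a9300b219805e98bf2f845f94072fc7a097c5c24be2f52520d492f49b117a5914bd11025e16882f07549785318bc2dce5e14252f0ba197816a0bb2b8c5d96c72ecb929765d249e0d925d17262e8b129744a8cba0d505c96a72e43149705a98b82b8a5c12632e045096e2f24b7294c5b95452dcb5296c5108b628c65b16a826cb4096a1620b529065a8ea82d0b031684f0cb414825995082cc5c4966581cb32c42590da92c8a94164579cb22c501992832c4a111625824a619925815e22c0ae095e4f98af29d05795c32a892195c1924ae13825692232b4ac08965594ac25c65613422b04d09563f20ab2a82218c292a8a139544908aa248c548da82a4a729522e20a8288e5411c12a0a7312a2504a71ad053948729c66414c4484a62142528be8294a2294a3520a424cc52090129049094651048f1d1051928628ca131444a08a118d25094091c4a041284e94a027d04a8aa127c72413e4e9c9f0d904f0f212789d412438209d2712190a212747f09384d049b264c4d12e22686449344c843c26044c904926485412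e4a849725924706e925872492a499c95248e4a0d2924c900926488492240a4887292448f412042948f0e904791c723c7a111e1ba08e234c470fc22388b191c439c8d23022311052307a1918458441200a459045228394112429c891fc444884120088088e322088208c4410072208511101724871ec443908521c5b490c4094860e104290662148339083c08832090300f032088031023f8c801b103f8f861fc7938fe37a07e1e8e3f0ec91f47828fa3c1c7c16123e07611f03f08f63d187b1b903d0f061e47748f03998770c063b8c021dc5828ec2e88760bc63b0e421d46128ea328c741b4a3a0c821cc6a08e6379c731b0a3987031cc6b30e41b08721c4e390e051c86928e22e047118c63886621c46d30e0308c700c84380d271c06d08de37146f1884378b461b83a18dc34086e1a8e368b441b45c18da35846c19c43607231b06b20d835146b0d44358be31a82c10d42f0c690c44348ce71a03a10d02f0468,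
  nat_lit 0x3c01981e02f80f019007801f07c05f03e03201f01620f80b607c01283e02b81f005a0f802007c05e83e03101f00421080c508406204202f421004a1280c107c01604a01d825016a12802609403184a00cc2600501280bf09401684a01a83300be1980a00b006385003142601363b00a10bc06104c012026012413009d09801889001c02c00b82e00b20cc03685e00d03401841280360d8059850015426016013004b12c03a89601cc7301602400b41200330cc02d43301821680b70b401906c018c6301541900b718c0350b801c471018e3980921980380e601d45f015c18809d1a805f8aa03145500d85080bd1a80598b802905c00c23a80920c80528e002d44800ce3880b21b4050124028c28010a1b00380d004e04401e43101361600be18405206603002d01905700b61a80550c2024c6601885980bf2c806393803089b013a3a80b019805a14a02dca101503900af1ac04f92602909401522500970d806306a0278b501705880bb2f406194c02f095014e5c80ba3b80779d803b4e501d072a10f438687a1c14390d1a1c76210d42c8869ec1430f40a1684110a3cc2852061425043a1071a508418c839ce841904320a75a5044088819f81408fc2202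6821003fc8801a493fcd749fc7e90fe32927e9e053f4d941f8789cfc36d07d9ee73ecf839f47a94fa35927c9ee63e0f109e46e20f73c467b9bc83d8f621ec7988f634d27a9e223d0f211e679a4cb3c0c799e253c8da41e25310ef3a04779ca23b8bc21dc7598ed29c8769d033b4e331d8739cec2548761cc53ace219d66f88ea38ca749d01394e231d05c90e83906739c67398df31ca5d10e52e08721c05388d609c46a84e12b8870162437cd119bc6e04de36c26e9b87374d531b82890dc36466d8a8436cd731b46c1cda12886d1986364d139b22610d9344a6c19e535cd539ac2b10d633846b1a65354d339a8660cd432846a0a4434cc911a66614d212486919e63444b21a2659cd0114868198733c4d219e6514ce1188670824334ca19986498cb324e651629320be219031a0c728526398a631cc1398e6194c72fc86398c4318b9418c5808c615026296053149f218a5c04c42bca6217a7310b421885524c3,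
  nat_lit 0x1200000000401010a00803800400180600d803007001800501401000a02140300f40280be01400300c026c06018003000d03405901a03000d001e0780b1]
noncomputable def A : List (List (ℕ)) := [A_0]
noncomputable def K_0 : List (ℕ) := [nat_lit 0x7f9fd7f1fb7e9f97e1f77d9f57d1f37c9f17c1ef7b9ed7b1eb7a9e97a1e7799e5791e3789e1781df779dd771db769d9761d7759d5751d3749d1741cf739cd731cb729c9721c7719c5711c3709c1701bf6f9bd6f1bb6e9b96e1b76d9b56d1b36c9b16c1af6b9ad6b1ab6a9a96a1a7699a5691a3689a16819f6799d6719b66999661976599565193649916418f6398d6318b62989621876198561183609816017f5f97d5f17b5e9795e1775d9755d1735c9715c16f5b96d5b16b5a9695a1675996559163589615815f5795d5715b56959561575595555153549515414f5394d5314b52949521475194551143509415013f4f93d4f13b4e9394e1374d9354d1334c9314c12f4b92d4b12b4a9294a1274992549123489214811f4791d4711b46919461174591545113449114410f4390d4310b429094210741905411034090140000,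
  nat_lit 0x83a0d8320b82a098220781a058120380a01801ff]
noncomputable def K : List (List (ℕ)) := [K_0]
noncomputable def R_0 : List (Rule) := [Rule.mk (nat_lit 3) (nat_lit 42) (Steps.bwd (nat_lit 8) (Steps.bwd (nat_lit 2) (Steps.fwd (nat_lit 8192) Steps.nil))) (nat_lit 96) (nat_lit 0),
  Rule.mk (nat_lit 5) (nat_lit 42) (Steps.bwd (nat_lit 8) (Steps.fwd (nat_lit 7168) (Steps.fwd (nat_lit 8192) Steps.nil))) (nat_lit 98) (nat_lit 0),
  Rule.mk (nat_lit 7) (nat_lit 53) (Steps.bwd (nat_lit 8) (Steps.fwd (nat_lit 5120) (Steps.fwd (nat_lit 8192) (Steps.fwd (nat_lit 5120) Steps.nil)))) (nat_lit 100) (nat_lit 0),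
  Rule.mk (nat_lit 1) (nat_lit 64) (Steps.bwd (nat_lit 8) (Steps.bwd (nat_lit 2) (Steps.fwd (nat_lit 1024) (Steps.fwd (nat_lit 2048) (Steps.fwd (nat_lit 8192) Steps.nil))))) (nat_lit 104) (nat_lit 0),
  Rule.mk (nat_lit 3) (nat_lit 42) (Steps.bwd (nat_lit 6) (Steps.fwd (nat_lit 3072) (Steps.fwd (nat_lit 6144) Steps.nil))) (nat_lit 40) (nat_lit 3),
  Rule.mk (nat_lit 7) (nat_lit 42) (Steps.bwd (nat_lit 6) (Steps.fwd (nat_lit 7168) (Steps.fwd (nat_lit 6144) Steps.nil))) (nat_lit 48) (nat_lit 0),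
  Rule.mk (nat_lit 8) (nat_lit 42) (Steps.bwd (nat_lit 6) (Steps.bwd (nat_lit 8) (Steps.fwd (nat_lit 6144) Steps.nil))) (nat_lit 102) (nat_lit 0),
  Rule.mk (nat_lit 5) (nat_lit 53) (Steps.bwd (nat_lit 6) (Steps.fwd (nat_lit 5120) (Steps.fwd (nat_lit 7168) (Steps.fwd (nat_lit 6144) Steps.nil)))) (nat_lit 24) (nat_lit 2),
  Rule.mk (nat_lit 1) (nat_lit 64) (Steps.bwd (nat_lit 3) (Steps.fwd (nat_lit 8192) (Steps.fwd (nat_lit 1024) (Steps.bwd (nat_lit 8) (Steps.fwd (nat_lit 3072) Steps.nil))))) (nat_lit 104) (nat_lit 3),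
  Rule.mk (nat_lit 2) (nat_lit 42) (Steps.bwd (nat_lit 4) (Steps.fwd (nat_lit 3072) (Steps.fwd (nat_lit 4096) Steps.nil))) (nat_lit 14) (nat_lit 0),
  Rule.mk (nat_lit 7) (nat_lit 42) (Steps.bwd (nat_lit 4) (Steps.fwd (nat_lit 7168) (Steps.fwd (nat_lit 4096) Steps.nil))) (nat_lit 30) (nat_lit 1),
  Rule.mk (nat_lit 5) (nat_lit 42) (Steps.bwd (nat_lit 4) (Steps.bwd (nat_lit 6) (Steps.fwd (nat_lit 4096) Steps.nil))) (nat_lit 22) (nat_lit 2),
  Rule.mk (nat_lit 6) (nat_lit 42) (Steps.bwd (nat_lit 4) (Steps.fwd (nat_lit 5120) (Steps.fwd (nat_lit 4096) Steps.nil))) (nat_lit 22) (nat_lit 0),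
  Rule.mk (nat_lit 7) (nat_lit 42) (Steps.bwd (nat_lit 1) (Steps.fwd (nat_lit 7168) (Steps.fwd (nat_lit 1024) Steps.nil))) (nat_lit 26) (nat_lit 1),
  Rule.mk (nat_lit 4) (nat_lit 64) (Steps.bwd (nat_lit 1) (Steps.bwd (nat_lit 4) (Steps.fwd (nat_lit 1024) (Steps.fwd (nat_lit 4096) (Steps.fwd (nat_lit 1024) Steps.nil))))) (nat_lit 16) (nat_lit 0),
  Rule.mk (nat_lit 5) (nat_lit 42) (Steps.bwd (nat_lit 1) (Steps.fwd (nat_lit 5120) (Steps.fwd (nat_lit 1024) Steps.nil))) (nat_lit 18) (nat_lit 0),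
  Rule.mk (nat_lit 6) (nat_lit 86) (Steps.bwd (nat_lit 1) (Steps.bwd (nat_lit 4) (Steps.fwd (nat_lit 1024) (Steps.bwd (nat_lit 6) (Steps.fwd (nat_lit 1024) (Steps.fwd (nat_lit 4096) (Steps.fwd (nat_lit 1024) Steps.nil))))))) (nat_lit 74) (nat_lit 0),
  Rule.mk (nat_lit 2) (nat_lit 42) (Steps.bwd (nat_lit 7) (Steps.bwd (nat_lit 3) (Steps.fwd (nat_lit 7168) Steps.nil))) (nat_lit 28) (nat_lit 2),
  Rule.mk (nat_lit 5) (nat_lit 42) (Steps.bwd (nat_lit 7) (Steps.fwd (nat_lit 5120) (Steps.fwd (nat_lit 7168) Steps.nil))) (nat_lit 32) (nat_lit 0),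
  Rule.mk (nat_lit 9) (nat_lit 53) (Steps.fwd (nat_lit 5120) (Steps.bwd (nat_lit 7) (Steps.bwd (nat_lit 8) (Steps.bwd (nat_lit 5) Steps.nil)))) (nat_lit 100) (nat_lit 3),
  Rule.mk (nat_lit 2) (nat_lit 42) (Steps.bwd (nat_lit 9) (Steps.fwd (nat_lit 2048) (Steps.fwd (nat_lit 9216) Steps.nil))) (nat_lit 96) (nat_lit 2),
  Rule.mk (nat_lit 6) (nat_lit 42) (Steps.bwd (nat_lit 9) (Steps.fwd (nat_lit 6144) (Steps.bwd (nat_lit 9) Steps.nil))) (nat_lit 103) (nat_lit 0),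
  Rule.mk (nat_lit 6) (nat_lit 53) (Steps.bwd (nat_lit 5) (Steps.fwd (nat_lit 6144) (Steps.fwd (nat_lit 5120) (Steps.bwd (nat_lit 7) Steps.nil)))) (nat_lit 24) (nat_lit 1),
  Rule.mk (nat_lit 7) (nat_lit 42) (Steps.bwd (nat_lit 2) (Steps.fwd (nat_lit 7168) (Steps.fwd (nat_lit 2048) Steps.nil))) (nat_lit 28) (nat_lit 1),
  Rule.mk (nat_lit 3) (nat_lit 31) (Steps.bwd (nat_lit 3) (Steps.fwd (nat_lit 2048) Steps.nil)) (nat_lit 3) (nat_lit 0),
  Rule.mk (nat_lit 4) (nat_lit 42) (Steps.bwd (nat_lit 3) (Steps.fwd (nat_lit 4096) (Steps.fwd (nat_lit 2048) Steps.nil))) (nat_lit 15) (nat_lit 0),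
  Rule.mk (nat_lit 1) (nat_lit 64) (Steps.bwd (nat_lit 3) (Steps.bwd (nat_lit 1) (Steps.fwd (nat_lit 2048) (Steps.fwd (nat_lit 1024) (Steps.fwd (nat_lit 2048) Steps.nil))))) (nat_lit 13) (nat_lit 0),
  Rule.mk (nat_lit 5) (nat_lit 42) (Steps.bwd (nat_lit 2) (Steps.fwd (nat_lit 5120) (Steps.fwd (nat_lit 2048) Steps.nil))) (nat_lit 20) (nat_lit 0),
  Rule.mk (nat_lit 6) (nat_lit 42) (Steps.bwd (nat_lit 2) (Steps.fwd (nat_lit 6144) (Steps.fwd (nat_lit 2048) Steps.nil))) (nat_lit 40) (nat_lit 0),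
  Rule.mk (nat_lit 5) (nat_lit 42) (Steps.bwd (nat_lit 4) (Steps.fwd (nat_lit 6144) (Steps.bwd (nat_lit 4) Steps.nil))) (nat_lit 22) (nat_lit 2),
  Rule.mk (nat_lit 6) (nat_lit 42) (Steps.bwd (nat_lit 4) (Steps.fwd (nat_lit 5120) (Steps.bwd (nat_lit 4) Steps.nil))) (nat_lit 22) (nat_lit 0),
  Rule.mk (nat_lit 3) (nat_lit 64) (Steps.fwd (nat_lit 6144) (Steps.fwd (nat_lit 4096) (Steps.bwd (nat_lit 3) (Steps.bwd (nat_lit 5) (Steps.bwd (nat_lit 4) Steps.nil))))) (nat_lit 55) (nat_lit 0),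
  Rule.mk (nat_lit 1) (nat_lit 86) (Steps.bwd (nat_lit 3) (Steps.fwd (nat_lit 5120) (Steps.fwd (nat_lit 1024) (Steps.bwd (nat_lit 3) (Steps.fwd (nat_lit 1024) (Steps.bwd (nat_lit 5) (Steps.bwd (nat_lit 3) Steps.nil))))))) (nat_lit 71) (nat_lit 3),
  Rule.mk (nat_lit 1) (nat_lit 64) (Steps.bwd (nat_lit 8) (Steps.bwd (nat_lit 2) (Steps.bwd (nat_lit 1) (Steps.fwd (nat_lit 2048) (Steps.bwd (nat_lit 9) Steps.nil))))) (nat_lit 104) (nat_lit 0),
  Rule.mk (nat_lit 1) (nat_lit 42) (Steps.bwd (nat_lit 7) (Steps.fwd (nat_lit 1024) (Steps.bwd (nat_lit 7) Steps.nil))) (nat_lit 26) (nat_lit 0),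
  Rule.mk (nat_lit 9) (nat_lit 53) (Steps.fwd (nat_lit 5120) (Steps.bwd (nat_lit 7) (Steps.bwd (nat_lit 8) (Steps.fwd (nat_lit 5120) Steps.nil)))) (nat_lit 100) (nat_lit 3),
  Rule.mk (nat_lit 7) (nat_lit 53) (Steps.bwd (nat_lit 5) (Steps.fwd (nat_lit 6144) (Steps.fwd (nat_lit 5120) (Steps.bwd (nat_lit 6) Steps.nil)))) (nat_lit 25) (nat_lit 1),
  Rule.mk (nat_lit 8) (nat_lit 53) (Steps.bwd (nat_lit 5) (Steps.bwd (nat_lit 9) (Steps.fwd (nat_lit 5120) (Steps.fwd (nat_lit 7168) Steps.nil)))) (nat_lit 100) (nat_lit 1),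
  Rule.mk (nat_lit 3) (nat_lit 42) (Steps.bwd (nat_lit 9) (Steps.fwd (nat_lit 3072) (Steps.bwd (nat_lit 8) Steps.nil))) (nat_lit 97) (nat_lit 3),
  Rule.mk (nat_lit 2) (nat_lit 64) (Steps.bwd (nat_lit 1) (Steps.bwd (nat_lit 3) (Steps.bwd (nat_lit 9) (Steps.fwd (nat_lit 1024) (Steps.bwd (nat_lit 8) Steps.nil))))) (nat_lit 104) (nat_lit 2),
  Rule.mk (nat_lit 2) (nat_lit 31) (Steps.fwd (nat_lit 3072) (Steps.bwd (nat_lit 2) Steps.nil)) (nat_lit 2) (nat_lit 0),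
  Rule.mk (nat_lit 9) (nat_lit 42) (Steps.fwd (nat_lit 2048) (Steps.bwd (nat_lit 8) (Steps.bwd (nat_lit 2) Steps.nil))) (nat_lit 96) (nat_lit 3),
  Rule.mk (nat_lit 1) (nat_lit 152) (Steps.fwd (nat_lit 6144) (Steps.bwd (nat_lit 1) (Steps.bwd (nat_lit 6) (Steps.fwd (nat_lit 5120) (Steps.bwd (nat_lit 2) (Steps.bwd (nat_lit 1) (Steps.fwd (nat_lit 6144) (Steps.fwd (nat_lit 1024) (Steps.bwd (nat_lit 2) (Steps.bwd (nat_lit 1) (Steps.bwd (nat_lit 6) (Steps.fwd (nat_lit 1024) (Steps.bwd (nat_lit 2) Steps.nil))))))))))))) (nat_lit 34) (nat_lit 10),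
  Rule.mk (nat_lit 7) (nat_lit 42) (Steps.bwd (nat_lit 2) (Steps.bwd (nat_lit 7) (Steps.bwd (nat_lit 3) Steps.nil))) (nat_lit 28) (nat_lit 1),
  Rule.mk (nat_lit 8) (nat_lit 42) (Steps.bwd (nat_lit 2) (Steps.bwd (nat_lit 9) (Steps.bwd (nat_lit 3) Steps.nil))) (nat_lit 96) (nat_lit 1),
  Rule.mk (nat_lit 1) (nat_lit 86) (Steps.bwd (nat_lit 2) (Steps.fwd (nat_lit 5120) (Steps.fwd (nat_lit 1024) (Steps.bwd (nat_lit 2) (Steps.bwd (nat_lit 1) (Steps.bwd (nat_lit 5) (Steps.bwd (nat_lit 2) Steps.nil))))))) (nat_lit 70) (nat_lit 6),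
  Rule.mk (nat_lit 7) (nat_lit 42) (Steps.bwd (nat_lit 1) (Steps.bwd (nat_lit 7) (Steps.fwd (nat_lit 1024) Steps.nil))) (nat_lit 26) (nat_lit 1),
  Rule.mk (nat_lit 3) (nat_lit 64) (Steps.bwd (nat_lit 1) (Steps.fwd (nat_lit 2048) (Steps.fwd (nat_lit 1024) (Steps.fwd (nat_lit 2048) (Steps.bwd (nat_lit 1) Steps.nil))))) (nat_lit 13) (nat_lit 1),
  Rule.mk (nat_lit 2) (nat_lit 64) (Steps.bwd (nat_lit 1) (Steps.fwd (nat_lit 2048) (Steps.fwd (nat_lit 8192) (Steps.bwd (nat_lit 1) (Steps.fwd (nat_lit 9216) Steps.nil))))) (nat_lit 104) (nat_lit 2),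
  Rule.mk (nat_lit 9) (nat_lit 42) (Steps.fwd (nat_lit 2048) (Steps.fwd (nat_lit 9216) (Steps.bwd (nat_lit 2) Steps.nil))) (nat_lit 96) (nat_lit 3),
  Rule.mk (nat_lit 3) (nat_lit 42) (Steps.bwd (nat_lit 6) (Steps.bwd (nat_lit 2) (Steps.fwd (nat_lit 6144) Steps.nil))) (nat_lit 40) (nat_lit 3),
  Rule.mk (nat_lit 2) (nat_lit 42) (Steps.bwd (nat_lit 6) (Steps.fwd (nat_lit 2048) (Steps.fwd (nat_lit 6144) Steps.nil))) (nat_lit 40) (nat_lit 1),
  Rule.mk (nat_lit 9) (nat_lit 42) (Steps.bwd (nat_lit 6) (Steps.bwd (nat_lit 9) (Steps.bwd (nat_lit 6) Steps.nil))) (nat_lit 103) (nat_lit 1),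
  Rule.mk (nat_lit 5) (nat_lit 53) (Steps.bwd (nat_lit 6) (Steps.bwd (nat_lit 5) (Steps.fwd (nat_lit 7168) (Steps.fwd (nat_lit 6144) Steps.nil)))) (nat_lit 24) (nat_lit 2),
  Rule.mk (nat_lit 1) (nat_lit 152) (Steps.bwd (nat_lit 6) (Steps.bwd (nat_lit 1) (Steps.bwd (nat_lit 2) (Steps.bwd (nat_lit 1) (Steps.fwd (nat_lit 6144) (Steps.fwd (nat_lit 1024) (Steps.bwd (nat_lit 2) (Steps.bwd (nat_lit 1) (Steps.bwd (nat_lit 6) (Steps.fwd (nat_lit 1024) (Steps.fwd (nat_lit 6144) (Steps.fwd (nat_lit 5120) (Steps.fwd (nat_lit 3072) Steps.nil))))))))))))) (nat_lit 34) (nat_lit 2),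
  Rule.mk (nat_lit 3) (nat_lit 42) (Steps.bwd (nat_lit 7) (Steps.fwd (nat_lit 3072) (Steps.fwd (nat_lit 7168) Steps.nil))) (nat_lit 28) (nat_lit 0),
  Rule.mk (nat_lit 6) (nat_lit 42) (Steps.bwd (nat_lit 7) (Steps.bwd (nat_lit 6) (Steps.bwd (nat_lit 7) Steps.nil))) (nat_lit 48) (nat_lit 1),
  Rule.mk (nat_lit 3) (nat_lit 42) (Steps.bwd (nat_lit 6) (Steps.fwd (nat_lit 3072) (Steps.bwd (nat_lit 6) Steps.nil))) (nat_lit 40) (nat_lit 3),
  Rule.mk (nat_lit 5) (nat_lit 53) (Steps.bwd (nat_lit 6) (Steps.fwd (nat_lit 5120) (Steps.bwd (nat_lit 7) (Steps.fwd (nat_lit 6144) Steps.nil)))) (nat_lit 24) (nat_lit 2),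
  Rule.mk (nat_lit 1) (nat_lit 152) (Steps.bwd (nat_lit 6) (Steps.bwd (nat_lit 1) (Steps.bwd (nat_lit 2) (Steps.bwd (nat_lit 1) (Steps.fwd (nat_lit 6144) (Steps.fwd (nat_lit 1024) (Steps.fwd (nat_lit 3072) (Steps.bwd (nat_lit 1) (Steps.bwd (nat_lit 6) (Steps.fwd (nat_lit 1024) (Steps.fwd (nat_lit 6144) (Steps.fwd (nat_lit 5120) (Steps.fwd (nat_lit 3072) Steps.nil))))))))))))) (nat_lit 34) (nat_lit 2),
  Rule.mk (nat_lit 2) (nat_lit 42) (Steps.bwd (nat_lit 4) (Steps.bwd (nat_lit 2) (Steps.fwd (nat_lit 4096) Steps.nil))) (nat_lit 14) (nat_lit 0),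
  Rule.mk (nat_lit 7) (nat_lit 42) (Steps.bwd (nat_lit 4) (Steps.bwd (nat_lit 7) (Steps.fwd (nat_lit 4096) Steps.nil))) (nat_lit 30) (nat_lit 1),
  Rule.mk (nat_lit 5) (nat_lit 42) (Steps.bwd (nat_lit 4) (Steps.fwd (nat_lit 6144) (Steps.fwd (nat_lit 4096) Steps.nil))) (nat_lit 22) (nat_lit 2),
  Rule.mk (nat_lit 3) (nat_lit 42) (Steps.bwd (nat_lit 5) (Steps.bwd (nat_lit 2) (Steps.fwd (nat_lit 5120) Steps.nil))) (nat_lit 20) (nat_lit 3)]
noncomputable def R_1 : List (Rule) := [Rule.mk (nat_lit 4) (nat_lit 42) (Steps.bwd (nat_lit 5) (Steps.bwd (nat_lit 4) (Steps.bwd (nat_lit 6) Steps.nil))) (nat_lit 22) (nat_lit 1),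
  Rule.mk (nat_lit 7) (nat_lit 42) (Steps.bwd (nat_lit 5) (Steps.fwd (nat_lit 7168) (Steps.bwd (nat_lit 5) Steps.nil))) (nat_lit 32) (nat_lit 1),
  Rule.mk (nat_lit 4) (nat_lit 42) (Steps.bwd (nat_lit 7) (Steps.bwd (nat_lit 4) (Steps.fwd (nat_lit 7168) Steps.nil))) (nat_lit 30) (nat_lit 0),
  Rule.mk (nat_lit 6) (nat_lit 42) (Steps.bwd (nat_lit 7) (Steps.fwd (nat_lit 6144) (Steps.fwd (nat_lit 7168) Steps.nil))) (nat_lit 48) (nat_lit 1),
  Rule.mk (nat_lit 4) (nat_lit 42) (Steps.bwd (nat_lit 2) (Steps.bwd (nat_lit 4) (Steps.bwd (nat_lit 2) Steps.nil))) (nat_lit 14) (nat_lit 1),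
  Rule.mk (nat_lit 4) (nat_lit 42) (Steps.bwd (nat_lit 5) (Steps.fwd (nat_lit 4096) (Steps.bwd (nat_lit 6) Steps.nil))) (nat_lit 22) (nat_lit 1),
  Rule.mk (nat_lit 4) (nat_lit 42) (Steps.bwd (nat_lit 7) (Steps.fwd (nat_lit 4096) (Steps.bwd (nat_lit 7) Steps.nil))) (nat_lit 30) (nat_lit 0),
  Rule.mk (nat_lit 5) (nat_lit 42) (Steps.bwd (nat_lit 7) (Steps.bwd (nat_lit 5) (Steps.bwd (nat_lit 7) Steps.nil))) (nat_lit 32) (nat_lit 0),
  Rule.mk (nat_lit 6) (nat_lit 53) (Steps.fwd (nat_lit 5120) (Steps.fwd (nat_lit 6144) (Steps.bwd (nat_lit 5) (Steps.bwd (nat_lit 7) Steps.nil)))) (nat_lit 24) (nat_lit 1),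
  Rule.mk (nat_lit 4) (nat_lit 42) (Steps.bwd (nat_lit 2) (Steps.fwd (nat_lit 4096) (Steps.bwd (nat_lit 2) Steps.nil))) (nat_lit 14) (nat_lit 1),
  Rule.mk (nat_lit 7) (nat_lit 42) (Steps.bwd (nat_lit 2) (Steps.bwd (nat_lit 7) (Steps.fwd (nat_lit 2048) Steps.nil))) (nat_lit 28) (nat_lit 1),
  Rule.mk (nat_lit 2) (nat_lit 31) (Steps.bwd (nat_lit 2) (Steps.bwd (nat_lit 2) Steps.nil)) (nat_lit 2) (nat_lit 0),
  Rule.mk (nat_lit 4) (nat_lit 42) (Steps.bwd (nat_lit 2) (Steps.fwd (nat_lit 4096) (Steps.fwd (nat_lit 3072) Steps.nil))) (nat_lit 14) (nat_lit 1),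
  Rule.mk (nat_lit 2) (nat_lit 42) (Steps.bwd (nat_lit 4) (Steps.fwd (nat_lit 3072) (Steps.bwd (nat_lit 4) Steps.nil))) (nat_lit 14) (nat_lit 0),
  Rule.mk (nat_lit 3) (nat_lit 42) (Steps.bwd (nat_lit 4) (Steps.bwd (nat_lit 3) (Steps.bwd (nat_lit 4) Steps.nil))) (nat_lit 15) (nat_lit 1),
  Rule.mk (nat_lit 7) (nat_lit 42) (Steps.bwd (nat_lit 4) (Steps.bwd (nat_lit 7) (Steps.bwd (nat_lit 4) Steps.nil))) (nat_lit 30) (nat_lit 1),
  Rule.mk (nat_lit 2) (nat_lit 42) (Steps.bwd (nat_lit 5) (Steps.fwd (nat_lit 2048) (Steps.fwd (nat_lit 5120) Steps.nil))) (nat_lit 20) (nat_lit 1),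
  Rule.mk (nat_lit 4) (nat_lit 42) (Steps.bwd (nat_lit 5) (Steps.bwd (nat_lit 4) (Steps.fwd (nat_lit 6144) Steps.nil))) (nat_lit 22) (nat_lit 1),
  Rule.mk (nat_lit 2) (nat_lit 42) (Steps.bwd (nat_lit 5) (Steps.bwd (nat_lit 3) (Steps.fwd (nat_lit 5120) Steps.nil))) (nat_lit 20) (nat_lit 1),
  Rule.mk (nat_lit 3) (nat_lit 42) (Steps.bwd (nat_lit 4) (Steps.fwd (nat_lit 2048) (Steps.bwd (nat_lit 4) Steps.nil))) (nat_lit 15) (nat_lit 1),
  Rule.mk (nat_lit 4) (nat_lit 64) (Steps.bwd (nat_lit 1) (Steps.fwd (nat_lit 4096) (Steps.fwd (nat_lit 1024) (Steps.fwd (nat_lit 4096) (Steps.fwd (nat_lit 1024) Steps.nil))))) (nat_lit 16) (nat_lit 0),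
  Rule.mk (nat_lit 1) (nat_lit 42) (Steps.bwd (nat_lit 7) (Steps.bwd (nat_lit 1) (Steps.bwd (nat_lit 7) Steps.nil))) (nat_lit 26) (nat_lit 0),
  Rule.mk (nat_lit 1) (nat_lit 64) (Steps.bwd (nat_lit 4) (Steps.fwd (nat_lit 1024) (Steps.bwd (nat_lit 4) (Steps.fwd (nat_lit 1024) (Steps.fwd (nat_lit 4096) Steps.nil))))) (nat_lit 16) (nat_lit 1),
  Rule.mk (nat_lit 5) (nat_lit 42) (Steps.bwd (nat_lit 7) (Steps.fwd (nat_lit 5120) (Steps.bwd (nat_lit 7) Steps.nil))) (nat_lit 32) (nat_lit 0),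
  Rule.mk (nat_lit 1) (nat_lit 64) (Steps.bwd (nat_lit 4) (Steps.bwd (nat_lit 1) (Steps.bwd (nat_lit 4) (Steps.fwd (nat_lit 1024) (Steps.fwd (nat_lit 4096) Steps.nil))))) (nat_lit 16) (nat_lit 1),
  Rule.mk (nat_lit 1) (nat_lit 42) (Steps.bwd (nat_lit 5) (Steps.fwd (nat_lit 1024) (Steps.fwd (nat_lit 5120) Steps.nil))) (nat_lit 18) (nat_lit 1),
  Rule.mk (nat_lit 1) (nat_lit 86) (Steps.bwd (nat_lit 6) (Steps.fwd (nat_lit 1024) (Steps.fwd (nat_lit 4096) (Steps.bwd (nat_lit 1) (Steps.bwd (nat_lit 6) (Steps.bwd (nat_lit 1) (Steps.bwd (nat_lit 4) Steps.nil))))))) (nat_lit 74) (nat_lit 3),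
  Rule.mk (nat_lit 7) (nat_lit 42) (Steps.bwd (nat_lit 6) (Steps.bwd (nat_lit 7) (Steps.bwd (nat_lit 6) Steps.nil))) (nat_lit 48) (nat_lit 0),
  Rule.mk (nat_lit 5) (nat_lit 53) (Steps.bwd (nat_lit 6) (Steps.fwd (nat_lit 5120) (Steps.fwd (nat_lit 7168) (Steps.bwd (nat_lit 6) Steps.nil)))) (nat_lit 24) (nat_lit 2),
  Rule.mk (nat_lit 1) (nat_lit 86) (Steps.bwd (nat_lit 6) (Steps.fwd (nat_lit 1024) (Steps.fwd (nat_lit 4096) (Steps.fwd (nat_lit 1024) (Steps.fwd (nat_lit 6144) (Steps.fwd (nat_lit 1024) (Steps.fwd (nat_lit 4096) Steps.nil))))))) (nat_lit 74) (nat_lit 3),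
  Rule.mk (nat_lit 4) (nat_lit 64) (Steps.bwd (nat_lit 1) (Steps.fwd (nat_lit 4096) (Steps.fwd (nat_lit 1024) (Steps.bwd (nat_lit 4) (Steps.bwd (nat_lit 1) Steps.nil))))) (nat_lit 16) (nat_lit 0),
  Rule.mk (nat_lit 6) (nat_lit 86) (Steps.bwd (nat_lit 1) (Steps.fwd (nat_lit 4096) (Steps.fwd (nat_lit 1024) (Steps.bwd (nat_lit 6) (Steps.bwd (nat_lit 1) (Steps.fwd (nat_lit 4096) (Steps.fwd (nat_lit 1024) Steps.nil))))))) (nat_lit 74) (nat_lit 0),
  Rule.mk (nat_lit 5) (nat_lit 53) (Steps.bwd (nat_lit 6) (Steps.bwd (nat_lit 5) (Steps.fwd (nat_lit 7168) (Steps.bwd (nat_lit 6) Steps.nil)))) (nat_lit 24) (nat_lit 2),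
  Rule.mk (nat_lit 1) (nat_lit 86) (Steps.bwd (nat_lit 6) (Steps.bwd (nat_lit 1) (Steps.bwd (nat_lit 4) (Steps.bwd (nat_lit 1) (Steps.bwd (nat_lit 6) (Steps.fwd (nat_lit 1024) (Steps.bwd (nat_lit 4) Steps.nil))))))) (nat_lit 74) (nat_lit 3),
  Rule.mk (nat_lit 8) (nat_lit 130) (Steps.bwd (nat_lit 4) (Steps.bwd (nat_lit 8) (Steps.bwd (nat_lit 4) (Steps.bwd (nat_lit 8) (Steps.bwd (nat_lit 4) (Steps.bwd (nat_lit 8) (Steps.fwd (nat_lit 4096) (Steps.bwd (nat_lit 8) (Steps.fwd (nat_lit 4096) (Steps.fwd (nat_lit 9216) (Steps.bwd (nat_lit 4) Steps.nil))))))))))) (nat_lit 106) (nat_lit 1),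
  Rule.mk (nat_lit 9) (nat_lit 31) (Steps.bwd (nat_lit 9) (Steps.fwd (nat_lit 8192) Steps.nil)) (nat_lit 95) (nat_lit 0),
  Rule.mk (nat_lit 5) (nat_lit 53) (Steps.bwd (nat_lit 9) (Steps.bwd (nat_lit 5) (Steps.bwd (nat_lit 7) (Steps.bwd (nat_lit 8) Steps.nil)))) (nat_lit 100) (nat_lit 2),
  Rule.mk (nat_lit 8) (nat_lit 42) (Steps.bwd (nat_lit 7) (Steps.bwd (nat_lit 9) (Steps.fwd (nat_lit 5120) Steps.nil))) (nat_lit 98) (nat_lit 1),
  Rule.mk (nat_lit 8) (nat_lit 31) (Steps.bwd (nat_lit 8) (Steps.bwd (nat_lit 8) Steps.nil)) (nat_lit 94) (nat_lit 0),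
  Rule.mk (nat_lit 3) (nat_lit 42) (Steps.bwd (nat_lit 5) (Steps.fwd (nat_lit 3072) (Steps.fwd (nat_lit 5120) Steps.nil))) (nat_lit 20) (nat_lit 3),
  Rule.mk (nat_lit 9) (nat_lit 42) (Steps.bwd (nat_lit 5) (Steps.bwd (nat_lit 8) (Steps.bwd (nat_lit 7) Steps.nil))) (nat_lit 98) (nat_lit 3),
  Rule.mk (nat_lit 9) (nat_lit 31) (Steps.bwd (nat_lit 9) (Steps.bwd (nat_lit 9) Steps.nil)) (nat_lit 95) (nat_lit 0),
  Rule.mk (nat_lit 7) (nat_lit 42) (Steps.bwd (nat_lit 9) (Steps.fwd (nat_lit 5120) (Steps.bwd (nat_lit 8) Steps.nil))) (nat_lit 98) (nat_lit 2),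
  Rule.mk (nat_lit 5) (nat_lit 42) (Steps.bwd (nat_lit 8) (Steps.bwd (nat_lit 7) (Steps.fwd (nat_lit 8192) Steps.nil))) (nat_lit 98) (nat_lit 0),
  Rule.mk (nat_lit 6) (nat_lit 53) (Steps.bwd (nat_lit 7) (Steps.fwd (nat_lit 5120) (Steps.fwd (nat_lit 6144) (Steps.bwd (nat_lit 5) Steps.nil)))) (nat_lit 25) (nat_lit 0),
  Rule.mk (nat_lit 9) (nat_lit 53) (Steps.bwd (nat_lit 7) (Steps.fwd (nat_lit 5120) (Steps.bwd (nat_lit 8) (Steps.bwd (nat_lit 5) Steps.nil)))) (nat_lit 101) (nat_lit 0),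
  Rule.mk (nat_lit 8) (nat_lit 31) (Steps.bwd (nat_lit 8) (Steps.fwd (nat_lit 9216) Steps.nil)) (nat_lit 94) (nat_lit 0),
  Rule.mk (nat_lit 6) (nat_lit 42) (Steps.bwd (nat_lit 8) (Steps.fwd (nat_lit 6144) (Steps.fwd (nat_lit 9216) Steps.nil))) (nat_lit 102) (nat_lit 1),
  Rule.mk (nat_lit 7) (nat_lit 53) (Steps.bwd (nat_lit 8) (Steps.fwd (nat_lit 5120) (Steps.bwd (nat_lit 9) (Steps.fwd (nat_lit 5120) Steps.nil)))) (nat_lit 100) (nat_lit 0),
  Rule.mk (nat_lit 7) (nat_lit 42) (Steps.bwd (nat_lit 9) (Steps.fwd (nat_lit 5120) (Steps.fwd (nat_lit 9216) Steps.nil))) (nat_lit 98) (nat_lit 2),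
  Rule.mk (nat_lit 6) (nat_lit 42) (Steps.bwd (nat_lit 9) (Steps.fwd (nat_lit 6144) (Steps.fwd (nat_lit 8192) Steps.nil))) (nat_lit 103) (nat_lit 0),
  Rule.mk (nat_lit 5) (nat_lit 53) (Steps.bwd (nat_lit 9) (Steps.fwd (nat_lit 5120) (Steps.fwd (nat_lit 7168) (Steps.bwd (nat_lit 8) Steps.nil)))) (nat_lit 100) (nat_lit 2),
  Rule.mk (nat_lit 8) (nat_lit 42) (Steps.bwd (nat_lit 3) (Steps.bwd (nat_lit 9) (Steps.bwd (nat_lit 2) Steps.nil))) (nat_lit 97) (nat_lit 2),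
  Rule.mk (nat_lit 2) (nat_lit 42) (Steps.bwd (nat_lit 9) (Steps.fwd (nat_lit 2048) (Steps.bwd (nat_lit 8) Steps.nil))) (nat_lit 96) (nat_lit 2),
  Rule.mk (nat_lit 5) (nat_lit 53) (Steps.bwd (nat_lit 9) (Steps.fwd (nat_lit 5120) (Steps.bwd (nat_lit 7) (Steps.bwd (nat_lit 8) Steps.nil)))) (nat_lit 100) (nat_lit 2),
  Rule.mk (nat_lit 7) (nat_lit 42) (Steps.bwd (nat_lit 3) (Steps.bwd (nat_lit 7) (Steps.fwd (nat_lit 3072) Steps.nil))) (nat_lit 28) (nat_lit 3),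
  Rule.mk (nat_lit 6) (nat_lit 42) (Steps.bwd (nat_lit 3) (Steps.bwd (nat_lit 6) (Steps.fwd (nat_lit 3072) Steps.nil))) (nat_lit 40) (nat_lit 2),
  Rule.mk (nat_lit 9) (nat_lit 42) (Steps.bwd (nat_lit 3) (Steps.bwd (nat_lit 8) (Steps.bwd (nat_lit 2) Steps.nil))) (nat_lit 96) (nat_lit 3),
  Rule.mk (nat_lit 8) (nat_lit 42) (Steps.bwd (nat_lit 3) (Steps.bwd (nat_lit 9) (Steps.fwd (nat_lit 3072) Steps.nil))) (nat_lit 97) (nat_lit 2),
  Rule.mk (nat_lit 6) (nat_lit 42) (Steps.bwd (nat_lit 7) (Steps.fwd (nat_lit 6144) (Steps.bwd (nat_lit 7) Steps.nil))) (nat_lit 48) (nat_lit 1),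
  Rule.mk (nat_lit 8) (nat_lit 42) (Steps.bwd (nat_lit 7) (Steps.fwd (nat_lit 8192) (Steps.bwd (nat_lit 5) Steps.nil))) (nat_lit 98) (nat_lit 1),
  Rule.mk (nat_lit 5) (nat_lit 42) (Steps.bwd (nat_lit 3) (Steps.bwd (nat_lit 5) (Steps.fwd (nat_lit 3072) Steps.nil))) (nat_lit 20) (nat_lit 2),
  Rule.mk (nat_lit 2) (nat_lit 42) (Steps.bwd (nat_lit 7) (Steps.bwd (nat_lit 3) (Steps.bwd (nat_lit 7) Steps.nil))) (nat_lit 28) (nat_lit 2),
  Rule.mk (nat_lit 9) (nat_lit 53) (Steps.bwd (nat_lit 7) (Steps.fwd (nat_lit 5120) (Steps.fwd (nat_lit 9216) (Steps.fwd (nat_lit 5120) Steps.nil)))) (nat_lit 101) (nat_lit 0)]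
noncomputable def R_2 : List (Rule) := [Rule.mk (nat_lit 7) (nat_lit 42) (Steps.bwd (nat_lit 3) (Steps.bwd (nat_lit 7) (Steps.bwd (nat_lit 2) Steps.nil))) (nat_lit 28) (nat_lit 3),
  Rule.mk (nat_lit 8) (nat_lit 42) (Steps.bwd (nat_lit 3) (Steps.fwd (nat_lit 8192) (Steps.bwd (nat_lit 2) Steps.nil))) (nat_lit 97) (nat_lit 2),
  Rule.mk (nat_lit 3) (nat_lit 42) (Steps.bwd (nat_lit 9) (Steps.bwd (nat_lit 2) (Steps.bwd (nat_lit 8) Steps.nil))) (nat_lit 97) (nat_lit 3),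
  Rule.mk (nat_lit 2) (nat_lit 31) (Steps.bwd (nat_lit 2) (Steps.fwd (nat_lit 3072) Steps.nil)) (nat_lit 2) (nat_lit 0),
  Rule.mk (nat_lit 5) (nat_lit 42) (Steps.bwd (nat_lit 2) (Steps.fwd (nat_lit 5120) (Steps.bwd (nat_lit 3) Steps.nil))) (nat_lit 20) (nat_lit 0),
  Rule.mk (nat_lit 6) (nat_lit 42) (Steps.bwd (nat_lit 2) (Steps.fwd (nat_lit 6144) (Steps.bwd (nat_lit 3) Steps.nil))) (nat_lit 40) (nat_lit 0),
  Rule.mk (nat_lit 8) (nat_lit 42) (Steps.bwd (nat_lit 2) (Steps.fwd (nat_lit 8192) (Steps.bwd (nat_lit 3) Steps.nil))) (nat_lit 96) (nat_lit 1),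
  Rule.mk (nat_lit 9) (nat_lit 42) (Steps.bwd (nat_lit 2) (Steps.bwd (nat_lit 8) (Steps.fwd (nat_lit 2048) Steps.nil))) (nat_lit 97) (nat_lit 0),
  Rule.mk (nat_lit 3) (nat_lit 42) (Steps.bwd (nat_lit 6) (Steps.bwd (nat_lit 2) (Steps.bwd (nat_lit 6) Steps.nil))) (nat_lit 40) (nat_lit 3),
  Rule.mk (nat_lit 7) (nat_lit 53) (Steps.bwd (nat_lit 6) (Steps.fwd (nat_lit 5120) (Steps.bwd (nat_lit 6) (Steps.bwd (nat_lit 5) Steps.nil)))) (nat_lit 24) (nat_lit 0),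
  Rule.mk (nat_lit 3) (nat_lit 31) (Steps.bwd (nat_lit 3) (Steps.bwd (nat_lit 3) Steps.nil)) (nat_lit 3) (nat_lit 0),
  Rule.mk (nat_lit 6) (nat_lit 42) (Steps.bwd (nat_lit 3) (Steps.bwd (nat_lit 6) (Steps.bwd (nat_lit 2) Steps.nil))) (nat_lit 40) (nat_lit 2),
  Rule.mk (nat_lit 8) (nat_lit 42) (Steps.bwd (nat_lit 3) (Steps.fwd (nat_lit 8192) (Steps.fwd (nat_lit 3072) Steps.nil))) (nat_lit 97) (nat_lit 2),
  Rule.mk (nat_lit 2) (nat_lit 42) (Steps.bwd (nat_lit 7) (Steps.fwd (nat_lit 2048) (Steps.fwd (nat_lit 7168) Steps.nil))) (nat_lit 28) (nat_lit 2),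
  Rule.mk (nat_lit 3) (nat_lit 42) (Steps.bwd (nat_lit 7) (Steps.bwd (nat_lit 2) (Steps.bwd (nat_lit 7) Steps.nil))) (nat_lit 28) (nat_lit 0),
  Rule.mk (nat_lit 9) (nat_lit 53) (Steps.bwd (nat_lit 7) (Steps.bwd (nat_lit 5) (Steps.fwd (nat_lit 9216) (Steps.fwd (nat_lit 5120) Steps.nil)))) (nat_lit 101) (nat_lit 0),
  Rule.mk (nat_lit 2) (nat_lit 64) (Steps.bwd (nat_lit 1) (Steps.bwd (nat_lit 2) (Steps.bwd (nat_lit 1) (Steps.bwd (nat_lit 2) (Steps.fwd (nat_lit 1024) Steps.nil))))) (nat_lit 12) (nat_lit 0),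
  Rule.mk (nat_lit 3) (nat_lit 86) (Steps.bwd (nat_lit 1) (Steps.bwd (nat_lit 2) (Steps.bwd (nat_lit 1) (Steps.fwd (nat_lit 2048) (Steps.fwd (nat_lit 1024) (Steps.bwd (nat_lit 2) (Steps.bwd (nat_lit 1) Steps.nil))))))) (nat_lit 68) (nat_lit 0),
  Rule.mk (nat_lit 2) (nat_lit 64) (Steps.bwd (nat_lit 1) (Steps.bwd (nat_lit 2) (Steps.fwd (nat_lit 1024) (Steps.bwd (nat_lit 2) (Steps.bwd (nat_lit 1) Steps.nil))))) (nat_lit 12) (nat_lit 0),
  Rule.mk (nat_lit 3) (nat_lit 86) (Steps.bwd (nat_lit 1) (Steps.bwd (nat_lit 2) (Steps.fwd (nat_lit 1024) (Steps.fwd (nat_lit 2048) (Steps.bwd (nat_lit 1) (Steps.bwd (nat_lit 2) (Steps.bwd (nat_lit 1) Steps.nil))))))) (nat_lit 68) (nat_lit 0),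
  Rule.mk (nat_lit 5) (nat_lit 42) (Steps.bwd (nat_lit 3) (Steps.fwd (nat_lit 5120) (Steps.bwd (nat_lit 2) Steps.nil))) (nat_lit 20) (nat_lit 2),
  Rule.mk (nat_lit 3) (nat_lit 42) (Steps.bwd (nat_lit 4) (Steps.bwd (nat_lit 3) (Steps.fwd (nat_lit 4096) Steps.nil))) (nat_lit 15) (nat_lit 1),
  Rule.mk (nat_lit 6) (nat_lit 42) (Steps.bwd (nat_lit 3) (Steps.fwd (nat_lit 6144) (Steps.fwd (nat_lit 3072) Steps.nil))) (nat_lit 40) (nat_lit 2),
  Rule.mk (nat_lit 1) (nat_lit 86) (Steps.bwd (nat_lit 3) (Steps.bwd (nat_lit 1) (Steps.bwd (nat_lit 5) (Steps.fwd (nat_lit 2048) (Steps.bwd (nat_lit 1) (Steps.bwd (nat_lit 3) (Steps.bwd (nat_lit 5) Steps.nil))))))) (nat_lit 71) (nat_lit 6),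
  Rule.mk (nat_lit 2) (nat_lit 42) (Steps.bwd (nat_lit 6) (Steps.bwd (nat_lit 3) (Steps.bwd (nat_lit 6) Steps.nil))) (nat_lit 40) (nat_lit 1),
  Rule.mk (nat_lit 7) (nat_lit 42) (Steps.bwd (nat_lit 6) (Steps.fwd (nat_lit 7168) (Steps.bwd (nat_lit 6) Steps.nil))) (nat_lit 48) (nat_lit 0),
  Rule.mk (nat_lit 6) (nat_lit 42) (Steps.bwd (nat_lit 2) (Steps.bwd (nat_lit 6) (Steps.bwd (nat_lit 3) Steps.nil))) (nat_lit 40) (nat_lit 0),
  Rule.mk (nat_lit 3) (nat_lit 42) (Steps.bwd (nat_lit 7) (Steps.bwd (nat_lit 2) (Steps.fwd (nat_lit 7168) Steps.nil))) (nat_lit 28) (nat_lit 0),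
  Rule.mk (nat_lit 2) (nat_lit 42) (Steps.bwd (nat_lit 5) (Steps.fwd (nat_lit 2048) (Steps.bwd (nat_lit 5) Steps.nil))) (nat_lit 20) (nat_lit 1),
  Rule.mk (nat_lit 6) (nat_lit 53) (Steps.bwd (nat_lit 5) (Steps.fwd (nat_lit 7168) (Steps.fwd (nat_lit 6144) (Steps.fwd (nat_lit 5120) Steps.nil)))) (nat_lit 24) (nat_lit 3),
  Rule.mk (nat_lit 1) (nat_lit 64) (Steps.bwd (nat_lit 5) (Steps.fwd (nat_lit 7168) (Steps.fwd (nat_lit 1024) (Steps.fwd (nat_lit 5120) (Steps.bwd (nat_lit 7) Steps.nil))))) (nat_lit 52) (nat_lit 1),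
  Rule.mk (nat_lit 4) (nat_lit 64) (Steps.bwd (nat_lit 5) (Steps.fwd (nat_lit 2048) (Steps.fwd (nat_lit 4096) (Steps.bwd (nat_lit 6) (Steps.bwd (nat_lit 3) Steps.nil))))) (nat_lit 59) (nat_lit 4),
  Rule.mk (nat_lit 2) (nat_lit 42) (Steps.bwd (nat_lit 5) (Steps.bwd (nat_lit 3) (Steps.bwd (nat_lit 5) Steps.nil))) (nat_lit 20) (nat_lit 1),
  Rule.mk (nat_lit 7) (nat_lit 42) (Steps.bwd (nat_lit 5) (Steps.bwd (nat_lit 7) (Steps.fwd (nat_lit 5120) Steps.nil))) (nat_lit 32) (nat_lit 1),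
  Rule.mk (nat_lit 3) (nat_lit 86) (Steps.bwd (nat_lit 1) (Steps.bwd (nat_lit 2) (Steps.fwd (nat_lit 1024) (Steps.bwd (nat_lit 3) (Steps.bwd (nat_lit 1) (Steps.bwd (nat_lit 2) (Steps.fwd (nat_lit 1024) Steps.nil))))))) (nat_lit 68) (nat_lit 0),
  Rule.mk (nat_lit 2) (nat_lit 42) (Steps.bwd (nat_lit 4) (Steps.bwd (nat_lit 2) (Steps.bwd (nat_lit 4) Steps.nil))) (nat_lit 14) (nat_lit 0),
  Rule.mk (nat_lit 4) (nat_lit 42) (Steps.bwd (nat_lit 6) (Steps.fwd (nat_lit 4096) (Steps.bwd (nat_lit 5) Steps.nil))) (nat_lit 22) (nat_lit 3),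
  Rule.mk (nat_lit 1) (nat_lit 152) (Steps.bwd (nat_lit 6) (Steps.fwd (nat_lit 1024) (Steps.fwd (nat_lit 3072) (Steps.fwd (nat_lit 1024) (Steps.bwd (nat_lit 6) (Steps.fwd (nat_lit 1024) (Steps.fwd (nat_lit 6144) (Steps.bwd (nat_lit 5) (Steps.bwd (nat_lit 2) (Steps.fwd (nat_lit 1024) (Steps.fwd (nat_lit 6144) (Steps.bwd (nat_lit 1) (Steps.bwd (nat_lit 2) Steps.nil))))))))))))) (nat_lit 34) (nat_lit 6),
  Rule.mk (nat_lit 2) (nat_lit 42) (Steps.bwd (nat_lit 7) (Steps.fwd (nat_lit 2048) (Steps.bwd (nat_lit 7) Steps.nil))) (nat_lit 28) (nat_lit 2),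
  Rule.mk (nat_lit 5) (nat_lit 42) (Steps.bwd (nat_lit 2) (Steps.bwd (nat_lit 5) (Steps.bwd (nat_lit 3) Steps.nil))) (nat_lit 20) (nat_lit 0),
  Rule.mk (nat_lit 1) (nat_lit 64) (Steps.bwd (nat_lit 2) (Steps.bwd (nat_lit 1) (Steps.bwd (nat_lit 2) (Steps.bwd (nat_lit 1) (Steps.fwd (nat_lit 3072) Steps.nil))))) (nat_lit 12) (nat_lit 1),
  Rule.mk (nat_lit 2) (nat_lit 64) (Steps.bwd (nat_lit 1) (Steps.fwd (nat_lit 3072) (Steps.fwd (nat_lit 1024) (Steps.bwd (nat_lit 2) (Steps.bwd (nat_lit 1) Steps.nil))))) (nat_lit 12) (nat_lit 0),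
  Rule.mk (nat_lit 3) (nat_lit 64) (Steps.bwd (nat_lit 1) (Steps.fwd (nat_lit 2048) (Steps.bwd (nat_lit 1) (Steps.fwd (nat_lit 2048) (Steps.fwd (nat_lit 1024) Steps.nil))))) (nat_lit 13) (nat_lit 1),
  Rule.mk (nat_lit 6) (nat_lit 152) (Steps.bwd (nat_lit 1) (Steps.fwd (nat_lit 3072) (Steps.fwd (nat_lit 1024) (Steps.bwd (nat_lit 6) (Steps.bwd (nat_lit 1) (Steps.bwd (nat_lit 6) (Steps.bwd (nat_lit 5) (Steps.bwd (nat_lit 2) (Steps.bwd (nat_lit 1) (Steps.fwd (nat_lit 6144) (Steps.bwd (nat_lit 1) (Steps.bwd (nat_lit 2) (Steps.fwd (nat_lit 1024) Steps.nil))))))))))))) (nat_lit 34) (nat_lit 7),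
  Rule.mk (nat_lit 3) (nat_lit 42) (Steps.bwd (nat_lit 4) (Steps.fwd (nat_lit 2048) (Steps.fwd (nat_lit 4096) Steps.nil))) (nat_lit 15) (nat_lit 1),
  Rule.mk (nat_lit 1) (nat_lit 64) (Steps.bwd (nat_lit 4) (Steps.fwd (nat_lit 1024) (Steps.fwd (nat_lit 4096) (Steps.fwd (nat_lit 1024) (Steps.fwd (nat_lit 4096) Steps.nil))))) (nat_lit 16) (nat_lit 1),
  Rule.mk (nat_lit 5) (nat_lit 64) (Steps.bwd (nat_lit 4) (Steps.fwd (nat_lit 2048) (Steps.fwd (nat_lit 6144) (Steps.fwd (nat_lit 4096) (Steps.bwd (nat_lit 3) Steps.nil))))) (nat_lit 55) (nat_lit 4),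
  Rule.mk (nat_lit 5) (nat_lit 42) (Steps.bwd (nat_lit 1) (Steps.bwd (nat_lit 5) (Steps.fwd (nat_lit 1024) Steps.nil))) (nat_lit 18) (nat_lit 0),
  Rule.mk (nat_lit 7) (nat_lit 42) (Steps.bwd (nat_lit 1) (Steps.fwd (nat_lit 7168) (Steps.bwd (nat_lit 1) Steps.nil))) (nat_lit 26) (nat_lit 1),
  Rule.mk (nat_lit 2) (nat_lit 64) (Steps.bwd (nat_lit 1) (Steps.fwd (nat_lit 3072) (Steps.bwd (nat_lit 1) (Steps.bwd (nat_lit 2) (Steps.bwd (nat_lit 1) Steps.nil))))) (nat_lit 12) (nat_lit 0),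
  Rule.mk (nat_lit 6) (nat_lit 86) (Steps.bwd (nat_lit 1) (Steps.bwd (nat_lit 4) (Steps.bwd (nat_lit 1) (Steps.fwd (nat_lit 6144) (Steps.fwd (nat_lit 1024) (Steps.bwd (nat_lit 4) (Steps.fwd (nat_lit 1024) Steps.nil))))))) (nat_lit 74) (nat_lit 0),
  Rule.mk (nat_lit 7) (nat_lit 42) (Steps.bwd (nat_lit 4) (Steps.fwd (nat_lit 7168) (Steps.bwd (nat_lit 4) Steps.nil))) (nat_lit 30) (nat_lit 1),
  Rule.mk (nat_lit 1) (nat_lit 64) (Steps.bwd (nat_lit 4) (Steps.bwd (nat_lit 1) (Steps.bwd (nat_lit 4) (Steps.bwd (nat_lit 1) (Steps.fwd (nat_lit 4096) Steps.nil))))) (nat_lit 16) (nat_lit 1),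
  Rule.mk (nat_lit 2) (nat_lit 64) (Steps.bwd (nat_lit 4) (Steps.fwd (nat_lit 6144) (Steps.bwd (nat_lit 2) (Steps.bwd (nat_lit 4) (Steps.bwd (nat_lit 5) Steps.nil))))) (nat_lit 54) (nat_lit 4),
  Rule.mk (nat_lit 3) (nat_lit 64) (Steps.bwd (nat_lit 1) (Steps.fwd (nat_lit 2048) (Steps.fwd (nat_lit 1024) (Steps.bwd (nat_lit 3) (Steps.bwd (nat_lit 1) Steps.nil))))) (nat_lit 13) (nat_lit 1),
  Rule.mk (nat_lit 2) (nat_lit 64) (Steps.bwd (nat_lit 1) (Steps.bwd (nat_lit 2) (Steps.fwd (nat_lit 1024) (Steps.fwd (nat_lit 3072) (Steps.fwd (nat_lit 1024) Steps.nil))))) (nat_lit 12) (nat_lit 0),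
  Rule.mk (nat_lit 5) (nat_lit 53) (Steps.bwd (nat_lit 6) (Steps.fwd (nat_lit 5120) (Steps.bwd (nat_lit 7) (Steps.bwd (nat_lit 6) Steps.nil)))) (nat_lit 24) (nat_lit 2),
  Rule.mk (nat_lit 9) (nat_lit 64) (Steps.bwd (nat_lit 1) (Steps.bwd (nat_lit 8) (Steps.fwd (nat_lit 3072) (Steps.bwd (nat_lit 1) (Steps.bwd (nat_lit 3) Steps.nil))))) (nat_lit 104) (nat_lit 5),
  Rule.mk (nat_lit 6) (nat_lit 42) (Steps.bwd (nat_lit 9) (Steps.bwd (nat_lit 6) (Steps.bwd (nat_lit 9) Steps.nil))) (nat_lit 103) (nat_lit 0),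
  Rule.mk (nat_lit 6) (nat_lit 42) (Steps.bwd (nat_lit 8) (Steps.bwd (nat_lit 6) (Steps.bwd (nat_lit 8) Steps.nil))) (nat_lit 102) (nat_lit 1),
  Rule.mk (nat_lit 1) (nat_lit 64) (Steps.bwd (nat_lit 8) (Steps.bwd (nat_lit 2) (Steps.fwd (nat_lit 1024) (Steps.fwd (nat_lit 2048) (Steps.bwd (nat_lit 9) Steps.nil))))) (nat_lit 104) (nat_lit 0),
  Rule.mk (nat_lit 1) (nat_lit 42) (Steps.bwd (nat_lit 5) (Steps.fwd (nat_lit 1024) (Steps.bwd (nat_lit 5) Steps.nil))) (nat_lit 18) (nat_lit 1),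
  Rule.mk (nat_lit 9) (nat_lit 42) (Steps.bwd (nat_lit 5) (Steps.bwd (nat_lit 8) (Steps.fwd (nat_lit 7168) Steps.nil))) (nat_lit 98) (nat_lit 3),
  Rule.mk (nat_lit 7) (nat_lit 53) (Steps.bwd (nat_lit 5) (Steps.fwd (nat_lit 6144) (Steps.bwd (nat_lit 5) (Steps.fwd (nat_lit 6144) Steps.nil)))) (nat_lit 25) (nat_lit 1)]
noncomputable def R_3 : List (Rule) := [Rule.mk (nat_lit 9) (nat_lit 53) (Steps.bwd (nat_lit 7) (Steps.fwd (nat_lit 5120) (Steps.fwd (nat_lit 9216) (Steps.bwd (nat_lit 5) Steps.nil)))) (nat_lit 101) (nat_lit 0),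
  Rule.mk (nat_lit 7) (nat_lit 42) (Steps.bwd (nat_lit 6) (Steps.bwd (nat_lit 7) (Steps.fwd (nat_lit 6144) Steps.nil))) (nat_lit 48) (nat_lit 0),
  Rule.mk (nat_lit 8) (nat_lit 42) (Steps.bwd (nat_lit 6) (Steps.fwd (nat_lit 9216) (Steps.bwd (nat_lit 6) Steps.nil))) (nat_lit 102) (nat_lit 0),
  Rule.mk (nat_lit 6) (nat_lit 53) (Steps.bwd (nat_lit 5) (Steps.fwd (nat_lit 7168) (Steps.bwd (nat_lit 6) (Steps.fwd (nat_lit 5120) Steps.nil)))) (nat_lit 24) (nat_lit 3),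
  Rule.mk (nat_lit 8) (nat_lit 53) (Steps.bwd (nat_lit 5) (Steps.fwd (nat_lit 8192) (Steps.fwd (nat_lit 5120) (Steps.bwd (nat_lit 7) Steps.nil)))) (nat_lit 100) (nat_lit 1),
  Rule.mk (nat_lit 2) (nat_lit 64) (Steps.bwd (nat_lit 1) (Steps.fwd (nat_lit 3072) (Steps.bwd (nat_lit 1) (Steps.bwd (nat_lit 2) (Steps.fwd (nat_lit 1024) Steps.nil))))) (nat_lit 12) (nat_lit 0),
  Rule.mk (nat_lit 6) (nat_lit 42) (Steps.bwd (nat_lit 3) (Steps.fwd (nat_lit 6144) (Steps.bwd (nat_lit 2) Steps.nil))) (nat_lit 40) (nat_lit 2),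
  Rule.mk (nat_lit 9) (nat_lit 42) (Steps.bwd (nat_lit 2) (Steps.bwd (nat_lit 8) (Steps.bwd (nat_lit 3) Steps.nil))) (nat_lit 97) (nat_lit 0),
  Rule.mk (nat_lit 2) (nat_lit 64) (Steps.bwd (nat_lit 1) (Steps.bwd (nat_lit 2) (Steps.fwd (nat_lit 1024) (Steps.fwd (nat_lit 3072) (Steps.bwd (nat_lit 1) Steps.nil))))) (nat_lit 12) (nat_lit 0),
  Rule.mk (nat_lit 9) (nat_lit 64) (Steps.bwd (nat_lit 1) (Steps.fwd (nat_lit 9216) (Steps.fwd (nat_lit 3072) (Steps.fwd (nat_lit 1024) (Steps.fwd (nat_lit 2048) Steps.nil))))) (nat_lit 104) (nat_lit 5),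
  Rule.mk (nat_lit 8) (nat_lit 42) (Steps.bwd (nat_lit 2) (Steps.bwd (nat_lit 9) (Steps.fwd (nat_lit 2048) Steps.nil))) (nat_lit 96) (nat_lit 1),
  Rule.mk (nat_lit 1) (nat_lit 64) (Steps.bwd (nat_lit 3) (Steps.fwd (nat_lit 8192) (Steps.bwd (nat_lit 1) (Steps.bwd (nat_lit 8) (Steps.bwd (nat_lit 2) Steps.nil))))) (nat_lit 104) (nat_lit 3),
  Rule.mk (nat_lit 1) (nat_lit 42) (Steps.bwd (nat_lit 7) (Steps.bwd (nat_lit 1) (Steps.fwd (nat_lit 7168) Steps.nil))) (nat_lit 26) (nat_lit 0),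
  Rule.mk (nat_lit 1) (nat_lit 42) (Steps.bwd (nat_lit 5) (Steps.bwd (nat_lit 1) (Steps.bwd (nat_lit 5) Steps.nil))) (nat_lit 18) (nat_lit 1),
  Rule.mk (nat_lit 7) (nat_lit 42) (Steps.bwd (nat_lit 5) (Steps.bwd (nat_lit 7) (Steps.bwd (nat_lit 5) Steps.nil))) (nat_lit 32) (nat_lit 1),
  Rule.mk (nat_lit 3) (nat_lit 42) (Steps.bwd (nat_lit 5) (Steps.bwd (nat_lit 2) (Steps.bwd (nat_lit 5) Steps.nil))) (nat_lit 20) (nat_lit 3),
  Rule.mk (nat_lit 1) (nat_lit 64) (Steps.bwd (nat_lit 8) (Steps.fwd (nat_lit 3072) (Steps.bwd (nat_lit 1) (Steps.fwd (nat_lit 2048) (Steps.bwd (nat_lit 9) Steps.nil))))) (nat_lit 104) (nat_lit 0),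
  Rule.mk (nat_lit 7) (nat_lit 53) (Steps.bwd (nat_lit 8) (Steps.fwd (nat_lit 5120) (Steps.bwd (nat_lit 9) (Steps.bwd (nat_lit 5) Steps.nil)))) (nat_lit 100) (nat_lit 0),
  Rule.mk (nat_lit 7) (nat_lit 42) (Steps.bwd (nat_lit 5) (Steps.fwd (nat_lit 7168) (Steps.fwd (nat_lit 5120) Steps.nil))) (nat_lit 32) (nat_lit 1),
  Rule.mk (nat_lit 9) (nat_lit 31) (Steps.fwd (nat_lit 8192) (Steps.bwd (nat_lit 9) Steps.nil)) (nat_lit 95) (nat_lit 0),
  Rule.mk (nat_lit 1) (nat_lit 42) (Steps.bwd (nat_lit 5) (Steps.bwd (nat_lit 1) (Steps.fwd (nat_lit 5120) Steps.nil))) (nat_lit 18) (nat_lit 1),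
  Rule.mk (nat_lit 8) (nat_lit 53) (Steps.bwd (nat_lit 5) (Steps.bwd (nat_lit 9) (Steps.bwd (nat_lit 5) (Steps.fwd (nat_lit 7168) Steps.nil)))) (nat_lit 100) (nat_lit 1),
  Rule.mk (nat_lit 2) (nat_lit 42) (Steps.bwd (nat_lit 9) (Steps.bwd (nat_lit 3) (Steps.fwd (nat_lit 9216) Steps.nil))) (nat_lit 96) (nat_lit 2),
  Rule.mk (nat_lit 1) (nat_lit 64) (Steps.fwd (nat_lit 2048) (Steps.fwd (nat_lit 8192) (Steps.bwd (nat_lit 1) (Steps.fwd (nat_lit 9216) (Steps.bwd (nat_lit 2) Steps.nil))))) (nat_lit 104) (nat_lit 3),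
  Rule.mk (nat_lit 1) (nat_lit 86) (Steps.bwd (nat_lit 4) (Steps.fwd (nat_lit 1024) (Steps.fwd (nat_lit 6144) (Steps.bwd (nat_lit 1) (Steps.bwd (nat_lit 4) (Steps.bwd (nat_lit 1) (Steps.bwd (nat_lit 6) Steps.nil))))))) (nat_lit 74) (nat_lit 1),
  Rule.mk (nat_lit 1) (nat_lit 64) (Steps.bwd (nat_lit 3) (Steps.fwd (nat_lit 1024) (Steps.bwd (nat_lit 3) (Steps.fwd (nat_lit 1024) (Steps.fwd (nat_lit 2048) Steps.nil))))) (nat_lit 13) (nat_lit 0),
  Rule.mk (nat_lit 9) (nat_lit 64) (Steps.fwd (nat_lit 1024) (Steps.bwd (nat_lit 8) (Steps.bwd (nat_lit 2) (Steps.bwd (nat_lit 1) (Steps.bwd (nat_lit 3) Steps.nil))))) (nat_lit 104) (nat_lit 5),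
  Rule.mk (nat_lit 1) (nat_lit 42) (Steps.bwd (nat_lit 7) (Steps.fwd (nat_lit 1024) (Steps.fwd (nat_lit 7168) Steps.nil))) (nat_lit 26) (nat_lit 0),
  Rule.mk (nat_lit 8) (nat_lit 42) (Steps.bwd (nat_lit 7) (Steps.bwd (nat_lit 9) (Steps.bwd (nat_lit 5) Steps.nil))) (nat_lit 98) (nat_lit 1),
  Rule.mk (nat_lit 1) (nat_lit 64) (Steps.bwd (nat_lit 3) (Steps.fwd (nat_lit 1024) (Steps.fwd (nat_lit 2048) (Steps.bwd (nat_lit 1) (Steps.bwd (nat_lit 3) Steps.nil))))) (nat_lit 13) (nat_lit 0),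
  Rule.mk (nat_lit 8) (nat_lit 31) (Steps.fwd (nat_lit 9216) (Steps.bwd (nat_lit 8) Steps.nil)) (nat_lit 94) (nat_lit 0),
  Rule.mk (nat_lit 5) (nat_lit 42) (Steps.bwd (nat_lit 1) (Steps.bwd (nat_lit 5) (Steps.bwd (nat_lit 1) Steps.nil))) (nat_lit 18) (nat_lit 0),
  Rule.mk (nat_lit 8) (nat_lit 42) (Steps.fwd (nat_lit 7168) (Steps.fwd (nat_lit 8192) (Steps.bwd (nat_lit 5) Steps.nil))) (nat_lit 98) (nat_lit 1),
  Rule.mk (nat_lit 9) (nat_lit 64) (Steps.bwd (nat_lit 1) (Steps.bwd (nat_lit 8) (Steps.bwd (nat_lit 2) (Steps.bwd (nat_lit 1) (Steps.bwd (nat_lit 3) Steps.nil))))) (nat_lit 104) (nat_lit 5),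
  Rule.mk (nat_lit 2) (nat_lit 64) (Steps.bwd (nat_lit 1) (Steps.fwd (nat_lit 2048) (Steps.fwd (nat_lit 8192) (Steps.fwd (nat_lit 1024) (Steps.bwd (nat_lit 8) Steps.nil))))) (nat_lit 104) (nat_lit 2),
  Rule.mk (nat_lit 1) (nat_lit 64) (Steps.fwd (nat_lit 2048) (Steps.fwd (nat_lit 8192) (Steps.fwd (nat_lit 1024) (Steps.bwd (nat_lit 8) (Steps.bwd (nat_lit 2) Steps.nil))))) (nat_lit 104) (nat_lit 3),
  Rule.mk (nat_lit 1) (nat_lit 86) (Steps.bwd (nat_lit 2) (Steps.bwd (nat_lit 1) (Steps.fwd (nat_lit 5120) (Steps.bwd (nat_lit 2) (Steps.bwd (nat_lit 1) (Steps.fwd (nat_lit 3072) (Steps.bwd (nat_lit 5) Steps.nil))))))) (nat_lit 70) (nat_lit 1),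
  Rule.mk (nat_lit 6) (nat_lit 53) (Steps.bwd (nat_lit 5) (Steps.fwd (nat_lit 6144) (Steps.fwd (nat_lit 5120) (Steps.fwd (nat_lit 7168) Steps.nil)))) (nat_lit 24) (nat_lit 1),
  Rule.mk (nat_lit 8) (nat_lit 53) (Steps.bwd (nat_lit 5) (Steps.fwd (nat_lit 8192) (Steps.fwd (nat_lit 5120) (Steps.fwd (nat_lit 7168) Steps.nil)))) (nat_lit 100) (nat_lit 1),
  Rule.mk (nat_lit 5) (nat_lit 42) (Steps.bwd (nat_lit 3) (Steps.bwd (nat_lit 5) (Steps.bwd (nat_lit 2) Steps.nil))) (nat_lit 20) (nat_lit 2),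
  Rule.mk (nat_lit 8) (nat_lit 42) (Steps.bwd (nat_lit 2) (Steps.fwd (nat_lit 8192) (Steps.fwd (nat_lit 2048) Steps.nil))) (nat_lit 96) (nat_lit 1),
  Rule.mk (nat_lit 1) (nat_lit 64) (Steps.bwd (nat_lit 2) (Steps.fwd (nat_lit 1024) (Steps.bwd (nat_lit 2) (Steps.fwd (nat_lit 1024) (Steps.fwd (nat_lit 3072) Steps.nil))))) (nat_lit 12) (nat_lit 1),
  Rule.mk (nat_lit 6) (nat_lit 42) (Steps.fwd (nat_lit 9216) (Steps.fwd (nat_lit 6144) (Steps.bwd (nat_lit 8) Steps.nil))) (nat_lit 102) (nat_lit 1),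
  Rule.mk (nat_lit 5) (nat_lit 42) (Steps.bwd (nat_lit 2) (Steps.bwd (nat_lit 5) (Steps.fwd (nat_lit 2048) Steps.nil))) (nat_lit 20) (nat_lit 0),
  Rule.mk (nat_lit 6) (nat_lit 64) (Steps.bwd (nat_lit 2) (Steps.fwd (nat_lit 7168) (Steps.fwd (nat_lit 6144) (Steps.fwd (nat_lit 2048) (Steps.fwd (nat_lit 7168) Steps.nil))))) (nat_lit 63) (nat_lit 2),
  Rule.mk (nat_lit 9) (nat_lit 42) (Steps.bwd (nat_lit 6) (Steps.fwd (nat_lit 8192) (Steps.bwd (nat_lit 6) Steps.nil))) (nat_lit 103) (nat_lit 1),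
  Rule.mk (nat_lit 1) (nat_lit 64) (Steps.fwd (nat_lit 9216) (Steps.bwd (nat_lit 2) (Steps.bwd (nat_lit 1) (Steps.bwd (nat_lit 3) (Steps.bwd (nat_lit 9) Steps.nil))))) (nat_lit 104) (nat_lit 0),
  Rule.mk (nat_lit 3) (nat_lit 42) (Steps.bwd (nat_lit 8) (Steps.fwd (nat_lit 3072) (Steps.bwd (nat_lit 9) Steps.nil))) (nat_lit 96) (nat_lit 0),
  Rule.mk (nat_lit 1) (nat_lit 64) (Steps.bwd (nat_lit 8) (Steps.fwd (nat_lit 3072) (Steps.fwd (nat_lit 1024) (Steps.fwd (nat_lit 2048) (Steps.bwd (nat_lit 9) Steps.nil))))) (nat_lit 104) (nat_lit 0),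
  Rule.mk (nat_lit 3) (nat_lit 31) (Steps.fwd (nat_lit 2048) (Steps.bwd (nat_lit 3) Steps.nil)) (nat_lit 3) (nat_lit 0),
  Rule.mk (nat_lit 2) (nat_lit 64) (Steps.bwd (nat_lit 1) (Steps.fwd (nat_lit 3072) (Steps.fwd (nat_lit 1024) (Steps.fwd (nat_lit 3072) (Steps.bwd (nat_lit 1) Steps.nil))))) (nat_lit 12) (nat_lit 0),
  Rule.mk (nat_lit 9) (nat_lit 64) (Steps.bwd (nat_lit 1) (Steps.fwd (nat_lit 9216) (Steps.fwd (nat_lit 3072) (Steps.bwd (nat_lit 1) (Steps.bwd (nat_lit 3) Steps.nil))))) (nat_lit 104) (nat_lit 5),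
  Rule.mk (nat_lit 3) (nat_lit 42) (Steps.bwd (nat_lit 7) (Steps.fwd (nat_lit 3072) (Steps.bwd (nat_lit 7) Steps.nil))) (nat_lit 28) (nat_lit 0),
  Rule.mk (nat_lit 8) (nat_lit 42) (Steps.bwd (nat_lit 6) (Steps.bwd (nat_lit 8) (Steps.bwd (nat_lit 6) Steps.nil))) (nat_lit 102) (nat_lit 0),
  Rule.mk (nat_lit 9) (nat_lit 42) (Steps.bwd (nat_lit 6) (Steps.fwd (nat_lit 8192) (Steps.fwd (nat_lit 6144) Steps.nil))) (nat_lit 103) (nat_lit 1),
  Rule.mk (nat_lit 1) (nat_lit 152) (Steps.bwd (nat_lit 6) (Steps.fwd (nat_lit 1024) (Steps.fwd (nat_lit 6144) (Steps.bwd (nat_lit 5) (Steps.fwd (nat_lit 3072) (Steps.fwd (nat_lit 1024) (Steps.bwd (nat_lit 6) (Steps.fwd (nat_lit 1024) (Steps.fwd (nat_lit 3072) (Steps.bwd (nat_lit 1) (Steps.bwd (nat_lit 6) (Steps.fwd (nat_lit 1024) (Steps.bwd (nat_lit 2) Steps.nil))))))))))))) (nat_lit 34) (nat_lit 10),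
  Rule.mk (nat_lit 7) (nat_lit 42) (Steps.bwd (nat_lit 3) (Steps.fwd (nat_lit 7168) (Steps.bwd (nat_lit 2) Steps.nil))) (nat_lit 28) (nat_lit 3),
  Rule.mk (nat_lit 9) (nat_lit 42) (Steps.bwd (nat_lit 3) (Steps.fwd (nat_lit 9216) (Steps.fwd (nat_lit 3072) Steps.nil))) (nat_lit 96) (nat_lit 3),
  Rule.mk (nat_lit 1) (nat_lit 64) (Steps.bwd (nat_lit 3) (Steps.fwd (nat_lit 1024) (Steps.fwd (nat_lit 2048) (Steps.bwd (nat_lit 1) (Steps.fwd (nat_lit 2048) Steps.nil))))) (nat_lit 13) (nat_lit 0),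
  Rule.mk (nat_lit 1) (nat_lit 64) (Steps.bwd (nat_lit 3) (Steps.fwd (nat_lit 1024) (Steps.bwd (nat_lit 3) (Steps.bwd (nat_lit 1) (Steps.bwd (nat_lit 3) Steps.nil))))) (nat_lit 13) (nat_lit 0),
  Rule.mk (nat_lit 2) (nat_lit 42) (Steps.bwd (nat_lit 6) (Steps.fwd (nat_lit 2048) (Steps.bwd (nat_lit 6) Steps.nil))) (nat_lit 40) (nat_lit 1),
  Rule.mk (nat_lit 5) (nat_lit 152) (Steps.bwd (nat_lit 6) (Steps.bwd (nat_lit 1) (Steps.bwd (nat_lit 6) (Steps.fwd (nat_lit 1024) (Steps.fwd (nat_lit 2048) (Steps.bwd (nat_lit 1) (Steps.bwd (nat_lit 6) (Steps.bwd (nat_lit 1) (Steps.bwd (nat_lit 3) (Steps.bwd (nat_lit 1) (Steps.fwd (nat_lit 6144) (Steps.bwd (nat_lit 1) (Steps.bwd (nat_lit 3) Steps.nil))))))))))))) (nat_lit 35) (nat_lit 1),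
  Rule.mk (nat_lit 1) (nat_lit 86) (Steps.bwd (nat_lit 3) (Steps.fwd (nat_lit 1024) (Steps.bwd (nat_lit 5) (Steps.bwd (nat_lit 3) (Steps.fwd (nat_lit 1024) (Steps.fwd (nat_lit 2048) (Steps.bwd (nat_lit 5) Steps.nil))))))) (nat_lit 71) (nat_lit 6),
  Rule.mk (nat_lit 5) (nat_lit 42) (Steps.bwd (nat_lit 3) (Steps.fwd (nat_lit 5120) (Steps.fwd (nat_lit 3072) Steps.nil))) (nat_lit 20) (nat_lit 2)]
noncomputable def R_4 : List (Rule) := [Rule.mk (nat_lit 7) (nat_lit 42) (Steps.bwd (nat_lit 3) (Steps.fwd (nat_lit 7168) (Steps.fwd (nat_lit 3072) Steps.nil))) (nat_lit 28) (nat_lit 3),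
  Rule.mk (nat_lit 9) (nat_lit 42) (Steps.bwd (nat_lit 3) (Steps.fwd (nat_lit 9216) (Steps.bwd (nat_lit 2) Steps.nil))) (nat_lit 96) (nat_lit 3),
  Rule.mk (nat_lit 1) (nat_lit 64) (Steps.bwd (nat_lit 3) (Steps.bwd (nat_lit 1) (Steps.bwd (nat_lit 3) (Steps.bwd (nat_lit 1) (Steps.bwd (nat_lit 3) Steps.nil))))) (nat_lit 13) (nat_lit 0),
  Rule.mk (nat_lit 5) (nat_lit 42) (Steps.bwd (nat_lit 1) (Steps.fwd (nat_lit 5120) (Steps.bwd (nat_lit 1) Steps.nil))) (nat_lit 18) (nat_lit 0),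
  Rule.mk (nat_lit 9) (nat_lit 64) (Steps.bwd (nat_lit 1) (Steps.fwd (nat_lit 9216) (Steps.bwd (nat_lit 2) (Steps.bwd (nat_lit 1) (Steps.bwd (nat_lit 3) Steps.nil))))) (nat_lit 104) (nat_lit 5),
  Rule.mk (nat_lit 1) (nat_lit 152) (Steps.bwd (nat_lit 6) (Steps.fwd (nat_lit 1024) (Steps.bwd (nat_lit 2) (Steps.bwd (nat_lit 1) (Steps.fwd (nat_lit 6144) (Steps.bwd (nat_lit 1) (Steps.fwd (nat_lit 6144) (Steps.bwd (nat_lit 5) (Steps.bwd (nat_lit 2) (Steps.bwd (nat_lit 1) (Steps.bwd (nat_lit 6) (Steps.fwd (nat_lit 1024) (Steps.fwd (nat_lit 3072) Steps.nil))))))))))))) (nat_lit 34) (nat_lit 6),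
  Rule.mk (nat_lit 6) (nat_lit 152) (Steps.bwd (nat_lit 1) (Steps.bwd (nat_lit 6) (Steps.fwd (nat_lit 5120) (Steps.fwd (nat_lit 3072) (Steps.bwd (nat_lit 1) (Steps.fwd (nat_lit 6144) (Steps.fwd (nat_lit 1024) (Steps.bwd (nat_lit 2) (Steps.bwd (nat_lit 1) (Steps.fwd (nat_lit 6144) (Steps.bwd (nat_lit 1) (Steps.fwd (nat_lit 3072) (Steps.fwd (nat_lit 1024) Steps.nil))))))))))))) (nat_lit 34) (nat_lit 11),
  Rule.mk (nat_lit 8) (nat_lit 53) (Steps.bwd (nat_lit 5) (Steps.fwd (nat_lit 8192) (Steps.bwd (nat_lit 5) (Steps.bwd (nat_lit 7) Steps.nil)))) (nat_lit 100) (nat_lit 1),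
  Rule.mk (nat_lit 2) (nat_lit 86) (Steps.bwd (nat_lit 5) (Steps.fwd (nat_lit 1024) (Steps.bwd (nat_lit 2) (Steps.bwd (nat_lit 1) (Steps.bwd (nat_lit 5) (Steps.bwd (nat_lit 2) (Steps.bwd (nat_lit 1) Steps.nil))))))) (nat_lit 70) (nat_lit 7),
  Rule.mk (nat_lit 4) (nat_lit 86) (Steps.bwd (nat_lit 7) (Steps.bwd (nat_lit 2) (Steps.bwd (nat_lit 5) (Steps.fwd (nat_lit 4096) (Steps.fwd (nat_lit 7168) (Steps.fwd (nat_lit 3072) (Steps.bwd (nat_lit 6) Steps.nil))))))) (nat_lit 86) (nat_lit 7),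
  Rule.mk (nat_lit 4) (nat_lit 64) (Steps.bwd (nat_lit 6) (Steps.bwd (nat_lit 3) (Steps.bwd (nat_lit 4) (Steps.fwd (nat_lit 5120) (Steps.fwd (nat_lit 2048) Steps.nil))))) (nat_lit 59) (nat_lit 1),
  Rule.mk (nat_lit 2) (nat_lit 64) (Steps.bwd (nat_lit 1) (Steps.fwd (nat_lit 3072) (Steps.fwd (nat_lit 1024) (Steps.fwd (nat_lit 3072) (Steps.fwd (nat_lit 1024) Steps.nil))))) (nat_lit 12) (nat_lit 0),
  Rule.mk (nat_lit 3) (nat_lit 64) (Steps.bwd (nat_lit 1) (Steps.fwd (nat_lit 2048) (Steps.bwd (nat_lit 1) (Steps.fwd (nat_lit 2048) (Steps.bwd (nat_lit 1) Steps.nil))))) (nat_lit 13) (nat_lit 1),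
  Rule.mk (nat_lit 4) (nat_lit 86) (Steps.bwd (nat_lit 1) (Steps.bwd (nat_lit 6) (Steps.bwd (nat_lit 1) (Steps.fwd (nat_lit 4096) (Steps.fwd (nat_lit 1024) (Steps.fwd (nat_lit 6144) (Steps.fwd (nat_lit 1024) Steps.nil))))))) (nat_lit 74) (nat_lit 2),
  Rule.mk (nat_lit 8) (nat_lit 42) (Steps.fwd (nat_lit 3072) (Steps.bwd (nat_lit 9) (Steps.bwd (nat_lit 3) Steps.nil))) (nat_lit 96) (nat_lit 1),
  Rule.mk (nat_lit 4) (nat_lit 42) (Steps.bwd (nat_lit 6) (Steps.fwd (nat_lit 4096) (Steps.fwd (nat_lit 5120) Steps.nil))) (nat_lit 22) (nat_lit 3),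
  Rule.mk (nat_lit 1) (nat_lit 152) (Steps.bwd (nat_lit 6) (Steps.fwd (nat_lit 5120) (Steps.fwd (nat_lit 3072) (Steps.fwd (nat_lit 1024) (Steps.fwd (nat_lit 6144) (Steps.bwd (nat_lit 1) (Steps.bwd (nat_lit 2) (Steps.fwd (nat_lit 1024) (Steps.bwd (nat_lit 6) (Steps.bwd (nat_lit 1) (Steps.fwd (nat_lit 3072) (Steps.fwd (nat_lit 1024) (Steps.fwd (nat_lit 6144) Steps.nil))))))))))))) (nat_lit 34) (nat_lit 12),
  Rule.mk (nat_lit 8) (nat_lit 42) (Steps.bwd (nat_lit 7) (Steps.fwd (nat_lit 8192) (Steps.fwd (nat_lit 5120) Steps.nil))) (nat_lit 98) (nat_lit 1),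
  Rule.mk (nat_lit 9) (nat_lit 53) (Steps.bwd (nat_lit 7) (Steps.bwd (nat_lit 5) (Steps.bwd (nat_lit 8) (Steps.fwd (nat_lit 5120) Steps.nil)))) (nat_lit 101) (nat_lit 0),
  Rule.mk (nat_lit 4) (nat_lit 42) (Steps.bwd (nat_lit 6) (Steps.bwd (nat_lit 4) (Steps.fwd (nat_lit 5120) Steps.nil))) (nat_lit 22) (nat_lit 3),
  Rule.mk (nat_lit 1) (nat_lit 152) (Steps.bwd (nat_lit 6) (Steps.fwd (nat_lit 5120) (Steps.bwd (nat_lit 2) (Steps.fwd (nat_lit 1024) (Steps.bwd (nat_lit 6) (Steps.fwd (nat_lit 1024) (Steps.bwd (nat_lit 2) (Steps.fwd (nat_lit 1024) (Steps.bwd (nat_lit 6) (Steps.bwd (nat_lit 1) (Steps.fwd (nat_lit 3072) (Steps.bwd (nat_lit 1) (Steps.bwd (nat_lit 6) Steps.nil))))))))))))) (nat_lit 34) (nat_lit 12),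
  Rule.mk (nat_lit 4) (nat_lit 42) (Steps.bwd (nat_lit 3) (Steps.fwd (nat_lit 4096) (Steps.bwd (nat_lit 3) Steps.nil))) (nat_lit 15) (nat_lit 0),
  Rule.mk (nat_lit 1) (nat_lit 64) (Steps.bwd (nat_lit 3) (Steps.fwd (nat_lit 1024) (Steps.bwd (nat_lit 3) (Steps.fwd (nat_lit 1024) (Steps.bwd (nat_lit 3) Steps.nil))))) (nat_lit 13) (nat_lit 0),
  Rule.mk (nat_lit 2) (nat_lit 42) (Steps.bwd (nat_lit 6) (Steps.bwd (nat_lit 3) (Steps.fwd (nat_lit 6144) Steps.nil))) (nat_lit 40) (nat_lit 1),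
  Rule.mk (nat_lit 8) (nat_lit 42) (Steps.bwd (nat_lit 6) (Steps.fwd (nat_lit 9216) (Steps.fwd (nat_lit 6144) Steps.nil))) (nat_lit 102) (nat_lit 0),
  Rule.mk (nat_lit 4) (nat_lit 64) (Steps.bwd (nat_lit 6) (Steps.fwd (nat_lit 3072) (Steps.bwd (nat_lit 4) (Steps.fwd (nat_lit 5120) (Steps.bwd (nat_lit 2) Steps.nil))))) (nat_lit 54) (nat_lit 5),
  Rule.mk (nat_lit 4) (nat_lit 42) (Steps.bwd (nat_lit 3) (Steps.bwd (nat_lit 4) (Steps.fwd (nat_lit 2048) Steps.nil))) (nat_lit 15) (nat_lit 0),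
  Rule.mk (nat_lit 4) (nat_lit 42) (Steps.bwd (nat_lit 2) (Steps.bwd (nat_lit 4) (Steps.fwd (nat_lit 3072) Steps.nil))) (nat_lit 14) (nat_lit 1),
  Rule.mk (nat_lit 4) (nat_lit 42) (Steps.bwd (nat_lit 6) (Steps.bwd (nat_lit 4) (Steps.bwd (nat_lit 5) Steps.nil))) (nat_lit 22) (nat_lit 3),
  Rule.mk (nat_lit 5) (nat_lit 42) (Steps.bwd (nat_lit 4) (Steps.bwd (nat_lit 6) (Steps.bwd (nat_lit 4) Steps.nil))) (nat_lit 22) (nat_lit 2),
  Rule.mk (nat_lit 4) (nat_lit 42) (Steps.bwd (nat_lit 5) (Steps.fwd (nat_lit 4096) (Steps.fwd (nat_lit 6144) Steps.nil))) (nat_lit 22) (nat_lit 1),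
  Rule.mk (nat_lit 6) (nat_lit 53) (Steps.bwd (nat_lit 5) (Steps.fwd (nat_lit 7168) (Steps.fwd (nat_lit 6144) (Steps.bwd (nat_lit 5) Steps.nil)))) (nat_lit 24) (nat_lit 3),
  Rule.mk (nat_lit 6) (nat_lit 53) (Steps.bwd (nat_lit 5) (Steps.bwd (nat_lit 6) (Steps.fwd (nat_lit 5120) (Steps.fwd (nat_lit 7168) Steps.nil)))) (nat_lit 24) (nat_lit 1),
  Rule.mk (nat_lit 1) (nat_lit 64) (Steps.bwd (nat_lit 4) (Steps.bwd (nat_lit 1) (Steps.bwd (nat_lit 4) (Steps.fwd (nat_lit 1024) (Steps.bwd (nat_lit 4) Steps.nil))))) (nat_lit 16) (nat_lit 1),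
  Rule.mk (nat_lit 4) (nat_lit 64) (Steps.bwd (nat_lit 1) (Steps.fwd (nat_lit 4096) (Steps.bwd (nat_lit 1) (Steps.bwd (nat_lit 4) (Steps.fwd (nat_lit 1024) Steps.nil))))) (nat_lit 16) (nat_lit 0),
  Rule.mk (nat_lit 5) (nat_lit 42) (Steps.bwd (nat_lit 7) (Steps.bwd (nat_lit 5) (Steps.fwd (nat_lit 7168) Steps.nil))) (nat_lit 32) (nat_lit 0),
  Rule.mk (nat_lit 4) (nat_lit 42) (Steps.bwd (nat_lit 7) (Steps.fwd (nat_lit 4096) (Steps.fwd (nat_lit 7168) Steps.nil))) (nat_lit 30) (nat_lit 0),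
  Rule.mk (nat_lit 6) (nat_lit 53) (Steps.bwd (nat_lit 5) (Steps.bwd (nat_lit 7) (Steps.bwd (nat_lit 6) (Steps.bwd (nat_lit 5) Steps.nil)))) (nat_lit 24) (nat_lit 3),
  Rule.mk (nat_lit 1) (nat_lit 86) (Steps.fwd (nat_lit 4096) (Steps.fwd (nat_lit 1024) (Steps.bwd (nat_lit 6) (Steps.bwd (nat_lit 1) (Steps.bwd (nat_lit 4) (Steps.bwd (nat_lit 1) (Steps.bwd (nat_lit 6) Steps.nil))))))) (nat_lit 74) (nat_lit 1),
  Rule.mk (nat_lit 6) (nat_lit 53) (Steps.bwd (nat_lit 5) (Steps.fwd (nat_lit 7168) (Steps.bwd (nat_lit 6) (Steps.bwd (nat_lit 5) Steps.nil)))) (nat_lit 24) (nat_lit 3),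
  Rule.mk (nat_lit 8) (nat_lit 130) (Steps.bwd (nat_lit 4) (Steps.bwd (nat_lit 8) (Steps.bwd (nat_lit 4) (Steps.bwd (nat_lit 8) (Steps.bwd (nat_lit 4) (Steps.bwd (nat_lit 8) (Steps.fwd (nat_lit 4096) (Steps.bwd (nat_lit 8) (Steps.bwd (nat_lit 4) (Steps.bwd (nat_lit 8) (Steps.bwd (nat_lit 4) Steps.nil))))))))))) (nat_lit 106) (nat_lit 1),
  Rule.mk (nat_lit 9) (nat_lit 42) (Steps.fwd (nat_lit 6144) (Steps.fwd (nat_lit 8192) (Steps.bwd (nat_lit 6) Steps.nil))) (nat_lit 103) (nat_lit 1),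
  Rule.mk (nat_lit 8) (nat_lit 130) (Steps.bwd (nat_lit 4) (Steps.fwd (nat_lit 9216) (Steps.fwd (nat_lit 4096) (Steps.fwd (nat_lit 9216) (Steps.fwd (nat_lit 4096) (Steps.fwd (nat_lit 9216) (Steps.fwd (nat_lit 4096) (Steps.fwd (nat_lit 9216) (Steps.bwd (nat_lit 4) (Steps.bwd (nat_lit 8) (Steps.bwd (nat_lit 4) Steps.nil))))))))))) (nat_lit 106) (nat_lit 1),
  Rule.mk (nat_lit 1) (nat_lit 64) (Steps.fwd (nat_lit 2048) (Steps.fwd (nat_lit 8192) (Steps.fwd (nat_lit 1024) (Steps.bwd (nat_lit 8) (Steps.fwd (nat_lit 3072) Steps.nil))))) (nat_lit 104) (nat_lit 3),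
  Rule.mk (nat_lit 5) (nat_lit 42) (Steps.bwd (nat_lit 8) (Steps.fwd (nat_lit 7168) (Steps.bwd (nat_lit 9) Steps.nil))) (nat_lit 98) (nat_lit 0),
  Rule.mk (nat_lit 9) (nat_lit 42) (Steps.bwd (nat_lit 5) (Steps.fwd (nat_lit 9216) (Steps.bwd (nat_lit 7) Steps.nil))) (nat_lit 98) (nat_lit 3),
  Rule.mk (nat_lit 4) (nat_lit 130) (Steps.bwd (nat_lit 8) (Steps.fwd (nat_lit 4096) (Steps.bwd (nat_lit 8) (Steps.bwd (nat_lit 4) (Steps.bwd (nat_lit 8) (Steps.fwd (nat_lit 4096) (Steps.fwd (nat_lit 9216) (Steps.fwd (nat_lit 4096) (Steps.bwd (nat_lit 8) (Steps.bwd (nat_lit 4) (Steps.bwd (nat_lit 8) Steps.nil))))))))))) (nat_lit 106) (nat_lit 0),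
  Rule.mk (nat_lit 6) (nat_lit 42) (Steps.bwd (nat_lit 8) (Steps.fwd (nat_lit 6144) (Steps.bwd (nat_lit 8) Steps.nil))) (nat_lit 102) (nat_lit 1),
  Rule.mk (nat_lit 1) (nat_lit 64) (Steps.bwd (nat_lit 4) (Steps.bwd (nat_lit 1) (Steps.fwd (nat_lit 4096) (Steps.bwd (nat_lit 1) (Steps.bwd (nat_lit 4) Steps.nil))))) (nat_lit 16) (nat_lit 1),
  Rule.mk (nat_lit 4) (nat_lit 42) (Steps.bwd (nat_lit 7) (Steps.bwd (nat_lit 4) (Steps.bwd (nat_lit 7) Steps.nil))) (nat_lit 30) (nat_lit 0),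
  Rule.mk (nat_lit 1) (nat_lit 64) (Steps.bwd (nat_lit 4) (Steps.fwd (nat_lit 1024) (Steps.fwd (nat_lit 4096) (Steps.bwd (nat_lit 1) (Steps.fwd (nat_lit 4096) Steps.nil))))) (nat_lit 16) (nat_lit 1),
  Rule.mk (nat_lit 0) (nat_lit 75) (Steps.bwd (nat_lit 1) (Steps.bwd (nat_lit 8) (Steps.fwd (nat_lit 3072) (Steps.fwd (nat_lit 1024) (Steps.bwd (nat_lit 3) (Steps.fwd (nat_lit 8192) Steps.nil)))))) (nat_lit 104) (nat_lit 5),
  Rule.mk (nat_lit 0) (nat_lit 42) (Steps.fwd (nat_lit 3072) (Steps.fwd (nat_lit 0) (Steps.fwd (nat_lit 2048) Steps.nil))) (nat_lit 108) (nat_lit 0),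
  Rule.mk (nat_lit 0) (nat_lit 42) (Steps.fwd (nat_lit 2048) (Steps.fwd (nat_lit 0) (Steps.bwd (nat_lit 2) Steps.nil))) (nat_lit 108) (nat_lit 0),
  Rule.mk (nat_lit 0) (nat_lit 42) (Steps.bwd (nat_lit 4) (Steps.bwd (nat_lit 0) (Steps.fwd (nat_lit 4096) Steps.nil))) (nat_lit 108) (nat_lit 0),
  Rule.mk (nat_lit 0) (nat_lit 42) (Steps.bwd (nat_lit 4) (Steps.fwd (nat_lit 0) (Steps.fwd (nat_lit 4096) Steps.nil))) (nat_lit 108) (nat_lit 0),
  Rule.mk (nat_lit 0) (nat_lit 42) (Steps.fwd (nat_lit 1024) (Steps.bwd (nat_lit 0) (Steps.fwd (nat_lit 1024) Steps.nil))) (nat_lit 108) (nat_lit 0),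
  Rule.mk (nat_lit 0) (nat_lit 42) (Steps.fwd (nat_lit 5120) (Steps.bwd (nat_lit 0) (Steps.fwd (nat_lit 5120) Steps.nil))) (nat_lit 108) (nat_lit 0),
  Rule.mk (nat_lit 0) (nat_lit 42) (Steps.fwd (nat_lit 7168) (Steps.fwd (nat_lit 0) (Steps.fwd (nat_lit 7168) Steps.nil))) (nat_lit 108) (nat_lit 0),
  Rule.mk (nat_lit 0) (nat_lit 42) (Steps.fwd (nat_lit 9216) (Steps.fwd (nat_lit 0) (Steps.fwd (nat_lit 8192) Steps.nil))) (nat_lit 108) (nat_lit 0),
  Rule.mk (nat_lit 0) (nat_lit 42) (Steps.fwd (nat_lit 8192) (Steps.bwd (nat_lit 0) (Steps.fwd (nat_lit 9216) Steps.nil))) (nat_lit 108) (nat_lit 0),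
  Rule.mk (nat_lit 0) (nat_lit 42) (Steps.fwd (nat_lit 5120) (Steps.fwd (nat_lit 0) (Steps.bwd (nat_lit 5) Steps.nil))) (nat_lit 108) (nat_lit 0),
  Rule.mk (nat_lit 0) (nat_lit 42) (Steps.bwd (nat_lit 7) (Steps.fwd (nat_lit 0) (Steps.fwd (nat_lit 7168) Steps.nil))) (nat_lit 108) (nat_lit 0),
  Rule.mk (nat_lit 0) (nat_lit 42) (Steps.bwd (nat_lit 8) (Steps.bwd (nat_lit 0) (Steps.fwd (nat_lit 8192) Steps.nil))) (nat_lit 108) (nat_lit 0)]
noncomputable def R_5 : List (Rule) := [Rule.mk (nat_lit 0) (nat_lit 42) (Steps.fwd (nat_lit 8192) (Steps.fwd (nat_lit 0) (Steps.fwd (nat_lit 9216) Steps.nil))) (nat_lit 108) (nat_lit 0),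
  Rule.mk (nat_lit 0) (nat_lit 42) (Steps.bwd (nat_lit 5) (Steps.bwd (nat_lit 0) (Steps.fwd (nat_lit 5120) Steps.nil))) (nat_lit 108) (nat_lit 0),
  Rule.mk (nat_lit 0) (nat_lit 42) (Steps.bwd (nat_lit 7) (Steps.fwd (nat_lit 0) (Steps.bwd (nat_lit 7) Steps.nil))) (nat_lit 108) (nat_lit 0),
  Rule.mk (nat_lit 0) (nat_lit 42) (Steps.bwd (nat_lit 8) (Steps.fwd (nat_lit 0) (Steps.fwd (nat_lit 8192) Steps.nil))) (nat_lit 108) (nat_lit 0),
  Rule.mk (nat_lit 0) (nat_lit 42) (Steps.bwd (nat_lit 9) (Steps.bwd (nat_lit 0) (Steps.fwd (nat_lit 9216) Steps.nil))) (nat_lit 108) (nat_lit 0),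
  Rule.mk (nat_lit 0) (nat_lit 42) (Steps.bwd (nat_lit 2) (Steps.fwd (nat_lit 0) (Steps.fwd (nat_lit 2048) Steps.nil))) (nat_lit 108) (nat_lit 0),
  Rule.mk (nat_lit 0) (nat_lit 42) (Steps.fwd (nat_lit 2048) (Steps.bwd (nat_lit 0) (Steps.fwd (nat_lit 3072) Steps.nil))) (nat_lit 108) (nat_lit 0),
  Rule.mk (nat_lit 0) (nat_lit 42) (Steps.fwd (nat_lit 5120) (Steps.fwd (nat_lit 0) (Steps.fwd (nat_lit 5120) Steps.nil))) (nat_lit 108) (nat_lit 0),
  Rule.mk (nat_lit 0) (nat_lit 42) (Steps.fwd (nat_lit 6144) (Steps.bwd (nat_lit 0) (Steps.fwd (nat_lit 6144) Steps.nil))) (nat_lit 108) (nat_lit 0),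
  Rule.mk (nat_lit 0) (nat_lit 53) (Steps.fwd (nat_lit 7168) (Steps.bwd (nat_lit 0) (Steps.bwd (nat_lit 7) (Steps.fwd (nat_lit 0) Steps.nil)))) (nat_lit 108) (nat_lit 0),
  Rule.mk (nat_lit 0) (nat_lit 53) (Steps.bwd (nat_lit 0) (Steps.fwd (nat_lit 9216) (Steps.bwd (nat_lit 0) (Steps.fwd (nat_lit 8192) Steps.nil)))) (nat_lit 108) (nat_lit 0),
  Rule.mk (nat_lit 0) (nat_lit 42) (Steps.bwd (nat_lit 9) (Steps.fwd (nat_lit 0) (Steps.fwd (nat_lit 9216) Steps.nil))) (nat_lit 108) (nat_lit 0),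
  Rule.mk (nat_lit 0) (nat_lit 42) (Steps.bwd (nat_lit 6) (Steps.bwd (nat_lit 0) (Steps.fwd (nat_lit 6144) Steps.nil))) (nat_lit 108) (nat_lit 0),
  Rule.mk (nat_lit 0) (nat_lit 42) (Steps.fwd (nat_lit 9216) (Steps.bwd (nat_lit 0) (Steps.fwd (nat_lit 8192) Steps.nil))) (nat_lit 108) (nat_lit 0),
  Rule.mk (nat_lit 0) (nat_lit 42) (Steps.fwd (nat_lit 8192) (Steps.fwd (nat_lit 0) (Steps.bwd (nat_lit 8) Steps.nil))) (nat_lit 108) (nat_lit 0),
  Rule.mk (nat_lit 0) (nat_lit 31) (Steps.fwd (nat_lit 0) (Steps.fwd (nat_lit 0) Steps.nil)) (nat_lit 108) (nat_lit 0),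
  Rule.mk (nat_lit 0) (nat_lit 42) (Steps.bwd (nat_lit 1) (Steps.fwd (nat_lit 0) (Steps.fwd (nat_lit 1024) Steps.nil))) (nat_lit 108) (nat_lit 0),
  Rule.mk (nat_lit 0) (nat_lit 42) (Steps.fwd (nat_lit 7168) (Steps.fwd (nat_lit 0) (Steps.bwd (nat_lit 7) Steps.nil))) (nat_lit 108) (nat_lit 0),
  Rule.mk (nat_lit 0) (nat_lit 53) (Steps.fwd (nat_lit 4096) (Steps.bwd (nat_lit 0) (Steps.fwd (nat_lit 4096) (Steps.fwd (nat_lit 0) Steps.nil)))) (nat_lit 108) (nat_lit 0),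
  Rule.mk (nat_lit 0) (nat_lit 42) (Steps.fwd (nat_lit 3072) (Steps.fwd (nat_lit 0) (Steps.bwd (nat_lit 3) Steps.nil))) (nat_lit 108) (nat_lit 0),
  Rule.mk (nat_lit 0) (nat_lit 42) (Steps.bwd (nat_lit 3) (Steps.fwd (nat_lit 0) (Steps.fwd (nat_lit 3072) Steps.nil))) (nat_lit 108) (nat_lit 0),
  Rule.mk (nat_lit 0) (nat_lit 53) (Steps.bwd (nat_lit 0) (Steps.fwd (nat_lit 5120) (Steps.fwd (nat_lit 0) (Steps.bwd (nat_lit 5) Steps.nil)))) (nat_lit 108) (nat_lit 0),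
  Rule.mk (nat_lit 0) (nat_lit 53) (Steps.bwd (nat_lit 0) (Steps.bwd (nat_lit 6) (Steps.fwd (nat_lit 0) (Steps.fwd (nat_lit 6144) Steps.nil)))) (nat_lit 108) (nat_lit 0),
  Rule.mk (nat_lit 0) (nat_lit 53) (Steps.bwd (nat_lit 9) (Steps.fwd (nat_lit 0) (Steps.bwd (nat_lit 8) (Steps.fwd (nat_lit 0) Steps.nil)))) (nat_lit 108) (nat_lit 0),
  Rule.mk (nat_lit 0) (nat_lit 53) (Steps.fwd (nat_lit 4096) (Steps.fwd (nat_lit 0) (Steps.bwd (nat_lit 4) (Steps.fwd (nat_lit 0) Steps.nil)))) (nat_lit 108) (nat_lit 0),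
  Rule.mk (nat_lit 0) (nat_lit 42) (Steps.bwd (nat_lit 1) (Steps.fwd (nat_lit 0) (Steps.bwd (nat_lit 1) Steps.nil))) (nat_lit 108) (nat_lit 0),
  Rule.mk (nat_lit 0) (nat_lit 53) (Steps.bwd (nat_lit 0) (Steps.fwd (nat_lit 4096) (Steps.fwd (nat_lit 0) (Steps.fwd (nat_lit 4096) Steps.nil)))) (nat_lit 108) (nat_lit 0),
  Rule.mk (nat_lit 0) (nat_lit 53) (Steps.bwd (nat_lit 5) (Steps.bwd (nat_lit 0) (Steps.bwd (nat_lit 5) (Steps.fwd (nat_lit 0) Steps.nil)))) (nat_lit 108) (nat_lit 0),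
  Rule.mk (nat_lit 0) (nat_lit 53) (Steps.bwd (nat_lit 0) (Steps.fwd (nat_lit 8192) (Steps.fwd (nat_lit 0) (Steps.fwd (nat_lit 9216) Steps.nil)))) (nat_lit 108) (nat_lit 0),
  Rule.mk (nat_lit 0) (nat_lit 53) (Steps.bwd (nat_lit 0) (Steps.bwd (nat_lit 5) (Steps.fwd (nat_lit 0) (Steps.bwd (nat_lit 5) Steps.nil)))) (nat_lit 108) (nat_lit 0),
  Rule.mk (nat_lit 0) (nat_lit 53) (Steps.bwd (nat_lit 8) (Steps.fwd (nat_lit 0) (Steps.bwd (nat_lit 9) (Steps.fwd (nat_lit 0) Steps.nil)))) (nat_lit 108) (nat_lit 0),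
  Rule.mk (nat_lit 0) (nat_lit 64) (Steps.bwd (nat_lit 0) (Steps.fwd (nat_lit 4096) (Steps.fwd (nat_lit 0) (Steps.bwd (nat_lit 4) (Steps.fwd (nat_lit 0) Steps.nil))))) (nat_lit 108) (nat_lit 0),
  Rule.mk (nat_lit 0) (nat_lit 53) (Steps.bwd (nat_lit 0) (Steps.bwd (nat_lit 6) (Steps.fwd (nat_lit 0) (Steps.bwd (nat_lit 6) Steps.nil)))) (nat_lit 108) (nat_lit 0),
  Rule.mk (nat_lit 0) (nat_lit 53) (Steps.bwd (nat_lit 0) (Steps.bwd (nat_lit 8) (Steps.fwd (nat_lit 0) (Steps.fwd (nat_lit 8192) Steps.nil)))) (nat_lit 108) (nat_lit 0),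
  Rule.mk (nat_lit 0) (nat_lit 42) (Steps.fwd (nat_lit 0) (Steps.fwd (nat_lit 0) (Steps.fwd (nat_lit 0) Steps.nil))) (nat_lit 108) (nat_lit 0),
  Rule.mk (nat_lit 0) (nat_lit 53) (Steps.bwd (nat_lit 0) (Steps.fwd (nat_lit 5120) (Steps.fwd (nat_lit 0) (Steps.fwd (nat_lit 5120) Steps.nil)))) (nat_lit 108) (nat_lit 0),
  Rule.mk (nat_lit 0) (nat_lit 53) (Steps.bwd (nat_lit 0) (Steps.fwd (nat_lit 7168) (Steps.fwd (nat_lit 0) (Steps.fwd (nat_lit 7168) Steps.nil)))) (nat_lit 108) (nat_lit 0),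
  Rule.mk (nat_lit 0) (nat_lit 53) (Steps.bwd (nat_lit 0) (Steps.fwd (nat_lit 4096) (Steps.fwd (nat_lit 0) (Steps.bwd (nat_lit 4) Steps.nil)))) (nat_lit 108) (nat_lit 0),
  Rule.mk (nat_lit 0) (nat_lit 64) (Steps.bwd (nat_lit 0) (Steps.fwd (nat_lit 8192) (Steps.fwd (nat_lit 0) (Steps.bwd (nat_lit 8) (Steps.fwd (nat_lit 0) Steps.nil))))) (nat_lit 108) (nat_lit 0),
  Rule.mk (nat_lit 0) (nat_lit 53) (Steps.fwd (nat_lit 8192) (Steps.bwd (nat_lit 0) (Steps.bwd (nat_lit 8) (Steps.fwd (nat_lit 0) Steps.nil)))) (nat_lit 108) (nat_lit 0),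
  Rule.mk (nat_lit 0) (nat_lit 53) (Steps.bwd (nat_lit 0) (Steps.bwd (nat_lit 2) (Steps.fwd (nat_lit 0) (Steps.bwd (nat_lit 3) Steps.nil)))) (nat_lit 108) (nat_lit 0),
  Rule.mk (nat_lit 0) (nat_lit 53) (Steps.fwd (nat_lit 3072) (Steps.bwd (nat_lit 0) (Steps.bwd (nat_lit 3) (Steps.fwd (nat_lit 0) Steps.nil)))) (nat_lit 108) (nat_lit 0),
  Rule.mk (nat_lit 0) (nat_lit 64) (Steps.bwd (nat_lit 0) (Steps.bwd (nat_lit 3) (Steps.fwd (nat_lit 0) (Steps.bwd (nat_lit 2) (Steps.fwd (nat_lit 0) Steps.nil))))) (nat_lit 108) (nat_lit 0),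
  Rule.mk (nat_lit 0) (nat_lit 64) (Steps.bwd (nat_lit 0) (Steps.bwd (nat_lit 6) (Steps.fwd (nat_lit 0) (Steps.bwd (nat_lit 6) (Steps.fwd (nat_lit 0) Steps.nil))))) (nat_lit 108) (nat_lit 0),
  Rule.mk (nat_lit 0) (nat_lit 64) (Steps.bwd (nat_lit 0) (Steps.bwd (nat_lit 7) (Steps.fwd (nat_lit 0) (Steps.fwd (nat_lit 7168) (Steps.fwd (nat_lit 0) Steps.nil))))) (nat_lit 108) (nat_lit 0),
  Rule.mk (nat_lit 0) (nat_lit 64) (Steps.bwd (nat_lit 0) (Steps.bwd (nat_lit 8) (Steps.bwd (nat_lit 0) (Steps.fwd (nat_lit 8192) (Steps.fwd (nat_lit 0) Steps.nil))))) (nat_lit 108) (nat_lit 0),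
  Rule.mk (nat_lit 0) (nat_lit 53) (Steps.fwd (nat_lit 0) (Steps.fwd (nat_lit 0) (Steps.fwd (nat_lit 0) (Steps.fwd (nat_lit 0) Steps.nil)))) (nat_lit 108) (nat_lit 0),
  Rule.mk (nat_lit 0) (nat_lit 64) (Steps.bwd (nat_lit 0) (Steps.bwd (nat_lit 9) (Steps.fwd (nat_lit 0) (Steps.bwd (nat_lit 8) (Steps.fwd (nat_lit 0) Steps.nil))))) (nat_lit 108) (nat_lit 0),
  Rule.mk (nat_lit 0) (nat_lit 53) (Steps.bwd (nat_lit 0) (Steps.bwd (nat_lit 2) (Steps.fwd (nat_lit 0) (Steps.fwd (nat_lit 2048) Steps.nil)))) (nat_lit 108) (nat_lit 0),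
  Rule.mk (nat_lit 0) (nat_lit 53) (Steps.bwd (nat_lit 0) (Steps.fwd (nat_lit 2048) (Steps.fwd (nat_lit 0) (Steps.bwd (nat_lit 2) Steps.nil)))) (nat_lit 108) (nat_lit 0),
  Rule.mk (nat_lit 0) (nat_lit 64) (Steps.fwd (nat_lit 0) (Steps.fwd (nat_lit 0) (Steps.fwd (nat_lit 0) (Steps.fwd (nat_lit 0) (Steps.fwd (nat_lit 0) Steps.nil))))) (nat_lit 108) (nat_lit 0),
  Rule.mk (nat_lit 0) (nat_lit 53) (Steps.bwd (nat_lit 0) (Steps.bwd (nat_lit 3) (Steps.fwd (nat_lit 0) (Steps.bwd (nat_lit 2) Steps.nil)))) (nat_lit 108) (nat_lit 0),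
  Rule.mk (nat_lit 0) (nat_lit 53) (Steps.bwd (nat_lit 7) (Steps.bwd (nat_lit 0) (Steps.fwd (nat_lit 7168) (Steps.fwd (nat_lit 0) Steps.nil)))) (nat_lit 108) (nat_lit 0),
  Rule.mk (nat_lit 0) (nat_lit 42) (Steps.fwd (nat_lit 6144) (Steps.fwd (nat_lit 0) (Steps.fwd (nat_lit 6144) Steps.nil))) (nat_lit 108) (nat_lit 0),
  Rule.mk (nat_lit 0) (nat_lit 53) (Steps.bwd (nat_lit 0) (Steps.bwd (nat_lit 4) (Steps.fwd (nat_lit 0) (Steps.bwd (nat_lit 4) Steps.nil)))) (nat_lit 108) (nat_lit 0),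
  Rule.mk (nat_lit 0) (nat_lit 53) (Steps.bwd (nat_lit 0) (Steps.bwd (nat_lit 9) (Steps.fwd (nat_lit 0) (Steps.bwd (nat_lit 8) Steps.nil)))) (nat_lit 108) (nat_lit 0),
  Rule.mk (nat_lit 0) (nat_lit 75) (Steps.fwd (nat_lit 0) (Steps.fwd (nat_lit 0) (Steps.fwd (nat_lit 0) (Steps.fwd (nat_lit 0) (Steps.fwd (nat_lit 0) (Steps.fwd (nat_lit 0) Steps.nil)))))) (nat_lit 108) (nat_lit 0),
  Rule.mk (nat_lit 0) (nat_lit 97) (Steps.fwd (nat_lit 0) (Steps.fwd (nat_lit 0) (Steps.fwd (nat_lit 0) (Steps.fwd (nat_lit 0) (Steps.fwd (nat_lit 0) (Steps.fwd (nat_lit 0) (Steps.fwd (nat_lit 0) (Steps.fwd (nat_lit 0) Steps.nil)))))))) (nat_lit 108) (nat_lit 0),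
  Rule.mk (nat_lit 0) (nat_lit 64) (Steps.bwd (nat_lit 0) (Steps.fwd (nat_lit 5120) (Steps.bwd (nat_lit 0) (Steps.fwd (nat_lit 5120) (Steps.fwd (nat_lit 0) Steps.nil))))) (nat_lit 108) (nat_lit 0),
  Rule.mk (nat_lit 0) (nat_lit 86) (Steps.fwd (nat_lit 0) (Steps.fwd (nat_lit 0) (Steps.fwd (nat_lit 0) (Steps.fwd (nat_lit 0) (Steps.fwd (nat_lit 0) (Steps.fwd (nat_lit 0) (Steps.fwd (nat_lit 0) Steps.nil))))))) (nat_lit 108) (nat_lit 0),
  Rule.mk (nat_lit 0) (nat_lit 53) (Steps.bwd (nat_lit 0) (Steps.fwd (nat_lit 8192) (Steps.fwd (nat_lit 0) (Steps.bwd (nat_lit 8) Steps.nil)))) (nat_lit 108) (nat_lit 0),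
  Rule.mk (nat_lit 9) (nat_lit 31) (Steps.bwd (nat_lit 0) (Steps.bwd (nat_lit 8) Steps.nil)) (nat_lit 108) (nat_lit 0)]
noncomputable def R : List (List (Rule)) := [R_0, R_1, R_2, R_3, R_4, R_5]
def LW : List Word := [[], [0], [2], [3], [4], [6], [8], [10], [12], [13], [0], [1], [2], [3], [4], [5], [6], [7], [8], [9], [10], [11]]
def par : Par := ⟨10, 5, 15, 25, 1023, 32767, 33554431⟩
theorem hpar : par.ok := by decide
theorem hR0_0 : lall (R) (fun l => lall l (ruleOK Ra30 LW par)) = true := by decide +kernel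
theorem hR0 : lall (R) (fun l => lall l (ruleOK Ra30 LW par)) = true := hR0_0
theorem hR : RulesOK Ra30 LW par R := rulesOK_of rfl hR0
def cols : List (ℕ × ℕ) := [(1024, 1), (2048, 3), (4096, 4), (5120, 5), (6144, 6), (7168, 7), (8192, 9)]
theorem hcols : lall cols (colOK Ra30 LW par) = true := by decide +kernel
noncomputable def JS0 : List ℕ := [nat_lit 0x4a4071280d12824e1924e034938609480300049c2e004069270b12601c4982a030939260001424a0049284c920012481224802c920089180b246012484980812701649491844911240144909103c908032420e24201090040901220184889003c8f80423e0e23e0208f82c8f00523c0d23c47c8e8308e0062380a23801c8e02c8d8082360a00600406801006092340100291a040072344640e460011180311700645c0a45c0380800e45c080008b00422c0322a0048a8088a00422801,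
  nat_lit 0x13d0164f06603c0613c02800282514645000a0042784ec62008100022764e8604ec051391793a2784e020074a18020084e49d938170102764dc5a010031361600126c0180581d0160189b00227001c05018158010064f854000008a400811268000998a000012266270240389a1331300100600499094998020004c42e000049310b00a2644c400090980022601326e0009788c0781d2704c4978889700525c020000140300800c008000849680100e01800080028032581f008000958789680e2561d25403c950609580f2521c2544c00b1302521b,
  nat_lit 0x115b29c5000805ca693c050182984e03801ca6134a794b2614e29e52c960440314a2514a00001800124a614a2924804c000a411c1380229046026528a4114a4001290442ae520a390ca382828e0d00400ca39081994828c4128a008a2900a383028a3f28c564a28f8a20332883d2880d0a2028010002885200d81e0660780d948018520a20f0a180d01c50c76064051421a00001450474038a19411c94900a5007000c001402880500c82b032050a20102885006e4fc0380827e360580309f0d40880d27a34,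
  nat_lit 0x2dc0d4bd17e05200caf17803166002574ba578ae95c2e164004570b05b40015b118232f65dc1b01d00256cb6004ae15b2b43602c00cad168af8032b4442b6568ac90c080002b0232c40f8b615a2b05900c008ab87c018012ae5804055cab158ad0222ac102d0114b28012ac57002558aa8f8b11562aa562ac598208192aa550060c0ab1400a9672aa1e0240d8aa150ab0342a63d2c4034a9918a98072a4532b0558a8900010042a24203a548a8148aa80429e5100857ca78780482e29c4e,
  nat_lit 0x20b88042dc712e0008b69c00016c378442e2008b61b80216f0025acda0040016a2c16e31c5a8d80080096a3596a2d26a00262cc4969328002d4670845a4b401c2316d2d2692d001cb41a0000043380100459ccc598021660900107a100b3194b39653203c3306744288f340678cd1862cc594c6590001640516407e59002068b29641c96500458cb006c001621181e30a1602d9802e0588c4000b50142c2612d2008b0910028022c04704e580af958b39790965fc1e82c2be6000e08c1e02b2bc5f,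
  nat_lit 0x6c0c8181441810486003861cbfa10d81912fe8800a094bf21c0218e2fa863025f108148c597c168010405ed0a604bd210101a92f483000690bc9d82b81e2f282018048bc204cf0060025e10005cbc1773f97902a5dcfc01c011773e8050065d8f85f0bb175091780145d4f6130bd9743d17600c5ccf2114bd9733a97400a5c8f0004230442e47700e110b89d8231722e27500a654cb1713a17309c5c0e65d0ca16f391712dc64,
  nat_lit 0x32c004c88fc2e9913209632a16cc825cc98023200b328008c78343198f31c4f3226f8c71e00306531a95320018c68f83480831854372634c62580306331895374004c6150c60000c42183118d318940c22143098c31693318000c5038c606031418314000dc08337062cc5248db88236e628c4a44dc00c01a6292000c081893e008016620900c0c61874798f01c6191c0480a1864082030a190cc080c2a340301a3088c01806cc1a04c79824580200c024c12281218430289,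
  nat_lit 0x107634aa8362691080b4d31a41c9d700c68c70034021a2538093c4689026d0f01a10d0243408b0081ec4f07c34e04c0d80d01c6cc141b3340a601a09ccfa64e89b233c3300067ccea940080c33a850186710869c1119c4b08335a66d4800c0106710a1d0cf99b5187911a1cccf19a4999b0146694418ccf9995080b014660b4010e4866010661400300480800c65d3e04c0500532c9e0c2014caa740700232a5838a654ca270029c53289b01e1a4c9a14020083269a0b8658c92640000a0d61dc3a9be32698,
  nat_lit 0x21372bc38a03cdd1b9130000026e576004550cd1146e57402cdd1b91c9ff0066e0700fc009b7539c137e060dbae41c81836c341286f0da8ccdc02300800cdaae0151c23681037e08c13817368b7022048d9ac0df826376010d9ad8dd9cc38c6ccd92d4d9804362b4032004d80784480135e5402805c0a1b5390708d7acc458ad3e80d0d72c80103235ab135c088d62c00c1bf054024d62bce01c101a018d5ab8dc007354ad1086acd48f40180504607cd80153cc794448ab110078d4ab00c80c0166b4d42ac4609f10c070d3aa8d69b034c2f350248fa1de34ca9,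
  nat_lit 0xc014e592c091ca4209b00000d9a00c048b90ec1e5980a4eb9c86580c03871d0c034081c6161c838a840ca7c43200238aca02a28c0a9c5388c938c004e1840309ce386c838e730e1070121ce3847b00204ce0b1ce11c33820e39827ce6001382c60000440a0b4049c13809c000008e026c00034380833a20a8011c0629c2012008dfb10e180137c4238c004df30c031be37ac2018008df1bd6080037a6f026014df003378c00a46f0ddafcfb800374be118350581db374bd,
  nat_lit 0x1dc1da34869b60eda133b4d705c764c8070f18013b4d63b6768ecb540000e6a20c0f0148ed1d85d04d3b2760d2764001d7699d8000134ebb48299d83aebf002000eb1680086b0d213ceb344008043b2758ee040ea990009d53381d03c064ea974620163a8c3004014e9970160153a434450314051d2629d2030028e8a78ef80a3a09d00a750e7b400881639ecf000024512f8051d8022738ba090e99cd1980000a2b19c054ea8003983b026070e62142c1d5398cb,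
  nat_lit 0x7e000f708c22841496010f7368458013da8d3dc7b4f63a0400680087b1ce088fd0043d6e61a4000f516868a450760fc140003d4e53d20010c058054e40c47a4f40b4008003ce1d00223cf3858011e816e8d8f3b8c498f922c91cf3388008090de1a028000038197080916e791c00040ab7c550303f400cf1b78300013c4823c6788f09e0758033c2dd080010f0370001eb3386400077cea778000af17a3c1b68a413839000775b40e82123d008004001dd6c8020a2148391dd1100404e7742c010141dc3b0243b664,
  nat_lit 0x1e6a0b82444e068a037a00000603869a0279804132905232025e82e11c8057805d0019c0000d7902f4207fc4e0c0ff1a87212f21e280ff3c42189f3faf000000c723380186c45c7f0ee0d5111fb13a0c43c7e82a9610201c41e7e9521141a1f965800166460958f6778b100a7e1dc05c029f7030003ee7d8680cc0b0150067d9da240009f5439f63ea7d1d82bc500063e8e70127d4f9a89060053e45a0021dc15bad2704541e00cf8ba9160013e0e93e27c0f78b04c8023de7d,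
  nat_lit 0xce0150d3d46c03d4348d43a8b10c9e073004432fa4360110c25c1000442f0042e859164748382104419431a167f8c70c2855f48981da143c82946e84dd00141d10a03e0842c02f0603f42721701a84dfc0f8092127e83c020844740051599c020464800c5083f06c03141e8d43c8391625c2020e4100e020835188850622d36a1e01200d063ed0a8044168215e009053e804803412f900a8693d0620ba081088171b836d33840412f81400f5043dc0c83b40ef600e0dd03170002231388709402102bd40980640812,
  nat_lit 0x8d54f0660588ce180b414a32080014649592aa40858404a494d2aa310000d2140c09092b08c1243ba308481404a0a117c2160a5345cbf01001d169011780e0104d04d09e0b00800f11621842d16c1c0089111e43d163cd2510d4560e11e2349a8450909582c85a2540fc210704570602e085153b8000566a0df4e8314072298286c0dc1d0082285902801c89e08a601c83b0e489e068b82f226468b60e6896048e42322463a280e488e0215524a22740084428b1e60fd10a3416231440970220f90fbe51023143c7e000161a850c1500743ac10060150e1f11200543613,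
  nat_lit 0x49659524835251654920b0b800925408128054921a1e8225249ec430894907a49292923a5c0c02248c8101e21d22a540b0144891b00200c0226b4891a0640c121c6423047485182620e527802485170a600920a5528803481160660f9280812540240524705a0200387f481150a42083f23f5c81502e8f9840340523d8a0350100311ec4c6a83c479120820f11d9f12f83c474f50f69211c84814035470562401dd2d87b18ea08aaa8218e1ec1c806471110180111b8d03980146d100020391fc3d2b12606c00c1d24046b0e01624c3402c4690d,
  nat_lit 0x5c00052c1180200e4b03a2a49792bc500301200695e40010012562116c0049563e0612f2554da5c020950305a8082532500d2d894e3c03c04a532c00200694c8451d2a2522900e0069453a00cab2518f00259c944a0960a325056a5928893c1454c0424f2525249c4c01401d27214b200749a4a49e02526875692524991c00e02126268b5a514971d008019258b1662504951c00892d25120b1000492475aa935249492594f492ad,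
  nat_lit 0x1cc012658fa6b000990a204004a647e8724ce98e3a015348034c72816a00d3147d332624c2404d402d30874042674c02c0ec0292f934038024be584ce9812f270068924bca44c89992f3b00000803aa1c2ca8900b2700c9853025d9306d0069723e97d2ea5c19a5f4c4970969852ea5c1ca8600096e4a1bc01a5b52a5e4ba9724804c0025b118154ba96d9ca280025b2387e08e1e80ba5b9180b00a96c700040025a6680405e0c45a25a910012ba9656802d2fa5a4b321,
  nat_lit 0x2a06c13139a70712715009c08602408270118070886b4288020020002ab2b0b29c25ea80022708ca700049be28a5c0026f9703b02e9bdee0053da6e8e8474e29b9109d402a6d428350029b51a02000a6c80a8c4da9b00e00c0026b0326c002a3d35b480403e4d52d0729ad351a40082c4d4bc002000140024d72c056648f1a0d46e824fb18e07a01134cad3726a4d0960489b1340b40026a4ce4a004998980e535a663d003000998a299d440000a8004d010e54998002640f80004a0a932194129973b8821a3b4666cc55462654c929,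
  nat_lit 0x9300a1c9411f602487d00928081f73f5f801c79cf87b80623f3916e01842cf45d00516b3c17401169cec5b0031653a59c00847ce41a8020713707a0081cce02180208f3706800419cd94d00006f35000004010010000fa68a6001a75410014e88b4e800c120034e9330029d53993c190074e6c34e8009394514401c046001393ed448014e45a0049cd394c93c0004e22300c01c042764e3310069cc00a71600354e29c17e00148270980295129c538358000244e016,
  nat_lit 0x3c45c008ccac1220003d69c00007540e000d24204aae6180630c00b5637e02d85554ca80a1d55423c024d74e58c01a1e54f21806492d008501823f493d60609bd100c09d03083ea6dc80c309a921502e49ea234c0b8de9e8df02c2ee7801008540750151654f18805047538620135d54d17004c4f5304f01216c02e960156d0111354a13a04057d245b00f11d481380385051c5980d1394616c03471d148080c169445e002c5b50c5b00a5db42,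
  nat_lit 0x5413d41d001a29c09ec8e840c8d9001660520daa096c011130016501803c0dd8dd300018e05ec800001003b1a120064240058800010a820b0024200058407030a80000615003271c178c50536001405ea00886b00019b5f00000ea08d8010f70275745c0047b800af001043500200a6a04dc149000175d2420a057000a58100435000202ea00745b8263395c68e09464021adb4704841eb40480f5400181aa8000358088585649902135139,
  nat_lit 0xf1002f52ea0040254000002a83d0002cb0005d001007014046de0040301404e146e6000018110736f7900207c000b900504d504f40187f846b880024a0286d00db800001c084115bc000d7010d34055b80b024a80027720186c020b680d4b80146b006b60010595000077401b1b0836b02207c1158c0031a0027d6d40301a540048200436301e09ea00141bd40d80001c409ed202004d400015c002882d00300701cb180003f500148580015a03d6701c06aa09300e32300157,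
  nat_lit 0x824002fd044009ca0017d0020100358c00002a840c0029d8005dc008060120300881607b7c0000140400b0200541e064bd002724195f5000bd80300c02407016b980200a02006812042090305ea0200023f5a00000c03009b7ae0002d1c00590008040120380e828bc800005507ee0048b000ba00100c05c1682eb980000417ec6fc8018ee0017800601aa000803818b18010055000000aa0f74008ea0017701e15aa00102c541490006877600215ea001404d400200801e0501e5cc0180702363]
theorem S0_c : blocks (facts 10 5 15 25 1023 32767 33554431 11 2047 9 511 A R 32) 32 JS0 532 = true := by decide +kernel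
theorem S0 : On (Step.{u} Ra30 LW par A) 532 1300 :=
  steps_of_blocks hpar hR S0_c (by decide +kernel)
theorem D0_c : allB (defOK 10 15 25 1023 33554431 527 A K) 3 2 = true := by decide +kernel
theorem D0 : On (fun r => defOK par.W par.WL par.E par.mW par.mE 527 A K r = true) 256 640 :=
  On.of_allB D0_c
noncomputable def JW0 : List ℕ := [nat_lit 0x360060260460660860a]
theorem W0_c : blocks (rows 10 5 15 25 1023 32767 33554431 12 4095 84 A 1300 1 cols 18) 18 JW0 0 = true := by decide +kernel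
theorem W0 : On (Row.{u} Ra30 LW par A 1300 1 cols) 0 18 :=
  rows_of_blocks hpar (by decide) hcols W0_c (by decide +kernel)
theorem idx : Idx.{u} Ra30 [[0], [2], [4], [6], [8], [10], [12]] [[0], [2], [4], [6], [8], [10]] 1 :=
  idx_of_cert hpar hR (K := K) (by decide +kernel) (T := 527) (T' := 640) (by decide) D0
    (subs := [1,2,4,5,6,7]) (by decide +kernel) (T1 := 532) (by decide) (N := 1300) S0
    (by decide) (n' := 18) (by decide) W0 (by decide +kernel) (by decide +kernel)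
end a30
namespace a31
noncomputable def A_0 : List (ℕ) := [nat_lit 0x48000000080400200807a0100580200180c00a05007a0900601201582401401802a0300582800c05002b0200380400683400e86801c1000622000c8788218f502b1e982c0c10f47840b88843c1910382010c86a21c8d482d1888402028d46451c83102c0e90622c3074306108840260e9c4e27186c36014070c2b0c14563920ac5a31582422b0680522b00e0120150e0c1c168c703840843051c0e4e221c1c303930885e41d0c4a361b10583728c03c61b8bca24171c5e2e208c3c51706d22d16a4321a30b44870f07ce250f98461c3884344100712180b24381d402c3a20e06841d0da0321b286c1a10d85521a0a98321938642a50c8590180a04301538542c40a82c41607181c0e28201c702810e0d04981a0d283410709820c130294260d103426209850a090a18081438242820a05100401a0280b30301670582c80b019806042810122048144050208080810200670180c403051c140a280c1460502840a01101401080402200804a01009c0202080804501008c01011c0402100800801000e00001800002800004000004000004004321088482090484020207e3f20f87c8190f42191e04763b30907411c8e48381c04123708d86c21a8d42341a18663308c8642188c423018185e2f08205c1098b422c1608562b08a8546148a422814084e2708984c60c09482412041c2308884440c08441b10043e1f20783c10287421c0e08341b38683410206440c0c0c2e17482c2c10a85440b0a10261340482440884501008101e0f40381c40683500a0604140b080c1480482480804200e0720180c80281480402200603200404800805000]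
noncomputable def A : List (List (ℕ)) := [A_0]
noncomputable def K_0 : List (ℕ) := [nat_lit 0xa1506813f9f4f6793b9d4e671379b4d66933994c6612f974b6592b954a6512793496492391486411f8f476391b8d46631178b456291389446210f87436190b854261107834160903814060000]
noncomputable def K : List (List (ℕ)) := [K_0]
noncomputable def R_0 : List (Rule) := [Rule.mk (nat_lit 8) (nat_lit 25) (Steps.bwd (nat_lit 8) (Steps.bwd (nat_lit 8) Steps.nil)) (nat_lit 94) (nat_lit 0),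
  Rule.mk (nat_lit 2) (nat_lit 34) (Steps.fwd (nat_lit 4096) (Steps.fwd (nat_lit 1024) (Steps.bwd (nat_lit 8) Steps.nil))) (nat_lit 96) (nat_lit 2),
  Rule.mk (nat_lit 7) (nat_lit 34) (Steps.fwd (nat_lit 4096) (Steps.fwd (nat_lit 2560) (Steps.bwd (nat_lit 8) Steps.nil))) (nat_lit 98) (nat_lit 2),
  Rule.mk (nat_lit 6) (nat_lit 34) (Steps.bwd (nat_lit 8) (Steps.fwd (nat_lit 3072) (Steps.bwd (nat_lit 8) Steps.nil))) (nat_lit 102) (nat_lit 1),
  Rule.mk (nat_lit 5) (nat_lit 43) (Steps.fwd (nat_lit 4096) (Steps.fwd (nat_lit 2560) (Steps.fwd (nat_lit 3584) (Steps.bwd (nat_lit 8) Steps.nil)))) (nat_lit 100) (nat_lit 2),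
  Rule.mk (nat_lit 1) (nat_lit 52) (Steps.fwd (nat_lit 1024) (Steps.fwd (nat_lit 4096) (Steps.fwd (nat_lit 512) (Steps.bwd (nat_lit 8) (Steps.bwd (nat_lit 2) Steps.nil))))) (nat_lit 104) (nat_lit 3),
  Rule.mk (nat_lit 5) (nat_lit 43) (Steps.fwd (nat_lit 3072) (Steps.fwd (nat_lit 2560) (Steps.fwd (nat_lit 3584) (Steps.bwd (nat_lit 6) Steps.nil)))) (nat_lit 24) (nat_lit 2),
  Rule.mk (nat_lit 2) (nat_lit 70) (Steps.fwd (nat_lit 3072) (Steps.fwd (nat_lit 3584) (Steps.bwd (nat_lit 2) (Steps.fwd (nat_lit 2560) (Steps.bwd (nat_lit 2) (Steps.bwd (nat_lit 6) (Steps.fwd (nat_lit 2560) Steps.nil))))))) (nat_lit 82) (nat_lit 6),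
  Rule.mk (nat_lit 4) (nat_lit 115) (Steps.bwd (nat_lit 8) (Steps.bwd (nat_lit 4) (Steps.bwd (nat_lit 8) (Steps.bwd (nat_lit 4) (Steps.bwd (nat_lit 8) (Steps.bwd (nat_lit 4) (Steps.bwd (nat_lit 8) (Steps.bwd (nat_lit 4) (Steps.bwd (nat_lit 8) (Steps.fwd (nat_lit 2048) (Steps.bwd (nat_lit 2) (Steps.bwd (nat_lit 8) Steps.nil)))))))))))) (nat_lit 106) (nat_lit 2),
  Rule.mk (nat_lit 2) (nat_lit 34) (Steps.fwd (nat_lit 2048) (Steps.bwd (nat_lit 2) (Steps.bwd (nat_lit 4) Steps.nil))) (nat_lit 14) (nat_lit 0),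
  Rule.mk (nat_lit 6) (nat_lit 34) (Steps.fwd (nat_lit 2048) (Steps.fwd (nat_lit 2560) (Steps.bwd (nat_lit 4) Steps.nil))) (nat_lit 22) (nat_lit 0),
  Rule.mk (nat_lit 5) (nat_lit 34) (Steps.bwd (nat_lit 4) (Steps.fwd (nat_lit 3072) (Steps.bwd (nat_lit 4) Steps.nil))) (nat_lit 22) (nat_lit 2),
  Rule.mk (nat_lit 7) (nat_lit 34) (Steps.fwd (nat_lit 2048) (Steps.fwd (nat_lit 3584) (Steps.bwd (nat_lit 4) Steps.nil))) (nat_lit 30) (nat_lit 1),
  Rule.mk (nat_lit 2) (nat_lit 52) (Steps.bwd (nat_lit 4) (Steps.fwd (nat_lit 3072) (Steps.bwd (nat_lit 2) (Steps.bwd (nat_lit 4) (Steps.bwd (nat_lit 5) Steps.nil))))) (nat_lit 54) (nat_lit 4),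
  Rule.mk (nat_lit 7) (nat_lit 52) (Steps.bwd (nat_lit 4) (Steps.fwd (nat_lit 3072) (Steps.fwd (nat_lit 3584) (Steps.bwd (nat_lit 4) (Steps.bwd (nat_lit 5) Steps.nil))))) (nat_lit 66) (nat_lit 3),
  Rule.mk (nat_lit 2) (nat_lit 115) (Steps.bwd (nat_lit 8) (Steps.bwd (nat_lit 4) (Steps.bwd (nat_lit 8) (Steps.bwd (nat_lit 4) (Steps.bwd (nat_lit 8) (Steps.bwd (nat_lit 4) (Steps.bwd (nat_lit 8) (Steps.fwd (nat_lit 2048) (Steps.bwd (nat_lit 8) (Steps.bwd (nat_lit 4) (Steps.bwd (nat_lit 8) (Steps.bwd (nat_lit 4) Steps.nil)))))))))))) (nat_lit 106) (nat_lit 0),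
  Rule.mk (nat_lit 2) (nat_lit 115) (Steps.bwd (nat_lit 8) (Steps.bwd (nat_lit 4) (Steps.bwd (nat_lit 8) (Steps.fwd (nat_lit 2048) (Steps.bwd (nat_lit 8) (Steps.bwd (nat_lit 4) (Steps.bwd (nat_lit 8) (Steps.bwd (nat_lit 4) (Steps.bwd (nat_lit 8) (Steps.bwd (nat_lit 4) (Steps.bwd (nat_lit 8) (Steps.bwd (nat_lit 4) Steps.nil)))))))))))) (nat_lit 106) (nat_lit 0),
  Rule.mk (nat_lit 2) (nat_lit 34) (Steps.bwd (nat_lit 4) (Steps.bwd (nat_lit 2) (Steps.fwd (nat_lit 2048) Steps.nil))) (nat_lit 14) (nat_lit 0),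
  Rule.mk (nat_lit 5) (nat_lit 34) (Steps.bwd (nat_lit 8) (Steps.fwd (nat_lit 3584) (Steps.fwd (nat_lit 4096) Steps.nil))) (nat_lit 98) (nat_lit 0),
  Rule.mk (nat_lit 6) (nat_lit 43) (Steps.fwd (nat_lit 2560) (Steps.fwd (nat_lit 3072) (Steps.bwd (nat_lit 5) (Steps.fwd (nat_lit 3584) Steps.nil)))) (nat_lit 24) (nat_lit 1),
  Rule.mk (nat_lit 4) (nat_lit 52) (Steps.bwd (nat_lit 1) (Steps.bwd (nat_lit 4) (Steps.fwd (nat_lit 512) (Steps.fwd (nat_lit 2048) (Steps.fwd (nat_lit 512) Steps.nil))))) (nat_lit 16) (nat_lit 0),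
  Rule.mk (nat_lit 7) (nat_lit 70) (Steps.bwd (nat_lit 1) (Steps.bwd (nat_lit 4) (Steps.fwd (nat_lit 512) (Steps.fwd (nat_lit 3584) (Steps.fwd (nat_lit 2048) (Steps.fwd (nat_lit 512) (Steps.fwd (nat_lit 2048) Steps.nil))))))) (nat_lit 76) (nat_lit 0),
  Rule.mk (nat_lit 6) (nat_lit 70) (Steps.bwd (nat_lit 1) (Steps.fwd (nat_lit 2048) (Steps.fwd (nat_lit 512) (Steps.bwd (nat_lit 6) (Steps.fwd (nat_lit 512) (Steps.fwd (nat_lit 2048) (Steps.fwd (nat_lit 512) Steps.nil))))))) (nat_lit 74) (nat_lit 0),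
  Rule.mk (nat_lit 8) (nat_lit 115) (Steps.bwd (nat_lit 4) (Steps.bwd (nat_lit 8) (Steps.bwd (nat_lit 4) (Steps.bwd (nat_lit 8) (Steps.bwd (nat_lit 4) (Steps.bwd (nat_lit 8) (Steps.bwd (nat_lit 4) (Steps.bwd (nat_lit 8) (Steps.fwd (nat_lit 2048) (Steps.bwd (nat_lit 2) (Steps.bwd (nat_lit 8) (Steps.fwd (nat_lit 2048) Steps.nil)))))))))))) (nat_lit 106) (nat_lit 3),
  Rule.mk (nat_lit 7) (nat_lit 34) (Steps.fwd (nat_lit 4096) (Steps.bwd (nat_lit 5) (Steps.bwd (nat_lit 8) Steps.nil))) (nat_lit 98) (nat_lit 2),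
  Rule.mk (nat_lit 5) (nat_lit 43) (Steps.fwd (nat_lit 4096) (Steps.bwd (nat_lit 5) (Steps.fwd (nat_lit 3584) (Steps.bwd (nat_lit 8) Steps.nil)))) (nat_lit 100) (nat_lit 2),
  Rule.mk (nat_lit 2) (nat_lit 115) (Steps.bwd (nat_lit 8) (Steps.bwd (nat_lit 4) (Steps.bwd (nat_lit 8) (Steps.bwd (nat_lit 4) (Steps.bwd (nat_lit 8) (Steps.bwd (nat_lit 4) (Steps.bwd (nat_lit 8) (Steps.fwd (nat_lit 2048) (Steps.bwd (nat_lit 8) (Steps.fwd (nat_lit 2048) (Steps.bwd (nat_lit 8) (Steps.bwd (nat_lit 4) Steps.nil)))))))))))) (nat_lit 106) (nat_lit 0),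
  Rule.mk (nat_lit 2) (nat_lit 115) (Steps.bwd (nat_lit 8) (Steps.fwd (nat_lit 2048) (Steps.bwd (nat_lit 8) (Steps.fwd (nat_lit 2048) (Steps.bwd (nat_lit 8) (Steps.bwd (nat_lit 4) (Steps.bwd (nat_lit 8) (Steps.bwd (nat_lit 4) (Steps.bwd (nat_lit 8) (Steps.bwd (nat_lit 4) (Steps.bwd (nat_lit 8) (Steps.bwd (nat_lit 4) Steps.nil)))))))))))) (nat_lit 106) (nat_lit 0),
  Rule.mk (nat_lit 5) (nat_lit 52) (Steps.bwd (nat_lit 2) (Steps.fwd (nat_lit 2048) (Steps.bwd (nat_lit 6) (Steps.bwd (nat_lit 2) (Steps.fwd (nat_lit 2048) Steps.nil))))) (nat_lit 54) (nat_lit 3),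
  Rule.mk (nat_lit 6) (nat_lit 52) (Steps.bwd (nat_lit 2) (Steps.fwd (nat_lit 2048) (Steps.bwd (nat_lit 5) (Steps.bwd (nat_lit 2) (Steps.bwd (nat_lit 4) Steps.nil))))) (nat_lit 54) (nat_lit 0),
  Rule.mk (nat_lit 7) (nat_lit 52) (Steps.bwd (nat_lit 2) (Steps.fwd (nat_lit 2048) (Steps.bwd (nat_lit 7) (Steps.bwd (nat_lit 2) (Steps.bwd (nat_lit 4) Steps.nil))))) (nat_lit 56) (nat_lit 0),
  Rule.mk (nat_lit 7) (nat_lit 43) (Steps.bwd (nat_lit 8) (Steps.bwd (nat_lit 5) (Steps.fwd (nat_lit 4096) (Steps.fwd (nat_lit 2560) Steps.nil)))) (nat_lit 100) (nat_lit 0),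
  Rule.mk (nat_lit 7) (nat_lit 34) (Steps.bwd (nat_lit 4) (Steps.bwd (nat_lit 7) (Steps.fwd (nat_lit 2048) Steps.nil))) (nat_lit 30) (nat_lit 1),
  Rule.mk (nat_lit 5) (nat_lit 52) (Steps.bwd (nat_lit 7) (Steps.fwd (nat_lit 2048) (Steps.bwd (nat_lit 6) (Steps.bwd (nat_lit 7) (Steps.fwd (nat_lit 2048) Steps.nil))))) (nat_lit 66) (nat_lit 2),
  Rule.mk (nat_lit 6) (nat_lit 52) (Steps.bwd (nat_lit 7) (Steps.bwd (nat_lit 4) (Steps.fwd (nat_lit 2560) (Steps.bwd (nat_lit 7) (Steps.fwd (nat_lit 2048) Steps.nil))))) (nat_lit 66) (nat_lit 5),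
  Rule.mk (nat_lit 2) (nat_lit 52) (Steps.bwd (nat_lit 1) (Steps.bwd (nat_lit 2) (Steps.bwd (nat_lit 1) (Steps.bwd (nat_lit 2) (Steps.fwd (nat_lit 512) Steps.nil))))) (nat_lit 12) (nat_lit 0),
  Rule.mk (nat_lit 4) (nat_lit 34) (Steps.bwd (nat_lit 2) (Steps.fwd (nat_lit 2048) (Steps.bwd (nat_lit 2) Steps.nil))) (nat_lit 14) (nat_lit 1),
  Rule.mk (nat_lit 7) (nat_lit 52) (Steps.bwd (nat_lit 2) (Steps.fwd (nat_lit 2048) (Steps.fwd (nat_lit 3584) (Steps.bwd (nat_lit 2) (Steps.bwd (nat_lit 4) Steps.nil))))) (nat_lit 56) (nat_lit 0),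
  Rule.mk (nat_lit 1) (nat_lit 52) (Steps.bwd (nat_lit 3) (Steps.bwd (nat_lit 9) (Steps.bwd (nat_lit 1) (Steps.bwd (nat_lit 8) (Steps.bwd (nat_lit 2) Steps.nil))))) (nat_lit 104) (nat_lit 3),
  Rule.mk (nat_lit 8) (nat_lit 34) (Steps.bwd (nat_lit 3) (Steps.bwd (nat_lit 9) (Steps.bwd (nat_lit 2) Steps.nil))) (nat_lit 97) (nat_lit 2),
  Rule.mk (nat_lit 5) (nat_lit 70) (Steps.bwd (nat_lit 2) (Steps.bwd (nat_lit 1) (Steps.bwd (nat_lit 2) (Steps.bwd (nat_lit 5) (Steps.fwd (nat_lit 512) (Steps.bwd (nat_lit 2) (Steps.bwd (nat_lit 1) Steps.nil))))))) (nat_lit 70) (nat_lit 4),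
  Rule.mk (nat_lit 7) (nat_lit 34) (Steps.fwd (nat_lit 2560) (Steps.fwd (nat_lit 3584) (Steps.bwd (nat_lit 5) Steps.nil))) (nat_lit 32) (nat_lit 1),
  Rule.mk (nat_lit 6) (nat_lit 52) (Steps.fwd (nat_lit 3584) (Steps.bwd (nat_lit 2) (Steps.fwd (nat_lit 3072) (Steps.fwd (nat_lit 3584) (Steps.fwd (nat_lit 1024) Steps.nil))))) (nat_lit 62) (nat_lit 5),
  Rule.mk (nat_lit 9) (nat_lit 52) (Steps.bwd (nat_lit 1) (Steps.bwd (nat_lit 8) (Steps.bwd (nat_lit 2) (Steps.fwd (nat_lit 512) (Steps.fwd (nat_lit 1024) Steps.nil))))) (nat_lit 104) (nat_lit 5),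
  Rule.mk (nat_lit 1) (nat_lit 34) (Steps.bwd (nat_lit 7) (Steps.bwd (nat_lit 1) (Steps.bwd (nat_lit 7) Steps.nil))) (nat_lit 26) (nat_lit 0),
  Rule.mk (nat_lit 5) (nat_lit 34) (Steps.fwd (nat_lit 512) (Steps.fwd (nat_lit 2560) (Steps.bwd (nat_lit 1) Steps.nil))) (nat_lit 18) (nat_lit 0),
  Rule.mk (nat_lit 8) (nat_lit 52) (Steps.bwd (nat_lit 2) (Steps.bwd (nat_lit 1) (Steps.fwd (nat_lit 1024) (Steps.fwd (nat_lit 4096) (Steps.bwd (nat_lit 1) Steps.nil))))) (nat_lit 104) (nat_lit 1),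
  Rule.mk (nat_lit 2) (nat_lit 25) (Steps.bwd (nat_lit 2) (Steps.bwd (nat_lit 2) Steps.nil)) (nat_lit 2) (nat_lit 0),
  Rule.mk (nat_lit 8) (nat_lit 34) (Steps.fwd (nat_lit 1024) (Steps.bwd (nat_lit 9) (Steps.bwd (nat_lit 2) Steps.nil))) (nat_lit 97) (nat_lit 2),
  Rule.mk (nat_lit 9) (nat_lit 34) (Steps.fwd (nat_lit 1024) (Steps.bwd (nat_lit 8) (Steps.bwd (nat_lit 2) Steps.nil))) (nat_lit 96) (nat_lit 3),
  Rule.mk (nat_lit 9) (nat_lit 25) (Steps.fwd (nat_lit 4096) (Steps.bwd (nat_lit 9) Steps.nil)) (nat_lit 95) (nat_lit 0),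
  Rule.mk (nat_lit 4) (nat_lit 52) (Steps.bwd (nat_lit 1) (Steps.bwd (nat_lit 4) (Steps.bwd (nat_lit 1) (Steps.bwd (nat_lit 4) (Steps.fwd (nat_lit 512) Steps.nil))))) (nat_lit 16) (nat_lit 0),
  Rule.mk (nat_lit 7) (nat_lit 70) (Steps.bwd (nat_lit 2) (Steps.fwd (nat_lit 512) (Steps.bwd (nat_lit 2) (Steps.fwd (nat_lit 3584) (Steps.fwd (nat_lit 512) (Steps.bwd (nat_lit 2) (Steps.bwd (nat_lit 1) Steps.nil))))))) (nat_lit 72) (nat_lit 4),
  Rule.mk (nat_lit 6) (nat_lit 70) (Steps.bwd (nat_lit 1) (Steps.bwd (nat_lit 4) (Steps.fwd (nat_lit 512) (Steps.bwd (nat_lit 6) (Steps.fwd (nat_lit 512) (Steps.bwd (nat_lit 4) (Steps.bwd (nat_lit 1) Steps.nil))))))) (nat_lit 74) (nat_lit 0),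
  Rule.mk (nat_lit 7) (nat_lit 70) (Steps.bwd (nat_lit 4) (Steps.bwd (nat_lit 1) (Steps.bwd (nat_lit 4) (Steps.fwd (nat_lit 3584) (Steps.fwd (nat_lit 512) (Steps.bwd (nat_lit 4) (Steps.bwd (nat_lit 1) Steps.nil))))))) (nat_lit 76) (nat_lit 4),
  Rule.mk (nat_lit 7) (nat_lit 34) (Steps.fwd (nat_lit 2048) (Steps.bwd (nat_lit 7) (Steps.bwd (nat_lit 4) Steps.nil))) (nat_lit 30) (nat_lit 1),
  Rule.mk (nat_lit 6) (nat_lit 124) (Steps.bwd (nat_lit 1) (Steps.bwd (nat_lit 2) (Steps.bwd (nat_lit 1) (Steps.bwd (nat_lit 6) (Steps.bwd (nat_lit 1) (Steps.bwd (nat_lit 2) (Steps.bwd (nat_lit 1) (Steps.bwd (nat_lit 6) (Steps.fwd (nat_lit 512) (Steps.bwd (nat_lit 6) (Steps.fwd (nat_lit 2560) (Steps.bwd (nat_lit 2) (Steps.fwd (nat_lit 512) Steps.nil))))))))))))) (nat_lit 34) (nat_lit 3),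
  Rule.mk (nat_lit 9) (nat_lit 34) (Steps.fwd (nat_lit 3072) (Steps.bwd (nat_lit 9) (Steps.bwd (nat_lit 6) Steps.nil))) (nat_lit 103) (nat_lit 1),
  Rule.mk (nat_lit 9) (nat_lit 25) (Steps.bwd (nat_lit 9) (Steps.fwd (nat_lit 4096) Steps.nil)) (nat_lit 95) (nat_lit 0),
  Rule.mk (nat_lit 5) (nat_lit 34) (Steps.bwd (nat_lit 1) (Steps.fwd (nat_lit 2560) (Steps.fwd (nat_lit 512) Steps.nil))) (nat_lit 18) (nat_lit 0),
  Rule.mk (nat_lit 4) (nat_lit 34) (Steps.fwd (nat_lit 3072) (Steps.bwd (nat_lit 4) (Steps.bwd (nat_lit 5) Steps.nil))) (nat_lit 22) (nat_lit 3),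
  Rule.mk (nat_lit 7) (nat_lit 52) (Steps.bwd (nat_lit 1) (Steps.fwd (nat_lit 2560) (Steps.bwd (nat_lit 7) (Steps.fwd (nat_lit 512) (Steps.bwd (nat_lit 5) Steps.nil))))) (nat_lit 52) (nat_lit 0),
  Rule.mk (nat_lit 5) (nat_lit 34) (Steps.bwd (nat_lit 7) (Steps.bwd (nat_lit 5) (Steps.bwd (nat_lit 7) Steps.nil))) (nat_lit 32) (nat_lit 0),
  Rule.mk (nat_lit 6) (nat_lit 124) (Steps.bwd (nat_lit 1) (Steps.bwd (nat_lit 2) (Steps.bwd (nat_lit 1) (Steps.bwd (nat_lit 6) (Steps.bwd (nat_lit 1) (Steps.bwd (nat_lit 2) (Steps.bwd (nat_lit 1) (Steps.bwd (nat_lit 6) (Steps.bwd (nat_lit 1) (Steps.bwd (nat_lit 6) (Steps.fwd (nat_lit 2560) (Steps.bwd (nat_lit 2) (Steps.fwd (nat_lit 512) Steps.nil))))))))))))) (nat_lit 34) (nat_lit 3)]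
noncomputable def R_1 : List (Rule) := [Rule.mk (nat_lit 5) (nat_lit 43) (Steps.bwd (nat_lit 6) (Steps.bwd (nat_lit 5) (Steps.bwd (nat_lit 7) (Steps.bwd (nat_lit 6) Steps.nil)))) (nat_lit 24) (nat_lit 2),
  Rule.mk (nat_lit 4) (nat_lit 70) (Steps.fwd (nat_lit 512) (Steps.fwd (nat_lit 3072) (Steps.bwd (nat_lit 1) (Steps.fwd (nat_lit 2048) (Steps.fwd (nat_lit 512) (Steps.bwd (nat_lit 6) (Steps.bwd (nat_lit 1) Steps.nil))))))) (nat_lit 74) (nat_lit 2),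
  Rule.mk (nat_lit 5) (nat_lit 34) (Steps.fwd (nat_lit 512) (Steps.bwd (nat_lit 5) (Steps.fwd (nat_lit 512) Steps.nil))) (nat_lit 18) (nat_lit 0),
  Rule.mk (nat_lit 6) (nat_lit 70) (Steps.fwd (nat_lit 512) (Steps.fwd (nat_lit 2048) (Steps.bwd (nat_lit 1) (Steps.fwd (nat_lit 3072) (Steps.fwd (nat_lit 512) (Steps.bwd (nat_lit 4) (Steps.bwd (nat_lit 1) Steps.nil))))))) (nat_lit 74) (nat_lit 0),
  Rule.mk (nat_lit 7) (nat_lit 70) (Steps.fwd (nat_lit 512) (Steps.bwd (nat_lit 4) (Steps.fwd (nat_lit 512) (Steps.bwd (nat_lit 7) (Steps.bwd (nat_lit 4) (Steps.bwd (nat_lit 1) (Steps.bwd (nat_lit 4) Steps.nil))))))) (nat_lit 76) (nat_lit 0),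
  Rule.mk (nat_lit 7) (nat_lit 70) (Steps.bwd (nat_lit 4) (Steps.fwd (nat_lit 512) (Steps.bwd (nat_lit 4) (Steps.fwd (nat_lit 3584) (Steps.fwd (nat_lit 512) (Steps.bwd (nat_lit 4) (Steps.bwd (nat_lit 1) Steps.nil))))))) (nat_lit 76) (nat_lit 4),
  Rule.mk (nat_lit 5) (nat_lit 52) (Steps.bwd (nat_lit 7) (Steps.fwd (nat_lit 2048) (Steps.fwd (nat_lit 3072) (Steps.bwd (nat_lit 7) (Steps.bwd (nat_lit 4) Steps.nil))))) (nat_lit 66) (nat_lit 2),
  Rule.mk (nat_lit 8) (nat_lit 34) (Steps.fwd (nat_lit 3584) (Steps.bwd (nat_lit 9) (Steps.bwd (nat_lit 5) Steps.nil))) (nat_lit 98) (nat_lit 1),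
  Rule.mk (nat_lit 3) (nat_lit 34) (Steps.bwd (nat_lit 8) (Steps.bwd (nat_lit 2) (Steps.bwd (nat_lit 9) Steps.nil))) (nat_lit 96) (nat_lit 0),
  Rule.mk (nat_lit 6) (nat_lit 34) (Steps.bwd (nat_lit 2) (Steps.bwd (nat_lit 6) (Steps.bwd (nat_lit 3) Steps.nil))) (nat_lit 40) (nat_lit 0),
  Rule.mk (nat_lit 0) (nat_lit 61) (Steps.fwd (nat_lit 512) (Steps.fwd (nat_lit 1024) (Steps.fwd (nat_lit 512) (Steps.bwd (nat_lit 3) (Steps.bwd (nat_lit 1) (Steps.fwd (nat_lit 1024) Steps.nil)))))) (nat_lit 13) (nat_lit 1),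
  Rule.mk (nat_lit 0) (nat_lit 34) (Steps.bwd (nat_lit 1) (Steps.bwd (nat_lit 0) (Steps.fwd (nat_lit 512) Steps.nil))) (nat_lit 108) (nat_lit 0),
  Rule.mk (nat_lit 0) (nat_lit 34) (Steps.fwd (nat_lit 3072) (Steps.fwd (nat_lit 0) (Steps.bwd (nat_lit 6) Steps.nil))) (nat_lit 108) (nat_lit 0),
  Rule.mk (nat_lit 1) (nat_lit 25) (Steps.bwd (nat_lit 0) (Steps.bwd (nat_lit 1) Steps.nil)) (nat_lit 108) (nat_lit 0),
  Rule.mk (nat_lit 3) (nat_lit 25) (Steps.bwd (nat_lit 0) (Steps.fwd (nat_lit 1536) Steps.nil)) (nat_lit 108) (nat_lit 0),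
  Rule.mk (nat_lit 4) (nat_lit 25) (Steps.bwd (nat_lit 0) (Steps.fwd (nat_lit 2048) Steps.nil)) (nat_lit 108) (nat_lit 0),
  Rule.mk (nat_lit 5) (nat_lit 25) (Steps.bwd (nat_lit 0) (Steps.fwd (nat_lit 2560) Steps.nil)) (nat_lit 108) (nat_lit 0),
  Rule.mk (nat_lit 6) (nat_lit 25) (Steps.bwd (nat_lit 0) (Steps.bwd (nat_lit 6) Steps.nil)) (nat_lit 108) (nat_lit 0),
  Rule.mk (nat_lit 0) (nat_lit 34) (Steps.fwd (nat_lit 512) (Steps.fwd (nat_lit 0) (Steps.bwd (nat_lit 1) Steps.nil))) (nat_lit 108) (nat_lit 0),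
  Rule.mk (nat_lit 3) (nat_lit 25) (Steps.bwd (nat_lit 0) (Steps.bwd (nat_lit 2) Steps.nil)) (nat_lit 108) (nat_lit 0),
  Rule.mk (nat_lit 7) (nat_lit 34) (Steps.bwd (nat_lit 3) (Steps.bwd (nat_lit 7) (Steps.bwd (nat_lit 2) Steps.nil))) (nat_lit 28) (nat_lit 3),
  Rule.mk (nat_lit 0) (nat_lit 61) (Steps.fwd (nat_lit 512) (Steps.bwd (nat_lit 3) (Steps.fwd (nat_lit 512) (Steps.fwd (nat_lit 1024) (Steps.bwd (nat_lit 1) (Steps.fwd (nat_lit 1024) Steps.nil)))))) (nat_lit 13) (nat_lit 1),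
  Rule.mk (nat_lit 6) (nat_lit 70) (Steps.bwd (nat_lit 7) (Steps.bwd (nat_lit 3) (Steps.fwd (nat_lit 2560) (Steps.fwd (nat_lit 1024) (Steps.fwd (nat_lit 3072) (Steps.bwd (nat_lit 5) (Steps.fwd (nat_lit 1024) Steps.nil))))))) (nat_lit 85) (nat_lit 4),
  Rule.mk (nat_lit 4) (nat_lit 34) (Steps.bwd (nat_lit 5) (Steps.bwd (nat_lit 4) (Steps.bwd (nat_lit 6) Steps.nil))) (nat_lit 22) (nat_lit 1),
  Rule.mk (nat_lit 8) (nat_lit 34) (Steps.bwd (nat_lit 6) (Steps.bwd (nat_lit 8) (Steps.bwd (nat_lit 6) Steps.nil))) (nat_lit 102) (nat_lit 0),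
  Rule.mk (nat_lit 5) (nat_lit 52) (Steps.bwd (nat_lit 4) (Steps.fwd (nat_lit 1024) (Steps.bwd (nat_lit 6) (Steps.bwd (nat_lit 4) (Steps.fwd (nat_lit 1024) Steps.nil))))) (nat_lit 55) (nat_lit 4),
  Rule.mk (nat_lit 5) (nat_lit 52) (Steps.fwd (nat_lit 1024) (Steps.bwd (nat_lit 4) (Steps.bwd (nat_lit 6) (Steps.fwd (nat_lit 1024) (Steps.bwd (nat_lit 4) Steps.nil))))) (nat_lit 59) (nat_lit 5),
  Rule.mk (nat_lit 2) (nat_lit 34) (Steps.bwd (nat_lit 5) (Steps.fwd (nat_lit 1024) (Steps.fwd (nat_lit 2560) Steps.nil))) (nat_lit 20) (nat_lit 1),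
  Rule.mk (nat_lit 4) (nat_lit 52) (Steps.bwd (nat_lit 6) (Steps.fwd (nat_lit 1536) (Steps.fwd (nat_lit 2048) (Steps.fwd (nat_lit 2560) (Steps.bwd (nat_lit 2) Steps.nil))))) (nat_lit 54) (nat_lit 5),
  Rule.mk (nat_lit 2) (nat_lit 124) (Steps.bwd (nat_lit 1) (Steps.bwd (nat_lit 6) (Steps.bwd (nat_lit 1) (Steps.fwd (nat_lit 3072) (Steps.bwd (nat_lit 5) (Steps.bwd (nat_lit 2) (Steps.fwd (nat_lit 512) (Steps.fwd (nat_lit 3072) (Steps.fwd (nat_lit 512) (Steps.bwd (nat_lit 2) (Steps.bwd (nat_lit 1) (Steps.bwd (nat_lit 6) (Steps.bwd (nat_lit 1) Steps.nil))))))))))))) (nat_lit 34) (nat_lit 9),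
  Rule.mk (nat_lit 4) (nat_lit 34) (Steps.fwd (nat_lit 1536) (Steps.fwd (nat_lit 2048) (Steps.bwd (nat_lit 2) Steps.nil))) (nat_lit 14) (nat_lit 1),
  Rule.mk (nat_lit 6) (nat_lit 34) (Steps.fwd (nat_lit 1024) (Steps.bwd (nat_lit 6) (Steps.bwd (nat_lit 2) Steps.nil))) (nat_lit 40) (nat_lit 2),
  Rule.mk (nat_lit 8) (nat_lit 34) (Steps.fwd (nat_lit 1024) (Steps.fwd (nat_lit 4096) (Steps.bwd (nat_lit 2) Steps.nil))) (nat_lit 97) (nat_lit 2),
  Rule.mk (nat_lit 8) (nat_lit 115) (Steps.bwd (nat_lit 4) (Steps.bwd (nat_lit 8) (Steps.bwd (nat_lit 4) (Steps.bwd (nat_lit 8) (Steps.bwd (nat_lit 4) (Steps.bwd (nat_lit 8) (Steps.bwd (nat_lit 4) (Steps.fwd (nat_lit 4608) (Steps.bwd (nat_lit 4) (Steps.bwd (nat_lit 2) (Steps.fwd (nat_lit 4608) (Steps.fwd (nat_lit 2048) Steps.nil)))))))))))) (nat_lit 106) (nat_lit 3),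
  Rule.mk (nat_lit 0) (nat_lit 124) (Steps.fwd (nat_lit 4096) (Steps.fwd (nat_lit 2048) (Steps.fwd (nat_lit 4096) (Steps.fwd (nat_lit 2048) (Steps.fwd (nat_lit 4096) (Steps.fwd (nat_lit 2048) (Steps.fwd (nat_lit 4096) (Steps.bwd (nat_lit 4) (Steps.bwd (nat_lit 9) (Steps.fwd (nat_lit 2048) (Steps.fwd (nat_lit 4096) (Steps.fwd (nat_lit 1024) (Steps.bwd (nat_lit 4) Steps.nil))))))))))))) (nat_lit 107) (nat_lit 2),
  Rule.mk (nat_lit 0) (nat_lit 34) (Steps.bwd (nat_lit 2) (Steps.bwd (nat_lit 0) (Steps.fwd (nat_lit 1024) Steps.nil))) (nat_lit 108) (nat_lit 0),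
  Rule.mk (nat_lit 0) (nat_lit 34) (Steps.fwd (nat_lit 2048) (Steps.fwd (nat_lit 0) (Steps.fwd (nat_lit 2048) Steps.nil))) (nat_lit 108) (nat_lit 0),
  Rule.mk (nat_lit 0) (nat_lit 34) (Steps.bwd (nat_lit 4) (Steps.fwd (nat_lit 0) (Steps.fwd (nat_lit 2048) Steps.nil))) (nat_lit 108) (nat_lit 0),
  Rule.mk (nat_lit 0) (nat_lit 43) (Steps.bwd (nat_lit 0) (Steps.bwd (nat_lit 1) (Steps.fwd (nat_lit 0) (Steps.bwd (nat_lit 1) Steps.nil)))) (nat_lit 108) (nat_lit 0),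
  Rule.mk (nat_lit 0) (nat_lit 25) (Steps.fwd (nat_lit 0) (Steps.fwd (nat_lit 0) Steps.nil)) (nat_lit 108) (nat_lit 0),
  Rule.mk (nat_lit 0) (nat_lit 34) (Steps.fwd (nat_lit 3072) (Steps.fwd (nat_lit 0) (Steps.fwd (nat_lit 3072) Steps.nil))) (nat_lit 108) (nat_lit 0),
  Rule.mk (nat_lit 0) (nat_lit 34) (Steps.fwd (nat_lit 4608) (Steps.fwd (nat_lit 0) (Steps.fwd (nat_lit 4096) Steps.nil))) (nat_lit 108) (nat_lit 0),
  Rule.mk (nat_lit 0) (nat_lit 34) (Steps.bwd (nat_lit 9) (Steps.fwd (nat_lit 0) (Steps.bwd (nat_lit 8) Steps.nil))) (nat_lit 108) (nat_lit 0),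
  Rule.mk (nat_lit 0) (nat_lit 43) (Steps.bwd (nat_lit 0) (Steps.fwd (nat_lit 512) (Steps.bwd (nat_lit 0) (Steps.fwd (nat_lit 512) Steps.nil)))) (nat_lit 108) (nat_lit 0),
  Rule.mk (nat_lit 0) (nat_lit 34) (Steps.bwd (nat_lit 8) (Steps.fwd (nat_lit 0) (Steps.fwd (nat_lit 4096) Steps.nil))) (nat_lit 108) (nat_lit 0),
  Rule.mk (nat_lit 0) (nat_lit 43) (Steps.bwd (nat_lit 8) (Steps.bwd (nat_lit 0) (Steps.fwd (nat_lit 4096) (Steps.fwd (nat_lit 0) Steps.nil)))) (nat_lit 108) (nat_lit 0),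
  Rule.mk (nat_lit 0) (nat_lit 43) (Steps.bwd (nat_lit 0) (Steps.fwd (nat_lit 2048) (Steps.fwd (nat_lit 0) (Steps.bwd (nat_lit 4) Steps.nil)))) (nat_lit 108) (nat_lit 0),
  Rule.mk (nat_lit 0) (nat_lit 34) (Steps.fwd (nat_lit 0) (Steps.fwd (nat_lit 0) (Steps.fwd (nat_lit 0) Steps.nil))) (nat_lit 108) (nat_lit 0),
  Rule.mk (nat_lit 0) (nat_lit 43) (Steps.bwd (nat_lit 6) (Steps.bwd (nat_lit 0) (Steps.fwd (nat_lit 3072) (Steps.fwd (nat_lit 0) Steps.nil)))) (nat_lit 108) (nat_lit 0),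
  Rule.mk (nat_lit 0) (nat_lit 43) (Steps.bwd (nat_lit 0) (Steps.bwd (nat_lit 8) (Steps.bwd (nat_lit 0) (Steps.fwd (nat_lit 4096) Steps.nil)))) (nat_lit 108) (nat_lit 0),
  Rule.mk (nat_lit 9) (nat_lit 25) (Steps.bwd (nat_lit 0) (Steps.bwd (nat_lit 8) Steps.nil)) (nat_lit 108) (nat_lit 0)]
noncomputable def R : List (List (Rule)) := [R_0, R_1]
def LW : List Word := [[], [0], [2], [3], [4], [6], [8], [10], [12], [13], [0], [1], [2], [3], [4], [5], [6], [7], [8], [9], [10], [11]]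
def par : Par := ⟨9, 5, 14, 23, 511, 16383, 8388607⟩
theorem hpar : par.ok := by decide
theorem hR0_0 : lall (R) (fun l => lall l (ruleOK Ra31 LW par)) = true := by decide +kernel
theorem hR0 : lall (R) (fun l => lall l (ruleOK Ra31 LW par)) = true := hR0_0
theorem hR : RulesOK Ra31 LW par R := rulesOK_of rfl hR0
def cols : List (ℕ × ℕ) := [(512, 1), (1024, 3), (2048, 4), (2560, 5), (3072, 6), (3584, 7), (4096, 9)]
theorem hcols : lall cols (colOK Ra31 LW par) = true := by decide +kernel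
noncomputable def JS0 : List ℕ := [nat_lit 0x2038225e34030398c20081e5c3201060041000c004c0610c03cac552a14ca4512813cc15cbe0f0a84c1c562e002b178220e2f158b154ba0d2e954a814100904142d010b44ca8022a122b800ae48ac552a14ca451038442a5a2c15c8944a00608050b2572b154a8532910010141a0c2b0f008101a0b2a8e0182c06340409298c0081c022c0009000a048381a522813c9c4d2612c944912002800ca0000c0002018060602810400c08020187268049a0c060405010061806040300c2808084b08010200418000a0004482381,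
  nat_lit 0x1a0046e0b9e8c8636e67009b43e0f32991b1a40a6c0a86c10656a6b4019ccc65680005b30700002c8020536b100195819848663218d2004e42a3999978001e005c0c31989699ce2233c1896198321831001580006005463021b8442436981480cc2605011099b0c05f4e00008502a614c000a18129a436692f97921940414370051990020a2f011118c006c421136064c680ca19310430858c24cc80f03164067cc60e019600478cc0f0195c0274b85b2d164b0572b018ce680b174e1540a6633854b85b2d164b0572b1b,
  nat_lit 0x10e2a1e8a80281ac2646002a9f801504e053e530381690240944d203a005014f3400670bc02759a730019a60fcca01381c4e52c0011404a071e80124001509c83b800047700c72f008d22a42080ed18bc5d0081cd2830fc52e000ce293401ce710cc8c2e970b6d0c6012ec32e004ea8e3c820cd0800080098a09cc682512188c2602f978ba5c2d96a000004067e013887438607c0037819e9bc425f780c003b000381ee8e02e15888246431988c2602f978bae4c8003538,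
  nat_lit 0xa4f00afb72f4020eda01026800013408c064c016c5f8108dad7c021f6b2e00479a8b0000de90000b429002a100671b80423986c01046504000179068391b9654604001dcf0793d1ecf98c06a25210c6a053d9e8f2783b9db1004168cc2002a10b02a8c2aa4e9e52001269dbe9116250088342214b24120240f278bc0002008220eba0300012e008569506038700454257a1a3c802e0a05a030d1e2d9ec02024082ad1245201b2000b85ac1f80c00448ac0602ae830052,
  nat_lit 0xcd0073418019600e4000a004ffc4020201f00001f43180c5302ef]
theorem S0_c : blocks (facts 9 5 14 23 511 16383 8388607 9 511 7 127 A R 32) 32 JS0 328 = true := by decide +kernel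
theorem S0 : On (Step.{u} Ra31 LW par A) 328 488 :=
  steps_of_blocks hpar hR S0_c (by decide +kernel)
theorem D0_c : allB (defOK 9 14 23 511 8388607 323 A K) 1 2 = true := by decide +kernel
theorem D0 : On (fun r => defOK par.W par.WL par.E par.mW par.mE 323 A K r = true) 256 384 :=
  On.of_allB D0_c
noncomputable def JW0 : List ℕ := [nat_lit 0x3550142511465214a]
theorem W0_c : blocks (rows 9 5 14 23 511 16383 8388607 10 1023 70 A 488 1 cols 18) 18 JW0 0 = true := by decide +kernel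
theorem W0 : On (Row.{u} Ra31 LW par A 488 1 cols) 0 18 :=
  rows_of_blocks hpar (by decide) hcols W0_c (by decide +kernel)
theorem idx : Idx.{u} Ra31 [[0], [2], [4], [6], [8], [10], [12]] [[0], [2], [4], [6], [8], [10]] 1 :=
  idx_of_cert hpar hR (K := K) (by decide +kernel) (T := 323) (T' := 384) (by decide) D0
    (subs := [1,2,4,5,6,7]) (by decide +kernel) (T1 := 328) (by decide) (N := 488) S0
    (by decide) (n' := 18) (by decide) W0 (by decide +kernel) (by decide +kernel)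
end a31
namespace a32
noncomputable def A_0 : List (ℕ) := [nat_lit 0x48000000080400200807a0100580200180c00a05007a0900601201582401401802a0300582800c05002b0200380400683400e86801c1000622000c8788218f502b1e982c0c10f47840b88843c1910382010c86a21c8d482d1888402028d46451c83102c0e90622c3074306108840260e9c4e27186c36014070c2b0c14563920ac5a31582422b0680522b00e0120150e0c1c168c703840843051c0e4e221c1c303930885e41d0c4a361b10583728c03c61b8bca24171c5e2e208c3c51706d22d16a4321a30b44870f07ce250f98461c3884344100712180b24381d402c3a20e06841d0da0321b286c1a10d85521a0a98321938642a50c8590180a04301538542c40a85841505882c0e30381c504038e05021c1a0930341a50683460d070c1c0f103c202080446110294261218481070984c41304182614282428602050e090a08281440100680a02cc0c059c160b202c1230482060803880e0610180a3028106040198060428100670180c403051c140a280c1460502840a01101401080402200804a01009c0202080804501008c01011c0402100800801000e00001800002800004000004000004004321088482090484020207e3f20f87c8100f42191e04763b30907411c8e48381c04123708d86c21a8d42341a18663308c8642188c423018185e2f08205c1098b422c1608562b08a8546148a422814084e2708984c60c09482412041c2308884440c08441b10043e1f20783c10287421c0e08341b38683410206440c0c0c2e17482c2c10a85440b0a10261340482440884501008101e0f40381c40683500a0604140b080c1480482480804200e0720180c80281480402200603200404800805000]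
noncomputable def A : List (List (ℕ)) := [A_0]
noncomputable def K_0 : List (ℕ) := [nat_lit 0xa1506813f9f4f6793b9d4e671379b4d66933994c6612f974b6592b954a6512793496492391486411f8f476391b8d46631178b456291389446210f87436190b854261107834160903814060000]
noncomputable def K : List (List (ℕ)) := [K_0]
noncomputable def R_0 : List (Rule) := [Rule.mk (nat_lit 8) (nat_lit 25) (Steps.bwd (nat_lit 8) (Steps.bwd (nat_lit 8) Steps.nil)) (nat_lit 94) (nat_lit 0),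
  Rule.mk (nat_lit 2) (nat_lit 34) (Steps.fwd (nat_lit 4096) (Steps.fwd (nat_lit 1024) (Steps.bwd (nat_lit 8) Steps.nil))) (nat_lit 96) (nat_lit 2),
  Rule.mk (nat_lit 7) (nat_lit 34) (Steps.fwd (nat_lit 4096) (Steps.fwd (nat_lit 2560) (Steps.bwd (nat_lit 8) Steps.nil))) (nat_lit 98) (nat_lit 2),
  Rule.mk (nat_lit 6) (nat_lit 34) (Steps.bwd (nat_lit 8) (Steps.fwd (nat_lit 3072) (Steps.bwd (nat_lit 8) Steps.nil))) (nat_lit 102) (nat_lit 1),
  Rule.mk (nat_lit 5) (nat_lit 43) (Steps.fwd (nat_lit 4096) (Steps.fwd (nat_lit 2560) (Steps.fwd (nat_lit 3584) (Steps.bwd (nat_lit 8) Steps.nil)))) (nat_lit 100) (nat_lit 2),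
  Rule.mk (nat_lit 1) (nat_lit 52) (Steps.fwd (nat_lit 1024) (Steps.fwd (nat_lit 4096) (Steps.fwd (nat_lit 512) (Steps.bwd (nat_lit 8) (Steps.bwd (nat_lit 2) Steps.nil))))) (nat_lit 104) (nat_lit 3),
  Rule.mk (nat_lit 5) (nat_lit 43) (Steps.fwd (nat_lit 3072) (Steps.fwd (nat_lit 2560) (Steps.fwd (nat_lit 3584) (Steps.bwd (nat_lit 6) Steps.nil)))) (nat_lit 24) (nat_lit 2),
  Rule.mk (nat_lit 2) (nat_lit 70) (Steps.fwd (nat_lit 3072) (Steps.fwd (nat_lit 3584) (Steps.bwd (nat_lit 2) (Steps.fwd (nat_lit 2560) (Steps.bwd (nat_lit 2) (Steps.bwd (nat_lit 6) (Steps.fwd (nat_lit 2560) Steps.nil))))))) (nat_lit 82) (nat_lit 6),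
  Rule.mk (nat_lit 4) (nat_lit 124) (Steps.bwd (nat_lit 8) (Steps.bwd (nat_lit 4) (Steps.bwd (nat_lit 8) (Steps.bwd (nat_lit 4) (Steps.bwd (nat_lit 8) (Steps.bwd (nat_lit 4) (Steps.bwd (nat_lit 8) (Steps.bwd (nat_lit 4) (Steps.bwd (nat_lit 8) (Steps.fwd (nat_lit 2048) (Steps.bwd (nat_lit 2) (Steps.bwd (nat_lit 2) (Steps.bwd (nat_lit 8) Steps.nil))))))))))))) (nat_lit 106) (nat_lit 2),
  Rule.mk (nat_lit 2) (nat_lit 34) (Steps.fwd (nat_lit 2048) (Steps.bwd (nat_lit 2) (Steps.bwd (nat_lit 4) Steps.nil))) (nat_lit 14) (nat_lit 0),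
  Rule.mk (nat_lit 6) (nat_lit 34) (Steps.fwd (nat_lit 2048) (Steps.fwd (nat_lit 2560) (Steps.bwd (nat_lit 4) Steps.nil))) (nat_lit 22) (nat_lit 0),
  Rule.mk (nat_lit 5) (nat_lit 34) (Steps.bwd (nat_lit 4) (Steps.fwd (nat_lit 3072) (Steps.bwd (nat_lit 4) Steps.nil))) (nat_lit 22) (nat_lit 2),
  Rule.mk (nat_lit 7) (nat_lit 34) (Steps.fwd (nat_lit 2048) (Steps.fwd (nat_lit 3584) (Steps.bwd (nat_lit 4) Steps.nil))) (nat_lit 30) (nat_lit 1),
  Rule.mk (nat_lit 2) (nat_lit 52) (Steps.bwd (nat_lit 4) (Steps.fwd (nat_lit 3072) (Steps.bwd (nat_lit 2) (Steps.bwd (nat_lit 4) (Steps.bwd (nat_lit 5) Steps.nil))))) (nat_lit 54) (nat_lit 4),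
  Rule.mk (nat_lit 7) (nat_lit 52) (Steps.bwd (nat_lit 4) (Steps.fwd (nat_lit 3072) (Steps.fwd (nat_lit 3584) (Steps.bwd (nat_lit 4) (Steps.bwd (nat_lit 5) Steps.nil))))) (nat_lit 66) (nat_lit 3),
  Rule.mk (nat_lit 5) (nat_lit 34) (Steps.bwd (nat_lit 8) (Steps.fwd (nat_lit 3584) (Steps.fwd (nat_lit 4096) Steps.nil))) (nat_lit 98) (nat_lit 0),
  Rule.mk (nat_lit 6) (nat_lit 43) (Steps.fwd (nat_lit 2560) (Steps.fwd (nat_lit 3072) (Steps.bwd (nat_lit 5) (Steps.fwd (nat_lit 3584) Steps.nil)))) (nat_lit 24) (nat_lit 1),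
  Rule.mk (nat_lit 3) (nat_lit 34) (Steps.bwd (nat_lit 8) (Steps.bwd (nat_lit 2) (Steps.fwd (nat_lit 4096) Steps.nil))) (nat_lit 96) (nat_lit 0),
  Rule.mk (nat_lit 3) (nat_lit 34) (Steps.bwd (nat_lit 4) (Steps.bwd (nat_lit 3) (Steps.fwd (nat_lit 2048) Steps.nil))) (nat_lit 15) (nat_lit 1),
  Rule.mk (nat_lit 2) (nat_lit 34) (Steps.bwd (nat_lit 8) (Steps.bwd (nat_lit 3) (Steps.fwd (nat_lit 4096) Steps.nil))) (nat_lit 97) (nat_lit 1),
  Rule.mk (nat_lit 2) (nat_lit 34) (Steps.bwd (nat_lit 4) (Steps.bwd (nat_lit 2) (Steps.fwd (nat_lit 2048) Steps.nil))) (nat_lit 14) (nat_lit 0),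
  Rule.mk (nat_lit 4) (nat_lit 52) (Steps.bwd (nat_lit 1) (Steps.bwd (nat_lit 4) (Steps.fwd (nat_lit 512) (Steps.fwd (nat_lit 2048) (Steps.fwd (nat_lit 512) Steps.nil))))) (nat_lit 16) (nat_lit 0),
  Rule.mk (nat_lit 7) (nat_lit 70) (Steps.bwd (nat_lit 1) (Steps.bwd (nat_lit 4) (Steps.fwd (nat_lit 512) (Steps.fwd (nat_lit 3584) (Steps.fwd (nat_lit 2048) (Steps.fwd (nat_lit 512) (Steps.fwd (nat_lit 2048) Steps.nil))))))) (nat_lit 76) (nat_lit 0),
  Rule.mk (nat_lit 6) (nat_lit 70) (Steps.bwd (nat_lit 1) (Steps.fwd (nat_lit 2048) (Steps.fwd (nat_lit 512) (Steps.bwd (nat_lit 6) (Steps.fwd (nat_lit 512) (Steps.fwd (nat_lit 2048) (Steps.fwd (nat_lit 512) Steps.nil))))))) (nat_lit 74) (nat_lit 0),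
  Rule.mk (nat_lit 8) (nat_lit 124) (Steps.bwd (nat_lit 4) (Steps.bwd (nat_lit 8) (Steps.bwd (nat_lit 4) (Steps.bwd (nat_lit 8) (Steps.bwd (nat_lit 4) (Steps.bwd (nat_lit 8) (Steps.bwd (nat_lit 4) (Steps.bwd (nat_lit 8) (Steps.fwd (nat_lit 2048) (Steps.bwd (nat_lit 2) (Steps.bwd (nat_lit 2) (Steps.bwd (nat_lit 8) (Steps.fwd (nat_lit 2048) Steps.nil))))))))))))) (nat_lit 106) (nat_lit 3),
  Rule.mk (nat_lit 7) (nat_lit 34) (Steps.fwd (nat_lit 4096) (Steps.bwd (nat_lit 5) (Steps.bwd (nat_lit 8) Steps.nil))) (nat_lit 98) (nat_lit 2),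
  Rule.mk (nat_lit 5) (nat_lit 43) (Steps.fwd (nat_lit 4096) (Steps.bwd (nat_lit 5) (Steps.fwd (nat_lit 3584) (Steps.bwd (nat_lit 8) Steps.nil)))) (nat_lit 100) (nat_lit 2),
  Rule.mk (nat_lit 6) (nat_lit 34) (Steps.fwd (nat_lit 2048) (Steps.bwd (nat_lit 5) (Steps.bwd (nat_lit 4) Steps.nil))) (nat_lit 22) (nat_lit 0),
  Rule.mk (nat_lit 2) (nat_lit 52) (Steps.fwd (nat_lit 2048) (Steps.bwd (nat_lit 5) (Steps.fwd (nat_lit 1536) (Steps.bwd (nat_lit 4) (Steps.bwd (nat_lit 6) Steps.nil))))) (nat_lit 54) (nat_lit 1),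
  Rule.mk (nat_lit 7) (nat_lit 52) (Steps.fwd (nat_lit 2048) (Steps.bwd (nat_lit 5) (Steps.fwd (nat_lit 3584) (Steps.bwd (nat_lit 4) (Steps.fwd (nat_lit 3072) Steps.nil))))) (nat_lit 66) (nat_lit 0),
  Rule.mk (nat_lit 3) (nat_lit 34) (Steps.fwd (nat_lit 4096) (Steps.bwd (nat_lit 2) (Steps.bwd (nat_lit 8) Steps.nil))) (nat_lit 97) (nat_lit 3),
  Rule.mk (nat_lit 5) (nat_lit 52) (Steps.bwd (nat_lit 2) (Steps.fwd (nat_lit 2048) (Steps.bwd (nat_lit 6) (Steps.fwd (nat_lit 1536) (Steps.fwd (nat_lit 2048) Steps.nil))))) (nat_lit 54) (nat_lit 3),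
  Rule.mk (nat_lit 3) (nat_lit 34) (Steps.fwd (nat_lit 2048) (Steps.bwd (nat_lit 3) (Steps.bwd (nat_lit 4) Steps.nil))) (nat_lit 15) (nat_lit 1),
  Rule.mk (nat_lit 2) (nat_lit 34) (Steps.fwd (nat_lit 4096) (Steps.bwd (nat_lit 3) (Steps.bwd (nat_lit 8) Steps.nil))) (nat_lit 96) (nat_lit 2),
  Rule.mk (nat_lit 7) (nat_lit 43) (Steps.bwd (nat_lit 8) (Steps.bwd (nat_lit 5) (Steps.fwd (nat_lit 4096) (Steps.fwd (nat_lit 2560) Steps.nil)))) (nat_lit 100) (nat_lit 0),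
  Rule.mk (nat_lit 7) (nat_lit 34) (Steps.bwd (nat_lit 4) (Steps.bwd (nat_lit 7) (Steps.fwd (nat_lit 2048) Steps.nil))) (nat_lit 30) (nat_lit 1),
  Rule.mk (nat_lit 5) (nat_lit 52) (Steps.bwd (nat_lit 7) (Steps.fwd (nat_lit 2048) (Steps.bwd (nat_lit 6) (Steps.bwd (nat_lit 7) (Steps.fwd (nat_lit 2048) Steps.nil))))) (nat_lit 66) (nat_lit 2),
  Rule.mk (nat_lit 6) (nat_lit 52) (Steps.bwd (nat_lit 7) (Steps.bwd (nat_lit 4) (Steps.fwd (nat_lit 2560) (Steps.bwd (nat_lit 7) (Steps.fwd (nat_lit 2048) Steps.nil))))) (nat_lit 66) (nat_lit 5),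
  Rule.mk (nat_lit 2) (nat_lit 52) (Steps.bwd (nat_lit 1) (Steps.bwd (nat_lit 2) (Steps.bwd (nat_lit 1) (Steps.bwd (nat_lit 2) (Steps.fwd (nat_lit 512) Steps.nil))))) (nat_lit 12) (nat_lit 0),
  Rule.mk (nat_lit 2) (nat_lit 25) (Steps.bwd (nat_lit 2) (Steps.bwd (nat_lit 2) Steps.nil)) (nat_lit 2) (nat_lit 0),
  Rule.mk (nat_lit 4) (nat_lit 34) (Steps.bwd (nat_lit 2) (Steps.fwd (nat_lit 2048) (Steps.bwd (nat_lit 2) Steps.nil))) (nat_lit 14) (nat_lit 1),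
  Rule.mk (nat_lit 7) (nat_lit 52) (Steps.bwd (nat_lit 2) (Steps.fwd (nat_lit 2048) (Steps.fwd (nat_lit 3584) (Steps.bwd (nat_lit 2) (Steps.bwd (nat_lit 4) Steps.nil))))) (nat_lit 56) (nat_lit 0),
  Rule.mk (nat_lit 1) (nat_lit 52) (Steps.bwd (nat_lit 3) (Steps.bwd (nat_lit 9) (Steps.bwd (nat_lit 1) (Steps.bwd (nat_lit 8) (Steps.bwd (nat_lit 2) Steps.nil))))) (nat_lit 104) (nat_lit 3),
  Rule.mk (nat_lit 8) (nat_lit 34) (Steps.bwd (nat_lit 3) (Steps.bwd (nat_lit 9) (Steps.bwd (nat_lit 2) Steps.nil))) (nat_lit 97) (nat_lit 2),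
  Rule.mk (nat_lit 5) (nat_lit 70) (Steps.bwd (nat_lit 2) (Steps.bwd (nat_lit 1) (Steps.bwd (nat_lit 2) (Steps.bwd (nat_lit 5) (Steps.fwd (nat_lit 512) (Steps.bwd (nat_lit 2) (Steps.bwd (nat_lit 1) Steps.nil))))))) (nat_lit 70) (nat_lit 4),
  Rule.mk (nat_lit 7) (nat_lit 34) (Steps.fwd (nat_lit 2560) (Steps.fwd (nat_lit 3584) (Steps.bwd (nat_lit 5) Steps.nil))) (nat_lit 32) (nat_lit 1),
  Rule.mk (nat_lit 6) (nat_lit 52) (Steps.fwd (nat_lit 3584) (Steps.bwd (nat_lit 2) (Steps.fwd (nat_lit 3072) (Steps.fwd (nat_lit 3584) (Steps.fwd (nat_lit 1024) Steps.nil))))) (nat_lit 62) (nat_lit 5),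
  Rule.mk (nat_lit 9) (nat_lit 52) (Steps.bwd (nat_lit 1) (Steps.bwd (nat_lit 8) (Steps.bwd (nat_lit 2) (Steps.fwd (nat_lit 512) (Steps.fwd (nat_lit 1024) Steps.nil))))) (nat_lit 104) (nat_lit 5),
  Rule.mk (nat_lit 1) (nat_lit 34) (Steps.bwd (nat_lit 7) (Steps.bwd (nat_lit 1) (Steps.bwd (nat_lit 7) Steps.nil))) (nat_lit 26) (nat_lit 0),
  Rule.mk (nat_lit 5) (nat_lit 34) (Steps.fwd (nat_lit 512) (Steps.fwd (nat_lit 2560) (Steps.bwd (nat_lit 1) Steps.nil))) (nat_lit 18) (nat_lit 0),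
  Rule.mk (nat_lit 8) (nat_lit 52) (Steps.bwd (nat_lit 2) (Steps.bwd (nat_lit 1) (Steps.fwd (nat_lit 1024) (Steps.fwd (nat_lit 4096) (Steps.bwd (nat_lit 1) Steps.nil))))) (nat_lit 104) (nat_lit 1),
  Rule.mk (nat_lit 2) (nat_lit 52) (Steps.bwd (nat_lit 1) (Steps.bwd (nat_lit 2) (Steps.bwd (nat_lit 1) (Steps.fwd (nat_lit 1536) (Steps.fwd (nat_lit 512) Steps.nil))))) (nat_lit 12) (nat_lit 0),
  Rule.mk (nat_lit 8) (nat_lit 34) (Steps.fwd (nat_lit 1024) (Steps.bwd (nat_lit 9) (Steps.bwd (nat_lit 2) Steps.nil))) (nat_lit 97) (nat_lit 2),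
  Rule.mk (nat_lit 9) (nat_lit 34) (Steps.fwd (nat_lit 1024) (Steps.bwd (nat_lit 8) (Steps.bwd (nat_lit 2) Steps.nil))) (nat_lit 96) (nat_lit 3),
  Rule.mk (nat_lit 9) (nat_lit 25) (Steps.fwd (nat_lit 4096) (Steps.bwd (nat_lit 9) Steps.nil)) (nat_lit 95) (nat_lit 0),
  Rule.mk (nat_lit 4) (nat_lit 52) (Steps.bwd (nat_lit 1) (Steps.bwd (nat_lit 4) (Steps.bwd (nat_lit 1) (Steps.bwd (nat_lit 4) (Steps.fwd (nat_lit 512) Steps.nil))))) (nat_lit 16) (nat_lit 0),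
  Rule.mk (nat_lit 7) (nat_lit 70) (Steps.bwd (nat_lit 2) (Steps.fwd (nat_lit 512) (Steps.fwd (nat_lit 1536) (Steps.fwd (nat_lit 3584) (Steps.fwd (nat_lit 512) (Steps.bwd (nat_lit 2) (Steps.bwd (nat_lit 1) Steps.nil))))))) (nat_lit 72) (nat_lit 4),
  Rule.mk (nat_lit 6) (nat_lit 70) (Steps.bwd (nat_lit 1) (Steps.bwd (nat_lit 4) (Steps.fwd (nat_lit 512) (Steps.bwd (nat_lit 6) (Steps.fwd (nat_lit 512) (Steps.bwd (nat_lit 4) (Steps.bwd (nat_lit 1) Steps.nil))))))) (nat_lit 74) (nat_lit 0),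
  Rule.mk (nat_lit 7) (nat_lit 70) (Steps.bwd (nat_lit 4) (Steps.bwd (nat_lit 1) (Steps.bwd (nat_lit 4) (Steps.fwd (nat_lit 3584) (Steps.fwd (nat_lit 512) (Steps.bwd (nat_lit 4) (Steps.bwd (nat_lit 1) Steps.nil))))))) (nat_lit 76) (nat_lit 4),
  Rule.mk (nat_lit 7) (nat_lit 34) (Steps.fwd (nat_lit 2048) (Steps.bwd (nat_lit 7) (Steps.bwd (nat_lit 4) Steps.nil))) (nat_lit 30) (nat_lit 1),
  Rule.mk (nat_lit 6) (nat_lit 124) (Steps.bwd (nat_lit 1) (Steps.bwd (nat_lit 2) (Steps.bwd (nat_lit 1) (Steps.bwd (nat_lit 6) (Steps.bwd (nat_lit 1) (Steps.bwd (nat_lit 2) (Steps.bwd (nat_lit 1) (Steps.bwd (nat_lit 6) (Steps.fwd (nat_lit 512) (Steps.bwd (nat_lit 6) (Steps.fwd (nat_lit 2560) (Steps.fwd (nat_lit 1536) (Steps.fwd (nat_lit 512) Steps.nil))))))))))))) (nat_lit 34) (nat_lit 3),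
  Rule.mk (nat_lit 9) (nat_lit 34) (Steps.fwd (nat_lit 3072) (Steps.bwd (nat_lit 9) (Steps.bwd (nat_lit 6) Steps.nil))) (nat_lit 103) (nat_lit 1),
  Rule.mk (nat_lit 9) (nat_lit 25) (Steps.bwd (nat_lit 9) (Steps.fwd (nat_lit 4096) Steps.nil)) (nat_lit 95) (nat_lit 0),
  Rule.mk (nat_lit 5) (nat_lit 34) (Steps.bwd (nat_lit 1) (Steps.fwd (nat_lit 2560) (Steps.fwd (nat_lit 512) Steps.nil))) (nat_lit 18) (nat_lit 0)]
noncomputable def R_1 : List (Rule) := [Rule.mk (nat_lit 4) (nat_lit 34) (Steps.fwd (nat_lit 3072) (Steps.bwd (nat_lit 4) (Steps.bwd (nat_lit 5) Steps.nil))) (nat_lit 22) (nat_lit 3),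
  Rule.mk (nat_lit 7) (nat_lit 52) (Steps.bwd (nat_lit 1) (Steps.fwd (nat_lit 2560) (Steps.bwd (nat_lit 7) (Steps.fwd (nat_lit 512) (Steps.bwd (nat_lit 5) Steps.nil))))) (nat_lit 52) (nat_lit 0),
  Rule.mk (nat_lit 5) (nat_lit 34) (Steps.bwd (nat_lit 7) (Steps.bwd (nat_lit 5) (Steps.bwd (nat_lit 7) Steps.nil))) (nat_lit 32) (nat_lit 0),
  Rule.mk (nat_lit 6) (nat_lit 124) (Steps.bwd (nat_lit 1) (Steps.bwd (nat_lit 2) (Steps.bwd (nat_lit 1) (Steps.bwd (nat_lit 6) (Steps.bwd (nat_lit 1) (Steps.bwd (nat_lit 2) (Steps.bwd (nat_lit 1) (Steps.bwd (nat_lit 6) (Steps.bwd (nat_lit 1) (Steps.bwd (nat_lit 6) (Steps.fwd (nat_lit 2560) (Steps.fwd (nat_lit 1536) (Steps.fwd (nat_lit 512) Steps.nil))))))))))))) (nat_lit 34) (nat_lit 3),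
  Rule.mk (nat_lit 5) (nat_lit 43) (Steps.bwd (nat_lit 6) (Steps.bwd (nat_lit 5) (Steps.bwd (nat_lit 7) (Steps.bwd (nat_lit 6) Steps.nil)))) (nat_lit 24) (nat_lit 2),
  Rule.mk (nat_lit 4) (nat_lit 70) (Steps.fwd (nat_lit 512) (Steps.fwd (nat_lit 3072) (Steps.bwd (nat_lit 1) (Steps.fwd (nat_lit 2048) (Steps.fwd (nat_lit 512) (Steps.bwd (nat_lit 6) (Steps.bwd (nat_lit 1) Steps.nil))))))) (nat_lit 74) (nat_lit 2),
  Rule.mk (nat_lit 5) (nat_lit 34) (Steps.fwd (nat_lit 512) (Steps.bwd (nat_lit 5) (Steps.fwd (nat_lit 512) Steps.nil))) (nat_lit 18) (nat_lit 0),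
  Rule.mk (nat_lit 6) (nat_lit 70) (Steps.fwd (nat_lit 512) (Steps.fwd (nat_lit 2048) (Steps.bwd (nat_lit 1) (Steps.fwd (nat_lit 3072) (Steps.fwd (nat_lit 512) (Steps.bwd (nat_lit 4) (Steps.bwd (nat_lit 1) Steps.nil))))))) (nat_lit 74) (nat_lit 0),
  Rule.mk (nat_lit 7) (nat_lit 70) (Steps.fwd (nat_lit 512) (Steps.bwd (nat_lit 4) (Steps.fwd (nat_lit 512) (Steps.bwd (nat_lit 7) (Steps.bwd (nat_lit 4) (Steps.bwd (nat_lit 1) (Steps.bwd (nat_lit 4) Steps.nil))))))) (nat_lit 76) (nat_lit 0),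
  Rule.mk (nat_lit 7) (nat_lit 70) (Steps.bwd (nat_lit 4) (Steps.fwd (nat_lit 512) (Steps.bwd (nat_lit 4) (Steps.fwd (nat_lit 3584) (Steps.fwd (nat_lit 512) (Steps.bwd (nat_lit 4) (Steps.bwd (nat_lit 1) Steps.nil))))))) (nat_lit 76) (nat_lit 4),
  Rule.mk (nat_lit 5) (nat_lit 52) (Steps.bwd (nat_lit 7) (Steps.fwd (nat_lit 2048) (Steps.fwd (nat_lit 3072) (Steps.bwd (nat_lit 7) (Steps.bwd (nat_lit 4) Steps.nil))))) (nat_lit 66) (nat_lit 2),
  Rule.mk (nat_lit 8) (nat_lit 34) (Steps.fwd (nat_lit 3584) (Steps.bwd (nat_lit 9) (Steps.bwd (nat_lit 5) Steps.nil))) (nat_lit 98) (nat_lit 1),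
  Rule.mk (nat_lit 3) (nat_lit 34) (Steps.bwd (nat_lit 8) (Steps.bwd (nat_lit 2) (Steps.bwd (nat_lit 9) Steps.nil))) (nat_lit 96) (nat_lit 0),
  Rule.mk (nat_lit 6) (nat_lit 34) (Steps.bwd (nat_lit 2) (Steps.bwd (nat_lit 6) (Steps.bwd (nat_lit 3) Steps.nil))) (nat_lit 40) (nat_lit 0),
  Rule.mk (nat_lit 0) (nat_lit 61) (Steps.fwd (nat_lit 512) (Steps.fwd (nat_lit 1024) (Steps.fwd (nat_lit 512) (Steps.bwd (nat_lit 3) (Steps.bwd (nat_lit 1) (Steps.bwd (nat_lit 3) Steps.nil)))))) (nat_lit 13) (nat_lit 1),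
  Rule.mk (nat_lit 0) (nat_lit 34) (Steps.bwd (nat_lit 1) (Steps.bwd (nat_lit 0) (Steps.fwd (nat_lit 512) Steps.nil))) (nat_lit 108) (nat_lit 0),
  Rule.mk (nat_lit 0) (nat_lit 34) (Steps.fwd (nat_lit 3072) (Steps.fwd (nat_lit 0) (Steps.bwd (nat_lit 6) Steps.nil))) (nat_lit 108) (nat_lit 0),
  Rule.mk (nat_lit 1) (nat_lit 25) (Steps.bwd (nat_lit 0) (Steps.bwd (nat_lit 1) Steps.nil)) (nat_lit 108) (nat_lit 0),
  Rule.mk (nat_lit 3) (nat_lit 25) (Steps.bwd (nat_lit 0) (Steps.fwd (nat_lit 1536) Steps.nil)) (nat_lit 108) (nat_lit 0),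
  Rule.mk (nat_lit 4) (nat_lit 25) (Steps.bwd (nat_lit 0) (Steps.fwd (nat_lit 2048) Steps.nil)) (nat_lit 108) (nat_lit 0),
  Rule.mk (nat_lit 5) (nat_lit 25) (Steps.bwd (nat_lit 0) (Steps.fwd (nat_lit 2560) Steps.nil)) (nat_lit 108) (nat_lit 0),
  Rule.mk (nat_lit 6) (nat_lit 25) (Steps.bwd (nat_lit 0) (Steps.bwd (nat_lit 6) Steps.nil)) (nat_lit 108) (nat_lit 0),
  Rule.mk (nat_lit 0) (nat_lit 34) (Steps.fwd (nat_lit 512) (Steps.fwd (nat_lit 0) (Steps.bwd (nat_lit 1) Steps.nil))) (nat_lit 108) (nat_lit 0),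
  Rule.mk (nat_lit 3) (nat_lit 25) (Steps.bwd (nat_lit 0) (Steps.bwd (nat_lit 2) Steps.nil)) (nat_lit 108) (nat_lit 0),
  Rule.mk (nat_lit 7) (nat_lit 34) (Steps.bwd (nat_lit 3) (Steps.bwd (nat_lit 7) (Steps.bwd (nat_lit 2) Steps.nil))) (nat_lit 28) (nat_lit 3),
  Rule.mk (nat_lit 0) (nat_lit 61) (Steps.fwd (nat_lit 512) (Steps.bwd (nat_lit 3) (Steps.fwd (nat_lit 512) (Steps.bwd (nat_lit 3) (Steps.bwd (nat_lit 1) (Steps.fwd (nat_lit 1024) Steps.nil)))))) (nat_lit 13) (nat_lit 1),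
  Rule.mk (nat_lit 6) (nat_lit 70) (Steps.bwd (nat_lit 7) (Steps.bwd (nat_lit 3) (Steps.fwd (nat_lit 2560) (Steps.fwd (nat_lit 1024) (Steps.fwd (nat_lit 3072) (Steps.bwd (nat_lit 5) (Steps.fwd (nat_lit 1024) Steps.nil))))))) (nat_lit 85) (nat_lit 4),
  Rule.mk (nat_lit 4) (nat_lit 34) (Steps.bwd (nat_lit 5) (Steps.bwd (nat_lit 4) (Steps.bwd (nat_lit 6) Steps.nil))) (nat_lit 22) (nat_lit 1),
  Rule.mk (nat_lit 8) (nat_lit 34) (Steps.bwd (nat_lit 6) (Steps.bwd (nat_lit 8) (Steps.bwd (nat_lit 6) Steps.nil))) (nat_lit 102) (nat_lit 0),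
  Rule.mk (nat_lit 5) (nat_lit 52) (Steps.bwd (nat_lit 4) (Steps.fwd (nat_lit 1024) (Steps.bwd (nat_lit 6) (Steps.bwd (nat_lit 4) (Steps.fwd (nat_lit 1024) Steps.nil))))) (nat_lit 55) (nat_lit 4),
  Rule.mk (nat_lit 5) (nat_lit 52) (Steps.fwd (nat_lit 1024) (Steps.bwd (nat_lit 4) (Steps.bwd (nat_lit 6) (Steps.fwd (nat_lit 1024) (Steps.bwd (nat_lit 4) Steps.nil))))) (nat_lit 59) (nat_lit 5),
  Rule.mk (nat_lit 2) (nat_lit 34) (Steps.bwd (nat_lit 5) (Steps.fwd (nat_lit 1024) (Steps.fwd (nat_lit 2560) Steps.nil))) (nat_lit 20) (nat_lit 1),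
  Rule.mk (nat_lit 4) (nat_lit 52) (Steps.bwd (nat_lit 6) (Steps.fwd (nat_lit 1536) (Steps.fwd (nat_lit 2048) (Steps.fwd (nat_lit 2560) (Steps.bwd (nat_lit 2) Steps.nil))))) (nat_lit 54) (nat_lit 5),
  Rule.mk (nat_lit 2) (nat_lit 124) (Steps.bwd (nat_lit 1) (Steps.bwd (nat_lit 6) (Steps.bwd (nat_lit 1) (Steps.fwd (nat_lit 3072) (Steps.bwd (nat_lit 5) (Steps.fwd (nat_lit 1536) (Steps.fwd (nat_lit 512) (Steps.fwd (nat_lit 3072) (Steps.fwd (nat_lit 512) (Steps.bwd (nat_lit 2) (Steps.bwd (nat_lit 1) (Steps.bwd (nat_lit 6) (Steps.bwd (nat_lit 1) Steps.nil))))))))))))) (nat_lit 34) (nat_lit 9),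
  Rule.mk (nat_lit 4) (nat_lit 34) (Steps.fwd (nat_lit 1536) (Steps.fwd (nat_lit 2048) (Steps.bwd (nat_lit 2) Steps.nil))) (nat_lit 14) (nat_lit 1),
  Rule.mk (nat_lit 6) (nat_lit 34) (Steps.fwd (nat_lit 1024) (Steps.bwd (nat_lit 6) (Steps.bwd (nat_lit 2) Steps.nil))) (nat_lit 40) (nat_lit 2),
  Rule.mk (nat_lit 8) (nat_lit 34) (Steps.fwd (nat_lit 1024) (Steps.fwd (nat_lit 4096) (Steps.bwd (nat_lit 2) Steps.nil))) (nat_lit 97) (nat_lit 2),
  Rule.mk (nat_lit 8) (nat_lit 124) (Steps.bwd (nat_lit 4) (Steps.bwd (nat_lit 8) (Steps.bwd (nat_lit 4) (Steps.bwd (nat_lit 8) (Steps.bwd (nat_lit 4) (Steps.bwd (nat_lit 8) (Steps.fwd (nat_lit 2048) (Steps.fwd (nat_lit 4608) (Steps.fwd (nat_lit 2048) (Steps.bwd (nat_lit 2) (Steps.bwd (nat_lit 2) (Steps.fwd (nat_lit 4608) (Steps.fwd (nat_lit 2048) Steps.nil))))))))))))) (nat_lit 106) (nat_lit 3),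
  Rule.mk (nat_lit 0) (nat_lit 133) (Steps.bwd (nat_lit 4) (Steps.bwd (nat_lit 2) (Steps.bwd (nat_lit 2) (Steps.bwd (nat_lit 8) (Steps.fwd (nat_lit 2048) (Steps.fwd (nat_lit 4608) (Steps.fwd (nat_lit 2048) (Steps.bwd (nat_lit 8) (Steps.bwd (nat_lit 4) (Steps.bwd (nat_lit 8) (Steps.bwd (nat_lit 4) (Steps.bwd (nat_lit 8) (Steps.bwd (nat_lit 4) (Steps.bwd (nat_lit 8) Steps.nil)))))))))))))) (nat_lit 106) (nat_lit 11),
  Rule.mk (nat_lit 0) (nat_lit 34) (Steps.bwd (nat_lit 2) (Steps.bwd (nat_lit 0) (Steps.fwd (nat_lit 1024) Steps.nil))) (nat_lit 108) (nat_lit 0),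
  Rule.mk (nat_lit 0) (nat_lit 34) (Steps.fwd (nat_lit 2048) (Steps.fwd (nat_lit 0) (Steps.fwd (nat_lit 2048) Steps.nil))) (nat_lit 108) (nat_lit 0),
  Rule.mk (nat_lit 0) (nat_lit 34) (Steps.bwd (nat_lit 4) (Steps.fwd (nat_lit 0) (Steps.fwd (nat_lit 2048) Steps.nil))) (nat_lit 108) (nat_lit 0),
  Rule.mk (nat_lit 0) (nat_lit 43) (Steps.bwd (nat_lit 0) (Steps.bwd (nat_lit 1) (Steps.fwd (nat_lit 0) (Steps.bwd (nat_lit 1) Steps.nil)))) (nat_lit 108) (nat_lit 0),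
  Rule.mk (nat_lit 0) (nat_lit 25) (Steps.fwd (nat_lit 0) (Steps.fwd (nat_lit 0) Steps.nil)) (nat_lit 108) (nat_lit 0),
  Rule.mk (nat_lit 0) (nat_lit 34) (Steps.fwd (nat_lit 3072) (Steps.fwd (nat_lit 0) (Steps.fwd (nat_lit 3072) Steps.nil))) (nat_lit 108) (nat_lit 0),
  Rule.mk (nat_lit 0) (nat_lit 34) (Steps.fwd (nat_lit 4608) (Steps.fwd (nat_lit 0) (Steps.fwd (nat_lit 4096) Steps.nil))) (nat_lit 108) (nat_lit 0),
  Rule.mk (nat_lit 0) (nat_lit 34) (Steps.bwd (nat_lit 9) (Steps.fwd (nat_lit 0) (Steps.bwd (nat_lit 8) Steps.nil))) (nat_lit 108) (nat_lit 0),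
  Rule.mk (nat_lit 0) (nat_lit 43) (Steps.bwd (nat_lit 0) (Steps.fwd (nat_lit 512) (Steps.bwd (nat_lit 0) (Steps.fwd (nat_lit 512) Steps.nil)))) (nat_lit 108) (nat_lit 0),
  Rule.mk (nat_lit 0) (nat_lit 34) (Steps.bwd (nat_lit 8) (Steps.fwd (nat_lit 0) (Steps.fwd (nat_lit 4096) Steps.nil))) (nat_lit 108) (nat_lit 0),
  Rule.mk (nat_lit 0) (nat_lit 43) (Steps.bwd (nat_lit 8) (Steps.bwd (nat_lit 0) (Steps.fwd (nat_lit 4096) (Steps.fwd (nat_lit 0) Steps.nil)))) (nat_lit 108) (nat_lit 0),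
  Rule.mk (nat_lit 0) (nat_lit 43) (Steps.bwd (nat_lit 0) (Steps.fwd (nat_lit 2048) (Steps.fwd (nat_lit 0) (Steps.bwd (nat_lit 4) Steps.nil)))) (nat_lit 108) (nat_lit 0),
  Rule.mk (nat_lit 0) (nat_lit 34) (Steps.fwd (nat_lit 0) (Steps.fwd (nat_lit 0) (Steps.fwd (nat_lit 0) Steps.nil))) (nat_lit 108) (nat_lit 0),
  Rule.mk (nat_lit 0) (nat_lit 43) (Steps.bwd (nat_lit 6) (Steps.bwd (nat_lit 0) (Steps.fwd (nat_lit 3072) (Steps.fwd (nat_lit 0) Steps.nil)))) (nat_lit 108) (nat_lit 0),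
  Rule.mk (nat_lit 0) (nat_lit 43) (Steps.bwd (nat_lit 0) (Steps.bwd (nat_lit 8) (Steps.bwd (nat_lit 0) (Steps.fwd (nat_lit 4096) Steps.nil)))) (nat_lit 108) (nat_lit 0),
  Rule.mk (nat_lit 9) (nat_lit 25) (Steps.bwd (nat_lit 0) (Steps.bwd (nat_lit 8) Steps.nil)) (nat_lit 108) (nat_lit 0)]
noncomputable def R : List (List (Rule)) := [R_0, R_1]
def LW : List Word := [[], [0], [2], [3], [4], [6], [8], [10], [12], [13], [0], [1], [2], [3], [4], [5], [6], [7], [8], [9], [10], [11]]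
def par : Par := ⟨9, 5, 14, 23, 511, 16383, 8388607⟩
theorem hpar : par.ok := by decide
theorem hR0_0 : lall (R) (fun l => lall l (ruleOK Ra32 LW par)) = true := by decide +kernel
theorem hR0 : lall (R) (fun l => lall l (ruleOK Ra32 LW par)) = true := hR0_0
theorem hR : RulesOK Ra32 LW par R := rulesOK_of rfl hR0
def cols : List (ℕ × ℕ) := [(512, 1), (1024, 3), (2048, 4), (2560, 5), (3072, 6), (3584, 7), (4096, 9)]
theorem hcols : lall cols (colOK Ra32 LW par) = true := by decide +kernel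
noncomputable def JS0 : List ℕ := [nat_lit 0x8225e3401070041000c404c4630d06822582b958aa5429948a264b2610885c2a102c1800160c01308180b05cae5f0797cae58b0002c132c000b048b0002c152c000b050b0002c132c00cb0480204028108958005620020283418561e010203416551c030580c68081253180103804580012001409070381a522813c9c4d2612c944912002800ca0000c0002018060602810400c08020187268049a0c060405010061806040300c2808084b08010200418000a0004482381,
  nat_lit 0x6e159b8d86b68013d0c8f66e6600080019034d66a626f3c8ad006a606e0f878d4005e000180171ac0a76150b0ea685a04349a1605c32743419d5800041a0d9a550043468520033a838088e06632a7360083e7500a6358041e6505a535000e6903873101a919b0406908680e9a081980066426400190f98800621460001811178025e426a09014b602405b0096cf804b20401164f000c60a00960e988005738040804cc06c060d3284,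
  nat_lit 0x3800690c0027da27b001ba810cda013c1e4f53c0011444e072080134001509cc3f800047f00cb33008e23246080fd28cc650081ce28b0fc932000de323801cf720dc9432990c6e0d60132c732004fa9640820dd180008009aa29ec7629169a8d26833998ca643198a2000040686013c8783a6884003b81a09dc4a67800c003f000381ef8f0351b8a0246c359a8d26833998caf4d800393c38008ec18411b0d6ecde013a8941e6d363a38814e8160c820dae4e688379b8dae0000b6e0f00005b0040a756a0036a8,
  nat_lit 0xbc000ded0000b62b002a9006b1b80423a86c0104690400017a1088341205007f00011565f1b8e54c06ce03552b088431e0cd068240a00fe7ecc0105a532800b443c8b234ac94a814e004da971a64589c0222d188d2d908829840a03100008020883b080c0004c00215a74180e1c011509608690200c0281680c3480be8300809120abc4f14806e8002e16b88603001222b0180ada2c01591e2a1d8a80289b4264a002ca1801604e05425703816b0240954e203a8050153,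
  nat_lit 0xd5007745801a600ec000a0050fd4020201f40001f63380c5302f30293c02c6e4c50083b880409b00004d8230193005c18e04236f630087dbcc4011e6e]
theorem S0_c : blocks (facts 9 5 14 23 511 16383 8388607 9 511 7 127 A R 32) 32 JS0 328 = true := by decide +kernel
theorem S0 : On (Step.{u} Ra32 LW par A) 328 488 :=
  steps_of_blocks hpar hR S0_c (by decide +kernel)
theorem D0_c : allB (defOK 9 14 23 511 8388607 323 A K) 1 2 = true := by decide +kernel
theorem D0 : On (fun r => defOK par.W par.WL par.E par.mW par.mE 323 A K r = true) 256 384 :=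
  On.of_allB D0_c
noncomputable def JW0 : List ℕ := [nat_lit 0x2550142511465214a]
theorem W0_c : blocks (rows 9 5 14 23 511 16383 8388607 10 1023 70 A 488 1 cols 18) 18 JW0 0 = true := by decide +kernel
theorem W0 : On (Row.{u} Ra32 LW par A 488 1 cols) 0 18 :=
  rows_of_blocks hpar (by decide) hcols W0_c (by decide +kernel)
theorem idx : Idx.{u} Ra32 [[0], [2], [4], [6], [8], [10], [12]] [[0], [2], [4], [6], [8], [10]] 1 :=
  idx_of_cert hpar hR (K := K) (by decide +kernel) (T := 323) (T' := 384) (by decide) D0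
    (subs := [1,2,4,5,6,7]) (by decide +kernel) (T1 := 328) (by decide) (N := 488) S0
    (by decide) (n' := 18) (by decide) W0 (by decide +kernel) (by decide +kernel)
end a32
namespace a40
noncomputable def A_0 : List (ℕ) := [nat_lit 0x20041fe3fd03f87f107e8fd40fc1f841f63ed03e87d107c8f940b91f041ee3dd03d87b107a8f540f41e841e63cd03c87910788f140f01e041de3bd00a07710768ed40ec1d841d63ad03a87510748e940e81d041ce39d03987310728e540421c811c638cc3887104708e110a21c0111e37c23786f186e8dd08dc1b821b636c23686d18460d9089a1b0107a35c23586b186a8d508d41a821a634c234869181b8d1083e1a0103e33c83386720668cd20cc198819632c83286520648c920c8190818e31c83186320628c5202f188418630d03086110608c140c0180417e2fd02f85f105e8bd40bc17841762ed01045d04108b908b817060582dc22d85b105a8b5080d16811662cc40e85904588b110b0160115e2bcc2b85704568ad106c158111c2ac22a85518548a908a8150214e29c229853182a8a508a414820ca28c22885108508a108a0140613e27c22784f084b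89d208c138113626c81944d082f099085f130112e25c42584b044a8953094128112624c4248490448891305e12040bc23c423047084588d083b118707822c202c4520448892088110810e21c82184320428852084108810620c8208412040881208010080a41fc21f83f083e87d087c0f860f61ec21e83d083c87908780f060ee1dc20283b102a87508740e840e61cc205039040c87130190e060101bc214837200406d086c0d820d61ac21a835183486908680d020ce19c219833183286508580c840c618c215c310430861203c0c020aa17c414c2f042405d085c0b840b616c201c2d042c85910540b0503415ce01c2b042a85538540a850a614c204c29202885120500a0809e13c813827202684d204c098809612c81282520248492048090803611c21182308228450844088608610c2108210820841084008060740fc808c1f081603d103707830760ed20981d04060390838070204c0dc206c1b2003035083406820660cc20c81918188310830060205e0bc20b817181002d202c05810240ac20a81510100291023050104e09c80981304028250824048204408ce0881104020211010040303e07d203c0f040e81d100f038403606d00680d100c8194018030402e05d00580b100a8154014028402604d0048091008811400e020101c03c200c07200680d200c018801602c80280520048092008010800e01c80180320028052004008800600c80040120008014000,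
  nat_lit 0x40083fe7fc87f8ff20a09fd41fc3f843f67ed07e8fd10fc9f941f83f043ee7dd07d8fb10fa9f541f43e843e67cd07c8f910f89f140613e013de7bcc7b8f704f69ed10a33d821367ac4754f5084e1e9109d3d023a479c6260f310f29e541e43c843c678d0788f110f09e141e03c043be77d0778ef10ee9dd41dc3b843b676d0500ed18ec9d909d13b023a075ca758eb08b21d511653a843a674c2738e908e79d129643a0614873c8738e7181d9cd41cc398439672d0728e510e49c941c8390438e71d0718e310e29c541c4388438670d0708e1104a9c131c038080746fc86f8df20de9bd21bc37883766ec86e8dd20dc9b921b8370836e6dc86d8db20da9b521b4368824c6ccc164d920d89b121b0360835e6bc86b8d720d69ad21ac35883566ac86a8d520d49a921a835080d069d0698d310d29a541a4348434668d0688d110d09a141a0340433e67d0678cf10ce99d419c338415466cc364cd20cc9992198330832e65c8658cb20ca9952194328832664c8648c920c89912190320808a63d0638c710c698d418c318431662d0628c510c49894188310430e61d0618c3104f9854184308430660d0608c110c0981418030042fe5fd05f8bf10be97d417c2f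842f65ed02d8bd20bc97921782f082ee5dc85d8bb20ba97521742e882e65cc85c8b920b897121702e082de5bc8264b7241f96d49322d882d65ac85a8b520b496921682d082ce59c8598b320b296521642c881a458cc264b104a496148d42c082be57c8578af20ae95d215c2b882b656c8568ad20ac95921582b082ae55c8558ab206b95541542a842a654d0548a910a895141502a0429e53d0538a710a694d414c298429652d0528a5102d14910d5290125451c2518a30898145482828831ac50c2498a12492941182b280827e4fc84f89f209e93d213c27882764ec84e89d209c9392138270826e4dc83889b049a935113426812664ccc4c899049793110b726020804bca4b897085c12d10d625831704ac40ac950816929104425060b449c611c9308139252038248424648d04889110909214120240423e47d04788f108e91d411c238423646d00fc8d108c9194118230422e45d04588b108a9154114228422644d044889108891140d4220421e43d043887108690d410c218421642d04288510849094108210420e41d0418831082905402a208420640d04088110809014100,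
  nat_lit 0x60045febfd0bf97f117eafd42fc5f845f6bed0be97d117caf942365f045eebdd0bd97b117aaf542f45e845e6bcd0bc9791178af142f05e045debbd05e9772176aed22ec5d885d6bac8ba9752174ae922e85d085ceb9c8b99732172ae522e45c883d2b8c6b8971244eae10ae05c043b2b7c8b796f04e6add22dc5b885b6b6c8b696d216cad922d85b085aeb5c8b596b216aad522d45a885a6b4c8b4969204ead122d05a0859eb3c8b39672166acd22cc5988596b2c8b29652164ac922c8590858eb1c8b1963211bac522c45888586b0c8b09612160ac122c0580857eafc8af95f21152bd22bc5788576aec8ae95d215cab922b8570856eadc8ad95b215aab522b45688566acc8ac95920672b122b0560855eabc8ab9572156aad22ac5588556aac8aa9552121aa9097a550215ea9c8a99532152aa522a45488546a8c8a89512150aa122a054082aaa7c8a794f214ea9d229c5388536a6c8a694d214ca992298530852ea5c8a594b2132a95409b5281526a4c4a49490548a9132905201518a3cc9154720f628d4a2751824c8a2cc7c5451144a894288510450ea1d0a19431142a8542845084506a0d0911411140a81428050044fe9fd09f93f113ea7d427c4f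844f69ed09e93d113ca7942784f044ee9dd08993b04ab27521ed4e884e69cc89c9392138a7122704e084de9bc89b9372136a6d226c4d884d69ac89a93520d92690a684d064ce99c2999330932a650a644c863aa98d08e53118d42610a604c044be97c24a12f112ea5d425c4b844b696d09692d112ca5942584b044ae95d09592b112aa5542544a844a694d07f52919222510a444a0123293c89392704fea4d424c498449692d0929251124a494248490448e91d0919231122a45406448840c090d0909211120a414240480447e8fd08f91f111ea3d423c47844768ed08e91d111ca39405c470414c8dc81b51b211aa35223446884668cc88c9192118a312230460845e8bc88b9172116a2d222c45880c48ac25911508322292091450244e89c828d13102fa254224448444688d0889111110a214220440443e87d08790f110ea1d421c438443686d073d0d110ca194218430442e85d08590b110aa154214428442684d08490910e8a1118a7420415e83c8839072106a0d220c418841682c88290520eaa092208410840e81c8819032102a052204408840680c8809012100a012200,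
  nat_lit 0x44606a0b0e098139c16827302b04870520a0c0a0111014024482003c904807d009412a0078251024044204a08d0084119411811082303a9044088a0880e9810821382103a504207900800e041001d381d03c403a03c40780a180380628130246024048a030091c02804381101a6022044a044088c088121812026202605040500a8c0a816181602e202e06040600c8c0c805281b0343034030e06c0d880d80c301b038501a070c0100e1c0681c101c038800800d007008100800f2810020702003cc040079c0780f200f01a301a030603005880580a100a01230120206020038803806100600a300a01060100298028033003008500800ce00c01880180e380e01c5006038c038070807002200e0021002004400400940080138010041004008a008011800802380200420040010008001c000003000000500000080000008000000800740617ee7d23c9cf205fb9d13867385332e6c2e69cd0959399139873012b0e5c4acdcb09c93950b1e7283706e4ce39dc911c1b912b9072011f6e3d0e39c711c6b8d438c7184716e2d0e29c511c4b894388710470ee1d0e19c311c2b854103708368ce0cc2f5c1247338140bd70046fedfd0df9bf11beb7d437c6f8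46f6ded0de9bd11bcb7943786f046eeddd0751bb11bab7543746e846e6dcd0dc9b911b8b7143706e046dedbd0991b721b6b6d236c6d886d6dac8da9b521b4b6923686d084bad9d0d99b311b2b6543646c846c6d8d0d89b111b0b6143606c046bed7d0a31af11aeb5d435c6b846b6d6d0d69ad11acb5943586b046aed5d0d59ab11aab5543546a846a6d4d08e1a911a8b5143506a0469ed3d0d39a711a6b4d434c6984696d2d0d29a511a4b494348690468ed1d089da311a2b4543446884686d0d0d09a111a0b414340680467ecfd0cf99f119eb3d42256784676ced0ce99d119cb394338670466ecdd0cd99b119ab3543346684666ccd0981991198b314330660465ecbd0cb9971196b2d432c6584656cad0ca9951194b294328650464ec9d030d932192b2523246488646c8c8c89912190b212320640863ec7c8c798f218eb1d22766388636c6c8c698d218cb192318630862ec5c8c598b218ab152314628849ac4d0c49891188b114310620461ec3d07ad87214ab0d230c6188616c2c8c29852184b092308610860ec1c8c19832182b05230460883a4c0d0c09811180b014300,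
  nat_lit 0x16e70562dcc0b41d105b8b44860158916615502cc599c1e8b3283e16881162d042cc1d085a06b10ad0d6415a2b4e2a04994568ae289415c71522a8e2bc581c5586738b11426160288c2c43410580b1206711661642b10154561c528ac288d158211c22c42b04a94550a720a7144514e1b0e29c53984b8a8309e156512c2ac41a03388558a5483e0588148290e2385214478a5405314a214819442944f9434868289e12c213c248e2884f10508a22097146712214cc28c4e984d861389d1387136270822c30984e09a488c0be713426500b04c942d099105f0a621321b0a24834184989230670ce512e260a1981e184c09030640c4712023d20dc1d9c4788e483a076511c235015046a41c08d103b078211a230a1940d044608b386511680c00f0a22c361036019085e0aa40c814c818802180b820081701410ca024e06405980c85628190d800fc17801c832003b06200750a840b817021700c1c06018300c00a50300dc20600b800e008381a0145034028e02c04041e06500770126014064012036803f853006f0b800ba030020804140580a00800160102060006c02000b00648080340092018c02005803883c007301400b0120e0242c004000628090a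6101202401482a002d84938080e201021cc202002800a8080036012002601801c0030003882301802a5030058c05c04000a0070070030009405c012c0a8037016008a0987098134e13427142704f304f106909e13c0210282441883284b02e7106128c2080c1c41050308310450a2200e20440940400930800a28100229013026004484b408a11470a0228a05845180b86e208a0fc40d816cc1fc2e9c3b07520530ba60ea1bce1c8389c0501428710e040e01c0a02438200a81440700b650de1b8a06037180a86e385100e80dc17d21942a183685c38640b860c4164e1802c942f85e403d0bc50aa14ce1782a102e859483c07290b20ed01682d201305a10590a820b404d21602c240901330580ae5032158815c2b180d05628480ac30ac018e1581f2429854403800c10a812cc058051424815284a092702804ce12005982405238190a4500e148c0281b102904230420826082104a11823101a047284004c608e0fc20b4141c1f838383e070507a0e500f01b041e03a282c06e70740e440e013081c837202b04c506e0d8a02c1b1803036381a06c206c01500d811a41a8354821,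
  nat_lit 0x24a12604c0e4bc5998980a3492e25c607c4bc43481e989792d292a25a42584a4e4b496049592c486625861a249ce4b09598930d8212b25441a2498e4a8949093926292908e825049d22601c98939261925072424c09c44948d88888ef291b1e06238318446c89088e11c10c723a322632064748a0c8f11e18c9194223e480432c908c8b8cc1921230324448863346708919243105248722049064689208678b641241ca52223186444890c638c81113228219232864548b0c658cc1117230219a33864648d0c67845411a20a91f03e46414729c828fa110620c71cc39ca41c7418840fb110721021f83f46424850c7f0ff110b21822004046434870c81103110f1ee621e440a3e0881872910110422081ca10904407e185f0bd28fb1f4519c3e8e2f05d9c7c8cf30f918881f2338e40c5e14818c331032085188410c2ec821c6790440bb08282083bc62ec728c778bc18f01e031cc3c442f47388788be10f21e421d03cc62fc748c798c018f41e831d43d4430475887a8c210f61ec21d83dc630c768c7b8f818ee1f021880a903e05d8c728e618bc17a21ce3a042f85f8c748ea18c018221d63b04308618c768ee18c41ae81dc38ca2bc4a1c710a928e214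221c2384a2a04b107089338e11c8712c390a2c07210498e410dc1b621c8381017870241e8e0388d1c0514a23043806d1c4c0da28b20d451bc280e3786e9c4f89e38dc1be41b82c4a36c4b9c6d89220db1b660d8370c2b46f98558df286b1be2126248437c6ca01b85e10d91b08118360e2d06c141c8d8103d06e21b00b4a3586b105c04438d61a45170348e1006a90690d5282b1aa7086108e35015146a02920d407e21a835043146904628c500d31ae41a035c40a85c886b8d140651a290be344e0e468945a02c10d11a0903a341008868080f82330d0178618e318a2ec209c628c530c5172518a0fc63142320678b940c417480662e920a45d101081010ba08e71702e4c1185c9c230b9201f054217210ca2dc221023840204308440480a041085b082304510b608a406a10440a02214138282845084516c07cc0bc08201a0252041068604a0d100bc10181482f0829052005c04120bc129c17829182f05e304608c00c014a419824303304050662d880cc1a8c1980d083302200620cc02d40680190b5302406a316a0bca0bc1714170b54029040516a2d8e0a85a9c100b6302a,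
  nat_lit 0x156036a6a066d8db8cd49b8113835423704e446e4dc88d59ac19ba376335a6b846f0de88d79b019be37e33626fc44fc30a0df91a09b3366325049d06ccb184d412d41a835021c44dc46a4d50c9c13919ab35822744ec46b4d70c9e13d19af360227c4fc46c4d90ca01b2106111a43642f02670aa94ce1a7394034e52ca69c62744790d399b292833682c8349066c8d20c819030ee32022f6640627cc898ab990391b2387322648a474bf0cc9989119432822fe6004654cb0cc0982199733023066644638c208cc99a291c33462326686614b710cd18e1184306231a6306608c08cc598a11802fe2312620c324c39464188197e2fa330e3e8c618c308be0c3298618e730c63c231cc79c6198f28c731e619c378863cbf188a113297d2f8620c5f0e448889cbd8f8317b13e32f649105ecc2989196121850c432de5e8e4dc4a10bd16e411b2dc62365b8e3b8b7148d16e18de2c232dc5b42584b6a072094116d11e62c83686590b60c4d8a4216c2c631462e1058c6d20b116230d82c4429258844bc6908b116141112c26222584a490b0886f0f839611dc82ac558c468ab088295618692ae320c3c0e55c7d8cac15828f12b0320e42065647e88ad15a110921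422b6570642c860cae901115e2bc221a57c44088708af96039192c051e0580643ca290b0153293927062a8554240caa989b8a9215529281264b4c524a4206f948212f1aa22902c90518a3185a147214628c524e51d02a0218ca394530ef28a72345146410880ca294448ab288425c4d4e510a1989a943213008622865082440a120580a91142282225650480f49298a094018610764280251036c55245109240e31c480ce359038858a4548a9482715c812e11102b853a0578af4043128905a2a900ac4aa4360b7489516e80d84cd01ac3420968ad49311c882644a9237062a06f0de40c613e718c378c3186e04630c600dd1bc81ba119227c4fa435046406a20870d433881a88d0c35124106a17290d228101a45d9c3486a00cf1f440d241441a434807c89f48cf1f291402e502808214500c320a01f02140280031049246a82b40a205a91b649522c058a0138a748430ce81ac25904d422244b932112a24a72640f884c81688990b32133266316e4cc44c492949a935112926612524a404d09a909b135184426c725c4d8649c9b0823838313626262544c482d098849392b3931,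
  nat_lit 0x500246a930ea014095269a93a8146c3502980ca0541152f92a42824ec82569d92384ff093b2751a274ea2450898a9d4d8a13526a11f13e424d677469b1360cf99f41a6d4dc23ea7d849bd380cfb9f81a714e423f27e849cd3a0cfda6322744c851382c88991321d3286622653d854cc748c994ec113326631e84d2646c9a4e90d3490ed26012694c623f8171098c49a13126241494c473e046c29892fa04f25f49294be33b4978e97d2e9d300ae1a5f4c0344a938c9852e0487241125b2a824b89704909218d2e955125d35264ba70429792f14d425e19424bc215297906d093212f252209a12024a493cc940a50527a4d19c249a23a87c08934320922241195348422a8904a6e4dc192124329ff486636e508890d1c1913a38286446e74708dcc8a42e151b9791a3546c736e8d845e8b6911b22b48df36c64568a88700a51d15229289045213aa89ce8a51410b196f2a2844e13a4188a89d1308b786212262d263bc7cca831059cf91db39662cc5436868e891128467225395544a54202b88894a9990ca1a295442084347652844a1a108a113096422415084442a10894509040a111f41420670e841058cb3968120c41a22d25a86839078cb59ec420f3f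c13a07f92284ff1cec8f10a0028463fc750c7fc5508ff1ff119c33a34008046678cf890120311a034234088146688d1890320711a434a34108246698f4a1049bf41f13e223b677047c8f98cee9de19f43ea23be78047d8fb8cf09e219f83f223c679047e8fd8cf29e619fc3fa30b87f445282c90fe92c41ed3da60be7b423b87700f71f0099032003de7c104c4f824569f010953a623e07b0c7a4f610529ec196c3d473d87aca7a4f590eb1e839eb3d463647a867345610f51e920e03d2334e6c8e7a4f410f39e819cf36453d079c25ecf394ec1e7486d3ce73ac79c47384698f393f41db29483cc7690258ed0c571da394224813b47602414ec24519d839d714a63b0444275897a4eb1d618da3ac61c075d2298eba0980ac31d73aa41b4748e754e10cea1d3316d3a690d64cd274c4a88e99d220980c253a474501004718e89ce29d039c808e4a10738e71cb21ce109839e72ca500a73c9b84e119c31c22f45384734e5b0e68c4e08e21cd38252c610107043004e01c0385a38030aa70041804720e00bb09b40d07368370a6d05808da16d39b6284536c6d823e0db20559b420ab,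
  nat_lit 0x3249738e712644ac19ce199339a7343726e6caaa99989cdb9842e06ec8730e652d99cc150031e2b991d0772e3d4ce59cb1cc18e82b96722272a6102e51ca20898e733947269244e4cc6115909c9ab43ab5724856cad50e49c918608be2b9217a1722e18cacdc31460b8638fc1f6770a308ce148121c2b8f28c971e6198e048e3dc2218f3843a5c7041708e0d032063a1c1b8240e77046226e08e439c114913811382702519ae04c321c09c810bc438137016eeddcccf1bb8d8a37813156f033886e4ede1bc94dd317137a6f63630c646df1be898d31b137e6fe3638d74edfdc015a91ea43806ec36ccb810dd9b41599a5c43686d02554aac4da5b50d562ad1b6b6d8255cabc4db5b70d5828d236e6cc761a970ad99b39d8eb6712e055046ced74ac410719aeb5e2a0f51886bcd48e83d3321a934529c42a6768ad18a891a31caa19c4346666763ca00cccd86a199b3c3a4267884007fd0cf080959432838c9190764e408cc9c661d989882b312026662cc8a4099918c3b3238cd66481f63e90cc98e952ea4d331d400363cc78c930cf0d8fb20119f3402642c886684d10d91b2411a3348264ac98669571119324c43146283386c50e6a8d59d8ab1629ac62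e635a7184c5d8c0ce39c81b1963423927284c6d8e14f931c19cb5164638c40682d359d883112a6c2d22624c4c65a9871189b0e116b136861c4882c35868d12260430d53e1498a002c09811d4fb021af85005604c0ce93531118193b31c638a52744e4e710e19c9c1382aef5f052f2aa50be1071572ae4320f41285c8b90a9a9729935ad312e55cc35a8b546b9d74096b2d712e95d435b0b646bad76096d2db12ed5dc35b8a3c8bb97108d31a602e33fe75c0b84a9a16f9970adf2a903d415beb4cc7c8f895692dd1a8f4a485bab44a825689cd89e842d133c5588b14c6756289262c541c3384858aad4c300c695598bf2ab4566717c2f4eac8c719590cd42b218275783f0aaf0c6995e2bd298e57a61f6af4e3095ea0c398642bd5549484a806aa9558d50aa212ac55a2546a906ab9578d52aa612b0562351aac44a9d3aa158aa939c255241c6840caa55424542a819d94ec75505510a81142153a9f2a4c53e83546a50a7d341d48a910a4348605249740a4d28994a090428f412651c83d0a394614f528c3a6651843ae7acca314588e609c428b5146400a286930ea21451791280,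
  nat_lit 0x1e6022e10401a420805c841009f13e01403bc055872808286802110d202082a402a87380838e601231ee61cc394044078008c8f001141de028a1a401a875008589e00df1ce01ec39c03ac7401cb8bd02b20d2017639804185e007d0f000f41d403203a406447480860e801201d003323a003d47800ab8f401141d202423a40460b681158f801ce73007369a40b80a100ff1a801f02b802f657503ac7581c990601230d2018a27c02e450806e0f801111dc02142f003385f80660bd00cb17a01823d4048075847b0eb0107176020855406707300878f0016013e01bc304a3045e80610c102b219c01f443006447a80cc918012136c03a68000aa8ff81219a9024d2ba02f83ac06108b80910a000c61ee02243b404246080658f6011f1d802102f406345e00818f3010e1d202be40006186080c70cc00cd1e8021a6dc075121019e1aa03141d402bc30c031c6100650bf010218002026e00ddcd5818a8c802ba37206f03202de083208b92149571e8624257ca48486988c11828e922e7244d1424e48b987515e0b151d472bc6e42ae87504d5a4109014b6122645024349118af199410d31c82025792610c224ae923315d3329218378840088a4ae15d018523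4521643006686f0885ab21b97736172e400063cae00b083f490a21602dc2f463a10004740e948f01e681ce3cd23988120c6917410773012403286421cb81cd0de00ff22202b6428046c638c84913491f308123eae9030c5fa05e8e800f117e91783c005fc7380790e6019424451e6404c3346094c72ba48c231a070a3e9232c5e9465907011624002b0420045480955d0cc30c022832263d0a450640c8a199039d18c01fc448056884808e0c848ca23e07283280e0c61815c8c83aba20465742f402f85e00c48c830bf1e607043340ad0c701c30c202bc19601f63e90330669c660cc033219401f8ae80ca06001c78c820c8226023c4500474be247511328ea32291e83d40e708e947a0c700fd1f80706ae80c9c5f81c08c028c819007403300ad480995a18648c0182057aad40cc864006497f40e922861d23a805f4ca20798f40192312817e3240e815a01988c001871d202fc3cc064c5f80c4194039f312073c628eadd5c14c598c32b95728578af10ae9d01d5d2ba02bb7404740e80a301d01d5dba040fd1f88740e7d03cdcf09cfb9e3ab617c873ce74a3d5ce99cb9083b9d,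
  nat_lit 0x4000000000400000a8000082800000100203b2004084400800180300a8006042200c00100200728040110008000a0140464028088005002600a008001401ac02800c005011a00a000c0180570028085806002604c029006001ac02806f805000801001d4020009c1380ae80600eb00c00a815003ac130072840006804e013c09c045c130015027010604e005009803d014008d026011905002160a003dc13007805400f60a801ce16803d414008302800e605001de398044c14007982800ea13c01520a805205b00e705a00e80b2073616408001c817003902690d003b21a007f83400950d101ff152026452007409500ff068013116c01f00a804141400c802a017b1ee02ba0a8039414001f82a00d4082018a0a0035c15002112a01420d0036835003941500ae03f00ef1ae01d410402ec2080352000398]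
noncomputable def A : List (List (ℕ)) := [A_0]
noncomputable def K_0 : List (ℕ) := [nat_lit 0x3fc7f4fe1fb3f47e4fc1f73ec7d4fa1f33e47c4f81ef3dc7b4f61eb3d47a4f41e73cc794f21e33c4784f01df3bc774ee1db3b4764ec1d73ac754ea1d33a4744e81cf39c734e61cb394724e41c738c714e21c3384704e01bf37c6f4de1bb3746e4dc1b736c6d4da1b33646c4d81af35c6b4d61ab3546a4d41a734c694d21a3344684d019f33c674ce19b334664cc19732c654ca193324644c818f31c634c618b314624c418730c614c2183304604c017f2fc5f4be17b2f45e4bc1772ec5d4ba1732e45c4b816f2dc5b4b616b2d45a4b41672cc594b21632c4584b015f2bc574ae15b2b4564ac1572ac554aa1532a4544a814f29c534a614b294524a414728c514a2143284504a013f27c4f49e13b2744e49c13726c4d49a1332644c49812f25c4b49612b2544a49412724c494921232444849011f23c4748e11b2344648c11722c4548a1132244448810f21c4348610b2144248410720c4148210320440480000,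
  nat_lit 0x5fcbf57e2fb5f4be57c2f75ecbd57a2f35e4bc5782ef5dcbb5762eb5d4ba5742e75ccb95722e35c4b85702df5bcb756e2db5b4b656c2d75acb556a2d35a4b45682cf59cb35662cb594b25642c758cb15622c3584b05602bf57caf55e2bb574ae55c2b756cad55a2b3564ac5582af55cab5562ab554aa5542a754ca95522a3544a855029f53ca754e29b534a654c29752ca554a293524a454828f51ca354628b514a254428750ca1542283504a054027f4fc9f53e27b4f49e53c2774ec9d53a2734e49c53826f4dc9b53626b4d49a5342674cc995322634c49853025f4bc9752e25b4b49652c2574ac9552a2534a49452824f49c9352624b4949252424748c915222434849052023f47c8f51e23b4748e51c23746c8d51a2334648c51822f45c8b51622b4548a51422744c895122234448851021f43c8750e21b4348650c21742c8550a2134248450820f41c8350620b4148250420740c81502203404805001ff,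
  nat_lit 0x7fcff5fe3fb7f4fe5fc3f77ecfd5fa3f37e4fc5f83ef7dcfb5f63eb7d4fa5f43e77ccf95f23e37c4f85f03df7bcf75ee3db7b4f65ec3d77acf55ea3d37a4f45e83cf79cf35e63cb794f25e43c778cf15e23c3784f05e03bf77cef5de3bb774ee5dc3b776ced5da3b3764ec5d83af75ceb5d63ab754ea5d43a774ce95d23a3744e85d039f73ce75ce39b734e65cc39772ce55ca393724e45c838f71ce35c638b714e25c438770ce15c2383704e05c037f6fcdf5be37b6f4de5bc3776ecdd5ba3736e4dc5b836f6dcdb5b636b6d4da5b43676ccd95b23636c4d85b035f6bcd75ae35b6b4d65ac3576acd55aa3536a4d45a834f69cd35a634b694d25a434768cd15a2343684d05a033f67ccf59e33b674ce59c33766ccd59a333664cc59832f65ccb59632b654ca59432764cc9592323644c859031f63cc758e31b634c658c31762cc558a313624c458830f61cc358630b614c258430760cc1582303604c05802ff,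
  nat_lit 0x49f93d2764e49b9352664c49792d2564a4939252464848f91d2364648b9152264448790d216424839052064047f8fd1f63e47b8f51e63c4778ed1d63a4738e51c63846f8dd1b63646b8d51a6344678cd196324638c51863045f8bd1762e45b8b51662c4578ad1562a4538a51462844f89d1362644b8951262444788d116224438851062043f87d0f61e43b8750e61c43786d0d61a4338650c61842f85d0b61642b8550a61442784d096124238450861041f83d0760e41b8350660c41782d0560a4138250460840f81d0360640b8150260440780d01602403805006003ff]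
noncomputable def K : List (List (ℕ)) := [K_0]
noncomputable def R_0 : List (Rule) := [Rule.mk (nat_lit 8) (nat_lit 34) (Steps.bwd (nat_lit 8) (Steps.bwd (nat_lit 8) Steps.nil)) (nat_lit 94) (nat_lit 0),
  Rule.mk (nat_lit 2) (nat_lit 46) (Steps.fwd (nat_lit 16384) (Steps.fwd (nat_lit 4096) (Steps.bwd (nat_lit 8) Steps.nil))) (nat_lit 96) (nat_lit 2),
  Rule.mk (nat_lit 7) (nat_lit 46) (Steps.fwd (nat_lit 16384) (Steps.fwd (nat_lit 10240) (Steps.bwd (nat_lit 8) Steps.nil))) (nat_lit 98) (nat_lit 2),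
  Rule.mk (nat_lit 6) (nat_lit 46) (Steps.bwd (nat_lit 8) (Steps.fwd (nat_lit 12288) (Steps.bwd (nat_lit 8) Steps.nil))) (nat_lit 102) (nat_lit 1),
  Rule.mk (nat_lit 5) (nat_lit 58) (Steps.fwd (nat_lit 16384) (Steps.fwd (nat_lit 10240) (Steps.fwd (nat_lit 14336) (Steps.bwd (nat_lit 8) Steps.nil)))) (nat_lit 100) (nat_lit 2),
  Rule.mk (nat_lit 1) (nat_lit 70) (Steps.fwd (nat_lit 4096) (Steps.fwd (nat_lit 16384) (Steps.fwd (nat_lit 2048) (Steps.bwd (nat_lit 8) (Steps.bwd (nat_lit 2) Steps.nil))))) (nat_lit 104) (nat_lit 3),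
  Rule.mk (nat_lit 5) (nat_lit 58) (Steps.fwd (nat_lit 12288) (Steps.fwd (nat_lit 10240) (Steps.fwd (nat_lit 14336) (Steps.bwd (nat_lit 6) Steps.nil)))) (nat_lit 24) (nat_lit 2),
  Rule.mk (nat_lit 2) (nat_lit 94) (Steps.fwd (nat_lit 12288) (Steps.fwd (nat_lit 14336) (Steps.bwd (nat_lit 2) (Steps.fwd (nat_lit 10240) (Steps.bwd (nat_lit 2) (Steps.bwd (nat_lit 6) (Steps.fwd (nat_lit 10240) Steps.nil))))))) (nat_lit 82) (nat_lit 6),
  Rule.mk (nat_lit 4) (nat_lit 190) (Steps.bwd (nat_lit 8) (Steps.bwd (nat_lit 4) (Steps.bwd (nat_lit 8) (Steps.bwd (nat_lit 4) (Steps.bwd (nat_lit 8) (Steps.bwd (nat_lit 4) (Steps.bwd (nat_lit 8) (Steps.bwd (nat_lit 4) (Steps.bwd (nat_lit 8) (Steps.bwd (nat_lit 4) (Steps.bwd (nat_lit 8) (Steps.bwd (nat_lit 4) (Steps.bwd (nat_lit 8) (Steps.fwd (nat_lit 8192) (Steps.bwd (nat_lit 8) Steps.nil))))))))))))))) (nat_lit 106) (nat_lit 0),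
  Rule.mk (nat_lit 2) (nat_lit 46) (Steps.fwd (nat_lit 8192) (Steps.bwd (nat_lit 2) (Steps.bwd (nat_lit 4) Steps.nil))) (nat_lit 14) (nat_lit 0),
  Rule.mk (nat_lit 6) (nat_lit 46) (Steps.fwd (nat_lit 8192) (Steps.fwd (nat_lit 10240) (Steps.bwd (nat_lit 4) Steps.nil))) (nat_lit 22) (nat_lit 0),
  Rule.mk (nat_lit 5) (nat_lit 46) (Steps.bwd (nat_lit 4) (Steps.fwd (nat_lit 12288) (Steps.bwd (nat_lit 4) Steps.nil))) (nat_lit 22) (nat_lit 2),
  Rule.mk (nat_lit 7) (nat_lit 46) (Steps.fwd (nat_lit 8192) (Steps.fwd (nat_lit 14336) (Steps.bwd (nat_lit 4) Steps.nil))) (nat_lit 30) (nat_lit 1),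
  Rule.mk (nat_lit 2) (nat_lit 70) (Steps.bwd (nat_lit 4) (Steps.fwd (nat_lit 12288) (Steps.bwd (nat_lit 2) (Steps.bwd (nat_lit 4) (Steps.bwd (nat_lit 5) Steps.nil))))) (nat_lit 54) (nat_lit 4),
  Rule.mk (nat_lit 7) (nat_lit 70) (Steps.bwd (nat_lit 4) (Steps.fwd (nat_lit 12288) (Steps.fwd (nat_lit 14336) (Steps.bwd (nat_lit 4) (Steps.bwd (nat_lit 5) Steps.nil))))) (nat_lit 66) (nat_lit 3),
  Rule.mk (nat_lit 5) (nat_lit 46) (Steps.bwd (nat_lit 8) (Steps.fwd (nat_lit 14336) (Steps.fwd (nat_lit 16384) Steps.nil))) (nat_lit 98) (nat_lit 0),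
  Rule.mk (nat_lit 6) (nat_lit 58) (Steps.fwd (nat_lit 10240) (Steps.fwd (nat_lit 12288) (Steps.bwd (nat_lit 5) (Steps.fwd (nat_lit 14336) Steps.nil)))) (nat_lit 24) (nat_lit 1),
  Rule.mk (nat_lit 6) (nat_lit 46) (Steps.bwd (nat_lit 4) (Steps.fwd (nat_lit 10240) (Steps.fwd (nat_lit 8192) Steps.nil))) (nat_lit 22) (nat_lit 0),
  Rule.mk (nat_lit 3) (nat_lit 46) (Steps.bwd (nat_lit 8) (Steps.bwd (nat_lit 2) (Steps.fwd (nat_lit 16384) Steps.nil))) (nat_lit 96) (nat_lit 0),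
  Rule.mk (nat_lit 3) (nat_lit 46) (Steps.bwd (nat_lit 4) (Steps.bwd (nat_lit 3) (Steps.fwd (nat_lit 8192) Steps.nil))) (nat_lit 15) (nat_lit 1),
  Rule.mk (nat_lit 2) (nat_lit 46) (Steps.bwd (nat_lit 8) (Steps.bwd (nat_lit 3) (Steps.fwd (nat_lit 16384) Steps.nil))) (nat_lit 97) (nat_lit 1),
  Rule.mk (nat_lit 2) (nat_lit 46) (Steps.bwd (nat_lit 4) (Steps.bwd (nat_lit 2) (Steps.fwd (nat_lit 8192) Steps.nil))) (nat_lit 14) (nat_lit 0),
  Rule.mk (nat_lit 4) (nat_lit 70) (Steps.bwd (nat_lit 1) (Steps.bwd (nat_lit 4) (Steps.fwd (nat_lit 2048) (Steps.fwd (nat_lit 8192) (Steps.fwd (nat_lit 2048) Steps.nil))))) (nat_lit 16) (nat_lit 0),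
  Rule.mk (nat_lit 7) (nat_lit 94) (Steps.bwd (nat_lit 1) (Steps.bwd (nat_lit 4) (Steps.fwd (nat_lit 2048) (Steps.fwd (nat_lit 14336) (Steps.fwd (nat_lit 8192) (Steps.fwd (nat_lit 2048) (Steps.fwd (nat_lit 8192) Steps.nil))))))) (nat_lit 76) (nat_lit 0),
  Rule.mk (nat_lit 6) (nat_lit 94) (Steps.bwd (nat_lit 1) (Steps.fwd (nat_lit 8192) (Steps.fwd (nat_lit 2048) (Steps.bwd (nat_lit 6) (Steps.fwd (nat_lit 2048) (Steps.fwd (nat_lit 8192) (Steps.fwd (nat_lit 2048) Steps.nil))))))) (nat_lit 74) (nat_lit 0),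
  Rule.mk (nat_lit 7) (nat_lit 46) (Steps.fwd (nat_lit 12288) (Steps.fwd (nat_lit 14336) (Steps.bwd (nat_lit 6) Steps.nil))) (nat_lit 48) (nat_lit 0),
  Rule.mk (nat_lit 5) (nat_lit 70) (Steps.fwd (nat_lit 14336) (Steps.bwd (nat_lit 1) (Steps.bwd (nat_lit 5) (Steps.fwd (nat_lit 14336) (Steps.fwd (nat_lit 2048) Steps.nil))))) (nat_lit 52) (nat_lit 2),
  Rule.mk (nat_lit 4) (nat_lit 70) (Steps.fwd (nat_lit 10240) (Steps.fwd (nat_lit 14336) (Steps.fwd (nat_lit 8192) (Steps.bwd (nat_lit 6) (Steps.fwd (nat_lit 14336) Steps.nil))))) (nat_lit 66) (nat_lit 1),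
  Rule.mk (nat_lit 8) (nat_lit 190) (Steps.bwd (nat_lit 4) (Steps.bwd (nat_lit 8) (Steps.bwd (nat_lit 4) (Steps.bwd (nat_lit 8) (Steps.bwd (nat_lit 4) (Steps.bwd (nat_lit 8) (Steps.bwd (nat_lit 4) (Steps.bwd (nat_lit 8) (Steps.bwd (nat_lit 4) (Steps.bwd (nat_lit 8) (Steps.bwd (nat_lit 4) (Steps.bwd (nat_lit 8) (Steps.fwd (nat_lit 8192) (Steps.bwd (nat_lit 8) (Steps.fwd (nat_lit 8192) Steps.nil))))))))))))))) (nat_lit 106) (nat_lit 1),
  Rule.mk (nat_lit 7) (nat_lit 46) (Steps.fwd (nat_lit 16384) (Steps.bwd (nat_lit 5) (Steps.bwd (nat_lit 8) Steps.nil))) (nat_lit 98) (nat_lit 2),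
  Rule.mk (nat_lit 5) (nat_lit 58) (Steps.fwd (nat_lit 16384) (Steps.bwd (nat_lit 5) (Steps.fwd (nat_lit 14336) (Steps.bwd (nat_lit 8) Steps.nil)))) (nat_lit 100) (nat_lit 2),
  Rule.mk (nat_lit 6) (nat_lit 46) (Steps.fwd (nat_lit 8192) (Steps.bwd (nat_lit 5) (Steps.bwd (nat_lit 4) Steps.nil))) (nat_lit 22) (nat_lit 0),
  Rule.mk (nat_lit 2) (nat_lit 70) (Steps.fwd (nat_lit 8192) (Steps.bwd (nat_lit 5) (Steps.fwd (nat_lit 6144) (Steps.bwd (nat_lit 4) (Steps.bwd (nat_lit 6) Steps.nil))))) (nat_lit 54) (nat_lit 1),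
  Rule.mk (nat_lit 7) (nat_lit 70) (Steps.fwd (nat_lit 8192) (Steps.bwd (nat_lit 5) (Steps.fwd (nat_lit 14336) (Steps.bwd (nat_lit 4) (Steps.fwd (nat_lit 12288) Steps.nil))))) (nat_lit 66) (nat_lit 0),
  Rule.mk (nat_lit 3) (nat_lit 46) (Steps.fwd (nat_lit 16384) (Steps.bwd (nat_lit 2) (Steps.bwd (nat_lit 8) Steps.nil))) (nat_lit 97) (nat_lit 3),
  Rule.mk (nat_lit 5) (nat_lit 70) (Steps.bwd (nat_lit 2) (Steps.fwd (nat_lit 8192) (Steps.bwd (nat_lit 6) (Steps.fwd (nat_lit 6144) (Steps.fwd (nat_lit 8192) Steps.nil))))) (nat_lit 54) (nat_lit 3),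
  Rule.mk (nat_lit 3) (nat_lit 46) (Steps.fwd (nat_lit 8192) (Steps.bwd (nat_lit 3) (Steps.bwd (nat_lit 4) Steps.nil))) (nat_lit 15) (nat_lit 1),
  Rule.mk (nat_lit 2) (nat_lit 46) (Steps.fwd (nat_lit 16384) (Steps.bwd (nat_lit 3) (Steps.bwd (nat_lit 8) Steps.nil))) (nat_lit 96) (nat_lit 2),
  Rule.mk (nat_lit 7) (nat_lit 58) (Steps.bwd (nat_lit 8) (Steps.bwd (nat_lit 5) (Steps.fwd (nat_lit 16384) (Steps.fwd (nat_lit 10240) Steps.nil)))) (nat_lit 100) (nat_lit 0),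
  Rule.mk (nat_lit 7) (nat_lit 46) (Steps.bwd (nat_lit 4) (Steps.bwd (nat_lit 7) (Steps.fwd (nat_lit 8192) Steps.nil))) (nat_lit 30) (nat_lit 1),
  Rule.mk (nat_lit 5) (nat_lit 70) (Steps.bwd (nat_lit 7) (Steps.fwd (nat_lit 8192) (Steps.bwd (nat_lit 6) (Steps.bwd (nat_lit 7) (Steps.fwd (nat_lit 8192) Steps.nil))))) (nat_lit 66) (nat_lit 2),
  Rule.mk (nat_lit 6) (nat_lit 70) (Steps.bwd (nat_lit 7) (Steps.bwd (nat_lit 4) (Steps.fwd (nat_lit 10240) (Steps.bwd (nat_lit 7) (Steps.fwd (nat_lit 8192) Steps.nil))))) (nat_lit 66) (nat_lit 5),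
  Rule.mk (nat_lit 5) (nat_lit 46) (Steps.bwd (nat_lit 8) (Steps.bwd (nat_lit 7) (Steps.fwd (nat_lit 16384) Steps.nil))) (nat_lit 98) (nat_lit 0),
  Rule.mk (nat_lit 6) (nat_lit 46) (Steps.bwd (nat_lit 4) (Steps.bwd (nat_lit 5) (Steps.fwd (nat_lit 8192) Steps.nil))) (nat_lit 22) (nat_lit 0),
  Rule.mk (nat_lit 2) (nat_lit 70) (Steps.bwd (nat_lit 1) (Steps.bwd (nat_lit 2) (Steps.bwd (nat_lit 1) (Steps.bwd (nat_lit 2) (Steps.fwd (nat_lit 2048) Steps.nil))))) (nat_lit 12) (nat_lit 0),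
  Rule.mk (nat_lit 4) (nat_lit 46) (Steps.bwd (nat_lit 2) (Steps.fwd (nat_lit 8192) (Steps.bwd (nat_lit 2) Steps.nil))) (nat_lit 14) (nat_lit 1),
  Rule.mk (nat_lit 7) (nat_lit 70) (Steps.bwd (nat_lit 2) (Steps.fwd (nat_lit 8192) (Steps.fwd (nat_lit 14336) (Steps.bwd (nat_lit 2) (Steps.bwd (nat_lit 4) Steps.nil))))) (nat_lit 56) (nat_lit 0),
  Rule.mk (nat_lit 1) (nat_lit 70) (Steps.bwd (nat_lit 3) (Steps.bwd (nat_lit 9) (Steps.bwd (nat_lit 1) (Steps.bwd (nat_lit 8) (Steps.bwd (nat_lit 2) Steps.nil))))) (nat_lit 104) (nat_lit 3),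
  Rule.mk (nat_lit 8) (nat_lit 46) (Steps.bwd (nat_lit 3) (Steps.bwd (nat_lit 9) (Steps.bwd (nat_lit 2) Steps.nil))) (nat_lit 97) (nat_lit 2),
  Rule.mk (nat_lit 5) (nat_lit 94) (Steps.bwd (nat_lit 2) (Steps.bwd (nat_lit 1) (Steps.bwd (nat_lit 2) (Steps.bwd (nat_lit 5) (Steps.fwd (nat_lit 2048) (Steps.bwd (nat_lit 2) (Steps.bwd (nat_lit 1) Steps.nil))))))) (nat_lit 70) (nat_lit 4),
  Rule.mk (nat_lit 7) (nat_lit 46) (Steps.fwd (nat_lit 10240) (Steps.fwd (nat_lit 14336) (Steps.bwd (nat_lit 5) Steps.nil))) (nat_lit 32) (nat_lit 1),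
  Rule.mk (nat_lit 6) (nat_lit 70) (Steps.fwd (nat_lit 14336) (Steps.bwd (nat_lit 2) (Steps.fwd (nat_lit 12288) (Steps.fwd (nat_lit 14336) (Steps.fwd (nat_lit 4096) Steps.nil))))) (nat_lit 62) (nat_lit 5),
  Rule.mk (nat_lit 5) (nat_lit 46) (Steps.bwd (nat_lit 1) (Steps.fwd (nat_lit 10240) (Steps.fwd (nat_lit 2048) Steps.nil))) (nat_lit 18) (nat_lit 0),
  Rule.mk (nat_lit 9) (nat_lit 70) (Steps.bwd (nat_lit 1) (Steps.bwd (nat_lit 8) (Steps.bwd (nat_lit 2) (Steps.fwd (nat_lit 2048) (Steps.fwd (nat_lit 4096) Steps.nil))))) (nat_lit 104) (nat_lit 5),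
  Rule.mk (nat_lit 1) (nat_lit 46) (Steps.bwd (nat_lit 7) (Steps.bwd (nat_lit 1) (Steps.bwd (nat_lit 7) Steps.nil))) (nat_lit 26) (nat_lit 0),
  Rule.mk (nat_lit 5) (nat_lit 46) (Steps.fwd (nat_lit 2048) (Steps.fwd (nat_lit 10240) (Steps.bwd (nat_lit 1) Steps.nil))) (nat_lit 18) (nat_lit 0),
  Rule.mk (nat_lit 8) (nat_lit 70) (Steps.bwd (nat_lit 2) (Steps.bwd (nat_lit 1) (Steps.fwd (nat_lit 4096) (Steps.fwd (nat_lit 16384) (Steps.bwd (nat_lit 1) Steps.nil))))) (nat_lit 104) (nat_lit 1),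
  Rule.mk (nat_lit 2) (nat_lit 70) (Steps.bwd (nat_lit 1) (Steps.bwd (nat_lit 2) (Steps.bwd (nat_lit 1) (Steps.fwd (nat_lit 6144) (Steps.fwd (nat_lit 2048) Steps.nil))))) (nat_lit 12) (nat_lit 0),
  Rule.mk (nat_lit 2) (nat_lit 34) (Steps.bwd (nat_lit 2) (Steps.bwd (nat_lit 2) Steps.nil)) (nat_lit 2) (nat_lit 0),
  Rule.mk (nat_lit 8) (nat_lit 46) (Steps.fwd (nat_lit 4096) (Steps.bwd (nat_lit 9) (Steps.bwd (nat_lit 2) Steps.nil))) (nat_lit 97) (nat_lit 2),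
  Rule.mk (nat_lit 8) (nat_lit 34) (Steps.bwd (nat_lit 8) (Steps.fwd (nat_lit 18432) Steps.nil)) (nat_lit 94) (nat_lit 0),
  Rule.mk (nat_lit 9) (nat_lit 46) (Steps.fwd (nat_lit 4096) (Steps.bwd (nat_lit 8) (Steps.bwd (nat_lit 2) Steps.nil))) (nat_lit 96) (nat_lit 3),
  Rule.mk (nat_lit 9) (nat_lit 34) (Steps.fwd (nat_lit 16384) (Steps.bwd (nat_lit 9) Steps.nil)) (nat_lit 95) (nat_lit 0),
  Rule.mk (nat_lit 4) (nat_lit 70) (Steps.bwd (nat_lit 1) (Steps.bwd (nat_lit 4) (Steps.bwd (nat_lit 1) (Steps.bwd (nat_lit 4) (Steps.fwd (nat_lit 2048) Steps.nil))))) (nat_lit 16) (nat_lit 0)]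
noncomputable def R_1 : List (Rule) := [Rule.mk (nat_lit 7) (nat_lit 94) (Steps.bwd (nat_lit 2) (Steps.fwd (nat_lit 2048) (Steps.fwd (nat_lit 6144) (Steps.fwd (nat_lit 14336) (Steps.fwd (nat_lit 2048) (Steps.bwd (nat_lit 2) (Steps.bwd (nat_lit 1) Steps.nil))))))) (nat_lit 72) (nat_lit 4),
  Rule.mk (nat_lit 6) (nat_lit 94) (Steps.bwd (nat_lit 1) (Steps.bwd (nat_lit 4) (Steps.fwd (nat_lit 2048) (Steps.bwd (nat_lit 6) (Steps.fwd (nat_lit 2048) (Steps.bwd (nat_lit 4) (Steps.bwd (nat_lit 1) Steps.nil))))))) (nat_lit 74) (nat_lit 0),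
  Rule.mk (nat_lit 7) (nat_lit 94) (Steps.bwd (nat_lit 4) (Steps.bwd (nat_lit 1) (Steps.bwd (nat_lit 4) (Steps.fwd (nat_lit 14336) (Steps.fwd (nat_lit 2048) (Steps.bwd (nat_lit 4) (Steps.bwd (nat_lit 1) Steps.nil))))))) (nat_lit 76) (nat_lit 4),
  Rule.mk (nat_lit 7) (nat_lit 46) (Steps.fwd (nat_lit 8192) (Steps.bwd (nat_lit 7) (Steps.bwd (nat_lit 4) Steps.nil))) (nat_lit 30) (nat_lit 1),
  Rule.mk (nat_lit 6) (nat_lit 166) (Steps.bwd (nat_lit 1) (Steps.bwd (nat_lit 2) (Steps.bwd (nat_lit 1) (Steps.bwd (nat_lit 6) (Steps.bwd (nat_lit 1) (Steps.bwd (nat_lit 2) (Steps.bwd (nat_lit 1) (Steps.bwd (nat_lit 6) (Steps.fwd (nat_lit 2048) (Steps.bwd (nat_lit 6) (Steps.fwd (nat_lit 10240) (Steps.fwd (nat_lit 6144) (Steps.fwd (nat_lit 2048) Steps.nil))))))))))))) (nat_lit 34) (nat_lit 3),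
  Rule.mk (nat_lit 9) (nat_lit 46) (Steps.fwd (nat_lit 12288) (Steps.bwd (nat_lit 9) (Steps.bwd (nat_lit 6) Steps.nil))) (nat_lit 103) (nat_lit 1),
  Rule.mk (nat_lit 9) (nat_lit 34) (Steps.bwd (nat_lit 9) (Steps.fwd (nat_lit 16384) Steps.nil)) (nat_lit 95) (nat_lit 0),
  Rule.mk (nat_lit 5) (nat_lit 58) (Steps.fwd (nat_lit 16384) (Steps.fwd (nat_lit 10240) (Steps.bwd (nat_lit 7) (Steps.bwd (nat_lit 8) Steps.nil)))) (nat_lit 100) (nat_lit 2),
  Rule.mk (nat_lit 4) (nat_lit 46) (Steps.fwd (nat_lit 12288) (Steps.bwd (nat_lit 4) (Steps.bwd (nat_lit 5) Steps.nil))) (nat_lit 22) (nat_lit 3),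
  Rule.mk (nat_lit 7) (nat_lit 70) (Steps.bwd (nat_lit 1) (Steps.fwd (nat_lit 10240) (Steps.bwd (nat_lit 7) (Steps.fwd (nat_lit 2048) (Steps.bwd (nat_lit 5) Steps.nil))))) (nat_lit 52) (nat_lit 0),
  Rule.mk (nat_lit 5) (nat_lit 46) (Steps.bwd (nat_lit 7) (Steps.bwd (nat_lit 5) (Steps.bwd (nat_lit 7) Steps.nil))) (nat_lit 32) (nat_lit 0),
  Rule.mk (nat_lit 5) (nat_lit 94) (Steps.bwd (nat_lit 2) (Steps.bwd (nat_lit 1) (Steps.bwd (nat_lit 2) (Steps.fwd (nat_lit 10240) (Steps.fwd (nat_lit 2048) (Steps.bwd (nat_lit 2) (Steps.bwd (nat_lit 1) Steps.nil))))))) (nat_lit 70) (nat_lit 4),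
  Rule.mk (nat_lit 7) (nat_lit 94) (Steps.bwd (nat_lit 2) (Steps.bwd (nat_lit 1) (Steps.fwd (nat_lit 6144) (Steps.bwd (nat_lit 7) (Steps.fwd (nat_lit 2048) (Steps.bwd (nat_lit 2) (Steps.bwd (nat_lit 1) Steps.nil))))))) (nat_lit 72) (nat_lit 4),
  Rule.mk (nat_lit 7) (nat_lit 94) (Steps.bwd (nat_lit 4) (Steps.fwd (nat_lit 2048) (Steps.fwd (nat_lit 8192) (Steps.bwd (nat_lit 7) (Steps.fwd (nat_lit 2048) (Steps.fwd (nat_lit 8192) (Steps.fwd (nat_lit 2048) Steps.nil))))))) (nat_lit 76) (nat_lit 4),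
  Rule.mk (nat_lit 1) (nat_lit 46) (Steps.fwd (nat_lit 14336) (Steps.fwd (nat_lit 2048) (Steps.bwd (nat_lit 7) Steps.nil))) (nat_lit 26) (nat_lit 0),
  Rule.mk (nat_lit 6) (nat_lit 166) (Steps.bwd (nat_lit 1) (Steps.bwd (nat_lit 2) (Steps.bwd (nat_lit 1) (Steps.bwd (nat_lit 6) (Steps.bwd (nat_lit 1) (Steps.bwd (nat_lit 2) (Steps.bwd (nat_lit 1) (Steps.bwd (nat_lit 6) (Steps.bwd (nat_lit 1) (Steps.bwd (nat_lit 6) (Steps.fwd (nat_lit 10240) (Steps.fwd (nat_lit 6144) (Steps.fwd (nat_lit 2048) Steps.nil))))))))))))) (nat_lit 34) (nat_lit 3),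
  Rule.mk (nat_lit 5) (nat_lit 58) (Steps.bwd (nat_lit 6) (Steps.bwd (nat_lit 5) (Steps.bwd (nat_lit 7) (Steps.bwd (nat_lit 6) Steps.nil)))) (nat_lit 24) (nat_lit 2),
  Rule.mk (nat_lit 4) (nat_lit 94) (Steps.fwd (nat_lit 2048) (Steps.fwd (nat_lit 12288) (Steps.bwd (nat_lit 1) (Steps.fwd (nat_lit 8192) (Steps.fwd (nat_lit 2048) (Steps.bwd (nat_lit 6) (Steps.bwd (nat_lit 1) Steps.nil))))))) (nat_lit 74) (nat_lit 2),
  Rule.mk (nat_lit 5) (nat_lit 46) (Steps.fwd (nat_lit 2048) (Steps.bwd (nat_lit 5) (Steps.fwd (nat_lit 2048) Steps.nil))) (nat_lit 18) (nat_lit 0),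
  Rule.mk (nat_lit 6) (nat_lit 166) (Steps.bwd (nat_lit 5) (Steps.bwd (nat_lit 2) (Steps.bwd (nat_lit 1) (Steps.bwd (nat_lit 6) (Steps.bwd (nat_lit 1) (Steps.bwd (nat_lit 2) (Steps.bwd (nat_lit 1) (Steps.bwd (nat_lit 6) (Steps.bwd (nat_lit 1) (Steps.fwd (nat_lit 6144) (Steps.fwd (nat_lit 2048) (Steps.fwd (nat_lit 12288) (Steps.fwd (nat_lit 2048) Steps.nil))))))))))))) (nat_lit 34) (nat_lit 13),
  Rule.mk (nat_lit 6) (nat_lit 46) (Steps.bwd (nat_lit 2) (Steps.fwd (nat_lit 12288) (Steps.fwd (nat_lit 4096) Steps.nil))) (nat_lit 40) (nat_lit 0),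
  Rule.mk (nat_lit 4) (nat_lit 190) (Steps.bwd (nat_lit 8) (Steps.bwd (nat_lit 4) (Steps.bwd (nat_lit 8) (Steps.bwd (nat_lit 4) (Steps.bwd (nat_lit 8) (Steps.bwd (nat_lit 4) (Steps.bwd (nat_lit 8) (Steps.bwd (nat_lit 4) (Steps.bwd (nat_lit 8) (Steps.bwd (nat_lit 4) (Steps.bwd (nat_lit 8) (Steps.fwd (nat_lit 8192) (Steps.bwd (nat_lit 8) (Steps.fwd (nat_lit 8192) (Steps.bwd (nat_lit 8) Steps.nil))))))))))))))) (nat_lit 106) (nat_lit 0),
  Rule.mk (nat_lit 7) (nat_lit 58) (Steps.bwd (nat_lit 8) (Steps.fwd (nat_lit 10240) (Steps.fwd (nat_lit 16384) (Steps.bwd (nat_lit 5) Steps.nil)))) (nat_lit 100) (nat_lit 0),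
  Rule.mk (nat_lit 5) (nat_lit 58) (Steps.bwd (nat_lit 7) (Steps.bwd (nat_lit 6) (Steps.fwd (nat_lit 10240) (Steps.bwd (nat_lit 6) Steps.nil)))) (nat_lit 24) (nat_lit 4),
  Rule.mk (nat_lit 1) (nat_lit 46) (Steps.bwd (nat_lit 5) (Steps.bwd (nat_lit 1) (Steps.fwd (nat_lit 10240) Steps.nil))) (nat_lit 18) (nat_lit 1),
  Rule.mk (nat_lit 8) (nat_lit 70) (Steps.bwd (nat_lit 2) (Steps.bwd (nat_lit 1) (Steps.bwd (nat_lit 3) (Steps.fwd (nat_lit 16384) (Steps.bwd (nat_lit 1) Steps.nil))))) (nat_lit 104) (nat_lit 1),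
  Rule.mk (nat_lit 9) (nat_lit 46) (Steps.fwd (nat_lit 10240) (Steps.bwd (nat_lit 8) (Steps.bwd (nat_lit 7) Steps.nil))) (nat_lit 98) (nat_lit 3),
  Rule.mk (nat_lit 7) (nat_lit 46) (Steps.bwd (nat_lit 1) (Steps.bwd (nat_lit 7) (Steps.fwd (nat_lit 2048) Steps.nil))) (nat_lit 26) (nat_lit 1),
  Rule.mk (nat_lit 3) (nat_lit 46) (Steps.fwd (nat_lit 14336) (Steps.bwd (nat_lit 2) (Steps.bwd (nat_lit 7) Steps.nil))) (nat_lit 28) (nat_lit 0),
  Rule.mk (nat_lit 5) (nat_lit 46) (Steps.fwd (nat_lit 14336) (Steps.fwd (nat_lit 10240) (Steps.bwd (nat_lit 7) Steps.nil))) (nat_lit 32) (nat_lit 0),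
  Rule.mk (nat_lit 6) (nat_lit 46) (Steps.fwd (nat_lit 14336) (Steps.bwd (nat_lit 6) (Steps.bwd (nat_lit 7) Steps.nil))) (nat_lit 48) (nat_lit 1),
  Rule.mk (nat_lit 4) (nat_lit 46) (Steps.bwd (nat_lit 7) (Steps.bwd (nat_lit 4) (Steps.bwd (nat_lit 7) Steps.nil))) (nat_lit 30) (nat_lit 0),
  Rule.mk (nat_lit 5) (nat_lit 46) (Steps.fwd (nat_lit 8192) (Steps.fwd (nat_lit 12288) (Steps.bwd (nat_lit 4) Steps.nil))) (nat_lit 22) (nat_lit 2),
  Rule.mk (nat_lit 6) (nat_lit 58) (Steps.bwd (nat_lit 5) (Steps.fwd (nat_lit 12288) (Steps.fwd (nat_lit 14336) (Steps.bwd (nat_lit 5) Steps.nil)))) (nat_lit 25) (nat_lit 3),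
  Rule.mk (nat_lit 9) (nat_lit 46) (Steps.fwd (nat_lit 12288) (Steps.fwd (nat_lit 16384) (Steps.bwd (nat_lit 6) Steps.nil))) (nat_lit 103) (nat_lit 1),
  Rule.mk (nat_lit 2) (nat_lit 70) (Steps.bwd (nat_lit 1) (Steps.bwd (nat_lit 2) (Steps.fwd (nat_lit 2048) (Steps.bwd (nat_lit 2) (Steps.bwd (nat_lit 1) Steps.nil))))) (nat_lit 12) (nat_lit 0),
  Rule.mk (nat_lit 8) (nat_lit 46) (Steps.fwd (nat_lit 4096) (Steps.fwd (nat_lit 16384) (Steps.bwd (nat_lit 2) Steps.nil))) (nat_lit 97) (nat_lit 2),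
  Rule.mk (nat_lit 4) (nat_lit 70) (Steps.bwd (nat_lit 1) (Steps.bwd (nat_lit 4) (Steps.bwd (nat_lit 1) (Steps.bwd (nat_lit 4) (Steps.bwd (nat_lit 1) Steps.nil))))) (nat_lit 16) (nat_lit 0),
  Rule.mk (nat_lit 7) (nat_lit 70) (Steps.bwd (nat_lit 1) (Steps.fwd (nat_lit 10240) (Steps.fwd (nat_lit 14336) (Steps.bwd (nat_lit 1) (Steps.bwd (nat_lit 5) Steps.nil))))) (nat_lit 52) (nat_lit 0),
  Rule.mk (nat_lit 8) (nat_lit 58) (Steps.fwd (nat_lit 10240) (Steps.fwd (nat_lit 16384) (Steps.bwd (nat_lit 5) (Steps.bwd (nat_lit 7) Steps.nil)))) (nat_lit 100) (nat_lit 1),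
  Rule.mk (nat_lit 5) (nat_lit 94) (Steps.bwd (nat_lit 2) (Steps.bwd (nat_lit 1) (Steps.bwd (nat_lit 2) (Steps.fwd (nat_lit 10240) (Steps.bwd (nat_lit 1) (Steps.bwd (nat_lit 2) (Steps.bwd (nat_lit 1) Steps.nil))))))) (nat_lit 70) (nat_lit 4),
  Rule.mk (nat_lit 7) (nat_lit 94) (Steps.bwd (nat_lit 2) (Steps.fwd (nat_lit 2048) (Steps.fwd (nat_lit 6144) (Steps.fwd (nat_lit 14336) (Steps.bwd (nat_lit 1) (Steps.bwd (nat_lit 2) (Steps.bwd (nat_lit 1) Steps.nil))))))) (nat_lit 72) (nat_lit 4),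
  Rule.mk (nat_lit 6) (nat_lit 94) (Steps.bwd (nat_lit 1) (Steps.bwd (nat_lit 4) (Steps.fwd (nat_lit 2048) (Steps.bwd (nat_lit 6) (Steps.bwd (nat_lit 1) (Steps.bwd (nat_lit 4) (Steps.bwd (nat_lit 1) Steps.nil))))))) (nat_lit 74) (nat_lit 0),
  Rule.mk (nat_lit 7) (nat_lit 94) (Steps.bwd (nat_lit 4) (Steps.bwd (nat_lit 1) (Steps.fwd (nat_lit 8192) (Steps.fwd (nat_lit 14336) (Steps.bwd (nat_lit 1) (Steps.bwd (nat_lit 4) (Steps.bwd (nat_lit 1) Steps.nil))))))) (nat_lit 76) (nat_lit 4),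
  Rule.mk (nat_lit 6) (nat_lit 166) (Steps.bwd (nat_lit 1) (Steps.bwd (nat_lit 2) (Steps.bwd (nat_lit 1) (Steps.bwd (nat_lit 6) (Steps.bwd (nat_lit 1) (Steps.bwd (nat_lit 2) (Steps.bwd (nat_lit 1) (Steps.bwd (nat_lit 6) (Steps.bwd (nat_lit 1) (Steps.fwd (nat_lit 12288) (Steps.fwd (nat_lit 10240) (Steps.bwd (nat_lit 2) (Steps.bwd (nat_lit 1) Steps.nil))))))))))))) (nat_lit 34) (nat_lit 3),
  Rule.mk (nat_lit 9) (nat_lit 70) (Steps.bwd (nat_lit 1) (Steps.fwd (nat_lit 18432) (Steps.bwd (nat_lit 2) (Steps.fwd (nat_lit 2048) (Steps.fwd (nat_lit 4096) Steps.nil))))) (nat_lit 104) (nat_lit 5),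
  Rule.mk (nat_lit 6) (nat_lit 46) (Steps.bwd (nat_lit 8) (Steps.bwd (nat_lit 6) (Steps.bwd (nat_lit 8) Steps.nil))) (nat_lit 102) (nat_lit 1),
  Rule.mk (nat_lit 5) (nat_lit 46) (Steps.bwd (nat_lit 1) (Steps.bwd (nat_lit 5) (Steps.fwd (nat_lit 2048) Steps.nil))) (nat_lit 18) (nat_lit 0),
  Rule.mk (nat_lit 8) (nat_lit 46) (Steps.bwd (nat_lit 6) (Steps.bwd (nat_lit 8) (Steps.fwd (nat_lit 12288) Steps.nil))) (nat_lit 102) (nat_lit 0),
  Rule.mk (nat_lit 5) (nat_lit 58) (Steps.fwd (nat_lit 16384) (Steps.bwd (nat_lit 5) (Steps.bwd (nat_lit 7) (Steps.bwd (nat_lit 8) Steps.nil)))) (nat_lit 100) (nat_lit 2),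
  Rule.mk (nat_lit 4) (nat_lit 46) (Steps.bwd (nat_lit 5) (Steps.bwd (nat_lit 4) (Steps.fwd (nat_lit 12288) Steps.nil))) (nat_lit 22) (nat_lit 1),
  Rule.mk (nat_lit 5) (nat_lit 58) (Steps.bwd (nat_lit 6) (Steps.fwd (nat_lit 10240) (Steps.bwd (nat_lit 7) (Steps.fwd (nat_lit 12288) Steps.nil)))) (nat_lit 24) (nat_lit 2),
  Rule.mk (nat_lit 7) (nat_lit 46) (Steps.bwd (nat_lit 5) (Steps.bwd (nat_lit 7) (Steps.bwd (nat_lit 5) Steps.nil))) (nat_lit 32) (nat_lit 1),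
  Rule.mk (nat_lit 6) (nat_lit 94) (Steps.bwd (nat_lit 1) (Steps.bwd (nat_lit 4) (Steps.bwd (nat_lit 1) (Steps.bwd (nat_lit 6) (Steps.fwd (nat_lit 2048) (Steps.fwd (nat_lit 8192) (Steps.fwd (nat_lit 2048) Steps.nil))))))) (nat_lit 74) (nat_lit 0),
  Rule.mk (nat_lit 4) (nat_lit 46) (Steps.fwd (nat_lit 10240) (Steps.bwd (nat_lit 4) (Steps.bwd (nat_lit 6) Steps.nil))) (nat_lit 22) (nat_lit 1),
  Rule.mk (nat_lit 7) (nat_lit 94) (Steps.bwd (nat_lit 4) (Steps.fwd (nat_lit 2048) (Steps.bwd (nat_lit 4) (Steps.bwd (nat_lit 7) (Steps.fwd (nat_lit 2048) (Steps.fwd (nat_lit 8192) (Steps.fwd (nat_lit 2048) Steps.nil))))))) (nat_lit 76) (nat_lit 4),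
  Rule.mk (nat_lit 6) (nat_lit 166) (Steps.bwd (nat_lit 1) (Steps.bwd (nat_lit 2) (Steps.bwd (nat_lit 1) (Steps.bwd (nat_lit 6) (Steps.bwd (nat_lit 1) (Steps.bwd (nat_lit 2) (Steps.bwd (nat_lit 1) (Steps.bwd (nat_lit 6) (Steps.bwd (nat_lit 1) (Steps.fwd (nat_lit 12288) (Steps.bwd (nat_lit 5) (Steps.bwd (nat_lit 2) (Steps.fwd (nat_lit 2048) Steps.nil))))))))))))) (nat_lit 34) (nat_lit 3),
  Rule.mk (nat_lit 4) (nat_lit 94) (Steps.fwd (nat_lit 2048) (Steps.fwd (nat_lit 12288) (Steps.fwd (nat_lit 2048) (Steps.fwd (nat_lit 8192) (Steps.fwd (nat_lit 2048) (Steps.bwd (nat_lit 6) (Steps.bwd (nat_lit 1) Steps.nil))))))) (nat_lit 74) (nat_lit 2),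
  Rule.mk (nat_lit 0) (nat_lit 46) (Steps.fwd (nat_lit 16384) (Steps.fwd (nat_lit 16384) (Steps.fwd (nat_lit 16384) Steps.nil))) (nat_lit 95) (nat_lit 0),
  Rule.mk (nat_lit 8) (nat_lit 34) (Steps.bwd (nat_lit 0) (Steps.fwd (nat_lit 16384) Steps.nil)) (nat_lit 108) (nat_lit 0),
  Rule.mk (nat_lit 5) (nat_lit 46) (Steps.fwd (nat_lit 8192) (Steps.bwd (nat_lit 6) (Steps.fwd (nat_lit 8192) Steps.nil))) (nat_lit 22) (nat_lit 2),
  Rule.mk (nat_lit 7) (nat_lit 58) (Steps.bwd (nat_lit 5) (Steps.fwd (nat_lit 12288) (Steps.bwd (nat_lit 5) (Steps.bwd (nat_lit 6) Steps.nil)))) (nat_lit 25) (nat_lit 1),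
  Rule.mk (nat_lit 6) (nat_lit 46) (Steps.bwd (nat_lit 4) (Steps.bwd (nat_lit 5) (Steps.bwd (nat_lit 4) Steps.nil))) (nat_lit 22) (nat_lit 0),
  Rule.mk (nat_lit 7) (nat_lit 46) (Steps.bwd (nat_lit 5) (Steps.fwd (nat_lit 14336) (Steps.bwd (nat_lit 5) Steps.nil))) (nat_lit 32) (nat_lit 1)]
noncomputable def R_2 : List (Rule) := [Rule.mk (nat_lit 6) (nat_lit 58) (Steps.bwd (nat_lit 5) (Steps.fwd (nat_lit 14336) (Steps.bwd (nat_lit 6) (Steps.bwd (nat_lit 5) Steps.nil)))) (nat_lit 24) (nat_lit 3),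
  Rule.mk (nat_lit 7) (nat_lit 70) (Steps.bwd (nat_lit 4) (Steps.bwd (nat_lit 5) (Steps.fwd (nat_lit 14336) (Steps.bwd (nat_lit 4) (Steps.bwd (nat_lit 6) Steps.nil))))) (nat_lit 66) (nat_lit 0),
  Rule.mk (nat_lit 5) (nat_lit 58) (Steps.bwd (nat_lit 6) (Steps.fwd (nat_lit 10240) (Steps.bwd (nat_lit 6) (Steps.bwd (nat_lit 7) Steps.nil)))) (nat_lit 25) (nat_lit 2),
  Rule.mk (nat_lit 9) (nat_lit 46) (Steps.bwd (nat_lit 5) (Steps.bwd (nat_lit 8) (Steps.bwd (nat_lit 7) Steps.nil))) (nat_lit 98) (nat_lit 3),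
  Rule.mk (nat_lit 0) (nat_lit 46) (Steps.bwd (nat_lit 8) (Steps.fwd (nat_lit 18432) (Steps.bwd (nat_lit 8) Steps.nil))) (nat_lit 94) (nat_lit 0),
  Rule.mk (nat_lit 9) (nat_lit 34) (Steps.bwd (nat_lit 0) (Steps.bwd (nat_lit 8) Steps.nil)) (nat_lit 108) (nat_lit 0),
  Rule.mk (nat_lit 6) (nat_lit 46) (Steps.fwd (nat_lit 16384) (Steps.bwd (nat_lit 6) (Steps.bwd (nat_lit 9) Steps.nil))) (nat_lit 103) (nat_lit 0),
  Rule.mk (nat_lit 0) (nat_lit 58) (Steps.bwd (nat_lit 8) (Steps.fwd (nat_lit 14336) (Steps.fwd (nat_lit 16384) (Steps.bwd (nat_lit 5) Steps.nil)))) (nat_lit 98) (nat_lit 0),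
  Rule.mk (nat_lit 0) (nat_lit 46) (Steps.bwd (nat_lit 4) (Steps.fwd (nat_lit 0) (Steps.bwd (nat_lit 4) Steps.nil))) (nat_lit 108) (nat_lit 0),
  Rule.mk (nat_lit 0) (nat_lit 46) (Steps.bwd (nat_lit 6) (Steps.bwd (nat_lit 0) (Steps.bwd (nat_lit 6) Steps.nil))) (nat_lit 108) (nat_lit 0),
  Rule.mk (nat_lit 0) (nat_lit 46) (Steps.fwd (nat_lit 10240) (Steps.bwd (nat_lit 0) (Steps.bwd (nat_lit 5) Steps.nil))) (nat_lit 108) (nat_lit 0),
  Rule.mk (nat_lit 0) (nat_lit 46) (Steps.bwd (nat_lit 8) (Steps.bwd (nat_lit 0) (Steps.fwd (nat_lit 16384) Steps.nil))) (nat_lit 108) (nat_lit 0),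
  Rule.mk (nat_lit 0) (nat_lit 46) (Steps.fwd (nat_lit 16384) (Steps.bwd (nat_lit 0) (Steps.bwd (nat_lit 8) Steps.nil))) (nat_lit 108) (nat_lit 0),
  Rule.mk (nat_lit 6) (nat_lit 34) (Steps.bwd (nat_lit 0) (Steps.bwd (nat_lit 6) Steps.nil)) (nat_lit 108) (nat_lit 0),
  Rule.mk (nat_lit 5) (nat_lit 34) (Steps.bwd (nat_lit 0) (Steps.fwd (nat_lit 10240) Steps.nil)) (nat_lit 108) (nat_lit 0),
  Rule.mk (nat_lit 0) (nat_lit 58) (Steps.bwd (nat_lit 0) (Steps.fwd (nat_lit 8192) (Steps.fwd (nat_lit 0) (Steps.bwd (nat_lit 4) Steps.nil)))) (nat_lit 108) (nat_lit 0),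
  Rule.mk (nat_lit 0) (nat_lit 34) (Steps.fwd (nat_lit 0) (Steps.fwd (nat_lit 0) Steps.nil)) (nat_lit 108) (nat_lit 0),
  Rule.mk (nat_lit 0) (nat_lit 46) (Steps.fwd (nat_lit 16384) (Steps.fwd (nat_lit 0) (Steps.bwd (nat_lit 8) Steps.nil))) (nat_lit 108) (nat_lit 0),
  Rule.mk (nat_lit 1) (nat_lit 34) (Steps.bwd (nat_lit 0) (Steps.fwd (nat_lit 2048) Steps.nil)) (nat_lit 108) (nat_lit 0),
  Rule.mk (nat_lit 0) (nat_lit 46) (Steps.bwd (nat_lit 5) (Steps.bwd (nat_lit 0) (Steps.bwd (nat_lit 5) Steps.nil))) (nat_lit 108) (nat_lit 0),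
  Rule.mk (nat_lit 7) (nat_lit 34) (Steps.bwd (nat_lit 0) (Steps.fwd (nat_lit 14336) Steps.nil)) (nat_lit 108) (nat_lit 0),
  Rule.mk (nat_lit 0) (nat_lit 46) (Steps.bwd (nat_lit 1) (Steps.fwd (nat_lit 0) (Steps.bwd (nat_lit 1) Steps.nil))) (nat_lit 108) (nat_lit 0),
  Rule.mk (nat_lit 0) (nat_lit 58) (Steps.bwd (nat_lit 5) (Steps.fwd (nat_lit 0) (Steps.bwd (nat_lit 5) (Steps.fwd (nat_lit 0) Steps.nil)))) (nat_lit 108) (nat_lit 0),
  Rule.mk (nat_lit 0) (nat_lit 46) (Steps.fwd (nat_lit 12288) (Steps.bwd (nat_lit 0) (Steps.bwd (nat_lit 6) Steps.nil))) (nat_lit 108) (nat_lit 0),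
  Rule.mk (nat_lit 7) (nat_lit 34) (Steps.bwd (nat_lit 0) (Steps.bwd (nat_lit 7) Steps.nil)) (nat_lit 108) (nat_lit 0),
  Rule.mk (nat_lit 0) (nat_lit 46) (Steps.fwd (nat_lit 18432) (Steps.fwd (nat_lit 0) (Steps.fwd (nat_lit 16384) Steps.nil))) (nat_lit 108) (nat_lit 0),
  Rule.mk (nat_lit 0) (nat_lit 46) (Steps.bwd (nat_lit 1) (Steps.bwd (nat_lit 0) (Steps.bwd (nat_lit 1) Steps.nil))) (nat_lit 108) (nat_lit 0),
  Rule.mk (nat_lit 0) (nat_lit 58) (Steps.bwd (nat_lit 0) (Steps.bwd (nat_lit 5) (Steps.bwd (nat_lit 0) (Steps.bwd (nat_lit 5) Steps.nil)))) (nat_lit 108) (nat_lit 0),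
  Rule.mk (nat_lit 0) (nat_lit 46) (Steps.bwd (nat_lit 7) (Steps.bwd (nat_lit 0) (Steps.bwd (nat_lit 7) Steps.nil))) (nat_lit 108) (nat_lit 0),
  Rule.mk (nat_lit 5) (nat_lit 34) (Steps.bwd (nat_lit 0) (Steps.bwd (nat_lit 5) Steps.nil)) (nat_lit 108) (nat_lit 0),
  Rule.mk (nat_lit 0) (nat_lit 46) (Steps.bwd (nat_lit 8) (Steps.fwd (nat_lit 0) (Steps.fwd (nat_lit 16384) Steps.nil))) (nat_lit 108) (nat_lit 0),
  Rule.mk (nat_lit 0) (nat_lit 46) (Steps.fwd (nat_lit 8192) (Steps.bwd (nat_lit 0) (Steps.fwd (nat_lit 8192) Steps.nil))) (nat_lit 108) (nat_lit 0),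
  Rule.mk (nat_lit 0) (nat_lit 46) (Steps.fwd (nat_lit 10240) (Steps.fwd (nat_lit 0) (Steps.bwd (nat_lit 5) Steps.nil))) (nat_lit 108) (nat_lit 0),
  Rule.mk (nat_lit 0) (nat_lit 46) (Steps.fwd (nat_lit 12288) (Steps.fwd (nat_lit 0) (Steps.bwd (nat_lit 6) Steps.nil))) (nat_lit 108) (nat_lit 0),
  Rule.mk (nat_lit 6) (nat_lit 34) (Steps.bwd (nat_lit 0) (Steps.fwd (nat_lit 12288) Steps.nil)) (nat_lit 108) (nat_lit 0),
  Rule.mk (nat_lit 0) (nat_lit 46) (Steps.bwd (nat_lit 1) (Steps.bwd (nat_lit 0) (Steps.fwd (nat_lit 2048) Steps.nil))) (nat_lit 108) (nat_lit 0),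
  Rule.mk (nat_lit 1) (nat_lit 34) (Steps.bwd (nat_lit 0) (Steps.bwd (nat_lit 1) Steps.nil)) (nat_lit 108) (nat_lit 0),
  Rule.mk (nat_lit 4) (nat_lit 34) (Steps.bwd (nat_lit 0) (Steps.fwd (nat_lit 8192) Steps.nil)) (nat_lit 108) (nat_lit 0),
  Rule.mk (nat_lit 0) (nat_lit 46) (Steps.fwd (nat_lit 14336) (Steps.fwd (nat_lit 0) (Steps.bwd (nat_lit 7) Steps.nil))) (nat_lit 108) (nat_lit 0),
  Rule.mk (nat_lit 0) (nat_lit 46) (Steps.fwd (nat_lit 2048) (Steps.fwd (nat_lit 0) (Steps.bwd (nat_lit 1) Steps.nil))) (nat_lit 108) (nat_lit 0),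
  Rule.mk (nat_lit 4) (nat_lit 34) (Steps.bwd (nat_lit 0) (Steps.bwd (nat_lit 4) Steps.nil)) (nat_lit 108) (nat_lit 0),
  Rule.mk (nat_lit 5) (nat_lit 46) (Steps.bwd (nat_lit 1) (Steps.fwd (nat_lit 10240) (Steps.bwd (nat_lit 1) Steps.nil))) (nat_lit 18) (nat_lit 0),
  Rule.mk (nat_lit 8) (nat_lit 46) (Steps.fwd (nat_lit 14336) (Steps.bwd (nat_lit 9) (Steps.bwd (nat_lit 5) Steps.nil))) (nat_lit 98) (nat_lit 1),
  Rule.mk (nat_lit 7) (nat_lit 58) (Steps.fwd (nat_lit 18432) (Steps.fwd (nat_lit 10240) (Steps.bwd (nat_lit 9) (Steps.bwd (nat_lit 5) Steps.nil)))) (nat_lit 100) (nat_lit 0),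
  Rule.mk (nat_lit 1) (nat_lit 46) (Steps.bwd (nat_lit 7) (Steps.fwd (nat_lit 2048) (Steps.bwd (nat_lit 7) Steps.nil))) (nat_lit 26) (nat_lit 0),
  Rule.mk (nat_lit 5) (nat_lit 46) (Steps.fwd (nat_lit 2048) (Steps.bwd (nat_lit 5) (Steps.bwd (nat_lit 1) Steps.nil))) (nat_lit 18) (nat_lit 0),
  Rule.mk (nat_lit 2) (nat_lit 70) (Steps.bwd (nat_lit 1) (Steps.fwd (nat_lit 6144) (Steps.fwd (nat_lit 2048) (Steps.fwd (nat_lit 6144) (Steps.bwd (nat_lit 1) Steps.nil))))) (nat_lit 12) (nat_lit 0),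
  Rule.mk (nat_lit 2) (nat_lit 34) (Steps.fwd (nat_lit 6144) (Steps.bwd (nat_lit 2) Steps.nil)) (nat_lit 2) (nat_lit 0),
  Rule.mk (nat_lit 9) (nat_lit 58) (Steps.bwd (nat_lit 5) (Steps.bwd (nat_lit 7) (Steps.fwd (nat_lit 18432) (Steps.bwd (nat_lit 5) Steps.nil)))) (nat_lit 100) (nat_lit 3),
  Rule.mk (nat_lit 9) (nat_lit 46) (Steps.fwd (nat_lit 10240) (Steps.fwd (nat_lit 18432) (Steps.bwd (nat_lit 7) Steps.nil))) (nat_lit 98) (nat_lit 3),
  Rule.mk (nat_lit 7) (nat_lit 94) (Steps.bwd (nat_lit 4) (Steps.fwd (nat_lit 2048) (Steps.fwd (nat_lit 8192) (Steps.fwd (nat_lit 14336) (Steps.bwd (nat_lit 1) (Steps.fwd (nat_lit 8192) (Steps.fwd (nat_lit 2048) Steps.nil))))))) (nat_lit 76) (nat_lit 4),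
  Rule.mk (nat_lit 6) (nat_lit 166) (Steps.bwd (nat_lit 1) (Steps.bwd (nat_lit 2) (Steps.bwd (nat_lit 1) (Steps.bwd (nat_lit 6) (Steps.bwd (nat_lit 1) (Steps.bwd (nat_lit 2) (Steps.bwd (nat_lit 1) (Steps.bwd (nat_lit 6) (Steps.fwd (nat_lit 2048) (Steps.fwd (nat_lit 12288) (Steps.fwd (nat_lit 10240) (Steps.fwd (nat_lit 6144) (Steps.bwd (nat_lit 1) Steps.nil))))))))))))) (nat_lit 34) (nat_lit 3),
  Rule.mk (nat_lit 5) (nat_lit 58) (Steps.bwd (nat_lit 6) (Steps.fwd (nat_lit 10240) (Steps.bwd (nat_lit 7) (Steps.bwd (nat_lit 6) Steps.nil)))) (nat_lit 24) (nat_lit 2),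
  Rule.mk (nat_lit 6) (nat_lit 166) (Steps.bwd (nat_lit 5) (Steps.bwd (nat_lit 2) (Steps.bwd (nat_lit 1) (Steps.bwd (nat_lit 6) (Steps.bwd (nat_lit 1) (Steps.bwd (nat_lit 2) (Steps.bwd (nat_lit 1) (Steps.bwd (nat_lit 6) (Steps.fwd (nat_lit 2048) (Steps.fwd (nat_lit 6144) (Steps.bwd (nat_lit 1) (Steps.fwd (nat_lit 12288) (Steps.fwd (nat_lit 2048) Steps.nil))))))))))))) (nat_lit 34) (nat_lit 13),
  Rule.mk (nat_lit 6) (nat_lit 46) (Steps.bwd (nat_lit 2) (Steps.bwd (nat_lit 6) (Steps.fwd (nat_lit 4096) Steps.nil))) (nat_lit 40) (nat_lit 0),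
  Rule.mk (nat_lit 5) (nat_lit 166) (Steps.bwd (nat_lit 6) (Steps.bwd (nat_lit 1) (Steps.bwd (nat_lit 6) (Steps.fwd (nat_lit 2048) (Steps.fwd (nat_lit 4096) (Steps.bwd (nat_lit 1) (Steps.fwd (nat_lit 12288) (Steps.fwd (nat_lit 2048) (Steps.fwd (nat_lit 4096) (Steps.fwd (nat_lit 2048) (Steps.fwd (nat_lit 12288) (Steps.fwd (nat_lit 2048) (Steps.fwd (nat_lit 4096) Steps.nil))))))))))))) (nat_lit 35) (nat_lit 1),
  Rule.mk (nat_lit 5) (nat_lit 46) (Steps.fwd (nat_lit 4096) (Steps.bwd (nat_lit 5) (Steps.bwd (nat_lit 2) Steps.nil))) (nat_lit 20) (nat_lit 2),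
  Rule.mk (nat_lit 9) (nat_lit 46) (Steps.bwd (nat_lit 5) (Steps.fwd (nat_lit 18432) (Steps.bwd (nat_lit 7) Steps.nil))) (nat_lit 98) (nat_lit 3),
  Rule.mk (nat_lit 6) (nat_lit 94) (Steps.bwd (nat_lit 1) (Steps.bwd (nat_lit 4) (Steps.fwd (nat_lit 2048) (Steps.fwd (nat_lit 12288) (Steps.fwd (nat_lit 2048) (Steps.bwd (nat_lit 4) (Steps.bwd (nat_lit 1) Steps.nil))))))) (nat_lit 74) (nat_lit 0),
  Rule.mk (nat_lit 4) (nat_lit 46) (Steps.fwd (nat_lit 10240) (Steps.fwd (nat_lit 8192) (Steps.bwd (nat_lit 6) Steps.nil))) (nat_lit 22) (nat_lit 1),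
  Rule.mk (nat_lit 7) (nat_lit 70) (Steps.bwd (nat_lit 4) (Steps.fwd (nat_lit 10240) (Steps.bwd (nat_lit 7) (Steps.fwd (nat_lit 8192) (Steps.bwd (nat_lit 6) Steps.nil))))) (nat_lit 66) (nat_lit 0),
  Rule.mk (nat_lit 7) (nat_lit 94) (Steps.bwd (nat_lit 4) (Steps.fwd (nat_lit 2048) (Steps.bwd (nat_lit 4) (Steps.fwd (nat_lit 14336) (Steps.fwd (nat_lit 2048) (Steps.bwd (nat_lit 4) (Steps.bwd (nat_lit 1) Steps.nil))))))) (nat_lit 76) (nat_lit 4),
  Rule.mk (nat_lit 6) (nat_lit 46) (Steps.fwd (nat_lit 14336) (Steps.fwd (nat_lit 12288) (Steps.bwd (nat_lit 7) Steps.nil))) (nat_lit 48) (nat_lit 1),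
  Rule.mk (nat_lit 6) (nat_lit 166) (Steps.bwd (nat_lit 1) (Steps.bwd (nat_lit 2) (Steps.bwd (nat_lit 1) (Steps.bwd (nat_lit 6) (Steps.bwd (nat_lit 1) (Steps.bwd (nat_lit 2) (Steps.fwd (nat_lit 2048) (Steps.fwd (nat_lit 12288) (Steps.fwd (nat_lit 2048) (Steps.fwd (nat_lit 12288) (Steps.bwd (nat_lit 5) (Steps.fwd (nat_lit 6144) (Steps.fwd (nat_lit 2048) Steps.nil))))))))))))) (nat_lit 34) (nat_lit 3)]
noncomputable def R_3 : List (Rule) := [Rule.mk (nat_lit 7) (nat_lit 46) (Steps.bwd (nat_lit 6) (Steps.fwd (nat_lit 14336) (Steps.bwd (nat_lit 6) Steps.nil))) (nat_lit 48) (nat_lit 0),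
  Rule.mk (nat_lit 4) (nat_lit 46) (Steps.fwd (nat_lit 4096) (Steps.bwd (nat_lit 4) (Steps.fwd (nat_lit 4096) Steps.nil))) (nat_lit 15) (nat_lit 0),
  Rule.mk (nat_lit 7) (nat_lit 46) (Steps.fwd (nat_lit 2048) (Steps.bwd (nat_lit 7) (Steps.fwd (nat_lit 2048) Steps.nil))) (nat_lit 26) (nat_lit 1),
  Rule.mk (nat_lit 5) (nat_lit 46) (Steps.bwd (nat_lit 2) (Steps.fwd (nat_lit 10240) (Steps.fwd (nat_lit 4096) Steps.nil))) (nat_lit 20) (nat_lit 0),
  Rule.mk (nat_lit 5) (nat_lit 94) (Steps.bwd (nat_lit 2) (Steps.fwd (nat_lit 2048) (Steps.fwd (nat_lit 6144) (Steps.fwd (nat_lit 10240) (Steps.bwd (nat_lit 1) (Steps.bwd (nat_lit 2) (Steps.bwd (nat_lit 1) Steps.nil))))))) (nat_lit 70) (nat_lit 4),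
  Rule.mk (nat_lit 7) (nat_lit 94) (Steps.bwd (nat_lit 2) (Steps.bwd (nat_lit 1) (Steps.bwd (nat_lit 2) (Steps.fwd (nat_lit 14336) (Steps.bwd (nat_lit 1) (Steps.bwd (nat_lit 2) (Steps.bwd (nat_lit 1) Steps.nil))))))) (nat_lit 72) (nat_lit 4),
  Rule.mk (nat_lit 8) (nat_lit 46) (Steps.bwd (nat_lit 7) (Steps.bwd (nat_lit 9) (Steps.bwd (nat_lit 5) Steps.nil))) (nat_lit 98) (nat_lit 1),
  Rule.mk (nat_lit 9) (nat_lit 46) (Steps.bwd (nat_lit 2) (Steps.bwd (nat_lit 8) (Steps.fwd (nat_lit 4096) Steps.nil))) (nat_lit 97) (nat_lit 0),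
  Rule.mk (nat_lit 2) (nat_lit 166) (Steps.bwd (nat_lit 1) (Steps.bwd (nat_lit 6) (Steps.bwd (nat_lit 1) (Steps.bwd (nat_lit 2) (Steps.bwd (nat_lit 1) (Steps.bwd (nat_lit 6) (Steps.fwd (nat_lit 2048) (Steps.bwd (nat_lit 6) (Steps.fwd (nat_lit 10240) (Steps.bwd (nat_lit 2) (Steps.bwd (nat_lit 1) (Steps.fwd (nat_lit 12288) (Steps.fwd (nat_lit 2048) Steps.nil))))))))))))) (nat_lit 34) (nat_lit 5),
  Rule.mk (nat_lit 5) (nat_lit 46) (Steps.fwd (nat_lit 4096) (Steps.fwd (nat_lit 10240) (Steps.bwd (nat_lit 2) Steps.nil))) (nat_lit 20) (nat_lit 2),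
  Rule.mk (nat_lit 6) (nat_lit 166) (Steps.fwd (nat_lit 10240) (Steps.bwd (nat_lit 2) (Steps.bwd (nat_lit 1) (Steps.bwd (nat_lit 6) (Steps.fwd (nat_lit 2048) (Steps.bwd (nat_lit 2) (Steps.bwd (nat_lit 1) (Steps.fwd (nat_lit 12288) (Steps.fwd (nat_lit 2048) (Steps.bwd (nat_lit 2) (Steps.bwd (nat_lit 1) (Steps.bwd (nat_lit 6) (Steps.bwd (nat_lit 1) Steps.nil))))))))))))) (nat_lit 34) (nat_lit 13),
  Rule.mk (nat_lit 6) (nat_lit 166) (Steps.fwd (nat_lit 10240) (Steps.bwd (nat_lit 2) (Steps.bwd (nat_lit 1) (Steps.bwd (nat_lit 6) (Steps.bwd (nat_lit 1) (Steps.bwd (nat_lit 2) (Steps.bwd (nat_lit 1) (Steps.bwd (nat_lit 6) (Steps.fwd (nat_lit 2048) (Steps.fwd (nat_lit 6144) (Steps.bwd (nat_lit 1) (Steps.fwd (nat_lit 12288) (Steps.fwd (nat_lit 2048) Steps.nil))))))))))))) (nat_lit 34) (nat_lit 13),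
  Rule.mk (nat_lit 7) (nat_lit 58) (Steps.bwd (nat_lit 6) (Steps.fwd (nat_lit 10240) (Steps.fwd (nat_lit 12288) (Steps.fwd (nat_lit 10240) Steps.nil)))) (nat_lit 24) (nat_lit 0),
  Rule.mk (nat_lit 5) (nat_lit 58) (Steps.bwd (nat_lit 6) (Steps.fwd (nat_lit 10240) (Steps.fwd (nat_lit 12288) (Steps.bwd (nat_lit 7) Steps.nil)))) (nat_lit 25) (nat_lit 2),
  Rule.mk (nat_lit 4) (nat_lit 46) (Steps.fwd (nat_lit 10240) (Steps.bwd (nat_lit 4) (Steps.fwd (nat_lit 12288) Steps.nil))) (nat_lit 22) (nat_lit 1),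
  Rule.mk (nat_lit 7) (nat_lit 46) (Steps.fwd (nat_lit 4096) (Steps.fwd (nat_lit 14336) (Steps.bwd (nat_lit 2) Steps.nil))) (nat_lit 28) (nat_lit 3),
  Rule.mk (nat_lit 6) (nat_lit 166) (Steps.bwd (nat_lit 1) (Steps.bwd (nat_lit 2) (Steps.bwd (nat_lit 1) (Steps.bwd (nat_lit 6) (Steps.bwd (nat_lit 1) (Steps.bwd (nat_lit 2) (Steps.fwd (nat_lit 2048) (Steps.fwd (nat_lit 12288) (Steps.fwd (nat_lit 2048) (Steps.bwd (nat_lit 6) (Steps.bwd (nat_lit 5) (Steps.bwd (nat_lit 2) (Steps.fwd (nat_lit 2048) Steps.nil))))))))))))) (nat_lit 34) (nat_lit 3),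
  Rule.mk (nat_lit 4) (nat_lit 94) (Steps.bwd (nat_lit 1) (Steps.bwd (nat_lit 6) (Steps.fwd (nat_lit 2048) (Steps.fwd (nat_lit 8192) (Steps.fwd (nat_lit 2048) (Steps.bwd (nat_lit 6) (Steps.bwd (nat_lit 1) Steps.nil))))))) (nat_lit 74) (nat_lit 2),
  Rule.mk (nat_lit 6) (nat_lit 70) (Steps.fwd (nat_lit 4096) (Steps.bwd (nat_lit 4) (Steps.bwd (nat_lit 5) (Steps.fwd (nat_lit 4096) (Steps.bwd (nat_lit 4) Steps.nil))))) (nat_lit 59) (nat_lit 2),
  Rule.mk (nat_lit 7) (nat_lit 70) (Steps.bwd (nat_lit 4) (Steps.fwd (nat_lit 12288) (Steps.bwd (nat_lit 7) (Steps.bwd (nat_lit 4) (Steps.fwd (nat_lit 10240) Steps.nil))))) (nat_lit 66) (nat_lit 3),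
  Rule.mk (nat_lit 7) (nat_lit 70) (Steps.fwd (nat_lit 4096) (Steps.fwd (nat_lit 8192) (Steps.fwd (nat_lit 14336) (Steps.fwd (nat_lit 4096) (Steps.bwd (nat_lit 4) Steps.nil))))) (nat_lit 65) (nat_lit 2),
  Rule.mk (nat_lit 7) (nat_lit 46) (Steps.fwd (nat_lit 2048) (Steps.bwd (nat_lit 7) (Steps.bwd (nat_lit 1) Steps.nil))) (nat_lit 26) (nat_lit 1),
  Rule.mk (nat_lit 7) (nat_lit 46) (Steps.fwd (nat_lit 12288) (Steps.bwd (nat_lit 7) (Steps.bwd (nat_lit 6) Steps.nil))) (nat_lit 48) (nat_lit 0),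
  Rule.mk (nat_lit 5) (nat_lit 58) (Steps.fwd (nat_lit 12288) (Steps.bwd (nat_lit 5) (Steps.bwd (nat_lit 7) (Steps.bwd (nat_lit 6) Steps.nil)))) (nat_lit 24) (nat_lit 2),
  Rule.mk (nat_lit 7) (nat_lit 58) (Steps.bwd (nat_lit 6) (Steps.fwd (nat_lit 10240) (Steps.bwd (nat_lit 6) (Steps.bwd (nat_lit 5) Steps.nil)))) (nat_lit 24) (nat_lit 0),
  Rule.mk (nat_lit 4) (nat_lit 70) (Steps.bwd (nat_lit 7) (Steps.bwd (nat_lit 2) (Steps.fwd (nat_lit 8192) (Steps.fwd (nat_lit 14336) (Steps.bwd (nat_lit 2) Steps.nil))))) (nat_lit 56) (nat_lit 2),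
  Rule.mk (nat_lit 5) (nat_lit 94) (Steps.bwd (nat_lit 2) (Steps.bwd (nat_lit 1) (Steps.fwd (nat_lit 6144) (Steps.bwd (nat_lit 5) (Steps.fwd (nat_lit 2048) (Steps.bwd (nat_lit 2) (Steps.bwd (nat_lit 1) Steps.nil))))))) (nat_lit 70) (nat_lit 4),
  Rule.mk (nat_lit 7) (nat_lit 94) (Steps.bwd (nat_lit 2) (Steps.bwd (nat_lit 1) (Steps.bwd (nat_lit 2) (Steps.bwd (nat_lit 7) (Steps.fwd (nat_lit 2048) (Steps.bwd (nat_lit 2) (Steps.bwd (nat_lit 1) Steps.nil))))))) (nat_lit 72) (nat_lit 4),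
  Rule.mk (nat_lit 8) (nat_lit 46) (Steps.bwd (nat_lit 7) (Steps.fwd (nat_lit 16384) (Steps.bwd (nat_lit 5) Steps.nil))) (nat_lit 98) (nat_lit 1),
  Rule.mk (nat_lit 9) (nat_lit 58) (Steps.bwd (nat_lit 7) (Steps.fwd (nat_lit 10240) (Steps.fwd (nat_lit 18432) (Steps.fwd (nat_lit 10240) Steps.nil)))) (nat_lit 101) (nat_lit 0),
  Rule.mk (nat_lit 6) (nat_lit 46) (Steps.bwd (nat_lit 4) (Steps.fwd (nat_lit 10240) (Steps.bwd (nat_lit 4) Steps.nil))) (nat_lit 22) (nat_lit 0),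
  Rule.mk (nat_lit 6) (nat_lit 94) (Steps.fwd (nat_lit 2048) (Steps.fwd (nat_lit 8192) (Steps.bwd (nat_lit 1) (Steps.bwd (nat_lit 6) (Steps.fwd (nat_lit 2048) (Steps.bwd (nat_lit 4) (Steps.bwd (nat_lit 1) Steps.nil))))))) (nat_lit 74) (nat_lit 0),
  Rule.mk (nat_lit 7) (nat_lit 94) (Steps.bwd (nat_lit 1) (Steps.fwd (nat_lit 8192) (Steps.fwd (nat_lit 2048) (Steps.bwd (nat_lit 7) (Steps.bwd (nat_lit 4) (Steps.bwd (nat_lit 1) (Steps.bwd (nat_lit 4) Steps.nil))))))) (nat_lit 76) (nat_lit 0),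
  Rule.mk (nat_lit 7) (nat_lit 94) (Steps.bwd (nat_lit 4) (Steps.bwd (nat_lit 1) (Steps.fwd (nat_lit 8192) (Steps.bwd (nat_lit 7) (Steps.fwd (nat_lit 2048) (Steps.bwd (nat_lit 4) (Steps.bwd (nat_lit 1) Steps.nil))))))) (nat_lit 76) (nat_lit 4),
  Rule.mk (nat_lit 5) (nat_lit 70) (Steps.bwd (nat_lit 7) (Steps.fwd (nat_lit 8192) (Steps.fwd (nat_lit 12288) (Steps.bwd (nat_lit 7) (Steps.bwd (nat_lit 4) Steps.nil))))) (nat_lit 66) (nat_lit 2),
  Rule.mk (nat_lit 5) (nat_lit 58) (Steps.bwd (nat_lit 6) (Steps.bwd (nat_lit 5) (Steps.bwd (nat_lit 7) (Steps.fwd (nat_lit 12288) Steps.nil)))) (nat_lit 24) (nat_lit 2),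
  Rule.mk (nat_lit 3) (nat_lit 46) (Steps.bwd (nat_lit 8) (Steps.bwd (nat_lit 2) (Steps.bwd (nat_lit 9) Steps.nil))) (nat_lit 96) (nat_lit 0),
  Rule.mk (nat_lit 6) (nat_lit 46) (Steps.bwd (nat_lit 2) (Steps.bwd (nat_lit 6) (Steps.bwd (nat_lit 3) Steps.nil))) (nat_lit 40) (nat_lit 0),
  Rule.mk (nat_lit 0) (nat_lit 82) (Steps.fwd (nat_lit 2048) (Steps.fwd (nat_lit 4096) (Steps.fwd (nat_lit 2048) (Steps.bwd (nat_lit 3) (Steps.bwd (nat_lit 1) (Steps.bwd (nat_lit 3) Steps.nil)))))) (nat_lit 13) (nat_lit 1),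
  Rule.mk (nat_lit 3) (nat_lit 34) (Steps.bwd (nat_lit 0) (Steps.fwd (nat_lit 6144) Steps.nil)) (nat_lit 108) (nat_lit 0),
  Rule.mk (nat_lit 3) (nat_lit 34) (Steps.bwd (nat_lit 0) (Steps.bwd (nat_lit 2) Steps.nil)) (nat_lit 108) (nat_lit 0),
  Rule.mk (nat_lit 3) (nat_lit 34) (Steps.bwd (nat_lit 3) (Steps.fwd (nat_lit 4096) Steps.nil)) (nat_lit 3) (nat_lit 0),
  Rule.mk (nat_lit 7) (nat_lit 46) (Steps.bwd (nat_lit 3) (Steps.bwd (nat_lit 7) (Steps.bwd (nat_lit 2) Steps.nil))) (nat_lit 28) (nat_lit 3),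
  Rule.mk (nat_lit 9) (nat_lit 46) (Steps.bwd (nat_lit 3) (Steps.bwd (nat_lit 8) (Steps.bwd (nat_lit 2) Steps.nil))) (nat_lit 96) (nat_lit 3),
  Rule.mk (nat_lit 0) (nat_lit 82) (Steps.fwd (nat_lit 2048) (Steps.bwd (nat_lit 3) (Steps.fwd (nat_lit 2048) (Steps.bwd (nat_lit 3) (Steps.bwd (nat_lit 1) (Steps.fwd (nat_lit 4096) Steps.nil)))))) (nat_lit 13) (nat_lit 1),
  Rule.mk (nat_lit 8) (nat_lit 70) (Steps.fwd (nat_lit 6144) (Steps.fwd (nat_lit 2048) (Steps.bwd (nat_lit 3) (Steps.bwd (nat_lit 9) (Steps.bwd (nat_lit 1) Steps.nil))))) (nat_lit 104) (nat_lit 1),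
  Rule.mk (nat_lit 6) (nat_lit 94) (Steps.bwd (nat_lit 7) (Steps.bwd (nat_lit 3) (Steps.fwd (nat_lit 10240) (Steps.fwd (nat_lit 4096) (Steps.fwd (nat_lit 12288) (Steps.bwd (nat_lit 5) (Steps.fwd (nat_lit 4096) Steps.nil))))))) (nat_lit 85) (nat_lit 4),
  Rule.mk (nat_lit 4) (nat_lit 46) (Steps.bwd (nat_lit 5) (Steps.bwd (nat_lit 4) (Steps.bwd (nat_lit 6) Steps.nil))) (nat_lit 22) (nat_lit 1),
  Rule.mk (nat_lit 8) (nat_lit 46) (Steps.bwd (nat_lit 6) (Steps.bwd (nat_lit 8) (Steps.bwd (nat_lit 6) Steps.nil))) (nat_lit 102) (nat_lit 0),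
  Rule.mk (nat_lit 6) (nat_lit 46) (Steps.fwd (nat_lit 16384) (Steps.bwd (nat_lit 6) (Steps.fwd (nat_lit 16384) Steps.nil))) (nat_lit 103) (nat_lit 0),
  Rule.mk (nat_lit 5) (nat_lit 70) (Steps.bwd (nat_lit 4) (Steps.fwd (nat_lit 4096) (Steps.bwd (nat_lit 6) (Steps.bwd (nat_lit 4) (Steps.fwd (nat_lit 4096) Steps.nil))))) (nat_lit 55) (nat_lit 4),
  Rule.mk (nat_lit 5) (nat_lit 70) (Steps.fwd (nat_lit 4096) (Steps.bwd (nat_lit 4) (Steps.bwd (nat_lit 6) (Steps.fwd (nat_lit 4096) (Steps.bwd (nat_lit 4) Steps.nil))))) (nat_lit 59) (nat_lit 5),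
  Rule.mk (nat_lit 2) (nat_lit 46) (Steps.bwd (nat_lit 5) (Steps.fwd (nat_lit 4096) (Steps.fwd (nat_lit 10240) Steps.nil))) (nat_lit 20) (nat_lit 1),
  Rule.mk (nat_lit 2) (nat_lit 94) (Steps.fwd (nat_lit 10240) (Steps.bwd (nat_lit 2) (Steps.fwd (nat_lit 12288) (Steps.bwd (nat_lit 5) (Steps.bwd (nat_lit 2) (Steps.bwd (nat_lit 6) (Steps.fwd (nat_lit 14336) Steps.nil))))))) (nat_lit 82) (nat_lit 1),
  Rule.mk (nat_lit 4) (nat_lit 70) (Steps.bwd (nat_lit 6) (Steps.fwd (nat_lit 6144) (Steps.fwd (nat_lit 8192) (Steps.fwd (nat_lit 10240) (Steps.bwd (nat_lit 2) Steps.nil))))) (nat_lit 54) (nat_lit 5),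
  Rule.mk (nat_lit 4) (nat_lit 70) (Steps.bwd (nat_lit 1) (Steps.bwd (nat_lit 4) (Steps.fwd (nat_lit 2048) (Steps.bwd (nat_lit 4) (Steps.bwd (nat_lit 1) Steps.nil))))) (nat_lit 16) (nat_lit 0),
  Rule.mk (nat_lit 2) (nat_lit 166) (Steps.bwd (nat_lit 1) (Steps.bwd (nat_lit 6) (Steps.bwd (nat_lit 1) (Steps.fwd (nat_lit 12288) (Steps.bwd (nat_lit 5) (Steps.fwd (nat_lit 6144) (Steps.fwd (nat_lit 2048) (Steps.fwd (nat_lit 12288) (Steps.fwd (nat_lit 2048) (Steps.bwd (nat_lit 2) (Steps.bwd (nat_lit 1) (Steps.bwd (nat_lit 6) (Steps.bwd (nat_lit 1) Steps.nil))))))))))))) (nat_lit 34) (nat_lit 9),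
  Rule.mk (nat_lit 4) (nat_lit 46) (Steps.fwd (nat_lit 6144) (Steps.fwd (nat_lit 8192) (Steps.bwd (nat_lit 2) Steps.nil))) (nat_lit 14) (nat_lit 1),
  Rule.mk (nat_lit 7) (nat_lit 46) (Steps.fwd (nat_lit 4096) (Steps.bwd (nat_lit 7) (Steps.bwd (nat_lit 2) Steps.nil))) (nat_lit 28) (nat_lit 3),
  Rule.mk (nat_lit 6) (nat_lit 46) (Steps.fwd (nat_lit 4096) (Steps.bwd (nat_lit 6) (Steps.bwd (nat_lit 2) Steps.nil))) (nat_lit 40) (nat_lit 2),
  Rule.mk (nat_lit 9) (nat_lit 46) (Steps.bwd (nat_lit 3) (Steps.fwd (nat_lit 18432) (Steps.bwd (nat_lit 2) Steps.nil))) (nat_lit 96) (nat_lit 3),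
  Rule.mk (nat_lit 8) (nat_lit 190) (Steps.bwd (nat_lit 4) (Steps.bwd (nat_lit 8) (Steps.bwd (nat_lit 4) (Steps.bwd (nat_lit 8) (Steps.bwd (nat_lit 4) (Steps.bwd (nat_lit 8) (Steps.bwd (nat_lit 4) (Steps.bwd (nat_lit 8) (Steps.bwd (nat_lit 4) (Steps.bwd (nat_lit 8) (Steps.fwd (nat_lit 8192) (Steps.bwd (nat_lit 8) (Steps.fwd (nat_lit 8192) (Steps.fwd (nat_lit 18432) (Steps.fwd (nat_lit 8192) Steps.nil))))))))))))))) (nat_lit 106) (nat_lit 1),
  Rule.mk (nat_lit 8) (nat_lit 190) (Steps.bwd (nat_lit 4) (Steps.bwd (nat_lit 8) (Steps.bwd (nat_lit 4) (Steps.bwd (nat_lit 8) (Steps.bwd (nat_lit 4) (Steps.bwd (nat_lit 8) (Steps.bwd (nat_lit 4) (Steps.bwd (nat_lit 8) (Steps.bwd (nat_lit 4) (Steps.bwd (nat_lit 8) (Steps.bwd (nat_lit 4) (Steps.fwd (nat_lit 18432) (Steps.fwd (nat_lit 8192) (Steps.bwd (nat_lit 8) (Steps.fwd (nat_lit 8192) Steps.nil))))))))))))))) (nat_lit 106) (nat_lit 1),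
  Rule.mk (nat_lit 5) (nat_lit 46) (Steps.bwd (nat_lit 4) (Steps.fwd (nat_lit 12288) (Steps.fwd (nat_lit 8192) Steps.nil))) (nat_lit 22) (nat_lit 2)]
noncomputable def R_4 : List (Rule) := [Rule.mk (nat_lit 7) (nat_lit 46) (Steps.bwd (nat_lit 4) (Steps.fwd (nat_lit 14336) (Steps.bwd (nat_lit 4) Steps.nil))) (nat_lit 30) (nat_lit 1),
  Rule.mk (nat_lit 6) (nat_lit 166) (Steps.bwd (nat_lit 1) (Steps.fwd (nat_lit 6144) (Steps.bwd (nat_lit 1) (Steps.fwd (nat_lit 12288) (Steps.fwd (nat_lit 2048) (Steps.bwd (nat_lit 2) (Steps.bwd (nat_lit 1) (Steps.bwd (nat_lit 6) (Steps.fwd (nat_lit 2048) (Steps.bwd (nat_lit 6) (Steps.fwd (nat_lit 10240) (Steps.fwd (nat_lit 6144) (Steps.bwd (nat_lit 1) Steps.nil))))))))))))) (nat_lit 34) (nat_lit 3),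
  Rule.mk (nat_lit 2) (nat_lit 46) (Steps.bwd (nat_lit 6) (Steps.bwd (nat_lit 3) (Steps.bwd (nat_lit 6) Steps.nil))) (nat_lit 40) (nat_lit 1),
  Rule.mk (nat_lit 8) (nat_lit 46) (Steps.bwd (nat_lit 6) (Steps.fwd (nat_lit 18432) (Steps.bwd (nat_lit 6) Steps.nil))) (nat_lit 102) (nat_lit 0),
  Rule.mk (nat_lit 9) (nat_lit 46) (Steps.bwd (nat_lit 6) (Steps.fwd (nat_lit 16384) (Steps.bwd (nat_lit 6) Steps.nil))) (nat_lit 103) (nat_lit 1),
  Rule.mk (nat_lit 2) (nat_lit 166) (Steps.bwd (nat_lit 1) (Steps.bwd (nat_lit 6) (Steps.bwd (nat_lit 1) (Steps.bwd (nat_lit 2) (Steps.bwd (nat_lit 1) (Steps.bwd (nat_lit 6) (Steps.bwd (nat_lit 1) (Steps.bwd (nat_lit 6) (Steps.fwd (nat_lit 10240) (Steps.fwd (nat_lit 6144) (Steps.fwd (nat_lit 2048) (Steps.fwd (nat_lit 12288) (Steps.fwd (nat_lit 2048) Steps.nil))))))))))))) (nat_lit 34) (nat_lit 5),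
  Rule.mk (nat_lit 0) (nat_lit 178) (Steps.bwd (nat_lit 1) (Steps.bwd (nat_lit 6) (Steps.bwd (nat_lit 1) (Steps.fwd (nat_lit 4096) (Steps.fwd (nat_lit 2048) (Steps.fwd (nat_lit 12288) (Steps.fwd (nat_lit 2048) (Steps.fwd (nat_lit 4096) (Steps.fwd (nat_lit 2048) (Steps.fwd (nat_lit 12288) (Steps.fwd (nat_lit 2048) (Steps.fwd (nat_lit 4096) (Steps.bwd (nat_lit 5) (Steps.fwd (nat_lit 12288) Steps.nil)))))))))))))) (nat_lit 35) (nat_lit 2),
  Rule.mk (nat_lit 2) (nat_lit 34) (Steps.bwd (nat_lit 0) (Steps.fwd (nat_lit 4096) Steps.nil)) (nat_lit 108) (nat_lit 0),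
  Rule.mk (nat_lit 2) (nat_lit 34) (Steps.bwd (nat_lit 2) (Steps.fwd (nat_lit 6144) Steps.nil)) (nat_lit 2) (nat_lit 0),
  Rule.mk (nat_lit 4) (nat_lit 46) (Steps.bwd (nat_lit 2) (Steps.bwd (nat_lit 4) (Steps.fwd (nat_lit 6144) Steps.nil))) (nat_lit 14) (nat_lit 1),
  Rule.mk (nat_lit 7) (nat_lit 46) (Steps.bwd (nat_lit 2) (Steps.fwd (nat_lit 14336) (Steps.fwd (nat_lit 4096) Steps.nil))) (nat_lit 28) (nat_lit 1),
  Rule.mk (nat_lit 5) (nat_lit 70) (Steps.fwd (nat_lit 14336) (Steps.bwd (nat_lit 1) (Steps.fwd (nat_lit 10240) (Steps.bwd (nat_lit 7) (Steps.fwd (nat_lit 2048) Steps.nil))))) (nat_lit 52) (nat_lit 2),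
  Rule.mk (nat_lit 4) (nat_lit 94) (Steps.bwd (nat_lit 1) (Steps.fwd (nat_lit 14336) (Steps.fwd (nat_lit 8192) (Steps.bwd (nat_lit 1) (Steps.fwd (nat_lit 8192) (Steps.bwd (nat_lit 7) (Steps.fwd (nat_lit 2048) Steps.nil))))))) (nat_lit 76) (nat_lit 2),
  Rule.mk (nat_lit 5) (nat_lit 70) (Steps.fwd (nat_lit 14336) (Steps.fwd (nat_lit 8192) (Steps.bwd (nat_lit 6) (Steps.fwd (nat_lit 14336) (Steps.bwd (nat_lit 4) Steps.nil))))) (nat_lit 66) (nat_lit 2),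
  Rule.mk (nat_lit 7) (nat_lit 70) (Steps.bwd (nat_lit 6) (Steps.bwd (nat_lit 4) (Steps.bwd (nat_lit 7) (Steps.fwd (nat_lit 10240) (Steps.fwd (nat_lit 8192) Steps.nil))))) (nat_lit 67) (nat_lit 1),
  Rule.mk (nat_lit 4) (nat_lit 46) (Steps.fwd (nat_lit 10240) (Steps.fwd (nat_lit 8192) (Steps.fwd (nat_lit 12288) Steps.nil))) (nat_lit 22) (nat_lit 1),
  Rule.mk (nat_lit 5) (nat_lit 46) (Steps.bwd (nat_lit 4) (Steps.bwd (nat_lit 6) (Steps.fwd (nat_lit 8192) Steps.nil))) (nat_lit 22) (nat_lit 2),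
  Rule.mk (nat_lit 2) (nat_lit 70) (Steps.bwd (nat_lit 1) (Steps.bwd (nat_lit 2) (Steps.fwd (nat_lit 2048) (Steps.fwd (nat_lit 6144) (Steps.bwd (nat_lit 1) Steps.nil))))) (nat_lit 12) (nat_lit 0),
  Rule.mk (nat_lit 2) (nat_lit 166) (Steps.bwd (nat_lit 1) (Steps.bwd (nat_lit 6) (Steps.bwd (nat_lit 1) (Steps.bwd (nat_lit 2) (Steps.bwd (nat_lit 1) (Steps.bwd (nat_lit 6) (Steps.fwd (nat_lit 2048) (Steps.fwd (nat_lit 12288) (Steps.bwd (nat_lit 5) (Steps.fwd (nat_lit 6144) (Steps.bwd (nat_lit 1) (Steps.fwd (nat_lit 12288) (Steps.fwd (nat_lit 2048) Steps.nil))))))))))))) (nat_lit 34) (nat_lit 5),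
  Rule.mk (nat_lit 6) (nat_lit 46) (Steps.fwd (nat_lit 4096) (Steps.fwd (nat_lit 12288) (Steps.bwd (nat_lit 2) Steps.nil))) (nat_lit 40) (nat_lit 2),
  Rule.mk (nat_lit 6) (nat_lit 166) (Steps.fwd (nat_lit 10240) (Steps.bwd (nat_lit 2) (Steps.bwd (nat_lit 1) (Steps.bwd (nat_lit 6) (Steps.fwd (nat_lit 2048) (Steps.fwd (nat_lit 6144) (Steps.bwd (nat_lit 1) (Steps.fwd (nat_lit 12288) (Steps.fwd (nat_lit 2048) (Steps.bwd (nat_lit 2) (Steps.bwd (nat_lit 1) (Steps.bwd (nat_lit 6) (Steps.bwd (nat_lit 1) Steps.nil))))))))))))) (nat_lit 34) (nat_lit 13),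
  Rule.mk (nat_lit 4) (nat_lit 46) (Steps.bwd (nat_lit 6) (Steps.fwd (nat_lit 8192) (Steps.bwd (nat_lit 5) Steps.nil))) (nat_lit 22) (nat_lit 3),
  Rule.mk (nat_lit 7) (nat_lit 46) (Steps.bwd (nat_lit 6) (Steps.bwd (nat_lit 7) (Steps.bwd (nat_lit 6) Steps.nil))) (nat_lit 48) (nat_lit 0),
  Rule.mk (nat_lit 4) (nat_lit 70) (Steps.bwd (nat_lit 2) (Steps.bwd (nat_lit 6) (Steps.fwd (nat_lit 8192) (Steps.bwd (nat_lit 2) (Steps.fwd (nat_lit 10240) Steps.nil))))) (nat_lit 58) (nat_lit 3),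
  Rule.mk (nat_lit 7) (nat_lit 70) (Steps.bwd (nat_lit 2) (Steps.bwd (nat_lit 6) (Steps.bwd (nat_lit 7) (Steps.fwd (nat_lit 4096) (Steps.bwd (nat_lit 6) Steps.nil))))) (nat_lit 62) (nat_lit 0),
  Rule.mk (nat_lit 7) (nat_lit 46) (Steps.bwd (nat_lit 6) (Steps.bwd (nat_lit 7) (Steps.fwd (nat_lit 12288) Steps.nil))) (nat_lit 48) (nat_lit 0),
  Rule.mk (nat_lit 5) (nat_lit 58) (Steps.bwd (nat_lit 6) (Steps.bwd (nat_lit 7) (Steps.bwd (nat_lit 5) (Steps.fwd (nat_lit 12288) Steps.nil)))) (nat_lit 25) (nat_lit 4),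
  Rule.mk (nat_lit 5) (nat_lit 46) (Steps.bwd (nat_lit 1) (Steps.bwd (nat_lit 5) (Steps.bwd (nat_lit 1) Steps.nil))) (nat_lit 18) (nat_lit 0),
  Rule.mk (nat_lit 7) (nat_lit 70) (Steps.bwd (nat_lit 5) (Steps.fwd (nat_lit 2048) (Steps.bwd (nat_lit 7) (Steps.bwd (nat_lit 5) (Steps.bwd (nat_lit 1) Steps.nil))))) (nat_lit 53) (nat_lit 1),
  Rule.mk (nat_lit 2) (nat_lit 166) (Steps.bwd (nat_lit 1) (Steps.bwd (nat_lit 6) (Steps.bwd (nat_lit 1) (Steps.bwd (nat_lit 2) (Steps.fwd (nat_lit 2048) (Steps.fwd (nat_lit 12288) (Steps.bwd (nat_lit 1) (Steps.bwd (nat_lit 6) (Steps.bwd (nat_lit 5) (Steps.fwd (nat_lit 6144) (Steps.bwd (nat_lit 1) (Steps.fwd (nat_lit 12288) (Steps.fwd (nat_lit 2048) Steps.nil))))))))))))) (nat_lit 34) (nat_lit 5),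
  Rule.mk (nat_lit 4) (nat_lit 46) (Steps.bwd (nat_lit 2) (Steps.bwd (nat_lit 4) (Steps.bwd (nat_lit 2) Steps.nil))) (nat_lit 14) (nat_lit 1),
  Rule.mk (nat_lit 7) (nat_lit 70) (Steps.bwd (nat_lit 2) (Steps.bwd (nat_lit 4) (Steps.bwd (nat_lit 7) (Steps.bwd (nat_lit 2) (Steps.bwd (nat_lit 4) Steps.nil))))) (nat_lit 56) (nat_lit 0),
  Rule.mk (nat_lit 4) (nat_lit 70) (Steps.bwd (nat_lit 2) (Steps.fwd (nat_lit 14336) (Steps.bwd (nat_lit 4) (Steps.bwd (nat_lit 2) (Steps.bwd (nat_lit 7) Steps.nil))))) (nat_lit 64) (nat_lit 0),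
  Rule.mk (nat_lit 5) (nat_lit 94) (Steps.bwd (nat_lit 2) (Steps.fwd (nat_lit 8192) (Steps.fwd (nat_lit 14336) (Steps.fwd (nat_lit 12288) (Steps.bwd (nat_lit 2) (Steps.bwd (nat_lit 4) (Steps.bwd (nat_lit 7) Steps.nil))))))) (nat_lit 80) (nat_lit 4),
  Rule.mk (nat_lit 2) (nat_lit 94) (Steps.bwd (nat_lit 5) (Steps.bwd (nat_lit 2) (Steps.fwd (nat_lit 14336) (Steps.fwd (nat_lit 12288) (Steps.bwd (nat_lit 2) (Steps.bwd (nat_lit 5) (Steps.fwd (nat_lit 12288) Steps.nil))))))) (nat_lit 84) (nat_lit 1),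
  Rule.mk (nat_lit 7) (nat_lit 70) (Steps.bwd (nat_lit 1) (Steps.bwd (nat_lit 5) (Steps.fwd (nat_lit 14336) (Steps.fwd (nat_lit 2048) (Steps.bwd (nat_lit 5) Steps.nil))))) (nat_lit 52) (nat_lit 0),
  Rule.mk (nat_lit 8) (nat_lit 190) (Steps.bwd (nat_lit 4) (Steps.bwd (nat_lit 8) (Steps.bwd (nat_lit 4) (Steps.bwd (nat_lit 8) (Steps.bwd (nat_lit 4) (Steps.bwd (nat_lit 8) (Steps.bwd (nat_lit 4) (Steps.bwd (nat_lit 8) (Steps.bwd (nat_lit 4) (Steps.bwd (nat_lit 8) (Steps.bwd (nat_lit 4) (Steps.fwd (nat_lit 18432) (Steps.bwd (nat_lit 4) (Steps.fwd (nat_lit 18432) (Steps.fwd (nat_lit 8192) Steps.nil))))))))))))))) (nat_lit 106) (nat_lit 1),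
  Rule.mk (nat_lit 8) (nat_lit 190) (Steps.bwd (nat_lit 4) (Steps.bwd (nat_lit 8) (Steps.bwd (nat_lit 4) (Steps.bwd (nat_lit 8) (Steps.bwd (nat_lit 4) (Steps.bwd (nat_lit 8) (Steps.bwd (nat_lit 4) (Steps.bwd (nat_lit 8) (Steps.bwd (nat_lit 4) (Steps.bwd (nat_lit 8) (Steps.fwd (nat_lit 8192) (Steps.fwd (nat_lit 18432) (Steps.fwd (nat_lit 8192) (Steps.bwd (nat_lit 8) (Steps.fwd (nat_lit 8192) Steps.nil))))))))))))))) (nat_lit 106) (nat_lit 1),
  Rule.mk (nat_lit 3) (nat_lit 34) (Steps.bwd (nat_lit 3) (Steps.bwd (nat_lit 3) Steps.nil)) (nat_lit 3) (nat_lit 0),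
  Rule.mk (nat_lit 8) (nat_lit 190) (Steps.bwd (nat_lit 4) (Steps.bwd (nat_lit 8) (Steps.bwd (nat_lit 4) (Steps.bwd (nat_lit 8) (Steps.bwd (nat_lit 4) (Steps.bwd (nat_lit 8) (Steps.bwd (nat_lit 4) (Steps.bwd (nat_lit 8) (Steps.bwd (nat_lit 4) (Steps.bwd (nat_lit 8) (Steps.bwd (nat_lit 4) (Steps.bwd (nat_lit 8) (Steps.bwd (nat_lit 4) (Steps.bwd (nat_lit 8) (Steps.bwd (nat_lit 4) Steps.nil))))))))))))))) (nat_lit 106) (nat_lit 1),
  Rule.mk (nat_lit 7) (nat_lit 58) (Steps.bwd (nat_lit 8) (Steps.bwd (nat_lit 5) (Steps.fwd (nat_lit 16384) (Steps.bwd (nat_lit 5) Steps.nil)))) (nat_lit 100) (nat_lit 0),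
  Rule.mk (nat_lit 8) (nat_lit 190) (Steps.bwd (nat_lit 4) (Steps.bwd (nat_lit 8) (Steps.bwd (nat_lit 4) (Steps.bwd (nat_lit 8) (Steps.bwd (nat_lit 4) (Steps.bwd (nat_lit 8) (Steps.bwd (nat_lit 4) (Steps.bwd (nat_lit 8) (Steps.bwd (nat_lit 4) (Steps.bwd (nat_lit 8) (Steps.bwd (nat_lit 4) (Steps.bwd (nat_lit 8) (Steps.bwd (nat_lit 4) (Steps.fwd (nat_lit 18432) (Steps.fwd (nat_lit 8192) Steps.nil))))))))))))))) (nat_lit 106) (nat_lit 1),
  Rule.mk (nat_lit 2) (nat_lit 70) (Steps.fwd (nat_lit 8192) (Steps.bwd (nat_lit 5) (Steps.bwd (nat_lit 2) (Steps.bwd (nat_lit 4) (Steps.bwd (nat_lit 6) Steps.nil))))) (nat_lit 54) (nat_lit 1),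
  Rule.mk (nat_lit 5) (nat_lit 70) (Steps.fwd (nat_lit 8192) (Steps.bwd (nat_lit 2) (Steps.bwd (nat_lit 6) (Steps.bwd (nat_lit 4) (Steps.bwd (nat_lit 2) Steps.nil))))) (nat_lit 58) (nat_lit 2),
  Rule.mk (nat_lit 2) (nat_lit 46) (Steps.bwd (nat_lit 7) (Steps.bwd (nat_lit 3) (Steps.fwd (nat_lit 14336) Steps.nil))) (nat_lit 28) (nat_lit 2),
  Rule.mk (nat_lit 3) (nat_lit 70) (Steps.fwd (nat_lit 8192) (Steps.bwd (nat_lit 7) (Steps.bwd (nat_lit 3) (Steps.bwd (nat_lit 4) (Steps.bwd (nat_lit 7) Steps.nil))))) (nat_lit 65) (nat_lit 0),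
  Rule.mk (nat_lit 9) (nat_lit 46) (Steps.bwd (nat_lit 2) (Steps.bwd (nat_lit 8) (Steps.bwd (nat_lit 3) Steps.nil))) (nat_lit 97) (nat_lit 0),
  Rule.mk (nat_lit 8) (nat_lit 190) (Steps.bwd (nat_lit 4) (Steps.bwd (nat_lit 8) (Steps.bwd (nat_lit 4) (Steps.bwd (nat_lit 8) (Steps.bwd (nat_lit 4) (Steps.bwd (nat_lit 8) (Steps.bwd (nat_lit 4) (Steps.bwd (nat_lit 8) (Steps.bwd (nat_lit 4) (Steps.bwd (nat_lit 8) (Steps.fwd (nat_lit 8192) (Steps.fwd (nat_lit 18432) (Steps.bwd (nat_lit 4) (Steps.fwd (nat_lit 18432) (Steps.fwd (nat_lit 8192) Steps.nil))))))))))))))) (nat_lit 106) (nat_lit 1),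
  Rule.mk (nat_lit 5) (nat_lit 70) (Steps.fwd (nat_lit 8192) (Steps.bwd (nat_lit 3) (Steps.fwd (nat_lit 12288) (Steps.bwd (nat_lit 4) (Steps.bwd (nat_lit 3) Steps.nil))))) (nat_lit 55) (nat_lit 4),
  Rule.mk (nat_lit 2) (nat_lit 70) (Steps.fwd (nat_lit 8192) (Steps.bwd (nat_lit 6) (Steps.fwd (nat_lit 6144) (Steps.fwd (nat_lit 8192) (Steps.bwd (nat_lit 5) Steps.nil))))) (nat_lit 54) (nat_lit 4),
  Rule.mk (nat_lit 3) (nat_lit 34) (Steps.fwd (nat_lit 4096) (Steps.bwd (nat_lit 3) Steps.nil)) (nat_lit 3) (nat_lit 0),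
  Rule.mk (nat_lit 6) (nat_lit 46) (Steps.bwd (nat_lit 2) (Steps.fwd (nat_lit 12288) (Steps.bwd (nat_lit 3) Steps.nil))) (nat_lit 40) (nat_lit 0),
  Rule.mk (nat_lit 5) (nat_lit 70) (Steps.fwd (nat_lit 8192) (Steps.bwd (nat_lit 2) (Steps.fwd (nat_lit 12288) (Steps.bwd (nat_lit 4) (Steps.fwd (nat_lit 6144) Steps.nil))))) (nat_lit 58) (nat_lit 2),
  Rule.mk (nat_lit 2) (nat_lit 46) (Steps.fwd (nat_lit 10240) (Steps.bwd (nat_lit 3) (Steps.bwd (nat_lit 5) Steps.nil))) (nat_lit 20) (nat_lit 1),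
  Rule.mk (nat_lit 3) (nat_lit 46) (Steps.bwd (nat_lit 4) (Steps.fwd (nat_lit 4096) (Steps.bwd (nat_lit 4) Steps.nil))) (nat_lit 15) (nat_lit 1),
  Rule.mk (nat_lit 6) (nat_lit 46) (Steps.bwd (nat_lit 3) (Steps.fwd (nat_lit 12288) (Steps.bwd (nat_lit 2) Steps.nil))) (nat_lit 40) (nat_lit 2),
  Rule.mk (nat_lit 5) (nat_lit 70) (Steps.bwd (nat_lit 2) (Steps.bwd (nat_lit 4) (Steps.fwd (nat_lit 12288) (Steps.bwd (nat_lit 2) (Steps.bwd (nat_lit 4) Steps.nil))))) (nat_lit 54) (nat_lit 3),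
  Rule.mk (nat_lit 4) (nat_lit 70) (Steps.bwd (nat_lit 2) (Steps.fwd (nat_lit 12288) (Steps.bwd (nat_lit 4) (Steps.bwd (nat_lit 2) (Steps.fwd (nat_lit 10240) Steps.nil))))) (nat_lit 58) (nat_lit 3),
  Rule.mk (nat_lit 7) (nat_lit 70) (Steps.bwd (nat_lit 3) (Steps.bwd (nat_lit 6) (Steps.bwd (nat_lit 7) (Steps.bwd (nat_lit 2) (Steps.bwd (nat_lit 6) Steps.nil))))) (nat_lit 62) (nat_lit 3),
  Rule.mk (nat_lit 6) (nat_lit 46) (Steps.bwd (nat_lit 7) (Steps.bwd (nat_lit 6) (Steps.bwd (nat_lit 7) Steps.nil))) (nat_lit 48) (nat_lit 1),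
  Rule.mk (nat_lit 1) (nat_lit 94) (Steps.bwd (nat_lit 2) (Steps.bwd (nat_lit 1) (Steps.fwd (nat_lit 14336) (Steps.bwd (nat_lit 2) (Steps.fwd (nat_lit 2048) (Steps.fwd (nat_lit 6144) (Steps.bwd (nat_lit 7) Steps.nil))))))) (nat_lit 72) (nat_lit 1),
  Rule.mk (nat_lit 7) (nat_lit 94) (Steps.bwd (nat_lit 2) (Steps.bwd (nat_lit 4) (Steps.bwd (nat_lit 6) (Steps.bwd (nat_lit 7) (Steps.bwd (nat_lit 2) (Steps.bwd (nat_lit 4) (Steps.bwd (nat_lit 5) Steps.nil))))))) (nat_lit 78) (nat_lit 4),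
  Rule.mk (nat_lit 4) (nat_lit 46) (Steps.fwd (nat_lit 14336) (Steps.fwd (nat_lit 8192) (Steps.bwd (nat_lit 7) Steps.nil))) (nat_lit 30) (nat_lit 0),
  Rule.mk (nat_lit 5) (nat_lit 46) (Steps.fwd (nat_lit 14336) (Steps.bwd (nat_lit 5) (Steps.bwd (nat_lit 7) Steps.nil))) (nat_lit 32) (nat_lit 0)]
noncomputable def R_5 : List (Rule) := [Rule.mk (nat_lit 6) (nat_lit 94) (Steps.bwd (nat_lit 5) (Steps.bwd (nat_lit 2) (Steps.bwd (nat_lit 6) (Steps.bwd (nat_lit 7) (Steps.bwd (nat_lit 2) (Steps.fwd (nat_lit 10240) (Steps.bwd (nat_lit 2) Steps.nil))))))) (nat_lit 82) (nat_lit 4),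
  Rule.mk (nat_lit 2) (nat_lit 46) (Steps.bwd (nat_lit 6) (Steps.fwd (nat_lit 4096) (Steps.bwd (nat_lit 6) Steps.nil))) (nat_lit 40) (nat_lit 1),
  Rule.mk (nat_lit 6) (nat_lit 58) (Steps.fwd (nat_lit 10240) (Steps.bwd (nat_lit 7) (Steps.bwd (nat_lit 6) (Steps.bwd (nat_lit 5) Steps.nil)))) (nat_lit 24) (nat_lit 3),
  Rule.mk (nat_lit 9) (nat_lit 46) (Steps.bwd (nat_lit 6) (Steps.bwd (nat_lit 9) (Steps.bwd (nat_lit 6) Steps.nil))) (nat_lit 103) (nat_lit 1),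
  Rule.mk (nat_lit 6) (nat_lit 94) (Steps.bwd (nat_lit 2) (Steps.fwd (nat_lit 10240) (Steps.fwd (nat_lit 12288) (Steps.bwd (nat_lit 2) (Steps.fwd (nat_lit 10240) (Steps.bwd (nat_lit 2) (Steps.fwd (nat_lit 14336) Steps.nil))))))) (nat_lit 84) (nat_lit 5),
  Rule.mk (nat_lit 1) (nat_lit 94) (Steps.bwd (nat_lit 7) (Steps.bwd (nat_lit 2) (Steps.bwd (nat_lit 1) (Steps.fwd (nat_lit 6144) (Steps.fwd (nat_lit 14336) (Steps.bwd (nat_lit 1) (Steps.bwd (nat_lit 2) Steps.nil))))))) (nat_lit 72) (nat_lit 3),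
  Rule.mk (nat_lit 7) (nat_lit 94) (Steps.bwd (nat_lit 2) (Steps.bwd (nat_lit 6) (Steps.bwd (nat_lit 4) (Steps.bwd (nat_lit 7) (Steps.bwd (nat_lit 2) (Steps.fwd (nat_lit 10240) (Steps.bwd (nat_lit 4) Steps.nil))))))) (nat_lit 86) (nat_lit 4),
  Rule.mk (nat_lit 4) (nat_lit 46) (Steps.fwd (nat_lit 14336) (Steps.bwd (nat_lit 4) (Steps.bwd (nat_lit 7) Steps.nil))) (nat_lit 30) (nat_lit 0),
  Rule.mk (nat_lit 6) (nat_lit 166) (Steps.bwd (nat_lit 1) (Steps.bwd (nat_lit 2) (Steps.bwd (nat_lit 1) (Steps.bwd (nat_lit 6) (Steps.bwd (nat_lit 1) (Steps.bwd (nat_lit 2) (Steps.bwd (nat_lit 1) (Steps.fwd (nat_lit 12288) (Steps.fwd (nat_lit 2048) (Steps.bwd (nat_lit 6) (Steps.fwd (nat_lit 10240) (Steps.bwd (nat_lit 2) (Steps.bwd (nat_lit 1) Steps.nil))))))))))))) (nat_lit 34) (nat_lit 3),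
  Rule.mk (nat_lit 2) (nat_lit 46) (Steps.fwd (nat_lit 12288) (Steps.fwd (nat_lit 4096) (Steps.bwd (nat_lit 6) Steps.nil))) (nat_lit 40) (nat_lit 1),
  Rule.mk (nat_lit 3) (nat_lit 46) (Steps.fwd (nat_lit 12288) (Steps.bwd (nat_lit 2) (Steps.bwd (nat_lit 6) Steps.nil))) (nat_lit 40) (nat_lit 3),
  Rule.mk (nat_lit 3) (nat_lit 166) (Steps.bwd (nat_lit 5) (Steps.bwd (nat_lit 6) (Steps.bwd (nat_lit 1) (Steps.fwd (nat_lit 12288) (Steps.fwd (nat_lit 2048) (Steps.fwd (nat_lit 4096) (Steps.bwd (nat_lit 1) (Steps.fwd (nat_lit 12288) (Steps.bwd (nat_lit 1) (Steps.fwd (nat_lit 4096) (Steps.bwd (nat_lit 1) (Steps.bwd (nat_lit 6) (Steps.bwd (nat_lit 1) Steps.nil))))))))))))) (nat_lit 35) (nat_lit 0),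
  Rule.mk (nat_lit 4) (nat_lit 70) (Steps.fwd (nat_lit 12288) (Steps.bwd (nat_lit 2) (Steps.fwd (nat_lit 8192) (Steps.fwd (nat_lit 10240) (Steps.fwd (nat_lit 6144) Steps.nil))))) (nat_lit 54) (nat_lit 5),
  Rule.mk (nat_lit 0) (nat_lit 82) (Steps.fwd (nat_lit 4096) (Steps.bwd (nat_lit 4) (Steps.fwd (nat_lit 12288) (Steps.fwd (nat_lit 4096) (Steps.bwd (nat_lit 4) (Steps.bwd (nat_lit 5) Steps.nil)))))) (nat_lit 59) (nat_lit 5),
  Rule.mk (nat_lit 5) (nat_lit 46) (Steps.bwd (nat_lit 2) (Steps.fwd (nat_lit 10240) (Steps.bwd (nat_lit 3) Steps.nil))) (nat_lit 20) (nat_lit 0),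
  Rule.mk (nat_lit 2) (nat_lit 70) (Steps.bwd (nat_lit 1) (Steps.fwd (nat_lit 6144) (Steps.bwd (nat_lit 1) (Steps.bwd (nat_lit 2) (Steps.fwd (nat_lit 2048) Steps.nil))))) (nat_lit 12) (nat_lit 0),
  Rule.mk (nat_lit 3) (nat_lit 94) (Steps.bwd (nat_lit 1) (Steps.bwd (nat_lit 2) (Steps.fwd (nat_lit 2048) (Steps.fwd (nat_lit 4096) (Steps.bwd (nat_lit 1) (Steps.bwd (nat_lit 2) (Steps.fwd (nat_lit 2048) Steps.nil))))))) (nat_lit 68) (nat_lit 0),
  Rule.mk (nat_lit 4) (nat_lit 46) (Steps.bwd (nat_lit 3) (Steps.fwd (nat_lit 8192) (Steps.fwd (nat_lit 4096) Steps.nil))) (nat_lit 15) (nat_lit 0),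
  Rule.mk (nat_lit 2) (nat_lit 46) (Steps.fwd (nat_lit 12288) (Steps.bwd (nat_lit 3) (Steps.bwd (nat_lit 6) Steps.nil))) (nat_lit 40) (nat_lit 1),
  Rule.mk (nat_lit 4) (nat_lit 70) (Steps.fwd (nat_lit 12288) (Steps.bwd (nat_lit 3) (Steps.fwd (nat_lit 8192) (Steps.bwd (nat_lit 5) (Steps.fwd (nat_lit 4096) Steps.nil))))) (nat_lit 59) (nat_lit 1),
  Rule.mk (nat_lit 7) (nat_lit 70) (Steps.fwd (nat_lit 12288) (Steps.bwd (nat_lit 3) (Steps.bwd (nat_lit 7) (Steps.fwd (nat_lit 12288) (Steps.bwd (nat_lit 2) Steps.nil))))) (nat_lit 63) (nat_lit 4),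
  Rule.mk (nat_lit 2) (nat_lit 46) (Steps.fwd (nat_lit 14336) (Steps.bwd (nat_lit 3) (Steps.bwd (nat_lit 7) Steps.nil))) (nat_lit 28) (nat_lit 2),
  Rule.mk (nat_lit 9) (nat_lit 70) (Steps.fwd (nat_lit 2048) (Steps.fwd (nat_lit 18432) (Steps.fwd (nat_lit 6144) (Steps.bwd (nat_lit 1) (Steps.bwd (nat_lit 3) Steps.nil))))) (nat_lit 104) (nat_lit 5),
  Rule.mk (nat_lit 8) (nat_lit 46) (Steps.fwd (nat_lit 14336) (Steps.bwd (nat_lit 9) (Steps.fwd (nat_lit 10240) Steps.nil))) (nat_lit 98) (nat_lit 1),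
  Rule.mk (nat_lit 9) (nat_lit 46) (Steps.fwd (nat_lit 12288) (Steps.bwd (nat_lit 9) (Steps.fwd (nat_lit 12288) Steps.nil))) (nat_lit 103) (nat_lit 1),
  Rule.mk (nat_lit 8) (nat_lit 58) (Steps.fwd (nat_lit 10240) (Steps.bwd (nat_lit 9) (Steps.fwd (nat_lit 10240) (Steps.bwd (nat_lit 7) Steps.nil)))) (nat_lit 100) (nat_lit 1),
  Rule.mk (nat_lit 9) (nat_lit 46) (Steps.bwd (nat_lit 5) (Steps.bwd (nat_lit 8) (Steps.fwd (nat_lit 14336) Steps.nil))) (nat_lit 98) (nat_lit 3),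
  Rule.mk (nat_lit 0) (nat_lit 82) (Steps.fwd (nat_lit 4096) (Steps.fwd (nat_lit 16384) (Steps.fwd (nat_lit 2048) (Steps.bwd (nat_lit 8) (Steps.bwd (nat_lit 2) (Steps.bwd (nat_lit 1) Steps.nil)))))) (nat_lit 104) (nat_lit 3),
  Rule.mk (nat_lit 0) (nat_lit 70) (Steps.bwd (nat_lit 9) (Steps.fwd (nat_lit 10240) (Steps.bwd (nat_lit 7) (Steps.fwd (nat_lit 18432) (Steps.bwd (nat_lit 5) Steps.nil))))) (nat_lit 100) (nat_lit 2),
  Rule.mk (nat_lit 2) (nat_lit 34) (Steps.bwd (nat_lit 0) (Steps.bwd (nat_lit 3) Steps.nil)) (nat_lit 108) (nat_lit 0),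
  Rule.mk (nat_lit 0) (nat_lit 46) (Steps.bwd (nat_lit 6) (Steps.fwd (nat_lit 0) (Steps.fwd (nat_lit 12288) Steps.nil))) (nat_lit 108) (nat_lit 0),
  Rule.mk (nat_lit 8) (nat_lit 34) (Steps.bwd (nat_lit 0) (Steps.bwd (nat_lit 9) Steps.nil)) (nat_lit 108) (nat_lit 0),
  Rule.mk (nat_lit 9) (nat_lit 34) (Steps.bwd (nat_lit 0) (Steps.fwd (nat_lit 18432) Steps.nil)) (nat_lit 108) (nat_lit 0),
  Rule.mk (nat_lit 0) (nat_lit 70) (Steps.fwd (nat_lit 16384) (Steps.fwd (nat_lit 14336) (Steps.fwd (nat_lit 10240) (Steps.bwd (nat_lit 8) (Steps.fwd (nat_lit 10240) Steps.nil))))) (nat_lit 101) (nat_lit 4),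
  Rule.mk (nat_lit 9) (nat_lit 70) (Steps.bwd (nat_lit 1) (Steps.bwd (nat_lit 8) (Steps.fwd (nat_lit 6144) (Steps.bwd (nat_lit 1) (Steps.fwd (nat_lit 4096) Steps.nil))))) (nat_lit 104) (nat_lit 5),
  Rule.mk (nat_lit 8) (nat_lit 46) (Steps.bwd (nat_lit 2) (Steps.bwd (nat_lit 9) (Steps.fwd (nat_lit 4096) Steps.nil))) (nat_lit 96) (nat_lit 1),
  Rule.mk (nat_lit 8) (nat_lit 58) (Steps.bwd (nat_lit 5) (Steps.bwd (nat_lit 9) (Steps.fwd (nat_lit 14336) (Steps.fwd (nat_lit 10240) Steps.nil)))) (nat_lit 101) (nat_lit 3),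
  Rule.mk (nat_lit 9) (nat_lit 70) (Steps.fwd (nat_lit 2048) (Steps.bwd (nat_lit 8) (Steps.bwd (nat_lit 2) (Steps.fwd (nat_lit 2048) (Steps.bwd (nat_lit 3) Steps.nil))))) (nat_lit 104) (nat_lit 5),
  Rule.mk (nat_lit 8) (nat_lit 58) (Steps.bwd (nat_lit 5) (Steps.bwd (nat_lit 9) (Steps.bwd (nat_lit 5) (Steps.bwd (nat_lit 7) Steps.nil)))) (nat_lit 100) (nat_lit 1),
  Rule.mk (nat_lit 8) (nat_lit 46) (Steps.fwd (nat_lit 12288) (Steps.bwd (nat_lit 8) (Steps.fwd (nat_lit 12288) Steps.nil))) (nat_lit 102) (nat_lit 0),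
  Rule.mk (nat_lit 8) (nat_lit 34) (Steps.fwd (nat_lit 18432) (Steps.bwd (nat_lit 8) Steps.nil)) (nat_lit 94) (nat_lit 0),
  Rule.mk (nat_lit 9) (nat_lit 46) (Steps.bwd (nat_lit 6) (Steps.bwd (nat_lit 9) (Steps.fwd (nat_lit 12288) Steps.nil))) (nat_lit 103) (nat_lit 1),
  Rule.mk (nat_lit 8) (nat_lit 58) (Steps.fwd (nat_lit 10240) (Steps.bwd (nat_lit 9) (Steps.bwd (nat_lit 5) (Steps.fwd (nat_lit 14336) Steps.nil)))) (nat_lit 100) (nat_lit 1),
  Rule.mk (nat_lit 4) (nat_lit 190) (Steps.bwd (nat_lit 8) (Steps.bwd (nat_lit 4) (Steps.bwd (nat_lit 8) (Steps.bwd (nat_lit 4) (Steps.bwd (nat_lit 8) (Steps.bwd (nat_lit 4) (Steps.bwd (nat_lit 8) (Steps.bwd (nat_lit 4) (Steps.bwd (nat_lit 8) (Steps.bwd (nat_lit 4) (Steps.bwd (nat_lit 8) (Steps.fwd (nat_lit 8192) (Steps.bwd (nat_lit 8) (Steps.bwd (nat_lit 4) (Steps.fwd (nat_lit 18432) Steps.nil))))))))))))))) (nat_lit 106) (nat_lit 0),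
  Rule.mk (nat_lit 3) (nat_lit 46) (Steps.bwd (nat_lit 4) (Steps.bwd (nat_lit 3) (Steps.bwd (nat_lit 4) Steps.nil))) (nat_lit 15) (nat_lit 1),
  Rule.mk (nat_lit 2) (nat_lit 46) (Steps.bwd (nat_lit 9) (Steps.fwd (nat_lit 4096) (Steps.fwd (nat_lit 18432) Steps.nil))) (nat_lit 96) (nat_lit 2),
  Rule.mk (nat_lit 1) (nat_lit 94) (Steps.bwd (nat_lit 2) (Steps.bwd (nat_lit 5) (Steps.fwd (nat_lit 2048) (Steps.bwd (nat_lit 2) (Steps.fwd (nat_lit 2048) (Steps.fwd (nat_lit 10240) (Steps.bwd (nat_lit 2) Steps.nil))))))) (nat_lit 70) (nat_lit 6),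
  Rule.mk (nat_lit 2) (nat_lit 70) (Steps.bwd (nat_lit 1) (Steps.bwd (nat_lit 2) (Steps.fwd (nat_lit 2048) (Steps.bwd (nat_lit 2) (Steps.fwd (nat_lit 2048) Steps.nil))))) (nat_lit 12) (nat_lit 0),
  Rule.mk (nat_lit 6) (nat_lit 46) (Steps.bwd (nat_lit 3) (Steps.bwd (nat_lit 6) (Steps.bwd (nat_lit 2) Steps.nil))) (nat_lit 40) (nat_lit 2),
  Rule.mk (nat_lit 7) (nat_lit 70) (Steps.bwd (nat_lit 3) (Steps.fwd (nat_lit 10240) (Steps.fwd (nat_lit 14336) (Steps.bwd (nat_lit 2) (Steps.bwd (nat_lit 5) Steps.nil))))) (nat_lit 60) (nat_lit 3),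
  Rule.mk (nat_lit 3) (nat_lit 70) (Steps.bwd (nat_lit 9) (Steps.bwd (nat_lit 1) (Steps.fwd (nat_lit 18432) (Steps.bwd (nat_lit 2) (Steps.bwd (nat_lit 1) Steps.nil))))) (nat_lit 104) (nat_lit 4),
  Rule.mk (nat_lit 7) (nat_lit 46) (Steps.fwd (nat_lit 6144) (Steps.bwd (nat_lit 7) (Steps.bwd (nat_lit 3) Steps.nil))) (nat_lit 28) (nat_lit 1),
  Rule.mk (nat_lit 6) (nat_lit 46) (Steps.fwd (nat_lit 6144) (Steps.fwd (nat_lit 12288) (Steps.bwd (nat_lit 3) Steps.nil))) (nat_lit 40) (nat_lit 0),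
  Rule.mk (nat_lit 3) (nat_lit 94) (Steps.bwd (nat_lit 1) (Steps.bwd (nat_lit 2) (Steps.fwd (nat_lit 2048) (Steps.fwd (nat_lit 4096) (Steps.fwd (nat_lit 2048) (Steps.bwd (nat_lit 2) (Steps.fwd (nat_lit 2048) Steps.nil))))))) (nat_lit 68) (nat_lit 0),
  Rule.mk (nat_lit 8) (nat_lit 46) (Steps.bwd (nat_lit 2) (Steps.bwd (nat_lit 9) (Steps.bwd (nat_lit 3) Steps.nil))) (nat_lit 96) (nat_lit 1),
  Rule.mk (nat_lit 5) (nat_lit 94) (Steps.bwd (nat_lit 3) (Steps.bwd (nat_lit 1) (Steps.fwd (nat_lit 4096) (Steps.fwd (nat_lit 10240) (Steps.fwd (nat_lit 2048) (Steps.bwd (nat_lit 3) (Steps.bwd (nat_lit 1) Steps.nil))))))) (nat_lit 71) (nat_lit 1),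
  Rule.mk (nat_lit 4) (nat_lit 94) (Steps.bwd (nat_lit 5) (Steps.bwd (nat_lit 7) (Steps.bwd (nat_lit 3) (Steps.fwd (nat_lit 8192) (Steps.bwd (nat_lit 6) (Steps.bwd (nat_lit 7) (Steps.bwd (nat_lit 3) Steps.nil))))))) (nat_lit 93) (nat_lit 5),
  Rule.mk (nat_lit 6) (nat_lit 166) (Steps.bwd (nat_lit 1) (Steps.fwd (nat_lit 4096) (Steps.fwd (nat_lit 10240) (Steps.fwd (nat_lit 12288) (Steps.bwd (nat_lit 1) (Steps.bwd (nat_lit 6) (Steps.fwd (nat_lit 2048) (Steps.fwd (nat_lit 4096) (Steps.bwd (nat_lit 1) (Steps.fwd (nat_lit 12288) (Steps.fwd (nat_lit 2048) (Steps.bwd (nat_lit 3) (Steps.bwd (nat_lit 1) Steps.nil))))))))))))) (nat_lit 35) (nat_lit 12),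
  Rule.mk (nat_lit 2) (nat_lit 94) (Steps.bwd (nat_lit 1) (Steps.bwd (nat_lit 2) (Steps.fwd (nat_lit 14336) (Steps.fwd (nat_lit 2048) (Steps.bwd (nat_lit 2) (Steps.fwd (nat_lit 2048) (Steps.fwd (nat_lit 14336) Steps.nil))))))) (nat_lit 72) (nat_lit 5),
  Rule.mk (nat_lit 6) (nat_lit 94) (Steps.bwd (nat_lit 2) (Steps.bwd (nat_lit 5) (Steps.fwd (nat_lit 12288) (Steps.bwd (nat_lit 2) (Steps.bwd (nat_lit 5) (Steps.bwd (nat_lit 2) (Steps.bwd (nat_lit 7) Steps.nil))))))) (nat_lit 84) (nat_lit 5),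
  Rule.mk (nat_lit 8) (nat_lit 46) (Steps.fwd (nat_lit 12288) (Steps.bwd (nat_lit 8) (Steps.bwd (nat_lit 6) Steps.nil))) (nat_lit 102) (nat_lit 0),
  Rule.mk (nat_lit 4) (nat_lit 190) (Steps.bwd (nat_lit 8) (Steps.bwd (nat_lit 4) (Steps.bwd (nat_lit 8) (Steps.bwd (nat_lit 4) (Steps.bwd (nat_lit 8) (Steps.bwd (nat_lit 4) (Steps.bwd (nat_lit 8) (Steps.bwd (nat_lit 4) (Steps.bwd (nat_lit 8) (Steps.bwd (nat_lit 4) (Steps.bwd (nat_lit 8) (Steps.bwd (nat_lit 4) (Steps.bwd (nat_lit 8) (Steps.fwd (nat_lit 8192) (Steps.fwd (nat_lit 18432) Steps.nil))))))))))))))) (nat_lit 106) (nat_lit 0),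
  Rule.mk (nat_lit 1) (nat_lit 94) (Steps.fwd (nat_lit 8192) (Steps.bwd (nat_lit 7) (Steps.fwd (nat_lit 2048) (Steps.bwd (nat_lit 4) (Steps.fwd (nat_lit 2048) (Steps.bwd (nat_lit 7) (Steps.bwd (nat_lit 4) Steps.nil))))))) (nat_lit 76) (nat_lit 6),
  Rule.mk (nat_lit 5) (nat_lit 46) (Steps.bwd (nat_lit 4) (Steps.bwd (nat_lit 6) (Steps.bwd (nat_lit 4) Steps.nil))) (nat_lit 22) (nat_lit 2)]
noncomputable def R_6 : List (Rule) := [Rule.mk (nat_lit 4) (nat_lit 190) (Steps.bwd (nat_lit 8) (Steps.bwd (nat_lit 4) (Steps.bwd (nat_lit 8) (Steps.bwd (nat_lit 4) (Steps.bwd (nat_lit 8) (Steps.bwd (nat_lit 4) (Steps.bwd (nat_lit 8) (Steps.bwd (nat_lit 4) (Steps.bwd (nat_lit 8) (Steps.bwd (nat_lit 4) (Steps.bwd (nat_lit 8) (Steps.bwd (nat_lit 4) (Steps.bwd (nat_lit 8) (Steps.bwd (nat_lit 4) (Steps.fwd (nat_lit 18432) Steps.nil))))))))))))))) (nat_lit 106) (nat_lit 0),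
  Rule.mk (nat_lit 5) (nat_lit 70) (Steps.fwd (nat_lit 4096) (Steps.fwd (nat_lit 8192) (Steps.bwd (nat_lit 6) (Steps.bwd (nat_lit 3) (Steps.bwd (nat_lit 4) Steps.nil))))) (nat_lit 59) (nat_lit 5),
  Rule.mk (nat_lit 3) (nat_lit 46) (Steps.bwd (nat_lit 5) (Steps.bwd (nat_lit 2) (Steps.bwd (nat_lit 5) Steps.nil))) (nat_lit 20) (nat_lit 3),
  Rule.mk (nat_lit 3) (nat_lit 46) (Steps.bwd (nat_lit 7) (Steps.fwd (nat_lit 6144) (Steps.bwd (nat_lit 7) Steps.nil))) (nat_lit 28) (nat_lit 0),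
  Rule.mk (nat_lit 3) (nat_lit 70) (Steps.fwd (nat_lit 14336) (Steps.fwd (nat_lit 8192) (Steps.bwd (nat_lit 3) (Steps.bwd (nat_lit 7) (Steps.bwd (nat_lit 4) Steps.nil))))) (nat_lit 57) (nat_lit 0),
  Rule.mk (nat_lit 2) (nat_lit 70) (Steps.fwd (nat_lit 14336) (Steps.fwd (nat_lit 8192) (Steps.fwd (nat_lit 6144) (Steps.bwd (nat_lit 7) (Steps.bwd (nat_lit 4) Steps.nil))))) (nat_lit 64) (nat_lit 1),
  Rule.mk (nat_lit 6) (nat_lit 70) (Steps.fwd (nat_lit 14336) (Steps.bwd (nat_lit 4) (Steps.bwd (nat_lit 5) (Steps.bwd (nat_lit 7) (Steps.bwd (nat_lit 4) Steps.nil))))) (nat_lit 66) (nat_lit 5),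
  Rule.mk (nat_lit 7) (nat_lit 46) (Steps.bwd (nat_lit 9) (Steps.fwd (nat_lit 10240) (Steps.bwd (nat_lit 8) Steps.nil))) (nat_lit 98) (nat_lit 2),
  Rule.mk (nat_lit 2) (nat_lit 46) (Steps.fwd (nat_lit 14336) (Steps.fwd (nat_lit 4096) (Steps.bwd (nat_lit 7) Steps.nil))) (nat_lit 28) (nat_lit 2),
  Rule.mk (nat_lit 6) (nat_lit 58) (Steps.fwd (nat_lit 10240) (Steps.fwd (nat_lit 12288) (Steps.bwd (nat_lit 5) (Steps.bwd (nat_lit 7) Steps.nil)))) (nat_lit 24) (nat_lit 1),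
  Rule.mk (nat_lit 2) (nat_lit 94) (Steps.bwd (nat_lit 1) (Steps.bwd (nat_lit 2) (Steps.bwd (nat_lit 5) (Steps.bwd (nat_lit 1) (Steps.bwd (nat_lit 2) (Steps.bwd (nat_lit 1) (Steps.fwd (nat_lit 10240) Steps.nil))))))) (nat_lit 70) (nat_lit 5),
  Rule.mk (nat_lit 3) (nat_lit 46) (Steps.bwd (nat_lit 9) (Steps.bwd (nat_lit 2) (Steps.bwd (nat_lit 8) Steps.nil))) (nat_lit 97) (nat_lit 3),
  Rule.mk (nat_lit 4) (nat_lit 190) (Steps.bwd (nat_lit 8) (Steps.bwd (nat_lit 4) (Steps.bwd (nat_lit 8) (Steps.bwd (nat_lit 4) (Steps.bwd (nat_lit 8) (Steps.bwd (nat_lit 4) (Steps.bwd (nat_lit 8) (Steps.bwd (nat_lit 4) (Steps.bwd (nat_lit 8) (Steps.fwd (nat_lit 8192) (Steps.fwd (nat_lit 18432) (Steps.bwd (nat_lit 4) (Steps.fwd (nat_lit 18432) (Steps.bwd (nat_lit 4) (Steps.bwd (nat_lit 8) Steps.nil))))))))))))))) (nat_lit 106) (nat_lit 0),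
  Rule.mk (nat_lit 6) (nat_lit 46) (Steps.bwd (nat_lit 8) (Steps.bwd (nat_lit 6) (Steps.fwd (nat_lit 18432) Steps.nil))) (nat_lit 102) (nat_lit 1),
  Rule.mk (nat_lit 1) (nat_lit 70) (Steps.bwd (nat_lit 2) (Steps.fwd (nat_lit 2048) (Steps.bwd (nat_lit 2) (Steps.fwd (nat_lit 2048) (Steps.bwd (nat_lit 2) Steps.nil))))) (nat_lit 12) (nat_lit 1),
  Rule.mk (nat_lit 5) (nat_lit 46) (Steps.fwd (nat_lit 6144) (Steps.fwd (nat_lit 10240) (Steps.bwd (nat_lit 3) Steps.nil))) (nat_lit 20) (nat_lit 0),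
  Rule.mk (nat_lit 8) (nat_lit 46) (Steps.bwd (nat_lit 2) (Steps.fwd (nat_lit 16384) (Steps.bwd (nat_lit 3) Steps.nil))) (nat_lit 96) (nat_lit 1),
  Rule.mk (nat_lit 4) (nat_lit 190) (Steps.bwd (nat_lit 8) (Steps.bwd (nat_lit 4) (Steps.bwd (nat_lit 8) (Steps.bwd (nat_lit 4) (Steps.bwd (nat_lit 8) (Steps.bwd (nat_lit 4) (Steps.bwd (nat_lit 8) (Steps.bwd (nat_lit 4) (Steps.bwd (nat_lit 8) (Steps.bwd (nat_lit 4) (Steps.bwd (nat_lit 8) (Steps.bwd (nat_lit 4) (Steps.fwd (nat_lit 18432) (Steps.bwd (nat_lit 4) (Steps.fwd (nat_lit 18432) Steps.nil))))))))))))))) (nat_lit 106) (nat_lit 0),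
  Rule.mk (nat_lit 6) (nat_lit 70) (Steps.bwd (nat_lit 7) (Steps.bwd (nat_lit 4) (Steps.bwd (nat_lit 5) (Steps.bwd (nat_lit 7) (Steps.fwd (nat_lit 8192) Steps.nil))))) (nat_lit 66) (nat_lit 5),
  Rule.mk (nat_lit 4) (nat_lit 190) (Steps.bwd (nat_lit 8) (Steps.bwd (nat_lit 4) (Steps.bwd (nat_lit 8) (Steps.bwd (nat_lit 4) (Steps.bwd (nat_lit 8) (Steps.bwd (nat_lit 4) (Steps.bwd (nat_lit 8) (Steps.bwd (nat_lit 4) (Steps.bwd (nat_lit 8) (Steps.bwd (nat_lit 4) (Steps.fwd (nat_lit 18432) (Steps.bwd (nat_lit 4) (Steps.bwd (nat_lit 8) (Steps.fwd (nat_lit 8192) (Steps.bwd (nat_lit 8) Steps.nil))))))))))))))) (nat_lit 106) (nat_lit 0),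
  Rule.mk (nat_lit 7) (nat_lit 46) (Steps.bwd (nat_lit 4) (Steps.bwd (nat_lit 7) (Steps.bwd (nat_lit 4) Steps.nil))) (nat_lit 30) (nat_lit 1),
  Rule.mk (nat_lit 1) (nat_lit 70) (Steps.bwd (nat_lit 4) (Steps.fwd (nat_lit 2048) (Steps.fwd (nat_lit 8192) (Steps.bwd (nat_lit 1) (Steps.bwd (nat_lit 4) Steps.nil))))) (nat_lit 16) (nat_lit 1),
  Rule.mk (nat_lit 7) (nat_lit 70) (Steps.bwd (nat_lit 4) (Steps.fwd (nat_lit 12288) (Steps.bwd (nat_lit 7) (Steps.bwd (nat_lit 4) (Steps.bwd (nat_lit 5) Steps.nil))))) (nat_lit 66) (nat_lit 3),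
  Rule.mk (nat_lit 5) (nat_lit 70) (Steps.bwd (nat_lit 4) (Steps.bwd (nat_lit 7) (Steps.fwd (nat_lit 12288) (Steps.bwd (nat_lit 4) (Steps.bwd (nat_lit 7) Steps.nil))))) (nat_lit 67) (nat_lit 5),
  Rule.mk (nat_lit 2) (nat_lit 94) (Steps.bwd (nat_lit 4) (Steps.fwd (nat_lit 12288) (Steps.bwd (nat_lit 7) (Steps.bwd (nat_lit 2) (Steps.bwd (nat_lit 4) (Steps.bwd (nat_lit 5) (Steps.bwd (nat_lit 7) Steps.nil))))))) (nat_lit 78) (nat_lit 5),
  Rule.mk (nat_lit 5) (nat_lit 46) (Steps.bwd (nat_lit 2) (Steps.bwd (nat_lit 5) (Steps.bwd (nat_lit 3) Steps.nil))) (nat_lit 20) (nat_lit 0),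
  Rule.mk (nat_lit 6) (nat_lit 70) (Steps.fwd (nat_lit 4096) (Steps.bwd (nat_lit 4) (Steps.bwd (nat_lit 5) (Steps.bwd (nat_lit 3) (Steps.fwd (nat_lit 8192) Steps.nil))))) (nat_lit 59) (nat_lit 2),
  Rule.mk (nat_lit 4) (nat_lit 190) (Steps.bwd (nat_lit 8) (Steps.bwd (nat_lit 4) (Steps.bwd (nat_lit 8) (Steps.bwd (nat_lit 4) (Steps.bwd (nat_lit 8) (Steps.bwd (nat_lit 4) (Steps.bwd (nat_lit 8) (Steps.bwd (nat_lit 4) (Steps.bwd (nat_lit 8) (Steps.bwd (nat_lit 4) (Steps.bwd (nat_lit 8) (Steps.bwd (nat_lit 4) (Steps.fwd (nat_lit 18432) (Steps.fwd (nat_lit 8192) (Steps.fwd (nat_lit 18432) Steps.nil))))))))))))))) (nat_lit 106) (nat_lit 0),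
  Rule.mk (nat_lit 5) (nat_lit 70) (Steps.bwd (nat_lit 3) (Steps.fwd (nat_lit 8192) (Steps.fwd (nat_lit 12288) (Steps.bwd (nat_lit 3) (Steps.bwd (nat_lit 4) Steps.nil))))) (nat_lit 59) (nat_lit 5),
  Rule.mk (nat_lit 3) (nat_lit 70) (Steps.bwd (nat_lit 7) (Steps.fwd (nat_lit 8192) (Steps.fwd (nat_lit 4096) (Steps.bwd (nat_lit 7) (Steps.bwd (nat_lit 4) Steps.nil))))) (nat_lit 57) (nat_lit 0),
  Rule.mk (nat_lit 2) (nat_lit 70) (Steps.fwd (nat_lit 14336) (Steps.fwd (nat_lit 8192) (Steps.bwd (nat_lit 2) (Steps.bwd (nat_lit 7) (Steps.bwd (nat_lit 4) Steps.nil))))) (nat_lit 64) (nat_lit 1),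
  Rule.mk (nat_lit 1) (nat_lit 94) (Steps.bwd (nat_lit 4) (Steps.fwd (nat_lit 2048) (Steps.fwd (nat_lit 12288) (Steps.bwd (nat_lit 1) (Steps.bwd (nat_lit 4) (Steps.bwd (nat_lit 1) (Steps.fwd (nat_lit 12288) Steps.nil))))))) (nat_lit 74) (nat_lit 1),
  Rule.mk (nat_lit 2) (nat_lit 46) (Steps.bwd (nat_lit 4) (Steps.bwd (nat_lit 2) (Steps.bwd (nat_lit 4) Steps.nil))) (nat_lit 14) (nat_lit 0),
  Rule.mk (nat_lit 3) (nat_lit 46) (Steps.fwd (nat_lit 8192) (Steps.fwd (nat_lit 4096) (Steps.bwd (nat_lit 4) Steps.nil))) (nat_lit 15) (nat_lit 1),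
  Rule.mk (nat_lit 8) (nat_lit 46) (Steps.bwd (nat_lit 2) (Steps.fwd (nat_lit 16384) (Steps.fwd (nat_lit 4096) Steps.nil))) (nat_lit 96) (nat_lit 1),
  Rule.mk (nat_lit 1) (nat_lit 70) (Steps.bwd (nat_lit 2) (Steps.bwd (nat_lit 1) (Steps.bwd (nat_lit 2) (Steps.fwd (nat_lit 2048) (Steps.fwd (nat_lit 6144) Steps.nil))))) (nat_lit 12) (nat_lit 1),
  Rule.mk (nat_lit 3) (nat_lit 46) (Steps.fwd (nat_lit 16384) (Steps.fwd (nat_lit 6144) (Steps.bwd (nat_lit 8) Steps.nil))) (nat_lit 97) (nat_lit 3),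
  Rule.mk (nat_lit 1) (nat_lit 70) (Steps.bwd (nat_lit 3) (Steps.fwd (nat_lit 16384) (Steps.bwd (nat_lit 1) (Steps.bwd (nat_lit 8) (Steps.fwd (nat_lit 6144) Steps.nil))))) (nat_lit 104) (nat_lit 3),
  Rule.mk (nat_lit 0) (nat_lit 58) (Steps.fwd (nat_lit 16384) (Steps.fwd (nat_lit 6144) (Steps.bwd (nat_lit 8) (Steps.fwd (nat_lit 4096) Steps.nil)))) (nat_lit 97) (nat_lit 3),
  Rule.mk (nat_lit 1) (nat_lit 94) (Steps.bwd (nat_lit 2) (Steps.fwd (nat_lit 2048) (Steps.fwd (nat_lit 4096) (Steps.fwd (nat_lit 2048) (Steps.fwd (nat_lit 6144) (Steps.bwd (nat_lit 1) (Steps.bwd (nat_lit 3) Steps.nil))))))) (nat_lit 68) (nat_lit 1),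
  Rule.mk (nat_lit 7) (nat_lit 46) (Steps.bwd (nat_lit 4) (Steps.fwd (nat_lit 14336) (Steps.fwd (nat_lit 8192) Steps.nil))) (nat_lit 30) (nat_lit 1),
  Rule.mk (nat_lit 1) (nat_lit 70) (Steps.bwd (nat_lit 4) (Steps.bwd (nat_lit 1) (Steps.fwd (nat_lit 8192) (Steps.fwd (nat_lit 2048) (Steps.bwd (nat_lit 4) Steps.nil))))) (nat_lit 16) (nat_lit 1),
  Rule.mk (nat_lit 1) (nat_lit 70) (Steps.bwd (nat_lit 3) (Steps.fwd (nat_lit 16384) (Steps.bwd (nat_lit 1) (Steps.bwd (nat_lit 8) (Steps.bwd (nat_lit 2) Steps.nil))))) (nat_lit 104) (nat_lit 3),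
  Rule.mk (nat_lit 1) (nat_lit 70) (Steps.bwd (nat_lit 4) (Steps.fwd (nat_lit 2048) (Steps.bwd (nat_lit 4) (Steps.fwd (nat_lit 2048) (Steps.fwd (nat_lit 8192) Steps.nil))))) (nat_lit 16) (nat_lit 1),
  Rule.mk (nat_lit 7) (nat_lit 46) (Steps.fwd (nat_lit 10240) (Steps.bwd (nat_lit 7) (Steps.bwd (nat_lit 5) Steps.nil))) (nat_lit 32) (nat_lit 1),
  Rule.mk (nat_lit 2) (nat_lit 70) (Steps.fwd (nat_lit 12288) (Steps.fwd (nat_lit 8192) (Steps.fwd (nat_lit 6144) (Steps.bwd (nat_lit 5) (Steps.bwd (nat_lit 4) Steps.nil))))) (nat_lit 58) (nat_lit 4),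
  Rule.mk (nat_lit 7) (nat_lit 70) (Steps.fwd (nat_lit 12288) (Steps.bwd (nat_lit 4) (Steps.bwd (nat_lit 7) (Steps.bwd (nat_lit 5) (Steps.bwd (nat_lit 4) Steps.nil))))) (nat_lit 67) (nat_lit 1),
  Rule.mk (nat_lit 5) (nat_lit 58) (Steps.bwd (nat_lit 6) (Steps.bwd (nat_lit 5) (Steps.fwd (nat_lit 14336) (Steps.fwd (nat_lit 12288) Steps.nil)))) (nat_lit 24) (nat_lit 2),
  Rule.mk (nat_lit 5) (nat_lit 70) (Steps.bwd (nat_lit 2) (Steps.bwd (nat_lit 4) (Steps.bwd (nat_lit 6) (Steps.fwd (nat_lit 6144) (Steps.fwd (nat_lit 8192) Steps.nil))))) (nat_lit 54) (nat_lit 3),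
  Rule.mk (nat_lit 4) (nat_lit 46) (Steps.fwd (nat_lit 12288) (Steps.fwd (nat_lit 8192) (Steps.bwd (nat_lit 5) Steps.nil))) (nat_lit 22) (nat_lit 3),
  Rule.mk (nat_lit 2) (nat_lit 70) (Steps.bwd (nat_lit 1) (Steps.bwd (nat_lit 2) (Steps.bwd (nat_lit 1) (Steps.bwd (nat_lit 2) (Steps.bwd (nat_lit 1) Steps.nil))))) (nat_lit 12) (nat_lit 0),
  Rule.mk (nat_lit 9) (nat_lit 70) (Steps.bwd (nat_lit 1) (Steps.bwd (nat_lit 8) (Steps.fwd (nat_lit 6144) (Steps.fwd (nat_lit 2048) (Steps.fwd (nat_lit 4096) Steps.nil))))) (nat_lit 104) (nat_lit 5),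
  Rule.mk (nat_lit 6) (nat_lit 46) (Steps.bwd (nat_lit 9) (Steps.fwd (nat_lit 12288) (Steps.bwd (nat_lit 9) Steps.nil))) (nat_lit 103) (nat_lit 0),
  Rule.mk (nat_lit 3) (nat_lit 70) (Steps.bwd (nat_lit 4) (Steps.bwd (nat_lit 6) (Steps.fwd (nat_lit 4096) (Steps.bwd (nat_lit 4) (Steps.bwd (nat_lit 5) Steps.nil))))) (nat_lit 59) (nat_lit 0),
  Rule.mk (nat_lit 7) (nat_lit 94) (Steps.bwd (nat_lit 2) (Steps.bwd (nat_lit 4) (Steps.fwd (nat_lit 12288) (Steps.fwd (nat_lit 14336) (Steps.fwd (nat_lit 6144) (Steps.fwd (nat_lit 8192) (Steps.bwd (nat_lit 5) Steps.nil))))))) (nat_lit 78) (nat_lit 4),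
  Rule.mk (nat_lit 4) (nat_lit 46) (Steps.bwd (nat_lit 7) (Steps.fwd (nat_lit 8192) (Steps.bwd (nat_lit 7) Steps.nil))) (nat_lit 30) (nat_lit 0),
  Rule.mk (nat_lit 6) (nat_lit 94) (Steps.bwd (nat_lit 5) (Steps.bwd (nat_lit 2) (Steps.fwd (nat_lit 12288) (Steps.fwd (nat_lit 14336) (Steps.fwd (nat_lit 6144) (Steps.bwd (nat_lit 5) (Steps.bwd (nat_lit 2) Steps.nil))))))) (nat_lit 82) (nat_lit 4),
  Rule.mk (nat_lit 8) (nat_lit 46) (Steps.fwd (nat_lit 12288) (Steps.fwd (nat_lit 18432) (Steps.bwd (nat_lit 6) Steps.nil))) (nat_lit 102) (nat_lit 0),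
  Rule.mk (nat_lit 3) (nat_lit 94) (Steps.bwd (nat_lit 6) (Steps.bwd (nat_lit 7) (Steps.bwd (nat_lit 3) (Steps.bwd (nat_lit 5) (Steps.fwd (nat_lit 4096) (Steps.bwd (nat_lit 6) (Steps.bwd (nat_lit 5) Steps.nil))))))) (nat_lit 85) (nat_lit 3),
  Rule.mk (nat_lit 1) (nat_lit 70) (Steps.bwd (nat_lit 3) (Steps.fwd (nat_lit 2048) (Steps.fwd (nat_lit 4096) (Steps.bwd (nat_lit 1) (Steps.bwd (nat_lit 3) Steps.nil))))) (nat_lit 13) (nat_lit 0),
  Rule.mk (nat_lit 6) (nat_lit 94) (Steps.bwd (nat_lit 2) (Steps.fwd (nat_lit 10240) (Steps.bwd (nat_lit 6) (Steps.fwd (nat_lit 6144) (Steps.bwd (nat_lit 5) (Steps.bwd (nat_lit 2) (Steps.bwd (nat_lit 7) Steps.nil))))))) (nat_lit 84) (nat_lit 5),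
  Rule.mk (nat_lit 1) (nat_lit 166) (Steps.bwd (nat_lit 2) (Steps.bwd (nat_lit 1) (Steps.bwd (nat_lit 6) (Steps.fwd (nat_lit 2048) (Steps.bwd (nat_lit 2) (Steps.bwd (nat_lit 1) (Steps.bwd (nat_lit 6) (Steps.bwd (nat_lit 1) (Steps.bwd (nat_lit 6) (Steps.bwd (nat_lit 5) (Steps.bwd (nat_lit 2) (Steps.fwd (nat_lit 2048) (Steps.bwd (nat_lit 6) Steps.nil))))))))))))) (nat_lit 34) (nat_lit 4),
  Rule.mk (nat_lit 1) (nat_lit 166) (Steps.bwd (nat_lit 6) (Steps.bwd (nat_lit 1) (Steps.fwd (nat_lit 12288) (Steps.fwd (nat_lit 10240) (Steps.fwd (nat_lit 6144) (Steps.fwd (nat_lit 2048) (Steps.fwd (nat_lit 12288) (Steps.bwd (nat_lit 1) (Steps.bwd (nat_lit 2) (Steps.bwd (nat_lit 1) (Steps.fwd (nat_lit 12288) (Steps.fwd (nat_lit 2048) (Steps.fwd (nat_lit 6144) Steps.nil))))))))))))) (nat_lit 34) (nat_lit 10),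
  Rule.mk (nat_lit 7) (nat_lit 46) (Steps.bwd (nat_lit 1) (Steps.fwd (nat_lit 14336) (Steps.bwd (nat_lit 1) Steps.nil))) (nat_lit 26) (nat_lit 1)]
noncomputable def R_7 : List (Rule) := [Rule.mk (nat_lit 3) (nat_lit 70) (Steps.bwd (nat_lit 1) (Steps.fwd (nat_lit 4096) (Steps.bwd (nat_lit 1) (Steps.fwd (nat_lit 4096) (Steps.bwd (nat_lit 1) Steps.nil))))) (nat_lit 13) (nat_lit 1),
  Rule.mk (nat_lit 8) (nat_lit 70) (Steps.bwd (nat_lit 2) (Steps.fwd (nat_lit 2048) (Steps.bwd (nat_lit 3) (Steps.fwd (nat_lit 16384) (Steps.bwd (nat_lit 1) Steps.nil))))) (nat_lit 104) (nat_lit 1),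
  Rule.mk (nat_lit 5) (nat_lit 58) (Steps.bwd (nat_lit 7) (Steps.fwd (nat_lit 12288) (Steps.bwd (nat_lit 5) (Steps.bwd (nat_lit 6) Steps.nil)))) (nat_lit 24) (nat_lit 4),
  Rule.mk (nat_lit 1) (nat_lit 166) (Steps.fwd (nat_lit 6144) (Steps.bwd (nat_lit 1) (Steps.fwd (nat_lit 12288) (Steps.fwd (nat_lit 2048) (Steps.fwd (nat_lit 12288) (Steps.fwd (nat_lit 10240) (Steps.bwd (nat_lit 2) (Steps.bwd (nat_lit 1) (Steps.bwd (nat_lit 6) (Steps.fwd (nat_lit 2048) (Steps.bwd (nat_lit 2) (Steps.fwd (nat_lit 2048) (Steps.bwd (nat_lit 6) Steps.nil))))))))))))) (nat_lit 34) (nat_lit 8),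
  Rule.mk (nat_lit 3) (nat_lit 46) (Steps.fwd (nat_lit 10240) (Steps.fwd (nat_lit 6144) (Steps.bwd (nat_lit 5) Steps.nil))) (nat_lit 20) (nat_lit 3),
  Rule.mk (nat_lit 7) (nat_lit 94) (Steps.bwd (nat_lit 2) (Steps.fwd (nat_lit 12288) (Steps.bwd (nat_lit 4) (Steps.bwd (nat_lit 7) (Steps.bwd (nat_lit 2) (Steps.fwd (nat_lit 10240) (Steps.bwd (nat_lit 4) Steps.nil))))))) (nat_lit 86) (nat_lit 4),
  Rule.mk (nat_lit 3) (nat_lit 46) (Steps.fwd (nat_lit 14336) (Steps.fwd (nat_lit 6144) (Steps.bwd (nat_lit 7) Steps.nil))) (nat_lit 28) (nat_lit 0),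
  Rule.mk (nat_lit 2) (nat_lit 166) (Steps.bwd (nat_lit 1) (Steps.bwd (nat_lit 6) (Steps.bwd (nat_lit 1) (Steps.bwd (nat_lit 2) (Steps.bwd (nat_lit 1) (Steps.bwd (nat_lit 6) (Steps.fwd (nat_lit 2048) (Steps.fwd (nat_lit 12288) (Steps.fwd (nat_lit 10240) (Steps.bwd (nat_lit 2) (Steps.bwd (nat_lit 1) (Steps.fwd (nat_lit 12288) (Steps.fwd (nat_lit 2048) Steps.nil))))))))))))) (nat_lit 34) (nat_lit 5),
  Rule.mk (nat_lit 9) (nat_lit 46) (Steps.fwd (nat_lit 4096) (Steps.fwd (nat_lit 18432) (Steps.bwd (nat_lit 2) Steps.nil))) (nat_lit 96) (nat_lit 3),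
  Rule.mk (nat_lit 0) (nat_lit 82) (Steps.fwd (nat_lit 2048) (Steps.fwd (nat_lit 4096) (Steps.bwd (nat_lit 1) (Steps.fwd (nat_lit 4096) (Steps.bwd (nat_lit 1) (Steps.fwd (nat_lit 4096) Steps.nil)))))) (nat_lit 13) (nat_lit 1),
  Rule.mk (nat_lit 6) (nat_lit 166) (Steps.fwd (nat_lit 10240) (Steps.bwd (nat_lit 2) (Steps.fwd (nat_lit 2048) (Steps.bwd (nat_lit 6) (Steps.bwd (nat_lit 1) (Steps.bwd (nat_lit 2) (Steps.bwd (nat_lit 1) (Steps.fwd (nat_lit 12288) (Steps.fwd (nat_lit 2048) (Steps.bwd (nat_lit 2) (Steps.bwd (nat_lit 1) (Steps.bwd (nat_lit 6) (Steps.fwd (nat_lit 2048) Steps.nil))))))))))))) (nat_lit 34) (nat_lit 13),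
  Rule.mk (nat_lit 8) (nat_lit 46) (Steps.bwd (nat_lit 6) (Steps.fwd (nat_lit 18432) (Steps.fwd (nat_lit 12288) Steps.nil))) (nat_lit 102) (nat_lit 0),
  Rule.mk (nat_lit 6) (nat_lit 70) (Steps.fwd (nat_lit 8192) (Steps.bwd (nat_lit 2) (Steps.fwd (nat_lit 10240) (Steps.fwd (nat_lit 8192) (Steps.bwd (nat_lit 2) Steps.nil))))) (nat_lit 58) (nat_lit 5),
  Rule.mk (nat_lit 1) (nat_lit 70) (Steps.bwd (nat_lit 8) (Steps.bwd (nat_lit 2) (Steps.fwd (nat_lit 2048) (Steps.bwd (nat_lit 3) (Steps.fwd (nat_lit 16384) Steps.nil))))) (nat_lit 104) (nat_lit 0),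
  Rule.mk (nat_lit 1) (nat_lit 166) (Steps.fwd (nat_lit 4096) (Steps.bwd (nat_lit 1) (Steps.fwd (nat_lit 12288) (Steps.bwd (nat_lit 1) (Steps.bwd (nat_lit 3) (Steps.bwd (nat_lit 1) (Steps.fwd (nat_lit 12288) (Steps.bwd (nat_lit 1) (Steps.bwd (nat_lit 3) (Steps.fwd (nat_lit 10240) (Steps.fwd (nat_lit 12288) (Steps.fwd (nat_lit 2048) (Steps.bwd (nat_lit 6) Steps.nil))))))))))))) (nat_lit 35) (nat_lit 5),
  Rule.mk (nat_lit 1) (nat_lit 70) (Steps.bwd (nat_lit 4) (Steps.fwd (nat_lit 2048) (Steps.fwd (nat_lit 8192) (Steps.fwd (nat_lit 2048) (Steps.fwd (nat_lit 8192) Steps.nil))))) (nat_lit 16) (nat_lit 1),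
  Rule.mk (nat_lit 2) (nat_lit 70) (Steps.fwd (nat_lit 2048) (Steps.bwd (nat_lit 2) (Steps.bwd (nat_lit 1) (Steps.bwd (nat_lit 2) (Steps.bwd (nat_lit 1) Steps.nil))))) (nat_lit 12) (nat_lit 0),
  Rule.mk (nat_lit 4) (nat_lit 70) (Steps.fwd (nat_lit 2048) (Steps.bwd (nat_lit 4) (Steps.bwd (nat_lit 1) (Steps.fwd (nat_lit 8192) (Steps.bwd (nat_lit 1) Steps.nil))))) (nat_lit 16) (nat_lit 0),
  Rule.mk (nat_lit 6) (nat_lit 94) (Steps.bwd (nat_lit 1) (Steps.fwd (nat_lit 8192) (Steps.fwd (nat_lit 2048) (Steps.fwd (nat_lit 12288) (Steps.bwd (nat_lit 1) (Steps.fwd (nat_lit 8192) (Steps.bwd (nat_lit 1) Steps.nil))))))) (nat_lit 74) (nat_lit 0),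
  Rule.mk (nat_lit 1) (nat_lit 70) (Steps.bwd (nat_lit 4) (Steps.fwd (nat_lit 2048) (Steps.bwd (nat_lit 4) (Steps.fwd (nat_lit 2048) (Steps.bwd (nat_lit 4) Steps.nil))))) (nat_lit 16) (nat_lit 1),
  Rule.mk (nat_lit 7) (nat_lit 58) (Steps.bwd (nat_lit 5) (Steps.bwd (nat_lit 8) (Steps.fwd (nat_lit 10240) (Steps.fwd (nat_lit 16384) Steps.nil)))) (nat_lit 101) (nat_lit 1),
  Rule.mk (nat_lit 7) (nat_lit 70) (Steps.bwd (nat_lit 4) (Steps.bwd (nat_lit 2) (Steps.bwd (nat_lit 7) (Steps.fwd (nat_lit 8192) (Steps.fwd (nat_lit 6144) Steps.nil))))) (nat_lit 64) (nat_lit 2),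
  Rule.mk (nat_lit 6) (nat_lit 70) (Steps.bwd (nat_lit 4) (Steps.fwd (nat_lit 6144) (Steps.bwd (nat_lit 5) (Steps.fwd (nat_lit 8192) (Steps.bwd (nat_lit 2) Steps.nil))))) (nat_lit 58) (nat_lit 5),
  Rule.mk (nat_lit 1) (nat_lit 46) (Steps.fwd (nat_lit 10240) (Steps.fwd (nat_lit 2048) (Steps.bwd (nat_lit 5) Steps.nil))) (nat_lit 18) (nat_lit 1),
  Rule.mk (nat_lit 5) (nat_lit 70) (Steps.bwd (nat_lit 2) (Steps.bwd (nat_lit 4) (Steps.fwd (nat_lit 12288) (Steps.bwd (nat_lit 2) (Steps.fwd (nat_lit 8192) Steps.nil))))) (nat_lit 54) (nat_lit 3),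
  Rule.mk (nat_lit 7) (nat_lit 70) (Steps.bwd (nat_lit 4) (Steps.bwd (nat_lit 6) (Steps.fwd (nat_lit 14336) (Steps.bwd (nat_lit 4) (Steps.bwd (nat_lit 5) Steps.nil))))) (nat_lit 66) (nat_lit 3),
  Rule.mk (nat_lit 7) (nat_lit 94) (Steps.bwd (nat_lit 2) (Steps.fwd (nat_lit 12288) (Steps.bwd (nat_lit 4) (Steps.fwd (nat_lit 14336) (Steps.bwd (nat_lit 2) (Steps.bwd (nat_lit 5) (Steps.fwd (nat_lit 8192) Steps.nil))))))) (nat_lit 86) (nat_lit 4),
  Rule.mk (nat_lit 6) (nat_lit 166) (Steps.bwd (nat_lit 1) (Steps.fwd (nat_lit 6144) (Steps.fwd (nat_lit 2048) (Steps.bwd (nat_lit 6) (Steps.fwd (nat_lit 2048) (Steps.fwd (nat_lit 12288) (Steps.bwd (nat_lit 5) (Steps.bwd (nat_lit 2) (Steps.bwd (nat_lit 1) (Steps.fwd (nat_lit 12288) (Steps.bwd (nat_lit 1) (Steps.fwd (nat_lit 6144) (Steps.fwd (nat_lit 2048) Steps.nil))))))))))))) (nat_lit 34) (nat_lit 7),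
  Rule.mk (nat_lit 4) (nat_lit 190) (Steps.bwd (nat_lit 8) (Steps.bwd (nat_lit 4) (Steps.bwd (nat_lit 8) (Steps.bwd (nat_lit 4) (Steps.bwd (nat_lit 8) (Steps.bwd (nat_lit 4) (Steps.bwd (nat_lit 8) (Steps.bwd (nat_lit 4) (Steps.bwd (nat_lit 8) (Steps.bwd (nat_lit 4) (Steps.bwd (nat_lit 8) (Steps.fwd (nat_lit 8192) (Steps.fwd (nat_lit 18432) (Steps.bwd (nat_lit 4) (Steps.fwd (nat_lit 18432) Steps.nil))))))))))))))) (nat_lit 106) (nat_lit 0),
  Rule.mk (nat_lit 6) (nat_lit 58) (Steps.bwd (nat_lit 5) (Steps.fwd (nat_lit 14336) (Steps.fwd (nat_lit 12288) (Steps.bwd (nat_lit 5) Steps.nil)))) (nat_lit 24) (nat_lit 3),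
  Rule.mk (nat_lit 7) (nat_lit 70) (Steps.bwd (nat_lit 4) (Steps.bwd (nat_lit 6) (Steps.bwd (nat_lit 7) (Steps.bwd (nat_lit 4) (Steps.bwd (nat_lit 5) Steps.nil))))) (nat_lit 66) (nat_lit 3),
  Rule.mk (nat_lit 6) (nat_lit 46) (Steps.bwd (nat_lit 7) (Steps.fwd (nat_lit 12288) (Steps.bwd (nat_lit 7) Steps.nil))) (nat_lit 48) (nat_lit 1),
  Rule.mk (nat_lit 4) (nat_lit 190) (Steps.bwd (nat_lit 8) (Steps.bwd (nat_lit 4) (Steps.bwd (nat_lit 8) (Steps.bwd (nat_lit 4) (Steps.bwd (nat_lit 8) (Steps.bwd (nat_lit 4) (Steps.bwd (nat_lit 8) (Steps.bwd (nat_lit 4) (Steps.bwd (nat_lit 8) (Steps.bwd (nat_lit 4) (Steps.bwd (nat_lit 8) (Steps.fwd (nat_lit 8192) (Steps.bwd (nat_lit 8) (Steps.fwd (nat_lit 8192) (Steps.fwd (nat_lit 18432) Steps.nil))))))))))))))) (nat_lit 106) (nat_lit 0),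
  Rule.mk (nat_lit 3) (nat_lit 70) (Steps.bwd (nat_lit 5) (Steps.bwd (nat_lit 4) (Steps.fwd (nat_lit 4096) (Steps.bwd (nat_lit 6) (Steps.bwd (nat_lit 4) Steps.nil))))) (nat_lit 55) (nat_lit 3),
  Rule.mk (nat_lit 4) (nat_lit 190) (Steps.bwd (nat_lit 8) (Steps.bwd (nat_lit 4) (Steps.bwd (nat_lit 8) (Steps.bwd (nat_lit 4) (Steps.bwd (nat_lit 8) (Steps.bwd (nat_lit 4) (Steps.bwd (nat_lit 8) (Steps.bwd (nat_lit 4) (Steps.bwd (nat_lit 8) (Steps.fwd (nat_lit 8192) (Steps.bwd (nat_lit 8) (Steps.bwd (nat_lit 4) (Steps.bwd (nat_lit 8) (Steps.bwd (nat_lit 4) (Steps.fwd (nat_lit 18432) Steps.nil))))))))))))))) (nat_lit 106) (nat_lit 0),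
  Rule.mk (nat_lit 1) (nat_lit 70) (Steps.bwd (nat_lit 4) (Steps.bwd (nat_lit 1) (Steps.fwd (nat_lit 8192) (Steps.fwd (nat_lit 2048) (Steps.fwd (nat_lit 8192) Steps.nil))))) (nat_lit 16) (nat_lit 1),
  Rule.mk (nat_lit 6) (nat_lit 94) (Steps.bwd (nat_lit 1) (Steps.fwd (nat_lit 8192) (Steps.bwd (nat_lit 1) (Steps.bwd (nat_lit 6) (Steps.fwd (nat_lit 2048) (Steps.fwd (nat_lit 8192) (Steps.bwd (nat_lit 1) Steps.nil))))))) (nat_lit 74) (nat_lit 0),
  Rule.mk (nat_lit 2) (nat_lit 94) (Steps.bwd (nat_lit 6) (Steps.bwd (nat_lit 4) (Steps.fwd (nat_lit 14336) (Steps.bwd (nat_lit 2) (Steps.bwd (nat_lit 5) (Steps.bwd (nat_lit 4) (Steps.bwd (nat_lit 7) Steps.nil))))))) (nat_lit 86) (nat_lit 5),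
  Rule.mk (nat_lit 8) (nat_lit 190) (Steps.bwd (nat_lit 4) (Steps.bwd (nat_lit 8) (Steps.bwd (nat_lit 4) (Steps.bwd (nat_lit 8) (Steps.bwd (nat_lit 4) (Steps.bwd (nat_lit 8) (Steps.bwd (nat_lit 4) (Steps.bwd (nat_lit 8) (Steps.bwd (nat_lit 4) (Steps.bwd (nat_lit 8) (Steps.bwd (nat_lit 4) (Steps.bwd (nat_lit 8) (Steps.fwd (nat_lit 8192) (Steps.fwd (nat_lit 18432) (Steps.bwd (nat_lit 4) Steps.nil))))))))))))))) (nat_lit 106) (nat_lit 1),
  Rule.mk (nat_lit 2) (nat_lit 46) (Steps.bwd (nat_lit 9) (Steps.fwd (nat_lit 4096) (Steps.bwd (nat_lit 8) Steps.nil))) (nat_lit 96) (nat_lit 2),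
  Rule.mk (nat_lit 3) (nat_lit 46) (Steps.bwd (nat_lit 9) (Steps.fwd (nat_lit 6144) (Steps.bwd (nat_lit 8) Steps.nil))) (nat_lit 97) (nat_lit 3),
  Rule.mk (nat_lit 1) (nat_lit 46) (Steps.bwd (nat_lit 5) (Steps.fwd (nat_lit 2048) (Steps.fwd (nat_lit 10240) Steps.nil))) (nat_lit 18) (nat_lit 1),
  Rule.mk (nat_lit 6) (nat_lit 46) (Steps.fwd (nat_lit 8192) (Steps.bwd (nat_lit 5) (Steps.fwd (nat_lit 8192) Steps.nil))) (nat_lit 22) (nat_lit 0),
  Rule.mk (nat_lit 2) (nat_lit 70) (Steps.fwd (nat_lit 8192) (Steps.bwd (nat_lit 5) (Steps.bwd (nat_lit 2) (Steps.fwd (nat_lit 8192) (Steps.fwd (nat_lit 12288) Steps.nil))))) (nat_lit 54) (nat_lit 1),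
  Rule.mk (nat_lit 3) (nat_lit 70) (Steps.fwd (nat_lit 8192) (Steps.bwd (nat_lit 5) (Steps.bwd (nat_lit 3) (Steps.fwd (nat_lit 8192) (Steps.fwd (nat_lit 12288) Steps.nil))))) (nat_lit 59) (nat_lit 3),
  Rule.mk (nat_lit 1) (nat_lit 70) (Steps.bwd (nat_lit 3) (Steps.fwd (nat_lit 16384) (Steps.fwd (nat_lit 2048) (Steps.bwd (nat_lit 8) (Steps.bwd (nat_lit 2) Steps.nil))))) (nat_lit 104) (nat_lit 3),
  Rule.mk (nat_lit 6) (nat_lit 94) (Steps.bwd (nat_lit 1) (Steps.bwd (nat_lit 4) (Steps.bwd (nat_lit 1) (Steps.bwd (nat_lit 6) (Steps.bwd (nat_lit 1) (Steps.bwd (nat_lit 4) (Steps.fwd (nat_lit 2048) Steps.nil))))))) (nat_lit 74) (nat_lit 0),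
  Rule.mk (nat_lit 3) (nat_lit 166) (Steps.bwd (nat_lit 1) (Steps.fwd (nat_lit 12288) (Steps.bwd (nat_lit 1) (Steps.fwd (nat_lit 4096) (Steps.fwd (nat_lit 10240) (Steps.bwd (nat_lit 6) (Steps.fwd (nat_lit 2048) (Steps.fwd (nat_lit 12288) (Steps.fwd (nat_lit 2048) (Steps.fwd (nat_lit 4096) (Steps.fwd (nat_lit 2048) (Steps.bwd (nat_lit 6) (Steps.bwd (nat_lit 1) Steps.nil))))))))))))) (nat_lit 35) (nat_lit 10),
  Rule.mk (nat_lit 3) (nat_lit 46) (Steps.fwd (nat_lit 8192) (Steps.bwd (nat_lit 3) (Steps.fwd (nat_lit 8192) Steps.nil))) (nat_lit 15) (nat_lit 1),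
  Rule.mk (nat_lit 7) (nat_lit 70) (Steps.fwd (nat_lit 8192) (Steps.bwd (nat_lit 3) (Steps.bwd (nat_lit 7) (Steps.fwd (nat_lit 8192) (Steps.fwd (nat_lit 4096) Steps.nil))))) (nat_lit 57) (nat_lit 1),
  Rule.mk (nat_lit 8) (nat_lit 58) (Steps.fwd (nat_lit 10240) (Steps.fwd (nat_lit 16384) (Steps.fwd (nat_lit 10240) (Steps.bwd (nat_lit 7) Steps.nil)))) (nat_lit 100) (nat_lit 1),
  Rule.mk (nat_lit 1) (nat_lit 166) (Steps.bwd (nat_lit 6) (Steps.fwd (nat_lit 2048) (Steps.bwd (nat_lit 6) (Steps.bwd (nat_lit 5) (Steps.bwd (nat_lit 2) (Steps.fwd (nat_lit 2048) (Steps.fwd (nat_lit 12288) (Steps.fwd (nat_lit 2048) (Steps.fwd (nat_lit 6144) (Steps.bwd (nat_lit 1) (Steps.fwd (nat_lit 12288) (Steps.bwd (nat_lit 1) (Steps.bwd (nat_lit 2) Steps.nil))))))))))))) (nat_lit 34) (nat_lit 10),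
  Rule.mk (nat_lit 7) (nat_lit 46) (Steps.bwd (nat_lit 1) (Steps.bwd (nat_lit 7) (Steps.bwd (nat_lit 1) Steps.nil))) (nat_lit 26) (nat_lit 1),
  Rule.mk (nat_lit 2) (nat_lit 166) (Steps.bwd (nat_lit 1) (Steps.bwd (nat_lit 6) (Steps.bwd (nat_lit 1) (Steps.bwd (nat_lit 2) (Steps.bwd (nat_lit 1) (Steps.bwd (nat_lit 6) (Steps.fwd (nat_lit 2048) (Steps.fwd (nat_lit 12288) (Steps.fwd (nat_lit 10240) (Steps.fwd (nat_lit 6144) (Steps.fwd (nat_lit 2048) (Steps.bwd (nat_lit 6) (Steps.bwd (nat_lit 1) Steps.nil))))))))))))) (nat_lit 34) (nat_lit 5),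
  Rule.mk (nat_lit 6) (nat_lit 70) (Steps.bwd (nat_lit 7) (Steps.bwd (nat_lit 3) (Steps.bwd (nat_lit 6) (Steps.bwd (nat_lit 7) (Steps.bwd (nat_lit 2) Steps.nil))))) (nat_lit 62) (nat_lit 2),
  Rule.mk (nat_lit 6) (nat_lit 166) (Steps.fwd (nat_lit 10240) (Steps.bwd (nat_lit 2) (Steps.fwd (nat_lit 2048) (Steps.fwd (nat_lit 12288) (Steps.fwd (nat_lit 2048) (Steps.fwd (nat_lit 6144) (Steps.fwd (nat_lit 2048) (Steps.bwd (nat_lit 6) (Steps.bwd (nat_lit 1) (Steps.bwd (nat_lit 2) (Steps.bwd (nat_lit 1) (Steps.bwd (nat_lit 6) (Steps.bwd (nat_lit 1) Steps.nil))))))))))))) (nat_lit 34) (nat_lit 13),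
  Rule.mk (nat_lit 4) (nat_lit 46) (Steps.bwd (nat_lit 6) (Steps.bwd (nat_lit 4) (Steps.bwd (nat_lit 5) Steps.nil))) (nat_lit 22) (nat_lit 3),
  Rule.mk (nat_lit 4) (nat_lit 70) (Steps.fwd (nat_lit 4096) (Steps.bwd (nat_lit 6) (Steps.bwd (nat_lit 4) (Steps.bwd (nat_lit 3) (Steps.bwd (nat_lit 5) Steps.nil))))) (nat_lit 55) (nat_lit 5),
  Rule.mk (nat_lit 7) (nat_lit 70) (Steps.fwd (nat_lit 4096) (Steps.bwd (nat_lit 6) (Steps.bwd (nat_lit 7) (Steps.bwd (nat_lit 2) (Steps.fwd (nat_lit 12288) Steps.nil))))) (nat_lit 62) (nat_lit 3),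
  Rule.mk (nat_lit 4) (nat_lit 94) (Steps.bwd (nat_lit 7) (Steps.fwd (nat_lit 4096) (Steps.bwd (nat_lit 6) (Steps.bwd (nat_lit 4) (Steps.bwd (nat_lit 7) (Steps.bwd (nat_lit 3) (Steps.bwd (nat_lit 5) Steps.nil))))))) (nat_lit 91) (nat_lit 6),
  Rule.mk (nat_lit 4) (nat_lit 190) (Steps.bwd (nat_lit 8) (Steps.bwd (nat_lit 4) (Steps.bwd (nat_lit 8) (Steps.bwd (nat_lit 4) (Steps.bwd (nat_lit 8) (Steps.bwd (nat_lit 4) (Steps.bwd (nat_lit 8) (Steps.bwd (nat_lit 4) (Steps.bwd (nat_lit 8) (Steps.bwd (nat_lit 4) (Steps.bwd (nat_lit 8) (Steps.fwd (nat_lit 8192) (Steps.bwd (nat_lit 8) (Steps.bwd (nat_lit 4) (Steps.bwd (nat_lit 8) Steps.nil))))))))))))))) (nat_lit 106) (nat_lit 0),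
  Rule.mk (nat_lit 2) (nat_lit 46) (Steps.fwd (nat_lit 10240) (Steps.fwd (nat_lit 4096) (Steps.bwd (nat_lit 5) Steps.nil))) (nat_lit 20) (nat_lit 1),
  Rule.mk (nat_lit 3) (nat_lit 46) (Steps.fwd (nat_lit 10240) (Steps.bwd (nat_lit 2) (Steps.bwd (nat_lit 5) Steps.nil))) (nat_lit 20) (nat_lit 3),
  Rule.mk (nat_lit 2) (nat_lit 166) (Steps.bwd (nat_lit 1) (Steps.bwd (nat_lit 6) (Steps.bwd (nat_lit 1) (Steps.bwd (nat_lit 6) (Steps.bwd (nat_lit 5) (Steps.bwd (nat_lit 2) (Steps.bwd (nat_lit 1) (Steps.bwd (nat_lit 6) (Steps.bwd (nat_lit 1) (Steps.bwd (nat_lit 2) (Steps.bwd (nat_lit 1) (Steps.fwd (nat_lit 12288) (Steps.fwd (nat_lit 2048) Steps.nil))))))))))))) (nat_lit 34) (nat_lit 9)]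
noncomputable def R_8 : List (Rule) := [Rule.mk (nat_lit 5) (nat_lit 58) (Steps.bwd (nat_lit 9) (Steps.fwd (nat_lit 10240) (Steps.bwd (nat_lit 7) (Steps.bwd (nat_lit 8) Steps.nil)))) (nat_lit 100) (nat_lit 2),
  Rule.mk (nat_lit 3) (nat_lit 70) (Steps.fwd (nat_lit 8192) (Steps.bwd (nat_lit 5) (Steps.bwd (nat_lit 3) (Steps.fwd (nat_lit 8192) (Steps.bwd (nat_lit 6) Steps.nil))))) (nat_lit 59) (nat_lit 3),
  Rule.mk (nat_lit 5) (nat_lit 70) (Steps.fwd (nat_lit 8192) (Steps.fwd (nat_lit 14336) (Steps.bwd (nat_lit 6) (Steps.fwd (nat_lit 8192) (Steps.bwd (nat_lit 7) Steps.nil))))) (nat_lit 67) (nat_lit 5),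
  Rule.mk (nat_lit 8) (nat_lit 190) (Steps.bwd (nat_lit 4) (Steps.bwd (nat_lit 8) (Steps.bwd (nat_lit 4) (Steps.bwd (nat_lit 8) (Steps.bwd (nat_lit 4) (Steps.bwd (nat_lit 8) (Steps.bwd (nat_lit 4) (Steps.bwd (nat_lit 8) (Steps.bwd (nat_lit 4) (Steps.fwd (nat_lit 18432) (Steps.fwd (nat_lit 8192) (Steps.fwd (nat_lit 18432) (Steps.fwd (nat_lit 8192) (Steps.fwd (nat_lit 18432) (Steps.fwd (nat_lit 8192) Steps.nil))))))))))))))) (nat_lit 106) (nat_lit 1),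
  Rule.mk (nat_lit 6) (nat_lit 94) (Steps.bwd (nat_lit 2) (Steps.bwd (nat_lit 5) (Steps.fwd (nat_lit 12288) (Steps.fwd (nat_lit 6144) (Steps.bwd (nat_lit 5) (Steps.fwd (nat_lit 6144) (Steps.bwd (nat_lit 7) Steps.nil))))))) (nat_lit 84) (nat_lit 5),
  Rule.mk (nat_lit 4) (nat_lit 46) (Steps.bwd (nat_lit 5) (Steps.fwd (nat_lit 8192) (Steps.bwd (nat_lit 6) Steps.nil))) (nat_lit 22) (nat_lit 1),
  Rule.mk (nat_lit 6) (nat_lit 166) (Steps.bwd (nat_lit 1) (Steps.bwd (nat_lit 2) (Steps.bwd (nat_lit 1) (Steps.bwd (nat_lit 6) (Steps.bwd (nat_lit 1) (Steps.bwd (nat_lit 2) (Steps.fwd (nat_lit 2048) (Steps.fwd (nat_lit 12288) (Steps.fwd (nat_lit 2048) (Steps.fwd (nat_lit 12288) (Steps.bwd (nat_lit 5) (Steps.bwd (nat_lit 2) (Steps.fwd (nat_lit 2048) Steps.nil))))))))))))) (nat_lit 34) (nat_lit 3),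
  Rule.mk (nat_lit 0) (nat_lit 106) (Steps.fwd (nat_lit 2048) (Steps.fwd (nat_lit 12288) (Steps.bwd (nat_lit 1) (Steps.bwd (nat_lit 4) (Steps.bwd (nat_lit 1) (Steps.fwd (nat_lit 12288) (Steps.bwd (nat_lit 1) (Steps.bwd (nat_lit 4) Steps.nil)))))))) (nat_lit 74) (nat_lit 2),
  Rule.mk (nat_lit 0) (nat_lit 46) (Steps.fwd (nat_lit 4096) (Steps.fwd (nat_lit 0) (Steps.fwd (nat_lit 6144) Steps.nil))) (nat_lit 108) (nat_lit 0),
  Rule.mk (nat_lit 8) (nat_lit 190) (Steps.bwd (nat_lit 4) (Steps.bwd (nat_lit 8) (Steps.bwd (nat_lit 4) (Steps.bwd (nat_lit 8) (Steps.bwd (nat_lit 4) (Steps.bwd (nat_lit 8) (Steps.bwd (nat_lit 4) (Steps.bwd (nat_lit 8) (Steps.fwd (nat_lit 8192) (Steps.fwd (nat_lit 18432) (Steps.bwd (nat_lit 4) (Steps.bwd (nat_lit 8) (Steps.bwd (nat_lit 4) (Steps.bwd (nat_lit 8) (Steps.fwd (nat_lit 8192) Steps.nil))))))))))))))) (nat_lit 106) (nat_lit 1),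
  Rule.mk (nat_lit 7) (nat_lit 94) (Steps.bwd (nat_lit 2) (Steps.fwd (nat_lit 2048) (Steps.bwd (nat_lit 2) (Steps.fwd (nat_lit 14336) (Steps.fwd (nat_lit 2048) (Steps.fwd (nat_lit 6144) (Steps.fwd (nat_lit 2048) Steps.nil))))))) (nat_lit 72) (nat_lit 4),
  Rule.mk (nat_lit 6) (nat_lit 94) (Steps.bwd (nat_lit 1) (Steps.fwd (nat_lit 8192) (Steps.bwd (nat_lit 1) (Steps.fwd (nat_lit 12288) (Steps.fwd (nat_lit 2048) (Steps.fwd (nat_lit 8192) (Steps.bwd (nat_lit 1) Steps.nil))))))) (nat_lit 74) (nat_lit 0),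
  Rule.mk (nat_lit 8) (nat_lit 190) (Steps.bwd (nat_lit 4) (Steps.bwd (nat_lit 8) (Steps.bwd (nat_lit 4) (Steps.bwd (nat_lit 8) (Steps.bwd (nat_lit 4) (Steps.bwd (nat_lit 8) (Steps.bwd (nat_lit 4) (Steps.bwd (nat_lit 8) (Steps.fwd (nat_lit 8192) (Steps.bwd (nat_lit 8) (Steps.fwd (nat_lit 8192) (Steps.bwd (nat_lit 8) (Steps.bwd (nat_lit 4) (Steps.bwd (nat_lit 8) (Steps.fwd (nat_lit 8192) Steps.nil))))))))))))))) (nat_lit 106) (nat_lit 1),
  Rule.mk (nat_lit 7) (nat_lit 58) (Steps.bwd (nat_lit 8) (Steps.fwd (nat_lit 10240) (Steps.fwd (nat_lit 16384) (Steps.fwd (nat_lit 10240) Steps.nil)))) (nat_lit 100) (nat_lit 0),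
  Rule.mk (nat_lit 5) (nat_lit 58) (Steps.bwd (nat_lit 7) (Steps.fwd (nat_lit 12288) (Steps.bwd (nat_lit 5) (Steps.fwd (nat_lit 12288) Steps.nil)))) (nat_lit 24) (nat_lit 4),
  Rule.mk (nat_lit 8) (nat_lit 190) (Steps.bwd (nat_lit 4) (Steps.bwd (nat_lit 8) (Steps.bwd (nat_lit 4) (Steps.bwd (nat_lit 8) (Steps.bwd (nat_lit 4) (Steps.bwd (nat_lit 8) (Steps.bwd (nat_lit 4) (Steps.bwd (nat_lit 8) (Steps.bwd (nat_lit 4) (Steps.bwd (nat_lit 8) (Steps.bwd (nat_lit 4) (Steps.bwd (nat_lit 8) (Steps.fwd (nat_lit 8192) (Steps.fwd (nat_lit 18432) (Steps.fwd (nat_lit 8192) Steps.nil))))))))))))))) (nat_lit 106) (nat_lit 1),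
  Rule.mk (nat_lit 6) (nat_lit 94) (Steps.bwd (nat_lit 1) (Steps.bwd (nat_lit 4) (Steps.bwd (nat_lit 1) (Steps.fwd (nat_lit 12288) (Steps.fwd (nat_lit 2048) (Steps.bwd (nat_lit 4) (Steps.bwd (nat_lit 1) Steps.nil))))))) (nat_lit 74) (nat_lit 0),
  Rule.mk (nat_lit 7) (nat_lit 70) (Steps.fwd (nat_lit 2048) (Steps.bwd (nat_lit 5) (Steps.bwd (nat_lit 7) (Steps.bwd (nat_lit 1) (Steps.bwd (nat_lit 5) Steps.nil))))) (nat_lit 52) (nat_lit 0),
  Rule.mk (nat_lit 0) (nat_lit 58) (Steps.bwd (nat_lit 3) (Steps.bwd (nat_lit 9) (Steps.fwd (nat_lit 6144) (Steps.bwd (nat_lit 8) Steps.nil)))) (nat_lit 97) (nat_lit 2),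
  Rule.mk (nat_lit 5) (nat_lit 70) (Steps.bwd (nat_lit 2) (Steps.fwd (nat_lit 8192) (Steps.fwd (nat_lit 12288) (Steps.bwd (nat_lit 2) (Steps.bwd (nat_lit 4) Steps.nil))))) (nat_lit 54) (nat_lit 3),
  Rule.mk (nat_lit 8) (nat_lit 58) (Steps.bwd (nat_lit 5) (Steps.fwd (nat_lit 16384) (Steps.fwd (nat_lit 14336) (Steps.bwd (nat_lit 5) Steps.nil)))) (nat_lit 101) (nat_lit 3),
  Rule.mk (nat_lit 8) (nat_lit 190) (Steps.bwd (nat_lit 4) (Steps.bwd (nat_lit 8) (Steps.bwd (nat_lit 4) (Steps.bwd (nat_lit 8) (Steps.bwd (nat_lit 4) (Steps.bwd (nat_lit 8) (Steps.bwd (nat_lit 4) (Steps.bwd (nat_lit 8) (Steps.bwd (nat_lit 4) (Steps.bwd (nat_lit 8) (Steps.fwd (nat_lit 8192) (Steps.bwd (nat_lit 8) (Steps.fwd (nat_lit 8192) (Steps.bwd (nat_lit 8) (Steps.fwd (nat_lit 8192) Steps.nil))))))))))))))) (nat_lit 106) (nat_lit 1),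
  Rule.mk (nat_lit 7) (nat_lit 58) (Steps.bwd (nat_lit 5) (Steps.bwd (nat_lit 8) (Steps.bwd (nat_lit 5) (Steps.fwd (nat_lit 16384) Steps.nil)))) (nat_lit 101) (nat_lit 1),
  Rule.mk (nat_lit 5) (nat_lit 58) (Steps.fwd (nat_lit 16384) (Steps.bwd (nat_lit 7) (Steps.fwd (nat_lit 10240) (Steps.bwd (nat_lit 8) Steps.nil)))) (nat_lit 101) (nat_lit 4),
  Rule.mk (nat_lit 8) (nat_lit 190) (Steps.bwd (nat_lit 4) (Steps.bwd (nat_lit 8) (Steps.bwd (nat_lit 4) (Steps.bwd (nat_lit 8) (Steps.bwd (nat_lit 4) (Steps.bwd (nat_lit 8) (Steps.bwd (nat_lit 4) (Steps.bwd (nat_lit 8) (Steps.bwd (nat_lit 4) (Steps.bwd (nat_lit 8) (Steps.bwd (nat_lit 4) (Steps.fwd (nat_lit 18432) (Steps.fwd (nat_lit 8192) (Steps.fwd (nat_lit 18432) (Steps.fwd (nat_lit 8192) Steps.nil))))))))))))))) (nat_lit 106) (nat_lit 1),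
  Rule.mk (nat_lit 4) (nat_lit 190) (Steps.bwd (nat_lit 8) (Steps.bwd (nat_lit 4) (Steps.bwd (nat_lit 8) (Steps.bwd (nat_lit 4) (Steps.bwd (nat_lit 8) (Steps.bwd (nat_lit 4) (Steps.fwd (nat_lit 18432) (Steps.fwd (nat_lit 8192) (Steps.bwd (nat_lit 8) (Steps.bwd (nat_lit 4) (Steps.fwd (nat_lit 18432) (Steps.bwd (nat_lit 4) (Steps.bwd (nat_lit 8) (Steps.fwd (nat_lit 8192) (Steps.bwd (nat_lit 8) Steps.nil))))))))))))))) (nat_lit 106) (nat_lit 0),
  Rule.mk (nat_lit 5) (nat_lit 70) (Steps.fwd (nat_lit 6144) (Steps.fwd (nat_lit 8192) (Steps.fwd (nat_lit 12288) (Steps.bwd (nat_lit 2) (Steps.bwd (nat_lit 4) Steps.nil))))) (nat_lit 54) (nat_lit 3),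
  Rule.mk (nat_lit 3) (nat_lit 46) (Steps.bwd (nat_lit 7) (Steps.bwd (nat_lit 2) (Steps.bwd (nat_lit 7) Steps.nil))) (nat_lit 28) (nat_lit 0),
  Rule.mk (nat_lit 4) (nat_lit 190) (Steps.bwd (nat_lit 8) (Steps.bwd (nat_lit 4) (Steps.bwd (nat_lit 8) (Steps.bwd (nat_lit 4) (Steps.bwd (nat_lit 8) (Steps.bwd (nat_lit 4) (Steps.bwd (nat_lit 8) (Steps.bwd (nat_lit 4) (Steps.bwd (nat_lit 8) (Steps.fwd (nat_lit 8192) (Steps.bwd (nat_lit 8) (Steps.bwd (nat_lit 4) (Steps.bwd (nat_lit 8) (Steps.fwd (nat_lit 8192) (Steps.bwd (nat_lit 8) Steps.nil))))))))))))))) (nat_lit 106) (nat_lit 0),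
  Rule.mk (nat_lit 5) (nat_lit 70) (Steps.bwd (nat_lit 2) (Steps.fwd (nat_lit 8192) (Steps.bwd (nat_lit 6) (Steps.bwd (nat_lit 2) (Steps.bwd (nat_lit 4) Steps.nil))))) (nat_lit 54) (nat_lit 3),
  Rule.mk (nat_lit 3) (nat_lit 70) (Steps.bwd (nat_lit 7) (Steps.fwd (nat_lit 8192) (Steps.bwd (nat_lit 3) (Steps.bwd (nat_lit 7) (Steps.bwd (nat_lit 4) Steps.nil))))) (nat_lit 57) (nat_lit 0),
  Rule.mk (nat_lit 8) (nat_lit 46) (Steps.bwd (nat_lit 3) (Steps.fwd (nat_lit 16384) (Steps.bwd (nat_lit 2) Steps.nil))) (nat_lit 97) (nat_lit 2),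
  Rule.mk (nat_lit 6) (nat_lit 70) (Steps.fwd (nat_lit 4096) (Steps.bwd (nat_lit 4) (Steps.fwd (nat_lit 10240) (Steps.bwd (nat_lit 3) (Steps.bwd (nat_lit 4) Steps.nil))))) (nat_lit 59) (nat_lit 2),
  Rule.mk (nat_lit 3) (nat_lit 46) (Steps.bwd (nat_lit 6) (Steps.fwd (nat_lit 6144) (Steps.bwd (nat_lit 6) Steps.nil))) (nat_lit 40) (nat_lit 3),
  Rule.mk (nat_lit 5) (nat_lit 58) (Steps.bwd (nat_lit 7) (Steps.bwd (nat_lit 6) (Steps.bwd (nat_lit 5) (Steps.bwd (nat_lit 6) Steps.nil)))) (nat_lit 24) (nat_lit 4),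
  Rule.mk (nat_lit 8) (nat_lit 190) (Steps.bwd (nat_lit 4) (Steps.bwd (nat_lit 8) (Steps.bwd (nat_lit 4) (Steps.bwd (nat_lit 8) (Steps.bwd (nat_lit 4) (Steps.bwd (nat_lit 8) (Steps.bwd (nat_lit 4) (Steps.bwd (nat_lit 8) (Steps.bwd (nat_lit 4) (Steps.bwd (nat_lit 8) (Steps.bwd (nat_lit 4) (Steps.bwd (nat_lit 8) (Steps.bwd (nat_lit 4) (Steps.bwd (nat_lit 8) (Steps.fwd (nat_lit 8192) Steps.nil))))))))))))))) (nat_lit 106) (nat_lit 1),
  Rule.mk (nat_lit 8) (nat_lit 190) (Steps.bwd (nat_lit 4) (Steps.bwd (nat_lit 8) (Steps.bwd (nat_lit 4) (Steps.bwd (nat_lit 8) (Steps.bwd (nat_lit 4) (Steps.bwd (nat_lit 8) (Steps.bwd (nat_lit 4) (Steps.bwd (nat_lit 8) (Steps.bwd (nat_lit 4) (Steps.bwd (nat_lit 8) (Steps.bwd (nat_lit 4) (Steps.bwd (nat_lit 8) (Steps.bwd (nat_lit 4) (Steps.fwd (nat_lit 18432) (Steps.bwd (nat_lit 4) Steps.nil))))))))))))))) (nat_lit 106) (nat_lit 1),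
  Rule.mk (nat_lit 5) (nat_lit 58) (Steps.fwd (nat_lit 14336) (Steps.fwd (nat_lit 12288) (Steps.fwd (nat_lit 10240) (Steps.bwd (nat_lit 6) Steps.nil)))) (nat_lit 24) (nat_lit 4),
  Rule.mk (nat_lit 2) (nat_lit 46) (Steps.bwd (nat_lit 4) (Steps.fwd (nat_lit 6144) (Steps.bwd (nat_lit 4) Steps.nil))) (nat_lit 14) (nat_lit 0),
  Rule.mk (nat_lit 5) (nat_lit 58) (Steps.fwd (nat_lit 16384) (Steps.bwd (nat_lit 7) (Steps.bwd (nat_lit 5) (Steps.bwd (nat_lit 8) Steps.nil)))) (nat_lit 101) (nat_lit 4),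
  Rule.mk (nat_lit 7) (nat_lit 70) (Steps.bwd (nat_lit 3) (Steps.fwd (nat_lit 10240) (Steps.bwd (nat_lit 7) (Steps.bwd (nat_lit 2) (Steps.bwd (nat_lit 5) Steps.nil))))) (nat_lit 60) (nat_lit 3),
  Rule.mk (nat_lit 4) (nat_lit 190) (Steps.bwd (nat_lit 8) (Steps.bwd (nat_lit 4) (Steps.bwd (nat_lit 8) (Steps.bwd (nat_lit 4) (Steps.bwd (nat_lit 8) (Steps.bwd (nat_lit 4) (Steps.bwd (nat_lit 8) (Steps.fwd (nat_lit 8192) (Steps.bwd (nat_lit 8) (Steps.bwd (nat_lit 4) (Steps.fwd (nat_lit 18432) (Steps.bwd (nat_lit 4) (Steps.fwd (nat_lit 18432) (Steps.fwd (nat_lit 8192) (Steps.fwd (nat_lit 18432) Steps.nil))))))))))))))) (nat_lit 106) (nat_lit 0),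
  Rule.mk (nat_lit 5) (nat_lit 58) (Steps.fwd (nat_lit 16384) (Steps.fwd (nat_lit 14336) (Steps.fwd (nat_lit 10240) (Steps.bwd (nat_lit 8) Steps.nil)))) (nat_lit 101) (nat_lit 4),
  Rule.mk (nat_lit 8) (nat_lit 190) (Steps.bwd (nat_lit 4) (Steps.bwd (nat_lit 8) (Steps.bwd (nat_lit 4) (Steps.bwd (nat_lit 8) (Steps.bwd (nat_lit 4) (Steps.bwd (nat_lit 8) (Steps.bwd (nat_lit 4) (Steps.bwd (nat_lit 8) (Steps.fwd (nat_lit 8192) (Steps.bwd (nat_lit 8) (Steps.fwd (nat_lit 8192) (Steps.bwd (nat_lit 8) (Steps.fwd (nat_lit 8192) (Steps.fwd (nat_lit 18432) (Steps.fwd (nat_lit 8192) Steps.nil))))))))))))))) (nat_lit 106) (nat_lit 1),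
  Rule.mk (nat_lit 8) (nat_lit 190) (Steps.bwd (nat_lit 4) (Steps.bwd (nat_lit 8) (Steps.bwd (nat_lit 4) (Steps.bwd (nat_lit 8) (Steps.bwd (nat_lit 4) (Steps.bwd (nat_lit 8) (Steps.bwd (nat_lit 4) (Steps.bwd (nat_lit 8) (Steps.bwd (nat_lit 4) (Steps.bwd (nat_lit 8) (Steps.bwd (nat_lit 4) (Steps.fwd (nat_lit 18432) (Steps.fwd (nat_lit 8192) (Steps.fwd (nat_lit 18432) (Steps.bwd (nat_lit 4) Steps.nil))))))))))))))) (nat_lit 106) (nat_lit 1),
  Rule.mk (nat_lit 7) (nat_lit 70) (Steps.fwd (nat_lit 8192) (Steps.bwd (nat_lit 5) (Steps.bwd (nat_lit 7) (Steps.bwd (nat_lit 4) (Steps.bwd (nat_lit 6) Steps.nil))))) (nat_lit 66) (nat_lit 0),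
  Rule.mk (nat_lit 3) (nat_lit 70) (Steps.bwd (nat_lit 5) (Steps.fwd (nat_lit 14336) (Steps.fwd (nat_lit 6144) (Steps.fwd (nat_lit 10240) (Steps.bwd (nat_lit 7) Steps.nil))))) (nat_lit 60) (nat_lit 4),
  Rule.mk (nat_lit 6) (nat_lit 70) (Steps.bwd (nat_lit 7) (Steps.bwd (nat_lit 4) (Steps.bwd (nat_lit 5) (Steps.bwd (nat_lit 7) (Steps.bwd (nat_lit 4) Steps.nil))))) (nat_lit 66) (nat_lit 5),
  Rule.mk (nat_lit 2) (nat_lit 46) (Steps.bwd (nat_lit 9) (Steps.bwd (nat_lit 3) (Steps.bwd (nat_lit 8) Steps.nil))) (nat_lit 96) (nat_lit 2),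
  Rule.mk (nat_lit 5) (nat_lit 46) (Steps.bwd (nat_lit 3) (Steps.fwd (nat_lit 10240) (Steps.bwd (nat_lit 2) Steps.nil))) (nat_lit 20) (nat_lit 2),
  Rule.mk (nat_lit 7) (nat_lit 46) (Steps.bwd (nat_lit 3) (Steps.fwd (nat_lit 14336) (Steps.bwd (nat_lit 2) Steps.nil))) (nat_lit 28) (nat_lit 3),
  Rule.mk (nat_lit 8) (nat_lit 70) (Steps.fwd (nat_lit 6144) (Steps.fwd (nat_lit 2048) (Steps.fwd (nat_lit 4096) (Steps.fwd (nat_lit 16384) (Steps.bwd (nat_lit 1) Steps.nil))))) (nat_lit 104) (nat_lit 1),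
  Rule.mk (nat_lit 2) (nat_lit 46) (Steps.bwd (nat_lit 7) (Steps.fwd (nat_lit 4096) (Steps.bwd (nat_lit 7) Steps.nil))) (nat_lit 28) (nat_lit 2),
  Rule.mk (nat_lit 2) (nat_lit 70) (Steps.bwd (nat_lit 1) (Steps.fwd (nat_lit 6144) (Steps.fwd (nat_lit 2048) (Steps.bwd (nat_lit 2) (Steps.bwd (nat_lit 1) Steps.nil))))) (nat_lit 12) (nat_lit 0),
  Rule.mk (nat_lit 5) (nat_lit 70) (Steps.bwd (nat_lit 2) (Steps.bwd (nat_lit 4) (Steps.bwd (nat_lit 6) (Steps.bwd (nat_lit 2) (Steps.fwd (nat_lit 8192) Steps.nil))))) (nat_lit 54) (nat_lit 3),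
  Rule.mk (nat_lit 7) (nat_lit 70) (Steps.bwd (nat_lit 2) (Steps.bwd (nat_lit 5) (Steps.bwd (nat_lit 7) (Steps.fwd (nat_lit 4096) (Steps.bwd (nat_lit 5) Steps.nil))))) (nat_lit 60) (nat_lit 0),
  Rule.mk (nat_lit 6) (nat_lit 70) (Steps.bwd (nat_lit 7) (Steps.bwd (nat_lit 2) (Steps.bwd (nat_lit 6) (Steps.fwd (nat_lit 14336) (Steps.fwd (nat_lit 4096) Steps.nil))))) (nat_lit 62) (nat_lit 5),
  Rule.mk (nat_lit 7) (nat_lit 70) (Steps.bwd (nat_lit 2) (Steps.bwd (nat_lit 4) (Steps.fwd (nat_lit 14336) (Steps.bwd (nat_lit 2) (Steps.fwd (nat_lit 8192) Steps.nil))))) (nat_lit 56) (nat_lit 0),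
  Rule.mk (nat_lit 5) (nat_lit 94) (Steps.bwd (nat_lit 2) (Steps.bwd (nat_lit 1) (Steps.fwd (nat_lit 6144) (Steps.fwd (nat_lit 10240) (Steps.bwd (nat_lit 1) (Steps.bwd (nat_lit 2) (Steps.bwd (nat_lit 1) Steps.nil))))))) (nat_lit 70) (nat_lit 4),
  Rule.mk (nat_lit 5) (nat_lit 46) (Steps.bwd (nat_lit 3) (Steps.bwd (nat_lit 5) (Steps.bwd (nat_lit 2) Steps.nil))) (nat_lit 20) (nat_lit 2),
  Rule.mk (nat_lit 9) (nat_lit 58) (Steps.fwd (nat_lit 10240) (Steps.fwd (nat_lit 14336) (Steps.bwd (nat_lit 8) (Steps.bwd (nat_lit 5) Steps.nil)))) (nat_lit 100) (nat_lit 3),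
  Rule.mk (nat_lit 8) (nat_lit 46) (Steps.fwd (nat_lit 4096) (Steps.bwd (nat_lit 9) (Steps.fwd (nat_lit 6144) Steps.nil))) (nat_lit 97) (nat_lit 2),
  Rule.mk (nat_lit 2) (nat_lit 94) (Steps.bwd (nat_lit 1) (Steps.bwd (nat_lit 2) (Steps.fwd (nat_lit 14336) (Steps.bwd (nat_lit 1) (Steps.bwd (nat_lit 2) (Steps.bwd (nat_lit 1) (Steps.fwd (nat_lit 14336) Steps.nil))))))) (nat_lit 72) (nat_lit 5),
  Rule.mk (nat_lit 3) (nat_lit 70) (Steps.bwd (nat_lit 9) (Steps.bwd (nat_lit 1) (Steps.bwd (nat_lit 8) (Steps.bwd (nat_lit 2) (Steps.bwd (nat_lit 1) Steps.nil))))) (nat_lit 104) (nat_lit 4)]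
noncomputable def R_9 : List (Rule) := [Rule.mk (nat_lit 6) (nat_lit 94) (Steps.bwd (nat_lit 5) (Steps.bwd (nat_lit 2) (Steps.bwd (nat_lit 6) (Steps.fwd (nat_lit 14336) (Steps.bwd (nat_lit 2) (Steps.bwd (nat_lit 5) (Steps.fwd (nat_lit 6144) Steps.nil))))))) (nat_lit 82) (nat_lit 4),
  Rule.mk (nat_lit 7) (nat_lit 94) (Steps.bwd (nat_lit 2) (Steps.bwd (nat_lit 6) (Steps.bwd (nat_lit 4) (Steps.fwd (nat_lit 14336) (Steps.bwd (nat_lit 2) (Steps.bwd (nat_lit 5) (Steps.fwd (nat_lit 8192) Steps.nil))))))) (nat_lit 86) (nat_lit 4),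
  Rule.mk (nat_lit 0) (nat_lit 58) (Steps.fwd (nat_lit 14336) (Steps.fwd (nat_lit 8192) (Steps.bwd (nat_lit 7) (Steps.bwd (nat_lit 4) Steps.nil)))) (nat_lit 30) (nat_lit 0),
  Rule.mk (nat_lit 5) (nat_lit 46) (Steps.fwd (nat_lit 8192) (Steps.bwd (nat_lit 6) (Steps.bwd (nat_lit 4) Steps.nil))) (nat_lit 22) (nat_lit 2),
  Rule.mk (nat_lit 0) (nat_lit 58) (Steps.bwd (nat_lit 7) (Steps.fwd (nat_lit 8192) (Steps.fwd (nat_lit 14336) (Steps.bwd (nat_lit 4) Steps.nil)))) (nat_lit 30) (nat_lit 0),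
  Rule.mk (nat_lit 0) (nat_lit 46) (Steps.fwd (nat_lit 4096) (Steps.fwd (nat_lit 0) (Steps.bwd (nat_lit 2) Steps.nil))) (nat_lit 108) (nat_lit 0),
  Rule.mk (nat_lit 0) (nat_lit 46) (Steps.fwd (nat_lit 6144) (Steps.fwd (nat_lit 0) (Steps.bwd (nat_lit 3) Steps.nil))) (nat_lit 108) (nat_lit 0),
  Rule.mk (nat_lit 0) (nat_lit 46) (Steps.fwd (nat_lit 8192) (Steps.fwd (nat_lit 0) (Steps.fwd (nat_lit 8192) Steps.nil))) (nat_lit 108) (nat_lit 0),
  Rule.mk (nat_lit 0) (nat_lit 46) (Steps.fwd (nat_lit 14336) (Steps.bwd (nat_lit 0) (Steps.fwd (nat_lit 14336) Steps.nil))) (nat_lit 108) (nat_lit 0),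
  Rule.mk (nat_lit 0) (nat_lit 46) (Steps.fwd (nat_lit 14336) (Steps.bwd (nat_lit 0) (Steps.bwd (nat_lit 7) Steps.nil))) (nat_lit 108) (nat_lit 0),
  Rule.mk (nat_lit 0) (nat_lit 46) (Steps.fwd (nat_lit 6144) (Steps.bwd (nat_lit 0) (Steps.fwd (nat_lit 4096) Steps.nil))) (nat_lit 108) (nat_lit 0),
  Rule.mk (nat_lit 0) (nat_lit 46) (Steps.bwd (nat_lit 3) (Steps.fwd (nat_lit 0) (Steps.bwd (nat_lit 2) Steps.nil))) (nat_lit 108) (nat_lit 0),
  Rule.mk (nat_lit 0) (nat_lit 46) (Steps.bwd (nat_lit 5) (Steps.fwd (nat_lit 0) (Steps.fwd (nat_lit 10240) Steps.nil))) (nat_lit 108) (nat_lit 0),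
  Rule.mk (nat_lit 0) (nat_lit 58) (Steps.bwd (nat_lit 7) (Steps.fwd (nat_lit 0) (Steps.bwd (nat_lit 7) (Steps.fwd (nat_lit 0) Steps.nil)))) (nat_lit 108) (nat_lit 0),
  Rule.mk (nat_lit 0) (nat_lit 58) (Steps.bwd (nat_lit 0) (Steps.bwd (nat_lit 8) (Steps.bwd (nat_lit 0) (Steps.fwd (nat_lit 16384) Steps.nil)))) (nat_lit 108) (nat_lit 0),
  Rule.mk (nat_lit 0) (nat_lit 46) (Steps.bwd (nat_lit 2) (Steps.bwd (nat_lit 0) (Steps.bwd (nat_lit 3) Steps.nil))) (nat_lit 108) (nat_lit 0),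
  Rule.mk (nat_lit 0) (nat_lit 46) (Steps.fwd (nat_lit 6144) (Steps.fwd (nat_lit 0) (Steps.fwd (nat_lit 4096) Steps.nil))) (nat_lit 108) (nat_lit 0),
  Rule.mk (nat_lit 0) (nat_lit 46) (Steps.bwd (nat_lit 3) (Steps.bwd (nat_lit 0) (Steps.bwd (nat_lit 2) Steps.nil))) (nat_lit 108) (nat_lit 0),
  Rule.mk (nat_lit 0) (nat_lit 46) (Steps.fwd (nat_lit 12288) (Steps.bwd (nat_lit 0) (Steps.fwd (nat_lit 12288) Steps.nil))) (nat_lit 108) (nat_lit 0),
  Rule.mk (nat_lit 0) (nat_lit 46) (Steps.bwd (nat_lit 8) (Steps.bwd (nat_lit 0) (Steps.bwd (nat_lit 9) Steps.nil))) (nat_lit 108) (nat_lit 0),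
  Rule.mk (nat_lit 0) (nat_lit 46) (Steps.bwd (nat_lit 2) (Steps.fwd (nat_lit 0) (Steps.bwd (nat_lit 3) Steps.nil))) (nat_lit 108) (nat_lit 0),
  Rule.mk (nat_lit 0) (nat_lit 46) (Steps.bwd (nat_lit 2) (Steps.bwd (nat_lit 0) (Steps.fwd (nat_lit 4096) Steps.nil))) (nat_lit 108) (nat_lit 0),
  Rule.mk (nat_lit 1) (nat_lit 70) (Steps.fwd (nat_lit 4096) (Steps.bwd (nat_lit 9) (Steps.bwd (nat_lit 1) (Steps.fwd (nat_lit 18432) (Steps.fwd (nat_lit 6144) Steps.nil))))) (nat_lit 104) (nat_lit 3),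
  Rule.mk (nat_lit 1) (nat_lit 70) (Steps.fwd (nat_lit 8192) (Steps.bwd (nat_lit 1) (Steps.fwd (nat_lit 8192) (Steps.fwd (nat_lit 2048) (Steps.bwd (nat_lit 4) Steps.nil))))) (nat_lit 16) (nat_lit 1),
  Rule.mk (nat_lit 1) (nat_lit 70) (Steps.bwd (nat_lit 3) (Steps.fwd (nat_lit 2048) (Steps.bwd (nat_lit 3) (Steps.fwd (nat_lit 2048) (Steps.fwd (nat_lit 4096) Steps.nil))))) (nat_lit 13) (nat_lit 0),
  Rule.mk (nat_lit 1) (nat_lit 94) (Steps.fwd (nat_lit 4096) (Steps.fwd (nat_lit 10240) (Steps.bwd (nat_lit 1) (Steps.bwd (nat_lit 3) (Steps.fwd (nat_lit 2048) (Steps.fwd (nat_lit 10240) (Steps.bwd (nat_lit 3) Steps.nil))))))) (nat_lit 71) (nat_lit 3),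
  Rule.mk (nat_lit 1) (nat_lit 94) (Steps.fwd (nat_lit 10240) (Steps.bwd (nat_lit 3) (Steps.fwd (nat_lit 2048) (Steps.bwd (nat_lit 3) (Steps.bwd (nat_lit 5) (Steps.bwd (nat_lit 1) (Steps.fwd (nat_lit 4096) Steps.nil))))))) (nat_lit 71) (nat_lit 0),
  Rule.mk (nat_lit 7) (nat_lit 94) (Steps.bwd (nat_lit 2) (Steps.fwd (nat_lit 2048) (Steps.fwd (nat_lit 6144) (Steps.bwd (nat_lit 7) (Steps.fwd (nat_lit 2048) (Steps.bwd (nat_lit 2) (Steps.fwd (nat_lit 2048) Steps.nil))))))) (nat_lit 72) (nat_lit 4),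
  Rule.mk (nat_lit 6) (nat_lit 70) (Steps.bwd (nat_lit 7) (Steps.fwd (nat_lit 4096) (Steps.bwd (nat_lit 6) (Steps.bwd (nat_lit 7) (Steps.bwd (nat_lit 2) Steps.nil))))) (nat_lit 62) (nat_lit 2),
  Rule.mk (nat_lit 1) (nat_lit 94) (Steps.bwd (nat_lit 3) (Steps.fwd (nat_lit 2048) (Steps.bwd (nat_lit 7) (Steps.fwd (nat_lit 4096) (Steps.fwd (nat_lit 2048) (Steps.bwd (nat_lit 3) (Steps.bwd (nat_lit 7) Steps.nil))))))) (nat_lit 73) (nat_lit 6),
  Rule.mk (nat_lit 7) (nat_lit 94) (Steps.bwd (nat_lit 5) (Steps.fwd (nat_lit 8192) (Steps.bwd (nat_lit 3) (Steps.bwd (nat_lit 7) (Steps.fwd (nat_lit 12288) (Steps.bwd (nat_lit 4) (Steps.bwd (nat_lit 3) Steps.nil))))))) (nat_lit 79) (nat_lit 5),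
  Rule.mk (nat_lit 5) (nat_lit 94) (Steps.fwd (nat_lit 12288) (Steps.fwd (nat_lit 6144) (Steps.fwd (nat_lit 10240) (Steps.fwd (nat_lit 6144) (Steps.bwd (nat_lit 7) (Steps.fwd (nat_lit 12288) (Steps.fwd (nat_lit 6144) Steps.nil))))))) (nat_lit 84) (nat_lit 7),
  Rule.mk (nat_lit 6) (nat_lit 94) (Steps.bwd (nat_lit 4) (Steps.bwd (nat_lit 7) (Steps.fwd (nat_lit 6144) (Steps.bwd (nat_lit 5) (Steps.fwd (nat_lit 8192) (Steps.bwd (nat_lit 7) (Steps.bwd (nat_lit 2) Steps.nil))))))) (nat_lit 86) (nat_lit 6),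
  Rule.mk (nat_lit 5) (nat_lit 94) (Steps.fwd (nat_lit 6144) (Steps.fwd (nat_lit 14336) (Steps.bwd (nat_lit 4) (Steps.bwd (nat_lit 6) (Steps.fwd (nat_lit 6144) (Steps.bwd (nat_lit 7) (Steps.fwd (nat_lit 8192) Steps.nil))))))) (nat_lit 90) (nat_lit 4),
  Rule.mk (nat_lit 6) (nat_lit 94) (Steps.fwd (nat_lit 8192) (Steps.fwd (nat_lit 14336) (Steps.fwd (nat_lit 6144) (Steps.fwd (nat_lit 10240) (Steps.bwd (nat_lit 4) (Steps.fwd (nat_lit 14336) (Steps.fwd (nat_lit 6144) Steps.nil))))))) (nat_lit 86) (nat_lit 6),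
  Rule.mk (nat_lit 8) (nat_lit 46) (Steps.fwd (nat_lit 6144) (Steps.bwd (nat_lit 9) (Steps.bwd (nat_lit 3) Steps.nil))) (nat_lit 96) (nat_lit 1),
  Rule.mk (nat_lit 1) (nat_lit 94) (Steps.bwd (nat_lit 3) (Steps.fwd (nat_lit 10240) (Steps.bwd (nat_lit 1) (Steps.bwd (nat_lit 3) (Steps.fwd (nat_lit 2048) (Steps.fwd (nat_lit 10240) (Steps.fwd (nat_lit 4096) Steps.nil))))))) (nat_lit 71) (nat_lit 3),
  Rule.mk (nat_lit 0) (nat_lit 82) (Steps.fwd (nat_lit 2048) (Steps.fwd (nat_lit 8192) (Steps.bwd (nat_lit 1) (Steps.bwd (nat_lit 4) (Steps.fwd (nat_lit 2048) (Steps.fwd (nat_lit 8192) Steps.nil)))))) (nat_lit 16) (nat_lit 0),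
  Rule.mk (nat_lit 0) (nat_lit 46) (Steps.fwd (nat_lit 2048) (Steps.bwd (nat_lit 0) (Steps.fwd (nat_lit 2048) Steps.nil))) (nat_lit 108) (nat_lit 0),
  Rule.mk (nat_lit 0) (nat_lit 46) (Steps.fwd (nat_lit 8192) (Steps.fwd (nat_lit 0) (Steps.bwd (nat_lit 4) Steps.nil))) (nat_lit 108) (nat_lit 0),
  Rule.mk (nat_lit 0) (nat_lit 46) (Steps.bwd (nat_lit 6) (Steps.fwd (nat_lit 0) (Steps.bwd (nat_lit 6) Steps.nil))) (nat_lit 108) (nat_lit 0),
  Rule.mk (nat_lit 0) (nat_lit 46) (Steps.fwd (nat_lit 18432) (Steps.bwd (nat_lit 0) (Steps.bwd (nat_lit 9) Steps.nil))) (nat_lit 108) (nat_lit 0),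
  Rule.mk (nat_lit 0) (nat_lit 46) (Steps.bwd (nat_lit 1) (Steps.fwd (nat_lit 0) (Steps.fwd (nat_lit 2048) Steps.nil))) (nat_lit 108) (nat_lit 0),
  Rule.mk (nat_lit 0) (nat_lit 46) (Steps.fwd (nat_lit 12288) (Steps.fwd (nat_lit 0) (Steps.fwd (nat_lit 12288) Steps.nil))) (nat_lit 108) (nat_lit 0),
  Rule.mk (nat_lit 0) (nat_lit 46) (Steps.bwd (nat_lit 9) (Steps.bwd (nat_lit 0) (Steps.bwd (nat_lit 8) Steps.nil))) (nat_lit 108) (nat_lit 0),
  Rule.mk (nat_lit 0) (nat_lit 46) (Steps.bwd (nat_lit 3) (Steps.fwd (nat_lit 0) (Steps.fwd (nat_lit 6144) Steps.nil))) (nat_lit 108) (nat_lit 0),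
  Rule.mk (nat_lit 0) (nat_lit 46) (Steps.bwd (nat_lit 8) (Steps.fwd (nat_lit 0) (Steps.bwd (nat_lit 9) Steps.nil))) (nat_lit 108) (nat_lit 0),
  Rule.mk (nat_lit 0) (nat_lit 58) (Steps.fwd (nat_lit 16384) (Steps.fwd (nat_lit 0) (Steps.bwd (nat_lit 8) (Steps.fwd (nat_lit 0) Steps.nil)))) (nat_lit 108) (nat_lit 0),
  Rule.mk (nat_lit 0) (nat_lit 58) (Steps.bwd (nat_lit 4) (Steps.bwd (nat_lit 0) (Steps.bwd (nat_lit 4) (Steps.fwd (nat_lit 0) Steps.nil)))) (nat_lit 108) (nat_lit 0),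
  Rule.mk (nat_lit 0) (nat_lit 46) (Steps.bwd (nat_lit 4) (Steps.bwd (nat_lit 0) (Steps.bwd (nat_lit 4) Steps.nil))) (nat_lit 108) (nat_lit 0),
  Rule.mk (nat_lit 1) (nat_lit 46) (Steps.bwd (nat_lit 0) (Steps.fwd (nat_lit 2048) (Steps.fwd (nat_lit 0) Steps.nil))) (nat_lit 108) (nat_lit 0),
  Rule.mk (nat_lit 0) (nat_lit 46) (Steps.fwd (nat_lit 10240) (Steps.bwd (nat_lit 0) (Steps.fwd (nat_lit 10240) Steps.nil))) (nat_lit 108) (nat_lit 0),
  Rule.mk (nat_lit 0) (nat_lit 58) (Steps.bwd (nat_lit 0) (Steps.bwd (nat_lit 9) (Steps.fwd (nat_lit 0) (Steps.bwd (nat_lit 8) Steps.nil)))) (nat_lit 108) (nat_lit 0),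
  Rule.mk (nat_lit 0) (nat_lit 46) (Steps.bwd (nat_lit 4) (Steps.fwd (nat_lit 0) (Steps.fwd (nat_lit 8192) Steps.nil))) (nat_lit 108) (nat_lit 0),
  Rule.mk (nat_lit 0) (nat_lit 58) (Steps.bwd (nat_lit 8) (Steps.bwd (nat_lit 0) (Steps.fwd (nat_lit 16384) (Steps.fwd (nat_lit 0) Steps.nil)))) (nat_lit 108) (nat_lit 0),
  Rule.mk (nat_lit 0) (nat_lit 58) (Steps.bwd (nat_lit 9) (Steps.fwd (nat_lit 0) (Steps.bwd (nat_lit 8) (Steps.fwd (nat_lit 0) Steps.nil)))) (nat_lit 108) (nat_lit 0),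
  Rule.mk (nat_lit 0) (nat_lit 58) (Steps.bwd (nat_lit 0) (Steps.fwd (nat_lit 6144) (Steps.fwd (nat_lit 0) (Steps.bwd (nat_lit 3) Steps.nil)))) (nat_lit 108) (nat_lit 0),
  Rule.mk (nat_lit 0) (nat_lit 46) (Steps.bwd (nat_lit 6) (Steps.bwd (nat_lit 0) (Steps.fwd (nat_lit 12288) Steps.nil))) (nat_lit 108) (nat_lit 0),
  Rule.mk (nat_lit 0) (nat_lit 46) (Steps.fwd (nat_lit 18432) (Steps.fwd (nat_lit 0) (Steps.bwd (nat_lit 9) Steps.nil))) (nat_lit 108) (nat_lit 0),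
  Rule.mk (nat_lit 0) (nat_lit 58) (Steps.bwd (nat_lit 0) (Steps.fwd (nat_lit 16384) (Steps.fwd (nat_lit 0) (Steps.bwd (nat_lit 8) Steps.nil)))) (nat_lit 108) (nat_lit 0),
  Rule.mk (nat_lit 0) (nat_lit 70) (Steps.bwd (nat_lit 0) (Steps.bwd (nat_lit 6) (Steps.bwd (nat_lit 0) (Steps.bwd (nat_lit 6) (Steps.fwd (nat_lit 0) Steps.nil))))) (nat_lit 108) (nat_lit 0),
  Rule.mk (nat_lit 0) (nat_lit 46) (Steps.fwd (nat_lit 8192) (Steps.bwd (nat_lit 0) (Steps.bwd (nat_lit 4) Steps.nil))) (nat_lit 108) (nat_lit 0),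
  Rule.mk (nat_lit 0) (nat_lit 58) (Steps.bwd (nat_lit 0) (Steps.fwd (nat_lit 4096) (Steps.fwd (nat_lit 0) (Steps.bwd (nat_lit 2) Steps.nil)))) (nat_lit 108) (nat_lit 0),
  Rule.mk (nat_lit 0) (nat_lit 58) (Steps.fwd (nat_lit 4096) (Steps.fwd (nat_lit 0) (Steps.fwd (nat_lit 6144) (Steps.fwd (nat_lit 0) Steps.nil)))) (nat_lit 108) (nat_lit 0)]
noncomputable def R_10 : List (Rule) := [Rule.mk (nat_lit 0) (nat_lit 46) (Steps.bwd (nat_lit 5) (Steps.fwd (nat_lit 0) (Steps.bwd (nat_lit 5) Steps.nil))) (nat_lit 108) (nat_lit 0),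
  Rule.mk (nat_lit 0) (nat_lit 58) (Steps.fwd (nat_lit 14336) (Steps.fwd (nat_lit 0) (Steps.bwd (nat_lit 7) (Steps.fwd (nat_lit 0) Steps.nil)))) (nat_lit 108) (nat_lit 0),
  Rule.mk (nat_lit 0) (nat_lit 58) (Steps.bwd (nat_lit 2) (Steps.bwd (nat_lit 0) (Steps.fwd (nat_lit 4096) (Steps.fwd (nat_lit 0) Steps.nil)))) (nat_lit 108) (nat_lit 0),
  Rule.mk (nat_lit 0) (nat_lit 58) (Steps.bwd (nat_lit 3) (Steps.bwd (nat_lit 0) (Steps.fwd (nat_lit 6144) (Steps.fwd (nat_lit 0) Steps.nil)))) (nat_lit 108) (nat_lit 0),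
  Rule.mk (nat_lit 0) (nat_lit 46) (Steps.fwd (nat_lit 10240) (Steps.fwd (nat_lit 0) (Steps.fwd (nat_lit 10240) Steps.nil))) (nat_lit 108) (nat_lit 0),
  Rule.mk (nat_lit 0) (nat_lit 70) (Steps.bwd (nat_lit 0) (Steps.fwd (nat_lit 16384) (Steps.fwd (nat_lit 0) (Steps.fwd (nat_lit 18432) (Steps.fwd (nat_lit 0) Steps.nil))))) (nat_lit 108) (nat_lit 0),
  Rule.mk (nat_lit 0) (nat_lit 58) (Steps.bwd (nat_lit 0) (Steps.bwd (nat_lit 8) (Steps.fwd (nat_lit 0) (Steps.fwd (nat_lit 16384) Steps.nil)))) (nat_lit 108) (nat_lit 0),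
  Rule.mk (nat_lit 0) (nat_lit 58) (Steps.bwd (nat_lit 0) (Steps.fwd (nat_lit 16384) (Steps.bwd (nat_lit 0) (Steps.fwd (nat_lit 18432) Steps.nil)))) (nat_lit 108) (nat_lit 0),
  Rule.mk (nat_lit 0) (nat_lit 58) (Steps.bwd (nat_lit 0) (Steps.bwd (nat_lit 9) (Steps.bwd (nat_lit 0) (Steps.bwd (nat_lit 8) Steps.nil)))) (nat_lit 108) (nat_lit 0),
  Rule.mk (nat_lit 0) (nat_lit 58) (Steps.fwd (nat_lit 10240) (Steps.fwd (nat_lit 0) (Steps.fwd (nat_lit 10240) (Steps.fwd (nat_lit 0) Steps.nil)))) (nat_lit 108) (nat_lit 0),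
  Rule.mk (nat_lit 0) (nat_lit 58) (Steps.bwd (nat_lit 0) (Steps.bwd (nat_lit 9) (Steps.bwd (nat_lit 0) (Steps.fwd (nat_lit 18432) Steps.nil)))) (nat_lit 108) (nat_lit 0),
  Rule.mk (nat_lit 0) (nat_lit 58) (Steps.bwd (nat_lit 2) (Steps.fwd (nat_lit 0) (Steps.fwd (nat_lit 4096) (Steps.fwd (nat_lit 0) Steps.nil)))) (nat_lit 108) (nat_lit 0),
  Rule.mk (nat_lit 0) (nat_lit 46) (Steps.fwd (nat_lit 0) (Steps.fwd (nat_lit 0) (Steps.fwd (nat_lit 0) Steps.nil))) (nat_lit 108) (nat_lit 0),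
  Rule.mk (nat_lit 0) (nat_lit 46) (Steps.fwd (nat_lit 2048) (Steps.fwd (nat_lit 0) (Steps.fwd (nat_lit 2048) Steps.nil))) (nat_lit 108) (nat_lit 0),
  Rule.mk (nat_lit 0) (nat_lit 70) (Steps.bwd (nat_lit 0) (Steps.bwd (nat_lit 6) (Steps.fwd (nat_lit 0) (Steps.fwd (nat_lit 12288) (Steps.fwd (nat_lit 0) Steps.nil))))) (nat_lit 108) (nat_lit 0),
  Rule.mk (nat_lit 0) (nat_lit 58) (Steps.bwd (nat_lit 0) (Steps.fwd (nat_lit 14336) (Steps.fwd (nat_lit 0) (Steps.bwd (nat_lit 7) Steps.nil)))) (nat_lit 108) (nat_lit 0),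
  Rule.mk (nat_lit 0) (nat_lit 58) (Steps.bwd (nat_lit 0) (Steps.bwd (nat_lit 8) (Steps.fwd (nat_lit 0) (Steps.bwd (nat_lit 9) Steps.nil)))) (nat_lit 108) (nat_lit 0),
  Rule.mk (nat_lit 0) (nat_lit 58) (Steps.bwd (nat_lit 0) (Steps.fwd (nat_lit 2048) (Steps.fwd (nat_lit 0) (Steps.fwd (nat_lit 2048) Steps.nil)))) (nat_lit 108) (nat_lit 0),
  Rule.mk (nat_lit 0) (nat_lit 70) (Steps.bwd (nat_lit 0) (Steps.fwd (nat_lit 10240) (Steps.fwd (nat_lit 0) (Steps.fwd (nat_lit 10240) (Steps.fwd (nat_lit 0) Steps.nil))))) (nat_lit 108) (nat_lit 0),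
  Rule.mk (nat_lit 0) (nat_lit 70) (Steps.bwd (nat_lit 0) (Steps.fwd (nat_lit 18432) (Steps.bwd (nat_lit 0) (Steps.bwd (nat_lit 9) (Steps.fwd (nat_lit 0) Steps.nil))))) (nat_lit 108) (nat_lit 0),
  Rule.mk (nat_lit 0) (nat_lit 70) (Steps.bwd (nat_lit 0) (Steps.fwd (nat_lit 8192) (Steps.fwd (nat_lit 0) (Steps.fwd (nat_lit 8192) (Steps.fwd (nat_lit 0) Steps.nil))))) (nat_lit 108) (nat_lit 0),
  Rule.mk (nat_lit 0) (nat_lit 70) (Steps.bwd (nat_lit 0) (Steps.fwd (nat_lit 8192) (Steps.fwd (nat_lit 0) (Steps.bwd (nat_lit 4) (Steps.fwd (nat_lit 0) Steps.nil))))) (nat_lit 108) (nat_lit 0),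
  Rule.mk (nat_lit 0) (nat_lit 58) (Steps.bwd (nat_lit 0) (Steps.bwd (nat_lit 2) (Steps.fwd (nat_lit 0) (Steps.fwd (nat_lit 4096) Steps.nil)))) (nat_lit 108) (nat_lit 0),
  Rule.mk (nat_lit 0) (nat_lit 70) (Steps.bwd (nat_lit 0) (Steps.fwd (nat_lit 6144) (Steps.fwd (nat_lit 0) (Steps.bwd (nat_lit 3) (Steps.fwd (nat_lit 0) Steps.nil))))) (nat_lit 108) (nat_lit 0),
  Rule.mk (nat_lit 0) (nat_lit 58) (Steps.bwd (nat_lit 8) (Steps.fwd (nat_lit 0) (Steps.fwd (nat_lit 16384) (Steps.fwd (nat_lit 0) Steps.nil)))) (nat_lit 108) (nat_lit 0),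
  Rule.mk (nat_lit 0) (nat_lit 58) (Steps.bwd (nat_lit 0) (Steps.fwd (nat_lit 8192) (Steps.fwd (nat_lit 0) (Steps.fwd (nat_lit 8192) Steps.nil)))) (nat_lit 108) (nat_lit 0),
  Rule.mk (nat_lit 0) (nat_lit 70) (Steps.bwd (nat_lit 0) (Steps.bwd (nat_lit 9) (Steps.bwd (nat_lit 0) (Steps.bwd (nat_lit 8) (Steps.fwd (nat_lit 0) Steps.nil))))) (nat_lit 108) (nat_lit 0),
  Rule.mk (nat_lit 0) (nat_lit 58) (Steps.bwd (nat_lit 0) (Steps.fwd (nat_lit 2048) (Steps.fwd (nat_lit 0) (Steps.bwd (nat_lit 1) Steps.nil)))) (nat_lit 108) (nat_lit 0),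
  Rule.mk (nat_lit 0) (nat_lit 58) (Steps.fwd (nat_lit 0) (Steps.fwd (nat_lit 0) (Steps.fwd (nat_lit 0) (Steps.fwd (nat_lit 0) Steps.nil)))) (nat_lit 108) (nat_lit 0),
  Rule.mk (nat_lit 0) (nat_lit 58) (Steps.bwd (nat_lit 0) (Steps.bwd (nat_lit 3) (Steps.fwd (nat_lit 0) (Steps.fwd (nat_lit 6144) Steps.nil)))) (nat_lit 108) (nat_lit 0),
  Rule.mk (nat_lit 0) (nat_lit 58) (Steps.fwd (nat_lit 10240) (Steps.bwd (nat_lit 0) (Steps.fwd (nat_lit 10240) (Steps.fwd (nat_lit 0) Steps.nil)))) (nat_lit 108) (nat_lit 0),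
  Rule.mk (nat_lit 0) (nat_lit 58) (Steps.fwd (nat_lit 2048) (Steps.bwd (nat_lit 0) (Steps.fwd (nat_lit 2048) (Steps.fwd (nat_lit 0) Steps.nil)))) (nat_lit 108) (nat_lit 0),
  Rule.mk (nat_lit 0) (nat_lit 58) (Steps.bwd (nat_lit 0) (Steps.bwd (nat_lit 4) (Steps.fwd (nat_lit 0) (Steps.bwd (nat_lit 4) Steps.nil)))) (nat_lit 108) (nat_lit 0),
  Rule.mk (nat_lit 0) (nat_lit 70) (Steps.fwd (nat_lit 0) (Steps.fwd (nat_lit 0) (Steps.fwd (nat_lit 0) (Steps.fwd (nat_lit 0) (Steps.fwd (nat_lit 0) Steps.nil))))) (nat_lit 108) (nat_lit 0),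
  Rule.mk (nat_lit 0) (nat_lit 82) (Steps.fwd (nat_lit 0) (Steps.fwd (nat_lit 0) (Steps.fwd (nat_lit 0) (Steps.fwd (nat_lit 0) (Steps.fwd (nat_lit 0) (Steps.fwd (nat_lit 0) Steps.nil)))))) (nat_lit 108) (nat_lit 0),
  Rule.mk (nat_lit 0) (nat_lit 94) (Steps.fwd (nat_lit 0) (Steps.fwd (nat_lit 0) (Steps.fwd (nat_lit 0) (Steps.fwd (nat_lit 0) (Steps.fwd (nat_lit 0) (Steps.fwd (nat_lit 0) (Steps.fwd (nat_lit 0) Steps.nil))))))) (nat_lit 108) (nat_lit 0),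
  Rule.mk (nat_lit 0) (nat_lit 58) (Steps.fwd (nat_lit 16384) (Steps.bwd (nat_lit 0) (Steps.bwd (nat_lit 8) (Steps.fwd (nat_lit 0) Steps.nil)))) (nat_lit 108) (nat_lit 0)]
noncomputable def R : List (List (Rule)) := [R_0, R_1, R_2, R_3, R_4, R_5, R_6, R_7, R_8, R_9, R_10]
def LW : List Word := [[], [0], [2], [3], [4], [6], [8], [10], [12], [13], [0], [1], [2], [3], [4], [5], [6], [7], [8], [9], [10], [11]]
def par : Par := ⟨11, 5, 16, 27, 2047, 65535, 134217727⟩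
theorem hpar : par.ok := by decide
theorem hR0_0 : lall (R) (fun l => lall l (ruleOK Ra40 LW par)) = true := by decide +kernel
theorem hR0 : lall (R) (fun l => lall l (ruleOK Ra40 LW par)) = true := hR0_0
theorem hR : RulesOK Ra40 LW par R := rulesOK_of rfl hR0
def cols : List (ℕ × ℕ) := [(2048, 1), (4096, 3), (8192, 4), (10240, 5), (12288, 6), (14336, 7), (16384, 9)]
theorem hcols : lall cols (colOK Ra40 LW par) = true := by decide +kernel
noncomputable def JS0 : List ℕ := [nat_lit 0x3b63c20180153c23b6060ed4f04050f04ed4173b60003b6050ed8000ed8133b60003b6058ed8000ed8153b60003b6050ed8000ed8133b60003b6058ed8000ed8153b60003b6050ed8010ed8133b40013b4048004010014010113b30003b3040008014034030ecc0f00100400d00b3b203800c02c00c0d0020093b003000401c0040b000009000028024034ebceb4eb0eacea8ea4ea0e9ce98e94e90e8ce88090003ad0033ad00001800001001800c0180140100800300400200301cea8004ea80300300400a00400301800c01001800c050020043a801000401000403000005000008e94e9001,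
  nat_lit 0x3d10003de0b0f78008f442b3d100202b3de0010a8f4000404cf1803c293cf0003dc0a00a0f700b0f3c273d102c3ce010f340a4f34103cb0003cb094f24000f24233c70003c7028f14000f14263c30003c3094f04000f04233bf0003bf028ef4000ef4263bb0013bb094f3c064014ee0008243b80013b808c004ed8010008ed8220003c400d0013b5084f0c000ed02000401801b3c107c00c054f28040020193bf078004058004020003c7004f1cf20064ee4ee0edced8ed4ed0eccec8ec4ec0ebceb81d001002004003000070ee4044050ee00001b000001000068edcf0c058070068054ed819,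
  nat_lit 0x204b3ff0100040bcfa403000047000098ff0f300100e00011c000040048463dd0440470300153d13d03cf3ce3cd3cc3cb3ca114f44000f5c443d50033db01c3eb3d13d010cf50008f680b4048f48f44423d60073d901a01d00a3d210400002c0000b3d73f43d33d23d11000000343f0100010020f8f5c0003d0010053d80f0000f403b3d10383d13cf3ce0e8004f84100f88f44390000120000e003cf38f34373d23e00393eb3cd0d8f300d8f30353d00270263cc0000d000000c000333cd0043dc0370393db3ca0c800cf2cf283101c01e3da3ca3c90c000000408808cf2c2f0000223ca0b8f5c0c0f5cf24f202d,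
  nat_lit 0x140003d116c0010781a0ff8fb05a03e3d03cf164f5c0050302c00600503b00116102c000f582b3d600040b0a00e5060124f585741104c3d501000805d0080d00101541403000004d03c0b01641404d3fd3d13d03cf3ce3cd3cc3cb3ca3c93c83c7158f58000f58553d63d73dd0543dd3d73d63d53d43d33d23d1000150f54004f3c533ce0013ef4103f30153e014800005401cf50513ed05703e0423d93d33d23d13d03cf3ce3cd3cc140000fa80504f3e93ea3eb02f3ff0203d2138f5c018fa80b80ccf90f484d3d60053e903a03d3d83d2130010f4cf483100900a3e73d23d10c00000100344b0033e50290283d1128000f483b3e304d3e33d13d00e8000f8402c493e10323d00d400c09008cfe848,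
  nat_lit 0x4300041790f0f50713e80273d41c0008fac0590a44800105b42c1bc000090fb81e4373d1004f7cfac18803cf646e0190800580103d83d73d63d53d43d33d23d13d01b4f7c018060054044f64f606c3de00501703502d3da3d91acf8002805804c048f90f686a3df00901505405d3e63da1a4004f9004c0a0680003e33e212cf8804803c034f606701142e3da3d93d81980000943f0290010020f8fdc0003d00100c3f9194000f5c3b00b07200b3d63d519106c0004700041a04918c11c014008f506200000141118400d08cf4c6000202302417c00410c0245e00006a000174008f44f405c,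
  nat_lit 0x41600041618400001d050873df000219048000f788500d00c0002100000380340f48300d00e01e0033dc2080f40700740088101a01c00120102c000f647f3d90000030ac00404cfa80007e3d80004501f51380f4f606f4053d7004f300007c4090003cb1ec0c50f4008710020124020340040410f00c00000e43902c0411250680d8f40f3cf38f34f30f2cf28f24f20f1cf18563d00003f444802b0113e21e8fcc2400c80ccf5cf58f54f50f4cf48f44f40f3c793f03f13f23f60223f73d71e0000058fe0773ee3ef3f00653d83d73d61d8018fbcfcc078f604a0000290271d4188fc4070f5c743d743e0001cc0040980910f072,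
  nat_lit 0x48000f46f22513803c8607e00e00a2741f00348e07a00c0270092701c802c0249b47500b05026817c0289905000902426025c0208f42800724c0182540201789705500741e2581600289502e00901d25100c0209346f00202f2490100041b88a02c00008e22c0000149146a0040290042400440108e04e00323c12c00c8e3ff0034582340b00080988c02800104a22c06000411c8a4530000182240540440000448841a00041a03506000106003,
  nat_lit 0xd600f2382e8038a542c01229408c04c9908301228c1dc0448f4320114202a019c04414ca706001104f29c180040140a206500f2990f4038a503b00e25409c0348e0c201023d17c03c9302600f0c622806c0409907100f23c1200409901a0102950ac041064a403600628c1c404c03c9d04f01303e2890e0048120a142f0110552811f80090209f02f0012780200289100500f2440580402c48b,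
  nat_lit 0x46301e04903502142a4292ec000214054ba42a0030470200ed01a4291040082712103c00146d0912e40011843b0430ff0434604260e914914d15115515915d1600683f406916115c004b845500042a2dd0a90ac04c39804d0ad0a90a50a109d099094000b645400042314c0010b802d150b50270fa02f0170104284274264254244234224212d00001f01ec5f45545602502249d00e4272cc0011ec2b8b24280050230200e10074261a80011e42d429cb14260030210290f14284251a40081f51643c0010a20a60f80011d0b001d0f001d4734222bc000068028ae01801b4212b40041dc1c81b4ac0000760702ac06008107caa0590092a50d8024a54310092a4164024a9,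
  nat_lit 0x20380123400040e40d0b90004550ed15c48115d1510d82d44b0054362b800804c000cf01002202300133807c084088000cd4364374870b54874374364354344334320030213310cd0c90c40091d51d80e046c0e11d91d51d002ccb00101f4443280011c83b4724730351180450af48343343243143042f42e324010001268c80ca02200031d0c400c0c810c45112d120c64300020310411010274463140042551d43c00042f0ec0b84440b90b90b4644320004681c11a00510c8c44384310ed0f00090acc342f00042b3090a400414130c0e80490d07a00009443a30413842813411c0e00410c90b10ad0a90a50a109cc00000030012fd1980841300952b80690acbe00146643b01842c2f400119406cbc,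
  nat_lit 0x4d70030014d739000042c420ab4d90000024d900138d12c0113201a13a8175360e244b44a0030f506a4e905c38512400931819c1a43dd354e00010f30f61100003c5344df4c34f0448447446100014005270c80160490eb001378308304000dd4450034bf05f1220624bc3711100092f845446d3312e8db0010424690f000110c3b4bb1324bb4424410e922111c3b48701401244b0003680000d0084054d945d0004432b910400403916cd844000044535d10c0010f8d60034850000040133540c007c0740bc00cd401d44d02f00243a34c0740b80042c4810004383090d8001175374111209204d245c12505d0640c30a947a43a43943843743643534400c0e921865,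
  nat_lit 0x2202400000412a00210e3d800c4a940004c0540e00212912312442d370004f54dc0004f92b84984b0010429368f44dd0020034eb0103cc49c00800cf21561270013c4000418414f04e700b0014f21290070053bd394460018004014ee4eb0012393a4000934ee1261391260034e83b53d448c008ec1214f20013ad3ac000ea4e30003a4484019384a800c00621801c0148e00b00423d16000ca60050023a115c004a512b0014d928935c001154a41454540014d44d54d639c000421390e61054de00239535c00135c35,
  nat_lit 0x48c48d5191681620ac0ae47347247147046f46e41800c1b1280650020800820f800450c4e0d000013404b2e545058d4514091bc3a00214c1514140044f04f90400002901e40c52c5785745700bc0ad45c52146825825d4711b10247f0004740b11d00011fc2b01c0234744051cc0c51cc1200a0184724013dc0891c41411f01716b01e47046f46e46d46c46b46a4694684674663fc01d4545bc4f805d1e51e11dd1d91d51d11cd1c91c51c0fe0020154ff19400406c074fd0001675100b94805f948143d1d82d4e800147630c0080b4020fc00102a0073ec001409430fa50012e5030084ea4eb4f11681481474ff4734723e40053a80b0614e50001141cd39c02d40c001394f80000060030190163dc014004018f5,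
  nat_lit 0x8708600145c2942e8001164884890b518f0b54894884874864854840040a42d921521120c00d3413442e46302e534534133c1c1150020a40874500042853d0b90004cc0ed3313342d46202f44d02c121120d2092052011fd130001245201942cc6182cd30920d120030a44cc0f0008538190d000115114f2e400146c3b0c01800c051a47f0b54a52780011147f0030014400a84fc0040091f90f00100350f0290234380000080a50147c00202952c0340170074351ec0040c12641410c47a00050c17143005000d0b0210150023100dd21c0050a0140004251d80050847600029403c0400091c51c91cd1d11d51d82c45c42c51d91d50700101a0090b80000683b,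
  nat_lit 0x4c500049b09526400130c234c10004970292540012fc264bd0004930940000e812c2303703f19718705749a49949849749649549449349249149526c00023533ce408c4cf08a00249b49134c0052687008f00400701709c4d300048c00401001805826c265349220010050140aa4984840080100482ad25d200030114e03ec00803d314b90010104e247c0012603b4984990c519f0df0e30f70a84d049249149048f47800c2b53603c0020150180f8005390300d00000c009c32830066830137d239124920060805060b24752440152e91c50109900148d46d3280012311a48c0004ca17022d300224011231190064fb0bd00348b4601ec25c29c00851,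
  nat_lit 0x4e90024a11f53800012802000306906b06e07c00862939c0400118a06b00c001394010821a80724a64a54a44a34a24a14a049f49e49d49c49b4a0000051274b70014ad09404c001274aa0014b408c0000483b4b10014a70280440003b4a40014ae098000041274ab0014a109403c0012749e0014a808c0000383b4a500149b0280340003b4980014a20980000312749f0004950940041140302300005f05600958067c68866864126d26926526125d25925525124d249264cd0004a309528400132c234c900049f02927400131c26,
  nat_lit 0x57f08f08c28070c2482441dd2cd2c92c52c12bd2b92b52b12ad2a93000001b0374bc0614180e40092f12e4db0014bb1100540dc0012d4b80004d80780d94000400092d92c03600f0012dd3000012d00a4b20004be0992f00012c0254ae0004ba08d2e00012b00a4aa0004b60992d00012a0254a60004b208c03d3c00a00052912b4bb0004a308000c18c19009c1f0021984cc0100055b8040020004ca0042186d56112a52a129d29929529128d28928528127d2792a4b10004ef0b13bc0052c42b4b10010084a70040a52c00013b82806e4e30714b04a41c81e52bc6f0724ae00535c01128844,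
  nat_lit 0x470154d81154a02a000d321350460a70024d146c0053180a01300042530c005460260000124cd454005300250110003a92f4001448235100004bb0292e4005438260000104cd42c0052d82500f0003a92cc001420230294db0120004b14c800c34d33c040020b30240780042b4034230000ab09b0083042702787756452d52d12cd2c92c52c12bd2b92b52b01d0455130930014bd4c541c0012f0254ba00050508d40c0012e00a4b60005010993fc0012d0254b20004fd08d3ec0012c00a4ae0004f90993dc0012b025,
  nat_lit 0x5cd1f152972c7e87f14c82e832c2e802534934534133d339490020110142fc00404429d4800000b00e0dc03c2987d880574c40533d470185d71ed0c80b50040005180004100101a1030a40a31f31e91e84cd5144c4758001444cc00110110250c0016f54a1420a009f1ef1fa5414cb4ca50400402c025400000090044fc0240387b07dd4f82813253e0024ce5ae0cf0f25ca4ca4f40040244e4b20000090b04f00207a07cd4e93193b00009700902c2587997247cd3153a0000070ac1800187907bd7053112000000500312401078876030930d391d71b94c33c400076c4c0631df1d54c24e000077530d371dd5c04c147d6fd6b930416,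
  nat_lit 0x1530000830030015756100001ed4407b0042183b400c7c07d00223d570004a90930004215f55f00057cc24c2495c14e0000cc56c87c0084c4f121d0010b416c0cc0015a43e12c15d0030f75684e80097515915b0010c25615fc0000343100c4df00e02a57d55c0000ac0955602c2161130034e055575081445000937d541120014de54d574448001520030024d90095c80e955854400800536001c0315002402000053d35c005084d70002940740887fc0140013554e0000e75e25d100453534800d73c7f573c07801935d54441d77482c3994c0021f600b3040047ec0714b,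
  nat_lit 0x2c0000f455458800c465675ae002144118580004508ab0000010fc0c00d00cc0a56a96650e0025920f00bc0045256416c0d40020445943640040e1440c600002659144089c40d5d00116357300000401000c7c0cd002265560004a35580002943e424c048324001620c70010c931c0040004700c0085843e801c7c08d00625557c014a90670043a016800d085320052180180116007f0032556f80081fd5f52d00129818c0015e,
  nat_lit 0x51e00362224c62200d52207306f07112316e5b15e80084516384394e01c40017951c00162014313d61c53c5e00001256e97761e13a63907a06151b51a5d80082b83097500108b08c5d00002b5330060080146355185cc004114600840000510534fc1301cc97040d459720016150505c40004bd4a11f61413062f5315145c00043655d03696d40d02956f00000b5a40f002c1b54496e00106a06140c0014b4908bc06a2545104e00018517bd6d61462803516600351851751651551451351251151050f5b034034401039d6b5a30031625a863c0015a4710000330043d44a00043355a02f00011c5600044985b0000315a580800565d68,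
  nat_lit 0x52e0020e959f0c36194b400439d720169850000e70c36116440054a81e0d40e600060d49c004309660399825260005770955d4005490230c20004254840015c80a57000051f0994740015b82556c00151b08c30400109518001569028000300b05660025150980080515680d0010125830300000515882552c27713212951b51a5195185175165155145135125116054700014dd8053700151a3c80045f97005e980c0f95a97f0000f053637c08d9148e948948548147d47947547146d46946546145d7e00002d1ad5f41cc17417020c9b44654857c00104b10a0f00004581b42e11762414063f26953d51f5ec5f85b8000f1,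
  nat_lit 0x1a58102d50c55c6486554a54a149d49949549148d48948548147d921fc1e35344dc0004915ad0105d6741de53253153052f52e52d52c52b52a5295285275f801004c2e9910030130b94d0008054445740010120ca6400000493300000205728852d5cc0058184e96ec0418f00004a1251941502194ad6e1e05c55336380100214c8130005f15fa4dc6f199c1e04bc1d85094c14bd4b94b54b14ad4a94a54a18d00056509663176873d4bc715b71350001c40096f84e11400113d54647c00024c3b1395d416166213c54452b62c00c3643702f0680020d80d90bb62800435c2d84b00006911e6243f44e949d880fa0c30015dd4bc00c04805009987,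
  nat_lit 0x54000252b0980080916a00c0010255a902c000098074255536822bf19d53153052f52e52d52c52b52a5295285276714c80014f01653c0005320554c80014f01453c00053204d4c80014f01653c0025320554c80080356983b99b00100c0ec6694c00014e81453a00153004c3d4028000b700100400602b02c00c5396640080141f41f14b99800200414861352d65c00d74c5281f17ad960021460906540041e57a40c0001430801fc1d17a464ca601ed4a149d49949549148d48948548147d9452f0005990b16640054bc2b52f0010db5c50eb64d4b8001660280d95c418952e15c47469d4b46f07418152c3943554ac01,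
  nat_lit 0x5360005a80956980014d0235320005a40296880014c0260012300916880008c19fda122d5ba0c41f553753653553453353253153052f52e52d6486880ac0bd7fc5f18cd509a00706335416000088982304400104357603000192d8f5372222d009653d53c53b53a5395385375365355345335325f8004614b0c3b01f0005730058105e14ec7104e04d0003c550c01003c0480d5875420030f15c102967d5040083c582c2699e0010ed04e17d4fc0016d0445b200053d0794ec0000816e83b99d54e00153908c0400003b53600054b0295240014d0265320005470955140014c02352e0015430280000143b,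
  nat_lit 0x21b22a0046841a41ec0045c0ac1500000d400c0501b997d981984389a854b0011f152c000a922455700054969d55400151c2554500155308c000048b05500015420280440010953f00054d09952c0014f42553b00054908d51c0014e40a53700054509950c0014d42500101254108c0002856c8266902e210953d53c53b53a5395385375365355345335320743082fdaa4410001a60005c8103694410ae94ed0405964a60c60b0016916fc284001a35420005b40296c80015002653e0005b00956b80014f02353a0005ac0296a80014e026,
  nat_lit 0x1108308c0005516d80057c56ddb50000e40fc44c4817ec01953db468b68a68900854e6cc001afc999b26be6e355155054d6c40009a5b790426926708554c189538998919531b000012f004104108000dd54a00203c03f0816bd52400431dadc979ae00003a03b6b431952151d805de63319b67f5536b15e08c95482c07167e5516000048ec1f44400068324a4dc96c84833d53953553152d52952552151d51951551150d9c0001bc1bb07c121b39539534710020036612260016ac008960b641e00122722408c0019f0978022545490f59300a55b197401daa21d2190066a46786900140c,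
  nat_lit 0x2602956e427f55b4e800419074c60000061066610188a49ad9a95565200010610071240001780a5c505f28f28501e5574e4011ac4a35ac55c15ac070971a51a54985a7c259c400325801400c70c008a24bf8630011ca00f45c000a255b14228927f5524e17e1574015ed3040e755c55b55a55955855755655555455355255107400823c239a5c999c20011086ca240687704000580375c01600425806d930330f2b02a16f727f01555a5596fc009a3497870801800c29825c265a789d1b2442dbe00125c26618c00092801cd724924c2846f35610125576f457c3e194994c005bc09e09b0003b155400c9209e1bc1a81949bb5540022451bb20400490da110500022d12b6e89149f5bb09c8241549545b90000061b96e0019b15ba89c0239705545b7,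
  nat_lit 0x5710005870956140015bc2356d0005830296040015ac2656900057f0955f400159c2356500057b0295e400158c2656100057709409000557c230017022bf688000ca5841a13246f856856756656556456356256156055f55e55d55c604590850001cc0000820020075845896ca2a72c52d43336fe31d72d5a0000a50800015662895900009307f0140185800035637280080bc50c3c00102d25c7240000b83b57c5816c229f2a426769d2646ac56256156055f72000801802cbf0010072675200000140e5c700526629b6bf6ae28155f71800402801d4000000700d4fc0201a0a61af19b80815753e00126206702c0009880d5a2,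
  nat_lit 0x1636e42a874c755d045ad5cc3015b71a2996d3573741798a4d5c9a957500061908d85c0015cc0a57100061509984c0015bc250000306116940b8a8c5a45008184403b03a81515c95c55c15bd5b95b4fe0031241c91ab1ac1452186cd0450471a60485a373c008490a390500104459f35da1c76c26400d5e1ce12210a099002578734140184004e65d90005760295d000175c265d50005720955c000174c235d100056e0295b000173c265cd00056a0955a000172c235c900056602959000171c265c500056209400009970da50241f711656b56a5695685675665655645635625615604a81d40bc001a357500058b0296240015cc26,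
  nat_lit 0x63819237f2fe57957857757657557457357257157056f774000288909050a021604c04b70a2e374f36573623f6c810c578770001960255b86572df2e136a7112e857776c004014ba14000000307813c00cbdcd9dc355d5da00062e63a4598b4b70b455d55d1d900073907b760bccb3d5cc0c0000f52c0bc5ce55c9a101758a0000315b975d68c0016282b01362e00002d5a37596e41f55e4001d562d07b5780ac0180095b41e0026e329d726162750004a8048c0d0006e057f60051c9901c96fd5cd5c95c55c15bd5b95b55b15ad5a95a4096390005730800000242b98dc7257b1452aa17226206c5795785775765755745735725713fd6c014c0050512f1720001c400da104644681c9719bc9d300268311811a6de7480047544bc4c5b75d1,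
  nat_lit 0x1560e0c60035677b4559a34360009599ec61a0015657ac2c8350001ea0031d21c80d407c00875d9f9e90016991767a0001828011d538906356a56956856756656556456356256156055f79c001cb1c882e3033147677623805775697980019c1d8181c325a815a9e566f75f05f56b56a79000419d7d9370000675e3684190b085dc694aecc395c55c15bd5b95b55b15ad5a95a5e330d7555716855c80082dd9ec50de20010b61435295c00017e5805f900156e3c80040e16c40c0000ab5f837d9b1a24e24c495d55d15cd5c95c55c15bd5b95b55b15ade100100200e780000008dbd4000130f75670557377c000db8bc8025de30d36b5720318b80055c8230010a25f04040004344100a,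
  nat_lit 0xd5e9688034d20cc44115e95e55e15dd5d95d55d15cd5c95c55c1fd0002fb31c6009d42d42982800155f0001fc57d5f609800457b7ecc957e427800d5e9fa09009c09f0021d17d80055e0fc09f09b0007e55d55d15cc00d5ec045638200d04e81de83ec271f800200d0170dd0337dc004030050eb0005790093e95dc0356281f00b80b40e15d15cd5c95c55c15bdf600007b5da0996755cc01169000004005ae4a21bfda2c3900010207e7d47bc6709bdc900155cdaa9de0e84c419bc3915c1f400200f6293007cc00404878c5b00000e09a6100385840f40095b9f200803c0013ac0f40015b1f156a00057d07001101057b1071061ea11811b0397c15f01c1dc1a895ad5a95a5ef00167415a6c62137b96180055b00a0130000ed5a400160c26,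
  nat_lit 0xf3638098cf984d5e4f100108c6030100001296d42362d0dd30d1c41fe3045bd57e57d57c57b57a57957857781015c0010957e0035c90996c40015f41e00065459b02904680c0e16780b40095e82201f02102b0015798096680015e1eb00020a20c028804820ad17496056015fd5f95f55f15ed5e95e55e15dd5d92a0015f91a31940001ec9e9c90796257503223513653797963bb64210416e57f80000416c165ff0000590567f97302695f5110fd0880006456140017f80a5fc001583098220001275800005f90957dc0015f82357c0005f50297cc0015e8265780005f10957bc0015d8235740005ed0297ac0015c826,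
  nat_lit 0x57900058308d6040015dc0a57500057f0995f40015cc2557100057b08d5e40055bc0a00102a5927a40000a8020025a80c42251df3331c706e57357257157056f56e56d56c83400426441cd700060b29c8182587c9ec4d71e185e15c60c00102229e2c80000882785d5a11927ae10f11176756f82db055d8010771822bf1fd32c1cb1a857557457357257157056f56e82800405c05971c050006690059a44948688740c55f15ed5e95e55e15dd5d95d55d15cd265a80360007015f8000a504900057c8256c012d9344017296f40015ea085bc05706005f07102e5a858157d57c57b57a57981cd4d71d5f4710a10bc57d1bc2355f0010020be0ba0bd1600042fc0ad170000bd6308182f43143bc6d4d000895ea05,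
  nat_lit 0x10ff79912766c5655648440000e96d11c0fd7971325655646a95bc0019402c65037856f0400002100cc2308237a7a256d56c56b56a5695685675665655645635624a80043d43cc350050000fd68b0783e83fd8155d95d55d15cd5c95c55c15bd5b95b55b15ad2a69d0005761f4008495a746f0010805ec0980019d4016751f538d1f7339677094579578577576575574573572841604005dd82c00700628700183ddd40016002b5800007750a0a15cdca196020e6a218157f011d895f80176d004572111cc80095c47d69f00057008000c5e05eda74720021747301bc0045d5d9c1e0006a2005a887d87e55d95d55d15cd5c95c55c15bd5b95b55b15ad2a0000100734bd6140015ec25,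
  nat_lit 0x10660501d400018c021835e20650005608600002382ac0d08b2eb1c70bb56856756656556456356256156055f55e7f5c94001a682c69a0007250adc94001a682869a14956e00085dc906e55b42b00003e1476e107c0f8834bd482c6e15ad5a95a55a159d59959559158d58a1664a000574600000130134040180190650008555c400404d990196140000120654516000015b82656c00057e0955f00015a82356800057a0295e0001598265640005760955d0001588235600005720295c00015782600000a56e0940f5ee8b5c41559959559158d58958558157d57957557009566000579a845b5599596130960360350005668480000056d40d058,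
  nat_lit 0x6e200056108d57c001b800a6de00055d0980000e1b71a259f7e432529008956456356256156055f55e55d55c55b78411811c0022056a00119674602187d5a4001b4c446d100056707959400406dd046521e00001a1943f1acc001588265600006b1095abc0015782355c0006ad029aac005568260015ea6830300001b9aa1a206e3ac37b2701200bc55f55e55d55c55b55a5595585578740002083721c605000560079578000361a482061b70500055c098000005c0da20017d232827d23230520320413f12355e55d55c55b55a868000759c00265d655d004a4de70361914001a600009d64469582025c9e89f451d59158d58958558157d57957557156e190010000680dc195bb16f402c005ab,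
  nat_lit 0xc717367e55e55d55c55b55a5595585575565555545538940008cc1145e11568911000055d08800447c4499f41f0001c374c079c10948f4c96044558d58958558157d57957557156d568fe0000a001445d87428d5ac6f03456a0040043ad9641e00069b005a6c47cf303218e959d59959559158d58958558157d5792a0050041de00083d5c0001f3c281dd7101e25704a5e4cbc55bc6f7c8004563111c300095887d79100056108000cb9cbb1e3c050021da70a010004b91f080300079400499898c9b559d59959559158d58958558157d5795755722400008f0920bf88d8fc0055b8f20870880008895ac000139714142216ea00056908d59c001ba00a6e600056509958c001b9025,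
  nat_lit 0x54b0000497181cc86d6b0001524265470005aa0956a0001514235430005a60296900015042600001404c1290498bc051abc05c0014fa2e0001710dd0170145d8f00aac665ba151551150d5095055014fd4f94f54f22d00000e55408d7684bc4c895c95494c35d52d52952552151d5195155122c00000a00901b8ac3c42400016454e00060c0298280015302654a000608095818001520235460006040298080015102600009160009588da24acc95094c6bc3c594952151d51951551150d50a2a0000e700d00c0458a594408000151e2800109559065400024d732270911231212521810a354c54b54a5495485475465455445b00001401500e22669a00054b08000027c3204ac1f09f17c66f55455355255155054f54e54d54c54b54a5494a80003184a41e,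
  nat_lit 0x33700400350e09958554911336553552165570008cd60902b99355b0010b56240b10a5568001f902833282233955a15e06cce5564047da55800400403604c0c00000b80e02c036078ce5f5955555154d54954554153d53953553152c5600100433f16004d8d0000014439c000600a1f80365537b8002038013998185523c400d54cd3065002004306450004010c72330000012fa8c800cd1d53a31002324323801120004e4a018040003277ca00e03d52c011cf0b706304a0017b954800c45da200b6305510021cf71e04a678004738129890001cc068175c300015341e,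
  nat_lit 0x136c5667a000007c07003844565004004d1004403c8300034300d17dfe0d04de033593407558e4276d00011c001e988b10527d33e3750ca0cb2365619048d80440017156000105d09000f900000100108b90595640090150c655f55e8fc0000f40103b00055e8f800407007411e3d55c0000698f157c010040d1c9c957156e3b80b36b0c064055c8e8d7c3083108c80023900036a0bd0bb2318e2020da15b557956a3700b35417606355a8d88b5d7c8ec061569ee0000180195f4d915a5561710010ba3143b00002e08a4fc0b63615568d42ce0a400c004570006310042be09400071,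
  nat_lit 0x9100b28de7402c8686200a0f927c3ac0242415f267008016006271e840207c27100723a0d0019e82487890061f20a0015e26487920051f097c0115e88a0e4003084286160009e424839100125e91c03c005e088d57700178c23491c00003a4678900065c00e915e1c0019681e658000785911e0c388000046550000059480047c00300025594400800000a4356b84b0001cc0080a40a2124480010da64d00c00202c013598485671c40015a0dbe20,
  nat_lit 0x61e01a68b2342b0064950ac01828d70406220c8d0740170252301c40588e3a801506e8261c405da264811001905b2521e80619fe4886f0020ab2482ac0047c0a80002640440549186d01506000b93c02c2780502764e00c0130589361ac048a9366011356930d98040d4e4b7b4012218a0c0448f79d01221a0e40440b89a25e01027a19001008c9202300305423007000824a4a58900105a2280740009e00500c2442400300f649,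
  nat_lit 0x38401b3a41d80708607401b24daa00707c8a201e1f0f64074f165604301d218f04070a8a5508801d86a2357680700fa5408901b2780d006ca307701b27812406c8612901a07894e16c068863a801923ce5c060e2a523780172d1944e58068e1e4b0b701a23c1d00688e37101b3a008006c9e36e01a3a16c00741249488401e84d224df0074b320938e01c3689401c40048636b0005b393003806891,
  nat_lit 0x9909a0026d4af8004c303c2c200030a592090000477fc004218b6800c8e7e5004218b3c01ca62f000721a07c018b5e482dd00727a1b8018ae2482dc005579778038e95dc00d24e1d8034b1ca081900d2e82321640348686800c2d227cf5c044e91f801029413c0448687c0111f01400448608f0151f215405c7c5d301724ce7c05ce806701c06c260cbc0721a49f85501c80c22617007212a48,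
  nat_lit 0x8e400902127c14c0201266c40e0073ec91dfa801d8ac921ef0060d6289fd4019a2e680150050129ac0ec0163588d0440040549a816c00c16269072002049935f8400988a6829f0010d0918004000036677de0cb61f000062000998f24194030ab401c3c433a653110003bb990000190b08463ff0078340003b900387198e0cc019034106314160ee6623190058a70003b9001879984ee002801102c19c1081c2603b586d0090033fb89b03397c3a8764014c54008010a965e3c40530323140019740000084384f00129100004603d004313970a400001640e800cf4c0e25b3f503a0023d20001d628f9686fc0000e0004f465972b1bd8790008739600d808408800cc3a57,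
  nat_lit 0x120610189ce3600622f2689070198bf224d4c060b8e670520188b29bc13c0621826f8390180409c81900608f01282f0178fb9c403a3c005c62e708ed0160802322b405822a6d8c401503427c098050090988000147e39a046805063a6d11a01377223202804da80928550130819b631c0480bc9a02301102b57ce3c0463a6684200103e19b90b003c122478eb00f8e222506c038f424642800d0409441200340f09204900c8a69bd04402cfca6e42100a3309562940282066d,
  nat_lit 0x1a029244018c4800431001e7d8f900085292000009c918f8001061268004064910000252463d400a2f405e7c06c0010489ec1200002f27a000022245150041004086792b4021235260b54082014a80e10200dc9347ec08063a4922601f7d62820ac07c8748987601f8579a014007d6000c06401f0e59e00e807a2b49f3a401e909248038e54074eae7792c01c3979ae3500722ea488dd01c8c19da4340041cc03a750670008fd27c000068910710190089d234006629889,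
  nat_lit 0x47a03808726823c0e0df0026884830378f8015a1c00c0689100201224423807c2526b08f00909227c000f4801917405a8600002e245170010f440024f5290033d9a14028e6c008dd6840064480013d2a0e63c0009cca800f033244e240ce16a4800a03024403408c9143f03128e4300c23888901336e03037ca0802c04c918ff02e37d2254700b920a8100931a02d073a025340b24349646302d45a9191880044000627f07600007091c0800ac913bf00192b9f917400109609,
  nat_lit 0x93b04a90d025a540640809103627e0498b600ba50061408000c1402e9300d0482467180002a00da9200001e047a357a80004940769100004624536400c750116900133130002a1a08000010910044150032a1010a3d0a000a064890202a1001402a0e338000a6a8e00c03f2461b00fcb049251200236a57c00c0609100600d02da340280f09101b01a08e9b000401c914ea0014d693000a7280013068c00c03b24539c031312464dd00b9c7958f340e8a340ca8b00e281039300a2a3d40e510803289,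
  nat_lit 0x4006011015a768f8008f680028700d0202456a8001384a1000002009054a768e800e5540027c00000b01aa356e40041ac0029100900e02da340000049161700007500ea4803813c9100302a2467dc0d4cbc0c29c0000a10023ee013a6c0080400da8da0e00092f02224000002891a0c00093f00da680101349100994201f35ba640080f89100a041244021260130ed007a985fb0029380489f0000100915fb000499040a5c02412c910000422440024e00de450006960190222452280d435a47,
  nat_lit 0x1ad40007c0009560016b4a9400401001c028034092a300000300600900c023046a9295c004b340027500100400700b01e03ba8c00000891a520012cd000241a78000b364600000300701a05aa8a9380052880027c001004017a3400000891a4a000935006a840040749100001305aa3401001c910009e0049a0aa8000001c910000cd0035b1a7c01c02405005a9d68b0013cc000a780040401028d]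
theorem S0_c : blocks (facts 11 5 16 27 2047 65535 134217727 12 4095 10 1023 A R 32) 32 JS0 1189 = true := by decide +kernel
theorem S0 : On (Step.{u} Ra40 LW par A) 1189 2917 :=
  steps_of_blocks hpar hR S0_c (by decide +kernel)
theorem D0_c : allB (defOK 11 16 27 2047 134217727 1184 A K) 8 2 = true := by decide +kernel
theorem D0 : On (fun r => defOK par.W par.WL par.E par.mW par.mE 1184 A K r = true) 256 1280 :=
  On.of_allB D0_c
noncomputable def JW0 : List ℕ := [nat_lit 0x49b00d826c23619b10d8a]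
theorem W0_c : blocks (rows 11 5 16 27 2047 65535 134217727 13 8191 91 A 2917 1 cols 18) 18 JW0 0 = true := by decide +kernel
theorem W0 : On (Row.{u} Ra40 LW par A 2917 1 cols) 0 18 :=
  rows_of_blocks hpar (by decide) hcols W0_c (by decide +kernel)
theorem idx : Idx.{u} Ra40 [[0], [2], [4], [6], [8], [10], [12]] [[0], [2], [4], [6], [8], [10]] 1 :=
  idx_of_cert hpar hR (K := K) (by decide +kernel) (T := 1184) (T' := 1280) (by decide) D0
    (subs := [1,2,4,5,6,7]) (by decide +kernel) (T1 := 1189) (by decide) (N := 2917) S0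
    (by decide) (n' := 18) (by decide) W0 (by decide +kernel) (by decide +kernel)
end a40
namespace a41
noncomputable def A_0 : List (ℕ) := [nat_lit 0x2b18301528602c60b8200140380a418010c2e0220540510b00bc4539148c72311ca472418905749209002c1252572b948817395c8662b060e562498ae562928a872a954a080498a84a4150bc82291405d2220bc5e3924bc50b178c172890bc14294ca4429148a0929202a144148a250c144c15289c94074144a050c93c85027983406393c0c126910c1605148415290c8470a04ce4125940e4b30286c4258e8a3f1f90684028e44c6200e0a2c1b9c703720ac4c51b8d8a0b1b180c3638680a81b08d2351aa4422230d45871309ce2d1398562438a4444140912200f244825403c4a21208842511a04223288c221118752220e98422138843a5108790200e04401d38743c40e83c41e0a180e06284c24609048a0c091c0a0438441a608844a11061c360c306c0a50d8444110d88361c283438602070e0d0e08381c40100680e03cc10079c1e0f203c0a60280cc030214080d10340e2038144050208080610181820600ce030188060e38381c501838c0e07081c022038021008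0440100940201380404101008a0201180202380804201001002001c0000300000500000800000800000800dc4369b506c3610d66b41a8d44349a50683410ce674198cc43299503b320442630988c46161842603010be5f0834bc82e97485c2e20b65b2168b482c9648582c20ae572158ac82a9548542a2096533064a4604145008281c0e4f09389c726934a4c2604264b41289442492504824108e4741188c4229150442210864341088442090501b20047e3f10f87c11e8f4c3c1e04763b10e87411c8e4c381c041837086c6c8030d42341a08663308c8646188c423018085e2f08b85c6100b482c1604242b08a8544100a442314044e2720984c10289422412084423388844102084410100c3e1f483c3c10e87440f0e10361b40683440c8650180c102e1740582c40a8550140a10261340482440884500e08041c0f080c1c80683480c0620160b20281480482480804200e0720180c80281480402200603200404800805000,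
  nat_lit 0x4800000008040020080c80100780200180c00e0700c80d00801a01983401701803a0300782e01005c033020048040088440128880241400742800ecc683719103332183c101190c640f8a84631d90482810ec7c2300f88351d08502828f876530041034129074343094406148a402e129c5e2f188c46018090c331014666020cc6a31983423308806233017c1a01917cc241a8cbe5f40a44052f980e2a2f9c406030a87043081121702182e20085c30706060c0c1b84301700701802b02c0550c00360400581602994c05502802a0800d80c029018007]
noncomputable def A : List (List (ℕ)) := [A_0]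
noncomputable def K_0 : List (ℕ) := [nat_lit 0x5b6d96bb55a6d167b3596c963b1586c15faf576b95bad566b157ab556a953a9546a14fa7536994ba55269147a35168943a1506813f9f4f6793b9d4e671379b4d66933994c6612f974b6592b954a6512793496492391486411f8f476391b8d46631178b456291389446210f87436190b854261107834160903814060000]
noncomputable def K : List (List (ℕ)) := [K_0]
noncomputable def R_0 : List (Rule) := [Rule.mk (nat_lit 8) (nat_lit 28) (Steps.bwd (nat_lit 8) (Steps.bwd (nat_lit 8) Steps.nil)) (nat_lit 94) (nat_lit 0),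
  Rule.mk (nat_lit 2) (nat_lit 38) (Steps.fwd (nat_lit 4096) (Steps.fwd (nat_lit 1024) (Steps.bwd (nat_lit 8) Steps.nil))) (nat_lit 96) (nat_lit 2),
  Rule.mk (nat_lit 7) (nat_lit 38) (Steps.fwd (nat_lit 4096) (Steps.fwd (nat_lit 2560) (Steps.bwd (nat_lit 8) Steps.nil))) (nat_lit 98) (nat_lit 2),
  Rule.mk (nat_lit 6) (nat_lit 38) (Steps.bwd (nat_lit 8) (Steps.fwd (nat_lit 3072) (Steps.bwd (nat_lit 8) Steps.nil))) (nat_lit 102) (nat_lit 1),
  Rule.mk (nat_lit 5) (nat_lit 48) (Steps.fwd (nat_lit 4096) (Steps.fwd (nat_lit 2560) (Steps.fwd (nat_lit 3584) (Steps.bwd (nat_lit 8) Steps.nil)))) (nat_lit 100) (nat_lit 2),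
  Rule.mk (nat_lit 1) (nat_lit 58) (Steps.fwd (nat_lit 1024) (Steps.fwd (nat_lit 4096) (Steps.fwd (nat_lit 512) (Steps.bwd (nat_lit 8) (Steps.bwd (nat_lit 2) Steps.nil))))) (nat_lit 104) (nat_lit 3),
  Rule.mk (nat_lit 5) (nat_lit 48) (Steps.fwd (nat_lit 3072) (Steps.fwd (nat_lit 2560) (Steps.fwd (nat_lit 3584) (Steps.bwd (nat_lit 6) Steps.nil)))) (nat_lit 24) (nat_lit 2),
  Rule.mk (nat_lit 2) (nat_lit 78) (Steps.fwd (nat_lit 3072) (Steps.fwd (nat_lit 3584) (Steps.bwd (nat_lit 2) (Steps.fwd (nat_lit 2560) (Steps.bwd (nat_lit 2) (Steps.bwd (nat_lit 6) (Steps.fwd (nat_lit 2560) Steps.nil))))))) (nat_lit 82) (nat_lit 6),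
  Rule.mk (nat_lit 4) (nat_lit 168) (Steps.bwd (nat_lit 8) (Steps.bwd (nat_lit 4) (Steps.bwd (nat_lit 8) (Steps.bwd (nat_lit 4) (Steps.bwd (nat_lit 8) (Steps.bwd (nat_lit 4) (Steps.bwd (nat_lit 8) (Steps.bwd (nat_lit 4) (Steps.bwd (nat_lit 8) (Steps.bwd (nat_lit 4) (Steps.bwd (nat_lit 8) (Steps.bwd (nat_lit 4) (Steps.bwd (nat_lit 8) (Steps.fwd (nat_lit 2048) (Steps.bwd (nat_lit 2) (Steps.bwd (nat_lit 8) Steps.nil)))))))))))))))) (nat_lit 106) (nat_lit 2),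
  Rule.mk (nat_lit 2) (nat_lit 38) (Steps.fwd (nat_lit 2048) (Steps.bwd (nat_lit 2) (Steps.bwd (nat_lit 4) Steps.nil))) (nat_lit 14) (nat_lit 0),
  Rule.mk (nat_lit 6) (nat_lit 38) (Steps.fwd (nat_lit 2048) (Steps.fwd (nat_lit 2560) (Steps.bwd (nat_lit 4) Steps.nil))) (nat_lit 22) (nat_lit 0),
  Rule.mk (nat_lit 5) (nat_lit 38) (Steps.bwd (nat_lit 4) (Steps.fwd (nat_lit 3072) (Steps.bwd (nat_lit 4) Steps.nil))) (nat_lit 22) (nat_lit 2),
  Rule.mk (nat_lit 7) (nat_lit 38) (Steps.fwd (nat_lit 2048) (Steps.fwd (nat_lit 3584) (Steps.bwd (nat_lit 4) Steps.nil))) (nat_lit 30) (nat_lit 1),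
  Rule.mk (nat_lit 2) (nat_lit 58) (Steps.bwd (nat_lit 4) (Steps.fwd (nat_lit 3072) (Steps.bwd (nat_lit 2) (Steps.bwd (nat_lit 4) (Steps.bwd (nat_lit 5) Steps.nil))))) (nat_lit 54) (nat_lit 4),
  Rule.mk (nat_lit 7) (nat_lit 58) (Steps.bwd (nat_lit 4) (Steps.fwd (nat_lit 3072) (Steps.fwd (nat_lit 3584) (Steps.bwd (nat_lit 4) (Steps.bwd (nat_lit 5) Steps.nil))))) (nat_lit 66) (nat_lit 3),
  Rule.mk (nat_lit 2) (nat_lit 168) (Steps.bwd (nat_lit 8) (Steps.bwd (nat_lit 4) (Steps.bwd (nat_lit 8) (Steps.bwd (nat_lit 4) (Steps.bwd (nat_lit 8) (Steps.bwd (nat_lit 4) (Steps.bwd (nat_lit 8) (Steps.bwd (nat_lit 4) (Steps.bwd (nat_lit 8) (Steps.bwd (nat_lit 4) (Steps.bwd (nat_lit 8) (Steps.fwd (nat_lit 2048) (Steps.bwd (nat_lit 8) (Steps.bwd (nat_lit 4) (Steps.bwd (nat_lit 8) (Steps.bwd (nat_lit 4) Steps.nil)))))))))))))))) (nat_lit 106) (nat_lit 0),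
  Rule.mk (nat_lit 2) (nat_lit 168) (Steps.bwd (nat_lit 8) (Steps.bwd (nat_lit 4) (Steps.bwd (nat_lit 8) (Steps.bwd (nat_lit 4) (Steps.bwd (nat_lit 8) (Steps.fwd (nat_lit 2048) (Steps.bwd (nat_lit 8) (Steps.bwd (nat_lit 4) (Steps.bwd (nat_lit 8) (Steps.bwd (nat_lit 4) (Steps.bwd (nat_lit 8) (Steps.bwd (nat_lit 4) (Steps.bwd (nat_lit 8) (Steps.bwd (nat_lit 4) (Steps.bwd (nat_lit 8) (Steps.bwd (nat_lit 4) Steps.nil)))))))))))))))) (nat_lit 106) (nat_lit 0),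
  Rule.mk (nat_lit 2) (nat_lit 168) (Steps.bwd (nat_lit 8) (Steps.bwd (nat_lit 4) (Steps.bwd (nat_lit 8) (Steps.fwd (nat_lit 2048) (Steps.bwd (nat_lit 8) (Steps.bwd (nat_lit 4) (Steps.bwd (nat_lit 8) (Steps.bwd (nat_lit 4) (Steps.bwd (nat_lit 8) (Steps.bwd (nat_lit 4) (Steps.bwd (nat_lit 8) (Steps.bwd (nat_lit 4) (Steps.bwd (nat_lit 8) (Steps.bwd (nat_lit 4) (Steps.bwd (nat_lit 8) (Steps.bwd (nat_lit 4) Steps.nil)))))))))))))))) (nat_lit 106) (nat_lit 0),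
  Rule.mk (nat_lit 2) (nat_lit 38) (Steps.bwd (nat_lit 4) (Steps.bwd (nat_lit 2) (Steps.fwd (nat_lit 2048) Steps.nil))) (nat_lit 14) (nat_lit 0),
  Rule.mk (nat_lit 5) (nat_lit 38) (Steps.bwd (nat_lit 8) (Steps.fwd (nat_lit 3584) (Steps.fwd (nat_lit 4096) Steps.nil))) (nat_lit 98) (nat_lit 0),
  Rule.mk (nat_lit 6) (nat_lit 48) (Steps.fwd (nat_lit 2560) (Steps.fwd (nat_lit 3072) (Steps.bwd (nat_lit 5) (Steps.fwd (nat_lit 3584) Steps.nil)))) (nat_lit 24) (nat_lit 1),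
  Rule.mk (nat_lit 6) (nat_lit 38) (Steps.bwd (nat_lit 4) (Steps.fwd (nat_lit 2560) (Steps.fwd (nat_lit 2048) Steps.nil))) (nat_lit 22) (nat_lit 0),
  Rule.mk (nat_lit 4) (nat_lit 58) (Steps.bwd (nat_lit 1) (Steps.bwd (nat_lit 4) (Steps.fwd (nat_lit 512) (Steps.fwd (nat_lit 2048) (Steps.fwd (nat_lit 512) Steps.nil))))) (nat_lit 16) (nat_lit 0),
  Rule.mk (nat_lit 7) (nat_lit 78) (Steps.bwd (nat_lit 1) (Steps.bwd (nat_lit 4) (Steps.fwd (nat_lit 512) (Steps.fwd (nat_lit 3584) (Steps.fwd (nat_lit 2048) (Steps.fwd (nat_lit 512) (Steps.fwd (nat_lit 2048) Steps.nil))))))) (nat_lit 76) (nat_lit 0),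
  Rule.mk (nat_lit 6) (nat_lit 78) (Steps.bwd (nat_lit 1) (Steps.fwd (nat_lit 2048) (Steps.fwd (nat_lit 512) (Steps.bwd (nat_lit 6) (Steps.fwd (nat_lit 512) (Steps.fwd (nat_lit 2048) (Steps.fwd (nat_lit 512) Steps.nil))))))) (nat_lit 74) (nat_lit 0),
  Rule.mk (nat_lit 8) (nat_lit 168) (Steps.bwd (nat_lit 4) (Steps.bwd (nat_lit 8) (Steps.bwd (nat_lit 4) (Steps.bwd (nat_lit 8) (Steps.bwd (nat_lit 4) (Steps.bwd (nat_lit 8) (Steps.bwd (nat_lit 4) (Steps.bwd (nat_lit 8) (Steps.bwd (nat_lit 4) (Steps.bwd (nat_lit 8) (Steps.bwd (nat_lit 4) (Steps.bwd (nat_lit 8) (Steps.fwd (nat_lit 2048) (Steps.bwd (nat_lit 2) (Steps.bwd (nat_lit 8) (Steps.fwd (nat_lit 2048) Steps.nil)))))))))))))))) (nat_lit 106) (nat_lit 3),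
  Rule.mk (nat_lit 7) (nat_lit 38) (Steps.fwd (nat_lit 4096) (Steps.bwd (nat_lit 5) (Steps.bwd (nat_lit 8) Steps.nil))) (nat_lit 98) (nat_lit 2),
  Rule.mk (nat_lit 5) (nat_lit 48) (Steps.fwd (nat_lit 4096) (Steps.bwd (nat_lit 5) (Steps.fwd (nat_lit 3584) (Steps.bwd (nat_lit 8) Steps.nil)))) (nat_lit 100) (nat_lit 2),
  Rule.mk (nat_lit 2) (nat_lit 168) (Steps.bwd (nat_lit 8) (Steps.bwd (nat_lit 4) (Steps.bwd (nat_lit 8) (Steps.bwd (nat_lit 4) (Steps.bwd (nat_lit 8) (Steps.bwd (nat_lit 4) (Steps.bwd (nat_lit 8) (Steps.bwd (nat_lit 4) (Steps.bwd (nat_lit 8) (Steps.bwd (nat_lit 4) (Steps.bwd (nat_lit 8) (Steps.fwd (nat_lit 2048) (Steps.bwd (nat_lit 8) (Steps.fwd (nat_lit 2048) (Steps.bwd (nat_lit 8) (Steps.bwd (nat_lit 4) Steps.nil)))))))))))))))) (nat_lit 106) (nat_lit 0),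
  Rule.mk (nat_lit 2) (nat_lit 168) (Steps.bwd (nat_lit 8) (Steps.fwd (nat_lit 2048) (Steps.bwd (nat_lit 8) (Steps.fwd (nat_lit 2048) (Steps.bwd (nat_lit 8) (Steps.bwd (nat_lit 4) (Steps.bwd (nat_lit 8) (Steps.bwd (nat_lit 4) (Steps.bwd (nat_lit 8) (Steps.bwd (nat_lit 4) (Steps.bwd (nat_lit 8) (Steps.bwd (nat_lit 4) (Steps.bwd (nat_lit 8) (Steps.bwd (nat_lit 4) (Steps.bwd (nat_lit 8) (Steps.bwd (nat_lit 4) Steps.nil)))))))))))))))) (nat_lit 106) (nat_lit 0),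
  Rule.mk (nat_lit 5) (nat_lit 58) (Steps.bwd (nat_lit 2) (Steps.fwd (nat_lit 2048) (Steps.bwd (nat_lit 6) (Steps.bwd (nat_lit 2) (Steps.fwd (nat_lit 2048) Steps.nil))))) (nat_lit 54) (nat_lit 3),
  Rule.mk (nat_lit 6) (nat_lit 58) (Steps.bwd (nat_lit 2) (Steps.fwd (nat_lit 2048) (Steps.bwd (nat_lit 5) (Steps.bwd (nat_lit 2) (Steps.bwd (nat_lit 4) Steps.nil))))) (nat_lit 54) (nat_lit 0),
  Rule.mk (nat_lit 7) (nat_lit 58) (Steps.bwd (nat_lit 2) (Steps.fwd (nat_lit 2048) (Steps.bwd (nat_lit 7) (Steps.bwd (nat_lit 2) (Steps.bwd (nat_lit 4) Steps.nil))))) (nat_lit 56) (nat_lit 0),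
  Rule.mk (nat_lit 7) (nat_lit 48) (Steps.bwd (nat_lit 8) (Steps.bwd (nat_lit 5) (Steps.fwd (nat_lit 4096) (Steps.fwd (nat_lit 2560) Steps.nil)))) (nat_lit 100) (nat_lit 0),
  Rule.mk (nat_lit 7) (nat_lit 38) (Steps.bwd (nat_lit 4) (Steps.bwd (nat_lit 7) (Steps.fwd (nat_lit 2048) Steps.nil))) (nat_lit 30) (nat_lit 1),
  Rule.mk (nat_lit 5) (nat_lit 58) (Steps.bwd (nat_lit 7) (Steps.fwd (nat_lit 2048) (Steps.bwd (nat_lit 6) (Steps.bwd (nat_lit 7) (Steps.fwd (nat_lit 2048) Steps.nil))))) (nat_lit 66) (nat_lit 2),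
  Rule.mk (nat_lit 6) (nat_lit 58) (Steps.bwd (nat_lit 7) (Steps.bwd (nat_lit 4) (Steps.fwd (nat_lit 2560) (Steps.bwd (nat_lit 7) (Steps.fwd (nat_lit 2048) Steps.nil))))) (nat_lit 66) (nat_lit 5),
  Rule.mk (nat_lit 5) (nat_lit 38) (Steps.bwd (nat_lit 8) (Steps.bwd (nat_lit 7) (Steps.fwd (nat_lit 4096) Steps.nil))) (nat_lit 98) (nat_lit 0),
  Rule.mk (nat_lit 6) (nat_lit 38) (Steps.bwd (nat_lit 4) (Steps.bwd (nat_lit 5) (Steps.fwd (nat_lit 2048) Steps.nil))) (nat_lit 22) (nat_lit 0),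
  Rule.mk (nat_lit 2) (nat_lit 58) (Steps.bwd (nat_lit 1) (Steps.bwd (nat_lit 2) (Steps.bwd (nat_lit 1) (Steps.bwd (nat_lit 2) (Steps.fwd (nat_lit 512) Steps.nil))))) (nat_lit 12) (nat_lit 0),
  Rule.mk (nat_lit 4) (nat_lit 38) (Steps.bwd (nat_lit 2) (Steps.fwd (nat_lit 2048) (Steps.bwd (nat_lit 2) Steps.nil))) (nat_lit 14) (nat_lit 1),
  Rule.mk (nat_lit 7) (nat_lit 58) (Steps.bwd (nat_lit 2) (Steps.fwd (nat_lit 2048) (Steps.fwd (nat_lit 3584) (Steps.bwd (nat_lit 2) (Steps.bwd (nat_lit 4) Steps.nil))))) (nat_lit 56) (nat_lit 0),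
  Rule.mk (nat_lit 1) (nat_lit 58) (Steps.bwd (nat_lit 3) (Steps.bwd (nat_lit 9) (Steps.bwd (nat_lit 1) (Steps.bwd (nat_lit 8) (Steps.bwd (nat_lit 2) Steps.nil))))) (nat_lit 104) (nat_lit 3),
  Rule.mk (nat_lit 8) (nat_lit 38) (Steps.bwd (nat_lit 3) (Steps.bwd (nat_lit 9) (Steps.bwd (nat_lit 2) Steps.nil))) (nat_lit 97) (nat_lit 2),
  Rule.mk (nat_lit 5) (nat_lit 78) (Steps.bwd (nat_lit 2) (Steps.bwd (nat_lit 1) (Steps.bwd (nat_lit 2) (Steps.bwd (nat_lit 5) (Steps.fwd (nat_lit 512) (Steps.bwd (nat_lit 2) (Steps.bwd (nat_lit 1) Steps.nil))))))) (nat_lit 70) (nat_lit 4),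
  Rule.mk (nat_lit 7) (nat_lit 38) (Steps.fwd (nat_lit 2560) (Steps.fwd (nat_lit 3584) (Steps.bwd (nat_lit 5) Steps.nil))) (nat_lit 32) (nat_lit 1),
  Rule.mk (nat_lit 6) (nat_lit 58) (Steps.fwd (nat_lit 3584) (Steps.bwd (nat_lit 2) (Steps.fwd (nat_lit 3072) (Steps.fwd (nat_lit 3584) (Steps.fwd (nat_lit 1024) Steps.nil))))) (nat_lit 62) (nat_lit 5),
  Rule.mk (nat_lit 9) (nat_lit 58) (Steps.bwd (nat_lit 1) (Steps.bwd (nat_lit 8) (Steps.bwd (nat_lit 2) (Steps.fwd (nat_lit 512) (Steps.fwd (nat_lit 1024) Steps.nil))))) (nat_lit 104) (nat_lit 5),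
  Rule.mk (nat_lit 1) (nat_lit 38) (Steps.bwd (nat_lit 7) (Steps.bwd (nat_lit 1) (Steps.bwd (nat_lit 7) Steps.nil))) (nat_lit 26) (nat_lit 0),
  Rule.mk (nat_lit 5) (nat_lit 38) (Steps.fwd (nat_lit 512) (Steps.fwd (nat_lit 2560) (Steps.bwd (nat_lit 1) Steps.nil))) (nat_lit 18) (nat_lit 0),
  Rule.mk (nat_lit 8) (nat_lit 58) (Steps.bwd (nat_lit 2) (Steps.bwd (nat_lit 1) (Steps.fwd (nat_lit 1024) (Steps.fwd (nat_lit 4096) (Steps.bwd (nat_lit 1) Steps.nil))))) (nat_lit 104) (nat_lit 1),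
  Rule.mk (nat_lit 2) (nat_lit 28) (Steps.bwd (nat_lit 2) (Steps.bwd (nat_lit 2) Steps.nil)) (nat_lit 2) (nat_lit 0),
  Rule.mk (nat_lit 8) (nat_lit 38) (Steps.fwd (nat_lit 1024) (Steps.bwd (nat_lit 9) (Steps.bwd (nat_lit 2) Steps.nil))) (nat_lit 97) (nat_lit 2),
  Rule.mk (nat_lit 9) (nat_lit 38) (Steps.fwd (nat_lit 1024) (Steps.bwd (nat_lit 8) (Steps.bwd (nat_lit 2) Steps.nil))) (nat_lit 96) (nat_lit 3),
  Rule.mk (nat_lit 9) (nat_lit 28) (Steps.fwd (nat_lit 4096) (Steps.bwd (nat_lit 9) Steps.nil)) (nat_lit 95) (nat_lit 0),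
  Rule.mk (nat_lit 4) (nat_lit 58) (Steps.bwd (nat_lit 1) (Steps.bwd (nat_lit 4) (Steps.bwd (nat_lit 1) (Steps.bwd (nat_lit 4) (Steps.fwd (nat_lit 512) Steps.nil))))) (nat_lit 16) (nat_lit 0),
  Rule.mk (nat_lit 7) (nat_lit 78) (Steps.bwd (nat_lit 2) (Steps.fwd (nat_lit 512) (Steps.bwd (nat_lit 2) (Steps.fwd (nat_lit 3584) (Steps.fwd (nat_lit 512) (Steps.bwd (nat_lit 2) (Steps.bwd (nat_lit 1) Steps.nil))))))) (nat_lit 72) (nat_lit 4),
  Rule.mk (nat_lit 6) (nat_lit 78) (Steps.bwd (nat_lit 1) (Steps.bwd (nat_lit 4) (Steps.fwd (nat_lit 512) (Steps.bwd (nat_lit 6) (Steps.fwd (nat_lit 512) (Steps.bwd (nat_lit 4) (Steps.bwd (nat_lit 1) Steps.nil))))))) (nat_lit 74) (nat_lit 0),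
  Rule.mk (nat_lit 7) (nat_lit 78) (Steps.bwd (nat_lit 4) (Steps.bwd (nat_lit 1) (Steps.bwd (nat_lit 4) (Steps.fwd (nat_lit 3584) (Steps.fwd (nat_lit 512) (Steps.bwd (nat_lit 4) (Steps.bwd (nat_lit 1) Steps.nil))))))) (nat_lit 76) (nat_lit 4),
  Rule.mk (nat_lit 7) (nat_lit 38) (Steps.fwd (nat_lit 2048) (Steps.bwd (nat_lit 7) (Steps.bwd (nat_lit 4) Steps.nil))) (nat_lit 30) (nat_lit 1),
  Rule.mk (nat_lit 6) (nat_lit 138) (Steps.bwd (nat_lit 1) (Steps.bwd (nat_lit 2) (Steps.bwd (nat_lit 1) (Steps.bwd (nat_lit 6) (Steps.bwd (nat_lit 1) (Steps.bwd (nat_lit 2) (Steps.bwd (nat_lit 1) (Steps.bwd (nat_lit 6) (Steps.fwd (nat_lit 512) (Steps.bwd (nat_lit 6) (Steps.fwd (nat_lit 2560) (Steps.bwd (nat_lit 2) (Steps.fwd (nat_lit 512) Steps.nil))))))))))))) (nat_lit 34) (nat_lit 3),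
  Rule.mk (nat_lit 9) (nat_lit 38) (Steps.fwd (nat_lit 3072) (Steps.bwd (nat_lit 9) (Steps.bwd (nat_lit 6) Steps.nil))) (nat_lit 103) (nat_lit 1),
  Rule.mk (nat_lit 9) (nat_lit 28) (Steps.bwd (nat_lit 9) (Steps.fwd (nat_lit 4096) Steps.nil)) (nat_lit 95) (nat_lit 0),
  Rule.mk (nat_lit 5) (nat_lit 48) (Steps.fwd (nat_lit 4096) (Steps.fwd (nat_lit 2560) (Steps.bwd (nat_lit 7) (Steps.bwd (nat_lit 8) Steps.nil)))) (nat_lit 100) (nat_lit 2)]
noncomputable def R_1 : List (Rule) := [Rule.mk (nat_lit 5) (nat_lit 38) (Steps.bwd (nat_lit 1) (Steps.fwd (nat_lit 2560) (Steps.fwd (nat_lit 512) Steps.nil))) (nat_lit 18) (nat_lit 0),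
  Rule.mk (nat_lit 4) (nat_lit 38) (Steps.fwd (nat_lit 3072) (Steps.bwd (nat_lit 4) (Steps.bwd (nat_lit 5) Steps.nil))) (nat_lit 22) (nat_lit 3),
  Rule.mk (nat_lit 7) (nat_lit 58) (Steps.bwd (nat_lit 1) (Steps.fwd (nat_lit 2560) (Steps.bwd (nat_lit 7) (Steps.fwd (nat_lit 512) (Steps.bwd (nat_lit 5) Steps.nil))))) (nat_lit 52) (nat_lit 0),
  Rule.mk (nat_lit 5) (nat_lit 38) (Steps.bwd (nat_lit 7) (Steps.bwd (nat_lit 5) (Steps.bwd (nat_lit 7) Steps.nil))) (nat_lit 32) (nat_lit 0),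
  Rule.mk (nat_lit 6) (nat_lit 138) (Steps.bwd (nat_lit 1) (Steps.bwd (nat_lit 2) (Steps.bwd (nat_lit 1) (Steps.bwd (nat_lit 6) (Steps.bwd (nat_lit 1) (Steps.bwd (nat_lit 2) (Steps.bwd (nat_lit 1) (Steps.bwd (nat_lit 6) (Steps.bwd (nat_lit 1) (Steps.bwd (nat_lit 6) (Steps.fwd (nat_lit 2560) (Steps.bwd (nat_lit 2) (Steps.fwd (nat_lit 512) Steps.nil))))))))))))) (nat_lit 34) (nat_lit 3),
  Rule.mk (nat_lit 5) (nat_lit 48) (Steps.bwd (nat_lit 6) (Steps.bwd (nat_lit 5) (Steps.bwd (nat_lit 7) (Steps.bwd (nat_lit 6) Steps.nil)))) (nat_lit 24) (nat_lit 2),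
  Rule.mk (nat_lit 4) (nat_lit 78) (Steps.fwd (nat_lit 512) (Steps.fwd (nat_lit 3072) (Steps.bwd (nat_lit 1) (Steps.fwd (nat_lit 2048) (Steps.fwd (nat_lit 512) (Steps.bwd (nat_lit 6) (Steps.bwd (nat_lit 1) Steps.nil))))))) (nat_lit 74) (nat_lit 2),
  Rule.mk (nat_lit 5) (nat_lit 38) (Steps.fwd (nat_lit 512) (Steps.bwd (nat_lit 5) (Steps.fwd (nat_lit 512) Steps.nil))) (nat_lit 18) (nat_lit 0),
  Rule.mk (nat_lit 4) (nat_lit 168) (Steps.bwd (nat_lit 8) (Steps.bwd (nat_lit 4) (Steps.bwd (nat_lit 8) (Steps.bwd (nat_lit 4) (Steps.bwd (nat_lit 8) (Steps.bwd (nat_lit 4) (Steps.bwd (nat_lit 8) (Steps.bwd (nat_lit 4) (Steps.bwd (nat_lit 8) (Steps.bwd (nat_lit 4) (Steps.bwd (nat_lit 8) (Steps.fwd (nat_lit 2048) (Steps.bwd (nat_lit 8) (Steps.fwd (nat_lit 2048) (Steps.bwd (nat_lit 2) (Steps.bwd (nat_lit 8) Steps.nil)))))))))))))))) (nat_lit 106) (nat_lit 2),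
  Rule.mk (nat_lit 7) (nat_lit 48) (Steps.bwd (nat_lit 8) (Steps.fwd (nat_lit 2560) (Steps.fwd (nat_lit 4096) (Steps.bwd (nat_lit 5) Steps.nil)))) (nat_lit 100) (nat_lit 0),
  Rule.mk (nat_lit 5) (nat_lit 48) (Steps.bwd (nat_lit 7) (Steps.bwd (nat_lit 6) (Steps.fwd (nat_lit 2560) (Steps.bwd (nat_lit 6) Steps.nil)))) (nat_lit 24) (nat_lit 4),
  Rule.mk (nat_lit 1) (nat_lit 38) (Steps.bwd (nat_lit 5) (Steps.bwd (nat_lit 1) (Steps.fwd (nat_lit 2560) Steps.nil))) (nat_lit 18) (nat_lit 1),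
  Rule.mk (nat_lit 7) (nat_lit 38) (Steps.bwd (nat_lit 1) (Steps.bwd (nat_lit 7) (Steps.fwd (nat_lit 512) Steps.nil))) (nat_lit 26) (nat_lit 1),
  Rule.mk (nat_lit 6) (nat_lit 38) (Steps.fwd (nat_lit 3584) (Steps.bwd (nat_lit 6) (Steps.bwd (nat_lit 7) Steps.nil))) (nat_lit 48) (nat_lit 1),
  Rule.mk (nat_lit 4) (nat_lit 38) (Steps.bwd (nat_lit 7) (Steps.bwd (nat_lit 4) (Steps.bwd (nat_lit 7) Steps.nil))) (nat_lit 30) (nat_lit 0),
  Rule.mk (nat_lit 5) (nat_lit 38) (Steps.fwd (nat_lit 2048) (Steps.fwd (nat_lit 3072) (Steps.bwd (nat_lit 4) Steps.nil))) (nat_lit 22) (nat_lit 2),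
  Rule.mk (nat_lit 6) (nat_lit 38) (Steps.bwd (nat_lit 8) (Steps.bwd (nat_lit 6) (Steps.bwd (nat_lit 8) Steps.nil))) (nat_lit 102) (nat_lit 1),
  Rule.mk (nat_lit 8) (nat_lit 38) (Steps.bwd (nat_lit 6) (Steps.bwd (nat_lit 8) (Steps.fwd (nat_lit 3072) Steps.nil))) (nat_lit 102) (nat_lit 0),
  Rule.mk (nat_lit 5) (nat_lit 48) (Steps.fwd (nat_lit 4096) (Steps.bwd (nat_lit 5) (Steps.bwd (nat_lit 7) (Steps.bwd (nat_lit 8) Steps.nil)))) (nat_lit 100) (nat_lit 2),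
  Rule.mk (nat_lit 4) (nat_lit 38) (Steps.bwd (nat_lit 5) (Steps.bwd (nat_lit 4) (Steps.fwd (nat_lit 3072) Steps.nil))) (nat_lit 22) (nat_lit 1),
  Rule.mk (nat_lit 5) (nat_lit 48) (Steps.bwd (nat_lit 6) (Steps.fwd (nat_lit 2560) (Steps.bwd (nat_lit 7) (Steps.fwd (nat_lit 3072) Steps.nil)))) (nat_lit 24) (nat_lit 2),
  Rule.mk (nat_lit 0) (nat_lit 38) (Steps.fwd (nat_lit 4096) (Steps.fwd (nat_lit 4096) (Steps.fwd (nat_lit 4096) Steps.nil))) (nat_lit 95) (nat_lit 0),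
  Rule.mk (nat_lit 8) (nat_lit 28) (Steps.bwd (nat_lit 0) (Steps.fwd (nat_lit 4096) Steps.nil)) (nat_lit 108) (nat_lit 0),
  Rule.mk (nat_lit 5) (nat_lit 38) (Steps.fwd (nat_lit 2048) (Steps.bwd (nat_lit 6) (Steps.fwd (nat_lit 2048) Steps.nil))) (nat_lit 22) (nat_lit 2),
  Rule.mk (nat_lit 7) (nat_lit 48) (Steps.bwd (nat_lit 5) (Steps.fwd (nat_lit 3072) (Steps.bwd (nat_lit 5) (Steps.bwd (nat_lit 6) Steps.nil)))) (nat_lit 25) (nat_lit 1),
  Rule.mk (nat_lit 6) (nat_lit 38) (Steps.bwd (nat_lit 4) (Steps.bwd (nat_lit 5) (Steps.bwd (nat_lit 4) Steps.nil))) (nat_lit 22) (nat_lit 0),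
  Rule.mk (nat_lit 7) (nat_lit 38) (Steps.bwd (nat_lit 5) (Steps.fwd (nat_lit 3584) (Steps.bwd (nat_lit 5) Steps.nil))) (nat_lit 32) (nat_lit 1),
  Rule.mk (nat_lit 6) (nat_lit 48) (Steps.bwd (nat_lit 5) (Steps.fwd (nat_lit 3584) (Steps.bwd (nat_lit 6) (Steps.bwd (nat_lit 5) Steps.nil)))) (nat_lit 24) (nat_lit 3),
  Rule.mk (nat_lit 7) (nat_lit 58) (Steps.bwd (nat_lit 4) (Steps.bwd (nat_lit 5) (Steps.fwd (nat_lit 3584) (Steps.bwd (nat_lit 4) (Steps.bwd (nat_lit 6) Steps.nil))))) (nat_lit 66) (nat_lit 0),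
  Rule.mk (nat_lit 5) (nat_lit 48) (Steps.bwd (nat_lit 6) (Steps.fwd (nat_lit 2560) (Steps.bwd (nat_lit 6) (Steps.bwd (nat_lit 7) Steps.nil)))) (nat_lit 25) (nat_lit 2),
  Rule.mk (nat_lit 9) (nat_lit 38) (Steps.bwd (nat_lit 5) (Steps.bwd (nat_lit 8) (Steps.bwd (nat_lit 7) Steps.nil))) (nat_lit 98) (nat_lit 3),
  Rule.mk (nat_lit 0) (nat_lit 38) (Steps.bwd (nat_lit 8) (Steps.fwd (nat_lit 4608) (Steps.bwd (nat_lit 8) Steps.nil))) (nat_lit 94) (nat_lit 0),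
  Rule.mk (nat_lit 9) (nat_lit 28) (Steps.bwd (nat_lit 0) (Steps.bwd (nat_lit 8) Steps.nil)) (nat_lit 108) (nat_lit 0),
  Rule.mk (nat_lit 6) (nat_lit 38) (Steps.fwd (nat_lit 4096) (Steps.bwd (nat_lit 6) (Steps.bwd (nat_lit 9) Steps.nil))) (nat_lit 103) (nat_lit 0),
  Rule.mk (nat_lit 0) (nat_lit 48) (Steps.bwd (nat_lit 8) (Steps.fwd (nat_lit 3584) (Steps.fwd (nat_lit 4096) (Steps.bwd (nat_lit 5) Steps.nil)))) (nat_lit 98) (nat_lit 0),
  Rule.mk (nat_lit 0) (nat_lit 38) (Steps.bwd (nat_lit 4) (Steps.fwd (nat_lit 0) (Steps.bwd (nat_lit 4) Steps.nil))) (nat_lit 108) (nat_lit 0),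
  Rule.mk (nat_lit 0) (nat_lit 38) (Steps.bwd (nat_lit 6) (Steps.bwd (nat_lit 0) (Steps.bwd (nat_lit 6) Steps.nil))) (nat_lit 108) (nat_lit 0),
  Rule.mk (nat_lit 0) (nat_lit 38) (Steps.fwd (nat_lit 2560) (Steps.bwd (nat_lit 0) (Steps.bwd (nat_lit 5) Steps.nil))) (nat_lit 108) (nat_lit 0),
  Rule.mk (nat_lit 0) (nat_lit 38) (Steps.bwd (nat_lit 8) (Steps.bwd (nat_lit 0) (Steps.fwd (nat_lit 4096) Steps.nil))) (nat_lit 108) (nat_lit 0),
  Rule.mk (nat_lit 0) (nat_lit 38) (Steps.fwd (nat_lit 4096) (Steps.bwd (nat_lit 0) (Steps.bwd (nat_lit 8) Steps.nil))) (nat_lit 108) (nat_lit 0),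
  Rule.mk (nat_lit 6) (nat_lit 28) (Steps.bwd (nat_lit 0) (Steps.bwd (nat_lit 6) Steps.nil)) (nat_lit 108) (nat_lit 0),
  Rule.mk (nat_lit 5) (nat_lit 28) (Steps.bwd (nat_lit 0) (Steps.fwd (nat_lit 2560) Steps.nil)) (nat_lit 108) (nat_lit 0),
  Rule.mk (nat_lit 0) (nat_lit 48) (Steps.bwd (nat_lit 0) (Steps.fwd (nat_lit 2048) (Steps.fwd (nat_lit 0) (Steps.bwd (nat_lit 4) Steps.nil)))) (nat_lit 108) (nat_lit 0),
  Rule.mk (nat_lit 0) (nat_lit 28) (Steps.fwd (nat_lit 0) (Steps.fwd (nat_lit 0) Steps.nil)) (nat_lit 108) (nat_lit 0),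
  Rule.mk (nat_lit 0) (nat_lit 38) (Steps.fwd (nat_lit 4096) (Steps.fwd (nat_lit 0) (Steps.bwd (nat_lit 8) Steps.nil))) (nat_lit 108) (nat_lit 0),
  Rule.mk (nat_lit 0) (nat_lit 38) (Steps.bwd (nat_lit 5) (Steps.bwd (nat_lit 0) (Steps.bwd (nat_lit 5) Steps.nil))) (nat_lit 108) (nat_lit 0),
  Rule.mk (nat_lit 0) (nat_lit 48) (Steps.bwd (nat_lit 0) (Steps.bwd (nat_lit 5) (Steps.bwd (nat_lit 0) (Steps.bwd (nat_lit 5) Steps.nil)))) (nat_lit 108) (nat_lit 0),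
  Rule.mk (nat_lit 0) (nat_lit 38) (Steps.bwd (nat_lit 8) (Steps.fwd (nat_lit 0) (Steps.fwd (nat_lit 4096) Steps.nil))) (nat_lit 108) (nat_lit 0),
  Rule.mk (nat_lit 1) (nat_lit 28) (Steps.bwd (nat_lit 0) (Steps.fwd (nat_lit 512) Steps.nil)) (nat_lit 108) (nat_lit 0),
  Rule.mk (nat_lit 7) (nat_lit 28) (Steps.bwd (nat_lit 0) (Steps.fwd (nat_lit 3584) Steps.nil)) (nat_lit 108) (nat_lit 0),
  Rule.mk (nat_lit 1) (nat_lit 28) (Steps.bwd (nat_lit 0) (Steps.bwd (nat_lit 1) Steps.nil)) (nat_lit 108) (nat_lit 0),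
  Rule.mk (nat_lit 6) (nat_lit 78) (Steps.fwd (nat_lit 512) (Steps.fwd (nat_lit 2048) (Steps.bwd (nat_lit 1) (Steps.bwd (nat_lit 6) (Steps.fwd (nat_lit 512) (Steps.bwd (nat_lit 4) (Steps.bwd (nat_lit 1) Steps.nil))))))) (nat_lit 74) (nat_lit 0),
  Rule.mk (nat_lit 7) (nat_lit 78) (Steps.bwd (nat_lit 1) (Steps.fwd (nat_lit 2048) (Steps.fwd (nat_lit 512) (Steps.bwd (nat_lit 7) (Steps.bwd (nat_lit 4) (Steps.bwd (nat_lit 1) (Steps.bwd (nat_lit 4) Steps.nil))))))) (nat_lit 76) (nat_lit 0),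
  Rule.mk (nat_lit 7) (nat_lit 78) (Steps.bwd (nat_lit 4) (Steps.bwd (nat_lit 1) (Steps.fwd (nat_lit 2048) (Steps.bwd (nat_lit 7) (Steps.fwd (nat_lit 512) (Steps.bwd (nat_lit 4) (Steps.bwd (nat_lit 1) Steps.nil))))))) (nat_lit 76) (nat_lit 4),
  Rule.mk (nat_lit 5) (nat_lit 58) (Steps.bwd (nat_lit 7) (Steps.fwd (nat_lit 2048) (Steps.fwd (nat_lit 3072) (Steps.bwd (nat_lit 7) (Steps.bwd (nat_lit 4) Steps.nil))))) (nat_lit 66) (nat_lit 2),
  Rule.mk (nat_lit 8) (nat_lit 38) (Steps.fwd (nat_lit 3584) (Steps.bwd (nat_lit 9) (Steps.bwd (nat_lit 5) Steps.nil))) (nat_lit 98) (nat_lit 1),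
  Rule.mk (nat_lit 3) (nat_lit 38) (Steps.bwd (nat_lit 8) (Steps.bwd (nat_lit 2) (Steps.bwd (nat_lit 9) Steps.nil))) (nat_lit 96) (nat_lit 0),
  Rule.mk (nat_lit 6) (nat_lit 38) (Steps.bwd (nat_lit 2) (Steps.bwd (nat_lit 6) (Steps.bwd (nat_lit 3) Steps.nil))) (nat_lit 40) (nat_lit 0),
  Rule.mk (nat_lit 0) (nat_lit 68) (Steps.fwd (nat_lit 512) (Steps.fwd (nat_lit 1024) (Steps.fwd (nat_lit 512) (Steps.bwd (nat_lit 3) (Steps.bwd (nat_lit 1) (Steps.fwd (nat_lit 1024) Steps.nil)))))) (nat_lit 13) (nat_lit 1),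
  Rule.mk (nat_lit 0) (nat_lit 38) (Steps.bwd (nat_lit 1) (Steps.bwd (nat_lit 0) (Steps.fwd (nat_lit 512) Steps.nil))) (nat_lit 108) (nat_lit 0),
  Rule.mk (nat_lit 0) (nat_lit 38) (Steps.fwd (nat_lit 3072) (Steps.fwd (nat_lit 0) (Steps.bwd (nat_lit 6) Steps.nil))) (nat_lit 108) (nat_lit 0),
  Rule.mk (nat_lit 3) (nat_lit 28) (Steps.bwd (nat_lit 0) (Steps.fwd (nat_lit 1536) Steps.nil)) (nat_lit 108) (nat_lit 0),
  Rule.mk (nat_lit 4) (nat_lit 28) (Steps.bwd (nat_lit 0) (Steps.fwd (nat_lit 2048) Steps.nil)) (nat_lit 108) (nat_lit 0),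
  Rule.mk (nat_lit 0) (nat_lit 38) (Steps.fwd (nat_lit 512) (Steps.fwd (nat_lit 0) (Steps.bwd (nat_lit 1) Steps.nil))) (nat_lit 108) (nat_lit 0)]
noncomputable def R_2 : List (Rule) := [Rule.mk (nat_lit 3) (nat_lit 28) (Steps.bwd (nat_lit 0) (Steps.bwd (nat_lit 2) Steps.nil)) (nat_lit 108) (nat_lit 0),
  Rule.mk (nat_lit 7) (nat_lit 38) (Steps.bwd (nat_lit 3) (Steps.bwd (nat_lit 7) (Steps.bwd (nat_lit 2) Steps.nil))) (nat_lit 28) (nat_lit 3),
  Rule.mk (nat_lit 0) (nat_lit 68) (Steps.fwd (nat_lit 512) (Steps.bwd (nat_lit 3) (Steps.fwd (nat_lit 512) (Steps.fwd (nat_lit 1024) (Steps.bwd (nat_lit 1) (Steps.fwd (nat_lit 1024) Steps.nil)))))) (nat_lit 13) (nat_lit 1),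
  Rule.mk (nat_lit 6) (nat_lit 78) (Steps.bwd (nat_lit 7) (Steps.bwd (nat_lit 3) (Steps.fwd (nat_lit 2560) (Steps.fwd (nat_lit 1024) (Steps.fwd (nat_lit 3072) (Steps.bwd (nat_lit 5) (Steps.fwd (nat_lit 1024) Steps.nil))))))) (nat_lit 85) (nat_lit 4),
  Rule.mk (nat_lit 4) (nat_lit 38) (Steps.bwd (nat_lit 5) (Steps.bwd (nat_lit 4) (Steps.bwd (nat_lit 6) Steps.nil))) (nat_lit 22) (nat_lit 1),
  Rule.mk (nat_lit 8) (nat_lit 38) (Steps.bwd (nat_lit 6) (Steps.bwd (nat_lit 8) (Steps.bwd (nat_lit 6) Steps.nil))) (nat_lit 102) (nat_lit 0),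
  Rule.mk (nat_lit 5) (nat_lit 58) (Steps.bwd (nat_lit 4) (Steps.fwd (nat_lit 1024) (Steps.bwd (nat_lit 6) (Steps.bwd (nat_lit 4) (Steps.fwd (nat_lit 1024) Steps.nil))))) (nat_lit 55) (nat_lit 4),
  Rule.mk (nat_lit 5) (nat_lit 58) (Steps.fwd (nat_lit 1024) (Steps.bwd (nat_lit 4) (Steps.bwd (nat_lit 6) (Steps.fwd (nat_lit 1024) (Steps.bwd (nat_lit 4) Steps.nil))))) (nat_lit 59) (nat_lit 5),
  Rule.mk (nat_lit 2) (nat_lit 38) (Steps.bwd (nat_lit 5) (Steps.fwd (nat_lit 1024) (Steps.fwd (nat_lit 2560) Steps.nil))) (nat_lit 20) (nat_lit 1),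
  Rule.mk (nat_lit 4) (nat_lit 58) (Steps.bwd (nat_lit 6) (Steps.fwd (nat_lit 1536) (Steps.fwd (nat_lit 2048) (Steps.fwd (nat_lit 2560) (Steps.bwd (nat_lit 2) Steps.nil))))) (nat_lit 54) (nat_lit 5),
  Rule.mk (nat_lit 2) (nat_lit 138) (Steps.bwd (nat_lit 1) (Steps.bwd (nat_lit 6) (Steps.bwd (nat_lit 1) (Steps.fwd (nat_lit 3072) (Steps.bwd (nat_lit 5) (Steps.bwd (nat_lit 2) (Steps.fwd (nat_lit 512) (Steps.fwd (nat_lit 3072) (Steps.fwd (nat_lit 512) (Steps.bwd (nat_lit 2) (Steps.bwd (nat_lit 1) (Steps.bwd (nat_lit 6) (Steps.bwd (nat_lit 1) Steps.nil))))))))))))) (nat_lit 34) (nat_lit 9),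
  Rule.mk (nat_lit 4) (nat_lit 38) (Steps.fwd (nat_lit 1536) (Steps.fwd (nat_lit 2048) (Steps.bwd (nat_lit 2) Steps.nil))) (nat_lit 14) (nat_lit 1),
  Rule.mk (nat_lit 6) (nat_lit 38) (Steps.fwd (nat_lit 1024) (Steps.bwd (nat_lit 6) (Steps.bwd (nat_lit 2) Steps.nil))) (nat_lit 40) (nat_lit 2),
  Rule.mk (nat_lit 8) (nat_lit 38) (Steps.fwd (nat_lit 1024) (Steps.fwd (nat_lit 4096) (Steps.bwd (nat_lit 2) Steps.nil))) (nat_lit 97) (nat_lit 2),
  Rule.mk (nat_lit 8) (nat_lit 168) (Steps.bwd (nat_lit 4) (Steps.bwd (nat_lit 8) (Steps.bwd (nat_lit 4) (Steps.bwd (nat_lit 8) (Steps.bwd (nat_lit 4) (Steps.bwd (nat_lit 8) (Steps.bwd (nat_lit 4) (Steps.bwd (nat_lit 8) (Steps.bwd (nat_lit 4) (Steps.bwd (nat_lit 8) (Steps.bwd (nat_lit 4) (Steps.fwd (nat_lit 4608) (Steps.bwd (nat_lit 4) (Steps.bwd (nat_lit 2) (Steps.fwd (nat_lit 4608) (Steps.fwd (nat_lit 2048) Steps.nil)))))))))))))))) (nat_lit 106) (nat_lit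 3),
  Rule.mk (nat_lit 0) (nat_lit 178) (Steps.fwd (nat_lit 4096) (Steps.fwd (nat_lit 2048) (Steps.fwd (nat_lit 4096) (Steps.fwd (nat_lit 2048) (Steps.fwd (nat_lit 4096) (Steps.fwd (nat_lit 2048) (Steps.fwd (nat_lit 4096) (Steps.fwd (nat_lit 2048) (Steps.fwd (nat_lit 4096) (Steps.fwd (nat_lit 2048) (Steps.fwd (nat_lit 4096) (Steps.bwd (nat_lit 4) (Steps.bwd (nat_lit 9) (Steps.fwd (nat_lit 2048) (Steps.fwd (nat_lit 4096) (Steps.fwd (nat_lit 1024) (Steps.bwd (nat_lit 4) Steps.nil))))))))))))))))) (nat_lit 107) (nat_lit 2),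
  Rule.mk (nat_lit 0) (nat_lit 38) (Steps.bwd (nat_lit 2) (Steps.bwd (nat_lit 0) (Steps.fwd (nat_lit 1024) Steps.nil))) (nat_lit 108) (nat_lit 0),
  Rule.mk (nat_lit 0) (nat_lit 38) (Steps.fwd (nat_lit 2048) (Steps.fwd (nat_lit 0) (Steps.fwd (nat_lit 2048) Steps.nil))) (nat_lit 108) (nat_lit 0),
  Rule.mk (nat_lit 0) (nat_lit 38) (Steps.bwd (nat_lit 4) (Steps.fwd (nat_lit 0) (Steps.fwd (nat_lit 2048) Steps.nil))) (nat_lit 108) (nat_lit 0),
  Rule.mk (nat_lit 0) (nat_lit 48) (Steps.bwd (nat_lit 0) (Steps.bwd (nat_lit 1) (Steps.fwd (nat_lit 0) (Steps.bwd (nat_lit 1) Steps.nil)))) (nat_lit 108) (nat_lit 0),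
  Rule.mk (nat_lit 0) (nat_lit 38) (Steps.fwd (nat_lit 4608) (Steps.fwd (nat_lit 0) (Steps.bwd (nat_lit 9) Steps.nil))) (nat_lit 108) (nat_lit 0),
  Rule.mk (nat_lit 0) (nat_lit 38) (Steps.bwd (nat_lit 9) (Steps.fwd (nat_lit 0) (Steps.bwd (nat_lit 8) Steps.nil))) (nat_lit 108) (nat_lit 0),
  Rule.mk (nat_lit 0) (nat_lit 48) (Steps.bwd (nat_lit 0) (Steps.bwd (nat_lit 1) (Steps.bwd (nat_lit 0) (Steps.fwd (nat_lit 512) Steps.nil)))) (nat_lit 108) (nat_lit 0),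
  Rule.mk (nat_lit 0) (nat_lit 48) (Steps.bwd (nat_lit 8) (Steps.bwd (nat_lit 0) (Steps.fwd (nat_lit 4096) (Steps.fwd (nat_lit 0) Steps.nil)))) (nat_lit 108) (nat_lit 0),
  Rule.mk (nat_lit 0) (nat_lit 38) (Steps.fwd (nat_lit 0) (Steps.fwd (nat_lit 0) (Steps.fwd (nat_lit 0) Steps.nil))) (nat_lit 108) (nat_lit 0),
  Rule.mk (nat_lit 0) (nat_lit 48) (Steps.bwd (nat_lit 6) (Steps.bwd (nat_lit 0) (Steps.fwd (nat_lit 3072) (Steps.fwd (nat_lit 0) Steps.nil)))) (nat_lit 108) (nat_lit 0),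
  Rule.mk (nat_lit 0) (nat_lit 48) (Steps.bwd (nat_lit 0) (Steps.bwd (nat_lit 8) (Steps.bwd (nat_lit 0) (Steps.fwd (nat_lit 4096) Steps.nil)))) (nat_lit 108) (nat_lit 0)]
noncomputable def R : List (List (Rule)) := [R_0, R_1, R_2]
def LW : List Word := [[], [0], [2], [3], [4], [6], [8], [10], [12], [13], [0], [1], [2], [3], [4], [5], [6], [7], [8], [9], [10], [11]]
def par : Par := ⟨9, 5, 14, 23, 511, 16383, 8388607⟩
theorem hpar : par.ok := by decide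
theorem hR0_0 : lall (R) (fun l => lall l (ruleOK Ra41 LW par)) = true := by decide +kernel
theorem hR0 : lall (R) (fun l => lall l (ruleOK Ra41 LW par)) = true := hR0_0
theorem hR : RulesOK Ra41 LW par R := rulesOK_of rfl hR0
def cols : List (ℕ × ℕ) := [(512, 1), (1024, 3), (2048, 4), (2560, 5), (3072, 6), (3584, 7), (4096, 9)]
theorem hcols : lall cols (colOK Ra41 LW par) = true := by decide +kernel
noncomputable def JS0 : List ℕ := [nat_lit 0x40f0040800238048e23c1b048801fc7e1f47c1ec7a1e4781dc761d468812341206016044801900080230140448c200607f22c1022c7f172200122058070280b028548701887141f4041f44c82008821320c0020c4c82204801fc7e1f47c1ec7a1e408048162188420c487f1f87d1f07b1e8791e00704415214832088120044781dc060401421082204801fc7e1f47c1ec7a1e440020140d030810f004040340b200380302c030d008091f8300101c010b0000900028090380d1f47b1e8791e0771d8751d0731c8711c024001ec031ec000600004018030180501020030100200c1c78004780300c040280400c18030100600c14020107604004040040c0001400021cc7201,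
  nat_lit 0xe000013600405254d400234d08e0a08e2308b280049e0bc9f238cc0004400320388b228c48f274282a08a302381b0688a000bc0000c002e22c04268270a499220b403224882c04c152608821cac000041605c892a00016220a4950809521c862823c002709c9c0088f2623c020549c004948e0040a2100424234002688c122681c234888f0708c0422c1922c508e040061fc03212340f00c7e0088094044031f4011f2188521083208812007f1f87d1f00625496064871e1ec0525095060862148420c82204801fc7e1f47c1d01011050881c00c082441002048861b,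
  nat_lit 0x130513800210834d0b885211308c004ba27010030ac014b2e40022c988b000b9230a4c60c88b4a0040b3103000024bf0b02c40310362b48821c862148420c82204801fc7e49238012212087004a1308a503092470000c0048d4627c3c0ac2a2348c22c8a2248821c8621514000080a440049d08c2222d0c0026c0a4226c2722904020801f2d100010c4b9040002428c0cb721c040c000fc000380f3e260320b8240488c22c8a2248821c86214f48c000923c24002258192988c22cec8f004950840f2348c3a244052501707408234e4932c08f2388d380000b37,
  nat_lit 0x72a9889a00184a800099600340c0017c000380d079780d0381600c975d07814054025c048140056ca1000945a2500000c9801030970016493000df583741c24d449b24804870015c9f0008656048cc0094802028980d0040832c3000018c80b02055360a90548b2288922087218852108320881490e88e0208b5522cd400150010380c3494c00318043634888520088900cc0400043430d440002c8c1b3388501000012ed4001334844f,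
  nat_lit 0x2ccb20044f01cfb011d4b1000da0140613ce774365042c8b12c0e07d0158479011a46600dcc2000dc80c009a4d400dc40c00c74653f4002cdc00200db00800c6d66404023c190440081c001bc2501c1b6e3f40109db4b00004265000056c3e404088046b04404690bc036a0b003692ac0339da0240081f67080010ad98180042865388000619015044000458cb0000b00d2b8002b80cac000ac50,
  nat_lit 0x2888e8d488b248911338a00041d118c41478420043d8f73e0aa23c8e410ce3362c00010020440e8a00c0001224021dd090300e0e004761c508623b000891d07900c623ae20ee004023d40a8725c75006180017c5e853c806000fd1dc0300a10f7001a4fb1d88b1d8013d60c7240000823c800811cc053c20007015a409011a8be00dfc05009f8bd005cc7d004e97d39c002edf08e2e801390e5399ec00174f47a168ee001e4001845f783ac00008eb005dcb3008dc018fc014ea76,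
  nat_lit 0x14900184d4001470026c000500134268010080399000076c5080627c056b0149b00536984d401039c001011b000011b02300c3100a5d3b01092964e80222a582c00488950b00006df400009b11800515002508300411932080102248080000b912008520ca745c04000c8324ca32ccc334ce33cd034640034591823c81014d033cce334cc32cca324c831e3c0102d008e]
theorem S0_c : blocks (facts 9 5 14 23 511 16383 8388607 10 1023 8 255 A R 32) 32 JS0 371 = true := by decide +kernel
theorem S0 : On (Step.{u} Ra41 LW par A) 371 595 :=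
  steps_of_blocks hpar hR S0_c (by decide +kernel)
theorem D0_c : allB (defOK 9 14 23 511 8388607 366 A K) 1 2 = true := by decide +kernel
theorem D0 : On (fun r => defOK par.W par.WL par.E par.mW par.mE 366 A K r = true) 256 384 :=
  On.of_allB D0_c
noncomputable def JW0 : List ℕ := [nat_lit 0x4ce01c2388718e41ca]
theorem W0_c : blocks (rows 9 5 14 23 511 16383 8388607 11 2047 77 A 595 1 cols 18) 18 JW0 0 = true := by decide +kernel
theorem W0 : On (Row.{u} Ra41 LW par A 595 1 cols) 0 18 :=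
  rows_of_blocks hpar (by decide) hcols W0_c (by decide +kernel)
theorem idx : Idx.{u} Ra41 [[0], [2], [4], [6], [8], [10], [12]] [[0], [2], [4], [6], [8], [10]] 1 :=
  idx_of_cert hpar hR (K := K) (by decide +kernel) (T := 366) (T' := 384) (by decide) D0
    (subs := [1,2,4,5,6,7]) (by decide +kernel) (T1 := 371) (by decide) (N := 595) S0
    (by decide) (n' := 18) (by decide) W0 (by decide +kernel) (by decide +kernel)
end a41
namespace a42
noncomputable def A_0 : List (ℕ) := [nat_lit 0x2400b049495cae52205ce572198ac1839589262b958a4a2a1caa5528201262a1290542f208a4501748882f178e492f142c5e305ca242f050a532910a4522824a480a851052289430513054a272501d0512814324f21409e60d018e4f03049a44305814521054a43211c281339049650392cc0a1b10963a28fc7e41a100a391318803828b06e71c0dc82b13146e36282c6c6030d8e1a02a06c2348d46a910888c35161c4c2738b44e615890e291110502448803c91209500f1288482210944681088ca230884461d48883a610884e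210e94421e408038110074e1d0f103a1e10741e20f050c0703142612304824506048e05021c220d304422508844611090c2413104c2820a0546150b0c2c17105c3020c0646190294361a18681870d86c41b0618361c283438602070e0d0e08381c40100680e03cc10079c1e0f203c1a30683060c0588160a10281230482060803880e0610180a30281060402980a03300c0850200ce030188060e38381c501838c0e07081c0220380210080440100940201380404101008a0201180202380804201001002001c0000300000500000800000800000800dc4369b506c3610d66b41a8d44349a50683410ce674198cc432995028320442630988c46161842603010be5f0834bc82e97485c2e20b65b2168b482c9648582c20ae572158ac82a9548542a2096533064a4604145008281c0e4f09389c726934a4c2604264b41289442492504824108e4741188c4229150442210864341088442090501b20047e3f10f87c11e8f4c3c1e04763b10e87411c8e4c381c041837086c6c8030d42341a08663308c8646188c423018085e2f08b85c6100b482c1604242b08a8544100a442314044e2720984c10289422412084423388844102084410100c3e1f483c3c10e87440f0e10361b40683440c8650180c102e1740582c40a8550140a10261340482440884500e08041c0f080c1c80683480c0620160b20281480482480804200e0720180c80281480402200603200404800805000,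
  nat_lit 0x12000000020100080203200401e0080060300381c0320340200680660d005c0600e80c01e0b80401700cc0801201002211004a2200905001d0a003b31a0dc6440ccc860f04046431903e2a118c764120a043b1f08c03e20d4742140a0a3e1d94c01040d04a41d0d0c251018522900b84a7178bc6231180602430cc405199808331a8c660d08cc220188cc05f0680645f30906a32f97d0291014be6038a8be710180c2a1c10c204485c0860b8802170c1c181830306e10c05c01c0600ac0b01543000d8100160580a65301540a00a8200360300a406001cac60c054a180b182e0800500e0290600430b80881501442c02f114e45231c8c47291c9062415d248]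
noncomputable def A : List (List (ℕ)) := [A_0]
noncomputable def K_0 : List (ℕ) := [nat_lit 0x5b6d96bb55a6d167b3596c963b1586c15faf576b95bad566b157ab556a953a9546a14fa7536994ba55269147a35168943a1506813f9f4f6793b9d4e671379b4d66933994c6612f974b6592b954a6512793496492391486411f8f476391b8d46631178b456291389446210f87436190b854261107834160903814060000]
noncomputable def K : List (List (ℕ)) := [K_0]
noncomputable def R_0 : List (Rule) := [Rule.mk (nat_lit 8) (nat_lit 28) (Steps.bwd (nat_lit 8) (Steps.bwd (nat_lit 8) Steps.nil)) (nat_lit 94) (nat_lit 0),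
  Rule.mk (nat_lit 2) (nat_lit 38) (Steps.fwd (nat_lit 4096) (Steps.fwd (nat_lit 1024) (Steps.bwd (nat_lit 8) Steps.nil))) (nat_lit 96) (nat_lit 2),
  Rule.mk (nat_lit 7) (nat_lit 38) (Steps.fwd (nat_lit 4096) (Steps.fwd (nat_lit 2560) (Steps.bwd (nat_lit 8) Steps.nil))) (nat_lit 98) (nat_lit 2),
  Rule.mk (nat_lit 6) (nat_lit 38) (Steps.bwd (nat_lit 8) (Steps.fwd (nat_lit 3072) (Steps.bwd (nat_lit 8) Steps.nil))) (nat_lit 102) (nat_lit 1),
  Rule.mk (nat_lit 5) (nat_lit 48) (Steps.fwd (nat_lit 4096) (Steps.fwd (nat_lit 2560) (Steps.fwd (nat_lit 3584) (Steps.bwd (nat_lit 8) Steps.nil)))) (nat_lit 100) (nat_lit 2),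
  Rule.mk (nat_lit 1) (nat_lit 58) (Steps.fwd (nat_lit 1024) (Steps.fwd (nat_lit 4096) (Steps.fwd (nat_lit 512) (Steps.bwd (nat_lit 8) (Steps.bwd (nat_lit 2) Steps.nil))))) (nat_lit 104) (nat_lit 3),
  Rule.mk (nat_lit 5) (nat_lit 48) (Steps.fwd (nat_lit 3072) (Steps.fwd (nat_lit 2560) (Steps.fwd (nat_lit 3584) (Steps.bwd (nat_lit 6) Steps.nil)))) (nat_lit 24) (nat_lit 2),
  Rule.mk (nat_lit 2) (nat_lit 78) (Steps.fwd (nat_lit 3072) (Steps.fwd (nat_lit 3584) (Steps.bwd (nat_lit 2) (Steps.fwd (nat_lit 2560) (Steps.bwd (nat_lit 2) (Steps.bwd (nat_lit 6) (Steps.fwd (nat_lit 2560) Steps.nil))))))) (nat_lit 82) (nat_lit 6),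
  Rule.mk (nat_lit 4) (nat_lit 178) (Steps.bwd (nat_lit 8) (Steps.bwd (nat_lit 4) (Steps.bwd (nat_lit 8) (Steps.bwd (nat_lit 4) (Steps.bwd (nat_lit 8) (Steps.bwd (nat_lit 4) (Steps.bwd (nat_lit 8) (Steps.bwd (nat_lit 4) (Steps.bwd (nat_lit 8) (Steps.bwd (nat_lit 4) (Steps.bwd (nat_lit 8) (Steps.bwd (nat_lit 4) (Steps.bwd (nat_lit 8) (Steps.fwd (nat_lit 2048) (Steps.bwd (nat_lit 2) (Steps.bwd (nat_lit 2) (Steps.bwd (nat_lit 8) Steps.nil))))))))))))))))) (nat_lit 106) (nat_lit 2),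
  Rule.mk (nat_lit 2) (nat_lit 38) (Steps.fwd (nat_lit 2048) (Steps.bwd (nat_lit 2) (Steps.bwd (nat_lit 4) Steps.nil))) (nat_lit 14) (nat_lit 0),
  Rule.mk (nat_lit 6) (nat_lit 38) (Steps.fwd (nat_lit 2048) (Steps.fwd (nat_lit 2560) (Steps.bwd (nat_lit 4) Steps.nil))) (nat_lit 22) (nat_lit 0),
  Rule.mk (nat_lit 5) (nat_lit 38) (Steps.bwd (nat_lit 4) (Steps.fwd (nat_lit 3072) (Steps.bwd (nat_lit 4) Steps.nil))) (nat_lit 22) (nat_lit 2),
  Rule.mk (nat_lit 7) (nat_lit 38) (Steps.fwd (nat_lit 2048) (Steps.fwd (nat_lit 3584) (Steps.bwd (nat_lit 4) Steps.nil))) (nat_lit 30) (nat_lit 1),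
  Rule.mk (nat_lit 2) (nat_lit 58) (Steps.bwd (nat_lit 4) (Steps.fwd (nat_lit 3072) (Steps.bwd (nat_lit 2) (Steps.bwd (nat_lit 4) (Steps.bwd (nat_lit 5) Steps.nil))))) (nat_lit 54) (nat_lit 4),
  Rule.mk (nat_lit 7) (nat_lit 58) (Steps.bwd (nat_lit 4) (Steps.fwd (nat_lit 3072) (Steps.fwd (nat_lit 3584) (Steps.bwd (nat_lit 4) (Steps.bwd (nat_lit 5) Steps.nil))))) (nat_lit 66) (nat_lit 3),
  Rule.mk (nat_lit 5) (nat_lit 38) (Steps.bwd (nat_lit 8) (Steps.fwd (nat_lit 3584) (Steps.fwd (nat_lit 4096) Steps.nil))) (nat_lit 98) (nat_lit 0),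
  Rule.mk (nat_lit 6) (nat_lit 48) (Steps.fwd (nat_lit 2560) (Steps.fwd (nat_lit 3072) (Steps.bwd (nat_lit 5) (Steps.fwd (nat_lit 3584) Steps.nil)))) (nat_lit 24) (nat_lit 1),
  Rule.mk (nat_lit 6) (nat_lit 38) (Steps.bwd (nat_lit 4) (Steps.fwd (nat_lit 2560) (Steps.fwd (nat_lit 2048) Steps.nil))) (nat_lit 22) (nat_lit 0),
  Rule.mk (nat_lit 3) (nat_lit 38) (Steps.bwd (nat_lit 8) (Steps.bwd (nat_lit 2) (Steps.fwd (nat_lit 4096) Steps.nil))) (nat_lit 96) (nat_lit 0),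
  Rule.mk (nat_lit 3) (nat_lit 38) (Steps.bwd (nat_lit 4) (Steps.bwd (nat_lit 3) (Steps.fwd (nat_lit 2048) Steps.nil))) (nat_lit 15) (nat_lit 1),
  Rule.mk (nat_lit 2) (nat_lit 38) (Steps.bwd (nat_lit 8) (Steps.bwd (nat_lit 3) (Steps.fwd (nat_lit 4096) Steps.nil))) (nat_lit 97) (nat_lit 1),
  Rule.mk (nat_lit 2) (nat_lit 38) (Steps.bwd (nat_lit 4) (Steps.bwd (nat_lit 2) (Steps.fwd (nat_lit 2048) Steps.nil))) (nat_lit 14) (nat_lit 0),
  Rule.mk (nat_lit 4) (nat_lit 58) (Steps.bwd (nat_lit 1) (Steps.bwd (nat_lit 4) (Steps.fwd (nat_lit 512) (Steps.fwd (nat_lit 2048) (Steps.fwd (nat_lit 512) Steps.nil))))) (nat_lit 16) (nat_lit 0),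
  Rule.mk (nat_lit 7) (nat_lit 78) (Steps.bwd (nat_lit 1) (Steps.bwd (nat_lit 4) (Steps.fwd (nat_lit 512) (Steps.fwd (nat_lit 3584) (Steps.fwd (nat_lit 2048) (Steps.fwd (nat_lit 512) (Steps.fwd (nat_lit 2048) Steps.nil))))))) (nat_lit 76) (nat_lit 0),
  Rule.mk (nat_lit 6) (nat_lit 78) (Steps.bwd (nat_lit 1) (Steps.fwd (nat_lit 2048) (Steps.fwd (nat_lit 512) (Steps.bwd (nat_lit 6) (Steps.fwd (nat_lit 512) (Steps.fwd (nat_lit 2048) (Steps.fwd (nat_lit 512) Steps.nil))))))) (nat_lit 74) (nat_lit 0),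
  Rule.mk (nat_lit 8) (nat_lit 178) (Steps.bwd (nat_lit 4) (Steps.bwd (nat_lit 8) (Steps.bwd (nat_lit 4) (Steps.bwd (nat_lit 8) (Steps.bwd (nat_lit 4) (Steps.bwd (nat_lit 8) (Steps.bwd (nat_lit 4) (Steps.bwd (nat_lit 8) (Steps.bwd (nat_lit 4) (Steps.bwd (nat_lit 8) (Steps.bwd (nat_lit 4) (Steps.bwd (nat_lit 8) (Steps.fwd (nat_lit 2048) (Steps.bwd (nat_lit 2) (Steps.bwd (nat_lit 2) (Steps.bwd (nat_lit 8) (Steps.fwd (nat_lit 2048) Steps.nil))))))))))))))))) (nat_lit 106) (nat_lit 3),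
  Rule.mk (nat_lit 7) (nat_lit 38) (Steps.fwd (nat_lit 4096) (Steps.bwd (nat_lit 5) (Steps.bwd (nat_lit 8) Steps.nil))) (nat_lit 98) (nat_lit 2),
  Rule.mk (nat_lit 5) (nat_lit 48) (Steps.fwd (nat_lit 4096) (Steps.bwd (nat_lit 5) (Steps.fwd (nat_lit 3584) (Steps.bwd (nat_lit 8) Steps.nil)))) (nat_lit 100) (nat_lit 2),
  Rule.mk (nat_lit 6) (nat_lit 38) (Steps.fwd (nat_lit 2048) (Steps.bwd (nat_lit 5) (Steps.bwd (nat_lit 4) Steps.nil))) (nat_lit 22) (nat_lit 0),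
  Rule.mk (nat_lit 2) (nat_lit 58) (Steps.fwd (nat_lit 2048) (Steps.bwd (nat_lit 5) (Steps.fwd (nat_lit 1536) (Steps.bwd (nat_lit 4) (Steps.bwd (nat_lit 6) Steps.nil))))) (nat_lit 54) (nat_lit 1),
  Rule.mk (nat_lit 7) (nat_lit 58) (Steps.fwd (nat_lit 2048) (Steps.bwd (nat_lit 5) (Steps.fwd (nat_lit 3584) (Steps.bwd (nat_lit 4) (Steps.fwd (nat_lit 3072) Steps.nil))))) (nat_lit 66) (nat_lit 0),
  Rule.mk (nat_lit 3) (nat_lit 38) (Steps.fwd (nat_lit 4096) (Steps.bwd (nat_lit 2) (Steps.bwd (nat_lit 8) Steps.nil))) (nat_lit 97) (nat_lit 3),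
  Rule.mk (nat_lit 5) (nat_lit 58) (Steps.bwd (nat_lit 2) (Steps.fwd (nat_lit 2048) (Steps.bwd (nat_lit 6) (Steps.fwd (nat_lit 1536) (Steps.fwd (nat_lit 2048) Steps.nil))))) (nat_lit 54) (nat_lit 3),
  Rule.mk (nat_lit 3) (nat_lit 38) (Steps.fwd (nat_lit 2048) (Steps.bwd (nat_lit 3) (Steps.bwd (nat_lit 4) Steps.nil))) (nat_lit 15) (nat_lit 1),
  Rule.mk (nat_lit 2) (nat_lit 38) (Steps.fwd (nat_lit 4096) (Steps.bwd (nat_lit 3) (Steps.bwd (nat_lit 8) Steps.nil))) (nat_lit 96) (nat_lit 2),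
  Rule.mk (nat_lit 7) (nat_lit 48) (Steps.bwd (nat_lit 8) (Steps.bwd (nat_lit 5) (Steps.fwd (nat_lit 4096) (Steps.fwd (nat_lit 2560) Steps.nil)))) (nat_lit 100) (nat_lit 0),
  Rule.mk (nat_lit 7) (nat_lit 38) (Steps.bwd (nat_lit 4) (Steps.bwd (nat_lit 7) (Steps.fwd (nat_lit 2048) Steps.nil))) (nat_lit 30) (nat_lit 1),
  Rule.mk (nat_lit 5) (nat_lit 58) (Steps.bwd (nat_lit 7) (Steps.fwd (nat_lit 2048) (Steps.bwd (nat_lit 6) (Steps.bwd (nat_lit 7) (Steps.fwd (nat_lit 2048) Steps.nil))))) (nat_lit 66) (nat_lit 2),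
  Rule.mk (nat_lit 6) (nat_lit 58) (Steps.bwd (nat_lit 7) (Steps.bwd (nat_lit 4) (Steps.fwd (nat_lit 2560) (Steps.bwd (nat_lit 7) (Steps.fwd (nat_lit 2048) Steps.nil))))) (nat_lit 66) (nat_lit 5),
  Rule.mk (nat_lit 5) (nat_lit 38) (Steps.bwd (nat_lit 8) (Steps.bwd (nat_lit 7) (Steps.fwd (nat_lit 4096) Steps.nil))) (nat_lit 98) (nat_lit 0),
  Rule.mk (nat_lit 6) (nat_lit 38) (Steps.bwd (nat_lit 4) (Steps.bwd (nat_lit 5) (Steps.fwd (nat_lit 2048) Steps.nil))) (nat_lit 22) (nat_lit 0),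
  Rule.mk (nat_lit 2) (nat_lit 58) (Steps.bwd (nat_lit 1) (Steps.bwd (nat_lit 2) (Steps.bwd (nat_lit 1) (Steps.bwd (nat_lit 2) (Steps.fwd (nat_lit 512) Steps.nil))))) (nat_lit 12) (nat_lit 0),
  Rule.mk (nat_lit 2) (nat_lit 28) (Steps.bwd (nat_lit 2) (Steps.bwd (nat_lit 2) Steps.nil)) (nat_lit 2) (nat_lit 0),
  Rule.mk (nat_lit 4) (nat_lit 38) (Steps.bwd (nat_lit 2) (Steps.fwd (nat_lit 2048) (Steps.bwd (nat_lit 2) Steps.nil))) (nat_lit 14) (nat_lit 1),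
  Rule.mk (nat_lit 7) (nat_lit 58) (Steps.bwd (nat_lit 2) (Steps.fwd (nat_lit 2048) (Steps.fwd (nat_lit 3584) (Steps.bwd (nat_lit 2) (Steps.bwd (nat_lit 4) Steps.nil))))) (nat_lit 56) (nat_lit 0),
  Rule.mk (nat_lit 1) (nat_lit 58) (Steps.bwd (nat_lit 3) (Steps.bwd (nat_lit 9) (Steps.bwd (nat_lit 1) (Steps.bwd (nat_lit 8) (Steps.bwd (nat_lit 2) Steps.nil))))) (nat_lit 104) (nat_lit 3),
  Rule.mk (nat_lit 8) (nat_lit 38) (Steps.bwd (nat_lit 3) (Steps.bwd (nat_lit 9) (Steps.bwd (nat_lit 2) Steps.nil))) (nat_lit 97) (nat_lit 2),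
  Rule.mk (nat_lit 5) (nat_lit 78) (Steps.bwd (nat_lit 2) (Steps.bwd (nat_lit 1) (Steps.bwd (nat_lit 2) (Steps.bwd (nat_lit 5) (Steps.fwd (nat_lit 512) (Steps.bwd (nat_lit 2) (Steps.bwd (nat_lit 1) Steps.nil))))))) (nat_lit 70) (nat_lit 4),
  Rule.mk (nat_lit 7) (nat_lit 38) (Steps.fwd (nat_lit 2560) (Steps.fwd (nat_lit 3584) (Steps.bwd (nat_lit 5) Steps.nil))) (nat_lit 32) (nat_lit 1),
  Rule.mk (nat_lit 6) (nat_lit 58) (Steps.fwd (nat_lit 3584) (Steps.bwd (nat_lit 2) (Steps.fwd (nat_lit 3072) (Steps.fwd (nat_lit 3584) (Steps.fwd (nat_lit 1024) Steps.nil))))) (nat_lit 62) (nat_lit 5),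
  Rule.mk (nat_lit 9) (nat_lit 58) (Steps.bwd (nat_lit 1) (Steps.bwd (nat_lit 8) (Steps.bwd (nat_lit 2) (Steps.fwd (nat_lit 512) (Steps.fwd (nat_lit 1024) Steps.nil))))) (nat_lit 104) (nat_lit 5),
  Rule.mk (nat_lit 1) (nat_lit 38) (Steps.bwd (nat_lit 7) (Steps.bwd (nat_lit 1) (Steps.bwd (nat_lit 7) Steps.nil))) (nat_lit 26) (nat_lit 0),
  Rule.mk (nat_lit 5) (nat_lit 38) (Steps.fwd (nat_lit 512) (Steps.fwd (nat_lit 2560) (Steps.bwd (nat_lit 1) Steps.nil))) (nat_lit 18) (nat_lit 0),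
  Rule.mk (nat_lit 8) (nat_lit 58) (Steps.bwd (nat_lit 2) (Steps.bwd (nat_lit 1) (Steps.fwd (nat_lit 1024) (Steps.fwd (nat_lit 4096) (Steps.bwd (nat_lit 1) Steps.nil))))) (nat_lit 104) (nat_lit 1),
  Rule.mk (nat_lit 2) (nat_lit 58) (Steps.bwd (nat_lit 1) (Steps.bwd (nat_lit 2) (Steps.bwd (nat_lit 1) (Steps.fwd (nat_lit 1536) (Steps.fwd (nat_lit 512) Steps.nil))))) (nat_lit 12) (nat_lit 0),
  Rule.mk (nat_lit 8) (nat_lit 38) (Steps.fwd (nat_lit 1024) (Steps.bwd (nat_lit 9) (Steps.bwd (nat_lit 2) Steps.nil))) (nat_lit 97) (nat_lit 2),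
  Rule.mk (nat_lit 9) (nat_lit 38) (Steps.fwd (nat_lit 1024) (Steps.bwd (nat_lit 8) (Steps.bwd (nat_lit 2) Steps.nil))) (nat_lit 96) (nat_lit 3),
  Rule.mk (nat_lit 9) (nat_lit 28) (Steps.fwd (nat_lit 4096) (Steps.bwd (nat_lit 9) Steps.nil)) (nat_lit 95) (nat_lit 0),
  Rule.mk (nat_lit 4) (nat_lit 58) (Steps.bwd (nat_lit 1) (Steps.bwd (nat_lit 4) (Steps.bwd (nat_lit 1) (Steps.bwd (nat_lit 4) (Steps.fwd (nat_lit 512) Steps.nil))))) (nat_lit 16) (nat_lit 0),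
  Rule.mk (nat_lit 7) (nat_lit 78) (Steps.bwd (nat_lit 2) (Steps.fwd (nat_lit 512) (Steps.fwd (nat_lit 1536) (Steps.fwd (nat_lit 3584) (Steps.fwd (nat_lit 512) (Steps.bwd (nat_lit 2) (Steps.bwd (nat_lit 1) Steps.nil))))))) (nat_lit 72) (nat_lit 4),
  Rule.mk (nat_lit 6) (nat_lit 78) (Steps.bwd (nat_lit 1) (Steps.bwd (nat_lit 4) (Steps.fwd (nat_lit 512) (Steps.bwd (nat_lit 6) (Steps.fwd (nat_lit 512) (Steps.bwd (nat_lit 4) (Steps.bwd (nat_lit 1) Steps.nil))))))) (nat_lit 74) (nat_lit 0),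
  Rule.mk (nat_lit 7) (nat_lit 78) (Steps.bwd (nat_lit 4) (Steps.bwd (nat_lit 1) (Steps.bwd (nat_lit 4) (Steps.fwd (nat_lit 3584) (Steps.fwd (nat_lit 512) (Steps.bwd (nat_lit 4) (Steps.bwd (nat_lit 1) Steps.nil))))))) (nat_lit 76) (nat_lit 4),
  Rule.mk (nat_lit 7) (nat_lit 38) (Steps.fwd (nat_lit 2048) (Steps.bwd (nat_lit 7) (Steps.bwd (nat_lit 4) Steps.nil))) (nat_lit 30) (nat_lit 1),
  Rule.mk (nat_lit 6) (nat_lit 138) (Steps.bwd (nat_lit 1) (Steps.bwd (nat_lit 2) (Steps.bwd (nat_lit 1) (Steps.bwd (nat_lit 6) (Steps.bwd (nat_lit 1) (Steps.bwd (nat_lit 2) (Steps.bwd (nat_lit 1) (Steps.bwd (nat_lit 6) (Steps.fwd (nat_lit 512) (Steps.bwd (nat_lit 6) (Steps.fwd (nat_lit 2560) (Steps.fwd (nat_lit 1536) (Steps.fwd (nat_lit 512) Steps.nil))))))))))))) (nat_lit 34) (nat_lit 3)]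
noncomputable def R_1 : List (Rule) := [Rule.mk (nat_lit 9) (nat_lit 38) (Steps.fwd (nat_lit 3072) (Steps.bwd (nat_lit 9) (Steps.bwd (nat_lit 6) Steps.nil))) (nat_lit 103) (nat_lit 1),
  Rule.mk (nat_lit 9) (nat_lit 28) (Steps.bwd (nat_lit 9) (Steps.fwd (nat_lit 4096) Steps.nil)) (nat_lit 95) (nat_lit 0),
  Rule.mk (nat_lit 5) (nat_lit 48) (Steps.fwd (nat_lit 4096) (Steps.fwd (nat_lit 2560) (Steps.bwd (nat_lit 7) (Steps.bwd (nat_lit 8) Steps.nil)))) (nat_lit 100) (nat_lit 2),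
  Rule.mk (nat_lit 5) (nat_lit 38) (Steps.bwd (nat_lit 1) (Steps.fwd (nat_lit 2560) (Steps.fwd (nat_lit 512) Steps.nil))) (nat_lit 18) (nat_lit 0),
  Rule.mk (nat_lit 4) (nat_lit 38) (Steps.fwd (nat_lit 3072) (Steps.bwd (nat_lit 4) (Steps.bwd (nat_lit 5) Steps.nil))) (nat_lit 22) (nat_lit 3),
  Rule.mk (nat_lit 7) (nat_lit 58) (Steps.bwd (nat_lit 1) (Steps.fwd (nat_lit 2560) (Steps.bwd (nat_lit 7) (Steps.fwd (nat_lit 512) (Steps.bwd (nat_lit 5) Steps.nil))))) (nat_lit 52) (nat_lit 0),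
  Rule.mk (nat_lit 5) (nat_lit 38) (Steps.bwd (nat_lit 7) (Steps.bwd (nat_lit 5) (Steps.bwd (nat_lit 7) Steps.nil))) (nat_lit 32) (nat_lit 0),
  Rule.mk (nat_lit 6) (nat_lit 138) (Steps.bwd (nat_lit 1) (Steps.bwd (nat_lit 2) (Steps.bwd (nat_lit 1) (Steps.bwd (nat_lit 6) (Steps.bwd (nat_lit 1) (Steps.bwd (nat_lit 2) (Steps.bwd (nat_lit 1) (Steps.bwd (nat_lit 6) (Steps.bwd (nat_lit 1) (Steps.bwd (nat_lit 6) (Steps.fwd (nat_lit 2560) (Steps.fwd (nat_lit 1536) (Steps.fwd (nat_lit 512) Steps.nil))))))))))))) (nat_lit 34) (nat_lit 3),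
  Rule.mk (nat_lit 5) (nat_lit 48) (Steps.bwd (nat_lit 6) (Steps.bwd (nat_lit 5) (Steps.bwd (nat_lit 7) (Steps.bwd (nat_lit 6) Steps.nil)))) (nat_lit 24) (nat_lit 2),
  Rule.mk (nat_lit 4) (nat_lit 78) (Steps.fwd (nat_lit 512) (Steps.fwd (nat_lit 3072) (Steps.bwd (nat_lit 1) (Steps.fwd (nat_lit 2048) (Steps.fwd (nat_lit 512) (Steps.bwd (nat_lit 6) (Steps.bwd (nat_lit 1) Steps.nil))))))) (nat_lit 74) (nat_lit 2),
  Rule.mk (nat_lit 5) (nat_lit 38) (Steps.fwd (nat_lit 512) (Steps.bwd (nat_lit 5) (Steps.fwd (nat_lit 512) Steps.nil))) (nat_lit 18) (nat_lit 0),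
  Rule.mk (nat_lit 4) (nat_lit 178) (Steps.bwd (nat_lit 8) (Steps.bwd (nat_lit 4) (Steps.bwd (nat_lit 8) (Steps.bwd (nat_lit 4) (Steps.bwd (nat_lit 8) (Steps.bwd (nat_lit 4) (Steps.bwd (nat_lit 8) (Steps.bwd (nat_lit 4) (Steps.bwd (nat_lit 8) (Steps.bwd (nat_lit 4) (Steps.bwd (nat_lit 8) (Steps.fwd (nat_lit 2048) (Steps.bwd (nat_lit 8) (Steps.fwd (nat_lit 2048) (Steps.fwd (nat_lit 1536) (Steps.fwd (nat_lit 1536) (Steps.bwd (nat_lit 8) Steps.nil))))))))))))))))) (nat_lit 106) (nat_lit 2),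
  Rule.mk (nat_lit 7) (nat_lit 48) (Steps.bwd (nat_lit 8) (Steps.fwd (nat_lit 2560) (Steps.fwd (nat_lit 4096) (Steps.bwd (nat_lit 5) Steps.nil)))) (nat_lit 100) (nat_lit 0),
  Rule.mk (nat_lit 5) (nat_lit 48) (Steps.bwd (nat_lit 7) (Steps.bwd (nat_lit 6) (Steps.fwd (nat_lit 2560) (Steps.bwd (nat_lit 6) Steps.nil)))) (nat_lit 24) (nat_lit 4),
  Rule.mk (nat_lit 1) (nat_lit 38) (Steps.bwd (nat_lit 5) (Steps.bwd (nat_lit 1) (Steps.fwd (nat_lit 2560) Steps.nil))) (nat_lit 18) (nat_lit 1),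
  Rule.mk (nat_lit 7) (nat_lit 38) (Steps.bwd (nat_lit 1) (Steps.bwd (nat_lit 7) (Steps.fwd (nat_lit 512) Steps.nil))) (nat_lit 26) (nat_lit 1),
  Rule.mk (nat_lit 6) (nat_lit 38) (Steps.fwd (nat_lit 3584) (Steps.bwd (nat_lit 6) (Steps.bwd (nat_lit 7) Steps.nil))) (nat_lit 48) (nat_lit 1),
  Rule.mk (nat_lit 4) (nat_lit 38) (Steps.bwd (nat_lit 7) (Steps.bwd (nat_lit 4) (Steps.bwd (nat_lit 7) Steps.nil))) (nat_lit 30) (nat_lit 0),
  Rule.mk (nat_lit 5) (nat_lit 38) (Steps.fwd (nat_lit 2048) (Steps.fwd (nat_lit 3072) (Steps.bwd (nat_lit 4) Steps.nil))) (nat_lit 22) (nat_lit 2),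
  Rule.mk (nat_lit 6) (nat_lit 38) (Steps.bwd (nat_lit 8) (Steps.bwd (nat_lit 6) (Steps.bwd (nat_lit 8) Steps.nil))) (nat_lit 102) (nat_lit 1),
  Rule.mk (nat_lit 8) (nat_lit 38) (Steps.bwd (nat_lit 6) (Steps.bwd (nat_lit 8) (Steps.fwd (nat_lit 3072) Steps.nil))) (nat_lit 102) (nat_lit 0),
  Rule.mk (nat_lit 5) (nat_lit 48) (Steps.fwd (nat_lit 4096) (Steps.bwd (nat_lit 5) (Steps.bwd (nat_lit 7) (Steps.bwd (nat_lit 8) Steps.nil)))) (nat_lit 100) (nat_lit 2),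
  Rule.mk (nat_lit 4) (nat_lit 38) (Steps.bwd (nat_lit 5) (Steps.bwd (nat_lit 4) (Steps.fwd (nat_lit 3072) Steps.nil))) (nat_lit 22) (nat_lit 1),
  Rule.mk (nat_lit 5) (nat_lit 48) (Steps.bwd (nat_lit 6) (Steps.fwd (nat_lit 2560) (Steps.bwd (nat_lit 7) (Steps.fwd (nat_lit 3072) Steps.nil)))) (nat_lit 24) (nat_lit 2),
  Rule.mk (nat_lit 4) (nat_lit 178) (Steps.bwd (nat_lit 8) (Steps.bwd (nat_lit 4) (Steps.bwd (nat_lit 8) (Steps.bwd (nat_lit 4) (Steps.bwd (nat_lit 8) (Steps.bwd (nat_lit 4) (Steps.bwd (nat_lit 8) (Steps.bwd (nat_lit 4) (Steps.bwd (nat_lit 8) (Steps.bwd (nat_lit 4) (Steps.bwd (nat_lit 8) (Steps.fwd (nat_lit 2048) (Steps.bwd (nat_lit 8) (Steps.fwd (nat_lit 2048) (Steps.bwd (nat_lit 2) (Steps.bwd (nat_lit 2) (Steps.bwd (nat_lit 8) Steps.nil))))))))))))))))) (nat_lit 106) (nat_lit 2),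
  Rule.mk (nat_lit 0) (nat_lit 38) (Steps.fwd (nat_lit 4096) (Steps.fwd (nat_lit 4096) (Steps.fwd (nat_lit 4096) Steps.nil))) (nat_lit 95) (nat_lit 0),
  Rule.mk (nat_lit 8) (nat_lit 28) (Steps.bwd (nat_lit 0) (Steps.fwd (nat_lit 4096) Steps.nil)) (nat_lit 108) (nat_lit 0),
  Rule.mk (nat_lit 5) (nat_lit 38) (Steps.fwd (nat_lit 2048) (Steps.bwd (nat_lit 6) (Steps.fwd (nat_lit 2048) Steps.nil))) (nat_lit 22) (nat_lit 2),
  Rule.mk (nat_lit 7) (nat_lit 48) (Steps.bwd (nat_lit 5) (Steps.fwd (nat_lit 3072) (Steps.bwd (nat_lit 5) (Steps.bwd (nat_lit 6) Steps.nil)))) (nat_lit 25) (nat_lit 1),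
  Rule.mk (nat_lit 6) (nat_lit 38) (Steps.bwd (nat_lit 4) (Steps.bwd (nat_lit 5) (Steps.bwd (nat_lit 4) Steps.nil))) (nat_lit 22) (nat_lit 0),
  Rule.mk (nat_lit 7) (nat_lit 38) (Steps.bwd (nat_lit 5) (Steps.fwd (nat_lit 3584) (Steps.bwd (nat_lit 5) Steps.nil))) (nat_lit 32) (nat_lit 1),
  Rule.mk (nat_lit 6) (nat_lit 48) (Steps.bwd (nat_lit 5) (Steps.fwd (nat_lit 3584) (Steps.bwd (nat_lit 6) (Steps.bwd (nat_lit 5) Steps.nil)))) (nat_lit 24) (nat_lit 3),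
  Rule.mk (nat_lit 7) (nat_lit 58) (Steps.bwd (nat_lit 4) (Steps.bwd (nat_lit 5) (Steps.fwd (nat_lit 3584) (Steps.bwd (nat_lit 4) (Steps.bwd (nat_lit 6) Steps.nil))))) (nat_lit 66) (nat_lit 0),
  Rule.mk (nat_lit 5) (nat_lit 48) (Steps.bwd (nat_lit 6) (Steps.fwd (nat_lit 2560) (Steps.bwd (nat_lit 6) (Steps.bwd (nat_lit 7) Steps.nil)))) (nat_lit 25) (nat_lit 2),
  Rule.mk (nat_lit 9) (nat_lit 38) (Steps.bwd (nat_lit 5) (Steps.bwd (nat_lit 8) (Steps.bwd (nat_lit 7) Steps.nil))) (nat_lit 98) (nat_lit 3),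
  Rule.mk (nat_lit 0) (nat_lit 38) (Steps.bwd (nat_lit 8) (Steps.fwd (nat_lit 4608) (Steps.bwd (nat_lit 8) Steps.nil))) (nat_lit 94) (nat_lit 0),
  Rule.mk (nat_lit 9) (nat_lit 28) (Steps.bwd (nat_lit 0) (Steps.bwd (nat_lit 8) Steps.nil)) (nat_lit 108) (nat_lit 0),
  Rule.mk (nat_lit 6) (nat_lit 38) (Steps.fwd (nat_lit 4096) (Steps.bwd (nat_lit 6) (Steps.bwd (nat_lit 9) Steps.nil))) (nat_lit 103) (nat_lit 0),
  Rule.mk (nat_lit 0) (nat_lit 48) (Steps.bwd (nat_lit 8) (Steps.fwd (nat_lit 3584) (Steps.fwd (nat_lit 4096) (Steps.bwd (nat_lit 5) Steps.nil)))) (nat_lit 98) (nat_lit 0),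
  Rule.mk (nat_lit 0) (nat_lit 38) (Steps.bwd (nat_lit 4) (Steps.fwd (nat_lit 0) (Steps.bwd (nat_lit 4) Steps.nil))) (nat_lit 108) (nat_lit 0),
  Rule.mk (nat_lit 0) (nat_lit 38) (Steps.bwd (nat_lit 6) (Steps.bwd (nat_lit 0) (Steps.bwd (nat_lit 6) Steps.nil))) (nat_lit 108) (nat_lit 0),
  Rule.mk (nat_lit 0) (nat_lit 38) (Steps.fwd (nat_lit 2560) (Steps.bwd (nat_lit 0) (Steps.bwd (nat_lit 5) Steps.nil))) (nat_lit 108) (nat_lit 0),
  Rule.mk (nat_lit 0) (nat_lit 38) (Steps.bwd (nat_lit 8) (Steps.bwd (nat_lit 0) (Steps.fwd (nat_lit 4096) Steps.nil))) (nat_lit 108) (nat_lit 0),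
  Rule.mk (nat_lit 0) (nat_lit 38) (Steps.fwd (nat_lit 4096) (Steps.bwd (nat_lit 0) (Steps.bwd (nat_lit 8) Steps.nil))) (nat_lit 108) (nat_lit 0),
  Rule.mk (nat_lit 6) (nat_lit 28) (Steps.bwd (nat_lit 0) (Steps.bwd (nat_lit 6) Steps.nil)) (nat_lit 108) (nat_lit 0),
  Rule.mk (nat_lit 5) (nat_lit 28) (Steps.bwd (nat_lit 0) (Steps.fwd (nat_lit 2560) Steps.nil)) (nat_lit 108) (nat_lit 0),
  Rule.mk (nat_lit 0) (nat_lit 48) (Steps.bwd (nat_lit 0) (Steps.fwd (nat_lit 2048) (Steps.fwd (nat_lit 0) (Steps.bwd (nat_lit 4) Steps.nil)))) (nat_lit 108) (nat_lit 0),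
  Rule.mk (nat_lit 0) (nat_lit 28) (Steps.fwd (nat_lit 0) (Steps.fwd (nat_lit 0) Steps.nil)) (nat_lit 108) (nat_lit 0),
  Rule.mk (nat_lit 0) (nat_lit 38) (Steps.fwd (nat_lit 4096) (Steps.fwd (nat_lit 0) (Steps.bwd (nat_lit 8) Steps.nil))) (nat_lit 108) (nat_lit 0),
  Rule.mk (nat_lit 0) (nat_lit 38) (Steps.bwd (nat_lit 5) (Steps.bwd (nat_lit 0) (Steps.bwd (nat_lit 5) Steps.nil))) (nat_lit 108) (nat_lit 0),
  Rule.mk (nat_lit 0) (nat_lit 48) (Steps.bwd (nat_lit 0) (Steps.bwd (nat_lit 5) (Steps.bwd (nat_lit 0) (Steps.bwd (nat_lit 5) Steps.nil)))) (nat_lit 108) (nat_lit 0),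
  Rule.mk (nat_lit 0) (nat_lit 38) (Steps.bwd (nat_lit 8) (Steps.fwd (nat_lit 0) (Steps.fwd (nat_lit 4096) Steps.nil))) (nat_lit 108) (nat_lit 0),
  Rule.mk (nat_lit 1) (nat_lit 28) (Steps.bwd (nat_lit 0) (Steps.fwd (nat_lit 512) Steps.nil)) (nat_lit 108) (nat_lit 0),
  Rule.mk (nat_lit 7) (nat_lit 28) (Steps.bwd (nat_lit 0) (Steps.fwd (nat_lit 3584) Steps.nil)) (nat_lit 108) (nat_lit 0),
  Rule.mk (nat_lit 1) (nat_lit 28) (Steps.bwd (nat_lit 0) (Steps.bwd (nat_lit 1) Steps.nil)) (nat_lit 108) (nat_lit 0),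
  Rule.mk (nat_lit 6) (nat_lit 78) (Steps.fwd (nat_lit 512) (Steps.fwd (nat_lit 2048) (Steps.bwd (nat_lit 1) (Steps.bwd (nat_lit 6) (Steps.fwd (nat_lit 512) (Steps.bwd (nat_lit 4) (Steps.bwd (nat_lit 1) Steps.nil))))))) (nat_lit 74) (nat_lit 0),
  Rule.mk (nat_lit 7) (nat_lit 78) (Steps.bwd (nat_lit 1) (Steps.fwd (nat_lit 2048) (Steps.fwd (nat_lit 512) (Steps.bwd (nat_lit 7) (Steps.bwd (nat_lit 4) (Steps.bwd (nat_lit 1) (Steps.bwd (nat_lit 4) Steps.nil))))))) (nat_lit 76) (nat_lit 0),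
  Rule.mk (nat_lit 7) (nat_lit 78) (Steps.bwd (nat_lit 4) (Steps.bwd (nat_lit 1) (Steps.fwd (nat_lit 2048) (Steps.bwd (nat_lit 7) (Steps.fwd (nat_lit 512) (Steps.bwd (nat_lit 4) (Steps.bwd (nat_lit 1) Steps.nil))))))) (nat_lit 76) (nat_lit 4),
  Rule.mk (nat_lit 5) (nat_lit 58) (Steps.bwd (nat_lit 7) (Steps.fwd (nat_lit 2048) (Steps.fwd (nat_lit 3072) (Steps.bwd (nat_lit 7) (Steps.bwd (nat_lit 4) Steps.nil))))) (nat_lit 66) (nat_lit 2),
  Rule.mk (nat_lit 8) (nat_lit 38) (Steps.fwd (nat_lit 3584) (Steps.bwd (nat_lit 9) (Steps.bwd (nat_lit 5) Steps.nil))) (nat_lit 98) (nat_lit 1),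
  Rule.mk (nat_lit 3) (nat_lit 38) (Steps.bwd (nat_lit 8) (Steps.bwd (nat_lit 2) (Steps.bwd (nat_lit 9) Steps.nil))) (nat_lit 96) (nat_lit 0),
  Rule.mk (nat_lit 6) (nat_lit 38) (Steps.bwd (nat_lit 2) (Steps.bwd (nat_lit 6) (Steps.bwd (nat_lit 3) Steps.nil))) (nat_lit 40) (nat_lit 0),
  Rule.mk (nat_lit 0) (nat_lit 68) (Steps.fwd (nat_lit 512) (Steps.fwd (nat_lit 1024) (Steps.fwd (nat_lit 512) (Steps.bwd (nat_lit 3) (Steps.bwd (nat_lit 1) (Steps.bwd (nat_lit 3) Steps.nil)))))) (nat_lit 13) (nat_lit 1),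
  Rule.mk (nat_lit 0) (nat_lit 38) (Steps.bwd (nat_lit 1) (Steps.bwd (nat_lit 0) (Steps.fwd (nat_lit 512) Steps.nil))) (nat_lit 108) (nat_lit 0)]
noncomputable def R_2 : List (Rule) := [Rule.mk (nat_lit 0) (nat_lit 38) (Steps.fwd (nat_lit 3072) (Steps.fwd (nat_lit 0) (Steps.bwd (nat_lit 6) Steps.nil))) (nat_lit 108) (nat_lit 0),
  Rule.mk (nat_lit 3) (nat_lit 28) (Steps.bwd (nat_lit 0) (Steps.fwd (nat_lit 1536) Steps.nil)) (nat_lit 108) (nat_lit 0),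
  Rule.mk (nat_lit 4) (nat_lit 28) (Steps.bwd (nat_lit 0) (Steps.fwd (nat_lit 2048) Steps.nil)) (nat_lit 108) (nat_lit 0),
  Rule.mk (nat_lit 0) (nat_lit 38) (Steps.fwd (nat_lit 512) (Steps.fwd (nat_lit 0) (Steps.bwd (nat_lit 1) Steps.nil))) (nat_lit 108) (nat_lit 0),
  Rule.mk (nat_lit 3) (nat_lit 28) (Steps.bwd (nat_lit 0) (Steps.bwd (nat_lit 2) Steps.nil)) (nat_lit 108) (nat_lit 0),
  Rule.mk (nat_lit 7) (nat_lit 38) (Steps.bwd (nat_lit 3) (Steps.bwd (nat_lit 7) (Steps.bwd (nat_lit 2) Steps.nil))) (nat_lit 28) (nat_lit 3),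
  Rule.mk (nat_lit 0) (nat_lit 68) (Steps.fwd (nat_lit 512) (Steps.bwd (nat_lit 3) (Steps.fwd (nat_lit 512) (Steps.bwd (nat_lit 3) (Steps.bwd (nat_lit 1) (Steps.fwd (nat_lit 1024) Steps.nil)))))) (nat_lit 13) (nat_lit 1),
  Rule.mk (nat_lit 6) (nat_lit 78) (Steps.bwd (nat_lit 7) (Steps.bwd (nat_lit 3) (Steps.fwd (nat_lit 2560) (Steps.fwd (nat_lit 1024) (Steps.fwd (nat_lit 3072) (Steps.bwd (nat_lit 5) (Steps.fwd (nat_lit 1024) Steps.nil))))))) (nat_lit 85) (nat_lit 4),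
  Rule.mk (nat_lit 4) (nat_lit 38) (Steps.bwd (nat_lit 5) (Steps.bwd (nat_lit 4) (Steps.bwd (nat_lit 6) Steps.nil))) (nat_lit 22) (nat_lit 1),
  Rule.mk (nat_lit 8) (nat_lit 38) (Steps.bwd (nat_lit 6) (Steps.bwd (nat_lit 8) (Steps.bwd (nat_lit 6) Steps.nil))) (nat_lit 102) (nat_lit 0),
  Rule.mk (nat_lit 5) (nat_lit 58) (Steps.bwd (nat_lit 4) (Steps.fwd (nat_lit 1024) (Steps.bwd (nat_lit 6) (Steps.bwd (nat_lit 4) (Steps.fwd (nat_lit 1024) Steps.nil))))) (nat_lit 55) (nat_lit 4),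
  Rule.mk (nat_lit 5) (nat_lit 58) (Steps.fwd (nat_lit 1024) (Steps.bwd (nat_lit 4) (Steps.bwd (nat_lit 6) (Steps.fwd (nat_lit 1024) (Steps.bwd (nat_lit 4) Steps.nil))))) (nat_lit 59) (nat_lit 5),
  Rule.mk (nat_lit 2) (nat_lit 38) (Steps.bwd (nat_lit 5) (Steps.fwd (nat_lit 1024) (Steps.fwd (nat_lit 2560) Steps.nil))) (nat_lit 20) (nat_lit 1),
  Rule.mk (nat_lit 4) (nat_lit 58) (Steps.bwd (nat_lit 6) (Steps.fwd (nat_lit 1536) (Steps.fwd (nat_lit 2048) (Steps.fwd (nat_lit 2560) (Steps.bwd (nat_lit 2) Steps.nil))))) (nat_lit 54) (nat_lit 5),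
  Rule.mk (nat_lit 2) (nat_lit 138) (Steps.bwd (nat_lit 1) (Steps.bwd (nat_lit 6) (Steps.bwd (nat_lit 1) (Steps.fwd (nat_lit 3072) (Steps.bwd (nat_lit 5) (Steps.fwd (nat_lit 1536) (Steps.fwd (nat_lit 512) (Steps.fwd (nat_lit 3072) (Steps.fwd (nat_lit 512) (Steps.bwd (nat_lit 2) (Steps.bwd (nat_lit 1) (Steps.bwd (nat_lit 6) (Steps.bwd (nat_lit 1) Steps.nil))))))))))))) (nat_lit 34) (nat_lit 9),
  Rule.mk (nat_lit 4) (nat_lit 38) (Steps.fwd (nat_lit 1536) (Steps.fwd (nat_lit 2048) (Steps.bwd (nat_lit 2) Steps.nil))) (nat_lit 14) (nat_lit 1),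
  Rule.mk (nat_lit 6) (nat_lit 38) (Steps.fwd (nat_lit 1024) (Steps.bwd (nat_lit 6) (Steps.bwd (nat_lit 2) Steps.nil))) (nat_lit 40) (nat_lit 2),
  Rule.mk (nat_lit 8) (nat_lit 38) (Steps.fwd (nat_lit 1024) (Steps.fwd (nat_lit 4096) (Steps.bwd (nat_lit 2) Steps.nil))) (nat_lit 97) (nat_lit 2),
  Rule.mk (nat_lit 8) (nat_lit 178) (Steps.bwd (nat_lit 4) (Steps.bwd (nat_lit 8) (Steps.bwd (nat_lit 4) (Steps.bwd (nat_lit 8) (Steps.bwd (nat_lit 4) (Steps.bwd (nat_lit 8) (Steps.bwd (nat_lit 4) (Steps.bwd (nat_lit 8) (Steps.bwd (nat_lit 4) (Steps.bwd (nat_lit 8) (Steps.fwd (nat_lit 2048) (Steps.fwd (nat_lit 4608) (Steps.fwd (nat_lit 2048) (Steps.bwd (nat_lit 2) (Steps.bwd (nat_lit 2) (Steps.fwd (nat_lit 4608) (Steps.fwd (nat_lit 2048) Steps.nil))))))))))))))))) (nat_lit 106) (nat_lit 3),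
  Rule.mk (nat_lit 0) (nat_lit 188) (Steps.bwd (nat_lit 4) (Steps.bwd (nat_lit 2) (Steps.bwd (nat_lit 2) (Steps.bwd (nat_lit 8) (Steps.fwd (nat_lit 2048) (Steps.fwd (nat_lit 4608) (Steps.fwd (nat_lit 2048) (Steps.bwd (nat_lit 8) (Steps.bwd (nat_lit 4) (Steps.bwd (nat_lit 8) (Steps.bwd (nat_lit 4) (Steps.bwd (nat_lit 8) (Steps.bwd (nat_lit 4) (Steps.bwd (nat_lit 8) (Steps.bwd (nat_lit 4) (Steps.bwd (nat_lit 8) (Steps.bwd (nat_lit 4) (Steps.bwd (nat_lit 8) Steps.nil)))))))))))))))))) (nat_lit 106) (nat_lit 15),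
  Rule.mk (nat_lit 0) (nat_lit 38) (Steps.bwd (nat_lit 2) (Steps.bwd (nat_lit 0) (Steps.fwd (nat_lit 1024) Steps.nil))) (nat_lit 108) (nat_lit 0),
  Rule.mk (nat_lit 0) (nat_lit 38) (Steps.fwd (nat_lit 2048) (Steps.fwd (nat_lit 0) (Steps.fwd (nat_lit 2048) Steps.nil))) (nat_lit 108) (nat_lit 0),
  Rule.mk (nat_lit 0) (nat_lit 38) (Steps.bwd (nat_lit 4) (Steps.fwd (nat_lit 0) (Steps.fwd (nat_lit 2048) Steps.nil))) (nat_lit 108) (nat_lit 0),
  Rule.mk (nat_lit 0) (nat_lit 48) (Steps.bwd (nat_lit 0) (Steps.bwd (nat_lit 1) (Steps.fwd (nat_lit 0) (Steps.bwd (nat_lit 1) Steps.nil)))) (nat_lit 108) (nat_lit 0),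
  Rule.mk (nat_lit 0) (nat_lit 38) (Steps.fwd (nat_lit 4608) (Steps.fwd (nat_lit 0) (Steps.bwd (nat_lit 9) Steps.nil))) (nat_lit 108) (nat_lit 0),
  Rule.mk (nat_lit 0) (nat_lit 38) (Steps.bwd (nat_lit 9) (Steps.fwd (nat_lit 0) (Steps.bwd (nat_lit 8) Steps.nil))) (nat_lit 108) (nat_lit 0),
  Rule.mk (nat_lit 0) (nat_lit 48) (Steps.bwd (nat_lit 0) (Steps.bwd (nat_lit 1) (Steps.bwd (nat_lit 0) (Steps.fwd (nat_lit 512) Steps.nil)))) (nat_lit 108) (nat_lit 0),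
  Rule.mk (nat_lit 0) (nat_lit 48) (Steps.bwd (nat_lit 8) (Steps.bwd (nat_lit 0) (Steps.fwd (nat_lit 4096) (Steps.fwd (nat_lit 0) Steps.nil)))) (nat_lit 108) (nat_lit 0),
  Rule.mk (nat_lit 0) (nat_lit 38) (Steps.fwd (nat_lit 0) (Steps.fwd (nat_lit 0) (Steps.fwd (nat_lit 0) Steps.nil))) (nat_lit 108) (nat_lit 0),
  Rule.mk (nat_lit 0) (nat_lit 48) (Steps.bwd (nat_lit 6) (Steps.bwd (nat_lit 0) (Steps.fwd (nat_lit 3072) (Steps.fwd (nat_lit 0) Steps.nil)))) (nat_lit 108) (nat_lit 0),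
  Rule.mk (nat_lit 0) (nat_lit 48) (Steps.bwd (nat_lit 0) (Steps.bwd (nat_lit 8) (Steps.bwd (nat_lit 0) (Steps.fwd (nat_lit 4096) Steps.nil)))) (nat_lit 108) (nat_lit 0)]
noncomputable def R : List (List (Rule)) := [R_0, R_1, R_2]
def LW : List Word := [[], [0], [2], [3], [4], [6], [8], [10], [12], [13], [0], [1], [2], [3], [4], [5], [6], [7], [8], [9], [10], [11]]
def par : Par := ⟨9, 5, 14, 23, 511, 16383, 8388607⟩
theorem hpar : par.ok := by decide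
theorem hR0_0 : lall (R) (fun l => lall l (ruleOK Ra42 LW par)) = true := by decide +kernel
theorem hR0 : lall (R) (fun l => lall l (ruleOK Ra42 LW par)) = true := hR0_0
theorem hR : RulesOK Ra42 LW par R := rulesOK_of rfl hR0
def cols : List (ℕ × ℕ) := [(512, 1), (1024, 3), (2048, 4), (2560, 5), (3072, 6), (3584, 7), (4096, 9)]
theorem hcols : lall cols (colOK Ra42 LW par) = true := by decide +kernel
noncomputable def JS0 : List ℕ := [nat_lit 0x842401805490210608323c1423c8317210002105084000841321000210588400084152100021050840008413210002105884000841521000210508401084132080120848010100501044810008110008050340c2043c010100d02c800e00c0b00c34020247e0c004070042c00024000a0240e0380d1f47b1e8791e0771d8751d0731c8711c024001ec031ec000600004018030180501020030100200c1c78004780300c040280400c18030100600c14020107604004040040c0001400021cc7201,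
  nat_lit 0x420258b000254aca20b4a2250932a270002a4a4a90089c28270020a0a90049c9b004132440f262680029c942529c29268909c0a499042602626040960009622250002508092000920a240002408c8e0008e2223000230808a0008a0a220002208c86004862226816014830088483004832000481010022047c0023c0a004801e238001fc74040541823070030489504008162286c0104c010200092012489307c1f0588420c82204801fc7e1f47c1ec7a1e46885244160701a0548419,
  nat_lit 0xad124330dc9b2689926097258952509348000020291c012ac2408c9946000a902914a90bc984400821080c2430044531c10000b0b103314950103000420000e03d04a60fc420b812268992609725895250934026800280fc9e008a4068b4268993e2740128c2b03c9b268f49f014a20601b0209b3c284be2749c26cec0002ce80f00001390040528ce00026cac9c0d49c2689937004ac0f4ad270d800048003503c99260d09d2ac362d898332702509098000c80000c0031264052a0350dca7258c00425c962f0741f29896254b80000820084972d,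
  nat_lit 0x950016cad000945a048da0095402028a60d004083643000018d60b02061184e62dc152649825c962549424c922449023d643b27008265609938800570040e030e056000d4010dce0259540225c033390c010d4d1540000b2686cdc24c0400004c953004db249480004c145100092245402f24c924f26801320a40400c2c00538c700099282640031c942a3503a265340102cd20c000093342c0b1344d348402ec962549424c922449023c8e2348c4c270012592c95004af340b3030a04a0000c0049b49,
  nat_lit 0x1100207000730940706dc90b00427712f800109a400015c10701022011bc11011b42f00db82c00db4b900cf56c0900207dac200042b6a060010a1a4f000018680541100011672f8002f834bc000bc032e8002e94c0001cb8662a000652d80029d900d03000630000e0341e620340e05803295841e050150098012050015f2bc0028978a200003280040c294005d284003b570eb070a1542a4a001,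
  nat_lit 0x414006d424762247600503871c90e00219000021473014fe8401c056d024046e3300383014028232c01771f8013de04f5000c980254c8004f23ccf47f0005d409f85a3f0007d0006117df0f9000023e4017b304023a806428053e1e8c13000113c0742404792fc003a0050184f3d5e0e7448c02fcbe3b21c056520c046d19803770800376030026d3880375030031f9a50b000c1740080370020031d5a90f008fe68,
  nat_lit 0x5400627c056f0149b005449c50c01039d001011c000011c02300c3100a6d49010929a5200222a682c00488990b00006e0400009c12600523002608300411972080102258080000b9537cde374dc36cda364d835cd600004494b120c85480069400d244989023c881fcde374dc36cda364d835cd63564c0102d0e92000ac23e45303013047cdc2a0011547e41131e11601104415062b49023d12370db8f000040081103a3803000048d0087745c0c03838011d87145188fa00234741e403188f98c3f0010090302a2ca11d4018a0005f17a25000180042c7700c0288,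
  nat_lit 0x15700194e2001550027c000500137a7801008039d0000770]
theorem S0_c : blocks (facts 9 5 14 23 511 16383 8388607 10 1023 8 255 A R 32) 32 JS0 371 = true := by decide +kernel
theorem S0 : On (Step.{u} Ra42 LW par A) 371 627 :=
  steps_of_blocks hpar hR S0_c (by decide +kernel)
theorem D0_c : allB (defOK 9 14 23 511 8388607 366 A K) 1 2 = true := by decide +kernel
theorem D0 : On (fun r => defOK par.W par.WL par.E par.mW par.mE 366 A K r = true) 256 384 :=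
  On.of_allB D0_c
noncomputable def JW0 : List ℕ := [nat_lit 0xdd002024088190420a]
theorem W0_c : blocks (rows 9 5 14 23 511 16383 8388607 11 2047 77 A 627 1 cols 18) 18 JW0 0 = true := by decide +kernel
theorem W0 : On (Row.{u} Ra42 LW par A 627 1 cols) 0 18 :=
  rows_of_blocks hpar (by decide) hcols W0_c (by decide +kernel)
theorem idx : Idx.{u} Ra42 [[0], [2], [4], [6], [8], [10], [12]] [[0], [2], [4], [6], [8], [10]] 1 :=
  idx_of_cert hpar hR (K := K) (by decide +kernel) (T := 366) (T' := 384) (by decide) D0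
    (subs := [1,2,4,5,6,7]) (by decide +kernel) (T1 := 371) (by decide) (N := 627) S0
    (by decide) (n' := 18) (by decide) W0 (by decide +kernel) (by decide +kernel)
end a42
namespace n1
noncomputable def A_0 : List (ℕ) := [nat_lit 0x270c0670600f0303a6181820c0908600180e06e070ad0387581c2280e13c1d0e70e8e20743743a3541d1c51d05f8e8778744023a2321d05b8e073870366381f11c04b8d86f86c158361e11b06b86c0b8361561b1390d8538540782a212151071082308479042276211691090209c5344e33227137138fa0a418c52352290fe14892030224180be0c203120f28906044809e241f520118900838803e63c2111e07b8f08847c3fc3e213220d61108d4882ee44185210b61088788411a2d19b168370b422c6a33a351a71a8c2044058224663018e180ce1185fc8c32e3307f1911e0c820c64264320d1190bf11c8748e4564720a238bb1146908a31a451fa228d284005c200621005a080af8d058c681c23406f1610e0b0284580ec3121b188648c47a886372430f61e8820f48347a2563d20b1f88b0fc5107e3943f04e1282e0943fc500ba280e21400782c0c81620c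080a21002b8988304c3b4410be1d86a0ec6f47616c390cd1c81a87028c3814a1a02f0d00f85032c6e04c1909c0b04a85808c2c222160fc110258885c44408a1f0530f84d07c1cc5c2aa2e01d0981584c1b4562380a02a0503c828134461e6230ba1185d848070242a4120440f0bd8a81f05e1722f0290781605c0501c0940e022048098341081a03408001010628d80e8181d4291d40d8e09106c4841b2330a9168868304fc1429c2806700893894818463ce3d1f611113914858542dc2c1af158470406181c46e4719f078ca8b08e87645439084188d08a0584403122521f150f48dc7f44a252191431002d8984144c2621a20f118ed8e4730381cc130d3030520dc6fc2419806036000588b84543c1f42b1741584c8ac56c1e0aa0111a178490783c8542a80d17d0703e8082f40805a0007202026004090000d4030430080d8000440201200]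
noncomputable def A : List (List (ℕ)) := [A_0]
noncomputable def K_0 : List (ℕ) := [nat_lit 0x96cc2593693cd63f3992cde4d388f50e3b428cd06672a97cba513185c4e692988c3279239ec82493a87c567d218a436891ca046e314684c5a7f1a8943a652b8541e093b914420d03a2c5e1105814060000]
noncomputable def K : List (List (ℕ)) := [K_0]
noncomputable def R_0 : List (Rule) := [Rule.mk (nat_lit 1) (nat_lit 27) (Steps.bwd (nat_lit 1) (Steps.bwd (nat_lit 1) Steps.nil)) (nat_lit 2) (nat_lit 0),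
  Rule.mk (nat_lit 2) (nat_lit 37) (Steps.bwd (nat_lit 3) (Steps.bwd (nat_lit 1) (Steps.fwd (nat_lit 1536) Steps.nil))) (nat_lit 20) (nat_lit 3),
  Rule.mk (nat_lit 2) (nat_lit 27) (Steps.bwd (nat_lit 2) (Steps.bwd (nat_lit 2) Steps.nil)) (nat_lit 3) (nat_lit 0),
  Rule.mk (nat_lit 3) (nat_lit 37) (Steps.bwd (nat_lit 2) (Steps.bwd (nat_lit 3) (Steps.bwd (nat_lit 1) Steps.nil))) (nat_lit 20) (nat_lit 2),
  Rule.mk (nat_lit 2) (nat_lit 37) (Steps.bwd (nat_lit 4) (Steps.bwd (nat_lit 1) (Steps.fwd (nat_lit 2048) Steps.nil))) (nat_lit 40) (nat_lit 3),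
  Rule.mk (nat_lit 4) (nat_lit 37) (Steps.bwd (nat_lit 2) (Steps.bwd (nat_lit 4) (Steps.bwd (nat_lit 1) Steps.nil))) (nat_lit 40) (nat_lit 2),
  Rule.mk (nat_lit 4) (nat_lit 37) (Steps.bwd (nat_lit 5) (Steps.bwd (nat_lit 4) (Steps.fwd (nat_lit 2560) Steps.nil))) (nat_lit 48) (nat_lit 1),
  Rule.mk (nat_lit 1) (nat_lit 37) (Steps.bwd (nat_lit 5) (Steps.fwd (nat_lit 512) (Steps.fwd (nat_lit 2560) Steps.nil))) (nat_lit 28) (nat_lit 2),
  Rule.mk (nat_lit 1) (nat_lit 37) (Steps.bwd (nat_lit 5) (Steps.bwd (nat_lit 2) (Steps.fwd (nat_lit 2560) Steps.nil))) (nat_lit 28) (nat_lit 2),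
  Rule.mk (nat_lit 4) (nat_lit 37) (Steps.bwd (nat_lit 5) (Steps.fwd (nat_lit 2048) (Steps.fwd (nat_lit 2560) Steps.nil))) (nat_lit 48) (nat_lit 1),
  Rule.mk (nat_lit 3) (nat_lit 47) (Steps.bwd (nat_lit 4) (Steps.fwd (nat_lit 1536) (Steps.fwd (nat_lit 2560) (Steps.bwd (nat_lit 4) Steps.nil)))) (nat_lit 24) (nat_lit 2),
  Rule.mk (nat_lit 4) (nat_lit 37) (Steps.bwd (nat_lit 2) (Steps.bwd (nat_lit 4) (Steps.fwd (nat_lit 1024) Steps.nil))) (nat_lit 40) (nat_lit 2),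
  Rule.mk (nat_lit 4) (nat_lit 37) (Steps.bwd (nat_lit 2) (Steps.fwd (nat_lit 2048) (Steps.fwd (nat_lit 1024) Steps.nil))) (nat_lit 40) (nat_lit 2),
  Rule.mk (nat_lit 3) (nat_lit 77) (Steps.bwd (nat_lit 2) (Steps.fwd (nat_lit 2048) (Steps.bwd (nat_lit 3) (Steps.fwd (nat_lit 512) (Steps.bwd (nat_lit 4) (Steps.fwd (nat_lit 2560) (Steps.fwd (nat_lit 512) Steps.nil))))))) (nat_lit 85) (nat_lit 7),
  Rule.mk (nat_lit 2) (nat_lit 27) (Steps.bwd (nat_lit 2) (Steps.fwd (nat_lit 512) Steps.nil)) (nat_lit 3) (nat_lit 0),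
  Rule.mk (nat_lit 3) (nat_lit 37) (Steps.bwd (nat_lit 2) (Steps.bwd (nat_lit 3) (Steps.fwd (nat_lit 1024) Steps.nil))) (nat_lit 20) (nat_lit 2),
  Rule.mk (nat_lit 5) (nat_lit 37) (Steps.bwd (nat_lit 2) (Steps.bwd (nat_lit 5) (Steps.fwd (nat_lit 1024) Steps.nil))) (nat_lit 28) (nat_lit 3),
  Rule.mk (nat_lit 2) (nat_lit 37) (Steps.bwd (nat_lit 5) (Steps.bwd (nat_lit 1) (Steps.fwd (nat_lit 2560) Steps.nil))) (nat_lit 28) (nat_lit 0),
  Rule.mk (nat_lit 4) (nat_lit 37) (Steps.bwd (nat_lit 5) (Steps.fwd (nat_lit 2048) (Steps.bwd (nat_lit 5) Steps.nil))) (nat_lit 48) (nat_lit 1),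
  Rule.mk (nat_lit 5) (nat_lit 37) (Steps.bwd (nat_lit 3) (Steps.bwd (nat_lit 5) (Steps.bwd (nat_lit 3) Steps.nil))) (nat_lit 32) (nat_lit 1),
  Rule.mk (nat_lit 3) (nat_lit 37) (Steps.bwd (nat_lit 1) (Steps.bwd (nat_lit 3) (Steps.fwd (nat_lit 512) Steps.nil))) (nat_lit 20) (nat_lit 0),
  Rule.mk (nat_lit 5) (nat_lit 37) (Steps.bwd (nat_lit 1) (Steps.fwd (nat_lit 2560) (Steps.bwd (nat_lit 2) Steps.nil))) (nat_lit 28) (nat_lit 1),
  Rule.mk (nat_lit 5) (nat_lit 37) (Steps.bwd (nat_lit 4) (Steps.fwd (nat_lit 2560) (Steps.fwd (nat_lit 2048) Steps.nil))) (nat_lit 48) (nat_lit 0),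
  Rule.mk (nat_lit 3) (nat_lit 47) (Steps.bwd (nat_lit 4) (Steps.bwd (nat_lit 3) (Steps.bwd (nat_lit 5) (Steps.bwd (nat_lit 4) Steps.nil)))) (nat_lit 24) (nat_lit 2),
  Rule.mk (nat_lit 5) (nat_lit 37) (Steps.bwd (nat_lit 2) (Steps.fwd (nat_lit 2560) (Steps.fwd (nat_lit 1024) Steps.nil))) (nat_lit 28) (nat_lit 3),
  Rule.mk (nat_lit 1) (nat_lit 37) (Steps.bwd (nat_lit 5) (Steps.bwd (nat_lit 2) (Steps.bwd (nat_lit 5) Steps.nil))) (nat_lit 28) (nat_lit 2),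
  Rule.mk (nat_lit 3) (nat_lit 37) (Steps.bwd (nat_lit 5) (Steps.bwd (nat_lit 3) (Steps.fwd (nat_lit 2560) Steps.nil))) (nat_lit 32) (nat_lit 0),
  Rule.mk (nat_lit 3) (nat_lit 37) (Steps.bwd (nat_lit 1) (Steps.fwd (nat_lit 1536) (Steps.bwd (nat_lit 2) Steps.nil))) (nat_lit 20) (nat_lit 0),
  Rule.mk (nat_lit 4) (nat_lit 37) (Steps.bwd (nat_lit 1) (Steps.bwd (nat_lit 4) (Steps.fwd (nat_lit 512) Steps.nil))) (nat_lit 40) (nat_lit 0),
  Rule.mk (nat_lit 6) (nat_lit 37) (Steps.bwd (nat_lit 4) (Steps.bwd (nat_lit 6) (Steps.fwd (nat_lit 2048) Steps.nil))) (nat_lit 102) (nat_lit 0),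
  Rule.mk (nat_lit 3) (nat_lit 47) (Steps.bwd (nat_lit 7) (Steps.fwd (nat_lit 1536) (Steps.bwd (nat_lit 5) (Steps.bwd (nat_lit 6) Steps.nil)))) (nat_lit 100) (nat_lit 2),
  Rule.mk (nat_lit 7) (nat_lit 37) (Steps.bwd (nat_lit 4) (Steps.bwd (nat_lit 7) (Steps.fwd (nat_lit 2048) Steps.nil))) (nat_lit 103) (nat_lit 1),
  Rule.mk (nat_lit 7) (nat_lit 37) (Steps.bwd (nat_lit 3) (Steps.bwd (nat_lit 6) (Steps.fwd (nat_lit 2560) Steps.nil))) (nat_lit 98) (nat_lit 3),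
  Rule.mk (nat_lit 5) (nat_lit 47) (Steps.bwd (nat_lit 3) (Steps.fwd (nat_lit 2048) (Steps.bwd (nat_lit 3) (Steps.fwd (nat_lit 2048) Steps.nil)))) (nat_lit 25) (nat_lit 1),
  Rule.mk (nat_lit 3) (nat_lit 37) (Steps.bwd (nat_lit 6) (Steps.fwd (nat_lit 2560) (Steps.bwd (nat_lit 7) Steps.nil))) (nat_lit 98) (nat_lit 0),
  Rule.mk (nat_lit 5) (nat_lit 47) (Steps.bwd (nat_lit 6) (Steps.fwd (nat_lit 1536) (Steps.bwd (nat_lit 7) (Steps.bwd (nat_lit 3) Steps.nil)))) (nat_lit 100) (nat_lit 0),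
  Rule.mk (nat_lit 6) (nat_lit 37) (Steps.bwd (nat_lit 4) (Steps.bwd (nat_lit 6) (Steps.bwd (nat_lit 4) Steps.nil))) (nat_lit 102) (nat_lit 0),
  Rule.mk (nat_lit 5) (nat_lit 37) (Steps.bwd (nat_lit 3) (Steps.fwd (nat_lit 2560) (Steps.bwd (nat_lit 3) Steps.nil))) (nat_lit 32) (nat_lit 1),
  Rule.mk (nat_lit 4) (nat_lit 47) (Steps.bwd (nat_lit 3) (Steps.fwd (nat_lit 2560) (Steps.bwd (nat_lit 4) (Steps.fwd (nat_lit 1536) Steps.nil)))) (nat_lit 24) (nat_lit 3),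
  Rule.mk (nat_lit 6) (nat_lit 47) (Steps.bwd (nat_lit 3) (Steps.fwd (nat_lit 3072) (Steps.fwd (nat_lit 1536) (Steps.fwd (nat_lit 2560) Steps.nil)))) (nat_lit 100) (nat_lit 1),
  Rule.mk (nat_lit 2) (nat_lit 37) (Steps.bwd (nat_lit 7) (Steps.fwd (nat_lit 1024) (Steps.bwd (nat_lit 6) Steps.nil))) (nat_lit 97) (nat_lit 3),
  Rule.mk (nat_lit 4) (nat_lit 37) (Steps.bwd (nat_lit 1) (Steps.bwd (nat_lit 4) (Steps.bwd (nat_lit 2) Steps.nil))) (nat_lit 40) (nat_lit 0),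
  Rule.mk (nat_lit 7) (nat_lit 37) (Steps.bwd (nat_lit 1) (Steps.fwd (nat_lit 3584) (Steps.bwd (nat_lit 2) Steps.nil))) (nat_lit 97) (nat_lit 0),
  Rule.mk (nat_lit 6) (nat_lit 37) (Steps.fwd (nat_lit 1024) (Steps.bwd (nat_lit 7) (Steps.bwd (nat_lit 2) Steps.nil))) (nat_lit 96) (nat_lit 1),
  Rule.mk (nat_lit 2) (nat_lit 37) (Steps.bwd (nat_lit 3) (Steps.bwd (nat_lit 1) (Steps.bwd (nat_lit 3) Steps.nil))) (nat_lit 20) (nat_lit 3),
  Rule.mk (nat_lit 7) (nat_lit 37) (Steps.bwd (nat_lit 3) (Steps.fwd (nat_lit 3584) (Steps.bwd (nat_lit 5) Steps.nil))) (nat_lit 98) (nat_lit 3),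
  Rule.mk (nat_lit 2) (nat_lit 37) (Steps.bwd (nat_lit 3) (Steps.fwd (nat_lit 1024) (Steps.bwd (nat_lit 3) Steps.nil))) (nat_lit 20) (nat_lit 3),
  Rule.mk (nat_lit 5) (nat_lit 37) (Steps.bwd (nat_lit 3) (Steps.bwd (nat_lit 5) (Steps.fwd (nat_lit 1536) Steps.nil))) (nat_lit 32) (nat_lit 1),
  Rule.mk (nat_lit 7) (nat_lit 37) (Steps.bwd (nat_lit 3) (Steps.bwd (nat_lit 6) (Steps.bwd (nat_lit 5) Steps.nil))) (nat_lit 98) (nat_lit 3),
  Rule.mk (nat_lit 6) (nat_lit 37) (Steps.bwd (nat_lit 1) (Steps.fwd (nat_lit 3072) (Steps.bwd (nat_lit 2) Steps.nil))) (nat_lit 96) (nat_lit 1),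
  Rule.mk (nat_lit 2) (nat_lit 37) (Steps.bwd (nat_lit 5) (Steps.bwd (nat_lit 1) (Steps.bwd (nat_lit 5) Steps.nil))) (nat_lit 28) (nat_lit 0),
  Rule.mk (nat_lit 6) (nat_lit 37) (Steps.bwd (nat_lit 5) (Steps.fwd (nat_lit 3072) (Steps.bwd (nat_lit 3) Steps.nil))) (nat_lit 98) (nat_lit 1),
  Rule.mk (nat_lit 3) (nat_lit 47) (Steps.bwd (nat_lit 5) (Steps.fwd (nat_lit 2048) (Steps.bwd (nat_lit 3) (Steps.fwd (nat_lit 2048) Steps.nil)))) (nat_lit 24) (nat_lit 4),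
  Rule.mk (nat_lit 3) (nat_lit 37) (Steps.bwd (nat_lit 1) (Steps.fwd (nat_lit 1536) (Steps.fwd (nat_lit 512) Steps.nil))) (nat_lit 20) (nat_lit 0),
  Rule.mk (nat_lit 5) (nat_lit 37) (Steps.bwd (nat_lit 1) (Steps.bwd (nat_lit 5) (Steps.bwd (nat_lit 2) Steps.nil))) (nat_lit 28) (nat_lit 1),
  Rule.mk (nat_lit 4) (nat_lit 37) (Steps.bwd (nat_lit 1) (Steps.fwd (nat_lit 2048) (Steps.bwd (nat_lit 2) Steps.nil))) (nat_lit 40) (nat_lit 0),
  Rule.mk (nat_lit 6) (nat_lit 37) (Steps.bwd (nat_lit 1) (Steps.bwd (nat_lit 7) (Steps.bwd (nat_lit 2) Steps.nil))) (nat_lit 96) (nat_lit 1),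
  Rule.mk (nat_lit 1) (nat_lit 37) (Steps.bwd (nat_lit 7) (Steps.bwd (nat_lit 2) (Steps.fwd (nat_lit 3584) Steps.nil))) (nat_lit 96) (nat_lit 2),
  Rule.mk (nat_lit 3) (nat_lit 37) (Steps.bwd (nat_lit 1) (Steps.bwd (nat_lit 3) (Steps.bwd (nat_lit 2) Steps.nil))) (nat_lit 20) (nat_lit 0),
  Rule.mk (nat_lit 1) (nat_lit 27) (Steps.bwd (nat_lit 1) (Steps.fwd (nat_lit 1024) Steps.nil)) (nat_lit 2) (nat_lit 0),
  Rule.mk (nat_lit 7) (nat_lit 37) (Steps.bwd (nat_lit 1) (Steps.bwd (nat_lit 6) (Steps.bwd (nat_lit 2) Steps.nil))) (nat_lit 97) (nat_lit 0),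
  Rule.mk (nat_lit 1) (nat_lit 37) (Steps.bwd (nat_lit 4) (Steps.fwd (nat_lit 512) (Steps.bwd (nat_lit 4) Steps.nil))) (nat_lit 40) (nat_lit 1),
  Rule.mk (nat_lit 7) (nat_lit 37) (Steps.bwd (nat_lit 4) (Steps.fwd (nat_lit 3072) (Steps.fwd (nat_lit 2048) Steps.nil))) (nat_lit 103) (nat_lit 1),
  Rule.mk (nat_lit 5) (nat_lit 47) (Steps.bwd (nat_lit 4) (Steps.fwd (nat_lit 1536) (Steps.bwd (nat_lit 4) (Steps.bwd (nat_lit 3) Steps.nil)))) (nat_lit 24) (nat_lit 0)]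
noncomputable def R_1 : List (Rule) := [Rule.mk (nat_lit 5) (nat_lit 37) (Steps.bwd (nat_lit 2) (Steps.fwd (nat_lit 2560) (Steps.bwd (nat_lit 1) Steps.nil))) (nat_lit 28) (nat_lit 3),
  Rule.mk (nat_lit 6) (nat_lit 37) (Steps.bwd (nat_lit 2) (Steps.fwd (nat_lit 3072) (Steps.bwd (nat_lit 1) Steps.nil))) (nat_lit 97) (nat_lit 2),
  Rule.mk (nat_lit 1) (nat_lit 37) (Steps.bwd (nat_lit 5) (Steps.fwd (nat_lit 512) (Steps.bwd (nat_lit 5) Steps.nil))) (nat_lit 28) (nat_lit 2),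
  Rule.mk (nat_lit 3) (nat_lit 37) (Steps.bwd (nat_lit 5) (Steps.bwd (nat_lit 3) (Steps.bwd (nat_lit 5) Steps.nil))) (nat_lit 32) (nat_lit 0),
  Rule.mk (nat_lit 7) (nat_lit 47) (Steps.bwd (nat_lit 5) (Steps.bwd (nat_lit 3) (Steps.fwd (nat_lit 3584) (Steps.bwd (nat_lit 3) Steps.nil)))) (nat_lit 101) (nat_lit 0),
  Rule.mk (nat_lit 7) (nat_lit 27) (Steps.bwd (nat_lit 7) (Steps.bwd (nat_lit 7) Steps.nil)) (nat_lit 95) (nat_lit 0),
  Rule.mk (nat_lit 7) (nat_lit 27) (Steps.bwd (nat_lit 7) (Steps.fwd (nat_lit 3072) Steps.nil)) (nat_lit 95) (nat_lit 0),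
  Rule.mk (nat_lit 4) (nat_lit 37) (Steps.bwd (nat_lit 7) (Steps.bwd (nat_lit 4) (Steps.bwd (nat_lit 7) Steps.nil))) (nat_lit 103) (nat_lit 0),
  Rule.mk (nat_lit 6) (nat_lit 27) (Steps.bwd (nat_lit 6) (Steps.bwd (nat_lit 6) Steps.nil)) (nat_lit 94) (nat_lit 0),
  Rule.mk (nat_lit 6) (nat_lit 27) (Steps.bwd (nat_lit 6) (Steps.fwd (nat_lit 3584) Steps.nil)) (nat_lit 94) (nat_lit 0),
  Rule.mk (nat_lit 4) (nat_lit 37) (Steps.bwd (nat_lit 6) (Steps.bwd (nat_lit 4) (Steps.bwd (nat_lit 6) Steps.nil))) (nat_lit 102) (nat_lit 1),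
  Rule.mk (nat_lit 5) (nat_lit 37) (Steps.bwd (nat_lit 7) (Steps.bwd (nat_lit 3) (Steps.fwd (nat_lit 3584) Steps.nil))) (nat_lit 98) (nat_lit 2),
  Rule.mk (nat_lit 3) (nat_lit 47) (Steps.bwd (nat_lit 7) (Steps.bwd (nat_lit 3) (Steps.bwd (nat_lit 5) (Steps.bwd (nat_lit 6) Steps.nil)))) (nat_lit 100) (nat_lit 2),
  Rule.mk (nat_lit 5) (nat_lit 47) (Steps.bwd (nat_lit 6) (Steps.bwd (nat_lit 3) (Steps.bwd (nat_lit 7) (Steps.fwd (nat_lit 1536) Steps.nil)))) (nat_lit 100) (nat_lit 0),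
  Rule.mk (nat_lit 4) (nat_lit 37) (Steps.bwd (nat_lit 7) (Steps.fwd (nat_lit 2048) (Steps.bwd (nat_lit 7) Steps.nil))) (nat_lit 103) (nat_lit 0),
  Rule.mk (nat_lit 3) (nat_lit 47) (Steps.bwd (nat_lit 7) (Steps.bwd (nat_lit 3) (Steps.fwd (nat_lit 2560) (Steps.bwd (nat_lit 6) Steps.nil)))) (nat_lit 100) (nat_lit 2),
  Rule.mk (nat_lit 1) (nat_lit 37) (Steps.bwd (nat_lit 6) (Steps.fwd (nat_lit 512) (Steps.bwd (nat_lit 7) Steps.nil))) (nat_lit 97) (nat_lit 1),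
  Rule.mk (nat_lit 1) (nat_lit 37) (Steps.bwd (nat_lit 7) (Steps.bwd (nat_lit 2) (Steps.bwd (nat_lit 6) Steps.nil))) (nat_lit 96) (nat_lit 2),
  Rule.mk (nat_lit 3) (nat_lit 47) (Steps.bwd (nat_lit 7) (Steps.fwd (nat_lit 1536) (Steps.fwd (nat_lit 2560) (Steps.bwd (nat_lit 6) Steps.nil)))) (nat_lit 100) (nat_lit 2),
  Rule.mk (nat_lit 1) (nat_lit 37) (Steps.bwd (nat_lit 6) (Steps.bwd (nat_lit 2) (Steps.bwd (nat_lit 7) Steps.nil))) (nat_lit 97) (nat_lit 1),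
  Rule.mk (nat_lit 5) (nat_lit 47) (Steps.bwd (nat_lit 6) (Steps.fwd (nat_lit 1536) (Steps.bwd (nat_lit 7) (Steps.fwd (nat_lit 1536) Steps.nil)))) (nat_lit 100) (nat_lit 0),
  Rule.mk (nat_lit 1) (nat_lit 37) (Steps.bwd (nat_lit 7) (Steps.fwd (nat_lit 512) (Steps.bwd (nat_lit 6) Steps.nil))) (nat_lit 96) (nat_lit 2),
  Rule.mk (nat_lit 1) (nat_lit 37) (Steps.bwd (nat_lit 7) (Steps.fwd (nat_lit 512) (Steps.fwd (nat_lit 3584) Steps.nil))) (nat_lit 96) (nat_lit 2),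
  Rule.mk (nat_lit 5) (nat_lit 37) (Steps.bwd (nat_lit 7) (Steps.bwd (nat_lit 3) (Steps.bwd (nat_lit 6) Steps.nil))) (nat_lit 98) (nat_lit 2),
  Rule.mk (nat_lit 4) (nat_lit 37) (Steps.bwd (nat_lit 7) (Steps.fwd (nat_lit 2048) (Steps.fwd (nat_lit 3072) Steps.nil))) (nat_lit 103) (nat_lit 0),
  Rule.mk (nat_lit 6) (nat_lit 37) (Steps.bwd (nat_lit 5) (Steps.bwd (nat_lit 7) (Steps.fwd (nat_lit 1536) Steps.nil))) (nat_lit 98) (nat_lit 1),
  Rule.mk (nat_lit 7) (nat_lit 47) (Steps.bwd (nat_lit 5) (Steps.bwd (nat_lit 3) (Steps.bwd (nat_lit 6) (Steps.bwd (nat_lit 3) Steps.nil)))) (nat_lit 101) (nat_lit 0),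
  Rule.mk (nat_lit 7) (nat_lit 37) (Steps.bwd (nat_lit 1) (Steps.bwd (nat_lit 6) (Steps.fwd (nat_lit 512) Steps.nil))) (nat_lit 97) (nat_lit 0),
  Rule.mk (nat_lit 6) (nat_lit 37) (Steps.bwd (nat_lit 1) (Steps.bwd (nat_lit 7) (Steps.fwd (nat_lit 512) Steps.nil))) (nat_lit 96) (nat_lit 1),
  Rule.mk (nat_lit 7) (nat_lit 37) (Steps.bwd (nat_lit 1) (Steps.fwd (nat_lit 3584) (Steps.fwd (nat_lit 512) Steps.nil))) (nat_lit 97) (nat_lit 0),
  Rule.mk (nat_lit 4) (nat_lit 37) (Steps.bwd (nat_lit 1) (Steps.fwd (nat_lit 2048) (Steps.fwd (nat_lit 512) Steps.nil))) (nat_lit 40) (nat_lit 0),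
  Rule.mk (nat_lit 6) (nat_lit 37) (Steps.bwd (nat_lit 1) (Steps.fwd (nat_lit 3072) (Steps.fwd (nat_lit 512) Steps.nil))) (nat_lit 96) (nat_lit 1),
  Rule.mk (nat_lit 2) (nat_lit 37) (Steps.bwd (nat_lit 4) (Steps.bwd (nat_lit 1) (Steps.bwd (nat_lit 4) Steps.nil))) (nat_lit 40) (nat_lit 3),
  Rule.mk (nat_lit 1) (nat_lit 37) (Steps.bwd (nat_lit 4) (Steps.fwd (nat_lit 512) (Steps.fwd (nat_lit 2048) Steps.nil))) (nat_lit 40) (nat_lit 1),
  Rule.mk (nat_lit 6) (nat_lit 37) (Steps.bwd (nat_lit 4) (Steps.fwd (nat_lit 3584) (Steps.bwd (nat_lit 4) Steps.nil))) (nat_lit 102) (nat_lit 0),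
  Rule.mk (nat_lit 7) (nat_lit 37) (Steps.bwd (nat_lit 4) (Steps.fwd (nat_lit 3072) (Steps.bwd (nat_lit 4) Steps.nil))) (nat_lit 103) (nat_lit 1),
  Rule.mk (nat_lit 5) (nat_lit 37) (Steps.bwd (nat_lit 2) (Steps.bwd (nat_lit 5) (Steps.bwd (nat_lit 1) Steps.nil))) (nat_lit 28) (nat_lit 3),
  Rule.mk (nat_lit 4) (nat_lit 37) (Steps.bwd (nat_lit 2) (Steps.fwd (nat_lit 2048) (Steps.bwd (nat_lit 1) Steps.nil))) (nat_lit 40) (nat_lit 2),
  Rule.mk (nat_lit 7) (nat_lit 37) (Steps.bwd (nat_lit 2) (Steps.bwd (nat_lit 6) (Steps.fwd (nat_lit 1024) Steps.nil))) (nat_lit 96) (nat_lit 3),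
  Rule.mk (nat_lit 6) (nat_lit 37) (Steps.bwd (nat_lit 2) (Steps.fwd (nat_lit 3072) (Steps.fwd (nat_lit 1024) Steps.nil))) (nat_lit 97) (nat_lit 2),
  Rule.mk (nat_lit 7) (nat_lit 37) (Steps.bwd (nat_lit 2) (Steps.fwd (nat_lit 3584) (Steps.fwd (nat_lit 1024) Steps.nil))) (nat_lit 96) (nat_lit 3),
  Rule.mk (nat_lit 6) (nat_lit 37) (Steps.bwd (nat_lit 2) (Steps.bwd (nat_lit 7) (Steps.bwd (nat_lit 1) Steps.nil))) (nat_lit 97) (nat_lit 2),
  Rule.mk (nat_lit 6) (nat_lit 37) (Steps.bwd (nat_lit 5) (Steps.fwd (nat_lit 3072) (Steps.fwd (nat_lit 1536) Steps.nil))) (nat_lit 98) (nat_lit 1),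
  Rule.mk (nat_lit 7) (nat_lit 47) (Steps.bwd (nat_lit 5) (Steps.bwd (nat_lit 3) (Steps.fwd (nat_lit 3584) (Steps.fwd (nat_lit 1536) Steps.nil)))) (nat_lit 101) (nat_lit 0)]
noncomputable def R : List (List (Rule)) := [R_0, R_1]
def LW : List Word := [[], [2], [3], [6], [8], [10], [12], [13]]
def par : Par := ⟨9, 3, 12, 21, 511, 4095, 2097151⟩
theorem hpar : par.ok := by decide
theorem hR0_0 : lall (R) (fun l => lall l (ruleOK Rb0 LW par)) = true := by decide +kernel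
theorem hR0 : lall (R) (fun l => lall l (ruleOK Rb0 LW par)) = true := hR0_0
theorem hR : RulesOK Rb0 LW par R := rulesOK_of rfl hR0
def cols : List (ℕ × ℕ) := [(512, 2), (1536, 3), (2048, 4), (2560, 5), (3072, 7)]
theorem hcols : lall cols (colOK Rb0 LW par) = true := by decide +kernel
noncomputable def JS0 : List ℕ := [nat_lit 0x300d140d8082b89e681a0184f32040a2270413c4d1e098ac2789a60530084c2e2d00226160384c12ca8242909650021544b26290b4251213c58124401826892444a01448200308e3c051280815052008471c06002230d11845060488c228c0004701c451623006228a11848110488c038882045120440e0288e22860004406228942205008471142000220311447110108c2281,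
  nat_lit 0x7c02181a008010be4c1017c5e661b82c2f32010691755038020bac45d1785c60068062daf1b40316d70c22e0b4b4000343358050b42c920780a1655800010b0a80008058523681a010b0a05a1740215d380e008ac980815c564a2d0002a971580204c5548010222a231540215c5444330ae29a10605414d00003182c299f1985414cf0b02b8a87415024532c3080e291c0085102010262893,
  nat_lit 0x404c77260501e3b442087a1d59864088e90c510a874840a05639c11cc811c8804c388321c291c610103f8e0180d0a06f820b0dc0c0401c0a1ba0096040dafc7f0246c7c0a0dc3585204141ad58d6388d454141a5e0920b0d2f40401c68540a8cef04303067640080c333b1a46502008fe32a91c837191d0f8388c8e40e1bc637008026313718c1a185b01a3200830b5,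
  nat_lit 0x8d0f48b980c9384556100898e010083511354182c888a85090f28032683721e98121890d483221638082b90b4435212480a0c83442500281c20e79100c10530192063814068c840a400ca9202591a3fca008040787f9c051083f230787d940194c4f8fb34802787c980c0f718022087b96098f528022807a460d0f3240100c7990030f11c001e2312a080223c45,
  nat_lit 0xcf0b4a3bc5c15c513928828285b04a5001234ac281e8a81593f80a00a49ebe0f93a043a0d49dbc4695a4e5d2702826ca8144d01120a526ae1a813132c80426009664d0124c5b3489a25ed01c0512c280201895880f0124a4326075252c80a3692760a01d492ae2a12318111209196020984823070a123e8892474a014c323a78366391b5849232300a1e87c4650,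
  nat_lit 0x488280b169b08c060b3d6028305913030132c6207e5a960482f058af867a17257ea1d82b2bb48345a15b04ad090ac20139563c8d090abd03796455670281f2a730220d951941f29c780c0501c53c026c0c29b20e40514b8c15030a4c41e14c51e1]
theorem S0_c : blocks (facts 9 3 12 21 511 4095 2097151 10 1023 7 127 A R 32) 32 JS0 326 = true := by decide +kernel
theorem S0 : On (Step.{u} Rb0 LW par A) 326 518 :=
  steps_of_blocks hpar hR S0_c (by decide +kernel)
theorem D0_c : allB (defOK 9 12 21 511 2097151 327 A K) 1 2 = true := by decide +kernel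
theorem D0 : On (fun r => defOK par.W par.WL par.E par.mW par.mE 327 A K r = true) 256 384 :=
  On.of_allB D0_c
noncomputable def JW0 : List ℕ := [nat_lit 0x183020680e0200727ecb81612be1049c1362744f02d02709a1542e05925a764959173a85389b9502921249c9622c07c4590a51602ac159a81b06dc618dc17e7e4b59ea2dc6a8fb1722967fc739533e85e1029973201e03987a0fa434849c91be464f695428e5604295b402504ba91428a59d0397b0440980d828306094949dc3ac44c979fd2e2544ab8173f480c9d97726253cb1a092fa36cfc1732f25f8889ec400819051de3f88090420c,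
  nat_lit 0xec1aa6d8770f016c27c588b403e2ecfb96a2d25b04e94c3ce528f00a81482845318e3486c0740e31d4384a91e63d67a0d114d3ea5a0b28760d61c039074328430819c737064c350680ca1b0379ca234720629063844207e9bc3322003c87e104668ad1552b87bccf1e327c500a1060322188320660be72c7c9c637442ca213f28c794489e22cc574f982c0640c01498505e4a0e912a21e148199860a81582892c24275ce613424e774999c4,
  nat_lit 0x640ca182330d99ad1362e05a83f1a0350690cd36a6844d09812c620df8cb1d23bc7a0a213c2804b98a39e3ec8d8ff19e228430690fe220801c32043f86b89410e1c4468921ec3e87c0fc1e6674408631182388f1222407448e83a06c61c0e83c248498e99d020a1081b831088118ed9233b04c8e004a3001302284e34e2b04c8aa06a2bc6c8d31c4390d78ad17229cc60bd362300610c6]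
theorem W0_c : blocks (rows 9 3 12 21 511 4095 2097151 11 2047 55 A 518 72 cols 25) 25 JW0 0 = true := by decide +kernel
theorem W0 : On (Row.{u} Rb0 LW par A 518 72 cols) 0 75 :=
  rows_of_blocks hpar (by decide) hcols W0_c (by decide +kernel)
theorem idx : Idx.{u} Rb0 [[2], [6], [8], [10], [12]] [] 72 :=
  idx_of_cert hpar hR (K := K) (by decide +kernel) (T := 327) (T' := 384) (by decide) D0
    (subs := []) (by decide +kernel) (T1 := 326) (by decide) (N := 518) S0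
    (by decide) (n' := 75) (by decide) W0 (by decide +kernel) (by decide +kernel)
end n1
namespace n2
noncomputable def A_0 : List (ℕ) := [nat_lit 0x6ce1a0c20341628683060d04861a0d083417405c2c70c870e160e20321d38743680c070a180e90301808603250d84c61b0d84361d10742a30e85cc19088c321910642c40b85c2170b18381c08702c10b044e100a94200b404024608040410059c221428441e60884441109202612284c1870984c2130710241210481c60a05021406a0280f20542a10a83ce0e051c1e0f103c1c20702ca0d05981a0918341a20682880b0584160a30301850603020c0514140a082808703824c0703140e06401c0e203820a090484120840240a8040208080404100620180c203014c0502940a0420140a102810c040214080408100670100c803009c0603300c06201808c0201100402100802600804a0100900201080400700000c000014000020000010006881b0c0c201b30743a50b86481c0b8c1e1c18502c307040814089026133054247060510150aa01a0f28381c70503480c058c0e0c18201430301c80904a00a0830180c702014603020c0403280804700804600]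
noncomputable def A : List (List (ℕ)) := [A_0]
noncomputable def K_0 : List (ℕ) := [nat_lit 0x233168d472311b8bc561f1089446271487436190a85c260f06844160903814060000]
noncomputable def K : List (List (ℕ)) := [K_0]
noncomputable def R_0 : List (Rule) := [Rule.mk (nat_lit 1) (nat_lit 33) (Steps.bwd (nat_lit 3) (Steps.bwd (nat_lit 1) (Steps.fwd (nat_lit 1536) Steps.nil))) (nat_lit 14) (nat_lit 0),
  Rule.mk (nat_lit 4) (nat_lit 33) (Steps.bwd (nat_lit 3) (Steps.fwd (nat_lit 2560) (Steps.fwd (nat_lit 1536) Steps.nil))) (nat_lit 22) (nat_lit 2),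
  Rule.mk (nat_lit 5) (nat_lit 33) (Steps.bwd (nat_lit 3) (Steps.fwd (nat_lit 2048) (Steps.fwd (nat_lit 1536) Steps.nil))) (nat_lit 22) (nat_lit 0),
  Rule.mk (nat_lit 6) (nat_lit 33) (Steps.bwd (nat_lit 3) (Steps.fwd (nat_lit 3072) (Steps.fwd (nat_lit 1536) Steps.nil))) (nat_lit 30) (nat_lit 1),
  Rule.mk (nat_lit 2) (nat_lit 33) (Steps.bwd (nat_lit 7) (Steps.bwd (nat_lit 1) (Steps.fwd (nat_lit 3584) Steps.nil))) (nat_lit 96) (nat_lit 0),
  Rule.mk (nat_lit 4) (nat_lit 33) (Steps.bwd (nat_lit 7) (Steps.fwd (nat_lit 3072) (Steps.fwd (nat_lit 3584) Steps.nil))) (nat_lit 98) (nat_lit 0),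
  Rule.mk (nat_lit 6) (nat_lit 42) (Steps.bwd (nat_lit 7) (Steps.fwd (nat_lit 2048) (Steps.fwd (nat_lit 3584) (Steps.fwd (nat_lit 2048) Steps.nil)))) (nat_lit 100) (nat_lit 0),
  Rule.mk (nat_lit 2) (nat_lit 33) (Steps.bwd (nat_lit 5) (Steps.fwd (nat_lit 1024) (Steps.fwd (nat_lit 2560) Steps.nil))) (nat_lit 40) (nat_lit 3),
  Rule.mk (nat_lit 6) (nat_lit 33) (Steps.bwd (nat_lit 5) (Steps.fwd (nat_lit 3072) (Steps.fwd (nat_lit 2560) Steps.nil))) (nat_lit 48) (nat_lit 0),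
  Rule.mk (nat_lit 7) (nat_lit 33) (Steps.bwd (nat_lit 5) (Steps.bwd (nat_lit 7) (Steps.fwd (nat_lit 2560) Steps.nil))) (nat_lit 102) (nat_lit 0),
  Rule.mk (nat_lit 4) (nat_lit 42) (Steps.bwd (nat_lit 5) (Steps.fwd (nat_lit 2048) (Steps.fwd (nat_lit 3072) (Steps.fwd (nat_lit 2560) Steps.nil)))) (nat_lit 24) (nat_lit 2),
  Rule.mk (nat_lit 7) (nat_lit 24) (Steps.bwd (nat_lit 7) (Steps.bwd (nat_lit 7) Steps.nil)) (nat_lit 94) (nat_lit 0),
  Rule.mk (nat_lit 1) (nat_lit 33) (Steps.bwd (nat_lit 3) (Steps.fwd (nat_lit 1024) (Steps.fwd (nat_lit 1536) Steps.nil))) (nat_lit 14) (nat_lit 0),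
  Rule.mk (nat_lit 4) (nat_lit 33) (Steps.bwd (nat_lit 3) (Steps.bwd (nat_lit 5) (Steps.fwd (nat_lit 1536) Steps.nil))) (nat_lit 22) (nat_lit 2),
  Rule.mk (nat_lit 1) (nat_lit 33) (Steps.bwd (nat_lit 6) (Steps.bwd (nat_lit 2) (Steps.fwd (nat_lit 3072) Steps.nil))) (nat_lit 28) (nat_lit 2),
  Rule.mk (nat_lit 4) (nat_lit 33) (Steps.bwd (nat_lit 6) (Steps.fwd (nat_lit 2048) (Steps.fwd (nat_lit 3072) Steps.nil))) (nat_lit 32) (nat_lit 0),
  Rule.mk (nat_lit 8) (nat_lit 42) (Steps.fwd (nat_lit 2048) (Steps.bwd (nat_lit 6) (Steps.bwd (nat_lit 7) (Steps.bwd (nat_lit 4) Steps.nil)))) (nat_lit 100) (nat_lit 3),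
  Rule.mk (nat_lit 8) (nat_lit 24) (Steps.bwd (nat_lit 8) (Steps.bwd (nat_lit 8) Steps.nil)) (nat_lit 95) (nat_lit 0),
  Rule.mk (nat_lit 1) (nat_lit 33) (Steps.bwd (nat_lit 8) (Steps.fwd (nat_lit 512) (Steps.fwd (nat_lit 4096) Steps.nil))) (nat_lit 96) (nat_lit 2),
  Rule.mk (nat_lit 5) (nat_lit 33) (Steps.bwd (nat_lit 8) (Steps.fwd (nat_lit 2560) (Steps.bwd (nat_lit 8) Steps.nil))) (nat_lit 103) (nat_lit 0),
  Rule.mk (nat_lit 2) (nat_lit 33) (Steps.bwd (nat_lit 4) (Steps.bwd (nat_lit 1) (Steps.fwd (nat_lit 2048) Steps.nil))) (nat_lit 20) (nat_lit 3),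
  Rule.mk (nat_lit 8) (nat_lit 33) (Steps.bwd (nat_lit 4) (Steps.fwd (nat_lit 4096) (Steps.bwd (nat_lit 6) Steps.nil))) (nat_lit 98) (nat_lit 3),
  Rule.mk (nat_lit 5) (nat_lit 42) (Steps.bwd (nat_lit 4) (Steps.fwd (nat_lit 2560) (Steps.fwd (nat_lit 2048) (Steps.bwd (nat_lit 6) Steps.nil)))) (nat_lit 24) (nat_lit 1),
  Rule.mk (nat_lit 6) (nat_lit 42) (Steps.bwd (nat_lit 4) (Steps.fwd (nat_lit 2560) (Steps.fwd (nat_lit 2048) (Steps.bwd (nat_lit 5) Steps.nil)))) (nat_lit 25) (nat_lit 1),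
  Rule.mk (nat_lit 7) (nat_lit 42) (Steps.bwd (nat_lit 4) (Steps.bwd (nat_lit 8) (Steps.fwd (nat_lit 2048) (Steps.fwd (nat_lit 3072) Steps.nil)))) (nat_lit 100) (nat_lit 1),
  Rule.mk (nat_lit 6) (nat_lit 33) (Steps.bwd (nat_lit 3) (Steps.bwd (nat_lit 6) (Steps.fwd (nat_lit 1536) Steps.nil))) (nat_lit 30) (nat_lit 1),
  Rule.mk (nat_lit 3) (nat_lit 33) (Steps.bwd (nat_lit 4) (Steps.bwd (nat_lit 3) (Steps.bwd (nat_lit 5) Steps.nil))) (nat_lit 22) (nat_lit 1),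
  Rule.mk (nat_lit 6) (nat_lit 33) (Steps.bwd (nat_lit 4) (Steps.fwd (nat_lit 3072) (Steps.bwd (nat_lit 4) Steps.nil))) (nat_lit 32) (nat_lit 1),
  Rule.mk (nat_lit 5) (nat_lit 42) (Steps.bwd (nat_lit 4) (Steps.fwd (nat_lit 3072) (Steps.fwd (nat_lit 2560) (Steps.bwd (nat_lit 4) Steps.nil)))) (nat_lit 24) (nat_lit 3),
  Rule.mk (nat_lit 1) (nat_lit 33) (Steps.bwd (nat_lit 8) (Steps.bwd (nat_lit 2) (Steps.fwd (nat_lit 4096) Steps.nil))) (nat_lit 96) (nat_lit 2),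
  Rule.mk (nat_lit 4) (nat_lit 42) (Steps.bwd (nat_lit 8) (Steps.bwd (nat_lit 4) (Steps.fwd (nat_lit 3072) (Steps.bwd (nat_lit 7) Steps.nil)))) (nat_lit 100) (nat_lit 2),
  Rule.mk (nat_lit 6) (nat_lit 33) (Steps.bwd (nat_lit 8) (Steps.fwd (nat_lit 2048) (Steps.bwd (nat_lit 7) Steps.nil))) (nat_lit 98) (nat_lit 2),
  Rule.mk (nat_lit 1) (nat_lit 33) (Steps.bwd (nat_lit 6) (Steps.fwd (nat_lit 512) (Steps.fwd (nat_lit 3072) Steps.nil))) (nat_lit 28) (nat_lit 2),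
  Rule.mk (nat_lit 7) (nat_lit 33) (Steps.bwd (nat_lit 6) (Steps.bwd (nat_lit 8) (Steps.bwd (nat_lit 4) Steps.nil))) (nat_lit 98) (nat_lit 1),
  Rule.mk (nat_lit 5) (nat_lit 42) (Steps.bwd (nat_lit 6) (Steps.fwd (nat_lit 2048) (Steps.bwd (nat_lit 5) (Steps.bwd (nat_lit 4) Steps.nil)))) (nat_lit 25) (nat_lit 0),
  Rule.mk (nat_lit 8) (nat_lit 42) (Steps.bwd (nat_lit 6) (Steps.fwd (nat_lit 2048) (Steps.bwd (nat_lit 7) (Steps.bwd (nat_lit 4) Steps.nil)))) (nat_lit 101) (nat_lit 0),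
  Rule.mk (nat_lit 6) (nat_lit 33) (Steps.bwd (nat_lit 4) (Steps.bwd (nat_lit 6) (Steps.fwd (nat_lit 2048) Steps.nil))) (nat_lit 32) (nat_lit 1),
  Rule.mk (nat_lit 7) (nat_lit 42) (Steps.bwd (nat_lit 4) (Steps.fwd (nat_lit 3584) (Steps.fwd (nat_lit 2048) (Steps.fwd (nat_lit 3072) Steps.nil)))) (nat_lit 100) (nat_lit 1),
  Rule.mk (nat_lit 8) (nat_lit 33) (Steps.bwd (nat_lit 4) (Steps.fwd (nat_lit 4096) (Steps.fwd (nat_lit 3072) Steps.nil))) (nat_lit 98) (nat_lit 3),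
  Rule.mk (nat_lit 7) (nat_lit 42) (Steps.bwd (nat_lit 4) (Steps.bwd (nat_lit 8) (Steps.fwd (nat_lit 2048) (Steps.bwd (nat_lit 6) Steps.nil)))) (nat_lit 100) (nat_lit 1),
  Rule.mk (nat_lit 3) (nat_lit 33) (Steps.bwd (nat_lit 5) (Steps.bwd (nat_lit 3) (Steps.bwd (nat_lit 4) Steps.nil))) (nat_lit 22) (nat_lit 3),
  Rule.mk (nat_lit 2) (nat_lit 33) (Steps.bwd (nat_lit 5) (Steps.bwd (nat_lit 1) (Steps.fwd (nat_lit 2560) Steps.nil))) (nat_lit 40) (nat_lit 3),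
  Rule.mk (nat_lit 3) (nat_lit 33) (Steps.bwd (nat_lit 6) (Steps.fwd (nat_lit 1536) (Steps.fwd (nat_lit 3072) Steps.nil))) (nat_lit 30) (nat_lit 0),
  Rule.mk (nat_lit 5) (nat_lit 33) (Steps.bwd (nat_lit 6) (Steps.bwd (nat_lit 5) (Steps.bwd (nat_lit 6) Steps.nil))) (nat_lit 48) (nat_lit 1),
  Rule.mk (nat_lit 4) (nat_lit 33) (Steps.bwd (nat_lit 3) (Steps.fwd (nat_lit 2560) (Steps.bwd (nat_lit 3) Steps.nil))) (nat_lit 22) (nat_lit 2),
  Rule.mk (nat_lit 5) (nat_lit 33) (Steps.bwd (nat_lit 3) (Steps.bwd (nat_lit 4) (Steps.fwd (nat_lit 1536) Steps.nil))) (nat_lit 22) (nat_lit 0),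
  Rule.mk (nat_lit 8) (nat_lit 141) (Steps.bwd (nat_lit 3) (Steps.fwd (nat_lit 4096) (Steps.bwd (nat_lit 3) (Steps.fwd (nat_lit 3584) (Steps.bwd (nat_lit 3) (Steps.bwd (nat_lit 7) (Steps.bwd (nat_lit 3) (Steps.fwd (nat_lit 3584) (Steps.fwd (nat_lit 1536) (Steps.bwd (nat_lit 7) (Steps.fwd (nat_lit 1536) (Steps.bwd (nat_lit 8) (Steps.fwd (nat_lit 1536) (Steps.bwd (nat_lit 7) (Steps.bwd (nat_lit 3) Steps.nil))))))))))))))) (nat_lit 106) (nat_lit 3),
  Rule.mk (nat_lit 7) (nat_lit 33) (Steps.fwd (nat_lit 3072) (Steps.bwd (nat_lit 8) (Steps.fwd (nat_lit 2048) Steps.nil))) (nat_lit 98) (nat_lit 1),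
  Rule.mk (nat_lit 8) (nat_lit 33) (Steps.bwd (nat_lit 5) (Steps.bwd (nat_lit 8) (Steps.fwd (nat_lit 2560) Steps.nil))) (nat_lit 103) (nat_lit 1),
  Rule.mk (nat_lit 7) (nat_lit 42) (Steps.bwd (nat_lit 4) (Steps.bwd (nat_lit 8) (Steps.bwd (nat_lit 4) (Steps.fwd (nat_lit 3072) Steps.nil)))) (nat_lit 100) (nat_lit 1),
  Rule.mk (nat_lit 8) (nat_lit 33) (Steps.fwd (nat_lit 2048) (Steps.bwd (nat_lit 7) (Steps.fwd (nat_lit 3072) Steps.nil))) (nat_lit 98) (nat_lit 3),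
  Rule.mk (nat_lit 3) (nat_lit 33) (Steps.bwd (nat_lit 4) (Steps.fwd (nat_lit 1536) (Steps.fwd (nat_lit 2560) Steps.nil))) (nat_lit 22) (nat_lit 1),
  Rule.mk (nat_lit 6) (nat_lit 33) (Steps.bwd (nat_lit 4) (Steps.bwd (nat_lit 6) (Steps.bwd (nat_lit 4) Steps.nil))) (nat_lit 32) (nat_lit 1),
  Rule.mk (nat_lit 5) (nat_lit 42) (Steps.bwd (nat_lit 4) (Steps.bwd (nat_lit 6) (Steps.bwd (nat_lit 5) (Steps.fwd (nat_lit 2048) Steps.nil)))) (nat_lit 24) (nat_lit 3),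
  Rule.mk (nat_lit 8) (nat_lit 42) (Steps.bwd (nat_lit 4) (Steps.bwd (nat_lit 6) (Steps.bwd (nat_lit 7) (Steps.bwd (nat_lit 4) Steps.nil)))) (nat_lit 100) (nat_lit 3)]
noncomputable def R : List (List (Rule)) := [R_0]
def LW : List Word := [[], [2], [3], [4], [6], [8], [10], [12], [13], [2], [3], [6], [7], [8], [9], [10], [11], [12], [13]]
def par : Par := ⟨9, 5, 14, 23, 511, 16383, 8388607⟩
theorem hpar : par.ok := by decide
theorem hR0_0 : lall (R) (fun l => lall l (ruleOK Rb0 LW par)) = true := by decide +kernel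
theorem hR0 : lall (R) (fun l => lall l (ruleOK Rb0 LW par)) = true := hR0_0
theorem hR : RulesOK Rb0 LW par R := rulesOK_of rfl hR0
def cols : List (ℕ × ℕ) := [(512, 2), (1536, 3), (2048, 4), (2560, 5), (3072, 6), (3584, 8)]
theorem hcols : lall cols (colOK Rb0 LW par) = true := by decide +kernel
noncomputable def JS0 : List ℕ := [nat_lit 0x80387238640607018dd81c01804365c6e031aac34008d150102068a0cc12334c0032480c33190011188046280c002303c6005180c2f030bc5178245e20b80c2e0c5c2f169c2c038b0d1601c5820ac0e2b0c5407151a01159829018105258185228284e011392260109880009808261c4a01128c240189051201048208c0a230c4403110421020841,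
  nat_lit 0x482c98e12c164b5426520292e604018064a5c144a24ca4801921501828104890044b0391e3261248d11140c45849210228c440891050200889010c04434c864248040b22909f2081c82f00084602c8240287e001f903f050fc5018200a3f7404041f380d1f8f5b1e01078a8f8103c0876091d9a3c1f8eda1d0307418e4183904720c1c8638060e0d,
  nat_lit 0x6506028c6c82c1064316e143218cc3b024c460d4420b2fe85e05979506800219844c00130645f000422010040b8808005bc0081b350ece0493a14ce873388ccd2122cde5d2f962e0283caf695822563408572b585d01156b2a000a879500a54a8345529d2020214dc06150a4d944065154a65a289c500c940d28844a0213c224f049e17279a060894c9f4040a80d273a16071367]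
theorem S0_c : blocks (facts 9 5 14 23 511 16383 8388607 9 511 6 63 A R 32) 32 JS0 289 = true := by decide +kernel
theorem S0 : On (Step.{u} Rb0 LW par A) 289 385 :=
  steps_of_blocks hpar hR S0_c (by decide +kernel)
theorem D0_c : allB (defOK 9 14 23 511 8388607 285 A K) 1 2 = true := by decide +kernel
theorem D0 : On (fun r => defOK par.W par.WL par.E par.mW par.mE 285 A K r = true) 256 384 :=
  On.of_allB D0_c
noncomputable def JW0 : List ℕ := [nat_lit 0x38c5811cda3585a140df138dc08c521344113c5402c5711048118dd0b44b0e8400f0db330431904939c5f350671885939855360691746c1a8eb1b871380761e0ea3bc7a0fc6d1ac723b4743a0771f0733c47e3d483228f21bc8c23cf722c923b89420082210f33b08921cf6214963c0992449a2709e3eca03e0a22909f3f4a62b0ae3fcaa3e8b12a0b23f8b43f0b7400b82e8bc40cbe300c2310c6408c8,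
  nat_lit 0x58ce3441d0a0270543406cd235c36064cf080ca0882400808018cb0280d0402a084d30b02f014090681c3341e03c2b34030354320483501c3136438394de0f45e0a460]
theorem W0_c : blocks (rows 9 5 14 23 511 16383 8388607 10 1023 60 A 385 30 cols 21) 21 JW0 0 = true := by decide +kernel
theorem W0 : On (Row.{u} Rb0 LW par A 385 30 cols) 0 42 :=
  rows_of_blocks hpar (by decide) hcols W0_c (by decide +kernel)
theorem idx : Idx.{u} Rb0 [[2], [4], [6], [8], [10], [12]] [[2], [6], [8], [10], [12]] 30 :=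
  idx_of_cert hpar hR (K := K) (by decide +kernel) (T := 285) (T' := 384) (by decide) D0
    (subs := [1,4,5,6,7]) (by decide +kernel) (T1 := 289) (by decide) (N := 385) S0
    (by decide) (n' := 42) (by decide) W0 (by decide +kernel) (by decide +kernel)
end n2
end
end CA.JKa
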