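import Cfsg.Agent.Lib.HJ.JKdC0
import Cfsg.Agent.Lib.HJ.JKdC1
import Cfsg.Agent.Lib.HJ.JKdC2
import Cfsg.Agent.Lib.HJ.JKdC3
set_option autoImplicit false
set_option linter.all false
set_option maxRecDepth 100000
universe u
namespace CA.JKd
open CA.CNet CA.CWord CA.CLevel CA.CSimple CA.CPoint CA.CTodd CA.JKRel
noncomputable section
theorem idx : Idx.{u} Rb0 [[0], [2], [4], [6], [8], [10], [12]] [[2], [4], [6], [8], [10], [12]] 69768 :=
  idx_of_cert hpar hR (K := K) (by decide +kernel) (T := 157666) (T' := 157696) (by decide) (On.trans (On.trans D0 (On.trans D1 D2)) (On.trans D3 (On.trans D4 D5)))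
    (subs := [2,4,5,6,7,8]) (by decide +kernel) (T1 := 157671) (by decide) (N := 628487) (On.trans (On.trans (On.trans (On.trans (On.trans S0 S1) (On.trans S2 S3)) (On.trans (On.trans S4 S5) (On.trans S6 (On.trans S7 S8)))) (On.trans (On.trans (On.trans S9 S10) (On.trans S11 S12)) (On.trans (On.trans S13 S14) (On.trans S15 (On.trans S16 S17))))) (On.trans (On.trans (On.trans (On.trans S18 S19) (On.trans S20 S21)) (On.trans (On.trans S22 S23) (On.trans S24 (On.trans S25 S26)))) (On.trans (On.trans (On.trans S27 S28) (On.trans S29 (On.trans S30 S31))) (On.trans (On.trans S32 S33) (On.trans S34 (On.trans S35 S36))))))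
    (by decide) (n' := 69768) (by decide) (On.trans (On.trans (On.trans W0 W1) (On.trans W2 (On.trans W3 W4))) (On.trans (On.trans W5 W6) (On.trans W7 (On.trans W8 W9)))) (by decide +kernel) (by decide +kernel)
end
end CA.JKd
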