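import Cfsg.Agent.Lib.HJ.HJRel
/-! Relators for the generators `t, x, u, s, w, z, p` of the third Janko group. -/
set_option autoImplicit false
namespace CA.JKRel
open CA.CWord
def RX : List Word := [[0,10,0,10], [2,4,2,4], [2,8,3,8], [2,10,3,10], [4,10,4,10], [6,10,6,10], [8,10,8,10], [6,8,6,8,10], [0,6,10,0,6,10], [2,4,6,2,4,8], [2,4,10,2,4,10], [2,6,4,2,8,4], [2,6,10,3,6,10], [2,8,10,3,8,10], [2,10,4,2,10,4], [4,6,10,4,8,10], [0,2,0,3,0,2,0,3], [0,2,0,6,2,0,2,6], [0,2,0,10,2,0,2,10], [0,4,0,8,0,4,0,8], [0,4,0,10,4,0,4,10], [2,4,6,10,2,4,8,10], [2,4,10,6,2,4,10,8], [2,6,2,8,6,2,8,10], [2,6,2,10,8,2,6,8], [2,6,4,10,2,8,4,10], [2,6,10,4,2,8,10,4], [2,10,4,6,2,10,4,8], [2,10,6,4,2,10,8,4]]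
def Rp : List Word := [[12,12,12], [12,2,13,3], [12,10,13,6], [12,6,13,6,10], [8,12,8,12], [12,2,0,3,13,0]]
def RK : List Word := [[0,0], [2,2], [4,4], [2,0,2,0,4], [4,0,4,0], [4,2,4,2], [6,6,6], [8,8,8], [6,4,7,0], [6,0,7,0,4], [2,6,2,6], [8,4,9,2], [8,2,9,2,4], [0,8,0,8]]
def gN : List Word := [[2], [4], [6], [8], [10], [12]]
def gK : List Word := [[0], [2], [4], [6], [8]]
def Rk3 : List Word := [[0,0], [2,2], [4,4], [2,0,2,0,4], [4,0,4,0], [4,2,4,2], [6,6,6], [8,8,8], [6,4,7,0], [6,0,7,0,4], [2,6,2,6], [8,4,9,2], [8,2,9,2,4], [0,8,0,8], [6,9,6,9,6,9]]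
def Rk5 : List Word := [[0,0], [2,2], [4,4], [2,0,2,0,4], [4,0,4,0], [4,2,4,2], [6,6,6], [8,8,8], [6,4,7,0], [6,0,7,0,4], [2,6,2,6], [8,4,9,2], [8,2,9,2,4], [0,8,0,8], [6,9,6,9,6,9,6,9,6,9]]
def Rk75 : List Word := [[0,0], [2,2], [4,4], [2,0,2,0,4], [4,0,4,0], [4,2,4,2], [6,6,6], [8,8,8], [6,4,7,0], [6,0,7,0,4], [2,6,2,6], [8,4,9,2], [8,2,9,2,4], [0,8,0,8], [6,9,6,9,6,9,6,9,6,9,6,9,6,9], [6,8,6,8,6,8,6,8,6,8]]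
def Rk77 : List Word := [[0,0], [2,2], [4,4], [2,0,2,0,4], [4,0,4,0], [4,2,4,2], [6,6,6], [8,8,8], [6,4,7,0], [6,0,7,0,4], [2,6,2,6], [8,4,9,2], [8,2,9,2,4], [0,8,0,8], [6,9,6,9,6,9,6,9,6,9,6,9,6,9], [6,8,6,8,6,8,6,8,6,8,6,8,6,8]]
def Ra30 : List Word := [[0,0], [2,2,2], [4,4], [6,6], [8,8], [10,10], [0,2,0,2,0,2], [4,2,4,2], [0,4,0,4,0,4], [0,6,0,6], [2,6,3,6], [4,6,4,8], [8,6,8,6,10], [10,0,10,0], [10,2,10,3], [10,4,10,4], [10,6,10,6], [2,0,8,0,2,0,8,0,2,0,8,0,8,6], [0,10,0,10], [2,4,2,4], [2,8,3,8], [2,10,3,10], [4,10,4,10], [6,10,6,10], [8,10,8,10], [6,8,6,8,10], [0,6,10,0,6,10], [2,4,6,2,4,8], [2,4,10,2,4,10], [2,6,4,2,8,4], [2,6,10,3,6,10], [2,8,10,3,8,10], [2,10,4,2,10,4], [4,6,10,4,8,10], [0,2,0,3,0,2,0,3], [0,2,0,6,2,0,2,6], [0,2,0,10,2,0,2,10], [0,4,0,8,0,4,0,8],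 [0,4,0,10,4,0,4,10], [2,4,6,10,2,4,8,10], [2,4,10,6,2,4,10,8], [2,6,2,8,6,2,8,10], [2,6,2,10,8,2,6,8], [2,6,4,10,2,8,4,10], [2,6,10,4,2,8,10,4], [2,10,4,6,2,10,4,8], [2,10,6,4,2,10,8,4], [12,12,12], [12,2,13,3], [12,10,13,6], [12,6,13,6,10], [8,12,8,12], [12,2,0,3,13,0], [12,4,12,4,12,4,12,4,12,4,12,4]]
def Ra31 : List Word := [[0,0], [2,2,2], [4,4], [6,6], [8,8], [10,10], [0,2,0,2,0,2], [4,2,4,2], [0,4,0,4,0,4], [0,6,0,6], [2,6,3,6], [4,6,4,8], [8,6,8,6,10], [10,0,10,0], [10,2,10,3], [10,4,10,4], [10,6,10,6], [2,0,8,0,2,0,8,0,2,0,8,0,8,6], [0,10,0,10], [2,4,2,4], [2,8,3,8], [2,10,3,10], [4,10,4,10], [6,10,6,10], [8,10,8,10], [6,8,6,8,10], [0,6,10,0,6,10], [2,4,6,2,4,8], [2,4,10,2,4,10], [2,6,4,2,8,4], [2,6,10,3,6,10], [2,8,10,3,8,10], [2,10,4,2,10,4], [4,6,10,4,8,10],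 [0,2,0,3,0,2,0,3], [0,2,0,6,2,0,2,6], [0,2,0,10,2,0,2,10], [0,4,0,8,0,4,0,8], [0,4,0,10,4,0,4,10], [2,4,6,10,2,4,8,10], [2,4,10,6,2,4,10,8], [2,6,2,8,6,2,8,10], [2,6,2,10,8,2,6,8], [2,6,4,10,2,8,4,10], [2,6,10,4,2,8,10,4], [2,10,4,6,2,10,4,8], [2,10,6,4,2,10,8,4], [12,12,12], [12,2,13,3], [12,10,13,6], [12,6,13,6,10], [8,12,8,12], [12,2,0,3,13,0], [12,4,12,4,12,4,12,4,12,4,12,4,2]]
def Ra32 : List Word := [[0,0], [2,2,2], [4,4], [6,6], [8,8], [10,10], [0,2,0,2,0,2], [4,2,4,2], [0,4,0,4,0,4], [0,6,0,6], [2,6,3,6], [4,6,4,8], [8,6,8,6,10], [10,0,10,0], [10,2,10,3], [10,4,10,4], [10,6,10,6], [2,0,8,0,2,0,8,0,2,0,8,0,8,6], [0,10,0,10], [2,4,2,4], [2,8,3,8], [2,10,3,10], [4,10,4,10], [6,10,6,10], [8,10,8,10], [6,8,6,8,10], [0,6,10,0,6,10], [2,4,6,2,4,8], [2,4,10,2,4,10], [2,6,4,2,8,4],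 [2,6,10,3,6,10], [2,8,10,3,8,10], [2,10,4,2,10,4], [4,6,10,4,8,10], [0,2,0,3,0,2,0,3], [0,2,0,6,2,0,2,6], [0,2,0,10,2,0,2,10], [0,4,0,8,0,4,0,8], [0,4,0,10,4,0,4,10], [2,4,6,10,2,4,8,10], [2,4,10,6,2,4,10,8], [2,6,2,8,6,2,8,10], [2,6,2,10,8,2,6,8], [2,6,4,10,2,8,4,10], [2,6,10,4,2,8,10,4], [2,10,4,6,2,10,4,8], [2,10,6,4,2,10,8,4], [12,12,12], [12,2,13,3], [12,10,13,6], [12,6,13,6,10], [8,12,8,12], [12,2,0,3,13,0], [12,4,12,4,12,4,12,4,12,4,12,4,2,2]]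
def Ra40 : List Word := [[0,0], [2,2,2], [4,4], [6,6], [8,8], [10,10], [0,2,0,2,0,2], [4,2,4,2], [0,4,0,4,0,4], [0,6,0,6], [2,6,3,6], [4,6,4,8], [8,6,8,6,10], [10,0,10,0], [10,2,10,3], [10,4,10,4], [10,6,10,6], [2,0,8,0,2,0,8,0,2,0,8,0,8,6], [0,10,0,10], [2,4,2,4], [2,8,3,8], [2,10,3,10], [4,10,4,10], [6,10,6,10], [8,10,8,10], [6,8,6,8,10], [0,6,10,0,6,10], [2,4,6,2,4,8], [2,4,10,2,4,10], [2,6,4,2,8,4], [2,6,10,3,6,10], [2,8,10,3,8,10], [2,10,4,2,10,4], [4,6,10,4,8,10], [0,2,0,3,0,2,0,3], [0,2,0,6,2,0,2,6], [0,2,0,10,2,0,2,10], [0,4,0,8,0,4,0,8], [0,4,0,10,4,0,4,10], [2,4,6,10,2,4,8,10], [2,4,10,6,2,4,10,8], [2,6,2,8,6,2,8,10], [2,6,2,10,8,2,6,8], [2,6,4,10,2,8,4,10], [2,6,10,4,2,8,10,4], [2,10,4,6,2,10,4,8], [2,10,6,4,2,10,8,4], [12,12,12], [12,2,13,3], [12,10,13,6],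 [12,6,13,6,10], [8,12,8,12], [12,2,0,3,13,0], [12,4,12,4,12,4,12,4,12,4,12,4,12,4,12,4]]
def Ra41 : List Word := [[0,0], [2,2,2], [4,4], [6,6], [8,8], [10,10], [0,2,0,2,0,2], [4,2,4,2], [0,4,0,4,0,4], [0,6,0,6], [2,6,3,6], [4,6,4,8], [8,6,8,6,10], [10,0,10,0], [10,2,10,3], [10,4,10,4], [10,6,10,6], [2,0,8,0,2,0,8,0,2,0,8,0,8,6], [0,10,0,10], [2,4,2,4], [2,8,3,8], [2,10,3,10], [4,10,4,10], [6,10,6,10], [8,10,8,10], [6,8,6,8,10], [0,6,10,0,6,10], [2,4,6,2,4,8], [2,4,10,2,4,10], [2,6,4,2,8,4], [2,6,10,3,6,10], [2,8,10,3,8,10], [2,10,4,2,10,4], [4,6,10,4,8,10], [0,2,0,3,0,2,0,3], [0,2,0,6,2,0,2,6], [0,2,0,10,2,0,2,10], [0,4,0,8,0,4,0,8], [0,4,0,10,4,0,4,10], [2,4,6,10,2,4,8,10], [2,4,10,6,2,4,10,8], [2,6,2,8,6,2,8,10], [2,6,2,10,8,2,6,8], [2,6,4,10,2,8,4,10], [2,6,10,4,2,8,10,4],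 [2,10,4,6,2,10,4,8], [2,10,6,4,2,10,8,4], [12,12,12], [12,2,13,3], [12,10,13,6], [12,6,13,6,10], [8,12,8,12], [12,2,0,3,13,0], [12,4,12,4,12,4,12,4,12,4,12,4,12,4,12,4,2]]
def Ra42 : List Word := [[0,0], [2,2,2], [4,4], [6,6], [8,8], [10,10], [0,2,0,2,0,2], [4,2,4,2], [0,4,0,4,0,4], [0,6,0,6], [2,6,3,6], [4,6,4,8], [8,6,8,6,10], [10,0,10,0], [10,2,10,3], [10,4,10,4], [10,6,10,6], [2,0,8,0,2,0,8,0,2,0,8,0,8,6], [0,10,0,10], [2,4,2,4], [2,8,3,8], [2,10,3,10], [4,10,4,10], [6,10,6,10], [8,10,8,10], [6,8,6,8,10], [0,6,10,0,6,10], [2,4,6,2,4,8], [2,4,10,2,4,10], [2,6,4,2,8,4], [2,6,10,3,6,10], [2,8,10,3,8,10], [2,10,4,2,10,4], [4,6,10,4,8,10], [0,2,0,3,0,2,0,3], [0,2,0,6,2,0,2,6], [0,2,0,10,2,0,2,10], [0,4,0,8,0,4,0,8], [0,4,0,10,4,0,4,10], [2,4,6,10,2,4,8,10], [2,4,10,6,2,4,10,8],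 [2,6,2,8,6,2,8,10], [2,6,2,10,8,2,6,8], [2,6,4,10,2,8,4,10], [2,6,10,4,2,8,10,4], [2,10,4,6,2,10,4,8], [2,10,6,4,2,10,8,4], [12,12,12], [12,2,13,3], [12,10,13,6], [12,6,13,6,10], [8,12,8,12], [12,2,0,3,13,0], [12,4,12,4,12,4,12,4,12,4,12,4,12,4,12,4,2,2]]
def Rb0 : List Word := [[0,0], [2,2,2], [4,4], [6,6], [8,8], [10,10], [0,2,0,2,0,2], [4,2,4,2], [0,4,0,4,0,4], [0,6,0,6], [2,6,3,6], [4,6,4,8], [8,6,8,6,10], [10,0,10,0], [10,2,10,3], [10,4,10,4], [10,6,10,6], [2,0,8,0,2,0,8,0,2,0,8,0,8,6], [0,10,0,10], [2,4,2,4], [2,8,3,8], [2,10,3,10], [4,10,4,10], [6,10,6,10], [8,10,8,10], [6,8,6,8,10], [0,6,10,0,6,10], [2,4,6,2,4,8], [2,4,10,2,4,10], [2,6,4,2,8,4], [2,6,10,3,6,10], [2,8,10,3,8,10], [2,10,4,2,10,4], [4,6,10,4,8,10], [0,2,0,3,0,2,0,3], [0,2,0,6,2,0,2,6], [0,2,0,10,2,0,2,10],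 [0,4,0,8,0,4,0,8], [0,4,0,10,4,0,4,10], [2,4,6,10,2,4,8,10], [2,4,10,6,2,4,10,8], [2,6,2,8,6,2,8,10], [2,6,2,10,8,2,6,8], [2,6,4,10,2,8,4,10], [2,6,10,4,2,8,10,4], [2,10,4,6,2,10,4,8], [2,10,6,4,2,10,8,4], [12,12,12], [12,2,13,3], [12,10,13,6], [12,6,13,6,10], [8,12,8,12], [12,2,0,3,13,0], [12,4,13,4,12,4,13,4,12,4,13,4,12,4,13,4]]
def Rb1 : List Word := [[0,0], [2,2,2], [4,4], [6,6], [8,8], [10,10], [0,2,0,2,0,2], [4,2,4,2], [0,4,0,4,0,4], [0,6,0,6], [2,6,3,6], [4,6,4,8], [8,6,8,6,10], [10,0,10,0], [10,2,10,3], [10,4,10,4], [10,6,10,6], [2,0,8,0,2,0,8,0,2,0,8,0,8,6], [0,10,0,10], [2,4,2,4], [2,8,3,8], [2,10,3,10], [4,10,4,10], [6,10,6,10], [8,10,8,10], [6,8,6,8,10], [0,6,10,0,6,10], [2,4,6,2,4,8], [2,4,10,2,4,10], [2,6,4,2,8,4], [2,6,10,3,6,10], [2,8,10,3,8,10], [2,10,4,2,10,4],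 [4,6,10,4,8,10], [0,2,0,3,0,2,0,3], [0,2,0,6,2,0,2,6], [0,2,0,10,2,0,2,10], [0,4,0,8,0,4,0,8], [0,4,0,10,4,0,4,10], [2,4,6,10,2,4,8,10], [2,4,10,6,2,4,10,8], [2,6,2,8,6,2,8,10], [2,6,2,10,8,2,6,8], [2,6,4,10,2,8,4,10], [2,6,10,4,2,8,10,4], [2,10,4,6,2,10,4,8], [2,10,6,4,2,10,8,4], [12,12,12], [12,2,13,3], [12,10,13,6], [12,6,13,6,10], [8,12,8,12], [12,2,0,3,13,0], [12,4,13,4,12,4,13,4,12,4,13,4,12,4,13,4,2]]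
def Rb2 : List Word := [[0,0], [2,2,2], [4,4], [6,6], [8,8], [10,10], [0,2,0,2,0,2], [4,2,4,2], [0,4,0,4,0,4], [0,6,0,6], [2,6,3,6], [4,6,4,8], [8,6,8,6,10], [10,0,10,0], [10,2,10,3], [10,4,10,4], [10,6,10,6], [2,0,8,0,2,0,8,0,2,0,8,0,8,6], [0,10,0,10], [2,4,2,4], [2,8,3,8], [2,10,3,10], [4,10,4,10], [6,10,6,10], [8,10,8,10], [6,8,6,8,10], [0,6,10,0,6,10], [2,4,6,2,4,8], [2,4,10,2,4,10], [2,6,4,2,8,4], [2,6,10,3,6,10], [2,8,10,3,8,10], [2,10,4,2,10,4], [4,6,10,4,8,10], [0,2,0,3,0,2,0,3], [0,2,0,6,2,0,2,6], [0,2,0,10,2,0,2,10], [0,4,0,8,0,4,0,8], [0,4,0,10,4,0,4,10], [2,4,6,10,2,4,8,10], [2,4,10,6,2,4,10,8], [2,6,2,8,6,2,8,10], [2,6,2,10,8,2,6,8], [2,6,4,10,2,8,4,10], [2,6,10,4,2,8,10,4], [2,10,4,6,2,10,4,8], [2,10,6,4,2,10,8,4], [12,12,12], [12,2,13,3], [12,10,13,6], [12,6,13,6,10],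 [8,12,8,12], [12,2,0,3,13,0], [12,4,13,4,12,4,13,4,12,4,13,4,12,4,13,4,2,2]]
end CA.JKRel
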