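import Cfsg.Agent.Lib.HJ.JKdA0
set_option autoImplicit false
set_option linter.all false
set_option maxRecDepth 100000
universe u
namespace CA.JKd
open CA.CNet CA.CWord CA.CLevel CA.CSimple CA.CPoint CA.CTodd CA.JKRel
noncomputable section
noncomputable def A : List (List (ℕ)) := [A_0, A_1, A_2, A_3, A_4, A_5, A_6, A_7, A_8, A_9, A_10, A_11, A_12, A_13, A_14, A_15, A_16, A_17, A_18, A_19, A_20, A_21, A_22, A_23, A_24, A_25, A_26, A_27, A_28, A_29, A_30, A_31, A_32, A_33, A_34, A_35, A_36, A_37, A_38]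
noncomputable def K : List (List (ℕ)) := [K_0, K_1, K_2, K_3, K_4, K_5, K_6, K_7, K_8, K_9]
noncomputable def R_0 : List (Rule) := [Rule.mk (nat_lit 5) (nat_lit 74) (Steps.bwd (nat_lit 1) (Steps.fwd (nat_lit 1310720) (Steps.fwd (nat_lit 262144) Steps.nil))) (nat_lit 18) (nat_lit 0),
  Rule.mk (nat_lit 7) (nat_lit 74) (Steps.bwd (nat_lit 1) (Steps.fwd (nat_lit 1835008) (Steps.fwd (nat_lit 262144) Steps.nil))) (nat_lit 26) (nat_lit 1),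
  Rule.mk (nat_lit 7) (nat_lit 74) (Steps.bwd (nat_lit 9) (Steps.fwd (nat_lit 1310720) (Steps.fwd (nat_lit 2359296) Steps.nil))) (nat_lit 98) (nat_lit 2),
  Rule.mk (nat_lit 5) (nat_lit 94) (Steps.bwd (nat_lit 9) (Steps.fwd (nat_lit 1310720) (Steps.fwd (nat_lit 1835008) (Steps.fwd (nat_lit 2359296) Steps.nil)))) (nat_lit 100) (nat_lit 2),
  Rule.mk (nat_lit 3) (nat_lit 114) (Steps.bwd (nat_lit 9) (Steps.bwd (nat_lit 1) (Steps.bwd (nat_lit 8) (Steps.bwd (nat_lit 2) (Steps.fwd (nat_lit 262144) Steps.nil))))) (nat_lit 104) (nat_lit 4),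
  Rule.mk (nat_lit 3) (nat_lit 54) (Steps.bwd (nat_lit 3) (Steps.bwd (nat_lit 3) Steps.nil)) (nat_lit 3) (nat_lit 0),
  Rule.mk (nat_lit 5) (nat_lit 74) (Steps.bwd (nat_lit 3) (Steps.fwd (nat_lit 1310720) (Steps.fwd (nat_lit 786432) Steps.nil))) (nat_lit 20) (nat_lit 2),
  Rule.mk (nat_lit 7) (nat_lit 74) (Steps.bwd (nat_lit 3) (Steps.fwd (nat_lit 1835008) (Steps.fwd (nat_lit 786432) Steps.nil))) (nat_lit 28) (nat_lit 3),
  Rule.mk (nat_lit 9) (nat_lit 74) (Steps.bwd (nat_lit 3) (Steps.fwd (nat_lit 2359296) (Steps.fwd (nat_lit 786432) Steps.nil))) (nat_lit 96) (nat_lit 3),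
  Rule.mk (nat_lit 8) (nat_lit 74) (Steps.bwd (nat_lit 3) (Steps.bwd (nat_lit 9) (Steps.fwd (nat_lit 786432) Steps.nil))) (nat_lit 97) (nat_lit 2),
  Rule.mk (nat_lit 1) (nat_lit 114) (Steps.bwd (nat_lit 3) (Steps.bwd (nat_lit 1) (Steps.fwd (nat_lit 524288) (Steps.fwd (nat_lit 262144) (Steps.bwd (nat_lit 3) Steps.nil))))) (nat_lit 13) (nat_lit 0),
  Rule.mk (nat_lit 6) (nat_lit 74) (Steps.bwd (nat_lit 4) (Steps.fwd (nat_lit 1310720) (Steps.fwd (nat_lit 1048576) Steps.nil))) (nat_lit 22) (nat_lit 0),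
  Rule.mk (nat_lit 7) (nat_lit 74) (Steps.bwd (nat_lit 4) (Steps.fwd (nat_lit 1835008) (Steps.fwd (nat_lit 1048576) Steps.nil))) (nat_lit 30) (nat_lit 1),
  Rule.mk (nat_lit 1) (nat_lit 114) (Steps.bwd (nat_lit 4) (Steps.bwd (nat_lit 1) (Steps.fwd (nat_lit 1048576) (Steps.fwd (nat_lit 262144) (Steps.fwd (nat_lit 1048576) Steps.nil))))) (nat_lit 16) (nat_lit 1),
  Rule.mk (nat_lit 3) (nat_lit 74) (Steps.bwd (nat_lit 4) (Steps.bwd (nat_lit 3) (Steps.fwd (nat_lit 1048576) Steps.nil))) (nat_lit 15) (nat_lit 1),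
  Rule.mk (nat_lit 4) (nat_lit 74) (Steps.bwd (nat_lit 3) (Steps.bwd (nat_lit 4) (Steps.bwd (nat_lit 3) Steps.nil))) (nat_lit 15) (nat_lit 0),
  Rule.mk (nat_lit 6) (nat_lit 74) (Steps.bwd (nat_lit 3) (Steps.fwd (nat_lit 1572864) (Steps.fwd (nat_lit 786432) Steps.nil))) (nat_lit 40) (nat_lit 2),
  Rule.mk (nat_lit 7) (nat_lit 74) (Steps.bwd (nat_lit 6) (Steps.fwd (nat_lit 1835008) (Steps.fwd (nat_lit 1572864) Steps.nil))) (nat_lit 48) (nat_lit 0),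
  Rule.mk (nat_lit 5) (nat_lit 94) (Steps.bwd (nat_lit 6) (Steps.fwd (nat_lit 1310720) (Steps.fwd (nat_lit 1835008) (Steps.fwd (nat_lit 1572864) Steps.nil)))) (nat_lit 24) (nat_lit 2),
  Rule.mk (nat_lit 5) (nat_lit 74) (Steps.bwd (nat_lit 4) (Steps.bwd (nat_lit 6) (Steps.fwd (nat_lit 1048576) Steps.nil))) (nat_lit 22) (nat_lit 2),
  Rule.mk (nat_lit 1) (nat_lit 114) (Steps.fwd (nat_lit 1310720) (Steps.fwd (nat_lit 1835008) (Steps.fwd (nat_lit 262144) (Steps.bwd (nat_lit 5) (Steps.fwd (nat_lit 1835008) Steps.nil))))) (nat_lit 52) (nat_lit 1),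
  Rule.mk (nat_lit 5) (nat_lit 74) (Steps.bwd (nat_lit 2) (Steps.fwd (nat_lit 1310720) (Steps.fwd (nat_lit 524288) Steps.nil))) (nat_lit 20) (nat_lit 0),
  Rule.mk (nat_lit 7) (nat_lit 74) (Steps.bwd (nat_lit 2) (Steps.fwd (nat_lit 1835008) (Steps.fwd (nat_lit 524288) Steps.nil))) (nat_lit 28) (nat_lit 1),
  Rule.mk (nat_lit 6) (nat_lit 74) (Steps.bwd (nat_lit 2) (Steps.bwd (nat_lit 6) (Steps.bwd (nat_lit 3) Steps.nil))) (nat_lit 40) (nat_lit 0),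
  Rule.mk (nat_lit 8) (nat_lit 74) (Steps.bwd (nat_lit 6) (Steps.fwd (nat_lit 2359296) (Steps.bwd (nat_lit 6) Steps.nil))) (nat_lit 102) (nat_lit 0),
  Rule.mk (nat_lit 3) (nat_lit 74) (Steps.bwd (nat_lit 6) (Steps.fwd (nat_lit 786432) (Steps.bwd (nat_lit 6) Steps.nil))) (nat_lit 40) (nat_lit 3),
  Rule.mk (nat_lit 2) (nat_lit 74) (Steps.bwd (nat_lit 6) (Steps.bwd (nat_lit 3) (Steps.fwd (nat_lit 1572864) Steps.nil))) (nat_lit 40) (nat_lit 1),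
  Rule.mk (nat_lit 8) (nat_lit 74) (Steps.bwd (nat_lit 6) (Steps.fwd (nat_lit 2359296) (Steps.fwd (nat_lit 1572864) Steps.nil))) (nat_lit 102) (nat_lit 0),
  Rule.mk (nat_lit 9) (nat_lit 74) (Steps.bwd (nat_lit 6) (Steps.fwd (nat_lit 2097152) (Steps.bwd (nat_lit 6) Steps.nil))) (nat_lit 103) (nat_lit 1),
  Rule.mk (nat_lit 3) (nat_lit 74) (Steps.bwd (nat_lit 5) (Steps.fwd (nat_lit 786432) (Steps.bwd (nat_lit 5) Steps.nil))) (nat_lit 20) (nat_lit 3),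
  Rule.mk (nat_lit 4) (nat_lit 74) (Steps.bwd (nat_lit 5) (Steps.bwd (nat_lit 4) (Steps.fwd (nat_lit 1572864) Steps.nil))) (nat_lit 22) (nat_lit 1),
  Rule.mk (nat_lit 7) (nat_lit 74) (Steps.bwd (nat_lit 5) (Steps.fwd (nat_lit 1835008) (Steps.fwd (nat_lit 1310720) Steps.nil))) (nat_lit 32) (nat_lit 1),
  Rule.mk (nat_lit 6) (nat_lit 94) (Steps.bwd (nat_lit 5) (Steps.fwd (nat_lit 1835008) (Steps.fwd (nat_lit 1572864) (Steps.fwd (nat_lit 1310720) Steps.nil)))) (nat_lit 24) (nat_lit 3),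
  Rule.mk (nat_lit 3) (nat_lit 74) (Steps.bwd (nat_lit 5) (Steps.fwd (nat_lit 786432) (Steps.fwd (nat_lit 1310720) Steps.nil))) (nat_lit 20) (nat_lit 3),
  Rule.mk (nat_lit 2) (nat_lit 74) (Steps.bwd (nat_lit 5) (Steps.bwd (nat_lit 3) (Steps.bwd (nat_lit 5) Steps.nil))) (nat_lit 20) (nat_lit 1),
  Rule.mk (nat_lit 4) (nat_lit 74) (Steps.bwd (nat_lit 5) (Steps.fwd (nat_lit 1048576) (Steps.bwd (nat_lit 6) Steps.nil))) (nat_lit 22) (nat_lit 1),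
  Rule.mk (nat_lit 5) (nat_lit 74) (Steps.bwd (nat_lit 8) (Steps.fwd (nat_lit 1835008) (Steps.fwd (nat_lit 2097152) Steps.nil))) (nat_lit 98) (nat_lit 0),
  Rule.mk (nat_lit 5) (nat_lit 74) (Steps.bwd (nat_lit 7) (Steps.fwd (nat_lit 1310720) (Steps.fwd (nat_lit 1835008) Steps.nil))) (nat_lit 32) (nat_lit 0),
  Rule.mk (nat_lit 9) (nat_lit 94) (Steps.fwd (nat_lit 1310720) (Steps.bwd (nat_lit 7) (Steps.bwd (nat_lit 8) (Steps.bwd (nat_lit 5) Steps.nil)))) (nat_lit 100) (nat_lit 3),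
  Rule.mk (nat_lit 9) (nat_lit 54) (Steps.bwd (nat_lit 9) (Steps.bwd (nat_lit 9) Steps.nil)) (nat_lit 95) (nat_lit 0),
  Rule.mk (nat_lit 6) (nat_lit 74) (Steps.bwd (nat_lit 9) (Steps.fwd (nat_lit 1572864) (Steps.bwd (nat_lit 9) Steps.nil))) (nat_lit 103) (nat_lit 0),
  Rule.mk (nat_lit 9) (nat_lit 74) (Steps.bwd (nat_lit 5) (Steps.fwd (nat_lit 2359296) (Steps.bwd (nat_lit 7) Steps.nil))) (nat_lit 98) (nat_lit 3),
  Rule.mk (nat_lit 6) (nat_lit 94) (Steps.bwd (nat_lit 5) (Steps.fwd (nat_lit 1572864) (Steps.fwd (nat_lit 1310720) (Steps.bwd (nat_lit 7) Steps.nil)))) (nat_lit 24) (nat_lit 1),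
  Rule.mk (nat_lit 7) (nat_lit 94) (Steps.bwd (nat_lit 5) (Steps.fwd (nat_lit 1572864) (Steps.fwd (nat_lit 1310720) (Steps.bwd (nat_lit 6) Steps.nil)))) (nat_lit 25) (nat_lit 1),
  Rule.mk (nat_lit 8) (nat_lit 94) (Steps.bwd (nat_lit 5) (Steps.bwd (nat_lit 9) (Steps.fwd (nat_lit 1310720) (Steps.fwd (nat_lit 1835008) Steps.nil)))) (nat_lit 100) (nat_lit 1),
  Rule.mk (nat_lit 3) (nat_lit 74) (Steps.bwd (nat_lit 9) (Steps.fwd (nat_lit 786432) (Steps.bwd (nat_lit 8) Steps.nil))) (nat_lit 97) (nat_lit 3),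
  Rule.mk (nat_lit 7) (nat_lit 114) (Steps.fwd (nat_lit 786432) (Steps.fwd (nat_lit 1310720) (Steps.fwd (nat_lit 1835008) (Steps.bwd (nat_lit 3) (Steps.bwd (nat_lit 5) Steps.nil))))) (nat_lit 60) (nat_lit 0),
  Rule.mk (nat_lit 8) (nat_lit 74) (Steps.bwd (nat_lit 2) (Steps.bwd (nat_lit 9) (Steps.bwd (nat_lit 3) Steps.nil))) (nat_lit 96) (nat_lit 1),
  Rule.mk (nat_lit 9) (nat_lit 74) (Steps.bwd (nat_lit 2) (Steps.bwd (nat_lit 8) (Steps.bwd (nat_lit 3) Steps.nil))) (nat_lit 97) (nat_lit 0),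
  Rule.mk (nat_lit 1) (nat_lit 114) (Steps.fwd (nat_lit 2359296) (Steps.fwd (nat_lit 786432) (Steps.fwd (nat_lit 262144) (Steps.bwd (nat_lit 3) (Steps.bwd (nat_lit 9) Steps.nil))))) (nat_lit 104) (nat_lit 0),
  Rule.mk (nat_lit 1) (nat_lit 74) (Steps.bwd (nat_lit 7) (Steps.fwd (nat_lit 262144) (Steps.fwd (nat_lit 1835008) Steps.nil))) (nat_lit 26) (nat_lit 0),
  Rule.mk (nat_lit 3) (nat_lit 74) (Steps.bwd (nat_lit 7) (Steps.bwd (nat_lit 2) (Steps.fwd (nat_lit 1835008) Steps.nil))) (nat_lit 28) (nat_lit 0),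
  Rule.mk (nat_lit 6) (nat_lit 74) (Steps.bwd (nat_lit 7) (Steps.fwd (nat_lit 1572864) (Steps.bwd (nat_lit 7) Steps.nil))) (nat_lit 48) (nat_lit 1),
  Rule.mk (nat_lit 8) (nat_lit 74) (Steps.bwd (nat_lit 7) (Steps.fwd (nat_lit 2097152) (Steps.fwd (nat_lit 1310720) Steps.nil))) (nat_lit 98) (nat_lit 1),
  Rule.mk (nat_lit 9) (nat_lit 94) (Steps.fwd (nat_lit 1310720) (Steps.bwd (nat_lit 7) (Steps.fwd (nat_lit 2359296) (Steps.fwd (nat_lit 1310720) Steps.nil)))) (nat_lit 100) (nat_lit 3),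
  Rule.mk (nat_lit 9) (nat_lit 74) (Steps.bwd (nat_lit 3) (Steps.fwd (nat_lit 2359296) (Steps.bwd (nat_lit 2) Steps.nil))) (nat_lit 96) (nat_lit 3),
  Rule.mk (nat_lit 8) (nat_lit 74) (Steps.bwd (nat_lit 3) (Steps.bwd (nat_lit 9) (Steps.bwd (nat_lit 2) Steps.nil))) (nat_lit 97) (nat_lit 2),
  Rule.mk (nat_lit 1) (nat_lit 114) (Steps.bwd (nat_lit 3) (Steps.bwd (nat_lit 9) (Steps.fwd (nat_lit 262144) (Steps.fwd (nat_lit 2359296) (Steps.fwd (nat_lit 786432) Steps.nil))))) (nat_lit 104) (nat_lit 3),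
  Rule.mk (nat_lit 3) (nat_lit 54) (Steps.bwd (nat_lit 3) (Steps.fwd (nat_lit 524288) Steps.nil)) (nat_lit 3) (nat_lit 0),
  Rule.mk (nat_lit 9) (nat_lit 74) (Steps.bwd (nat_lit 3) (Steps.bwd (nat_lit 8) (Steps.fwd (nat_lit 786432) Steps.nil))) (nat_lit 96) (nat_lit 3),
  Rule.mk (nat_lit 2) (nat_lit 74) (Steps.bwd (nat_lit 7) (Steps.bwd (nat_lit 3) (Steps.bwd (nat_lit 7) Steps.nil))) (nat_lit 28) (nat_lit 2),
  Rule.mk (nat_lit 3) (nat_lit 74) (Steps.bwd (nat_lit 7) (Steps.fwd (nat_lit 786432) (Steps.fwd (nat_lit 1835008) Steps.nil))) (nat_lit 28) (nat_lit 0),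
  Rule.mk (nat_lit 8) (nat_lit 74) (Steps.bwd (nat_lit 7) (Steps.fwd (nat_lit 2097152) (Steps.bwd (nat_lit 5) Steps.nil))) (nat_lit 98) (nat_lit 1),
  Rule.mk (nat_lit 5) (nat_lit 94) (Steps.bwd (nat_lit 7) (Steps.fwd (nat_lit 1572864) (Steps.fwd (nat_lit 1310720) (Steps.bwd (nat_lit 6) Steps.nil)))) (nat_lit 24) (nat_lit 4)]
noncomputable def R_1 : List (Rule) := [Rule.mk (nat_lit 8) (nat_lit 74) (Steps.fwd (nat_lit 1835008) (Steps.bwd (nat_lit 9) (Steps.bwd (nat_lit 5) Steps.nil))) (nat_lit 98) (nat_lit 1),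
  Rule.mk (nat_lit 3) (nat_lit 114) (Steps.bwd (nat_lit 1) (Steps.bwd (nat_lit 3) (Steps.fwd (nat_lit 262144) (Steps.bwd (nat_lit 3) (Steps.fwd (nat_lit 262144) Steps.nil))))) (nat_lit 13) (nat_lit 1),
  Rule.mk (nat_lit 4) (nat_lit 114) (Steps.bwd (nat_lit 1) (Steps.fwd (nat_lit 1048576) (Steps.bwd (nat_lit 1) (Steps.fwd (nat_lit 1048576) (Steps.fwd (nat_lit 262144) Steps.nil))))) (nat_lit 16) (nat_lit 0),
  Rule.mk (nat_lit 5) (nat_lit 74) (Steps.bwd (nat_lit 1) (Steps.bwd (nat_lit 5) (Steps.fwd (nat_lit 262144) Steps.nil))) (nat_lit 18) (nat_lit 0),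
  Rule.mk (nat_lit 4) (nat_lit 74) (Steps.bwd (nat_lit 2) (Steps.bwd (nat_lit 4) (Steps.fwd (nat_lit 786432) Steps.nil))) (nat_lit 14) (nat_lit 1),
  Rule.mk (nat_lit 6) (nat_lit 74) (Steps.bwd (nat_lit 2) (Steps.fwd (nat_lit 1572864) (Steps.bwd (nat_lit 3) Steps.nil))) (nat_lit 40) (nat_lit 0),
  Rule.mk (nat_lit 5) (nat_lit 94) (Steps.bwd (nat_lit 6) (Steps.fwd (nat_lit 1310720) (Steps.fwd (nat_lit 1835008) (Steps.bwd (nat_lit 6) Steps.nil)))) (nat_lit 24) (nat_lit 2),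
  Rule.mk (nat_lit 5) (nat_lit 74) (Steps.bwd (nat_lit 3) (Steps.fwd (nat_lit 1310720) (Steps.bwd (nat_lit 2) Steps.nil))) (nat_lit 20) (nat_lit 2),
  Rule.mk (nat_lit 6) (nat_lit 74) (Steps.bwd (nat_lit 3) (Steps.bwd (nat_lit 6) (Steps.fwd (nat_lit 786432) Steps.nil))) (nat_lit 40) (nat_lit 2),
  Rule.mk (nat_lit 4) (nat_lit 114) (Steps.bwd (nat_lit 3) (Steps.bwd (nat_lit 6) (Steps.fwd (nat_lit 1048576) (Steps.fwd (nat_lit 524288) (Steps.bwd (nat_lit 5) Steps.nil))))) (nat_lit 55) (nat_lit 5),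
  Rule.mk (nat_lit 4) (nat_lit 74) (Steps.bwd (nat_lit 3) (Steps.fwd (nat_lit 1048576) (Steps.bwd (nat_lit 3) Steps.nil))) (nat_lit 15) (nat_lit 0),
  Rule.mk (nat_lit 5) (nat_lit 74) (Steps.bwd (nat_lit 3) (Steps.bwd (nat_lit 5) (Steps.fwd (nat_lit 786432) Steps.nil))) (nat_lit 20) (nat_lit 2),
  Rule.mk (nat_lit 4) (nat_lit 74) (Steps.bwd (nat_lit 6) (Steps.fwd (nat_lit 1048576) (Steps.bwd (nat_lit 5) Steps.nil))) (nat_lit 22) (nat_lit 3),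
  Rule.mk (nat_lit 1) (nat_lit 154) (Steps.fwd (nat_lit 786432) (Steps.bwd (nat_lit 1) (Steps.fwd (nat_lit 1835008) (Steps.fwd (nat_lit 786432) (Steps.bwd (nat_lit 1) (Steps.bwd (nat_lit 2) (Steps.fwd (nat_lit 1835008) Steps.nil))))))) (nat_lit 72) (nat_lit 1),
  Rule.mk (nat_lit 1) (nat_lit 274) (Steps.fwd (nat_lit 1572864) (Steps.fwd (nat_lit 262144) (Steps.fwd (nat_lit 786432) (Steps.bwd (nat_lit 1) (Steps.fwd (nat_lit 1572864) (Steps.fwd (nat_lit 262144) (Steps.fwd (nat_lit 786432) (Steps.fwd (nat_lit 262144) (Steps.fwd (nat_lit 1572864) (Steps.bwd (nat_lit 1) (Steps.bwd (nat_lit 6) (Steps.fwd (nat_lit 1310720) (Steps.fwd (nat_lit 786432) Steps.nil))))))))))))) (nat_lit 34) (nat_lit 2),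
  Rule.mk (nat_lit 1) (nat_lit 74) (Steps.bwd (nat_lit 5) (Steps.fwd (nat_lit 262144) (Steps.fwd (nat_lit 1310720) Steps.nil))) (nat_lit 18) (nat_lit 1),
  Rule.mk (nat_lit 2) (nat_lit 74) (Steps.bwd (nat_lit 5) (Steps.fwd (nat_lit 524288) (Steps.fwd (nat_lit 1310720) Steps.nil))) (nat_lit 20) (nat_lit 1),
  Rule.mk (nat_lit 6) (nat_lit 94) (Steps.bwd (nat_lit 5) (Steps.fwd (nat_lit 1835008) (Steps.bwd (nat_lit 6) (Steps.bwd (nat_lit 5) Steps.nil)))) (nat_lit 24) (nat_lit 3),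
  Rule.mk (nat_lit 4) (nat_lit 114) (Steps.bwd (nat_lit 5) (Steps.fwd (nat_lit 786432) (Steps.fwd (nat_lit 1048576) (Steps.fwd (nat_lit 1572864) (Steps.bwd (nat_lit 2) Steps.nil))))) (nat_lit 54) (nat_lit 2),
  Rule.mk (nat_lit 9) (nat_lit 114) (Steps.bwd (nat_lit 1) (Steps.bwd (nat_lit 8) (Steps.fwd (nat_lit 786432) (Steps.fwd (nat_lit 262144) (Steps.bwd (nat_lit 3) Steps.nil))))) (nat_lit 104) (nat_lit 5),
  Rule.mk (nat_lit 9) (nat_lit 94) (Steps.fwd (nat_lit 1310720) (Steps.bwd (nat_lit 7) (Steps.fwd (nat_lit 2359296) (Steps.bwd (nat_lit 5) Steps.nil)))) (nat_lit 100) (nat_lit 3),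
  Rule.mk (nat_lit 7) (nat_lit 74) (Steps.bwd (nat_lit 2) (Steps.bwd (nat_lit 7) (Steps.bwd (nat_lit 3) Steps.nil))) (nat_lit 28) (nat_lit 1),
  Rule.mk (nat_lit 9) (nat_lit 74) (Steps.bwd (nat_lit 2) (Steps.fwd (nat_lit 2359296) (Steps.bwd (nat_lit 3) Steps.nil))) (nat_lit 97) (nat_lit 0),
  Rule.mk (nat_lit 1) (nat_lit 114) (Steps.bwd (nat_lit 2) (Steps.fwd (nat_lit 262144) (Steps.fwd (nat_lit 786432) (Steps.fwd (nat_lit 262144) (Steps.fwd (nat_lit 786432) Steps.nil))))) (nat_lit 12) (nat_lit 1),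
  Rule.mk (nat_lit 6) (nat_lit 94) (Steps.bwd (nat_lit 5) (Steps.fwd (nat_lit 1572864) (Steps.fwd (nat_lit 1310720) (Steps.fwd (nat_lit 1835008) Steps.nil)))) (nat_lit 24) (nat_lit 1),
  Rule.mk (nat_lit 8) (nat_lit 94) (Steps.bwd (nat_lit 5) (Steps.bwd (nat_lit 9) (Steps.bwd (nat_lit 5) (Steps.fwd (nat_lit 1835008) Steps.nil)))) (nat_lit 100) (nat_lit 1),
  Rule.mk (nat_lit 6) (nat_lit 74) (Steps.bwd (nat_lit 3) (Steps.fwd (nat_lit 1572864) (Steps.bwd (nat_lit 2) Steps.nil))) (nat_lit 40) (nat_lit 2),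
  Rule.mk (nat_lit 1) (nat_lit 114) (Steps.bwd (nat_lit 3) (Steps.bwd (nat_lit 9) (Steps.fwd (nat_lit 262144) (Steps.bwd (nat_lit 8) (Steps.bwd (nat_lit 2) Steps.nil))))) (nat_lit 104) (nat_lit 3),
  Rule.mk (nat_lit 2) (nat_lit 54) (Steps.bwd (nat_lit 2) (Steps.bwd (nat_lit 2) Steps.nil)) (nat_lit 2) (nat_lit 0),
  Rule.mk (nat_lit 8) (nat_lit 74) (Steps.bwd (nat_lit 2) (Steps.fwd (nat_lit 2097152) (Steps.bwd (nat_lit 3) Steps.nil))) (nat_lit 96) (nat_lit 1),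
  Rule.mk (nat_lit 2) (nat_lit 54) (Steps.bwd (nat_lit 2) (Steps.fwd (nat_lit 786432) Steps.nil)) (nat_lit 2) (nat_lit 0),
  Rule.mk (nat_lit 7) (nat_lit 74) (Steps.bwd (nat_lit 2) (Steps.bwd (nat_lit 7) (Steps.fwd (nat_lit 524288) Steps.nil))) (nat_lit 28) (nat_lit 1),
  Rule.mk (nat_lit 6) (nat_lit 74) (Steps.bwd (nat_lit 2) (Steps.bwd (nat_lit 6) (Steps.fwd (nat_lit 524288) Steps.nil))) (nat_lit 40) (nat_lit 0),
  Rule.mk (nat_lit 9) (nat_lit 74) (Steps.bwd (nat_lit 2) (Steps.fwd (nat_lit 2359296) (Steps.fwd (nat_lit 524288) Steps.nil))) (nat_lit 97) (nat_lit 0),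
  Rule.mk (nat_lit 1) (nat_lit 114) (Steps.bwd (nat_lit 2) (Steps.bwd (nat_lit 1) (Steps.fwd (nat_lit 786432) (Steps.bwd (nat_lit 1) (Steps.bwd (nat_lit 2) Steps.nil))))) (nat_lit 12) (nat_lit 1),
  Rule.mk (nat_lit 3) (nat_lit 74) (Steps.bwd (nat_lit 6) (Steps.bwd (nat_lit 2) (Steps.fwd (nat_lit 1572864) Steps.nil))) (nat_lit 40) (nat_lit 3),
  Rule.mk (nat_lit 2) (nat_lit 74) (Steps.bwd (nat_lit 6) (Steps.fwd (nat_lit 524288) (Steps.fwd (nat_lit 1572864) Steps.nil))) (nat_lit 40) (nat_lit 1),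
  Rule.mk (nat_lit 7) (nat_lit 74) (Steps.bwd (nat_lit 6) (Steps.fwd (nat_lit 1835008) (Steps.bwd (nat_lit 6) Steps.nil))) (nat_lit 48) (nat_lit 0),
  Rule.mk (nat_lit 9) (nat_lit 74) (Steps.bwd (nat_lit 6) (Steps.fwd (nat_lit 2097152) (Steps.fwd (nat_lit 1572864) Steps.nil))) (nat_lit 103) (nat_lit 1),
  Rule.mk (nat_lit 5) (nat_lit 94) (Steps.bwd (nat_lit 6) (Steps.fwd (nat_lit 1310720) (Steps.bwd (nat_lit 7) (Steps.fwd (nat_lit 1572864) Steps.nil)))) (nat_lit 24) (nat_lit 2),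
  Rule.mk (nat_lit 1) (nat_lit 114) (Steps.fwd (nat_lit 1310720) (Steps.fwd (nat_lit 1835008) (Steps.fwd (nat_lit 262144) (Steps.fwd (nat_lit 1310720) (Steps.bwd (nat_lit 7) Steps.nil))))) (nat_lit 52) (nat_lit 1),
  Rule.mk (nat_lit 9) (nat_lit 114) (Steps.bwd (nat_lit 1) (Steps.bwd (nat_lit 8) (Steps.fwd (nat_lit 786432) (Steps.bwd (nat_lit 1) (Steps.bwd (nat_lit 3) Steps.nil))))) (nat_lit 104) (nat_lit 5),
  Rule.mk (nat_lit 1) (nat_lit 114) (Steps.bwd (nat_lit 3) (Steps.bwd (nat_lit 1) (Steps.bwd (nat_lit 3) (Steps.fwd (nat_lit 262144) (Steps.bwd (nat_lit 3) Steps.nil))))) (nat_lit 13) (nat_lit 0),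
  Rule.mk (nat_lit 9) (nat_lit 74) (Steps.bwd (nat_lit 5) (Steps.fwd (nat_lit 2359296) (Steps.fwd (nat_lit 1835008) Steps.nil))) (nat_lit 98) (nat_lit 3),
  Rule.mk (nat_lit 7) (nat_lit 94) (Steps.fwd (nat_lit 2359296) (Steps.fwd (nat_lit 1310720) (Steps.bwd (nat_lit 9) (Steps.bwd (nat_lit 5) Steps.nil)))) (nat_lit 100) (nat_lit 0),
  Rule.mk (nat_lit 8) (nat_lit 94) (Steps.bwd (nat_lit 5) (Steps.fwd (nat_lit 2097152) (Steps.fwd (nat_lit 1310720) (Steps.fwd (nat_lit 1835008) Steps.nil)))) (nat_lit 100) (nat_lit 1),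
  Rule.mk (nat_lit 5) (nat_lit 74) (Steps.bwd (nat_lit 2) (Steps.bwd (nat_lit 5) (Steps.bwd (nat_lit 3) Steps.nil))) (nat_lit 20) (nat_lit 0),
  Rule.mk (nat_lit 7) (nat_lit 74) (Steps.bwd (nat_lit 2) (Steps.fwd (nat_lit 1835008) (Steps.bwd (nat_lit 3) Steps.nil))) (nat_lit 28) (nat_lit 1),
  Rule.mk (nat_lit 8) (nat_lit 74) (Steps.bwd (nat_lit 2) (Steps.fwd (nat_lit 2097152) (Steps.fwd (nat_lit 524288) Steps.nil))) (nat_lit 96) (nat_lit 1),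
  Rule.mk (nat_lit 1) (nat_lit 114) (Steps.bwd (nat_lit 2) (Steps.fwd (nat_lit 262144) (Steps.bwd (nat_lit 2) (Steps.fwd (nat_lit 262144) (Steps.fwd (nat_lit 786432) Steps.nil))))) (nat_lit 12) (nat_lit 1),
  Rule.mk (nat_lit 8) (nat_lit 54) (Steps.bwd (nat_lit 8) (Steps.bwd (nat_lit 8) Steps.nil)) (nat_lit 94) (nat_lit 0),
  Rule.mk (nat_lit 6) (nat_lit 74) (Steps.bwd (nat_lit 8) (Steps.fwd (nat_lit 1572864) (Steps.bwd (nat_lit 8) Steps.nil))) (nat_lit 102) (nat_lit 1),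
  Rule.mk (nat_lit 9) (nat_lit 54) (Steps.bwd (nat_lit 9) (Steps.fwd (nat_lit 2097152) Steps.nil)) (nat_lit 95) (nat_lit 0),
  Rule.mk (nat_lit 7) (nat_lit 74) (Steps.bwd (nat_lit 9) (Steps.fwd (nat_lit 1310720) (Steps.bwd (nat_lit 8) Steps.nil))) (nat_lit 98) (nat_lit 2),
  Rule.mk (nat_lit 5) (nat_lit 94) (Steps.bwd (nat_lit 9) (Steps.fwd (nat_lit 1310720) (Steps.bwd (nat_lit 7) (Steps.fwd (nat_lit 2359296) Steps.nil)))) (nat_lit 100) (nat_lit 2),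
  Rule.mk (nat_lit 1) (nat_lit 274) (Steps.fwd (nat_lit 1572864) (Steps.fwd (nat_lit 1310720) (Steps.fwd (nat_lit 786432) (Steps.fwd (nat_lit 262144) (Steps.fwd (nat_lit 1572864) (Steps.bwd (nat_lit 1) (Steps.bwd (nat_lit 2) (Steps.fwd (nat_lit 262144) (Steps.bwd (nat_lit 6) (Steps.fwd (nat_lit 262144) (Steps.fwd (nat_lit 786432) (Steps.fwd (nat_lit 262144) (Steps.bwd (nat_lit 6) Steps.nil))))))))))))) (nat_lit 34) (nat_lit 12),
  Rule.mk (nat_lit 8) (nat_lit 54) (Steps.bwd (nat_lit 8) (Steps.fwd (nat_lit 2359296) Steps.nil)) (nat_lit 94) (nat_lit 0),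
  Rule.mk (nat_lit 2) (nat_lit 74) (Steps.bwd (nat_lit 8) (Steps.bwd (nat_lit 3) (Steps.bwd (nat_lit 9) Steps.nil))) (nat_lit 97) (nat_lit 1),
  Rule.mk (nat_lit 2) (nat_lit 74) (Steps.bwd (nat_lit 9) (Steps.fwd (nat_lit 524288) (Steps.bwd (nat_lit 8) Steps.nil))) (nat_lit 96) (nat_lit 2),
  Rule.mk (nat_lit 7) (nat_lit 74) (Steps.bwd (nat_lit 9) (Steps.bwd (nat_lit 5) (Steps.bwd (nat_lit 8) Steps.nil))) (nat_lit 98) (nat_lit 2),
  Rule.mk (nat_lit 5) (nat_lit 94) (Steps.bwd (nat_lit 9) (Steps.bwd (nat_lit 5) (Steps.bwd (nat_lit 7) (Steps.fwd (nat_lit 2359296) Steps.nil)))) (nat_lit 100) (nat_lit 2),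
  Rule.mk (nat_lit 3) (nat_lit 74) (Steps.bwd (nat_lit 8) (Steps.bwd (nat_lit 2) (Steps.fwd (nat_lit 2097152) Steps.nil))) (nat_lit 96) (nat_lit 0),
  Rule.mk (nat_lit 2) (nat_lit 74) (Steps.bwd (nat_lit 9) (Steps.bwd (nat_lit 3) (Steps.bwd (nat_lit 8) Steps.nil))) (nat_lit 96) (nat_lit 2),
  Rule.mk (nat_lit 3) (nat_lit 74) (Steps.bwd (nat_lit 9) (Steps.bwd (nat_lit 2) (Steps.fwd (nat_lit 2359296) Steps.nil))) (nat_lit 97) (nat_lit 3)]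
noncomputable def R_2 : List (Rule) := [Rule.mk (nat_lit 3) (nat_lit 74) (Steps.bwd (nat_lit 9) (Steps.fwd (nat_lit 786432) (Steps.fwd (nat_lit 2359296) Steps.nil))) (nat_lit 97) (nat_lit 3),
  Rule.mk (nat_lit 1) (nat_lit 114) (Steps.fwd (nat_lit 524288) (Steps.fwd (nat_lit 262144) (Steps.bwd (nat_lit 3) (Steps.fwd (nat_lit 262144) (Steps.bwd (nat_lit 3) Steps.nil))))) (nat_lit 13) (nat_lit 0),
  Rule.mk (nat_lit 4) (nat_lit 114) (Steps.bwd (nat_lit 1) (Steps.fwd (nat_lit 1048576) (Steps.fwd (nat_lit 262144) (Steps.bwd (nat_lit 4) (Steps.fwd (nat_lit 262144) Steps.nil))))) (nat_lit 16) (nat_lit 0),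
  Rule.mk (nat_lit 6) (nat_lit 154) (Steps.bwd (nat_lit 1) (Steps.fwd (nat_lit 1048576) (Steps.fwd (nat_lit 262144) (Steps.fwd (nat_lit 1572864) (Steps.fwd (nat_lit 262144) (Steps.bwd (nat_lit 4) (Steps.fwd (nat_lit 262144) Steps.nil))))))) (nat_lit 74) (nat_lit 0),
  Rule.mk (nat_lit 4) (nat_lit 114) (Steps.bwd (nat_lit 1) (Steps.bwd (nat_lit 4) (Steps.bwd (nat_lit 1) (Steps.fwd (nat_lit 1048576) (Steps.fwd (nat_lit 262144) Steps.nil))))) (nat_lit 16) (nat_lit 0),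
  Rule.mk (nat_lit 6) (nat_lit 154) (Steps.bwd (nat_lit 1) (Steps.bwd (nat_lit 4) (Steps.bwd (nat_lit 1) (Steps.fwd (nat_lit 1572864) (Steps.fwd (nat_lit 262144) (Steps.fwd (nat_lit 1048576) (Steps.fwd (nat_lit 262144) Steps.nil))))))) (nat_lit 74) (nat_lit 0),
  Rule.mk (nat_lit 6) (nat_lit 274) (Steps.bwd (nat_lit 1) (Steps.bwd (nat_lit 6) (Steps.fwd (nat_lit 1310720) (Steps.fwd (nat_lit 786432) (Steps.bwd (nat_lit 1) (Steps.fwd (nat_lit 1572864) (Steps.fwd (nat_lit 262144) (Steps.bwd (nat_lit 2) (Steps.fwd (nat_lit 262144) (Steps.fwd (nat_lit 1572864) (Steps.bwd (nat_lit 1) (Steps.fwd (nat_lit 786432) (Steps.fwd (nat_lit 262144) Steps.nil))))))))))))) (nat_lit 34) (nat_lit 11),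
  Rule.mk (nat_lit 6) (nat_lit 154) (Steps.bwd (nat_lit 1) (Steps.fwd (nat_lit 1048576) (Steps.bwd (nat_lit 1) (Steps.bwd (nat_lit 6) (Steps.bwd (nat_lit 1) (Steps.fwd (nat_lit 1048576) (Steps.fwd (nat_lit 262144) Steps.nil))))))) (nat_lit 74) (nat_lit 0),
  Rule.mk (nat_lit 1) (nat_lit 114) (Steps.bwd (nat_lit 3) (Steps.bwd (nat_lit 1) (Steps.bwd (nat_lit 3) (Steps.bwd (nat_lit 1) (Steps.bwd (nat_lit 3) Steps.nil))))) (nat_lit 13) (nat_lit 0),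
  Rule.mk (nat_lit 9) (nat_lit 114) (Steps.bwd (nat_lit 1) (Steps.bwd (nat_lit 8) (Steps.bwd (nat_lit 2) (Steps.bwd (nat_lit 1) (Steps.bwd (nat_lit 3) Steps.nil))))) (nat_lit 104) (nat_lit 5),
  Rule.mk (nat_lit 1) (nat_lit 74) (Steps.bwd (nat_lit 5) (Steps.bwd (nat_lit 1) (Steps.bwd (nat_lit 5) Steps.nil))) (nat_lit 18) (nat_lit 1),
  Rule.mk (nat_lit 4) (nat_lit 74) (Steps.bwd (nat_lit 2) (Steps.fwd (nat_lit 1048576) (Steps.fwd (nat_lit 786432) Steps.nil))) (nat_lit 14) (nat_lit 1),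
  Rule.mk (nat_lit 6) (nat_lit 74) (Steps.bwd (nat_lit 2) (Steps.fwd (nat_lit 1572864) (Steps.fwd (nat_lit 524288) Steps.nil))) (nat_lit 40) (nat_lit 0),
  Rule.mk (nat_lit 1) (nat_lit 114) (Steps.bwd (nat_lit 8) (Steps.bwd (nat_lit 2) (Steps.fwd (nat_lit 262144) (Steps.bwd (nat_lit 3) (Steps.bwd (nat_lit 9) Steps.nil))))) (nat_lit 104) (nat_lit 0),
  Rule.mk (nat_lit 3) (nat_lit 114) (Steps.bwd (nat_lit 1) (Steps.fwd (nat_lit 524288) (Steps.fwd (nat_lit 262144) (Steps.bwd (nat_lit 3) (Steps.bwd (nat_lit 1) Steps.nil))))) (nat_lit 13) (nat_lit 1),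
  Rule.mk (nat_lit 6) (nat_lit 274) (Steps.bwd (nat_lit 1) (Steps.fwd (nat_lit 1572864) (Steps.fwd (nat_lit 1310720) (Steps.bwd (nat_lit 2) (Steps.fwd (nat_lit 262144) (Steps.bwd (nat_lit 6) (Steps.fwd (nat_lit 262144) (Steps.fwd (nat_lit 786432) (Steps.fwd (nat_lit 262144) (Steps.bwd (nat_lit 6) (Steps.bwd (nat_lit 1) (Steps.bwd (nat_lit 2) (Steps.fwd (nat_lit 262144) Steps.nil))))))))))))) (nat_lit 34) (nat_lit 11),
  Rule.mk (nat_lit 1) (nat_lit 74) (Steps.bwd (nat_lit 5) (Steps.bwd (nat_lit 1) (Steps.fwd (nat_lit 1310720) Steps.nil))) (nat_lit 18) (nat_lit 1),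
  Rule.mk (nat_lit 5) (nat_lit 94) (Steps.bwd (nat_lit 6) (Steps.bwd (nat_lit 5) (Steps.bwd (nat_lit 7) (Steps.fwd (nat_lit 1572864) Steps.nil)))) (nat_lit 24) (nat_lit 2),
  Rule.mk (nat_lit 1) (nat_lit 274) (Steps.bwd (nat_lit 6) (Steps.fwd (nat_lit 262144) (Steps.fwd (nat_lit 1572864) (Steps.fwd (nat_lit 1310720) (Steps.fwd (nat_lit 786432) (Steps.fwd (nat_lit 262144) (Steps.bwd (nat_lit 6) (Steps.fwd (nat_lit 262144) (Steps.fwd (nat_lit 786432) (Steps.bwd (nat_lit 1) (Steps.bwd (nat_lit 6) (Steps.fwd (nat_lit 262144) (Steps.bwd (nat_lit 2) Steps.nil))))))))))))) (nat_lit 34) (nat_lit 10),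
  Rule.mk (nat_lit 1) (nat_lit 114) (Steps.bwd (nat_lit 3) (Steps.fwd (nat_lit 262144) (Steps.fwd (nat_lit 524288) (Steps.bwd (nat_lit 1) (Steps.bwd (nat_lit 3) Steps.nil))))) (nat_lit 13) (nat_lit 0),
  Rule.mk (nat_lit 8) (nat_lit 114) (Steps.fwd (nat_lit 786432) (Steps.bwd (nat_lit 1) (Steps.fwd (nat_lit 524288) (Steps.fwd (nat_lit 2097152) (Steps.bwd (nat_lit 1) Steps.nil))))) (nat_lit 104) (nat_lit 1),
  Rule.mk (nat_lit 9) (nat_lit 54) (Steps.fwd (nat_lit 2097152) (Steps.bwd (nat_lit 9) Steps.nil)) (nat_lit 95) (nat_lit 0),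
  Rule.mk (nat_lit 2) (nat_lit 154) (Steps.bwd (nat_lit 1) (Steps.bwd (nat_lit 3) (Steps.bwd (nat_lit 1) (Steps.fwd (nat_lit 786432) (Steps.fwd (nat_lit 262144) (Steps.fwd (nat_lit 524288) (Steps.bwd (nat_lit 1) Steps.nil))))))) (nat_lit 68) (nat_lit 2),
  Rule.mk (nat_lit 6) (nat_lit 274) (Steps.bwd (nat_lit 1) (Steps.bwd (nat_lit 3) (Steps.fwd (nat_lit 1310720) (Steps.fwd (nat_lit 1572864) (Steps.fwd (nat_lit 262144) (Steps.fwd (nat_lit 1572864) (Steps.fwd (nat_lit 262144) (Steps.bwd (nat_lit 3) (Steps.fwd (nat_lit 262144) (Steps.bwd (nat_lit 6) (Steps.bwd (nat_lit 1) (Steps.bwd (nat_lit 3) (Steps.bwd (nat_lit 1) Steps.nil))))))))))))) (nat_lit 35) (nat_lit 12),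
  Rule.mk (nat_lit 7) (nat_lit 74) (Steps.fwd (nat_lit 1572864) (Steps.bwd (nat_lit 7) (Steps.bwd (nat_lit 6) Steps.nil))) (nat_lit 48) (nat_lit 0),
  Rule.mk (nat_lit 9) (nat_lit 74) (Steps.fwd (nat_lit 1572864) (Steps.fwd (nat_lit 2097152) (Steps.bwd (nat_lit 6) Steps.nil))) (nat_lit 103) (nat_lit 1),
  Rule.mk (nat_lit 5) (nat_lit 94) (Steps.fwd (nat_lit 1835008) (Steps.fwd (nat_lit 1572864) (Steps.fwd (nat_lit 1310720) (Steps.bwd (nat_lit 6) Steps.nil)))) (nat_lit 24) (nat_lit 4),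
  Rule.mk (nat_lit 2) (nat_lit 114) (Steps.bwd (nat_lit 1) (Steps.bwd (nat_lit 2) (Steps.fwd (nat_lit 262144) (Steps.fwd (nat_lit 786432) (Steps.fwd (nat_lit 262144) Steps.nil))))) (nat_lit 12) (nat_lit 0),
  Rule.mk (nat_lit 3) (nat_lit 114) (Steps.bwd (nat_lit 1) (Steps.fwd (nat_lit 524288) (Steps.fwd (nat_lit 262144) (Steps.fwd (nat_lit 524288) (Steps.bwd (nat_lit 1) Steps.nil))))) (nat_lit 13) (nat_lit 1),
  Rule.mk (nat_lit 5) (nat_lit 74) (Steps.bwd (nat_lit 2) (Steps.fwd (nat_lit 1310720) (Steps.bwd (nat_lit 3) Steps.nil))) (nat_lit 20) (nat_lit 0),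
  Rule.mk (nat_lit 1) (nat_lit 114) (Steps.bwd (nat_lit 2) (Steps.bwd (nat_lit 1) (Steps.fwd (nat_lit 786432) (Steps.fwd (nat_lit 262144) (Steps.bwd (nat_lit 2) Steps.nil))))) (nat_lit 12) (nat_lit 1),
  Rule.mk (nat_lit 8) (nat_lit 114) (Steps.bwd (nat_lit 2) (Steps.bwd (nat_lit 1) (Steps.fwd (nat_lit 524288) (Steps.fwd (nat_lit 2097152) (Steps.bwd (nat_lit 1) Steps.nil))))) (nat_lit 104) (nat_lit 1),
  Rule.mk (nat_lit 8) (nat_lit 54) (Steps.fwd (nat_lit 2359296) (Steps.bwd (nat_lit 8) Steps.nil)) (nat_lit 94) (nat_lit 0),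
  Rule.mk (nat_lit 1) (nat_lit 274) (Steps.bwd (nat_lit 6) (Steps.fwd (nat_lit 1310720) (Steps.fwd (nat_lit 786432) (Steps.fwd (nat_lit 262144) (Steps.fwd (nat_lit 1572864) (Steps.bwd (nat_lit 1) (Steps.fwd (nat_lit 786432) (Steps.bwd (nat_lit 1) (Steps.bwd (nat_lit 6) (Steps.bwd (nat_lit 1) (Steps.bwd (nat_lit 2) (Steps.fwd (nat_lit 262144) (Steps.bwd (nat_lit 6) Steps.nil))))))))))))) (nat_lit 34) (nat_lit 12),
  Rule.mk (nat_lit 2) (nat_lit 74) (Steps.bwd (nat_lit 9) (Steps.bwd (nat_lit 3) (Steps.fwd (nat_lit 2359296) Steps.nil))) (nat_lit 96) (nat_lit 2),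
  Rule.mk (nat_lit 6) (nat_lit 74) (Steps.bwd (nat_lit 9) (Steps.bwd (nat_lit 6) (Steps.bwd (nat_lit 9) Steps.nil))) (nat_lit 103) (nat_lit 0),
  Rule.mk (nat_lit 3) (nat_lit 74) (Steps.bwd (nat_lit 8) (Steps.bwd (nat_lit 2) (Steps.bwd (nat_lit 9) Steps.nil))) (nat_lit 96) (nat_lit 0),
  Rule.mk (nat_lit 5) (nat_lit 74) (Steps.bwd (nat_lit 8) (Steps.fwd (nat_lit 1835008) (Steps.bwd (nat_lit 9) Steps.nil))) (nat_lit 98) (nat_lit 0),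
  Rule.mk (nat_lit 7) (nat_lit 94) (Steps.bwd (nat_lit 8) (Steps.bwd (nat_lit 5) (Steps.bwd (nat_lit 9) (Steps.bwd (nat_lit 5) Steps.nil)))) (nat_lit 100) (nat_lit 0),
  Rule.mk (nat_lit 1) (nat_lit 114) (Steps.bwd (nat_lit 8) (Steps.bwd (nat_lit 2) (Steps.bwd (nat_lit 1) (Steps.bwd (nat_lit 3) (Steps.bwd (nat_lit 9) Steps.nil))))) (nat_lit 104) (nat_lit 0),
  Rule.mk (nat_lit 2) (nat_lit 74) (Steps.bwd (nat_lit 4) (Steps.fwd (nat_lit 786432) (Steps.bwd (nat_lit 4) Steps.nil))) (nat_lit 14) (nat_lit 0),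
  Rule.mk (nat_lit 3) (nat_lit 74) (Steps.bwd (nat_lit 4) (Steps.fwd (nat_lit 524288) (Steps.fwd (nat_lit 1048576) Steps.nil))) (nat_lit 15) (nat_lit 1),
  Rule.mk (nat_lit 5) (nat_lit 74) (Steps.bwd (nat_lit 4) (Steps.fwd (nat_lit 1572864) (Steps.fwd (nat_lit 1048576) Steps.nil))) (nat_lit 22) (nat_lit 2),
  Rule.mk (nat_lit 6) (nat_lit 74) (Steps.bwd (nat_lit 4) (Steps.fwd (nat_lit 1310720) (Steps.bwd (nat_lit 4) Steps.nil))) (nat_lit 22) (nat_lit 0),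
  Rule.mk (nat_lit 8) (nat_lit 74) (Steps.fwd (nat_lit 786432) (Steps.bwd (nat_lit 9) (Steps.bwd (nat_lit 3) Steps.nil))) (nat_lit 96) (nat_lit 1),
  Rule.mk (nat_lit 1) (nat_lit 114) (Steps.bwd (nat_lit 4) (Steps.fwd (nat_lit 262144) (Steps.bwd (nat_lit 4) (Steps.fwd (nat_lit 262144) (Steps.bwd (nat_lit 4) Steps.nil))))) (nat_lit 16) (nat_lit 1),
  Rule.mk (nat_lit 3) (nat_lit 114) (Steps.fwd (nat_lit 262144) (Steps.fwd (nat_lit 524288) (Steps.fwd (nat_lit 262144) (Steps.bwd (nat_lit 3) (Steps.bwd (nat_lit 1) Steps.nil))))) (nat_lit 13) (nat_lit 1),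
  Rule.mk (nat_lit 8) (nat_lit 114) (Steps.bwd (nat_lit 2) (Steps.bwd (nat_lit 1) (Steps.bwd (nat_lit 3) (Steps.bwd (nat_lit 9) (Steps.bwd (nat_lit 1) Steps.nil))))) (nat_lit 104) (nat_lit 1),
  Rule.mk (nat_lit 4) (nat_lit 74) (Steps.bwd (nat_lit 7) (Steps.bwd (nat_lit 4) (Steps.fwd (nat_lit 1835008) Steps.nil))) (nat_lit 30) (nat_lit 0),
  Rule.mk (nat_lit 6) (nat_lit 74) (Steps.bwd (nat_lit 7) (Steps.fwd (nat_lit 1572864) (Steps.fwd (nat_lit 1835008) Steps.nil))) (nat_lit 48) (nat_lit 1),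
  Rule.mk (nat_lit 4) (nat_lit 74) (Steps.bwd (nat_lit 7) (Steps.fwd (nat_lit 1048576) (Steps.bwd (nat_lit 7) Steps.nil))) (nat_lit 30) (nat_lit 0),
  Rule.mk (nat_lit 5) (nat_lit 74) (Steps.bwd (nat_lit 7) (Steps.bwd (nat_lit 5) (Steps.bwd (nat_lit 7) Steps.nil))) (nat_lit 32) (nat_lit 0),
  Rule.mk (nat_lit 6) (nat_lit 94) (Steps.fwd (nat_lit 1310720) (Steps.fwd (nat_lit 1572864) (Steps.bwd (nat_lit 5) (Steps.bwd (nat_lit 7) Steps.nil)))) (nat_lit 24) (nat_lit 1),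
  Rule.mk (nat_lit 3) (nat_lit 74) (Steps.bwd (nat_lit 4) (Steps.bwd (nat_lit 3) (Steps.bwd (nat_lit 4) Steps.nil))) (nat_lit 15) (nat_lit 1),
  Rule.mk (nat_lit 7) (nat_lit 74) (Steps.bwd (nat_lit 4) (Steps.bwd (nat_lit 7) (Steps.bwd (nat_lit 4) Steps.nil))) (nat_lit 30) (nat_lit 1),
  Rule.mk (nat_lit 5) (nat_lit 74) (Steps.bwd (nat_lit 4) (Steps.bwd (nat_lit 6) (Steps.bwd (nat_lit 4) Steps.nil))) (nat_lit 22) (nat_lit 2),
  Rule.mk (nat_lit 7) (nat_lit 74) (Steps.bwd (nat_lit 5) (Steps.fwd (nat_lit 1835008) (Steps.bwd (nat_lit 5) Steps.nil))) (nat_lit 32) (nat_lit 1),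
  Rule.mk (nat_lit 6) (nat_lit 94) (Steps.bwd (nat_lit 5) (Steps.fwd (nat_lit 1835008) (Steps.fwd (nat_lit 1572864) (Steps.bwd (nat_lit 5) Steps.nil)))) (nat_lit 24) (nat_lit 3),
  Rule.mk (nat_lit 3) (nat_lit 74) (Steps.bwd (nat_lit 5) (Steps.bwd (nat_lit 2) (Steps.fwd (nat_lit 1310720) Steps.nil))) (nat_lit 20) (nat_lit 3),
  Rule.mk (nat_lit 2) (nat_lit 74) (Steps.bwd (nat_lit 5) (Steps.bwd (nat_lit 3) (Steps.fwd (nat_lit 1310720) Steps.nil))) (nat_lit 20) (nat_lit 1),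
  Rule.mk (nat_lit 2) (nat_lit 74) (Steps.bwd (nat_lit 4) (Steps.fwd (nat_lit 786432) (Steps.fwd (nat_lit 1048576) Steps.nil))) (nat_lit 14) (nat_lit 0),
  Rule.mk (nat_lit 3) (nat_lit 74) (Steps.bwd (nat_lit 4) (Steps.fwd (nat_lit 524288) (Steps.bwd (nat_lit 4) Steps.nil))) (nat_lit 15) (nat_lit 1),
  Rule.mk (nat_lit 5) (nat_lit 74) (Steps.bwd (nat_lit 4) (Steps.fwd (nat_lit 1572864) (Steps.bwd (nat_lit 4) Steps.nil))) (nat_lit 22) (nat_lit 2),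
  Rule.mk (nat_lit 4) (nat_lit 74) (Steps.bwd (nat_lit 7) (Steps.bwd (nat_lit 4) (Steps.bwd (nat_lit 7) Steps.nil))) (nat_lit 30) (nat_lit 0)]
noncomputable def R_3 : List (Rule) := [Rule.mk (nat_lit 4) (nat_lit 74) (Steps.bwd (nat_lit 2) (Steps.fwd (nat_lit 1048576) (Steps.bwd (nat_lit 2) Steps.nil))) (nat_lit 14) (nat_lit 1),
  Rule.mk (nat_lit 7) (nat_lit 74) (Steps.bwd (nat_lit 4) (Steps.fwd (nat_lit 1835008) (Steps.bwd (nat_lit 4) Steps.nil))) (nat_lit 30) (nat_lit 1),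
  Rule.mk (nat_lit 2) (nat_lit 74) (Steps.bwd (nat_lit 4) (Steps.bwd (nat_lit 2) (Steps.bwd (nat_lit 4) Steps.nil))) (nat_lit 14) (nat_lit 0),
  Rule.mk (nat_lit 4) (nat_lit 74) (Steps.bwd (nat_lit 5) (Steps.bwd (nat_lit 4) (Steps.bwd (nat_lit 6) Steps.nil))) (nat_lit 22) (nat_lit 1),
  Rule.mk (nat_lit 2) (nat_lit 74) (Steps.bwd (nat_lit 4) (Steps.bwd (nat_lit 2) (Steps.fwd (nat_lit 1048576) Steps.nil))) (nat_lit 14) (nat_lit 0),
  Rule.mk (nat_lit 4) (nat_lit 74) (Steps.bwd (nat_lit 6) (Steps.bwd (nat_lit 4) (Steps.bwd (nat_lit 5) Steps.nil))) (nat_lit 22) (nat_lit 3),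
  Rule.mk (nat_lit 7) (nat_lit 114) (Steps.fwd (nat_lit 1048576) (Steps.fwd (nat_lit 1310720) (Steps.bwd (nat_lit 7) (Steps.bwd (nat_lit 4) (Steps.bwd (nat_lit 6) Steps.nil))))) (nat_lit 66) (nat_lit 0),
  Rule.mk (nat_lit 6) (nat_lit 94) (Steps.bwd (nat_lit 5) (Steps.bwd (nat_lit 7) (Steps.bwd (nat_lit 6) (Steps.fwd (nat_lit 1310720) Steps.nil)))) (nat_lit 24) (nat_lit 3),
  Rule.mk (nat_lit 4) (nat_lit 74) (Steps.bwd (nat_lit 7) (Steps.fwd (nat_lit 1048576) (Steps.fwd (nat_lit 1835008) Steps.nil))) (nat_lit 30) (nat_lit 0),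
  Rule.mk (nat_lit 4) (nat_lit 74) (Steps.bwd (nat_lit 6) (Steps.fwd (nat_lit 1048576) (Steps.fwd (nat_lit 1310720) Steps.nil))) (nat_lit 22) (nat_lit 3),
  Rule.mk (nat_lit 7) (nat_lit 114) (Steps.fwd (nat_lit 786432) (Steps.bwd (nat_lit 6) (Steps.fwd (nat_lit 1835008) (Steps.bwd (nat_lit 3) (Steps.bwd (nat_lit 6) Steps.nil))))) (nat_lit 62) (nat_lit 0),
  Rule.mk (nat_lit 6) (nat_lit 94) (Steps.bwd (nat_lit 5) (Steps.fwd (nat_lit 1835008) (Steps.bwd (nat_lit 6) (Steps.fwd (nat_lit 1310720) Steps.nil)))) (nat_lit 24) (nat_lit 3),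
  Rule.mk (nat_lit 4) (nat_lit 74) (Steps.bwd (nat_lit 5) (Steps.fwd (nat_lit 1048576) (Steps.fwd (nat_lit 1572864) Steps.nil))) (nat_lit 22) (nat_lit 1),
  Rule.mk (nat_lit 4) (nat_lit 74) (Steps.bwd (nat_lit 2) (Steps.bwd (nat_lit 4) (Steps.bwd (nat_lit 2) Steps.nil))) (nat_lit 14) (nat_lit 1),
  Rule.mk (nat_lit 1) (nat_lit 74) (Steps.bwd (nat_lit 7) (Steps.bwd (nat_lit 1) (Steps.fwd (nat_lit 1835008) Steps.nil))) (nat_lit 26) (nat_lit 0),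
  Rule.mk (nat_lit 7) (nat_lit 74) (Steps.bwd (nat_lit 4) (Steps.bwd (nat_lit 7) (Steps.fwd (nat_lit 1048576) Steps.nil))) (nat_lit 30) (nat_lit 1),
  Rule.mk (nat_lit 1) (nat_lit 114) (Steps.bwd (nat_lit 4) (Steps.fwd (nat_lit 262144) (Steps.fwd (nat_lit 1048576) (Steps.fwd (nat_lit 262144) (Steps.bwd (nat_lit 4) Steps.nil))))) (nat_lit 16) (nat_lit 1),
  Rule.mk (nat_lit 1) (nat_lit 74) (Steps.bwd (nat_lit 7) (Steps.bwd (nat_lit 1) (Steps.bwd (nat_lit 7) Steps.nil))) (nat_lit 26) (nat_lit 0),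
  Rule.mk (nat_lit 5) (nat_lit 74) (Steps.bwd (nat_lit 7) (Steps.fwd (nat_lit 1310720) (Steps.bwd (nat_lit 7) Steps.nil))) (nat_lit 32) (nat_lit 0),
  Rule.mk (nat_lit 1) (nat_lit 114) (Steps.bwd (nat_lit 4) (Steps.bwd (nat_lit 1) (Steps.fwd (nat_lit 1048576) (Steps.bwd (nat_lit 1) (Steps.bwd (nat_lit 4) Steps.nil))))) (nat_lit 16) (nat_lit 1),
  Rule.mk (nat_lit 1) (nat_lit 74) (Steps.bwd (nat_lit 7) (Steps.fwd (nat_lit 262144) (Steps.bwd (nat_lit 7) Steps.nil))) (nat_lit 26) (nat_lit 0),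
  Rule.mk (nat_lit 1) (nat_lit 74) (Steps.bwd (nat_lit 5) (Steps.fwd (nat_lit 262144) (Steps.bwd (nat_lit 5) Steps.nil))) (nat_lit 18) (nat_lit 1),
  Rule.mk (nat_lit 6) (nat_lit 74) (Steps.bwd (nat_lit 4) (Steps.bwd (nat_lit 5) (Steps.bwd (nat_lit 4) Steps.nil))) (nat_lit 22) (nat_lit 0),
  Rule.mk (nat_lit 5) (nat_lit 74) (Steps.bwd (nat_lit 7) (Steps.bwd (nat_lit 5) (Steps.fwd (nat_lit 1835008) Steps.nil))) (nat_lit 32) (nat_lit 0),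
  Rule.mk (nat_lit 1) (nat_lit 114) (Steps.bwd (nat_lit 4) (Steps.fwd (nat_lit 262144) (Steps.fwd (nat_lit 1048576) (Steps.bwd (nat_lit 1) (Steps.fwd (nat_lit 1048576) Steps.nil))))) (nat_lit 16) (nat_lit 1),
  Rule.mk (nat_lit 1) (nat_lit 114) (Steps.bwd (nat_lit 4) (Steps.fwd (nat_lit 262144) (Steps.bwd (nat_lit 4) (Steps.bwd (nat_lit 1) (Steps.bwd (nat_lit 4) Steps.nil))))) (nat_lit 16) (nat_lit 1),
  Rule.mk (nat_lit 8) (nat_lit 74) (Steps.bwd (nat_lit 6) (Steps.bwd (nat_lit 8) (Steps.fwd (nat_lit 1572864) Steps.nil))) (nat_lit 102) (nat_lit 0),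
  Rule.mk (nat_lit 5) (nat_lit 94) (Steps.bwd (nat_lit 9) (Steps.bwd (nat_lit 5) (Steps.bwd (nat_lit 7) (Steps.bwd (nat_lit 8) Steps.nil)))) (nat_lit 100) (nat_lit 2),
  Rule.mk (nat_lit 5) (nat_lit 74) (Steps.bwd (nat_lit 8) (Steps.bwd (nat_lit 7) (Steps.fwd (nat_lit 2097152) Steps.nil))) (nat_lit 98) (nat_lit 0),
  Rule.mk (nat_lit 6) (nat_lit 94) (Steps.bwd (nat_lit 7) (Steps.fwd (nat_lit 1310720) (Steps.fwd (nat_lit 1572864) (Steps.bwd (nat_lit 5) Steps.nil)))) (nat_lit 25) (nat_lit 0),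
  Rule.mk (nat_lit 9) (nat_lit 94) (Steps.bwd (nat_lit 7) (Steps.fwd (nat_lit 1310720) (Steps.bwd (nat_lit 8) (Steps.bwd (nat_lit 5) Steps.nil)))) (nat_lit 101) (nat_lit 0),
  Rule.mk (nat_lit 6) (nat_lit 74) (Steps.bwd (nat_lit 8) (Steps.fwd (nat_lit 1572864) (Steps.fwd (nat_lit 2359296) Steps.nil))) (nat_lit 102) (nat_lit 1),
  Rule.mk (nat_lit 7) (nat_lit 94) (Steps.bwd (nat_lit 8) (Steps.fwd (nat_lit 1310720) (Steps.bwd (nat_lit 9) (Steps.fwd (nat_lit 1310720) Steps.nil)))) (nat_lit 100) (nat_lit 0),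
  Rule.mk (nat_lit 6) (nat_lit 74) (Steps.bwd (nat_lit 9) (Steps.fwd (nat_lit 1572864) (Steps.fwd (nat_lit 2097152) Steps.nil))) (nat_lit 103) (nat_lit 0),
  Rule.mk (nat_lit 5) (nat_lit 94) (Steps.bwd (nat_lit 9) (Steps.fwd (nat_lit 1310720) (Steps.fwd (nat_lit 1835008) (Steps.bwd (nat_lit 8) Steps.nil)))) (nat_lit 100) (nat_lit 2),
  Rule.mk (nat_lit 5) (nat_lit 94) (Steps.bwd (nat_lit 9) (Steps.fwd (nat_lit 1310720) (Steps.bwd (nat_lit 7) (Steps.bwd (nat_lit 8) Steps.nil)))) (nat_lit 100) (nat_lit 2),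
  Rule.mk (nat_lit 7) (nat_lit 74) (Steps.bwd (nat_lit 3) (Steps.bwd (nat_lit 7) (Steps.fwd (nat_lit 786432) Steps.nil))) (nat_lit 28) (nat_lit 3),
  Rule.mk (nat_lit 9) (nat_lit 74) (Steps.bwd (nat_lit 3) (Steps.bwd (nat_lit 8) (Steps.bwd (nat_lit 2) Steps.nil))) (nat_lit 96) (nat_lit 3),
  Rule.mk (nat_lit 2) (nat_lit 74) (Steps.bwd (nat_lit 7) (Steps.bwd (nat_lit 3) (Steps.fwd (nat_lit 1835008) Steps.nil))) (nat_lit 28) (nat_lit 2),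
  Rule.mk (nat_lit 9) (nat_lit 94) (Steps.bwd (nat_lit 7) (Steps.fwd (nat_lit 1310720) (Steps.fwd (nat_lit 2359296) (Steps.fwd (nat_lit 1310720) Steps.nil)))) (nat_lit 101) (nat_lit 0),
  Rule.mk (nat_lit 7) (nat_lit 74) (Steps.bwd (nat_lit 3) (Steps.bwd (nat_lit 7) (Steps.bwd (nat_lit 2) Steps.nil))) (nat_lit 28) (nat_lit 3),
  Rule.mk (nat_lit 8) (nat_lit 74) (Steps.bwd (nat_lit 3) (Steps.fwd (nat_lit 2097152) (Steps.bwd (nat_lit 2) Steps.nil))) (nat_lit 97) (nat_lit 2),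
  Rule.mk (nat_lit 3) (nat_lit 74) (Steps.bwd (nat_lit 9) (Steps.bwd (nat_lit 2) (Steps.bwd (nat_lit 8) Steps.nil))) (nat_lit 97) (nat_lit 3),
  Rule.mk (nat_lit 9) (nat_lit 74) (Steps.bwd (nat_lit 2) (Steps.bwd (nat_lit 8) (Steps.fwd (nat_lit 524288) Steps.nil))) (nat_lit 97) (nat_lit 0),
  Rule.mk (nat_lit 3) (nat_lit 74) (Steps.bwd (nat_lit 6) (Steps.bwd (nat_lit 2) (Steps.bwd (nat_lit 6) Steps.nil))) (nat_lit 40) (nat_lit 3),
  Rule.mk (nat_lit 2) (nat_lit 74) (Steps.bwd (nat_lit 6) (Steps.fwd (nat_lit 524288) (Steps.bwd (nat_lit 6) Steps.nil))) (nat_lit 40) (nat_lit 1),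
  Rule.mk (nat_lit 7) (nat_lit 94) (Steps.bwd (nat_lit 6) (Steps.fwd (nat_lit 1310720) (Steps.bwd (nat_lit 6) (Steps.bwd (nat_lit 5) Steps.nil)))) (nat_lit 24) (nat_lit 0),
  Rule.mk (nat_lit 6) (nat_lit 74) (Steps.bwd (nat_lit 3) (Steps.bwd (nat_lit 6) (Steps.bwd (nat_lit 2) Steps.nil))) (nat_lit 40) (nat_lit 2),
  Rule.mk (nat_lit 8) (nat_lit 74) (Steps.bwd (nat_lit 3) (Steps.fwd (nat_lit 2097152) (Steps.fwd (nat_lit 786432) Steps.nil))) (nat_lit 97) (nat_lit 2),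
  Rule.mk (nat_lit 2) (nat_lit 74) (Steps.bwd (nat_lit 7) (Steps.fwd (nat_lit 524288) (Steps.fwd (nat_lit 1835008) Steps.nil))) (nat_lit 28) (nat_lit 2),
  Rule.mk (nat_lit 3) (nat_lit 74) (Steps.bwd (nat_lit 7) (Steps.bwd (nat_lit 2) (Steps.bwd (nat_lit 7) Steps.nil))) (nat_lit 28) (nat_lit 0),
  Rule.mk (nat_lit 9) (nat_lit 94) (Steps.bwd (nat_lit 7) (Steps.bwd (nat_lit 5) (Steps.fwd (nat_lit 2359296) (Steps.fwd (nat_lit 1310720) Steps.nil)))) (nat_lit 101) (nat_lit 0),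
  Rule.mk (nat_lit 4) (nat_lit 114) (Steps.bwd (nat_lit 1) (Steps.bwd (nat_lit 4) (Steps.fwd (nat_lit 262144) (Steps.fwd (nat_lit 1048576) (Steps.fwd (nat_lit 262144) Steps.nil))))) (nat_lit 16) (nat_lit 0),
  Rule.mk (nat_lit 6) (nat_lit 154) (Steps.bwd (nat_lit 1) (Steps.bwd (nat_lit 4) (Steps.fwd (nat_lit 262144) (Steps.fwd (nat_lit 1572864) (Steps.bwd (nat_lit 1) (Steps.bwd (nat_lit 4) (Steps.fwd (nat_lit 262144) Steps.nil))))))) (nat_lit 74) (nat_lit 0),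
  Rule.mk (nat_lit 4) (nat_lit 114) (Steps.fwd (nat_lit 1310720) (Steps.bwd (nat_lit 7) (Steps.fwd (nat_lit 1048576) (Steps.bwd (nat_lit 6) (Steps.bwd (nat_lit 7) Steps.nil))))) (nat_lit 66) (nat_lit 1),
  Rule.mk (nat_lit 1) (nat_lit 154) (Steps.bwd (nat_lit 6) (Steps.fwd (nat_lit 262144) (Steps.bwd (nat_lit 4) (Steps.fwd (nat_lit 262144) (Steps.fwd (nat_lit 1572864) (Steps.fwd (nat_lit 262144) (Steps.fwd (nat_lit 1048576) Steps.nil))))))) (nat_lit 74) (nat_lit 3),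
  Rule.mk (nat_lit 6) (nat_lit 74) (Steps.bwd (nat_lit 7) (Steps.bwd (nat_lit 6) (Steps.bwd (nat_lit 7) Steps.nil))) (nat_lit 48) (nat_lit 1),
  Rule.mk (nat_lit 1) (nat_lit 114) (Steps.bwd (nat_lit 4) (Steps.fwd (nat_lit 262144) (Steps.fwd (nat_lit 1048576) (Steps.fwd (nat_lit 262144) (Steps.fwd (nat_lit 1048576) Steps.nil))))) (nat_lit 16) (nat_lit 1),
  Rule.mk (nat_lit 5) (nat_lit 94) (Steps.bwd (nat_lit 6) (Steps.fwd (nat_lit 1310720) (Steps.bwd (nat_lit 7) (Steps.bwd (nat_lit 6) Steps.nil)))) (nat_lit 24) (nat_lit 2),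
  Rule.mk (nat_lit 1) (nat_lit 154) (Steps.bwd (nat_lit 6) (Steps.fwd (nat_lit 262144) (Steps.fwd (nat_lit 1048576) (Steps.fwd (nat_lit 262144) (Steps.bwd (nat_lit 6) (Steps.bwd (nat_lit 1) (Steps.bwd (nat_lit 4) Steps.nil))))))) (nat_lit 74) (nat_lit 3),
  Rule.mk (nat_lit 4) (nat_lit 114) (Steps.fwd (nat_lit 1310720) (Steps.fwd (nat_lit 1835008) (Steps.fwd (nat_lit 1048576) (Steps.bwd (nat_lit 6) (Steps.bwd (nat_lit 7) Steps.nil))))) (nat_lit 66) (nat_lit 1),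
  Rule.mk (nat_lit 1) (nat_lit 154) (Steps.bwd (nat_lit 6) (Steps.fwd (nat_lit 262144) (Steps.bwd (nat_lit 4) (Steps.fwd (nat_lit 262144) (Steps.bwd (nat_lit 6) (Steps.fwd (nat_lit 262144) (Steps.bwd (nat_lit 4) Steps.nil))))))) (nat_lit 74) (nat_lit 3),
  Rule.mk (nat_lit 1) (nat_lit 114) (Steps.bwd (nat_lit 4) (Steps.fwd (nat_lit 262144) (Steps.fwd (nat_lit 1048576) (Steps.bwd (nat_lit 1) (Steps.bwd (nat_lit 4) Steps.nil))))) (nat_lit 16) (nat_lit 1),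
  Rule.mk (nat_lit 1) (nat_lit 114) (Steps.bwd (nat_lit 4) (Steps.fwd (nat_lit 262144) (Steps.bwd (nat_lit 4) (Steps.fwd (nat_lit 262144) (Steps.fwd (nat_lit 1048576) Steps.nil))))) (nat_lit 16) (nat_lit 1)]
noncomputable def R_4 : List (Rule) := [Rule.mk (nat_lit 9) (nat_lit 74) (Steps.bwd (nat_lit 6) (Steps.bwd (nat_lit 9) (Steps.fwd (nat_lit 1572864) Steps.nil))) (nat_lit 103) (nat_lit 1),
  Rule.mk (nat_lit 8) (nat_lit 74) (Steps.bwd (nat_lit 7) (Steps.bwd (nat_lit 9) (Steps.fwd (nat_lit 1310720) Steps.nil))) (nat_lit 98) (nat_lit 1),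
  Rule.mk (nat_lit 5) (nat_lit 94) (Steps.bwd (nat_lit 7) (Steps.bwd (nat_lit 6) (Steps.fwd (nat_lit 1310720) (Steps.bwd (nat_lit 6) Steps.nil)))) (nat_lit 24) (nat_lit 4),
  Rule.mk (nat_lit 8) (nat_lit 74) (Steps.fwd (nat_lit 1835008) (Steps.fwd (nat_lit 2097152) (Steps.bwd (nat_lit 5) Steps.nil))) (nat_lit 98) (nat_lit 1),
  Rule.mk (nat_lit 8) (nat_lit 74) (Steps.bwd (nat_lit 7) (Steps.bwd (nat_lit 9) (Steps.bwd (nat_lit 5) Steps.nil))) (nat_lit 98) (nat_lit 1),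
  Rule.mk (nat_lit 9) (nat_lit 94) (Steps.bwd (nat_lit 7) (Steps.fwd (nat_lit 1310720) (Steps.bwd (nat_lit 8) (Steps.fwd (nat_lit 1310720) Steps.nil)))) (nat_lit 101) (nat_lit 0),
  Rule.mk (nat_lit 7) (nat_lit 74) (Steps.bwd (nat_lit 5) (Steps.bwd (nat_lit 7) (Steps.fwd (nat_lit 1310720) Steps.nil))) (nat_lit 32) (nat_lit 1),
  Rule.mk (nat_lit 7) (nat_lit 74) (Steps.bwd (nat_lit 9) (Steps.bwd (nat_lit 5) (Steps.fwd (nat_lit 2359296) Steps.nil))) (nat_lit 98) (nat_lit 2),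
  Rule.mk (nat_lit 6) (nat_lit 94) (Steps.bwd (nat_lit 5) (Steps.bwd (nat_lit 7) (Steps.fwd (nat_lit 1572864) (Steps.bwd (nat_lit 5) Steps.nil)))) (nat_lit 24) (nat_lit 3),
  Rule.mk (nat_lit 2) (nat_lit 74) (Steps.bwd (nat_lit 8) (Steps.fwd (nat_lit 524288) (Steps.bwd (nat_lit 9) Steps.nil))) (nat_lit 97) (nat_lit 1),
  Rule.mk (nat_lit 6) (nat_lit 74) (Steps.bwd (nat_lit 7) (Steps.bwd (nat_lit 6) (Steps.fwd (nat_lit 1835008) Steps.nil))) (nat_lit 48) (nat_lit 1),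
  Rule.mk (nat_lit 8) (nat_lit 74) (Steps.fwd (nat_lit 1572864) (Steps.bwd (nat_lit 8) (Steps.bwd (nat_lit 6) Steps.nil))) (nat_lit 102) (nat_lit 0),
  Rule.mk (nat_lit 5) (nat_lit 74) (Steps.bwd (nat_lit 3) (Steps.bwd (nat_lit 5) (Steps.bwd (nat_lit 2) Steps.nil))) (nat_lit 20) (nat_lit 2),
  Rule.mk (nat_lit 5) (nat_lit 74) (Steps.bwd (nat_lit 2) (Steps.bwd (nat_lit 5) (Steps.fwd (nat_lit 524288) Steps.nil))) (nat_lit 20) (nat_lit 0),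
  Rule.mk (nat_lit 8) (nat_lit 74) (Steps.bwd (nat_lit 2) (Steps.bwd (nat_lit 9) (Steps.fwd (nat_lit 524288) Steps.nil))) (nat_lit 96) (nat_lit 1),
  Rule.mk (nat_lit 9) (nat_lit 74) (Steps.fwd (nat_lit 1310720) (Steps.bwd (nat_lit 8) (Steps.bwd (nat_lit 7) Steps.nil))) (nat_lit 98) (nat_lit 3),
  Rule.mk (nat_lit 7) (nat_lit 74) (Steps.bwd (nat_lit 3) (Steps.fwd (nat_lit 1835008) (Steps.bwd (nat_lit 2) Steps.nil))) (nat_lit 28) (nat_lit 3),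
  Rule.mk (nat_lit 2) (nat_lit 74) (Steps.bwd (nat_lit 7) (Steps.fwd (nat_lit 524288) (Steps.bwd (nat_lit 7) Steps.nil))) (nat_lit 28) (nat_lit 2),
  Rule.mk (nat_lit 1) (nat_lit 154) (Steps.bwd (nat_lit 6) (Steps.fwd (nat_lit 262144) (Steps.fwd (nat_lit 1048576) (Steps.fwd (nat_lit 262144) (Steps.fwd (nat_lit 1572864) (Steps.bwd (nat_lit 1) (Steps.bwd (nat_lit 4) Steps.nil))))))) (nat_lit 74) (nat_lit 3),
  Rule.mk (nat_lit 1) (nat_lit 154) (Steps.bwd (nat_lit 6) (Steps.fwd (nat_lit 262144) (Steps.bwd (nat_lit 4) (Steps.bwd (nat_lit 1) (Steps.bwd (nat_lit 6) (Steps.bwd (nat_lit 1) (Steps.bwd (nat_lit 4) Steps.nil))))))) (nat_lit 74) (nat_lit 3),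
  Rule.mk (nat_lit 2) (nat_lit 114) (Steps.bwd (nat_lit 1) (Steps.bwd (nat_lit 2) (Steps.bwd (nat_lit 1) (Steps.bwd (nat_lit 2) (Steps.fwd (nat_lit 262144) Steps.nil))))) (nat_lit 12) (nat_lit 0),
  Rule.mk (nat_lit 2) (nat_lit 114) (Steps.bwd (nat_lit 1) (Steps.bwd (nat_lit 2) (Steps.fwd (nat_lit 262144) (Steps.bwd (nat_lit 2) (Steps.bwd (nat_lit 1) Steps.nil))))) (nat_lit 12) (nat_lit 0),
  Rule.mk (nat_lit 3) (nat_lit 54) (Steps.fwd (nat_lit 524288) (Steps.bwd (nat_lit 3) Steps.nil)) (nat_lit 3) (nat_lit 0),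
  Rule.mk (nat_lit 2) (nat_lit 114) (Steps.bwd (nat_lit 1) (Steps.fwd (nat_lit 786432) (Steps.fwd (nat_lit 262144) (Steps.fwd (nat_lit 786432) (Steps.bwd (nat_lit 1) Steps.nil))))) (nat_lit 12) (nat_lit 0),
  Rule.mk (nat_lit 1) (nat_lit 114) (Steps.bwd (nat_lit 3) (Steps.bwd (nat_lit 1) (Steps.fwd (nat_lit 524288) (Steps.fwd (nat_lit 262144) (Steps.fwd (nat_lit 524288) Steps.nil))))) (nat_lit 13) (nat_lit 0),
  Rule.mk (nat_lit 3) (nat_lit 74) (Steps.bwd (nat_lit 7) (Steps.fwd (nat_lit 786432) (Steps.bwd (nat_lit 7) Steps.nil))) (nat_lit 28) (nat_lit 0),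
  Rule.mk (nat_lit 6) (nat_lit 114) (Steps.bwd (nat_lit 7) (Steps.fwd (nat_lit 786432) (Steps.fwd (nat_lit 1572864) (Steps.bwd (nat_lit 7) (Steps.bwd (nat_lit 3) Steps.nil))))) (nat_lit 62) (nat_lit 5),
  Rule.mk (nat_lit 3) (nat_lit 74) (Steps.bwd (nat_lit 5) (Steps.bwd (nat_lit 2) (Steps.bwd (nat_lit 5) Steps.nil))) (nat_lit 20) (nat_lit 3),
  Rule.mk (nat_lit 4) (nat_lit 74) (Steps.bwd (nat_lit 6) (Steps.bwd (nat_lit 4) (Steps.fwd (nat_lit 1310720) Steps.nil))) (nat_lit 22) (nat_lit 3),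
  Rule.mk (nat_lit 3) (nat_lit 154) (Steps.bwd (nat_lit 7) (Steps.bwd (nat_lit 6) (Steps.fwd (nat_lit 524288) (Steps.bwd (nat_lit 5) (Steps.fwd (nat_lit 1572864) (Steps.fwd (nat_lit 524288) (Steps.fwd (nat_lit 1310720) Steps.nil))))))) (nat_lit 83) (nat_lit 0),
  Rule.mk (nat_lit 6) (nat_lit 94) (Steps.bwd (nat_lit 5) (Steps.bwd (nat_lit 7) (Steps.bwd (nat_lit 6) (Steps.bwd (nat_lit 5) Steps.nil)))) (nat_lit 24) (nat_lit 3),
  Rule.mk (nat_lit 4) (nat_lit 114) (Steps.bwd (nat_lit 5) (Steps.fwd (nat_lit 786432) (Steps.bwd (nat_lit 4) (Steps.bwd (nat_lit 6) (Steps.bwd (nat_lit 2) Steps.nil))))) (nat_lit 54) (nat_lit 2),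
  Rule.mk (nat_lit 1) (nat_lit 114) (Steps.bwd (nat_lit 2) (Steps.bwd (nat_lit 1) (Steps.bwd (nat_lit 2) (Steps.fwd (nat_lit 262144) (Steps.bwd (nat_lit 2) Steps.nil))))) (nat_lit 12) (nat_lit 1),
  Rule.mk (nat_lit 1) (nat_lit 114) (Steps.bwd (nat_lit 3) (Steps.fwd (nat_lit 262144) (Steps.bwd (nat_lit 3) (Steps.bwd (nat_lit 1) (Steps.bwd (nat_lit 3) Steps.nil))))) (nat_lit 13) (nat_lit 0),
  Rule.mk (nat_lit 4) (nat_lit 114) (Steps.bwd (nat_lit 5) (Steps.fwd (nat_lit 524288) (Steps.bwd (nat_lit 4) (Steps.fwd (nat_lit 1572864) (Steps.fwd (nat_lit 524288) Steps.nil))))) (nat_lit 59) (nat_lit 4),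
  Rule.mk (nat_lit 4) (nat_lit 114) (Steps.bwd (nat_lit 5) (Steps.fwd (nat_lit 524288) (Steps.fwd (nat_lit 1048576) (Steps.fwd (nat_lit 1572864) (Steps.bwd (nat_lit 3) Steps.nil))))) (nat_lit 59) (nat_lit 4),
  Rule.mk (nat_lit 2) (nat_lit 74) (Steps.bwd (nat_lit 5) (Steps.fwd (nat_lit 524288) (Steps.bwd (nat_lit 5) Steps.nil))) (nat_lit 20) (nat_lit 1),
  Rule.mk (nat_lit 2) (nat_lit 154) (Steps.bwd (nat_lit 6) (Steps.fwd (nat_lit 1310720) (Steps.bwd (nat_lit 2) (Steps.bwd (nat_lit 6) (Steps.bwd (nat_lit 7) (Steps.fwd (nat_lit 786432) (Steps.bwd (nat_lit 5) Steps.nil))))))) (nat_lit 82) (nat_lit 3),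
  Rule.mk (nat_lit 6) (nat_lit 94) (Steps.bwd (nat_lit 5) (Steps.bwd (nat_lit 6) (Steps.fwd (nat_lit 1310720) (Steps.fwd (nat_lit 1835008) Steps.nil)))) (nat_lit 24) (nat_lit 1),
  Rule.mk (nat_lit 3) (nat_lit 114) (Steps.bwd (nat_lit 6) (Steps.bwd (nat_lit 4) (Steps.fwd (nat_lit 524288) (Steps.fwd (nat_lit 1310720) (Steps.fwd (nat_lit 1048576) Steps.nil))))) (nat_lit 55) (nat_lit 0),
  Rule.mk (nat_lit 3) (nat_lit 154) (Steps.bwd (nat_lit 4) (Steps.fwd (nat_lit 1835008) (Steps.bwd (nat_lit 6) (Steps.fwd (nat_lit 524288) (Steps.fwd (nat_lit 1048576) (Steps.fwd (nat_lit 1835008) (Steps.fwd (nat_lit 1310720) Steps.nil))))))) (nat_lit 89) (nat_lit 0),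
  Rule.mk (nat_lit 6) (nat_lit 94) (Steps.bwd (nat_lit 5) (Steps.bwd (nat_lit 6) (Steps.bwd (nat_lit 5) (Steps.bwd (nat_lit 7) Steps.nil)))) (nat_lit 24) (nat_lit 1),
  Rule.mk (nat_lit 7) (nat_lit 94) (Steps.bwd (nat_lit 5) (Steps.bwd (nat_lit 6) (Steps.bwd (nat_lit 5) (Steps.bwd (nat_lit 6) Steps.nil)))) (nat_lit 25) (nat_lit 1),
  Rule.mk (nat_lit 3) (nat_lit 74) (Steps.bwd (nat_lit 6) (Steps.fwd (nat_lit 786432) (Steps.fwd (nat_lit 1572864) Steps.nil))) (nat_lit 40) (nat_lit 3),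
  Rule.mk (nat_lit 2) (nat_lit 74) (Steps.bwd (nat_lit 6) (Steps.bwd (nat_lit 3) (Steps.bwd (nat_lit 6) Steps.nil))) (nat_lit 40) (nat_lit 1),
  Rule.mk (nat_lit 5) (nat_lit 94) (Steps.bwd (nat_lit 6) (Steps.bwd (nat_lit 5) (Steps.bwd (nat_lit 7) (Steps.bwd (nat_lit 6) Steps.nil)))) (nat_lit 24) (nat_lit 2),
  Rule.mk (nat_lit 1) (nat_lit 114) (Steps.bwd (nat_lit 2) (Steps.fwd (nat_lit 262144) (Steps.bwd (nat_lit 2) (Steps.bwd (nat_lit 1) (Steps.bwd (nat_lit 2) Steps.nil))))) (nat_lit 12) (nat_lit 1),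
  Rule.mk (nat_lit 2) (nat_lit 114) (Steps.bwd (nat_lit 1) (Steps.fwd (nat_lit 786432) (Steps.fwd (nat_lit 262144) (Steps.bwd (nat_lit 2) (Steps.bwd (nat_lit 1) Steps.nil))))) (nat_lit 12) (nat_lit 0),
  Rule.mk (nat_lit 3) (nat_lit 114) (Steps.bwd (nat_lit 1) (Steps.fwd (nat_lit 524288) (Steps.bwd (nat_lit 1) (Steps.bwd (nat_lit 3) (Steps.bwd (nat_lit 1) Steps.nil))))) (nat_lit 13) (nat_lit 1),
  Rule.mk (nat_lit 1) (nat_lit 154) (Steps.bwd (nat_lit 2) (Steps.fwd (nat_lit 1310720) (Steps.fwd (nat_lit 262144) (Steps.fwd (nat_lit 786432) (Steps.fwd (nat_lit 262144) (Steps.bwd (nat_lit 5) (Steps.fwd (nat_lit 786432) Steps.nil))))))) (nat_lit 70) (nat_lit 6),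
  Rule.mk (nat_lit 4) (nat_lit 114) (Steps.bwd (nat_lit 1) (Steps.fwd (nat_lit 1048576) (Steps.fwd (nat_lit 262144) (Steps.fwd (nat_lit 1048576) (Steps.fwd (nat_lit 262144) Steps.nil))))) (nat_lit 16) (nat_lit 0),
  Rule.mk (nat_lit 7) (nat_lit 74) (Steps.bwd (nat_lit 1) (Steps.bwd (nat_lit 7) (Steps.fwd (nat_lit 262144) Steps.nil))) (nat_lit 26) (nat_lit 1),
  Rule.mk (nat_lit 4) (nat_lit 114) (Steps.bwd (nat_lit 6) (Steps.fwd (nat_lit 786432) (Steps.bwd (nat_lit 4) (Steps.fwd (nat_lit 1310720) (Steps.bwd (nat_lit 2) Steps.nil))))) (nat_lit 54) (nat_lit 5),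
  Rule.mk (nat_lit 1) (nat_lit 154) (Steps.bwd (nat_lit 6) (Steps.bwd (nat_lit 1) (Steps.bwd (nat_lit 4) (Steps.fwd (nat_lit 262144) (Steps.fwd (nat_lit 1572864) (Steps.bwd (nat_lit 1) (Steps.bwd (nat_lit 4) Steps.nil))))))) (nat_lit 74) (nat_lit 3),
  Rule.mk (nat_lit 1) (nat_lit 114) (Steps.bwd (nat_lit 2) (Steps.fwd (nat_lit 262144) (Steps.bwd (nat_lit 2) (Steps.bwd (nat_lit 1) (Steps.fwd (nat_lit 786432) Steps.nil))))) (nat_lit 12) (nat_lit 1),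
  Rule.mk (nat_lit 1) (nat_lit 154) (Steps.bwd (nat_lit 4) (Steps.fwd (nat_lit 1835008) (Steps.fwd (nat_lit 262144) (Steps.fwd (nat_lit 1048576) (Steps.fwd (nat_lit 262144) (Steps.fwd (nat_lit 1835008) (Steps.bwd (nat_lit 4) Steps.nil))))))) (nat_lit 76) (nat_lit 6),
  Rule.mk (nat_lit 3) (nat_lit 114) (Steps.bwd (nat_lit 1) (Steps.bwd (nat_lit 3) (Steps.fwd (nat_lit 262144) (Steps.fwd (nat_lit 524288) (Steps.bwd (nat_lit 1) Steps.nil))))) (nat_lit 13) (nat_lit 1),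
  Rule.mk (nat_lit 4) (nat_lit 114) (Steps.bwd (nat_lit 1) (Steps.fwd (nat_lit 1048576) (Steps.fwd (nat_lit 262144) (Steps.fwd (nat_lit 1048576) (Steps.bwd (nat_lit 1) Steps.nil))))) (nat_lit 16) (nat_lit 0),
  Rule.mk (nat_lit 6) (nat_lit 154) (Steps.bwd (nat_lit 1) (Steps.fwd (nat_lit 1048576) (Steps.fwd (nat_lit 262144) (Steps.bwd (nat_lit 6) (Steps.bwd (nat_lit 1) (Steps.fwd (nat_lit 1048576) (Steps.bwd (nat_lit 1) Steps.nil))))))) (nat_lit 74) (nat_lit 0),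
  Rule.mk (nat_lit 2) (nat_lit 274) (Steps.bwd (nat_lit 1) (Steps.fwd (nat_lit 1572864) (Steps.bwd (nat_lit 1) (Steps.bwd (nat_lit 2) (Steps.bwd (nat_lit 1) (Steps.fwd (nat_lit 1572864) (Steps.fwd (nat_lit 262144) (Steps.bwd (nat_lit 2) (Steps.bwd (nat_lit 1) (Steps.fwd (nat_lit 1572864) (Steps.bwd (nat_lit 1) (Steps.fwd (nat_lit 1572864) (Steps.fwd (nat_lit 1310720) Steps.nil))))))))))))) (nat_lit 34) (nat_lit 1),
  Rule.mk (nat_lit 7) (nat_lit 74) (Steps.bwd (nat_lit 5) (Steps.bwd (nat_lit 7) (Steps.bwd (nat_lit 5) Steps.nil))) (nat_lit 32) (nat_lit 1),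
  Rule.mk (nat_lit 3) (nat_lit 154) (Steps.bwd (nat_lit 5) (Steps.fwd (nat_lit 524288) (Steps.fwd (nat_lit 1835008) (Steps.fwd (nat_lit 1572864) (Steps.fwd (nat_lit 524288) (Steps.bwd (nat_lit 5) (Steps.bwd (nat_lit 6) Steps.nil))))))) (nat_lit 83) (nat_lit 6),
  Rule.mk (nat_lit 1) (nat_lit 274) (Steps.bwd (nat_lit 6) (Steps.fwd (nat_lit 262144) (Steps.bwd (nat_lit 6) (Steps.bwd (nat_lit 5) (Steps.fwd (nat_lit 786432) (Steps.bwd (nat_lit 1) (Steps.fwd (nat_lit 1572864) (Steps.fwd (nat_lit 262144) (Steps.bwd (nat_lit 2) (Steps.fwd (nat_lit 262144) (Steps.bwd (nat_lit 6) (Steps.bwd (nat_lit 1) (Steps.fwd (nat_lit 786432) Steps.nil))))))))))))) (nat_lit 34) (nat_lit 10),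
  Rule.mk (nat_lit 7) (nat_lit 74) (Steps.bwd (nat_lit 6) (Steps.bwd (nat_lit 7) (Steps.fwd (nat_lit 1572864) Steps.nil))) (nat_lit 48) (nat_lit 0)]
noncomputable def R_5 : List (Rule) := [Rule.mk (nat_lit 1) (nat_lit 154) (Steps.bwd (nat_lit 6) (Steps.fwd (nat_lit 262144) (Steps.fwd (nat_lit 1048576) (Steps.fwd (nat_lit 262144) (Steps.bwd (nat_lit 6) (Steps.fwd (nat_lit 262144) (Steps.fwd (nat_lit 1048576) Steps.nil))))))) (nat_lit 74) (nat_lit 3),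
  Rule.mk (nat_lit 1) (nat_lit 114) (Steps.bwd (nat_lit 2) (Steps.fwd (nat_lit 262144) (Steps.fwd (nat_lit 786432) (Steps.bwd (nat_lit 1) (Steps.bwd (nat_lit 2) Steps.nil))))) (nat_lit 12) (nat_lit 1),
  Rule.mk (nat_lit 4) (nat_lit 114) (Steps.bwd (nat_lit 6) (Steps.bwd (nat_lit 2) (Steps.fwd (nat_lit 1048576) (Steps.bwd (nat_lit 5) (Steps.fwd (nat_lit 786432) Steps.nil))))) (nat_lit 54) (nat_lit 5),
  Rule.mk (nat_lit 1) (nat_lit 154) (Steps.bwd (nat_lit 6) (Steps.fwd (nat_lit 262144) (Steps.fwd (nat_lit 1048576) (Steps.bwd (nat_lit 1) (Steps.bwd (nat_lit 6) (Steps.fwd (nat_lit 262144) (Steps.fwd (nat_lit 1048576) Steps.nil))))))) (nat_lit 74) (nat_lit 3),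
  Rule.mk (nat_lit 7) (nat_lit 74) (Steps.bwd (nat_lit 6) (Steps.bwd (nat_lit 7) (Steps.bwd (nat_lit 6) Steps.nil))) (nat_lit 48) (nat_lit 0),
  Rule.mk (nat_lit 1) (nat_lit 154) (Steps.bwd (nat_lit 6) (Steps.fwd (nat_lit 262144) (Steps.bwd (nat_lit 4) (Steps.bwd (nat_lit 1) (Steps.bwd (nat_lit 6) (Steps.fwd (nat_lit 262144) (Steps.bwd (nat_lit 4) Steps.nil))))))) (nat_lit 74) (nat_lit 3),
  Rule.mk (nat_lit 4) (nat_lit 114) (Steps.bwd (nat_lit 6) (Steps.bwd (nat_lit 3) (Steps.fwd (nat_lit 1048576) (Steps.fwd (nat_lit 1310720) (Steps.bwd (nat_lit 3) Steps.nil))))) (nat_lit 59) (nat_lit 1),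
  Rule.mk (nat_lit 1) (nat_lit 154) (Steps.bwd (nat_lit 6) (Steps.fwd (nat_lit 262144) (Steps.bwd (nat_lit 4) (Steps.bwd (nat_lit 1) (Steps.bwd (nat_lit 6) (Steps.bwd (nat_lit 1) (Steps.fwd (nat_lit 1048576) Steps.nil))))))) (nat_lit 74) (nat_lit 3),
  Rule.mk (nat_lit 5) (nat_lit 114) (Steps.bwd (nat_lit 2) (Steps.bwd (nat_lit 7) (Steps.bwd (nat_lit 5) (Steps.fwd (nat_lit 524288) (Steps.fwd (nat_lit 1835008) Steps.nil))))) (nat_lit 61) (nat_lit 2),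
  Rule.mk (nat_lit 4) (nat_lit 154) (Steps.bwd (nat_lit 2) (Steps.fwd (nat_lit 1572864) (Steps.fwd (nat_lit 1835008) (Steps.bwd (nat_lit 4) (Steps.bwd (nat_lit 2) (Steps.fwd (nat_lit 1310720) (Steps.fwd (nat_lit 1835008) Steps.nil))))))) (nat_lit 88) (nat_lit 4),
  Rule.mk (nat_lit 4) (nat_lit 114) (Steps.bwd (nat_lit 7) (Steps.bwd (nat_lit 2) (Steps.bwd (nat_lit 4) (Steps.bwd (nat_lit 7) (Steps.fwd (nat_lit 786432) Steps.nil))))) (nat_lit 56) (nat_lit 2),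
  Rule.mk (nat_lit 4) (nat_lit 74) (Steps.bwd (nat_lit 3) (Steps.fwd (nat_lit 1048576) (Steps.fwd (nat_lit 524288) Steps.nil))) (nat_lit 15) (nat_lit 0),
  Rule.mk (nat_lit 3) (nat_lit 114) (Steps.fwd (nat_lit 1572864) (Steps.fwd (nat_lit 1048576) (Steps.fwd (nat_lit 524288) (Steps.bwd (nat_lit 5) (Steps.bwd (nat_lit 4) Steps.nil))))) (nat_lit 55) (nat_lit 0),
  Rule.mk (nat_lit 9) (nat_lit 114) (Steps.bwd (nat_lit 1) (Steps.fwd (nat_lit 2359296) (Steps.bwd (nat_lit 2) (Steps.bwd (nat_lit 1) (Steps.bwd (nat_lit 3) Steps.nil))))) (nat_lit 104) (nat_lit 5),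
  Rule.mk (nat_lit 8) (nat_lit 94) (Steps.bwd (nat_lit 5) (Steps.bwd (nat_lit 9) (Steps.fwd (nat_lit 1310720) (Steps.bwd (nat_lit 7) Steps.nil)))) (nat_lit 100) (nat_lit 1),
  Rule.mk (nat_lit 1) (nat_lit 114) (Steps.bwd (nat_lit 8) (Steps.bwd (nat_lit 2) (Steps.fwd (nat_lit 262144) (Steps.fwd (nat_lit 524288) (Steps.fwd (nat_lit 2097152) Steps.nil))))) (nat_lit 104) (nat_lit 0),
  Rule.mk (nat_lit 9) (nat_lit 74) (Steps.bwd (nat_lit 5) (Steps.bwd (nat_lit 8) (Steps.bwd (nat_lit 7) Steps.nil))) (nat_lit 98) (nat_lit 3),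
  Rule.mk (nat_lit 7) (nat_lit 94) (Steps.bwd (nat_lit 5) (Steps.fwd (nat_lit 1572864) (Steps.bwd (nat_lit 5) (Steps.fwd (nat_lit 1572864) Steps.nil)))) (nat_lit 25) (nat_lit 1),
  Rule.mk (nat_lit 9) (nat_lit 94) (Steps.bwd (nat_lit 7) (Steps.fwd (nat_lit 1310720) (Steps.fwd (nat_lit 2359296) (Steps.bwd (nat_lit 5) Steps.nil)))) (nat_lit 101) (nat_lit 0),
  Rule.mk (nat_lit 9) (nat_lit 114) (Steps.bwd (nat_lit 1) (Steps.bwd (nat_lit 8) (Steps.bwd (nat_lit 2) (Steps.fwd (nat_lit 262144) (Steps.fwd (nat_lit 524288) Steps.nil))))) (nat_lit 104) (nat_lit 5),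
  Rule.mk (nat_lit 1) (nat_lit 74) (Steps.fwd (nat_lit 1310720) (Steps.bwd (nat_lit 1) (Steps.bwd (nat_lit 5) Steps.nil))) (nat_lit 18) (nat_lit 1),
  Rule.mk (nat_lit 3) (nat_lit 74) (Steps.bwd (nat_lit 8) (Steps.fwd (nat_lit 786432) (Steps.bwd (nat_lit 9) Steps.nil))) (nat_lit 96) (nat_lit 0),
  Rule.mk (nat_lit 1) (nat_lit 114) (Steps.bwd (nat_lit 8) (Steps.fwd (nat_lit 786432) (Steps.fwd (nat_lit 262144) (Steps.bwd (nat_lit 3) (Steps.fwd (nat_lit 2097152) Steps.nil))))) (nat_lit 104) (nat_lit 0),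
  Rule.mk (nat_lit 1) (nat_lit 114) (Steps.bwd (nat_lit 8) (Steps.bwd (nat_lit 2) (Steps.fwd (nat_lit 262144) (Steps.fwd (nat_lit 524288) (Steps.bwd (nat_lit 9) Steps.nil))))) (nat_lit 104) (nat_lit 0),
  Rule.mk (nat_lit 9) (nat_lit 74) (Steps.bwd (nat_lit 5) (Steps.bwd (nat_lit 8) (Steps.fwd (nat_lit 1835008) Steps.nil))) (nat_lit 98) (nat_lit 3),
  Rule.mk (nat_lit 6) (nat_lit 94) (Steps.bwd (nat_lit 7) (Steps.bwd (nat_lit 5) (Steps.bwd (nat_lit 6) (Steps.bwd (nat_lit 5) Steps.nil)))) (nat_lit 25) (nat_lit 0),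
  Rule.mk (nat_lit 9) (nat_lit 94) (Steps.bwd (nat_lit 7) (Steps.bwd (nat_lit 5) (Steps.fwd (nat_lit 2359296) (Steps.bwd (nat_lit 5) Steps.nil)))) (nat_lit 101) (nat_lit 0),
  Rule.mk (nat_lit 1) (nat_lit 114) (Steps.bwd (nat_lit 2) (Steps.fwd (nat_lit 262144) (Steps.fwd (nat_lit 786432) (Steps.fwd (nat_lit 262144) (Steps.bwd (nat_lit 2) Steps.nil))))) (nat_lit 12) (nat_lit 1),
  Rule.mk (nat_lit 1) (nat_lit 114) (Steps.bwd (nat_lit 2) (Steps.fwd (nat_lit 262144) (Steps.bwd (nat_lit 2) (Steps.fwd (nat_lit 262144) (Steps.bwd (nat_lit 2) Steps.nil))))) (nat_lit 12) (nat_lit 1),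
  Rule.mk (nat_lit 1) (nat_lit 114) (Steps.bwd (nat_lit 8) (Steps.fwd (nat_lit 786432) (Steps.fwd (nat_lit 262144) (Steps.fwd (nat_lit 524288) (Steps.bwd (nat_lit 9) Steps.nil))))) (nat_lit 104) (nat_lit 0),
  Rule.mk (nat_lit 7) (nat_lit 94) (Steps.bwd (nat_lit 8) (Steps.bwd (nat_lit 5) (Steps.bwd (nat_lit 9) (Steps.fwd (nat_lit 1310720) Steps.nil)))) (nat_lit 100) (nat_lit 0),
  Rule.mk (nat_lit 6) (nat_lit 74) (Steps.bwd (nat_lit 8) (Steps.bwd (nat_lit 6) (Steps.bwd (nat_lit 8) Steps.nil))) (nat_lit 102) (nat_lit 1),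
  Rule.mk (nat_lit 6) (nat_lit 74) (Steps.bwd (nat_lit 9) (Steps.bwd (nat_lit 6) (Steps.fwd (nat_lit 2097152) Steps.nil))) (nat_lit 103) (nat_lit 0),
  Rule.mk (nat_lit 9) (nat_lit 94) (Steps.bwd (nat_lit 7) (Steps.bwd (nat_lit 5) (Steps.bwd (nat_lit 8) (Steps.fwd (nat_lit 1310720) Steps.nil)))) (nat_lit 101) (nat_lit 0),
  Rule.mk (nat_lit 1) (nat_lit 114) (Steps.bwd (nat_lit 8) (Steps.bwd (nat_lit 2) (Steps.bwd (nat_lit 1) (Steps.fwd (nat_lit 524288) (Steps.bwd (nat_lit 9) Steps.nil))))) (nat_lit 104) (nat_lit 0),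
  Rule.mk (nat_lit 1) (nat_lit 114) (Steps.bwd (nat_lit 3) (Steps.fwd (nat_lit 262144) (Steps.fwd (nat_lit 524288) (Steps.bwd (nat_lit 1) (Steps.fwd (nat_lit 524288) Steps.nil))))) (nat_lit 13) (nat_lit 0),
  Rule.mk (nat_lit 1) (nat_lit 114) (Steps.bwd (nat_lit 8) (Steps.fwd (nat_lit 786432) (Steps.fwd (nat_lit 262144) (Steps.fwd (nat_lit 524288) (Steps.fwd (nat_lit 2097152) Steps.nil))))) (nat_lit 104) (nat_lit 0),
  Rule.mk (nat_lit 7) (nat_lit 94) (Steps.bwd (nat_lit 5) (Steps.fwd (nat_lit 1572864) (Steps.fwd (nat_lit 1310720) (Steps.fwd (nat_lit 1572864) Steps.nil)))) (nat_lit 25) (nat_lit 1),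
  Rule.mk (nat_lit 2) (nat_lit 114) (Steps.bwd (nat_lit 1) (Steps.bwd (nat_lit 2) (Steps.fwd (nat_lit 262144) (Steps.bwd (nat_lit 2) (Steps.fwd (nat_lit 262144) Steps.nil))))) (nat_lit 12) (nat_lit 0),
  Rule.mk (nat_lit 9) (nat_lit 114) (Steps.bwd (nat_lit 1) (Steps.fwd (nat_lit 2359296) (Steps.fwd (nat_lit 786432) (Steps.bwd (nat_lit 1) (Steps.fwd (nat_lit 524288) Steps.nil))))) (nat_lit 104) (nat_lit 5),
  Rule.mk (nat_lit 1) (nat_lit 114) (Steps.bwd (nat_lit 3) (Steps.fwd (nat_lit 2097152) (Steps.fwd (nat_lit 262144) (Steps.bwd (nat_lit 8) (Steps.fwd (nat_lit 786432) Steps.nil))))) (nat_lit 104) (nat_lit 3),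
  Rule.mk (nat_lit 1) (nat_lit 114) (Steps.bwd (nat_lit 3) (Steps.fwd (nat_lit 2097152) (Steps.fwd (nat_lit 262144) (Steps.bwd (nat_lit 8) (Steps.bwd (nat_lit 2) Steps.nil))))) (nat_lit 104) (nat_lit 3),
  Rule.mk (nat_lit 1) (nat_lit 114) (Steps.fwd (nat_lit 2359296) (Steps.bwd (nat_lit 2) (Steps.bwd (nat_lit 1) (Steps.bwd (nat_lit 3) (Steps.bwd (nat_lit 9) Steps.nil))))) (nat_lit 104) (nat_lit 0),
  Rule.mk (nat_lit 2) (nat_lit 114) (Steps.bwd (nat_lit 1) (Steps.fwd (nat_lit 524288) (Steps.fwd (nat_lit 2097152) (Steps.bwd (nat_lit 1) (Steps.bwd (nat_lit 8) Steps.nil))))) (nat_lit 104) (nat_lit 2),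
  Rule.mk (nat_lit 2) (nat_lit 54) (Steps.fwd (nat_lit 786432) (Steps.bwd (nat_lit 2) Steps.nil)) (nat_lit 2) (nat_lit 0),
  Rule.mk (nat_lit 9) (nat_lit 74) (Steps.bwd (nat_lit 6) (Steps.bwd (nat_lit 9) (Steps.bwd (nat_lit 6) Steps.nil))) (nat_lit 103) (nat_lit 1),
  Rule.mk (nat_lit 1) (nat_lit 114) (Steps.bwd (nat_lit 3) (Steps.bwd (nat_lit 1) (Steps.bwd (nat_lit 3) (Steps.bwd (nat_lit 1) (Steps.fwd (nat_lit 524288) Steps.nil))))) (nat_lit 13) (nat_lit 0),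
  Rule.mk (nat_lit 1) (nat_lit 154) (Steps.bwd (nat_lit 3) (Steps.fwd (nat_lit 262144) (Steps.bwd (nat_lit 7) (Steps.bwd (nat_lit 3) (Steps.fwd (nat_lit 262144) (Steps.fwd (nat_lit 524288) (Steps.bwd (nat_lit 7) Steps.nil))))))) (nat_lit 73) (nat_lit 6),
  Rule.mk (nat_lit 7) (nat_lit 94) (Steps.bwd (nat_lit 5) (Steps.fwd (nat_lit 2359296) (Steps.bwd (nat_lit 5) (Steps.bwd (nat_lit 9) Steps.nil)))) (nat_lit 101) (nat_lit 1),
  Rule.mk (nat_lit 5) (nat_lit 74) (Steps.bwd (nat_lit 1) (Steps.fwd (nat_lit 1310720) (Steps.bwd (nat_lit 1) Steps.nil))) (nat_lit 18) (nat_lit 0),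
  Rule.mk (nat_lit 9) (nat_lit 114) (Steps.bwd (nat_lit 1) (Steps.fwd (nat_lit 2359296) (Steps.fwd (nat_lit 786432) (Steps.fwd (nat_lit 262144) (Steps.fwd (nat_lit 524288) Steps.nil))))) (nat_lit 104) (nat_lit 5),
  Rule.mk (nat_lit 6) (nat_lit 94) (Steps.bwd (nat_lit 5) (Steps.bwd (nat_lit 6) (Steps.bwd (nat_lit 5) (Steps.fwd (nat_lit 1835008) Steps.nil)))) (nat_lit 24) (nat_lit 1),
  Rule.mk (nat_lit 1) (nat_lit 114) (Steps.bwd (nat_lit 3) (Steps.fwd (nat_lit 262144) (Steps.bwd (nat_lit 3) (Steps.bwd (nat_lit 1) (Steps.fwd (nat_lit 524288) Steps.nil))))) (nat_lit 13) (nat_lit 0),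
  Rule.mk (nat_lit 6) (nat_lit 94) (Steps.bwd (nat_lit 5) (Steps.bwd (nat_lit 7) (Steps.fwd (nat_lit 1572864) (Steps.fwd (nat_lit 1310720) Steps.nil)))) (nat_lit 24) (nat_lit 3),
  Rule.mk (nat_lit 8) (nat_lit 94) (Steps.bwd (nat_lit 5) (Steps.fwd (nat_lit 2097152) (Steps.bwd (nat_lit 5) (Steps.bwd (nat_lit 7) Steps.nil)))) (nat_lit 100) (nat_lit 1),
  Rule.mk (nat_lit 6) (nat_lit 274) (Steps.bwd (nat_lit 1) (Steps.bwd (nat_lit 3) (Steps.fwd (nat_lit 262144) (Steps.fwd (nat_lit 1572864) (Steps.fwd (nat_lit 262144) (Steps.bwd (nat_lit 3) (Steps.fwd (nat_lit 262144) (Steps.bwd (nat_lit 6) (Steps.bwd (nat_lit 1) (Steps.fwd (nat_lit 524288) (Steps.fwd (nat_lit 1310720) (Steps.fwd (nat_lit 1572864) (Steps.fwd (nat_lit 262144) Steps.nil))))))))))))) (nat_lit 35) (nat_lit 4),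
  Rule.mk (nat_lit 9) (nat_lit 74) (Steps.fwd (nat_lit 1572864) (Steps.bwd (nat_lit 9) (Steps.bwd (nat_lit 6) Steps.nil))) (nat_lit 103) (nat_lit 1),
  Rule.mk (nat_lit 1) (nat_lit 114) (Steps.bwd (nat_lit 3) (Steps.bwd (nat_lit 1) (Steps.bwd (nat_lit 3) (Steps.fwd (nat_lit 262144) (Steps.fwd (nat_lit 524288) Steps.nil))))) (nat_lit 13) (nat_lit 0),
  Rule.mk (nat_lit 8) (nat_lit 114) (Steps.fwd (nat_lit 786432) (Steps.bwd (nat_lit 1) (Steps.bwd (nat_lit 3) (Steps.bwd (nat_lit 9) (Steps.bwd (nat_lit 1) Steps.nil))))) (nat_lit 104) (nat_lit 1),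
  Rule.mk (nat_lit 5) (nat_lit 94) (Steps.bwd (nat_lit 9) (Steps.bwd (nat_lit 5) (Steps.fwd (nat_lit 1835008) (Steps.bwd (nat_lit 8) Steps.nil)))) (nat_lit 100) (nat_lit 2),
  Rule.mk (nat_lit 2) (nat_lit 114) (Steps.bwd (nat_lit 1) (Steps.bwd (nat_lit 3) (Steps.fwd (nat_lit 2097152) (Steps.bwd (nat_lit 1) (Steps.bwd (nat_lit 8) Steps.nil))))) (nat_lit 104) (nat_lit 2),
  Rule.mk (nat_lit 6) (nat_lit 274) (Steps.bwd (nat_lit 1) (Steps.bwd (nat_lit 3) (Steps.fwd (nat_lit 262144) (Steps.fwd (nat_lit 1572864) (Steps.bwd (nat_lit 1) (Steps.bwd (nat_lit 3) (Steps.fwd (nat_lit 262144) (Steps.bwd (nat_lit 6) (Steps.bwd (nat_lit 1) (Steps.bwd (nat_lit 3) (Steps.bwd (nat_lit 5) (Steps.bwd (nat_lit 6) (Steps.bwd (nat_lit 1) Steps.nil))))))))))))) (nat_lit 35) (nat_lit 4),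
  Rule.mk (nat_lit 2) (nat_lit 114) (Steps.bwd (nat_lit 6) (Steps.fwd (nat_lit 1835008) (Steps.bwd (nat_lit 3) (Steps.fwd (nat_lit 1572864) (Steps.fwd (nat_lit 1835008) Steps.nil))))) (nat_lit 62) (nat_lit 1),
  Rule.mk (nat_lit 3) (nat_lit 154) (Steps.bwd (nat_lit 6) (Steps.bwd (nat_lit 5) (Steps.bwd (nat_lit 3) (Steps.fwd (nat_lit 1572864) (Steps.bwd (nat_lit 7) (Steps.bwd (nat_lit 3) (Steps.fwd (nat_lit 1310720) Steps.nil))))))) (nat_lit 85) (nat_lit 0)]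
noncomputable def R_6 : List (Rule) := [Rule.mk (nat_lit 2) (nat_lit 114) (Steps.bwd (nat_lit 1) (Steps.bwd (nat_lit 3) (Steps.bwd (nat_lit 9) (Steps.bwd (nat_lit 1) (Steps.bwd (nat_lit 8) Steps.nil))))) (nat_lit 104) (nat_lit 2),
  Rule.mk (nat_lit 9) (nat_lit 74) (Steps.fwd (nat_lit 524288) (Steps.bwd (nat_lit 8) (Steps.bwd (nat_lit 2) Steps.nil))) (nat_lit 96) (nat_lit 3),
  Rule.mk (nat_lit 1) (nat_lit 114) (Steps.bwd (nat_lit 8) (Steps.fwd (nat_lit 786432) (Steps.bwd (nat_lit 1) (Steps.fwd (nat_lit 524288) (Steps.bwd (nat_lit 9) Steps.nil))))) (nat_lit 104) (nat_lit 0),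
  Rule.mk (nat_lit 1) (nat_lit 154) (Steps.fwd (nat_lit 786432) (Steps.bwd (nat_lit 5) (Steps.bwd (nat_lit 1) (Steps.bwd (nat_lit 2) (Steps.bwd (nat_lit 1) (Steps.fwd (nat_lit 1310720) (Steps.fwd (nat_lit 786432) Steps.nil))))))) (nat_lit 70) (nat_lit 6),
  Rule.mk (nat_lit 9) (nat_lit 114) (Steps.bwd (nat_lit 1) (Steps.fwd (nat_lit 2359296) (Steps.fwd (nat_lit 786432) (Steps.bwd (nat_lit 1) (Steps.bwd (nat_lit 3) Steps.nil))))) (nat_lit 104) (nat_lit 5),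
  Rule.mk (nat_lit 1) (nat_lit 114) (Steps.bwd (nat_lit 3) (Steps.fwd (nat_lit 2097152) (Steps.fwd (nat_lit 262144) (Steps.fwd (nat_lit 2359296) (Steps.fwd (nat_lit 786432) Steps.nil))))) (nat_lit 104) (nat_lit 3),
  Rule.mk (nat_lit 5) (nat_lit 154) (Steps.bwd (nat_lit 3) (Steps.fwd (nat_lit 1835008) (Steps.bwd (nat_lit 6) (Steps.fwd (nat_lit 524288) (Steps.bwd (nat_lit 5) (Steps.fwd (nat_lit 1572864) (Steps.bwd (nat_lit 3) Steps.nil))))))) (nat_lit 83) (nat_lit 7),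
  Rule.mk (nat_lit 8) (nat_lit 94) (Steps.bwd (nat_lit 5) (Steps.bwd (nat_lit 9) (Steps.bwd (nat_lit 5) (Steps.bwd (nat_lit 7) Steps.nil)))) (nat_lit 100) (nat_lit 1),
  Rule.mk (nat_lit 1) (nat_lit 154) (Steps.bwd (nat_lit 2) (Steps.fwd (nat_lit 1310720) (Steps.bwd (nat_lit 1) (Steps.bwd (nat_lit 2) (Steps.bwd (nat_lit 1) (Steps.fwd (nat_lit 1310720) (Steps.bwd (nat_lit 2) Steps.nil))))))) (nat_lit 70) (nat_lit 6),
  Rule.mk (nat_lit 7) (nat_lit 74) (Steps.bwd (nat_lit 1) (Steps.fwd (nat_lit 1835008) (Steps.bwd (nat_lit 1) Steps.nil))) (nat_lit 26) (nat_lit 1),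
  Rule.mk (nat_lit 9) (nat_lit 114) (Steps.bwd (nat_lit 1) (Steps.bwd (nat_lit 8) (Steps.bwd (nat_lit 2) (Steps.bwd (nat_lit 1) (Steps.fwd (nat_lit 524288) Steps.nil))))) (nat_lit 104) (nat_lit 5),
  Rule.mk (nat_lit 5) (nat_lit 94) (Steps.bwd (nat_lit 6) (Steps.fwd (nat_lit 1835008) (Steps.fwd (nat_lit 1310720) (Steps.fwd (nat_lit 1572864) Steps.nil)))) (nat_lit 25) (nat_lit 4),
  Rule.mk (nat_lit 3) (nat_lit 114) (Steps.bwd (nat_lit 6) (Steps.fwd (nat_lit 1835008) (Steps.bwd (nat_lit 2) (Steps.fwd (nat_lit 1572864) (Steps.fwd (nat_lit 1835008) Steps.nil))))) (nat_lit 62) (nat_lit 4),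
  Rule.mk (nat_lit 5) (nat_lit 114) (Steps.bwd (nat_lit 3) (Steps.fwd (nat_lit 1835008) (Steps.fwd (nat_lit 1310720) (Steps.fwd (nat_lit 786432) (Steps.bwd (nat_lit 7) Steps.nil))))) (nat_lit 61) (nat_lit 5),
  Rule.mk (nat_lit 1) (nat_lit 114) (Steps.bwd (nat_lit 3) (Steps.fwd (nat_lit 2097152) (Steps.bwd (nat_lit 1) (Steps.bwd (nat_lit 8) (Steps.bwd (nat_lit 2) Steps.nil))))) (nat_lit 104) (nat_lit 3),
  Rule.mk (nat_lit 1) (nat_lit 114) (Steps.bwd (nat_lit 2) (Steps.bwd (nat_lit 1) (Steps.bwd (nat_lit 2) (Steps.bwd (nat_lit 1) (Steps.fwd (nat_lit 786432) Steps.nil))))) (nat_lit 12) (nat_lit 1),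
  Rule.mk (nat_lit 3) (nat_lit 114) (Steps.bwd (nat_lit 1) (Steps.bwd (nat_lit 3) (Steps.bwd (nat_lit 1) (Steps.bwd (nat_lit 3) (Steps.bwd (nat_lit 1) Steps.nil))))) (nat_lit 13) (nat_lit 1),
  Rule.mk (nat_lit 9) (nat_lit 114) (Steps.bwd (nat_lit 1) (Steps.fwd (nat_lit 2359296) (Steps.bwd (nat_lit 2) (Steps.fwd (nat_lit 262144) (Steps.bwd (nat_lit 3) Steps.nil))))) (nat_lit 104) (nat_lit 5),
  Rule.mk (nat_lit 6) (nat_lit 274) (Steps.bwd (nat_lit 1) (Steps.bwd (nat_lit 3) (Steps.bwd (nat_lit 5) (Steps.bwd (nat_lit 6) (Steps.bwd (nat_lit 1) (Steps.bwd (nat_lit 6) (Steps.fwd (nat_lit 262144) (Steps.fwd (nat_lit 524288) (Steps.fwd (nat_lit 262144) (Steps.bwd (nat_lit 6) (Steps.bwd (nat_lit 1) (Steps.bwd (nat_lit 3) (Steps.fwd (nat_lit 262144) Steps.nil))))))))))))) (nat_lit 35) (nat_lit 12),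
  Rule.mk (nat_lit 2) (nat_lit 114) (Steps.bwd (nat_lit 6) (Steps.bwd (nat_lit 7) (Steps.bwd (nat_lit 3) (Steps.bwd (nat_lit 6) (Steps.fwd (nat_lit 1835008) Steps.nil))))) (nat_lit 62) (nat_lit 1),
  Rule.mk (nat_lit 8) (nat_lit 114) (Steps.bwd (nat_lit 2) (Steps.bwd (nat_lit 1) (Steps.fwd (nat_lit 524288) (Steps.bwd (nat_lit 9) (Steps.bwd (nat_lit 1) Steps.nil))))) (nat_lit 104) (nat_lit 1),
  Rule.mk (nat_lit 9) (nat_lit 114) (Steps.bwd (nat_lit 1) (Steps.fwd (nat_lit 2359296) (Steps.bwd (nat_lit 2) (Steps.fwd (nat_lit 262144) (Steps.fwd (nat_lit 524288) Steps.nil))))) (nat_lit 104) (nat_lit 5),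
  Rule.mk (nat_lit 6) (nat_lit 94) (Steps.bwd (nat_lit 5) (Steps.fwd (nat_lit 1572864) (Steps.bwd (nat_lit 5) (Steps.bwd (nat_lit 7) Steps.nil)))) (nat_lit 24) (nat_lit 1),
  Rule.mk (nat_lit 1) (nat_lit 274) (Steps.bwd (nat_lit 6) (Steps.fwd (nat_lit 262144) (Steps.fwd (nat_lit 524288) (Steps.fwd (nat_lit 1310720) (Steps.bwd (nat_lit 6) (Steps.fwd (nat_lit 262144) (Steps.fwd (nat_lit 1572864) (Steps.fwd (nat_lit 262144) (Steps.bwd (nat_lit 3) (Steps.bwd (nat_lit 1) (Steps.bwd (nat_lit 6) (Steps.fwd (nat_lit 262144) (Steps.bwd (nat_lit 3) Steps.nil))))))))))))) (nat_lit 35) (nat_lit 11),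
  Rule.mk (nat_lit 1) (nat_lit 74) (Steps.fwd (nat_lit 1835008) (Steps.bwd (nat_lit 1) (Steps.fwd (nat_lit 1835008) Steps.nil))) (nat_lit 26) (nat_lit 0),
  Rule.mk (nat_lit 1) (nat_lit 114) (Steps.fwd (nat_lit 1835008) (Steps.fwd (nat_lit 1310720) (Steps.bwd (nat_lit 1) (Steps.fwd (nat_lit 1835008) (Steps.bwd (nat_lit 5) Steps.nil))))) (nat_lit 53) (nat_lit 0),
  Rule.mk (nat_lit 5) (nat_lit 94) (Steps.bwd (nat_lit 6) (Steps.bwd (nat_lit 5) (Steps.fwd (nat_lit 1835008) (Steps.fwd (nat_lit 1572864) Steps.nil)))) (nat_lit 24) (nat_lit 2),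
  Rule.mk (nat_lit 1) (nat_lit 274) (Steps.bwd (nat_lit 6) (Steps.fwd (nat_lit 262144) (Steps.fwd (nat_lit 786432) (Steps.fwd (nat_lit 262144) (Steps.fwd (nat_lit 1572864) (Steps.bwd (nat_lit 1) (Steps.bwd (nat_lit 6) (Steps.bwd (nat_lit 5) (Steps.bwd (nat_lit 2) (Steps.bwd (nat_lit 1) (Steps.fwd (nat_lit 1572864) (Steps.bwd (nat_lit 1) (Steps.fwd (nat_lit 786432) Steps.nil))))))))))))) (nat_lit 34) (nat_lit 6),
  Rule.mk (nat_lit 6) (nat_lit 274) (Steps.bwd (nat_lit 1) (Steps.bwd (nat_lit 3) (Steps.fwd (nat_lit 262144) (Steps.bwd (nat_lit 6) (Steps.fwd (nat_lit 262144) (Steps.bwd (nat_lit 3) (Steps.bwd (nat_lit 5) (Steps.bwd (nat_lit 6) (Steps.fwd (nat_lit 262144) (Steps.fwd (nat_lit 1572864) (Steps.bwd (nat_lit 1) (Steps.bwd (nat_lit 3) (Steps.fwd (nat_lit 262144) Steps.nil))))))))))))) (nat_lit 35) (nat_lit 8),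
  Rule.mk (nat_lit 7) (nat_lit 114) (Steps.bwd (nat_lit 3) (Steps.fwd (nat_lit 1310720) (Steps.bwd (nat_lit 7) (Steps.bwd (nat_lit 2) (Steps.fwd (nat_lit 1310720) Steps.nil))))) (nat_lit 60) (nat_lit 3),
  Rule.mk (nat_lit 7) (nat_lit 154) (Steps.bwd (nat_lit 3) (Steps.fwd (nat_lit 262144) (Steps.fwd (nat_lit 524288) (Steps.bwd (nat_lit 7) (Steps.bwd (nat_lit 1) (Steps.bwd (nat_lit 3) (Steps.bwd (nat_lit 1) Steps.nil))))))) (nat_lit 73) (nat_lit 1),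
  Rule.mk (nat_lit 8) (nat_lit 94) (Steps.bwd (nat_lit 5) (Steps.fwd (nat_lit 2097152) (Steps.fwd (nat_lit 1310720) (Steps.bwd (nat_lit 7) Steps.nil)))) (nat_lit 100) (nat_lit 1),
  Rule.mk (nat_lit 3) (nat_lit 154) (Steps.bwd (nat_lit 5) (Steps.fwd (nat_lit 262144) (Steps.bwd (nat_lit 3) (Steps.fwd (nat_lit 262144) (Steps.fwd (nat_lit 1310720) (Steps.bwd (nat_lit 3) (Steps.bwd (nat_lit 1) Steps.nil))))))) (nat_lit 71) (nat_lit 4),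
  Rule.mk (nat_lit 6) (nat_lit 274) (Steps.bwd (nat_lit 1) (Steps.bwd (nat_lit 3) (Steps.bwd (nat_lit 5) (Steps.bwd (nat_lit 6) (Steps.fwd (nat_lit 262144) (Steps.fwd (nat_lit 1572864) (Steps.bwd (nat_lit 1) (Steps.bwd (nat_lit 3) (Steps.bwd (nat_lit 1) (Steps.fwd (nat_lit 1572864) (Steps.fwd (nat_lit 262144) (Steps.bwd (nat_lit 3) (Steps.bwd (nat_lit 1) Steps.nil))))))))))))) (nat_lit 35) (nat_lit 12),
  Rule.mk (nat_lit 5) (nat_lit 114) (Steps.bwd (nat_lit 2) (Steps.fwd (nat_lit 1835008) (Steps.bwd (nat_lit 5) (Steps.fwd (nat_lit 524288) (Steps.bwd (nat_lit 7) Steps.nil))))) (nat_lit 61) (nat_lit 2),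
  Rule.mk (nat_lit 1) (nat_lit 274) (Steps.bwd (nat_lit 3) (Steps.fwd (nat_lit 1310720) (Steps.fwd (nat_lit 1572864) (Steps.fwd (nat_lit 262144) (Steps.bwd (nat_lit 6) (Steps.fwd (nat_lit 262144) (Steps.bwd (nat_lit 3) (Steps.bwd (nat_lit 1) (Steps.fwd (nat_lit 1572864) (Steps.fwd (nat_lit 262144) (Steps.fwd (nat_lit 524288) (Steps.bwd (nat_lit 1) (Steps.bwd (nat_lit 6) Steps.nil))))))))))))) (nat_lit 35) (nat_lit 13),
  Rule.mk (nat_lit 1) (nat_lit 274) (Steps.fwd (nat_lit 786432) (Steps.fwd (nat_lit 262144) (Steps.bwd (nat_lit 6) (Steps.bwd (nat_lit 1) (Steps.bwd (nat_lit 2) (Steps.fwd (nat_lit 262144) (Steps.bwd (nat_lit 6) (Steps.bwd (nat_lit 1) (Steps.bwd (nat_lit 6) (Steps.bwd (nat_lit 5) (Steps.bwd (nat_lit 2) (Steps.fwd (nat_lit 262144) (Steps.bwd (nat_lit 6) Steps.nil))))))))))))) (nat_lit 34) (nat_lit 4),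
  Rule.mk (nat_lit 1) (nat_lit 114) (Steps.bwd (nat_lit 3) (Steps.fwd (nat_lit 262144) (Steps.fwd (nat_lit 524288) (Steps.fwd (nat_lit 262144) (Steps.fwd (nat_lit 524288) Steps.nil))))) (nat_lit 13) (nat_lit 0),
  Rule.mk (nat_lit 1) (nat_lit 114) (Steps.bwd (nat_lit 3) (Steps.fwd (nat_lit 262144) (Steps.bwd (nat_lit 3) (Steps.fwd (nat_lit 262144) (Steps.bwd (nat_lit 3) Steps.nil))))) (nat_lit 13) (nat_lit 0),
  Rule.mk (nat_lit 2) (nat_lit 114) (Steps.bwd (nat_lit 1) (Steps.fwd (nat_lit 786432) (Steps.fwd (nat_lit 262144) (Steps.fwd (nat_lit 786432) (Steps.fwd (nat_lit 262144) Steps.nil))))) (nat_lit 12) (nat_lit 0),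
  Rule.mk (nat_lit 6) (nat_lit 94) (Steps.bwd (nat_lit 5) (Steps.fwd (nat_lit 1572864) (Steps.bwd (nat_lit 7) (Steps.bwd (nat_lit 5) Steps.nil)))) (nat_lit 25) (nat_lit 3),
  Rule.mk (nat_lit 5) (nat_lit 114) (Steps.bwd (nat_lit 2) (Steps.fwd (nat_lit 1835008) (Steps.bwd (nat_lit 5) (Steps.bwd (nat_lit 3) (Steps.fwd (nat_lit 1835008) Steps.nil))))) (nat_lit 61) (nat_lit 2),
  Rule.mk (nat_lit 1) (nat_lit 274) (Steps.bwd (nat_lit 6) (Steps.bwd (nat_lit 1) (Steps.fwd (nat_lit 1572864) (Steps.bwd (nat_lit 5) (Steps.bwd (nat_lit 2) (Steps.bwd (nat_lit 1) (Steps.fwd (nat_lit 1572864) (Steps.fwd (nat_lit 262144) (Steps.bwd (nat_lit 2) (Steps.bwd (nat_lit 1) (Steps.bwd (nat_lit 6) (Steps.fwd (nat_lit 262144) (Steps.bwd (nat_lit 2) Steps.nil))))))))))))) (nat_lit 34) (nat_lit 10),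
  Rule.mk (nat_lit 9) (nat_lit 114) (Steps.bwd (nat_lit 1) (Steps.bwd (nat_lit 8) (Steps.bwd (nat_lit 2) (Steps.fwd (nat_lit 262144) (Steps.bwd (nat_lit 3) Steps.nil))))) (nat_lit 104) (nat_lit 5),
  Rule.mk (nat_lit 6) (nat_lit 274) (Steps.bwd (nat_lit 1) (Steps.bwd (nat_lit 3) (Steps.fwd (nat_lit 262144) (Steps.bwd (nat_lit 6) (Steps.bwd (nat_lit 1) (Steps.fwd (nat_lit 524288) (Steps.fwd (nat_lit 262144) (Steps.fwd (nat_lit 1572864) (Steps.fwd (nat_lit 262144) (Steps.fwd (nat_lit 524288) (Steps.bwd (nat_lit 5) (Steps.bwd (nat_lit 6) (Steps.bwd (nat_lit 1) Steps.nil))))))))))))) (nat_lit 35) (nat_lit 4),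
  Rule.mk (nat_lit 2) (nat_lit 114) (Steps.bwd (nat_lit 1) (Steps.bwd (nat_lit 2) (Steps.fwd (nat_lit 262144) (Steps.fwd (nat_lit 786432) (Steps.bwd (nat_lit 1) Steps.nil))))) (nat_lit 12) (nat_lit 0),
  Rule.mk (nat_lit 2) (nat_lit 114) (Steps.bwd (nat_lit 1) (Steps.fwd (nat_lit 786432) (Steps.bwd (nat_lit 1) (Steps.bwd (nat_lit 2) (Steps.bwd (nat_lit 1) Steps.nil))))) (nat_lit 12) (nat_lit 0),
  Rule.mk (nat_lit 3) (nat_lit 114) (Steps.bwd (nat_lit 1) (Steps.fwd (nat_lit 524288) (Steps.bwd (nat_lit 1) (Steps.fwd (nat_lit 524288) (Steps.bwd (nat_lit 1) Steps.nil))))) (nat_lit 13) (nat_lit 1),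
  Rule.mk (nat_lit 6) (nat_lit 274) (Steps.bwd (nat_lit 1) (Steps.bwd (nat_lit 6) (Steps.bwd (nat_lit 5) (Steps.bwd (nat_lit 2) (Steps.bwd (nat_lit 1) (Steps.fwd (nat_lit 1572864) (Steps.bwd (nat_lit 1) (Steps.fwd (nat_lit 786432) (Steps.fwd (nat_lit 262144) (Steps.bwd (nat_lit 6) (Steps.bwd (nat_lit 1) (Steps.fwd (nat_lit 786432) (Steps.fwd (nat_lit 262144) Steps.nil))))))))))))) (nat_lit 34) (nat_lit 11),
  Rule.mk (nat_lit 2) (nat_lit 114) (Steps.bwd (nat_lit 1) (Steps.bwd (nat_lit 2) (Steps.bwd (nat_lit 1) (Steps.bwd (nat_lit 2) (Steps.bwd (nat_lit 1) Steps.nil))))) (nat_lit 12) (nat_lit 0),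
  Rule.mk (nat_lit 5) (nat_lit 94) (Steps.bwd (nat_lit 7) (Steps.bwd (nat_lit 8) (Steps.bwd (nat_lit 5) (Steps.bwd (nat_lit 9) Steps.nil)))) (nat_lit 100) (nat_lit 4),
  Rule.mk (nat_lit 2) (nat_lit 114) (Steps.bwd (nat_lit 7) (Steps.fwd (nat_lit 1572864) (Steps.bwd (nat_lit 3) (Steps.bwd (nat_lit 7) (Steps.bwd (nat_lit 6) Steps.nil))))) (nat_lit 63) (nat_lit 3),
  Rule.mk (nat_lit 8) (nat_lit 74) (Steps.fwd (nat_lit 524288) (Steps.bwd (nat_lit 9) (Steps.bwd (nat_lit 2) Steps.nil))) (nat_lit 97) (nat_lit 2),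
  Rule.mk (nat_lit 9) (nat_lit 94) (Steps.bwd (nat_lit 7) (Steps.bwd (nat_lit 5) (Steps.bwd (nat_lit 8) (Steps.bwd (nat_lit 5) Steps.nil)))) (nat_lit 101) (nat_lit 0),
  Rule.mk (nat_lit 8) (nat_lit 94) (Steps.bwd (nat_lit 5) (Steps.fwd (nat_lit 2097152) (Steps.bwd (nat_lit 5) (Steps.fwd (nat_lit 1835008) Steps.nil)))) (nat_lit 100) (nat_lit 1),
  Rule.mk (nat_lit 1) (nat_lit 114) (Steps.bwd (nat_lit 3) (Steps.fwd (nat_lit 262144) (Steps.fwd (nat_lit 524288) (Steps.fwd (nat_lit 262144) (Steps.bwd (nat_lit 3) Steps.nil))))) (nat_lit 13) (nat_lit 0),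
  Rule.mk (nat_lit 3) (nat_lit 154) (Steps.bwd (nat_lit 6) (Steps.fwd (nat_lit 1310720) (Steps.fwd (nat_lit 524288) (Steps.fwd (nat_lit 1572864) (Steps.fwd (nat_lit 1835008) (Steps.fwd (nat_lit 524288) (Steps.bwd (nat_lit 5) Steps.nil))))))) (nat_lit 85) (nat_lit 0),
  Rule.mk (nat_lit 7) (nat_lit 94) (Steps.bwd (nat_lit 6) (Steps.fwd (nat_lit 1310720) (Steps.fwd (nat_lit 1572864) (Steps.bwd (nat_lit 5) Steps.nil)))) (nat_lit 24) (nat_lit 0),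
  Rule.mk (nat_lit 1) (nat_lit 274) (Steps.bwd (nat_lit 6) (Steps.fwd (nat_lit 1310720) (Steps.bwd (nat_lit 2) (Steps.fwd (nat_lit 262144) (Steps.bwd (nat_lit 6) (Steps.bwd (nat_lit 1) (Steps.bwd (nat_lit 2) (Steps.fwd (nat_lit 262144) (Steps.bwd (nat_lit 6) (Steps.fwd (nat_lit 262144) (Steps.fwd (nat_lit 786432) (Steps.fwd (nat_lit 262144) (Steps.bwd (nat_lit 6) Steps.nil))))))))))))) (nat_lit 34) (nat_lit 12),
  Rule.mk (nat_lit 5) (nat_lit 74) (Steps.bwd (nat_lit 1) (Steps.bwd (nat_lit 5) (Steps.bwd (nat_lit 1) Steps.nil))) (nat_lit 18) (nat_lit 0),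
  Rule.mk (nat_lit 6) (nat_lit 274) (Steps.bwd (nat_lit 1) (Steps.bwd (nat_lit 2) (Steps.bwd (nat_lit 1) (Steps.bwd (nat_lit 6) (Steps.fwd (nat_lit 262144) (Steps.fwd (nat_lit 1572864) (Steps.fwd (nat_lit 1310720) (Steps.bwd (nat_lit 2) (Steps.fwd (nat_lit 262144) (Steps.bwd (nat_lit 6) (Steps.bwd (nat_lit 1) (Steps.bwd (nat_lit 2) (Steps.fwd (nat_lit 262144) Steps.nil))))))))))))) (nat_lit 34) (nat_lit 7),
  Rule.mk (nat_lit 1) (nat_lit 274) (Steps.bwd (nat_lit 6) (Steps.bwd (nat_lit 5) (Steps.bwd (nat_lit 2) (Steps.bwd (nat_lit 1) (Steps.bwd (nat_lit 6) (Steps.fwd (nat_lit 262144) (Steps.bwd (nat_lit 2) (Steps.bwd (nat_lit 1) (Steps.bwd (nat_lit 6) (Steps.bwd (nat_lit 1) (Steps.bwd (nat_lit 2) (Steps.bwd (nat_lit 1) (Steps.bwd (nat_lit 6) Steps.nil))))))))))))) (nat_lit 34) (nat_lit 12),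
  Rule.mk (nat_lit 3) (nat_lit 114) (Steps.bwd (nat_lit 1) (Steps.fwd (nat_lit 524288) (Steps.fwd (nat_lit 262144) (Steps.bwd (nat_lit 3) (Steps.fwd (nat_lit 262144) Steps.nil))))) (nat_lit 13) (nat_lit 1),
  Rule.mk (nat_lit 6) (nat_lit 274) (Steps.bwd (nat_lit 1) (Steps.fwd (nat_lit 786432) (Steps.bwd (nat_lit 1) (Steps.fwd (nat_lit 1572864) (Steps.bwd (nat_lit 1) (Steps.bwd (nat_lit 6) (Steps.bwd (nat_lit 5) (Steps.bwd (nat_lit 2) (Steps.fwd (nat_lit 262144) (Steps.fwd (nat_lit 1572864) (Steps.bwd (nat_lit 1) (Steps.bwd (nat_lit 2) (Steps.bwd (nat_lit 1) Steps.nil))))))))))))) (nat_lit 34) (nat_lit 7)]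
noncomputable def R_7 : List (Rule) := [Rule.mk (nat_lit 1) (nat_lit 274) (Steps.bwd (nat_lit 6) (Steps.fwd (nat_lit 262144) (Steps.bwd (nat_lit 6) (Steps.bwd (nat_lit 5) (Steps.bwd (nat_lit 2) (Steps.bwd (nat_lit 1) (Steps.bwd (nat_lit 6) (Steps.fwd (nat_lit 262144) (Steps.fwd (nat_lit 786432) (Steps.fwd (nat_lit 262144) (Steps.fwd (nat_lit 1572864) (Steps.bwd (nat_lit 1) (Steps.fwd (nat_lit 786432) Steps.nil))))))))))))) (nat_lit 34) (nat_lit 10),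
  Rule.mk (nat_lit 1) (nat_lit 274) (Steps.bwd (nat_lit 6) (Steps.bwd (nat_lit 5) (Steps.bwd (nat_lit 2) (Steps.fwd (nat_lit 262144) (Steps.fwd (nat_lit 1572864) (Steps.bwd (nat_lit 1) (Steps.fwd (nat_lit 786432) (Steps.fwd (nat_lit 262144) (Steps.fwd (nat_lit 1572864) (Steps.fwd (nat_lit 262144) (Steps.fwd (nat_lit 786432) (Steps.bwd (nat_lit 1) (Steps.bwd (nat_lit 6) Steps.nil))))))))))))) (nat_lit 34) (nat_lit 12),
  Rule.mk (nat_lit 2) (nat_lit 114) (Steps.bwd (nat_lit 1) (Steps.fwd (nat_lit 786432) (Steps.bwd (nat_lit 1) (Steps.bwd (nat_lit 2) (Steps.fwd (nat_lit 262144) Steps.nil))))) (nat_lit 12) (nat_lit 0),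
  Rule.mk (nat_lit 9) (nat_lit 74) (Steps.fwd (nat_lit 786432) (Steps.fwd (nat_lit 2359296) (Steps.bwd (nat_lit 3) Steps.nil))) (nat_lit 97) (nat_lit 0),
  Rule.mk (nat_lit 3) (nat_lit 114) (Steps.bwd (nat_lit 7) (Steps.bwd (nat_lit 6) (Steps.bwd (nat_lit 2) (Steps.fwd (nat_lit 1835008) (Steps.fwd (nat_lit 1572864) Steps.nil))))) (nat_lit 63) (nat_lit 0),
  Rule.mk (nat_lit 8) (nat_lit 74) (Steps.fwd (nat_lit 1572864) (Steps.fwd (nat_lit 2359296) (Steps.bwd (nat_lit 6) Steps.nil))) (nat_lit 102) (nat_lit 0),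
  Rule.mk (nat_lit 5) (nat_lit 94) (Steps.bwd (nat_lit 6) (Steps.bwd (nat_lit 5) (Steps.fwd (nat_lit 1835008) (Steps.bwd (nat_lit 6) Steps.nil)))) (nat_lit 24) (nat_lit 2),
  Rule.mk (nat_lit 1) (nat_lit 274) (Steps.bwd (nat_lit 6) (Steps.bwd (nat_lit 5) (Steps.fwd (nat_lit 786432) (Steps.fwd (nat_lit 262144) (Steps.fwd (nat_lit 1572864) (Steps.fwd (nat_lit 262144) (Steps.fwd (nat_lit 786432) (Steps.fwd (nat_lit 262144) (Steps.fwd (nat_lit 1572864) (Steps.bwd (nat_lit 1) (Steps.fwd (nat_lit 786432) (Steps.fwd (nat_lit 262144) (Steps.fwd (nat_lit 1572864) Steps.nil))))))))))))) (nat_lit 34) (nat_lit 12),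
  Rule.mk (nat_lit 2) (nat_lit 114) (Steps.bwd (nat_lit 1) (Steps.bwd (nat_lit 2) (Steps.bwd (nat_lit 1) (Steps.fwd (nat_lit 786432) (Steps.bwd (nat_lit 1) Steps.nil))))) (nat_lit 12) (nat_lit 0),
  Rule.mk (nat_lit 1) (nat_lit 114) (Steps.bwd (nat_lit 3) (Steps.bwd (nat_lit 1) (Steps.fwd (nat_lit 524288) (Steps.bwd (nat_lit 1) (Steps.bwd (nat_lit 3) Steps.nil))))) (nat_lit 13) (nat_lit 0),
  Rule.mk (nat_lit 1) (nat_lit 274) (Steps.bwd (nat_lit 6) (Steps.fwd (nat_lit 1310720) (Steps.bwd (nat_lit 2) (Steps.fwd (nat_lit 262144) (Steps.bwd (nat_lit 6) (Steps.fwd (nat_lit 262144) (Steps.bwd (nat_lit 2) (Steps.fwd (nat_lit 262144) (Steps.fwd (nat_lit 1572864) (Steps.bwd (nat_lit 1) (Steps.bwd (nat_lit 2) (Steps.fwd (nat_lit 262144) (Steps.fwd (nat_lit 1572864) Steps.nil))))))))))))) (nat_lit 34) (nat_lit 12),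
  Rule.mk (nat_lit 2) (nat_lit 114) (Steps.bwd (nat_lit 1) (Steps.fwd (nat_lit 786432) (Steps.bwd (nat_lit 1) (Steps.fwd (nat_lit 786432) (Steps.bwd (nat_lit 1) Steps.nil))))) (nat_lit 12) (nat_lit 0),
  Rule.mk (nat_lit 8) (nat_lit 74) (Steps.bwd (nat_lit 6) (Steps.bwd (nat_lit 8) (Steps.bwd (nat_lit 6) Steps.nil))) (nat_lit 102) (nat_lit 0),
  Rule.mk (nat_lit 1) (nat_lit 274) (Steps.bwd (nat_lit 6) (Steps.fwd (nat_lit 262144) (Steps.bwd (nat_lit 6) (Steps.bwd (nat_lit 5) (Steps.fwd (nat_lit 786432) (Steps.bwd (nat_lit 1) (Steps.fwd (nat_lit 1572864) (Steps.bwd (nat_lit 1) (Steps.fwd (nat_lit 786432) (Steps.fwd (nat_lit 262144) (Steps.fwd (nat_lit 1572864) (Steps.bwd (nat_lit 1) (Steps.bwd (nat_lit 2) Steps.nil))))))))))))) (nat_lit 34) (nat_lit 10),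
  Rule.mk (nat_lit 1) (nat_lit 114) (Steps.bwd (nat_lit 3) (Steps.fwd (nat_lit 262144) (Steps.bwd (nat_lit 3) (Steps.fwd (nat_lit 262144) (Steps.fwd (nat_lit 524288) Steps.nil))))) (nat_lit 13) (nat_lit 0),
  Rule.mk (nat_lit 7) (nat_lit 74) (Steps.bwd (nat_lit 1) (Steps.bwd (nat_lit 7) (Steps.bwd (nat_lit 1) Steps.nil))) (nat_lit 26) (nat_lit 1),
  Rule.mk (nat_lit 1) (nat_lit 274) (Steps.bwd (nat_lit 6) (Steps.bwd (nat_lit 5) (Steps.bwd (nat_lit 2) (Steps.fwd (nat_lit 262144) (Steps.bwd (nat_lit 6) (Steps.bwd (nat_lit 1) (Steps.bwd (nat_lit 2) (Steps.bwd (nat_lit 1) (Steps.fwd (nat_lit 1572864) (Steps.bwd (nat_lit 1) (Steps.fwd (nat_lit 786432) (Steps.bwd (nat_lit 1) (Steps.bwd (nat_lit 6) Steps.nil))))))))))))) (nat_lit 34) (nat_lit 12),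
  Rule.mk (nat_lit 1) (nat_lit 274) (Steps.bwd (nat_lit 6) (Steps.fwd (nat_lit 1310720) (Steps.bwd (nat_lit 2) (Steps.bwd (nat_lit 1) (Steps.bwd (nat_lit 6) (Steps.bwd (nat_lit 1) (Steps.fwd (nat_lit 786432) (Steps.fwd (nat_lit 262144) (Steps.fwd (nat_lit 1572864) (Steps.bwd (nat_lit 1) (Steps.bwd (nat_lit 2) (Steps.bwd (nat_lit 1) (Steps.bwd (nat_lit 6) Steps.nil))))))))))))) (nat_lit 34) (nat_lit 12),
  Rule.mk (nat_lit 7) (nat_lit 114) (Steps.bwd (nat_lit 3) (Steps.fwd (nat_lit 1572864) (Steps.fwd (nat_lit 1835008) (Steps.fwd (nat_lit 786432) (Steps.bwd (nat_lit 6) Steps.nil))))) (nat_lit 62) (nat_lit 3),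
  Rule.mk (nat_lit 4) (nat_lit 74) (Steps.bwd (nat_lit 3) (Steps.bwd (nat_lit 4) (Steps.fwd (nat_lit 524288) Steps.nil))) (nat_lit 15) (nat_lit 0),
  Rule.mk (nat_lit 6) (nat_lit 74) (Steps.bwd (nat_lit 4) (Steps.bwd (nat_lit 5) (Steps.fwd (nat_lit 1048576) Steps.nil))) (nat_lit 22) (nat_lit 0),
  Rule.mk (nat_lit 5) (nat_lit 74) (Steps.bwd (nat_lit 8) (Steps.bwd (nat_lit 7) (Steps.bwd (nat_lit 9) Steps.nil))) (nat_lit 98) (nat_lit 0),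
  Rule.mk (nat_lit 7) (nat_lit 94) (Steps.bwd (nat_lit 8) (Steps.fwd (nat_lit 1310720) (Steps.bwd (nat_lit 9) (Steps.bwd (nat_lit 5) Steps.nil)))) (nat_lit 100) (nat_lit 0),
  Rule.mk (nat_lit 5) (nat_lit 94) (Steps.bwd (nat_lit 7) (Steps.fwd (nat_lit 1572864) (Steps.bwd (nat_lit 5) (Steps.fwd (nat_lit 1572864) Steps.nil)))) (nat_lit 24) (nat_lit 4),
  Rule.mk (nat_lit 2) (nat_lit 74) (Steps.bwd (nat_lit 9) (Steps.fwd (nat_lit 524288) (Steps.fwd (nat_lit 2359296) Steps.nil))) (nat_lit 96) (nat_lit 2),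
  Rule.mk (nat_lit 1) (nat_lit 114) (Steps.bwd (nat_lit 4) (Steps.bwd (nat_lit 1) (Steps.fwd (nat_lit 1048576) (Steps.fwd (nat_lit 262144) (Steps.bwd (nat_lit 4) Steps.nil))))) (nat_lit 16) (nat_lit 1),
  Rule.mk (nat_lit 1) (nat_lit 114) (Steps.bwd (nat_lit 4) (Steps.bwd (nat_lit 1) (Steps.fwd (nat_lit 1048576) (Steps.bwd (nat_lit 1) (Steps.fwd (nat_lit 1048576) Steps.nil))))) (nat_lit 16) (nat_lit 1),
  Rule.mk (nat_lit 4) (nat_lit 114) (Steps.bwd (nat_lit 1) (Steps.fwd (nat_lit 1048576) (Steps.bwd (nat_lit 1) (Steps.bwd (nat_lit 4) (Steps.fwd (nat_lit 262144) Steps.nil))))) (nat_lit 16) (nat_lit 0),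
  Rule.mk (nat_lit 1) (nat_lit 114) (Steps.bwd (nat_lit 4) (Steps.bwd (nat_lit 1) (Steps.bwd (nat_lit 4) (Steps.fwd (nat_lit 262144) (Steps.bwd (nat_lit 4) Steps.nil))))) (nat_lit 16) (nat_lit 1),
  Rule.mk (nat_lit 4) (nat_lit 114) (Steps.bwd (nat_lit 1) (Steps.bwd (nat_lit 4) (Steps.bwd (nat_lit 1) (Steps.bwd (nat_lit 4) (Steps.fwd (nat_lit 262144) Steps.nil))))) (nat_lit 16) (nat_lit 0),
  Rule.mk (nat_lit 1) (nat_lit 114) (Steps.bwd (nat_lit 4) (Steps.bwd (nat_lit 1) (Steps.bwd (nat_lit 4) (Steps.bwd (nat_lit 1) (Steps.fwd (nat_lit 1048576) Steps.nil))))) (nat_lit 16) (nat_lit 1),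
  Rule.mk (nat_lit 4) (nat_lit 114) (Steps.bwd (nat_lit 1) (Steps.bwd (nat_lit 4) (Steps.fwd (nat_lit 262144) (Steps.bwd (nat_lit 4) (Steps.fwd (nat_lit 262144) Steps.nil))))) (nat_lit 16) (nat_lit 0),
  Rule.mk (nat_lit 6) (nat_lit 154) (Steps.bwd (nat_lit 1) (Steps.fwd (nat_lit 1048576) (Steps.fwd (nat_lit 262144) (Steps.fwd (nat_lit 1572864) (Steps.fwd (nat_lit 262144) (Steps.fwd (nat_lit 1048576) (Steps.fwd (nat_lit 262144) Steps.nil))))))) (nat_lit 74) (nat_lit 0),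
  Rule.mk (nat_lit 1) (nat_lit 154) (Steps.bwd (nat_lit 6) (Steps.fwd (nat_lit 262144) (Steps.fwd (nat_lit 1048576) (Steps.fwd (nat_lit 262144) (Steps.bwd (nat_lit 6) (Steps.fwd (nat_lit 262144) (Steps.bwd (nat_lit 4) Steps.nil))))))) (nat_lit 74) (nat_lit 3),
  Rule.mk (nat_lit 1) (nat_lit 154) (Steps.bwd (nat_lit 6) (Steps.fwd (nat_lit 262144) (Steps.fwd (nat_lit 1048576) (Steps.bwd (nat_lit 1) (Steps.fwd (nat_lit 1572864) (Steps.bwd (nat_lit 1) (Steps.bwd (nat_lit 4) Steps.nil))))))) (nat_lit 74) (nat_lit 3),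
  Rule.mk (nat_lit 5) (nat_lit 74) (Steps.fwd (nat_lit 262144) (Steps.fwd (nat_lit 1310720) (Steps.bwd (nat_lit 1) Steps.nil))) (nat_lit 18) (nat_lit 0),
  Rule.mk (nat_lit 4) (nat_lit 114) (Steps.bwd (nat_lit 7) (Steps.bwd (nat_lit 5) (Steps.fwd (nat_lit 1048576) (Steps.fwd (nat_lit 1835008) (Steps.fwd (nat_lit 1572864) Steps.nil))))) (nat_lit 67) (nat_lit 3),
  Rule.mk (nat_lit 6) (nat_lit 154) (Steps.bwd (nat_lit 1) (Steps.fwd (nat_lit 1048576) (Steps.fwd (nat_lit 262144) (Steps.bwd (nat_lit 6) (Steps.fwd (nat_lit 262144) (Steps.bwd (nat_lit 4) (Steps.fwd (nat_lit 262144) Steps.nil))))))) (nat_lit 74) (nat_lit 0),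
  Rule.mk (nat_lit 1) (nat_lit 154) (Steps.bwd (nat_lit 6) (Steps.fwd (nat_lit 262144) (Steps.bwd (nat_lit 4) (Steps.fwd (nat_lit 262144) (Steps.bwd (nat_lit 6) (Steps.fwd (nat_lit 262144) (Steps.fwd (nat_lit 1048576) Steps.nil))))))) (nat_lit 74) (nat_lit 3),
  Rule.mk (nat_lit 5) (nat_lit 74) (Steps.fwd (nat_lit 262144) (Steps.bwd (nat_lit 5) (Steps.bwd (nat_lit 1) Steps.nil))) (nat_lit 18) (nat_lit 0),
  Rule.mk (nat_lit 1) (nat_lit 154) (Steps.bwd (nat_lit 6) (Steps.fwd (nat_lit 262144) (Steps.fwd (nat_lit 1048576) (Steps.bwd (nat_lit 1) (Steps.fwd (nat_lit 1572864) (Steps.bwd (nat_lit 1) (Steps.fwd (nat_lit 1048576) Steps.nil))))))) (nat_lit 74) (nat_lit 3),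
  Rule.mk (nat_lit 1) (nat_lit 114) (Steps.bwd (nat_lit 4) (Steps.fwd (nat_lit 262144) (Steps.bwd (nat_lit 4) (Steps.bwd (nat_lit 1) (Steps.fwd (nat_lit 1048576) Steps.nil))))) (nat_lit 16) (nat_lit 1),
  Rule.mk (nat_lit 1) (nat_lit 154) (Steps.bwd (nat_lit 6) (Steps.fwd (nat_lit 262144) (Steps.fwd (nat_lit 1048576) (Steps.bwd (nat_lit 1) (Steps.bwd (nat_lit 6) (Steps.bwd (nat_lit 1) (Steps.bwd (nat_lit 4) Steps.nil))))))) (nat_lit 74) (nat_lit 3),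
  Rule.mk (nat_lit 1) (nat_lit 154) (Steps.bwd (nat_lit 6) (Steps.fwd (nat_lit 262144) (Steps.fwd (nat_lit 1048576) (Steps.bwd (nat_lit 1) (Steps.fwd (nat_lit 1572864) (Steps.fwd (nat_lit 262144) (Steps.bwd (nat_lit 4) Steps.nil))))))) (nat_lit 74) (nat_lit 3),
  Rule.mk (nat_lit 1) (nat_lit 154) (Steps.bwd (nat_lit 6) (Steps.fwd (nat_lit 262144) (Steps.bwd (nat_lit 4) (Steps.fwd (nat_lit 262144) (Steps.bwd (nat_lit 6) (Steps.bwd (nat_lit 1) (Steps.bwd (nat_lit 4) Steps.nil))))))) (nat_lit 74) (nat_lit 3),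
  Rule.mk (nat_lit 6) (nat_lit 74) (Steps.bwd (nat_lit 8) (Steps.bwd (nat_lit 6) (Steps.fwd (nat_lit 2359296) Steps.nil))) (nat_lit 102) (nat_lit 1),
  Rule.mk (nat_lit 7) (nat_lit 94) (Steps.bwd (nat_lit 8) (Steps.bwd (nat_lit 5) (Steps.fwd (nat_lit 2097152) (Steps.fwd (nat_lit 1310720) Steps.nil)))) (nat_lit 100) (nat_lit 0),
  Rule.mk (nat_lit 7) (nat_lit 94) (Steps.bwd (nat_lit 8) (Steps.fwd (nat_lit 1310720) (Steps.fwd (nat_lit 2097152) (Steps.bwd (nat_lit 5) Steps.nil)))) (nat_lit 100) (nat_lit 0),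
  Rule.mk (nat_lit 2) (nat_lit 74) (Steps.bwd (nat_lit 8) (Steps.fwd (nat_lit 524288) (Steps.fwd (nat_lit 2097152) Steps.nil))) (nat_lit 97) (nat_lit 1),
  Rule.mk (nat_lit 3) (nat_lit 74) (Steps.bwd (nat_lit 8) (Steps.fwd (nat_lit 786432) (Steps.fwd (nat_lit 2097152) Steps.nil))) (nat_lit 96) (nat_lit 0),
  Rule.mk (nat_lit 5) (nat_lit 94) (Steps.bwd (nat_lit 9) (Steps.bwd (nat_lit 5) (Steps.fwd (nat_lit 1835008) (Steps.fwd (nat_lit 2359296) Steps.nil)))) (nat_lit 100) (nat_lit 2),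
  Rule.mk (nat_lit 7) (nat_lit 94) (Steps.bwd (nat_lit 8) (Steps.fwd (nat_lit 1310720) (Steps.fwd (nat_lit 2097152) (Steps.fwd (nat_lit 1310720) Steps.nil)))) (nat_lit 100) (nat_lit 0),
  Rule.mk (nat_lit 2) (nat_lit 74) (Steps.bwd (nat_lit 8) (Steps.bwd (nat_lit 3) (Steps.fwd (nat_lit 2097152) Steps.nil))) (nat_lit 97) (nat_lit 1),
  Rule.mk (nat_lit 7) (nat_lit 74) (Steps.fwd (nat_lit 1572864) (Steps.fwd (nat_lit 1835008) (Steps.bwd (nat_lit 6) Steps.nil))) (nat_lit 48) (nat_lit 0),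
  Rule.mk (nat_lit 7) (nat_lit 94) (Steps.bwd (nat_lit 8) (Steps.bwd (nat_lit 5) (Steps.fwd (nat_lit 2097152) (Steps.bwd (nat_lit 5) Steps.nil)))) (nat_lit 100) (nat_lit 0),
  Rule.mk (nat_lit 4) (nat_lit 314) (Steps.bwd (nat_lit 8) (Steps.bwd (nat_lit 4) (Steps.fwd (nat_lit 2097152) (Steps.bwd (nat_lit 4) (Steps.bwd (nat_lit 8) (Steps.fwd (nat_lit 1048576) (Steps.bwd (nat_lit 9) (Steps.fwd (nat_lit 1048576) (Steps.fwd (nat_lit 2359296) (Steps.bwd (nat_lit 4) (Steps.fwd (nat_lit 2097152) (Steps.fwd (nat_lit 1048576) (Steps.bwd (nat_lit 8) (Steps.fwd (nat_lit 1048576) (Steps.fwd (nat_lit 2097152) Steps.nil))))))))))))))) (nat_lit 106) (nat_lit 0),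
  Rule.mk (nat_lit 4) (nat_lit 154) (Steps.bwd (nat_lit 5) (Steps.bwd (nat_lit 7) (Steps.fwd (nat_lit 524288) (Steps.fwd (nat_lit 1048576) (Steps.fwd (nat_lit 1572864) (Steps.fwd (nat_lit 1835008) (Steps.bwd (nat_lit 3) Steps.nil))))))) (nat_lit 93) (nat_lit 5),
  Rule.mk (nat_lit 4) (nat_lit 74) (Steps.fwd (nat_lit 1310720) (Steps.bwd (nat_lit 4) (Steps.fwd (nat_lit 1572864) Steps.nil))) (nat_lit 22) (nat_lit 1),
  Rule.mk (nat_lit 4) (nat_lit 74) (Steps.fwd (nat_lit 1835008) (Steps.bwd (nat_lit 4) (Steps.bwd (nat_lit 7) Steps.nil))) (nat_lit 30) (nat_lit 0),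
  Rule.mk (nat_lit 4) (nat_lit 114) (Steps.fwd (nat_lit 1310720) (Steps.bwd (nat_lit 2) (Steps.bwd (nat_lit 4) (Steps.fwd (nat_lit 1572864) (Steps.bwd (nat_lit 2) Steps.nil))))) (nat_lit 54) (nat_lit 2),
  Rule.mk (nat_lit 4) (nat_lit 114) (Steps.fwd (nat_lit 524288) (Steps.fwd (nat_lit 1310720) (Steps.bwd (nat_lit 4) (Steps.bwd (nat_lit 3) (Steps.fwd (nat_lit 1572864) Steps.nil))))) (nat_lit 55) (nat_lit 2),
  Rule.mk (nat_lit 4) (nat_lit 314) (Steps.bwd (nat_lit 8) (Steps.bwd (nat_lit 4) (Steps.bwd (nat_lit 9) (Steps.fwd (nat_lit 1048576) (Steps.fwd (nat_lit 2359296) (Steps.fwd (nat_lit 1048576) (Steps.bwd (nat_lit 9) (Steps.bwd (nat_lit 4) (Steps.fwd (nat_lit 2359296) (Steps.bwd (nat_lit 4) (Steps.bwd (nat_lit 9) (Steps.fwd (nat_lit 1048576) (Steps.fwd (nat_lit 2359296) (Steps.bwd (nat_lit 4) (Steps.bwd (nat_lit 9) Steps.nil))))))))))))))) (nat_lit 106) (nat_lit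 0),
  Rule.mk (nat_lit 4) (nat_lit 74) (Steps.fwd (nat_lit 786432) (Steps.bwd (nat_lit 4) (Steps.bwd (nat_lit 2) Steps.nil))) (nat_lit 14) (nat_lit 1),
  Rule.mk (nat_lit 4) (nat_lit 114) (Steps.bwd (nat_lit 6) (Steps.fwd (nat_lit 786432) (Steps.bwd (nat_lit 4) (Steps.bwd (nat_lit 5) (Steps.fwd (nat_lit 786432) Steps.nil))))) (nat_lit 54) (nat_lit 5)]
noncomputable def R_8 : List (Rule) := [Rule.mk (nat_lit 4) (nat_lit 114) (Steps.fwd (nat_lit 524288) (Steps.bwd (nat_lit 6) (Steps.bwd (nat_lit 4) (Steps.fwd (nat_lit 524288) (Steps.bwd (nat_lit 5) Steps.nil))))) (nat_lit 55) (nat_lit 5),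
  Rule.mk (nat_lit 4) (nat_lit 114) (Steps.fwd (nat_lit 1835008) (Steps.fwd (nat_lit 786432) (Steps.bwd (nat_lit 4) (Steps.fwd (nat_lit 1835008) (Steps.fwd (nat_lit 786432) Steps.nil))))) (nat_lit 56) (nat_lit 2),
  Rule.mk (nat_lit 4) (nat_lit 74) (Steps.fwd (nat_lit 1310720) (Steps.fwd (nat_lit 1048576) (Steps.bwd (nat_lit 6) Steps.nil))) (nat_lit 22) (nat_lit 1),
  Rule.mk (nat_lit 4) (nat_lit 74) (Steps.fwd (nat_lit 1310720) (Steps.bwd (nat_lit 4) (Steps.bwd (nat_lit 6) Steps.nil))) (nat_lit 22) (nat_lit 1),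
  Rule.mk (nat_lit 4) (nat_lit 314) (Steps.bwd (nat_lit 9) (Steps.fwd (nat_lit 1048576) (Steps.bwd (nat_lit 8) (Steps.bwd (nat_lit 4) (Steps.bwd (nat_lit 9) (Steps.bwd (nat_lit 4) (Steps.fwd (nat_lit 2359296) (Steps.fwd (nat_lit 1048576) (Steps.bwd (nat_lit 9) (Steps.fwd (nat_lit 1048576) (Steps.fwd (nat_lit 2359296) (Steps.fwd (nat_lit 1048576) (Steps.fwd (nat_lit 2097152) (Steps.bwd (nat_lit 4) (Steps.fwd (nat_lit 2359296) Steps.nil))))))))))))))) (nat_lit 106) (nat_lit 2),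
  Rule.mk (nat_lit 4) (nat_lit 314) (Steps.bwd (nat_lit 8) (Steps.fwd (nat_lit 1048576) (Steps.fwd (nat_lit 2097152) (Steps.fwd (nat_lit 1048576) (Steps.fwd (nat_lit 2359296) (Steps.fwd (nat_lit 1048576) (Steps.bwd (nat_lit 9) (Steps.bwd (nat_lit 4) (Steps.fwd (nat_lit 2359296) (Steps.fwd (nat_lit 1048576) (Steps.bwd (nat_lit 9) (Steps.fwd (nat_lit 1048576) (Steps.fwd (nat_lit 2359296) (Steps.fwd (nat_lit 1048576) (Steps.bwd (nat_lit 9) Steps.nil))))))))))))))) (nat_lit 106) (nat_lit 0),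
  Rule.mk (nat_lit 4) (nat_lit 314) (Steps.bwd (nat_lit 9) (Steps.fwd (nat_lit 1048576) (Steps.fwd (nat_lit 2359296) (Steps.fwd (nat_lit 1048576) (Steps.fwd (nat_lit 2097152) (Steps.bwd (nat_lit 4) (Steps.fwd (nat_lit 2359296) (Steps.fwd (nat_lit 1048576) (Steps.bwd (nat_lit 9) (Steps.fwd (nat_lit 1048576) (Steps.bwd (nat_lit 8) (Steps.bwd (nat_lit 4) (Steps.bwd (nat_lit 9) (Steps.bwd (nat_lit 4) (Steps.fwd (nat_lit 2359296) Steps.nil))))))))))))))) (nat_lit 106) (nat_lit 2),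
  Rule.mk (nat_lit 4) (nat_lit 314) (Steps.bwd (nat_lit 9) (Steps.fwd (nat_lit 1048576) (Steps.fwd (nat_lit 2359296) (Steps.bwd (nat_lit 4) (Steps.fwd (nat_lit 2097152) (Steps.fwd (nat_lit 1048576) (Steps.bwd (nat_lit 8) (Steps.fwd (nat_lit 1048576) (Steps.fwd (nat_lit 2097152) (Steps.bwd (nat_lit 4) (Steps.fwd (nat_lit 2359296) (Steps.bwd (nat_lit 4) (Steps.bwd (nat_lit 9) (Steps.bwd (nat_lit 4) (Steps.fwd (nat_lit 2359296) Steps.nil))))))))))))))) (nat_lit 106) (nat_lit 2),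
  Rule.mk (nat_lit 4) (nat_lit 314) (Steps.bwd (nat_lit 8) (Steps.bwd (nat_lit 4) (Steps.fwd (nat_lit 2097152) (Steps.fwd (nat_lit 1048576) (Steps.bwd (nat_lit 8) (Steps.fwd (nat_lit 1048576) (Steps.bwd (nat_lit 9) (Steps.fwd (nat_lit 1048576) (Steps.bwd (nat_lit 8) (Steps.fwd (nat_lit 1048576) (Steps.fwd (nat_lit 2097152) (Steps.bwd (nat_lit 4) (Steps.fwd (nat_lit 2359296) (Steps.bwd (nat_lit 4) (Steps.fwd (nat_lit 2097152) Steps.nil))))))))))))))) (nat_lit 106) (nat_lit 0),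
  Rule.mk (nat_lit 4) (nat_lit 314) (Steps.bwd (nat_lit 9) (Steps.fwd (nat_lit 1048576) (Steps.fwd (nat_lit 2359296) (Steps.fwd (nat_lit 1048576) (Steps.fwd (nat_lit 2097152) (Steps.bwd (nat_lit 4) (Steps.bwd (nat_lit 8) (Steps.bwd (nat_lit 4) (Steps.fwd (nat_lit 2097152) (Steps.bwd (nat_lit 4) (Steps.fwd (nat_lit 2359296) (Steps.bwd (nat_lit 4) (Steps.bwd (nat_lit 9) (Steps.bwd (nat_lit 4) (Steps.fwd (nat_lit 2359296) Steps.nil))))))))))))))) (nat_lit 106) (nat_lit 2),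
  Rule.mk (nat_lit 6) (nat_lit 154) (Steps.bwd (nat_lit 1) (Steps.bwd (nat_lit 4) (Steps.bwd (nat_lit 1) (Steps.bwd (nat_lit 6) (Steps.fwd (nat_lit 262144) (Steps.bwd (nat_lit 4) (Steps.fwd (nat_lit 262144) Steps.nil))))))) (nat_lit 74) (nat_lit 0),
  Rule.mk (nat_lit 6) (nat_lit 154) (Steps.bwd (nat_lit 1) (Steps.bwd (nat_lit 4) (Steps.fwd (nat_lit 262144) (Steps.fwd (nat_lit 1572864) (Steps.fwd (nat_lit 262144) (Steps.bwd (nat_lit 4) (Steps.fwd (nat_lit 262144) Steps.nil))))))) (nat_lit 74) (nat_lit 0),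
  Rule.mk (nat_lit 6) (nat_lit 154) (Steps.bwd (nat_lit 1) (Steps.fwd (nat_lit 1048576) (Steps.bwd (nat_lit 1) (Steps.fwd (nat_lit 1572864) (Steps.fwd (nat_lit 262144) (Steps.bwd (nat_lit 4) (Steps.fwd (nat_lit 262144) Steps.nil))))))) (nat_lit 74) (nat_lit 0),
  Rule.mk (nat_lit 6) (nat_lit 154) (Steps.bwd (nat_lit 1) (Steps.fwd (nat_lit 1048576) (Steps.fwd (nat_lit 262144) (Steps.bwd (nat_lit 6) (Steps.fwd (nat_lit 262144) (Steps.fwd (nat_lit 1048576) (Steps.fwd (nat_lit 262144) Steps.nil))))))) (nat_lit 74) (nat_lit 0),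
  Rule.mk (nat_lit 6) (nat_lit 154) (Steps.bwd (nat_lit 1) (Steps.fwd (nat_lit 1048576) (Steps.bwd (nat_lit 1) (Steps.bwd (nat_lit 6) (Steps.fwd (nat_lit 262144) (Steps.bwd (nat_lit 4) (Steps.fwd (nat_lit 262144) Steps.nil))))))) (nat_lit 74) (nat_lit 0),
  Rule.mk (nat_lit 6) (nat_lit 154) (Steps.bwd (nat_lit 1) (Steps.bwd (nat_lit 4) (Steps.bwd (nat_lit 1) (Steps.fwd (nat_lit 1572864) (Steps.bwd (nat_lit 1) (Steps.bwd (nat_lit 4) (Steps.fwd (nat_lit 262144) Steps.nil))))))) (nat_lit 74) (nat_lit 0),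
  Rule.mk (nat_lit 6) (nat_lit 154) (Steps.bwd (nat_lit 1) (Steps.fwd (nat_lit 1048576) (Steps.fwd (nat_lit 262144) (Steps.fwd (nat_lit 1572864) (Steps.bwd (nat_lit 1) (Steps.fwd (nat_lit 1048576) (Steps.fwd (nat_lit 262144) Steps.nil))))))) (nat_lit 74) (nat_lit 0),
  Rule.mk (nat_lit 6) (nat_lit 154) (Steps.bwd (nat_lit 1) (Steps.fwd (nat_lit 1048576) (Steps.fwd (nat_lit 262144) (Steps.fwd (nat_lit 1572864) (Steps.bwd (nat_lit 1) (Steps.bwd (nat_lit 4) (Steps.fwd (nat_lit 262144) Steps.nil))))))) (nat_lit 74) (nat_lit 0),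
  Rule.mk (nat_lit 6) (nat_lit 154) (Steps.bwd (nat_lit 1) (Steps.bwd (nat_lit 4) (Steps.fwd (nat_lit 262144) (Steps.fwd (nat_lit 1572864) (Steps.fwd (nat_lit 262144) (Steps.fwd (nat_lit 1048576) (Steps.fwd (nat_lit 262144) Steps.nil))))))) (nat_lit 74) (nat_lit 0),
  Rule.mk (nat_lit 6) (nat_lit 154) (Steps.bwd (nat_lit 1) (Steps.fwd (nat_lit 1048576) (Steps.bwd (nat_lit 1) (Steps.fwd (nat_lit 1572864) (Steps.fwd (nat_lit 262144) (Steps.fwd (nat_lit 1048576) (Steps.fwd (nat_lit 262144) Steps.nil))))))) (nat_lit 74) (nat_lit 0),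
  Rule.mk (nat_lit 6) (nat_lit 154) (Steps.bwd (nat_lit 1) (Steps.fwd (nat_lit 1048576) (Steps.fwd (nat_lit 262144) (Steps.bwd (nat_lit 6) (Steps.bwd (nat_lit 1) (Steps.bwd (nat_lit 4) (Steps.fwd (nat_lit 262144) Steps.nil))))))) (nat_lit 74) (nat_lit 0),
  Rule.mk (nat_lit 6) (nat_lit 154) (Steps.bwd (nat_lit 1) (Steps.fwd (nat_lit 1048576) (Steps.bwd (nat_lit 1) (Steps.fwd (nat_lit 1572864) (Steps.bwd (nat_lit 1) (Steps.fwd (nat_lit 1048576) (Steps.fwd (nat_lit 262144) Steps.nil))))))) (nat_lit 74) (nat_lit 0),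
  Rule.mk (nat_lit 6) (nat_lit 154) (Steps.bwd (nat_lit 1) (Steps.bwd (nat_lit 4) (Steps.fwd (nat_lit 262144) (Steps.bwd (nat_lit 6) (Steps.fwd (nat_lit 262144) (Steps.fwd (nat_lit 1048576) (Steps.fwd (nat_lit 262144) Steps.nil))))))) (nat_lit 74) (nat_lit 0),
  Rule.mk (nat_lit 6) (nat_lit 154) (Steps.bwd (nat_lit 1) (Steps.bwd (nat_lit 4) (Steps.fwd (nat_lit 262144) (Steps.fwd (nat_lit 1572864) (Steps.bwd (nat_lit 1) (Steps.fwd (nat_lit 1048576) (Steps.fwd (nat_lit 262144) Steps.nil))))))) (nat_lit 74) (nat_lit 0),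
  Rule.mk (nat_lit 6) (nat_lit 154) (Steps.bwd (nat_lit 1) (Steps.fwd (nat_lit 1048576) (Steps.bwd (nat_lit 1) (Steps.bwd (nat_lit 6) (Steps.fwd (nat_lit 262144) (Steps.fwd (nat_lit 1048576) (Steps.fwd (nat_lit 262144) Steps.nil))))))) (nat_lit 74) (nat_lit 0),
  Rule.mk (nat_lit 6) (nat_lit 154) (Steps.bwd (nat_lit 1) (Steps.bwd (nat_lit 4) (Steps.bwd (nat_lit 1) (Steps.fwd (nat_lit 1572864) (Steps.bwd (nat_lit 1) (Steps.fwd (nat_lit 1048576) (Steps.fwd (nat_lit 262144) Steps.nil))))))) (nat_lit 74) (nat_lit 0),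
  Rule.mk (nat_lit 6) (nat_lit 154) (Steps.bwd (nat_lit 1) (Steps.bwd (nat_lit 4) (Steps.bwd (nat_lit 1) (Steps.bwd (nat_lit 6) (Steps.bwd (nat_lit 1) (Steps.bwd (nat_lit 4) (Steps.fwd (nat_lit 262144) Steps.nil))))))) (nat_lit 74) (nat_lit 0),
  Rule.mk (nat_lit 6) (nat_lit 154) (Steps.bwd (nat_lit 1) (Steps.fwd (nat_lit 1048576) (Steps.fwd (nat_lit 262144) (Steps.bwd (nat_lit 6) (Steps.bwd (nat_lit 1) (Steps.fwd (nat_lit 1048576) (Steps.fwd (nat_lit 262144) Steps.nil))))))) (nat_lit 74) (nat_lit 0),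
  Rule.mk (nat_lit 6) (nat_lit 154) (Steps.bwd (nat_lit 1) (Steps.fwd (nat_lit 1048576) (Steps.bwd (nat_lit 1) (Steps.fwd (nat_lit 1572864) (Steps.bwd (nat_lit 1) (Steps.bwd (nat_lit 4) (Steps.fwd (nat_lit 262144) Steps.nil))))))) (nat_lit 74) (nat_lit 0),
  Rule.mk (nat_lit 6) (nat_lit 154) (Steps.bwd (nat_lit 1) (Steps.bwd (nat_lit 4) (Steps.fwd (nat_lit 262144) (Steps.bwd (nat_lit 6) (Steps.fwd (nat_lit 262144) (Steps.bwd (nat_lit 4) (Steps.fwd (nat_lit 262144) Steps.nil))))))) (nat_lit 74) (nat_lit 0),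
  Rule.mk (nat_lit 6) (nat_lit 154) (Steps.bwd (nat_lit 1) (Steps.bwd (nat_lit 4) (Steps.fwd (nat_lit 262144) (Steps.bwd (nat_lit 6) (Steps.bwd (nat_lit 1) (Steps.fwd (nat_lit 1048576) (Steps.fwd (nat_lit 262144) Steps.nil))))))) (nat_lit 74) (nat_lit 0),
  Rule.mk (nat_lit 8) (nat_lit 314) (Steps.bwd (nat_lit 4) (Steps.bwd (nat_lit 9) (Steps.fwd (nat_lit 1048576) (Steps.bwd (nat_lit 8) (Steps.bwd (nat_lit 4) (Steps.bwd (nat_lit 9) (Steps.bwd (nat_lit 4) (Steps.fwd (nat_lit 2359296) (Steps.fwd (nat_lit 1048576) (Steps.fwd (nat_lit 2097152) (Steps.fwd (nat_lit 1048576) (Steps.bwd (nat_lit 8) (Steps.bwd (nat_lit 4) (Steps.bwd (nat_lit 9) (Steps.fwd (nat_lit 1048576) Steps.nil))))))))))))))) (nat_lit 106) (nat_lit 1),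
  Rule.mk (nat_lit 9) (nat_lit 94) (Steps.fwd (nat_lit 1310720) (Steps.fwd (nat_lit 1835008) (Steps.bwd (nat_lit 8) (Steps.bwd (nat_lit 5) Steps.nil)))) (nat_lit 100) (nat_lit 3),
  Rule.mk (nat_lit 9) (nat_lit 114) (Steps.bwd (nat_lit 1) (Steps.bwd (nat_lit 8) (Steps.fwd (nat_lit 786432) (Steps.fwd (nat_lit 262144) (Steps.fwd (nat_lit 524288) Steps.nil))))) (nat_lit 104) (nat_lit 5),
  Rule.mk (nat_lit 9) (nat_lit 114) (Steps.bwd (nat_lit 1) (Steps.fwd (nat_lit 2359296) (Steps.bwd (nat_lit 2) (Steps.bwd (nat_lit 1) (Steps.fwd (nat_lit 524288) Steps.nil))))) (nat_lit 104) (nat_lit 5),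
  Rule.mk (nat_lit 9) (nat_lit 314) (Steps.bwd (nat_lit 4) (Steps.fwd (nat_lit 2359296) (Steps.bwd (nat_lit 4) (Steps.bwd (nat_lit 9) (Steps.fwd (nat_lit 1048576) (Steps.fwd (nat_lit 2359296) (Steps.fwd (nat_lit 1048576) (Steps.bwd (nat_lit 9) (Steps.fwd (nat_lit 1048576) (Steps.bwd (nat_lit 8) (Steps.bwd (nat_lit 4) (Steps.bwd (nat_lit 9) (Steps.bwd (nat_lit 4) (Steps.bwd (nat_lit 8) (Steps.fwd (nat_lit 1048576) Steps.nil))))))))))))))) (nat_lit 106) (nat_lit 3),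
  Rule.mk (nat_lit 8) (nat_lit 314) (Steps.bwd (nat_lit 4) (Steps.fwd (nat_lit 2097152) (Steps.fwd (nat_lit 1048576) (Steps.fwd (nat_lit 2359296) (Steps.bwd (nat_lit 4) (Steps.fwd (nat_lit 2097152) (Steps.fwd (nat_lit 1048576) (Steps.bwd (nat_lit 8) (Steps.fwd (nat_lit 1048576) (Steps.bwd (nat_lit 9) (Steps.bwd (nat_lit 4) (Steps.bwd (nat_lit 8) (Steps.bwd (nat_lit 4) (Steps.fwd (nat_lit 2097152) (Steps.fwd (nat_lit 1048576) Steps.nil))))))))))))))) (nat_lit 106) (nat_lit 1),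
  Rule.mk (nat_lit 8) (nat_lit 94) (Steps.fwd (nat_lit 1310720) (Steps.fwd (nat_lit 2097152) (Steps.bwd (nat_lit 5) (Steps.bwd (nat_lit 7) Steps.nil)))) (nat_lit 100) (nat_lit 1),
  Rule.mk (nat_lit 2) (nat_lit 114) (Steps.bwd (nat_lit 1) (Steps.fwd (nat_lit 524288) (Steps.fwd (nat_lit 2097152) (Steps.bwd (nat_lit 1) (Steps.fwd (nat_lit 2359296) Steps.nil))))) (nat_lit 104) (nat_lit 2),
  Rule.mk (nat_lit 2) (nat_lit 114) (Steps.bwd (nat_lit 1) (Steps.bwd (nat_lit 3) (Steps.fwd (nat_lit 2097152) (Steps.fwd (nat_lit 262144) (Steps.fwd (nat_lit 2359296) Steps.nil))))) (nat_lit 104) (nat_lit 2),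
  Rule.mk (nat_lit 2) (nat_lit 114) (Steps.bwd (nat_lit 1) (Steps.bwd (nat_lit 3) (Steps.fwd (nat_lit 2097152) (Steps.bwd (nat_lit 1) (Steps.fwd (nat_lit 2359296) Steps.nil))))) (nat_lit 104) (nat_lit 2),
  Rule.mk (nat_lit 2) (nat_lit 114) (Steps.bwd (nat_lit 1) (Steps.fwd (nat_lit 524288) (Steps.fwd (nat_lit 2097152) (Steps.fwd (nat_lit 262144) (Steps.fwd (nat_lit 2359296) Steps.nil))))) (nat_lit 104) (nat_lit 2),
  Rule.mk (nat_lit 9) (nat_lit 314) (Steps.bwd (nat_lit 4) (Steps.fwd (nat_lit 2359296) (Steps.fwd (nat_lit 1048576) (Steps.fwd (nat_lit 2097152) (Steps.fwd (nat_lit 1048576) (Steps.bwd (nat_lit 8) (Steps.fwd (nat_lit 1048576) (Steps.bwd (nat_lit 9) (Steps.bwd (nat_lit 4) (Steps.bwd (nat_lit 8) (Steps.fwd (nat_lit 1048576) (Steps.fwd (nat_lit 2097152) (Steps.bwd (nat_lit 4) (Steps.bwd (nat_lit 8) (Steps.fwd (nat_lit 1048576) Steps.nil)))))))))))))))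 (nat_lit 106) (nat_lit 3),
  Rule.mk (nat_lit 9) (nat_lit 314) (Steps.bwd (nat_lit 4) (Steps.fwd (nat_lit 2359296) (Steps.fwd (nat_lit 1048576) (Steps.fwd (nat_lit 2097152) (Steps.fwd (nat_lit 1048576) (Steps.bwd (nat_lit 8) (Steps.fwd (nat_lit 1048576) (Steps.bwd (nat_lit 9) (Steps.bwd (nat_lit 4) (Steps.fwd (nat_lit 2359296) (Steps.fwd (nat_lit 1048576) (Steps.fwd (nat_lit 2097152) (Steps.fwd (nat_lit 1048576) (Steps.bwd (nat_lit 8) (Steps.fwd (nat_lit 1048576) Steps.nil))))))))))))))) (nat_lit 106) (nat_lit 3),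
  Rule.mk (nat_lit 9) (nat_lit 314) (Steps.bwd (nat_lit 4) (Steps.fwd (nat_lit 2359296) (Steps.fwd (nat_lit 1048576) (Steps.fwd (nat_lit 2097152) (Steps.bwd (nat_lit 4) (Steps.fwd (nat_lit 2359296) (Steps.fwd (nat_lit 1048576) (Steps.fwd (nat_lit 2097152) (Steps.bwd (nat_lit 4) (Steps.bwd (nat_lit 8) (Steps.bwd (nat_lit 4) (Steps.bwd (nat_lit 9) (Steps.bwd (nat_lit 4) (Steps.bwd (nat_lit 8) (Steps.fwd (nat_lit 1048576) Steps.nil))))))))))))))) (nat_lit 106) (nat_lit 3),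
  Rule.mk (nat_lit 8) (nat_lit 314) (Steps.bwd (nat_lit 4) (Steps.bwd (nat_lit 9) (Steps.bwd (nat_lit 4) (Steps.fwd (nat_lit 2359296) (Steps.fwd (nat_lit 1048576) (Steps.fwd (nat_lit 2097152) (Steps.fwd (nat_lit 1048576) (Steps.fwd (nat_lit 2359296) (Steps.bwd (nat_lit 4) (Steps.bwd (nat_lit 9) (Steps.bwd (nat_lit 4) (Steps.bwd (nat_lit 8) (Steps.fwd (nat_lit 1048576) (Steps.bwd (nat_lit 9) (Steps.fwd (nat_lit 1048576) Steps.nil))))))))))))))) (nat_lit 106) (nat_lit 1),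
  Rule.mk (nat_lit 9) (nat_lit 314) (Steps.bwd (nat_lit 4) (Steps.fwd (nat_lit 2359296) (Steps.fwd (nat_lit 1048576) (Steps.bwd (nat_lit 9) (Steps.bwd (nat_lit 4) (Steps.fwd (nat_lit 2359296) (Steps.bwd (nat_lit 4) (Steps.bwd (nat_lit 9) (Steps.bwd (nat_lit 4) (Steps.fwd (nat_lit 2359296) (Steps.fwd (nat_lit 1048576) (Steps.fwd (nat_lit 2097152) (Steps.bwd (nat_lit 4) (Steps.bwd (nat_lit 8) (Steps.fwd (nat_lit 1048576) Steps.nil))))))))))))))) (nat_lit 106) (nat_lit 3),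
  Rule.mk (nat_lit 9) (nat_lit 314) (Steps.bwd (nat_lit 4) (Steps.fwd (nat_lit 2359296) (Steps.fwd (nat_lit 1048576) (Steps.fwd (nat_lit 2097152) (Steps.bwd (nat_lit 4) (Steps.fwd (nat_lit 2359296) (Steps.bwd (nat_lit 4) (Steps.fwd (nat_lit 2097152) (Steps.bwd (nat_lit 4) (Steps.fwd (nat_lit 2359296) (Steps.fwd (nat_lit 1048576) (Steps.bwd (nat_lit 9) (Steps.bwd (nat_lit 4) (Steps.fwd (nat_lit 2359296) (Steps.fwd (nat_lit 1048576) Steps.nil))))))))))))))) (nat_lit 106) (nat_lit 3),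
  Rule.mk (nat_lit 8) (nat_lit 314) (Steps.bwd (nat_lit 4) (Steps.fwd (nat_lit 2097152) (Steps.fwd (nat_lit 1048576) (Steps.bwd (nat_lit 8) (Steps.fwd (nat_lit 1048576) (Steps.fwd (nat_lit 2097152) (Steps.fwd (nat_lit 1048576) (Steps.fwd (nat_lit 2359296) (Steps.bwd (nat_lit 4) (Steps.fwd (nat_lit 2097152) (Steps.bwd (nat_lit 4) (Steps.fwd (nat_lit 2359296) (Steps.bwd (nat_lit 4) (Steps.fwd (nat_lit 2097152) (Steps.fwd (nat_lit 1048576) Steps.nil))))))))))))))) (nat_lit 106) (nat_lit 1),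
  Rule.mk (nat_lit 8) (nat_lit 314) (Steps.bwd (nat_lit 4) (Steps.fwd (nat_lit 2097152) (Steps.bwd (nat_lit 4) (Steps.fwd (nat_lit 2359296) (Steps.fwd (nat_lit 1048576) (Steps.bwd (nat_lit 9) (Steps.bwd (nat_lit 4) (Steps.bwd (nat_lit 8) (Steps.bwd (nat_lit 4) (Steps.bwd (nat_lit 9) (Steps.fwd (nat_lit 1048576) (Steps.bwd (nat_lit 8) (Steps.fwd (nat_lit 1048576) (Steps.fwd (nat_lit 2097152) (Steps.fwd (nat_lit 1048576) Steps.nil))))))))))))))) (nat_lit 106) (nat_lit 1),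
  Rule.mk (nat_lit 9) (nat_lit 314) (Steps.bwd (nat_lit 4) (Steps.fwd (nat_lit 2359296) (Steps.fwd (nat_lit 1048576) (Steps.bwd (nat_lit 9) (Steps.fwd (nat_lit 1048576) (Steps.fwd (nat_lit 2359296) (Steps.bwd (nat_lit 4) (Steps.fwd (nat_lit 2097152) (Steps.fwd (nat_lit 1048576) (Steps.bwd (nat_lit 8) (Steps.fwd (nat_lit 1048576) (Steps.fwd (nat_lit 2097152) (Steps.bwd (nat_lit 4) (Steps.fwd (nat_lit 2359296) (Steps.fwd (nat_lit 1048576) Steps.nil))))))))))))))) (nat_lit 106) (nat_lit 3),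
  Rule.mk (nat_lit 8) (nat_lit 314) (Steps.bwd (nat_lit 4) (Steps.fwd (nat_lit 2097152) (Steps.fwd (nat_lit 1048576) (Steps.fwd (nat_lit 2359296) (Steps.bwd (nat_lit 4) (Steps.fwd (nat_lit 2097152) (Steps.fwd (nat_lit 1048576) (Steps.fwd (nat_lit 2359296) (Steps.fwd (nat_lit 1048576) (Steps.bwd (nat_lit 9) (Steps.fwd (nat_lit 1048576) (Steps.fwd (nat_lit 2359296) (Steps.bwd (nat_lit 4) (Steps.fwd (nat_lit 2097152) (Steps.fwd (nat_lit 1048576) Steps.nil))))))))))))))) (nat_lit 106) (nat_lit 1),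
  Rule.mk (nat_lit 9) (nat_lit 314) (Steps.bwd (nat_lit 4) (Steps.fwd (nat_lit 2359296) (Steps.fwd (nat_lit 1048576) (Steps.bwd (nat_lit 9) (Steps.fwd (nat_lit 1048576) (Steps.fwd (nat_lit 2359296) (Steps.bwd (nat_lit 4) (Steps.fwd (nat_lit 2097152) (Steps.bwd (nat_lit 4) (Steps.bwd (nat_lit 8) (Steps.bwd (nat_lit 4) (Steps.bwd (nat_lit 9) (Steps.fwd (nat_lit 1048576) (Steps.fwd (nat_lit 2359296) (Steps.fwd (nat_lit 1048576) Steps.nil))))))))))))))) (nat_lit 106) (nat_lit 3),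
  Rule.mk (nat_lit 8) (nat_lit 314) (Steps.bwd (nat_lit 4) (Steps.fwd (nat_lit 2097152) (Steps.fwd (nat_lit 1048576) (Steps.fwd (nat_lit 2359296) (Steps.bwd (nat_lit 4) (Steps.bwd (nat_lit 9) (Steps.fwd (nat_lit 1048576) (Steps.fwd (nat_lit 2359296) (Steps.bwd (nat_lit 4) (Steps.fwd (nat_lit 2097152) (Steps.fwd (nat_lit 1048576) (Steps.bwd (nat_lit 8) (Steps.bwd (nat_lit 4) (Steps.fwd (nat_lit 2097152) (Steps.fwd (nat_lit 1048576) Steps.nil))))))))))))))) (nat_lit 106) (nat_lit 1),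
  Rule.mk (nat_lit 9) (nat_lit 314) (Steps.bwd (nat_lit 4) (Steps.fwd (nat_lit 2359296) (Steps.fwd (nat_lit 1048576) (Steps.fwd (nat_lit 2097152) (Steps.bwd (nat_lit 4) (Steps.bwd (nat_lit 8) (Steps.fwd (nat_lit 1048576) (Steps.bwd (nat_lit 9) (Steps.bwd (nat_lit 4) (Steps.fwd (nat_lit 2359296) (Steps.fwd (nat_lit 1048576) (Steps.bwd (nat_lit 9) (Steps.bwd (nat_lit 4) (Steps.fwd (nat_lit 2359296) (Steps.fwd (nat_lit 1048576) Steps.nil))))))))))))))) (nat_lit 106) (nat_lit 3),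
  Rule.mk (nat_lit 8) (nat_lit 314) (Steps.bwd (nat_lit 4) (Steps.fwd (nat_lit 2097152) (Steps.fwd (nat_lit 1048576) (Steps.bwd (nat_lit 8) (Steps.bwd (nat_lit 4) (Steps.bwd (nat_lit 9) (Steps.fwd (nat_lit 1048576) (Steps.fwd (nat_lit 2359296) (Steps.bwd (nat_lit 4) (Steps.bwd (nat_lit 9) (Steps.fwd (nat_lit 1048576) (Steps.bwd (nat_lit 8) (Steps.bwd (nat_lit 4) (Steps.fwd (nat_lit 2097152) (Steps.fwd (nat_lit 1048576) Steps.nil))))))))))))))) (nat_lit 106) (nat_lit 1),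
  Rule.mk (nat_lit 9) (nat_lit 314) (Steps.bwd (nat_lit 4) (Steps.fwd (nat_lit 2359296) (Steps.fwd (nat_lit 1048576) (Steps.fwd (nat_lit 2097152) (Steps.bwd (nat_lit 4) (Steps.fwd (nat_lit 2359296) (Steps.fwd (nat_lit 1048576) (Steps.bwd (nat_lit 9) (Steps.bwd (nat_lit 4) (Steps.bwd (nat_lit 8) (Steps.bwd (nat_lit 4) (Steps.bwd (nat_lit 9) (Steps.bwd (nat_lit 4) (Steps.fwd (nat_lit 2359296) (Steps.fwd (nat_lit 1048576) Steps.nil))))))))))))))) (nat_lit 106) (nat_lit 3),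
  Rule.mk (nat_lit 8) (nat_lit 314) (Steps.bwd (nat_lit 4) (Steps.fwd (nat_lit 2097152) (Steps.bwd (nat_lit 4) (Steps.bwd (nat_lit 8) (Steps.bwd (nat_lit 4) (Steps.bwd (nat_lit 9) (Steps.bwd (nat_lit 4) (Steps.bwd (nat_lit 8) (Steps.bwd (nat_lit 4) (Steps.fwd (nat_lit 2097152) (Steps.fwd (nat_lit 1048576) (Steps.fwd (nat_lit 2359296) (Steps.bwd (nat_lit 4) (Steps.fwd (nat_lit 2097152) (Steps.fwd (nat_lit 1048576) Steps.nil))))))))))))))) (nat_lit 106) (nat_lit 1),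
  Rule.mk (nat_lit 9) (nat_lit 314) (Steps.bwd (nat_lit 4) (Steps.fwd (nat_lit 2359296) (Steps.bwd (nat_lit 4) (Steps.bwd (nat_lit 9) (Steps.bwd (nat_lit 4) (Steps.bwd (nat_lit 8) (Steps.fwd (nat_lit 1048576) (Steps.fwd (nat_lit 2097152) (Steps.bwd (nat_lit 4) (Steps.fwd (nat_lit 2359296) (Steps.fwd (nat_lit 1048576) (Steps.bwd (nat_lit 9) (Steps.bwd (nat_lit 4) (Steps.bwd (nat_lit 8) (Steps.fwd (nat_lit 1048576) Steps.nil))))))))))))))) (nat_lit 106) (nat_lit 3),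
  Rule.mk (nat_lit 8) (nat_lit 314) (Steps.bwd (nat_lit 4) (Steps.fwd (nat_lit 2097152) (Steps.fwd (nat_lit 1048576) (Steps.fwd (nat_lit 2359296) (Steps.bwd (nat_lit 4) (Steps.fwd (nat_lit 2097152) (Steps.fwd (nat_lit 1048576) (Steps.fwd (nat_lit 2359296) (Steps.fwd (nat_lit 1048576) (Steps.bwd (nat_lit 9) (Steps.bwd (nat_lit 4) (Steps.bwd (nat_lit 8) (Steps.bwd (nat_lit 4) (Steps.fwd (nat_lit 2097152) (Steps.fwd (nat_lit 1048576) Steps.nil))))))))))))))) (nat_lit 106) (nat_lit 1),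
  Rule.mk (nat_lit 8) (nat_lit 114) (Steps.bwd (nat_lit 2) (Steps.bwd (nat_lit 1) (Steps.fwd (nat_lit 524288) (Steps.bwd (nat_lit 9) (Steps.fwd (nat_lit 262144) Steps.nil))))) (nat_lit 104) (nat_lit 1),
  Rule.mk (nat_lit 8) (nat_lit 114) (Steps.bwd (nat_lit 2) (Steps.fwd (nat_lit 262144) (Steps.fwd (nat_lit 524288) (Steps.fwd (nat_lit 2097152) (Steps.fwd (nat_lit 262144) Steps.nil))))) (nat_lit 104) (nat_lit 1),
  Rule.mk (nat_lit 3) (nat_lit 114) (Steps.bwd (nat_lit 9) (Steps.fwd (nat_lit 262144) (Steps.bwd (nat_lit 8) (Steps.fwd (nat_lit 786432) (Steps.fwd (nat_lit 262144) Steps.nil))))) (nat_lit 104) (nat_lit 4),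
  Rule.mk (nat_lit 8) (nat_lit 114) (Steps.bwd (nat_lit 2) (Steps.bwd (nat_lit 1) (Steps.bwd (nat_lit 3) (Steps.fwd (nat_lit 2097152) (Steps.fwd (nat_lit 262144) Steps.nil))))) (nat_lit 104) (nat_lit 1)]
noncomputable def R_9 : List (Rule) := [Rule.mk (nat_lit 8) (nat_lit 114) (Steps.bwd (nat_lit 2) (Steps.fwd (nat_lit 262144) (Steps.bwd (nat_lit 3) (Steps.bwd (nat_lit 9) (Steps.fwd (nat_lit 262144) Steps.nil))))) (nat_lit 104) (nat_lit 1),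
  Rule.mk (nat_lit 1) (nat_lit 114) (Steps.bwd (nat_lit 2) (Steps.bwd (nat_lit 1) (Steps.fwd (nat_lit 786432) (Steps.bwd (nat_lit 1) (Steps.fwd (nat_lit 786432) Steps.nil))))) (nat_lit 12) (nat_lit 1),
  Rule.mk (nat_lit 8) (nat_lit 114) (Steps.bwd (nat_lit 2) (Steps.bwd (nat_lit 1) (Steps.bwd (nat_lit 3) (Steps.bwd (nat_lit 9) (Steps.fwd (nat_lit 262144) Steps.nil))))) (nat_lit 104) (nat_lit 1),
  Rule.mk (nat_lit 3) (nat_lit 114) (Steps.bwd (nat_lit 9) (Steps.bwd (nat_lit 1) (Steps.fwd (nat_lit 2359296) (Steps.bwd (nat_lit 2) (Steps.fwd (nat_lit 262144) Steps.nil))))) (nat_lit 104) (nat_lit 4),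
  Rule.mk (nat_lit 8) (nat_lit 114) (Steps.bwd (nat_lit 2) (Steps.fwd (nat_lit 262144) (Steps.fwd (nat_lit 524288) (Steps.bwd (nat_lit 9) (Steps.fwd (nat_lit 262144) Steps.nil))))) (nat_lit 104) (nat_lit 1),
  Rule.mk (nat_lit 3) (nat_lit 114) (Steps.bwd (nat_lit 9) (Steps.fwd (nat_lit 262144) (Steps.fwd (nat_lit 2359296) (Steps.fwd (nat_lit 786432) (Steps.fwd (nat_lit 262144) Steps.nil))))) (nat_lit 104) (nat_lit 4),
  Rule.mk (nat_lit 1) (nat_lit 114) (Steps.bwd (nat_lit 2) (Steps.bwd (nat_lit 1) (Steps.bwd (nat_lit 2) (Steps.fwd (nat_lit 262144) (Steps.fwd (nat_lit 786432) Steps.nil))))) (nat_lit 12) (nat_lit 1),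
  Rule.mk (nat_lit 1) (nat_lit 114) (Steps.bwd (nat_lit 2) (Steps.bwd (nat_lit 1) (Steps.fwd (nat_lit 786432) (Steps.fwd (nat_lit 262144) (Steps.fwd (nat_lit 786432) Steps.nil))))) (nat_lit 12) (nat_lit 1),
  Rule.mk (nat_lit 1) (nat_lit 114) (Steps.bwd (nat_lit 2) (Steps.fwd (nat_lit 262144) (Steps.fwd (nat_lit 786432) (Steps.bwd (nat_lit 1) (Steps.fwd (nat_lit 786432) Steps.nil))))) (nat_lit 12) (nat_lit 1),
  Rule.mk (nat_lit 8) (nat_lit 114) (Steps.bwd (nat_lit 2) (Steps.fwd (nat_lit 262144) (Steps.bwd (nat_lit 3) (Steps.fwd (nat_lit 2097152) (Steps.fwd (nat_lit 262144) Steps.nil))))) (nat_lit 104) (nat_lit 1),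
  Rule.mk (nat_lit 8) (nat_lit 114) (Steps.bwd (nat_lit 2) (Steps.bwd (nat_lit 1) (Steps.fwd (nat_lit 524288) (Steps.fwd (nat_lit 2097152) (Steps.fwd (nat_lit 262144) Steps.nil))))) (nat_lit 104) (nat_lit 1),
  Rule.mk (nat_lit 3) (nat_lit 114) (Steps.bwd (nat_lit 9) (Steps.fwd (nat_lit 262144) (Steps.fwd (nat_lit 2359296) (Steps.bwd (nat_lit 2) (Steps.fwd (nat_lit 262144) Steps.nil))))) (nat_lit 104) (nat_lit 4),
  Rule.mk (nat_lit 1) (nat_lit 114) (Steps.bwd (nat_lit 3) (Steps.bwd (nat_lit 1) (Steps.fwd (nat_lit 524288) (Steps.bwd (nat_lit 1) (Steps.fwd (nat_lit 524288) Steps.nil))))) (nat_lit 13) (nat_lit 0),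
  Rule.mk (nat_lit 3) (nat_lit 114) (Steps.bwd (nat_lit 9) (Steps.bwd (nat_lit 1) (Steps.bwd (nat_lit 8) (Steps.fwd (nat_lit 786432) (Steps.fwd (nat_lit 262144) Steps.nil))))) (nat_lit 104) (nat_lit 4),
  Rule.mk (nat_lit 3) (nat_lit 114) (Steps.bwd (nat_lit 9) (Steps.fwd (nat_lit 262144) (Steps.bwd (nat_lit 8) (Steps.bwd (nat_lit 2) (Steps.fwd (nat_lit 262144) Steps.nil))))) (nat_lit 104) (nat_lit 4),
  Rule.mk (nat_lit 8) (nat_lit 94) (Steps.fwd (nat_lit 1310720) (Steps.fwd (nat_lit 2097152) (Steps.fwd (nat_lit 1310720) (Steps.bwd (nat_lit 7) Steps.nil)))) (nat_lit 100) (nat_lit 1),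
  Rule.mk (nat_lit 7) (nat_lit 74) (Steps.fwd (nat_lit 524288) (Steps.bwd (nat_lit 7) (Steps.bwd (nat_lit 2) Steps.nil))) (nat_lit 28) (nat_lit 3),
  Rule.mk (nat_lit 7) (nat_lit 74) (Steps.fwd (nat_lit 524288) (Steps.fwd (nat_lit 1835008) (Steps.bwd (nat_lit 2) Steps.nil))) (nat_lit 28) (nat_lit 3),
  Rule.mk (nat_lit 3) (nat_lit 114) (Steps.bwd (nat_lit 9) (Steps.bwd (nat_lit 1) (Steps.fwd (nat_lit 2359296) (Steps.fwd (nat_lit 786432) (Steps.fwd (nat_lit 262144) Steps.nil))))) (nat_lit 104) (nat_lit 4),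
  Rule.mk (nat_lit 9) (nat_lit 114) (Steps.bwd (nat_lit 1) (Steps.bwd (nat_lit 8) (Steps.fwd (nat_lit 786432) (Steps.bwd (nat_lit 1) (Steps.fwd (nat_lit 524288) Steps.nil))))) (nat_lit 104) (nat_lit 5),
  Rule.mk (nat_lit 2) (nat_lit 114) (Steps.bwd (nat_lit 1) (Steps.fwd (nat_lit 524288) (Steps.bwd (nat_lit 9) (Steps.fwd (nat_lit 262144) (Steps.fwd (nat_lit 2359296) Steps.nil))))) (nat_lit 104) (nat_lit 2),
  Rule.mk (nat_lit 2) (nat_lit 114) (Steps.bwd (nat_lit 1) (Steps.fwd (nat_lit 524288) (Steps.bwd (nat_lit 9) (Steps.bwd (nat_lit 1) (Steps.fwd (nat_lit 2359296) Steps.nil))))) (nat_lit 104) (nat_lit 2),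
  Rule.mk (nat_lit 2) (nat_lit 114) (Steps.bwd (nat_lit 1) (Steps.bwd (nat_lit 3) (Steps.bwd (nat_lit 9) (Steps.bwd (nat_lit 1) (Steps.fwd (nat_lit 2359296) Steps.nil))))) (nat_lit 104) (nat_lit 2),
  Rule.mk (nat_lit 2) (nat_lit 114) (Steps.bwd (nat_lit 1) (Steps.bwd (nat_lit 3) (Steps.bwd (nat_lit 9) (Steps.fwd (nat_lit 262144) (Steps.fwd (nat_lit 2359296) Steps.nil))))) (nat_lit 104) (nat_lit 2),
  Rule.mk (nat_lit 1) (nat_lit 114) (Steps.fwd (nat_lit 786432) (Steps.bwd (nat_lit 1) (Steps.fwd (nat_lit 786432) (Steps.fwd (nat_lit 262144) (Steps.bwd (nat_lit 2) Steps.nil))))) (nat_lit 12) (nat_lit 1),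
  Rule.mk (nat_lit 1) (nat_lit 114) (Steps.bwd (nat_lit 8) (Steps.fwd (nat_lit 786432) (Steps.bwd (nat_lit 1) (Steps.bwd (nat_lit 3) (Steps.fwd (nat_lit 2097152) Steps.nil))))) (nat_lit 104) (nat_lit 0),
  Rule.mk (nat_lit 3) (nat_lit 114) (Steps.bwd (nat_lit 1) (Steps.fwd (nat_lit 524288) (Steps.bwd (nat_lit 1) (Steps.bwd (nat_lit 3) (Steps.fwd (nat_lit 262144) Steps.nil))))) (nat_lit 13) (nat_lit 1),
  Rule.mk (nat_lit 6) (nat_lit 74) (Steps.fwd (nat_lit 524288) (Steps.fwd (nat_lit 1572864) (Steps.bwd (nat_lit 2) Steps.nil))) (nat_lit 40) (nat_lit 2),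
  Rule.mk (nat_lit 2) (nat_lit 74) (Steps.fwd (nat_lit 2359296) (Steps.fwd (nat_lit 524288) (Steps.bwd (nat_lit 9) Steps.nil))) (nat_lit 97) (nat_lit 1),
  Rule.mk (nat_lit 3) (nat_lit 114) (Steps.bwd (nat_lit 1) (Steps.fwd (nat_lit 524288) (Steps.bwd (nat_lit 1) (Steps.fwd (nat_lit 524288) (Steps.fwd (nat_lit 262144) Steps.nil))))) (nat_lit 13) (nat_lit 1),
  Rule.mk (nat_lit 4) (nat_lit 154) (Steps.fwd (nat_lit 262144) (Steps.bwd (nat_lit 6) (Steps.bwd (nat_lit 1) (Steps.fwd (nat_lit 1048576) (Steps.fwd (nat_lit 262144) (Steps.fwd (nat_lit 1572864) (Steps.bwd (nat_lit 1) Steps.nil))))))) (nat_lit 74) (nat_lit 2),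
  Rule.mk (nat_lit 4) (nat_lit 74) (Steps.fwd (nat_lit 1835008) (Steps.fwd (nat_lit 1048576) (Steps.bwd (nat_lit 7) Steps.nil))) (nat_lit 30) (nat_lit 0),
  Rule.mk (nat_lit 4) (nat_lit 114) (Steps.fwd (nat_lit 1310720) (Steps.bwd (nat_lit 2) (Steps.fwd (nat_lit 1048576) (Steps.bwd (nat_lit 6) (Steps.bwd (nat_lit 2) Steps.nil))))) (nat_lit 54) (nat_lit 2),
  Rule.mk (nat_lit 4) (nat_lit 114) (Steps.bwd (nat_lit 5) (Steps.fwd (nat_lit 1835008) (Steps.fwd (nat_lit 1048576) (Steps.bwd (nat_lit 6) (Steps.bwd (nat_lit 7) Steps.nil))))) (nat_lit 66) (nat_lit 1),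
  Rule.mk (nat_lit 4) (nat_lit 154) (Steps.bwd (nat_lit 5) (Steps.fwd (nat_lit 1835008) (Steps.bwd (nat_lit 2) (Steps.fwd (nat_lit 1048576) (Steps.bwd (nat_lit 6) (Steps.bwd (nat_lit 7) (Steps.bwd (nat_lit 2) Steps.nil))))))) (nat_lit 78) (nat_lit 2),
  Rule.mk (nat_lit 4) (nat_lit 114) (Steps.bwd (nat_lit 2) (Steps.fwd (nat_lit 1310720) (Steps.bwd (nat_lit 4) (Steps.bwd (nat_lit 2) (Steps.fwd (nat_lit 1572864) Steps.nil))))) (nat_lit 58) (nat_lit 0),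
  Rule.mk (nat_lit 4) (nat_lit 154) (Steps.bwd (nat_lit 1) (Steps.fwd (nat_lit 1572864) (Steps.fwd (nat_lit 262144) (Steps.bwd (nat_lit 4) (Steps.bwd (nat_lit 1) (Steps.bwd (nat_lit 6) (Steps.fwd (nat_lit 262144) Steps.nil))))))) (nat_lit 74) (nat_lit 2),
  Rule.mk (nat_lit 1) (nat_lit 154) (Steps.fwd (nat_lit 1835008) (Steps.bwd (nat_lit 4) (Steps.fwd (nat_lit 262144) (Steps.bwd (nat_lit 4) (Steps.fwd (nat_lit 1835008) (Steps.bwd (nat_lit 1) (Steps.fwd (nat_lit 1048576) Steps.nil))))))) (nat_lit 76) (nat_lit 3),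
  Rule.mk (nat_lit 1) (nat_lit 114) (Steps.fwd (nat_lit 1310720) (Steps.fwd (nat_lit 1835008) (Steps.bwd (nat_lit 1) (Steps.bwd (nat_lit 5) (Steps.fwd (nat_lit 1835008) Steps.nil))))) (nat_lit 52) (nat_lit 1),
  Rule.mk (nat_lit 4) (nat_lit 154) (Steps.bwd (nat_lit 1) (Steps.bwd (nat_lit 7) (Steps.fwd (nat_lit 1048576) (Steps.bwd (nat_lit 1) (Steps.bwd (nat_lit 4) (Steps.fwd (nat_lit 1835008) (Steps.fwd (nat_lit 262144) Steps.nil))))))) (nat_lit 76) (nat_lit 2),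
  Rule.mk (nat_lit 4) (nat_lit 114) (Steps.bwd (nat_lit 6) (Steps.bwd (nat_lit 2) (Steps.bwd (nat_lit 4) (Steps.fwd (nat_lit 1310720) (Steps.bwd (nat_lit 2) Steps.nil))))) (nat_lit 54) (nat_lit 5),
  Rule.mk (nat_lit 4) (nat_lit 114) (Steps.fwd (nat_lit 1835008) (Steps.bwd (nat_lit 2) (Steps.bwd (nat_lit 4) (Steps.fwd (nat_lit 1835008) (Steps.bwd (nat_lit 2) Steps.nil))))) (nat_lit 56) (nat_lit 2),
  Rule.mk (nat_lit 4) (nat_lit 114) (Steps.bwd (nat_lit 2) (Steps.fwd (nat_lit 1310720) (Steps.bwd (nat_lit 4) (Steps.bwd (nat_lit 2) (Steps.bwd (nat_lit 6) Steps.nil))))) (nat_lit 58) (nat_lit 0),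
  Rule.mk (nat_lit 4) (nat_lit 154) (Steps.bwd (nat_lit 6) (Steps.fwd (nat_lit 1835008) (Steps.bwd (nat_lit 2) (Steps.bwd (nat_lit 4) (Steps.fwd (nat_lit 1310720) (Steps.bwd (nat_lit 7) (Steps.bwd (nat_lit 2) Steps.nil))))))) (nat_lit 78) (nat_lit 6),
  Rule.mk (nat_lit 4) (nat_lit 154) (Steps.bwd (nat_lit 7) (Steps.bwd (nat_lit 2) (Steps.fwd (nat_lit 1310720) (Steps.bwd (nat_lit 4) (Steps.fwd (nat_lit 1835008) (Steps.bwd (nat_lit 2) (Steps.fwd (nat_lit 1572864) Steps.nil))))))) (nat_lit 86) (nat_lit 7),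
  Rule.mk (nat_lit 4) (nat_lit 114) (Steps.bwd (nat_lit 5) (Steps.fwd (nat_lit 1835008) (Steps.bwd (nat_lit 4) (Steps.fwd (nat_lit 1572864) (Steps.bwd (nat_lit 7) Steps.nil))))) (nat_lit 66) (nat_lit 1),
  Rule.mk (nat_lit 4) (nat_lit 154) (Steps.fwd (nat_lit 1310720) (Steps.fwd (nat_lit 524288) (Steps.fwd (nat_lit 1835008) (Steps.bwd (nat_lit 4) (Steps.fwd (nat_lit 1572864) (Steps.fwd (nat_lit 524288) (Steps.fwd (nat_lit 1835008) Steps.nil))))))) (nat_lit 87) (nat_lit 6),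
  Rule.mk (nat_lit 1) (nat_lit 114) (Steps.fwd (nat_lit 786432) (Steps.bwd (nat_lit 1) (Steps.bwd (nat_lit 2) (Steps.fwd (nat_lit 262144) (Steps.bwd (nat_lit 2) Steps.nil))))) (nat_lit 12) (nat_lit 1),
  Rule.mk (nat_lit 1) (nat_lit 74) (Steps.fwd (nat_lit 1310720) (Steps.fwd (nat_lit 262144) (Steps.bwd (nat_lit 5) Steps.nil))) (nat_lit 18) (nat_lit 1),
  Rule.mk (nat_lit 9) (nat_lit 74) (Steps.fwd (nat_lit 524288) (Steps.fwd (nat_lit 2359296) (Steps.bwd (nat_lit 2) Steps.nil))) (nat_lit 96) (nat_lit 3),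
  Rule.mk (nat_lit 2) (nat_lit 114) (Steps.bwd (nat_lit 1) (Steps.bwd (nat_lit 2) (Steps.bwd (nat_lit 1) (Steps.fwd (nat_lit 786432) (Steps.fwd (nat_lit 262144) Steps.nil))))) (nat_lit 12) (nat_lit 0),
  Rule.mk (nat_lit 2) (nat_lit 74) (Steps.fwd (nat_lit 1572864) (Steps.fwd (nat_lit 524288) (Steps.bwd (nat_lit 6) Steps.nil))) (nat_lit 40) (nat_lit 1),
  Rule.mk (nat_lit 6) (nat_lit 74) (Steps.fwd (nat_lit 524288) (Steps.bwd (nat_lit 6) (Steps.bwd (nat_lit 2) Steps.nil))) (nat_lit 40) (nat_lit 2),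
  Rule.mk (nat_lit 6) (nat_lit 154) (Steps.bwd (nat_lit 2) (Steps.bwd (nat_lit 5) (Steps.bwd (nat_lit 2) (Steps.bwd (nat_lit 7) (Steps.bwd (nat_lit 6) (Steps.bwd (nat_lit 2) (Steps.bwd (nat_lit 5) Steps.nil))))))) (nat_lit 84) (nat_lit 0),
  Rule.mk (nat_lit 6) (nat_lit 154) (Steps.bwd (nat_lit 3) (Steps.bwd (nat_lit 5) (Steps.bwd (nat_lit 3) (Steps.fwd (nat_lit 1835008) (Steps.bwd (nat_lit 6) (Steps.fwd (nat_lit 524288) (Steps.fwd (nat_lit 1310720) Steps.nil))))))) (nat_lit 83) (nat_lit 5),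
  Rule.mk (nat_lit 1) (nat_lit 114) (Steps.bwd (nat_lit 8) (Steps.fwd (nat_lit 786432) (Steps.fwd (nat_lit 262144) (Steps.bwd (nat_lit 3) (Steps.bwd (nat_lit 9) Steps.nil))))) (nat_lit 104) (nat_lit 0),
  Rule.mk (nat_lit 1) (nat_lit 114) (Steps.fwd (nat_lit 524288) (Steps.bwd (nat_lit 1) (Steps.fwd (nat_lit 524288) (Steps.fwd (nat_lit 262144) (Steps.bwd (nat_lit 3) Steps.nil))))) (nat_lit 13) (nat_lit 0),
  Rule.mk (nat_lit 6) (nat_lit 154) (Steps.bwd (nat_lit 3) (Steps.fwd (nat_lit 1310720) (Steps.bwd (nat_lit 3) (Steps.bwd (nat_lit 7) (Steps.bwd (nat_lit 6) (Steps.fwd (nat_lit 524288) (Steps.bwd (nat_lit 5) Steps.nil))))))) (nat_lit 83) (nat_lit 5),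
  Rule.mk (nat_lit 1) (nat_lit 74) (Steps.fwd (nat_lit 1835008) (Steps.fwd (nat_lit 262144) (Steps.bwd (nat_lit 7) Steps.nil))) (nat_lit 26) (nat_lit 0),
  Rule.mk (nat_lit 6) (nat_lit 154) (Steps.bwd (nat_lit 2) (Steps.bwd (nat_lit 5) (Steps.bwd (nat_lit 2) (Steps.fwd (nat_lit 1835008) (Steps.bwd (nat_lit 6) (Steps.bwd (nat_lit 2) (Steps.fwd (nat_lit 1310720) Steps.nil))))))) (nat_lit 84) (nat_lit 0),
  Rule.mk (nat_lit 6) (nat_lit 114) (Steps.bwd (nat_lit 2) (Steps.fwd (nat_lit 1835008) (Steps.fwd (nat_lit 1572864) (Steps.fwd (nat_lit 524288) (Steps.bwd (nat_lit 7) Steps.nil))))) (nat_lit 63) (nat_lit 2),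
  Rule.mk (nat_lit 6) (nat_lit 114) (Steps.bwd (nat_lit 2) (Steps.fwd (nat_lit 1835008) (Steps.fwd (nat_lit 1572864) (Steps.fwd (nat_lit 524288) (Steps.fwd (nat_lit 1835008) Steps.nil))))) (nat_lit 63) (nat_lit 2),
  Rule.mk (nat_lit 6) (nat_lit 114) (Steps.bwd (nat_lit 3) (Steps.fwd (nat_lit 1835008) (Steps.fwd (nat_lit 1572864) (Steps.fwd (nat_lit 786432) (Steps.bwd (nat_lit 7) Steps.nil))))) (nat_lit 63) (nat_lit 5),
  Rule.mk (nat_lit 6) (nat_lit 114) (Steps.bwd (nat_lit 3) (Steps.fwd (nat_lit 1835008) (Steps.fwd (nat_lit 1572864) (Steps.fwd (nat_lit 786432) (Steps.fwd (nat_lit 1835008) Steps.nil))))) (nat_lit 63) (nat_lit 5)]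
noncomputable def R_10 : List (Rule) := [Rule.mk (nat_lit 9) (nat_lit 94) (Steps.fwd (nat_lit 1310720) (Steps.fwd (nat_lit 1835008) (Steps.fwd (nat_lit 2359296) (Steps.bwd (nat_lit 5) Steps.nil)))) (nat_lit 100) (nat_lit 3),
  Rule.mk (nat_lit 6) (nat_lit 154) (Steps.bwd (nat_lit 3) (Steps.bwd (nat_lit 5) (Steps.bwd (nat_lit 3) (Steps.fwd (nat_lit 1835008) (Steps.bwd (nat_lit 6) (Steps.fwd (nat_lit 524288) (Steps.bwd (nat_lit 5) Steps.nil))))))) (nat_lit 83) (nat_lit 5),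
  Rule.mk (nat_lit 1) (nat_lit 274) (Steps.bwd (nat_lit 6) (Steps.bwd (nat_lit 1) (Steps.bwd (nat_lit 6) (Steps.fwd (nat_lit 1310720) (Steps.fwd (nat_lit 786432) (Steps.fwd (nat_lit 262144) (Steps.fwd (nat_lit 1572864) (Steps.bwd (nat_lit 1) (Steps.fwd (nat_lit 786432) (Steps.bwd (nat_lit 1) (Steps.fwd (nat_lit 1572864) (Steps.fwd (nat_lit 262144) (Steps.bwd (nat_lit 2) Steps.nil))))))))))))) (nat_lit 34) (nat_lit 10),
  Rule.mk (nat_lit 1) (nat_lit 274) (Steps.fwd (nat_lit 524288) (Steps.bwd (nat_lit 1) (Steps.fwd (nat_lit 1572864) (Steps.fwd (nat_lit 262144) (Steps.fwd (nat_lit 524288) (Steps.bwd (nat_lit 5) (Steps.bwd (nat_lit 6) (Steps.fwd (nat_lit 262144) (Steps.bwd (nat_lit 6) (Steps.bwd (nat_lit 1) (Steps.fwd (nat_lit 524288) (Steps.fwd (nat_lit 262144) (Steps.bwd (nat_lit 6) Steps.nil))))))))))))) (nat_lit 35) (nat_lit 9),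
  Rule.mk (nat_lit 1) (nat_lit 274) (Steps.bwd (nat_lit 6) (Steps.bwd (nat_lit 1) (Steps.fwd (nat_lit 1572864) (Steps.bwd (nat_lit 5) (Steps.bwd (nat_lit 2) (Steps.fwd (nat_lit 262144) (Steps.fwd (nat_lit 1572864) (Steps.bwd (nat_lit 1) (Steps.fwd (nat_lit 786432) (Steps.bwd (nat_lit 1) (Steps.fwd (nat_lit 1572864) (Steps.fwd (nat_lit 262144) (Steps.bwd (nat_lit 2) Steps.nil))))))))))))) (nat_lit 34) (nat_lit 10),
  Rule.mk (nat_lit 1) (nat_lit 274) (Steps.bwd (nat_lit 6) (Steps.bwd (nat_lit 1) (Steps.fwd (nat_lit 1572864) (Steps.bwd (nat_lit 5) (Steps.fwd (nat_lit 786432) (Steps.fwd (nat_lit 262144) (Steps.fwd (nat_lit 1572864) (Steps.bwd (nat_lit 1) (Steps.fwd (nat_lit 786432) (Steps.bwd (nat_lit 1) (Steps.fwd (nat_lit 1572864) (Steps.fwd (nat_lit 262144) (Steps.bwd (nat_lit 2) Steps.nil))))))))))))) (nat_lit 34) (nat_lit 10),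
  Rule.mk (nat_lit 1) (nat_lit 274) (Steps.fwd (nat_lit 524288) (Steps.bwd (nat_lit 1) (Steps.fwd (nat_lit 1572864) (Steps.fwd (nat_lit 262144) (Steps.fwd (nat_lit 524288) (Steps.fwd (nat_lit 1310720) (Steps.bwd (nat_lit 6) (Steps.fwd (nat_lit 262144) (Steps.bwd (nat_lit 6) (Steps.bwd (nat_lit 1) (Steps.fwd (nat_lit 524288) (Steps.fwd (nat_lit 262144) (Steps.bwd (nat_lit 6) Steps.nil))))))))))))) (nat_lit 35) (nat_lit 9),
  Rule.mk (nat_lit 1) (nat_lit 274) (Steps.bwd (nat_lit 6) (Steps.bwd (nat_lit 1) (Steps.fwd (nat_lit 1572864) (Steps.fwd (nat_lit 1310720) (Steps.fwd (nat_lit 786432) (Steps.fwd (nat_lit 262144) (Steps.fwd (nat_lit 1572864) (Steps.bwd (nat_lit 1) (Steps.fwd (nat_lit 786432) (Steps.bwd (nat_lit 1) (Steps.fwd (nat_lit 1572864) (Steps.fwd (nat_lit 262144) (Steps.bwd (nat_lit 2) Steps.nil))))))))))))) (nat_lit 34) (nat_lit 10),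
  Rule.mk (nat_lit 9) (nat_lit 94) (Steps.bwd (nat_lit 5) (Steps.fwd (nat_lit 1835008) (Steps.fwd (nat_lit 2359296) (Steps.bwd (nat_lit 5) Steps.nil)))) (nat_lit 100) (nat_lit 3),
  Rule.mk (nat_lit 6) (nat_lit 154) (Steps.bwd (nat_lit 3) (Steps.bwd (nat_lit 5) (Steps.bwd (nat_lit 3) (Steps.bwd (nat_lit 7) (Steps.bwd (nat_lit 6) (Steps.fwd (nat_lit 524288) (Steps.fwd (nat_lit 1310720) Steps.nil))))))) (nat_lit 83) (nat_lit 5),
  Rule.mk (nat_lit 8) (nat_lit 114) (Steps.bwd (nat_lit 2) (Steps.fwd (nat_lit 262144) (Steps.fwd (nat_lit 524288) (Steps.bwd (nat_lit 9) (Steps.bwd (nat_lit 1) Steps.nil))))) (nat_lit 104) (nat_lit 1),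
  Rule.mk (nat_lit 1) (nat_lit 274) (Steps.bwd (nat_lit 6) (Steps.bwd (nat_lit 1) (Steps.bwd (nat_lit 6) (Steps.bwd (nat_lit 5) (Steps.bwd (nat_lit 2) (Steps.fwd (nat_lit 262144) (Steps.bwd (nat_lit 6) (Steps.bwd (nat_lit 1) (Steps.bwd (nat_lit 2) (Steps.bwd (nat_lit 1) (Steps.fwd (nat_lit 1572864) (Steps.fwd (nat_lit 262144) (Steps.bwd (nat_lit 2) Steps.nil))))))))))))) (nat_lit 34) (nat_lit 10),
  Rule.mk (nat_lit 1) (nat_lit 274) (Steps.fwd (nat_lit 524288) (Steps.bwd (nat_lit 1) (Steps.fwd (nat_lit 1572864) (Steps.fwd (nat_lit 262144) (Steps.bwd (nat_lit 3) (Steps.fwd (nat_lit 262144) (Steps.fwd (nat_lit 1572864) (Steps.bwd (nat_lit 1) (Steps.fwd (nat_lit 524288) (Steps.fwd (nat_lit 1310720) (Steps.fwd (nat_lit 1572864) (Steps.fwd (nat_lit 262144) (Steps.bwd (nat_lit 6) Steps.nil))))))))))))) (nat_lit 35) (nat_lit 5),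
  Rule.mk (nat_lit 6) (nat_lit 154) (Steps.bwd (nat_lit 3) (Steps.fwd (nat_lit 1310720) (Steps.bwd (nat_lit 3) (Steps.fwd (nat_lit 1835008) (Steps.bwd (nat_lit 6) (Steps.fwd (nat_lit 524288) (Steps.fwd (nat_lit 1310720) Steps.nil))))))) (nat_lit 83) (nat_lit 5),
  Rule.mk (nat_lit 1) (nat_lit 274) (Steps.bwd (nat_lit 6) (Steps.bwd (nat_lit 1) (Steps.fwd (nat_lit 1572864) (Steps.bwd (nat_lit 5) (Steps.fwd (nat_lit 786432) (Steps.fwd (nat_lit 262144) (Steps.bwd (nat_lit 6) (Steps.bwd (nat_lit 1) (Steps.bwd (nat_lit 2) (Steps.bwd (nat_lit 1) (Steps.fwd (nat_lit 1572864) (Steps.fwd (nat_lit 262144) (Steps.bwd (nat_lit 2) Steps.nil))))))))))))) (nat_lit 34) (nat_lit 10),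
  Rule.mk (nat_lit 1) (nat_lit 274) (Steps.bwd (nat_lit 6) (Steps.bwd (nat_lit 1) (Steps.fwd (nat_lit 524288) (Steps.bwd (nat_lit 5) (Steps.fwd (nat_lit 1572864) (Steps.fwd (nat_lit 262144) (Steps.fwd (nat_lit 1572864) (Steps.bwd (nat_lit 1) (Steps.fwd (nat_lit 524288) (Steps.bwd (nat_lit 1) (Steps.fwd (nat_lit 1572864) (Steps.fwd (nat_lit 262144) (Steps.fwd (nat_lit 524288) Steps.nil))))))))))))) (nat_lit 35) (nat_lit 11),
  Rule.mk (nat_lit 1) (nat_lit 274) (Steps.bwd (nat_lit 6) (Steps.bwd (nat_lit 1) (Steps.fwd (nat_lit 524288) (Steps.fwd (nat_lit 1310720) (Steps.bwd (nat_lit 6) (Steps.fwd (nat_lit 262144) (Steps.fwd (nat_lit 1572864) (Steps.bwd (nat_lit 1) (Steps.fwd (nat_lit 524288) (Steps.bwd (nat_lit 1) (Steps.fwd (nat_lit 1572864) (Steps.fwd (nat_lit 262144) (Steps.fwd (nat_lit 524288) Steps.nil))))))))))))) (nat_lit 35) (nat_lit 11),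
  Rule.mk (nat_lit 7) (nat_lit 74) (Steps.fwd (nat_lit 262144) (Steps.fwd (nat_lit 1835008) (Steps.bwd (nat_lit 1) Steps.nil))) (nat_lit 26) (nat_lit 1),
  Rule.mk (nat_lit 1) (nat_lit 274) (Steps.bwd (nat_lit 6) (Steps.bwd (nat_lit 1) (Steps.fwd (nat_lit 1572864) (Steps.fwd (nat_lit 1310720) (Steps.bwd (nat_lit 2) (Steps.fwd (nat_lit 262144) (Steps.bwd (nat_lit 6) (Steps.bwd (nat_lit 1) (Steps.bwd (nat_lit 2) (Steps.bwd (nat_lit 1) (Steps.fwd (nat_lit 1572864) (Steps.fwd (nat_lit 262144) (Steps.bwd (nat_lit 2) Steps.nil))))))))))))) (nat_lit 34) (nat_lit 10),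
  Rule.mk (nat_lit 1) (nat_lit 274) (Steps.bwd (nat_lit 6) (Steps.bwd (nat_lit 1) (Steps.bwd (nat_lit 6) (Steps.fwd (nat_lit 1310720) (Steps.fwd (nat_lit 786432) (Steps.fwd (nat_lit 262144) (Steps.bwd (nat_lit 6) (Steps.bwd (nat_lit 1) (Steps.bwd (nat_lit 2) (Steps.bwd (nat_lit 1) (Steps.fwd (nat_lit 1572864) (Steps.fwd (nat_lit 262144) (Steps.bwd (nat_lit 2) Steps.nil))))))))))))) (nat_lit 34) (nat_lit 10),
  Rule.mk (nat_lit 1) (nat_lit 274) (Steps.bwd (nat_lit 6) (Steps.bwd (nat_lit 5) (Steps.bwd (nat_lit 2) (Steps.fwd (nat_lit 262144) (Steps.fwd (nat_lit 1572864) (Steps.bwd (nat_lit 1) (Steps.bwd (nat_lit 2) (Steps.fwd (nat_lit 262144) (Steps.fwd (nat_lit 1572864) (Steps.bwd (nat_lit 1) (Steps.bwd (nat_lit 2) (Steps.fwd (nat_lit 262144) (Steps.bwd (nat_lit 6) Steps.nil))))))))))))) (nat_lit 34) (nat_lit 12),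
  Rule.mk (nat_lit 1) (nat_lit 274) (Steps.bwd (nat_lit 6) (Steps.fwd (nat_lit 1310720) (Steps.bwd (nat_lit 2) (Steps.fwd (nat_lit 262144) (Steps.fwd (nat_lit 1572864) (Steps.bwd (nat_lit 1) (Steps.bwd (nat_lit 2) (Steps.fwd (nat_lit 262144) (Steps.fwd (nat_lit 1572864) (Steps.bwd (nat_lit 1) (Steps.bwd (nat_lit 2) (Steps.fwd (nat_lit 262144) (Steps.bwd (nat_lit 6) Steps.nil))))))))))))) (nat_lit 34) (nat_lit 12),
  Rule.mk (nat_lit 1) (nat_lit 274) (Steps.bwd (nat_lit 6) (Steps.bwd (nat_lit 1) (Steps.fwd (nat_lit 524288) (Steps.fwd (nat_lit 1310720) (Steps.fwd (nat_lit 1572864) (Steps.fwd (nat_lit 262144) (Steps.bwd (nat_lit 6) (Steps.fwd (nat_lit 262144) (Steps.fwd (nat_lit 524288) (Steps.bwd (nat_lit 1) (Steps.fwd (nat_lit 1572864) (Steps.fwd (nat_lit 262144) (Steps.bwd (nat_lit 3) Steps.nil))))))))))))) (nat_lit 35) (nat_lit 11),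
  Rule.mk (nat_lit 1) (nat_lit 274) (Steps.bwd (nat_lit 6) (Steps.bwd (nat_lit 1) (Steps.fwd (nat_lit 524288) (Steps.bwd (nat_lit 5) (Steps.fwd (nat_lit 1572864) (Steps.fwd (nat_lit 262144) (Steps.bwd (nat_lit 6) (Steps.fwd (nat_lit 262144) (Steps.fwd (nat_lit 524288) (Steps.bwd (nat_lit 1) (Steps.fwd (nat_lit 1572864) (Steps.fwd (nat_lit 262144) (Steps.bwd (nat_lit 3) Steps.nil))))))))))))) (nat_lit 35) (nat_lit 11),
  Rule.mk (nat_lit 1) (nat_lit 274) (Steps.bwd (nat_lit 6) (Steps.bwd (nat_lit 1) (Steps.fwd (nat_lit 524288) (Steps.bwd (nat_lit 5) (Steps.bwd (nat_lit 6) (Steps.fwd (nat_lit 262144) (Steps.bwd (nat_lit 6) (Steps.fwd (nat_lit 262144) (Steps.fwd (nat_lit 524288) (Steps.bwd (nat_lit 1) (Steps.fwd (nat_lit 1572864) (Steps.fwd (nat_lit 262144) (Steps.bwd (nat_lit 3) Steps.nil))))))))))))) (nat_lit 35) (nat_lit 11),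
  Rule.mk (nat_lit 1) (nat_lit 274) (Steps.bwd (nat_lit 6) (Steps.bwd (nat_lit 1) (Steps.fwd (nat_lit 524288) (Steps.fwd (nat_lit 1310720) (Steps.fwd (nat_lit 1572864) (Steps.fwd (nat_lit 262144) (Steps.bwd (nat_lit 6) (Steps.fwd (nat_lit 262144) (Steps.fwd (nat_lit 524288) (Steps.bwd (nat_lit 1) (Steps.fwd (nat_lit 1572864) (Steps.fwd (nat_lit 262144) (Steps.fwd (nat_lit 524288) Steps.nil))))))))))))) (nat_lit 35) (nat_lit 11),
  Rule.mk (nat_lit 1) (nat_lit 274) (Steps.bwd (nat_lit 6) (Steps.bwd (nat_lit 5) (Steps.bwd (nat_lit 2) (Steps.bwd (nat_lit 1) (Steps.bwd (nat_lit 6) (Steps.fwd (nat_lit 262144) (Steps.fwd (nat_lit 786432) (Steps.bwd (nat_lit 1) (Steps.fwd (nat_lit 1572864) (Steps.fwd (nat_lit 262144) (Steps.bwd (nat_lit 2) (Steps.fwd (nat_lit 262144) (Steps.fwd (nat_lit 1572864) Steps.nil))))))))))))) (nat_lit 34) (nat_lit 12),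
  Rule.mk (nat_lit 1) (nat_lit 274) (Steps.bwd (nat_lit 6) (Steps.fwd (nat_lit 1310720) (Steps.bwd (nat_lit 2) (Steps.bwd (nat_lit 1) (Steps.bwd (nat_lit 6) (Steps.fwd (nat_lit 262144) (Steps.fwd (nat_lit 786432) (Steps.bwd (nat_lit 1) (Steps.fwd (nat_lit 1572864) (Steps.fwd (nat_lit 262144) (Steps.bwd (nat_lit 2) (Steps.fwd (nat_lit 262144) (Steps.fwd (nat_lit 1572864) Steps.nil))))))))))))) (nat_lit 34) (nat_lit 12),
  Rule.mk (nat_lit 1) (nat_lit 274) (Steps.bwd (nat_lit 6) (Steps.bwd (nat_lit 1) (Steps.bwd (nat_lit 6) (Steps.bwd (nat_lit 5) (Steps.bwd (nat_lit 2) (Steps.fwd (nat_lit 262144) (Steps.fwd (nat_lit 1572864) (Steps.fwd (nat_lit 262144) (Steps.bwd (nat_lit 2) (Steps.bwd (nat_lit 1) (Steps.fwd (nat_lit 1572864) (Steps.fwd (nat_lit 262144) (Steps.bwd (nat_lit 2) Steps.nil))))))))))))) (nat_lit 34) (nat_lit 10),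
  Rule.mk (nat_lit 1) (nat_lit 274) (Steps.bwd (nat_lit 6) (Steps.bwd (nat_lit 1) (Steps.fwd (nat_lit 1572864) (Steps.bwd (nat_lit 5) (Steps.fwd (nat_lit 786432) (Steps.fwd (nat_lit 262144) (Steps.fwd (nat_lit 1572864) (Steps.fwd (nat_lit 262144) (Steps.bwd (nat_lit 2) (Steps.bwd (nat_lit 1) (Steps.fwd (nat_lit 1572864) (Steps.fwd (nat_lit 262144) (Steps.bwd (nat_lit 2) Steps.nil))))))))))))) (nat_lit 34) (nat_lit 10),
  Rule.mk (nat_lit 1) (nat_lit 274) (Steps.bwd (nat_lit 6) (Steps.bwd (nat_lit 1) (Steps.fwd (nat_lit 524288) (Steps.fwd (nat_lit 1310720) (Steps.bwd (nat_lit 6) (Steps.fwd (nat_lit 262144) (Steps.fwd (nat_lit 1572864) (Steps.fwd (nat_lit 262144) (Steps.fwd (nat_lit 524288) (Steps.bwd (nat_lit 1) (Steps.fwd (nat_lit 1572864) (Steps.fwd (nat_lit 262144) (Steps.bwd (nat_lit 3) Steps.nil))))))))))))) (nat_lit 35) (nat_lit 11),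
  Rule.mk (nat_lit 1) (nat_lit 274) (Steps.bwd (nat_lit 6) (Steps.bwd (nat_lit 1) (Steps.fwd (nat_lit 524288) (Steps.bwd (nat_lit 5) (Steps.bwd (nat_lit 6) (Steps.fwd (nat_lit 262144) (Steps.fwd (nat_lit 1572864) (Steps.fwd (nat_lit 262144) (Steps.fwd (nat_lit 524288) (Steps.bwd (nat_lit 1) (Steps.fwd (nat_lit 1572864) (Steps.fwd (nat_lit 262144) (Steps.bwd (nat_lit 3) Steps.nil))))))))))))) (nat_lit 35) (nat_lit 11),
  Rule.mk (nat_lit 1) (nat_lit 274) (Steps.bwd (nat_lit 6) (Steps.bwd (nat_lit 1) (Steps.fwd (nat_lit 1572864) (Steps.fwd (nat_lit 1310720) (Steps.bwd (nat_lit 2) (Steps.fwd (nat_lit 262144) (Steps.fwd (nat_lit 1572864) (Steps.fwd (nat_lit 262144) (Steps.bwd (nat_lit 2) (Steps.bwd (nat_lit 1) (Steps.fwd (nat_lit 1572864) (Steps.fwd (nat_lit 262144) (Steps.bwd (nat_lit 2) Steps.nil))))))))))))) (nat_lit 34) (nat_lit 10),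
  Rule.mk (nat_lit 1) (nat_lit 274) (Steps.bwd (nat_lit 6) (Steps.bwd (nat_lit 1) (Steps.bwd (nat_lit 6) (Steps.fwd (nat_lit 1310720) (Steps.fwd (nat_lit 786432) (Steps.fwd (nat_lit 262144) (Steps.fwd (nat_lit 1572864) (Steps.fwd (nat_lit 262144) (Steps.bwd (nat_lit 2) (Steps.bwd (nat_lit 1) (Steps.fwd (nat_lit 1572864) (Steps.fwd (nat_lit 262144) (Steps.bwd (nat_lit 2) Steps.nil))))))))))))) (nat_lit 34) (nat_lit 10),
  Rule.mk (nat_lit 1) (nat_lit 274) (Steps.bwd (nat_lit 6) (Steps.bwd (nat_lit 1) (Steps.fwd (nat_lit 524288) (Steps.fwd (nat_lit 1310720) (Steps.bwd (nat_lit 6) (Steps.fwd (nat_lit 262144) (Steps.fwd (nat_lit 1572864) (Steps.fwd (nat_lit 262144) (Steps.fwd (nat_lit 524288) (Steps.bwd (nat_lit 1) (Steps.fwd (nat_lit 1572864) (Steps.fwd (nat_lit 262144) (Steps.fwd (nat_lit 524288) Steps.nil))))))))))))) (nat_lit 35) (nat_lit 11),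
  Rule.mk (nat_lit 1) (nat_lit 274) (Steps.fwd (nat_lit 786432) (Steps.bwd (nat_lit 1) (Steps.fwd (nat_lit 1572864) (Steps.fwd (nat_lit 262144) (Steps.bwd (nat_lit 2) (Steps.bwd (nat_lit 1) (Steps.fwd (nat_lit 1572864) (Steps.bwd (nat_lit 1) (Steps.bwd (nat_lit 6) (Steps.fwd (nat_lit 1310720) (Steps.fwd (nat_lit 786432) (Steps.fwd (nat_lit 262144) (Steps.bwd (nat_lit 6) Steps.nil))))))))))))) (nat_lit 34) (nat_lit 4),
  Rule.mk (nat_lit 1) (nat_lit 274) (Steps.fwd (nat_lit 786432) (Steps.bwd (nat_lit 1) (Steps.fwd (nat_lit 1572864) (Steps.fwd (nat_lit 262144) (Steps.bwd (nat_lit 2) (Steps.bwd (nat_lit 1) (Steps.fwd (nat_lit 1572864) (Steps.bwd (nat_lit 1) (Steps.bwd (nat_lit 6) (Steps.bwd (nat_lit 5) (Steps.fwd (nat_lit 786432) (Steps.fwd (nat_lit 262144) (Steps.bwd (nat_lit 6) Steps.nil))))))))))))) (nat_lit 34) (nat_lit 4),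
  Rule.mk (nat_lit 1) (nat_lit 274) (Steps.bwd (nat_lit 2) (Steps.bwd (nat_lit 1) (Steps.fwd (nat_lit 1572864) (Steps.fwd (nat_lit 262144) (Steps.bwd (nat_lit 2) (Steps.bwd (nat_lit 1) (Steps.fwd (nat_lit 1572864) (Steps.bwd (nat_lit 1) (Steps.bwd (nat_lit 6) (Steps.fwd (nat_lit 1310720) (Steps.bwd (nat_lit 2) (Steps.fwd (nat_lit 262144) (Steps.bwd (nat_lit 6) Steps.nil))))))))))))) (nat_lit 34) (nat_lit 4),
  Rule.mk (nat_lit 4) (nat_lit 154) (Steps.bwd (nat_lit 1) (Steps.fwd (nat_lit 1572864) (Steps.fwd (nat_lit 262144) (Steps.fwd (nat_lit 1048576) (Steps.bwd (nat_lit 1) (Steps.bwd (nat_lit 6) (Steps.fwd (nat_lit 262144) Steps.nil))))))) (nat_lit 74) (nat_lit 2),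
  Rule.mk (nat_lit 6) (nat_lit 74) (Steps.fwd (nat_lit 1048576) (Steps.fwd (nat_lit 1310720) (Steps.bwd (nat_lit 4) Steps.nil))) (nat_lit 22) (nat_lit 0),
  Rule.mk (nat_lit 4) (nat_lit 154) (Steps.fwd (nat_lit 262144) (Steps.fwd (nat_lit 1572864) (Steps.bwd (nat_lit 1) (Steps.fwd (nat_lit 1048576) (Steps.fwd (nat_lit 262144) (Steps.bwd (nat_lit 6) (Steps.bwd (nat_lit 1) Steps.nil))))))) (nat_lit 74) (nat_lit 2),
  Rule.mk (nat_lit 4) (nat_lit 74) (Steps.fwd (nat_lit 786432) (Steps.fwd (nat_lit 1048576) (Steps.bwd (nat_lit 2) Steps.nil))) (nat_lit 14) (nat_lit 1),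
  Rule.mk (nat_lit 0) (nat_lit 94) (Steps.bwd (nat_lit 4) (Steps.bwd (nat_lit 6) (Steps.fwd (nat_lit 1048576) (Steps.bwd (nat_lit 5) Steps.nil)))) (nat_lit 22) (nat_lit 2),
  Rule.mk (nat_lit 4) (nat_lit 54) (Steps.bwd (nat_lit 0) (Steps.bwd (nat_lit 4) Steps.nil)) (nat_lit 108) (nat_lit 0),
  Rule.mk (nat_lit 0) (nat_lit 74) (Steps.fwd (nat_lit 1572864) (Steps.fwd (nat_lit 0) (Steps.bwd (nat_lit 6) Steps.nil))) (nat_lit 108) (nat_lit 0),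
  Rule.mk (nat_lit 4) (nat_lit 114) (Steps.bwd (nat_lit 6) (Steps.fwd (nat_lit 786432) (Steps.fwd (nat_lit 1048576) (Steps.bwd (nat_lit 5) (Steps.bwd (nat_lit 2) Steps.nil))))) (nat_lit 54) (nat_lit 5),
  Rule.mk (nat_lit 4) (nat_lit 114) (Steps.bwd (nat_lit 5) (Steps.fwd (nat_lit 1835008) (Steps.fwd (nat_lit 1048576) (Steps.fwd (nat_lit 1572864) (Steps.bwd (nat_lit 7) Steps.nil))))) (nat_lit 66) (nat_lit 1),
  Rule.mk (nat_lit 4) (nat_lit 154) (Steps.bwd (nat_lit 7) (Steps.bwd (nat_lit 6) (Steps.fwd (nat_lit 786432) (Steps.fwd (nat_lit 1048576) (Steps.bwd (nat_lit 7) (Steps.fwd (nat_lit 1310720) (Steps.bwd (nat_lit 2) Steps.nil))))))) (nat_lit 80) (nat_lit 6),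
  Rule.mk (nat_lit 4) (nat_lit 74) (Steps.fwd (nat_lit 1572864) (Steps.bwd (nat_lit 4) (Steps.bwd (nat_lit 5) Steps.nil))) (nat_lit 22) (nat_lit 3),
  Rule.mk (nat_lit 4) (nat_lit 154) (Steps.bwd (nat_lit 1) (Steps.bwd (nat_lit 6) (Steps.fwd (nat_lit 262144) (Steps.bwd (nat_lit 4) (Steps.bwd (nat_lit 1) (Steps.fwd (nat_lit 1572864) (Steps.fwd (nat_lit 262144) Steps.nil))))))) (nat_lit 74) (nat_lit 2),
  Rule.mk (nat_lit 1) (nat_lit 154) (Steps.fwd (nat_lit 1835008) (Steps.bwd (nat_lit 4) (Steps.fwd (nat_lit 262144) (Steps.bwd (nat_lit 4) (Steps.bwd (nat_lit 7) (Steps.bwd (nat_lit 1) (Steps.fwd (nat_lit 1048576) Steps.nil))))))) (nat_lit 76) (nat_lit 3),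
  Rule.mk (nat_lit 1) (nat_lit 114) (Steps.bwd (nat_lit 5) (Steps.bwd (nat_lit 7) (Steps.bwd (nat_lit 1) (Steps.fwd (nat_lit 1310720) (Steps.bwd (nat_lit 7) Steps.nil))))) (nat_lit 52) (nat_lit 1),
  Rule.mk (nat_lit 4) (nat_lit 74) (Steps.fwd (nat_lit 524288) (Steps.bwd (nat_lit 4) (Steps.bwd (nat_lit 3) Steps.nil))) (nat_lit 15) (nat_lit 0),
  Rule.mk (nat_lit 4) (nat_lit 114) (Steps.bwd (nat_lit 6) (Steps.bwd (nat_lit 2) (Steps.bwd (nat_lit 4) (Steps.bwd (nat_lit 5) (Steps.bwd (nat_lit 2) Steps.nil))))) (nat_lit 54) (nat_lit 5),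
  Rule.mk (nat_lit 4) (nat_lit 114) (Steps.fwd (nat_lit 524288) (Steps.fwd (nat_lit 1310720) (Steps.bwd (nat_lit 4) (Steps.bwd (nat_lit 3) (Steps.bwd (nat_lit 6) Steps.nil))))) (nat_lit 55) (nat_lit 2),
  Rule.mk (nat_lit 4) (nat_lit 114) (Steps.fwd (nat_lit 1835008) (Steps.bwd (nat_lit 2) (Steps.bwd (nat_lit 4) (Steps.bwd (nat_lit 7) (Steps.bwd (nat_lit 2) Steps.nil))))) (nat_lit 56) (nat_lit 2),
  Rule.mk (nat_lit 4) (nat_lit 114) (Steps.fwd (nat_lit 524288) (Steps.fwd (nat_lit 1835008) (Steps.bwd (nat_lit 4) (Steps.bwd (nat_lit 3) (Steps.fwd (nat_lit 1835008) Steps.nil))))) (nat_lit 57) (nat_lit 2),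
  Rule.mk (nat_lit 4) (nat_lit 114) (Steps.bwd (nat_lit 6) (Steps.fwd (nat_lit 524288) (Steps.bwd (nat_lit 4) (Steps.bwd (nat_lit 5) (Steps.bwd (nat_lit 3) Steps.nil))))) (nat_lit 59) (nat_lit 1),
  Rule.mk (nat_lit 4) (nat_lit 154) (Steps.bwd (nat_lit 6) (Steps.fwd (nat_lit 1835008) (Steps.bwd (nat_lit 2) (Steps.bwd (nat_lit 4) (Steps.bwd (nat_lit 5) (Steps.bwd (nat_lit 7) (Steps.bwd (nat_lit 2) Steps.nil))))))) (nat_lit 78) (nat_lit 6),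
  Rule.mk (nat_lit 4) (nat_lit 154) (Steps.fwd (nat_lit 524288) (Steps.bwd (nat_lit 7) (Steps.fwd (nat_lit 1310720) (Steps.bwd (nat_lit 4) (Steps.bwd (nat_lit 3) (Steps.fwd (nat_lit 1835008) (Steps.bwd (nat_lit 6) Steps.nil))))))) (nat_lit 79) (nat_lit 3),
  Rule.mk (nat_lit 4) (nat_lit 154) (Steps.bwd (nat_lit 7) (Steps.bwd (nat_lit 2) (Steps.fwd (nat_lit 1310720) (Steps.bwd (nat_lit 4) (Steps.bwd (nat_lit 7) (Steps.bwd (nat_lit 2) (Steps.bwd (nat_lit 6) Steps.nil))))))) (nat_lit 86) (nat_lit 7),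
  Rule.mk (nat_lit 4) (nat_lit 154) (Steps.bwd (nat_lit 6) (Steps.fwd (nat_lit 524288) (Steps.fwd (nat_lit 1835008) (Steps.bwd (nat_lit 4) (Steps.bwd (nat_lit 5) (Steps.bwd (nat_lit 3) (Steps.fwd (nat_lit 1835008) Steps.nil))))))) (nat_lit 87) (nat_lit 2),
  Rule.mk (nat_lit 4) (nat_lit 74) (Steps.fwd (nat_lit 1572864) (Steps.bwd (nat_lit 4) (Steps.fwd (nat_lit 1310720) Steps.nil))) (nat_lit 22) (nat_lit 3),
  Rule.mk (nat_lit 4) (nat_lit 114) (Steps.fwd (nat_lit 1572864) (Steps.bwd (nat_lit 2) (Steps.bwd (nat_lit 4) (Steps.fwd (nat_lit 1310720) (Steps.bwd (nat_lit 2) Steps.nil))))) (nat_lit 54) (nat_lit 5)]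
noncomputable def R_11 : List (Rule) := [Rule.mk (nat_lit 4) (nat_lit 114) (Steps.fwd (nat_lit 1572864) (Steps.fwd (nat_lit 1835008) (Steps.bwd (nat_lit 4) (Steps.fwd (nat_lit 1310720) (Steps.bwd (nat_lit 7) Steps.nil))))) (nat_lit 66) (nat_lit 4),
  Rule.mk (nat_lit 1) (nat_lit 114) (Steps.fwd (nat_lit 1310720) (Steps.bwd (nat_lit 7) (Steps.bwd (nat_lit 1) (Steps.bwd (nat_lit 5) (Steps.fwd (nat_lit 1835008) Steps.nil))))) (nat_lit 52) (nat_lit 1),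
  Rule.mk (nat_lit 1) (nat_lit 154) (Steps.bwd (nat_lit 4) (Steps.fwd (nat_lit 262144) (Steps.fwd (nat_lit 1572864) (Steps.bwd (nat_lit 1) (Steps.fwd (nat_lit 1048576) (Steps.bwd (nat_lit 1) (Steps.bwd (nat_lit 6) Steps.nil))))))) (nat_lit 74) (nat_lit 1),
  Rule.mk (nat_lit 1) (nat_lit 154) (Steps.fwd (nat_lit 1572864) (Steps.bwd (nat_lit 1) (Steps.bwd (nat_lit 4) (Steps.fwd (nat_lit 262144) (Steps.bwd (nat_lit 6) (Steps.bwd (nat_lit 1) (Steps.fwd (nat_lit 1048576) Steps.nil))))))) (nat_lit 74) (nat_lit 3),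
  Rule.mk (nat_lit 1) (nat_lit 274) (Steps.bwd (nat_lit 2) (Steps.bwd (nat_lit 1) (Steps.fwd (nat_lit 1572864) (Steps.fwd (nat_lit 262144) (Steps.bwd (nat_lit 2) (Steps.bwd (nat_lit 1) (Steps.fwd (nat_lit 1572864) (Steps.bwd (nat_lit 1) (Steps.bwd (nat_lit 6) (Steps.bwd (nat_lit 5) (Steps.bwd (nat_lit 2) (Steps.fwd (nat_lit 262144) (Steps.bwd (nat_lit 6) Steps.nil))))))))))))) (nat_lit 34) (nat_lit 4),
  Rule.mk (nat_lit 4) (nat_lit 114) (Steps.fwd (nat_lit 524288) (Steps.bwd (nat_lit 6) (Steps.bwd (nat_lit 4) (Steps.bwd (nat_lit 3) (Steps.bwd (nat_lit 5) Steps.nil))))) (nat_lit 55) (nat_lit 5),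
  Rule.mk (nat_lit 6) (nat_lit 274) (Steps.bwd (nat_lit 1) (Steps.fwd (nat_lit 1572864) (Steps.fwd (nat_lit 1310720) (Steps.fwd (nat_lit 786432) (Steps.bwd (nat_lit 1) (Steps.bwd (nat_lit 6) (Steps.fwd (nat_lit 262144) (Steps.bwd (nat_lit 2) (Steps.bwd (nat_lit 1) (Steps.fwd (nat_lit 1572864) (Steps.bwd (nat_lit 1) (Steps.bwd (nat_lit 2) (Steps.fwd (nat_lit 262144) Steps.nil))))))))))))) (nat_lit 34) (nat_lit 11),
  Rule.mk (nat_lit 6) (nat_lit 274) (Steps.bwd (nat_lit 1) (Steps.bwd (nat_lit 3) (Steps.bwd (nat_lit 5) (Steps.bwd (nat_lit 6) (Steps.bwd (nat_lit 1) (Steps.bwd (nat_lit 6) (Steps.fwd (nat_lit 262144) (Steps.bwd (nat_lit 3) (Steps.bwd (nat_lit 1) (Steps.fwd (nat_lit 1572864) (Steps.bwd (nat_lit 1) (Steps.bwd (nat_lit 3) (Steps.fwd (nat_lit 262144) Steps.nil))))))))))))) (nat_lit 35) (nat_lit 12),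
  Rule.mk (nat_lit 4) (nat_lit 154) (Steps.bwd (nat_lit 1) (Steps.fwd (nat_lit 1835008) (Steps.fwd (nat_lit 1048576) (Steps.fwd (nat_lit 262144) (Steps.bwd (nat_lit 4) (Steps.fwd (nat_lit 1835008) (Steps.fwd (nat_lit 262144) Steps.nil))))))) (nat_lit 76) (nat_lit 2),
  Rule.mk (nat_lit 6) (nat_lit 274) (Steps.bwd (nat_lit 1) (Steps.fwd (nat_lit 1572864) (Steps.fwd (nat_lit 1310720) (Steps.fwd (nat_lit 786432) (Steps.bwd (nat_lit 1) (Steps.fwd (nat_lit 1572864) (Steps.fwd (nat_lit 262144) (Steps.bwd (nat_lit 2) (Steps.bwd (nat_lit 1) (Steps.fwd (nat_lit 1572864) (Steps.bwd (nat_lit 1) (Steps.bwd (nat_lit 2) (Steps.fwd (nat_lit 262144) Steps.nil))))))))))))) (nat_lit 34) (nat_lit 11),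
  Rule.mk (nat_lit 6) (nat_lit 274) (Steps.bwd (nat_lit 1) (Steps.fwd (nat_lit 1572864) (Steps.bwd (nat_lit 5) (Steps.fwd (nat_lit 786432) (Steps.bwd (nat_lit 1) (Steps.bwd (nat_lit 6) (Steps.fwd (nat_lit 262144) (Steps.bwd (nat_lit 2) (Steps.bwd (nat_lit 1) (Steps.fwd (nat_lit 1572864) (Steps.bwd (nat_lit 1) (Steps.bwd (nat_lit 2) (Steps.fwd (nat_lit 262144) Steps.nil))))))))))))) (nat_lit 34) (nat_lit 11),
  Rule.mk (nat_lit 6) (nat_lit 274) (Steps.bwd (nat_lit 1) (Steps.bwd (nat_lit 3) (Steps.fwd (nat_lit 1310720) (Steps.bwd (nat_lit 6) (Steps.bwd (nat_lit 1) (Steps.bwd (nat_lit 6) (Steps.fwd (nat_lit 262144) (Steps.bwd (nat_lit 3) (Steps.bwd (nat_lit 1) (Steps.fwd (nat_lit 1572864) (Steps.bwd (nat_lit 1) (Steps.bwd (nat_lit 3) (Steps.fwd (nat_lit 262144) Steps.nil))))))))))))) (nat_lit 35) (nat_lit 12),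
  Rule.mk (nat_lit 4) (nat_lit 154) (Steps.bwd (nat_lit 1) (Steps.fwd (nat_lit 1572864) (Steps.fwd (nat_lit 262144) (Steps.fwd (nat_lit 1048576) (Steps.bwd (nat_lit 1) (Steps.fwd (nat_lit 1572864) (Steps.fwd (nat_lit 262144) Steps.nil))))))) (nat_lit 74) (nat_lit 2),
  Rule.mk (nat_lit 2) (nat_lit 74) (Steps.fwd (nat_lit 1048576) (Steps.bwd (nat_lit 2) (Steps.bwd (nat_lit 4) Steps.nil))) (nat_lit 14) (nat_lit 0),
  Rule.mk (nat_lit 6) (nat_lit 274) (Steps.bwd (nat_lit 1) (Steps.fwd (nat_lit 1572864) (Steps.bwd (nat_lit 5) (Steps.fwd (nat_lit 786432) (Steps.bwd (nat_lit 1) (Steps.fwd (nat_lit 1572864) (Steps.fwd (nat_lit 262144) (Steps.bwd (nat_lit 2) (Steps.bwd (nat_lit 1) (Steps.fwd (nat_lit 1572864) (Steps.bwd (nat_lit 1) (Steps.bwd (nat_lit 2) (Steps.fwd (nat_lit 262144) Steps.nil))))))))))))) (nat_lit 34) (nat_lit 11),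
  Rule.mk (nat_lit 4) (nat_lit 154) (Steps.bwd (nat_lit 1) (Steps.fwd (nat_lit 1835008) (Steps.fwd (nat_lit 1048576) (Steps.bwd (nat_lit 1) (Steps.bwd (nat_lit 4) (Steps.bwd (nat_lit 7) (Steps.fwd (nat_lit 262144) Steps.nil))))))) (nat_lit 76) (nat_lit 2),
  Rule.mk (nat_lit 6) (nat_lit 274) (Steps.bwd (nat_lit 1) (Steps.fwd (nat_lit 1572864) (Steps.fwd (nat_lit 1310720) (Steps.fwd (nat_lit 786432) (Steps.bwd (nat_lit 1) (Steps.bwd (nat_lit 6) (Steps.fwd (nat_lit 262144) (Steps.bwd (nat_lit 2) (Steps.fwd (nat_lit 262144) (Steps.fwd (nat_lit 1572864) (Steps.bwd (nat_lit 1) (Steps.bwd (nat_lit 2) (Steps.fwd (nat_lit 262144) Steps.nil))))))))))))) (nat_lit 34) (nat_lit 11),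
  Rule.mk (nat_lit 6) (nat_lit 274) (Steps.bwd (nat_lit 1) (Steps.bwd (nat_lit 3) (Steps.bwd (nat_lit 5) (Steps.bwd (nat_lit 6) (Steps.bwd (nat_lit 1) (Steps.fwd (nat_lit 1572864) (Steps.fwd (nat_lit 262144) (Steps.bwd (nat_lit 3) (Steps.bwd (nat_lit 1) (Steps.fwd (nat_lit 1572864) (Steps.bwd (nat_lit 1) (Steps.fwd (nat_lit 524288) (Steps.fwd (nat_lit 262144) Steps.nil))))))))))))) (nat_lit 35) (nat_lit 12),
  Rule.mk (nat_lit 6) (nat_lit 274) (Steps.bwd (nat_lit 1) (Steps.fwd (nat_lit 1572864) (Steps.fwd (nat_lit 1310720) (Steps.fwd (nat_lit 786432) (Steps.bwd (nat_lit 1) (Steps.fwd (nat_lit 1572864) (Steps.fwd (nat_lit 262144) (Steps.bwd (nat_lit 2) (Steps.fwd (nat_lit 262144) (Steps.fwd (nat_lit 1572864) (Steps.bwd (nat_lit 1) (Steps.bwd (nat_lit 2) (Steps.fwd (nat_lit 262144) Steps.nil))))))))))))) (nat_lit 34) (nat_lit 11),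
  Rule.mk (nat_lit 6) (nat_lit 274) (Steps.bwd (nat_lit 1) (Steps.bwd (nat_lit 3) (Steps.bwd (nat_lit 5) (Steps.bwd (nat_lit 6) (Steps.bwd (nat_lit 1) (Steps.bwd (nat_lit 6) (Steps.fwd (nat_lit 262144) (Steps.bwd (nat_lit 3) (Steps.bwd (nat_lit 1) (Steps.fwd (nat_lit 1572864) (Steps.bwd (nat_lit 1) (Steps.fwd (nat_lit 524288) (Steps.fwd (nat_lit 262144) Steps.nil))))))))))))) (nat_lit 35) (nat_lit 12),
  Rule.mk (nat_lit 6) (nat_lit 274) (Steps.bwd (nat_lit 1) (Steps.fwd (nat_lit 1572864) (Steps.bwd (nat_lit 5) (Steps.fwd (nat_lit 786432) (Steps.bwd (nat_lit 1) (Steps.bwd (nat_lit 6) (Steps.fwd (nat_lit 262144) (Steps.bwd (nat_lit 2) (Steps.fwd (nat_lit 262144) (Steps.fwd (nat_lit 1572864) (Steps.bwd (nat_lit 1) (Steps.bwd (nat_lit 2) (Steps.fwd (nat_lit 262144) Steps.nil))))))))))))) (nat_lit 34) (nat_lit 11),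
  Rule.mk (nat_lit 6) (nat_lit 274) (Steps.bwd (nat_lit 1) (Steps.bwd (nat_lit 3) (Steps.fwd (nat_lit 1310720) (Steps.bwd (nat_lit 6) (Steps.bwd (nat_lit 1) (Steps.bwd (nat_lit 6) (Steps.fwd (nat_lit 262144) (Steps.bwd (nat_lit 3) (Steps.bwd (nat_lit 1) (Steps.fwd (nat_lit 1572864) (Steps.bwd (nat_lit 1) (Steps.fwd (nat_lit 524288) (Steps.fwd (nat_lit 262144) Steps.nil))))))))))))) (nat_lit 35) (nat_lit 12),
  Rule.mk (nat_lit 6) (nat_lit 274) (Steps.bwd (nat_lit 1) (Steps.fwd (nat_lit 1572864) (Steps.bwd (nat_lit 5) (Steps.fwd (nat_lit 786432) (Steps.bwd (nat_lit 1) (Steps.fwd (nat_lit 1572864) (Steps.fwd (nat_lit 262144) (Steps.bwd (nat_lit 2) (Steps.fwd (nat_lit 262144) (Steps.fwd (nat_lit 1572864) (Steps.bwd (nat_lit 1) (Steps.bwd (nat_lit 2) (Steps.fwd (nat_lit 262144) Steps.nil))))))))))))) (nat_lit 34) (nat_lit 11),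
  Rule.mk (nat_lit 6) (nat_lit 274) (Steps.bwd (nat_lit 1) (Steps.bwd (nat_lit 3) (Steps.fwd (nat_lit 1310720) (Steps.bwd (nat_lit 6) (Steps.bwd (nat_lit 1) (Steps.fwd (nat_lit 1572864) (Steps.fwd (nat_lit 262144) (Steps.bwd (nat_lit 3) (Steps.bwd (nat_lit 1) (Steps.fwd (nat_lit 1572864) (Steps.bwd (nat_lit 1) (Steps.fwd (nat_lit 524288) (Steps.fwd (nat_lit 262144) Steps.nil))))))))))))) (nat_lit 35) (nat_lit 12),
  Rule.mk (nat_lit 1) (nat_lit 274) (Steps.fwd (nat_lit 786432) (Steps.bwd (nat_lit 1) (Steps.fwd (nat_lit 1572864) (Steps.fwd (nat_lit 262144) (Steps.bwd (nat_lit 2) (Steps.bwd (nat_lit 1) (Steps.fwd (nat_lit 1572864) (Steps.bwd (nat_lit 1) (Steps.fwd (nat_lit 1572864) (Steps.bwd (nat_lit 5) (Steps.bwd (nat_lit 2) (Steps.fwd (nat_lit 262144) (Steps.bwd (nat_lit 6) Steps.nil))))))))))))) (nat_lit 34) (nat_lit 4),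
  Rule.mk (nat_lit 1) (nat_lit 274) (Steps.fwd (nat_lit 786432) (Steps.bwd (nat_lit 1) (Steps.fwd (nat_lit 1572864) (Steps.fwd (nat_lit 262144) (Steps.bwd (nat_lit 2) (Steps.bwd (nat_lit 1) (Steps.fwd (nat_lit 1572864) (Steps.bwd (nat_lit 1) (Steps.fwd (nat_lit 1572864) (Steps.fwd (nat_lit 1310720) (Steps.bwd (nat_lit 2) (Steps.fwd (nat_lit 262144) (Steps.bwd (nat_lit 6) Steps.nil))))))))))))) (nat_lit 34) (nat_lit 4),
  Rule.mk (nat_lit 1) (nat_lit 274) (Steps.fwd (nat_lit 786432) (Steps.bwd (nat_lit 1) (Steps.bwd (nat_lit 6) (Steps.fwd (nat_lit 262144) (Steps.bwd (nat_lit 2) (Steps.bwd (nat_lit 1) (Steps.fwd (nat_lit 1572864) (Steps.bwd (nat_lit 1) (Steps.bwd (nat_lit 6) (Steps.bwd (nat_lit 5) (Steps.bwd (nat_lit 2) (Steps.fwd (nat_lit 262144) (Steps.bwd (nat_lit 6) Steps.nil))))))))))))) (nat_lit 34) (nat_lit 4),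
  Rule.mk (nat_lit 1) (nat_lit 274) (Steps.bwd (nat_lit 2) (Steps.bwd (nat_lit 1) (Steps.bwd (nat_lit 6) (Steps.fwd (nat_lit 262144) (Steps.bwd (nat_lit 2) (Steps.bwd (nat_lit 1) (Steps.fwd (nat_lit 1572864) (Steps.bwd (nat_lit 1) (Steps.bwd (nat_lit 6) (Steps.fwd (nat_lit 1310720) (Steps.bwd (nat_lit 2) (Steps.fwd (nat_lit 262144) (Steps.bwd (nat_lit 6) Steps.nil))))))))))))) (nat_lit 34) (nat_lit 4),
  Rule.mk (nat_lit 6) (nat_lit 274) (Steps.bwd (nat_lit 1) (Steps.bwd (nat_lit 3) (Steps.fwd (nat_lit 1310720) (Steps.bwd (nat_lit 6) (Steps.bwd (nat_lit 1) (Steps.bwd (nat_lit 6) (Steps.fwd (nat_lit 262144) (Steps.fwd (nat_lit 524288) (Steps.fwd (nat_lit 262144) (Steps.fwd (nat_lit 1572864) (Steps.bwd (nat_lit 1) (Steps.fwd (nat_lit 524288) (Steps.fwd (nat_lit 262144) Steps.nil))))))))))))) (nat_lit 35) (nat_lit 12),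
  Rule.mk (nat_lit 6) (nat_lit 274) (Steps.bwd (nat_lit 1) (Steps.bwd (nat_lit 3) (Steps.fwd (nat_lit 1310720) (Steps.bwd (nat_lit 6) (Steps.bwd (nat_lit 1) (Steps.fwd (nat_lit 1572864) (Steps.fwd (nat_lit 262144) (Steps.fwd (nat_lit 524288) (Steps.fwd (nat_lit 262144) (Steps.fwd (nat_lit 1572864) (Steps.bwd (nat_lit 1) (Steps.fwd (nat_lit 524288) (Steps.fwd (nat_lit 262144) Steps.nil))))))))))))) (nat_lit 35) (nat_lit 12),
  Rule.mk (nat_lit 6) (nat_lit 274) (Steps.bwd (nat_lit 1) (Steps.bwd (nat_lit 3) (Steps.bwd (nat_lit 5) (Steps.bwd (nat_lit 6) (Steps.bwd (nat_lit 1) (Steps.fwd (nat_lit 1572864) (Steps.fwd (nat_lit 262144) (Steps.fwd (nat_lit 524288) (Steps.fwd (nat_lit 262144) (Steps.fwd (nat_lit 1572864) (Steps.bwd (nat_lit 1) (Steps.fwd (nat_lit 524288) (Steps.fwd (nat_lit 262144) Steps.nil))))))))))))) (nat_lit 35) (nat_lit 12),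
  Rule.mk (nat_lit 6) (nat_lit 274) (Steps.bwd (nat_lit 1) (Steps.fwd (nat_lit 1572864) (Steps.fwd (nat_lit 1310720) (Steps.fwd (nat_lit 786432) (Steps.bwd (nat_lit 1) (Steps.fwd (nat_lit 1572864) (Steps.fwd (nat_lit 262144) (Steps.bwd (nat_lit 2) (Steps.fwd (nat_lit 262144) (Steps.fwd (nat_lit 1572864) (Steps.bwd (nat_lit 1) (Steps.fwd (nat_lit 786432) (Steps.fwd (nat_lit 262144) Steps.nil))))))))))))) (nat_lit 34) (nat_lit 11),
  Rule.mk (nat_lit 6) (nat_lit 274) (Steps.bwd (nat_lit 1) (Steps.fwd (nat_lit 1572864) (Steps.bwd (nat_lit 5) (Steps.fwd (nat_lit 786432) (Steps.bwd (nat_lit 1) (Steps.fwd (nat_lit 1572864) (Steps.fwd (nat_lit 262144) (Steps.bwd (nat_lit 2) (Steps.fwd (nat_lit 262144) (Steps.fwd (nat_lit 1572864) (Steps.bwd (nat_lit 1) (Steps.fwd (nat_lit 786432) (Steps.fwd (nat_lit 262144) Steps.nil))))))))))))) (nat_lit 34) (nat_lit 11),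
  Rule.mk (nat_lit 1) (nat_lit 274) (Steps.bwd (nat_lit 2) (Steps.bwd (nat_lit 1) (Steps.bwd (nat_lit 6) (Steps.fwd (nat_lit 262144) (Steps.bwd (nat_lit 2) (Steps.bwd (nat_lit 1) (Steps.fwd (nat_lit 1572864) (Steps.bwd (nat_lit 1) (Steps.fwd (nat_lit 1572864) (Steps.bwd (nat_lit 5) (Steps.bwd (nat_lit 2) (Steps.fwd (nat_lit 262144) (Steps.bwd (nat_lit 6) Steps.nil))))))))))))) (nat_lit 34) (nat_lit 4),
  Rule.mk (nat_lit 1) (nat_lit 274) (Steps.bwd (nat_lit 2) (Steps.bwd (nat_lit 1) (Steps.bwd (nat_lit 6) (Steps.fwd (nat_lit 262144) (Steps.bwd (nat_lit 2) (Steps.bwd (nat_lit 1) (Steps.fwd (nat_lit 1572864) (Steps.bwd (nat_lit 1) (Steps.fwd (nat_lit 1572864) (Steps.fwd (nat_lit 1310720) (Steps.bwd (nat_lit 2) (Steps.fwd (nat_lit 262144) (Steps.bwd (nat_lit 6) Steps.nil))))))))))))) (nat_lit 34) (nat_lit 4),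
  Rule.mk (nat_lit 1) (nat_lit 274) (Steps.fwd (nat_lit 786432) (Steps.bwd (nat_lit 1) (Steps.bwd (nat_lit 6) (Steps.fwd (nat_lit 262144) (Steps.bwd (nat_lit 2) (Steps.bwd (nat_lit 1) (Steps.fwd (nat_lit 1572864) (Steps.bwd (nat_lit 1) (Steps.fwd (nat_lit 1572864) (Steps.bwd (nat_lit 5) (Steps.fwd (nat_lit 786432) (Steps.fwd (nat_lit 262144) (Steps.bwd (nat_lit 6) Steps.nil))))))))))))) (nat_lit 34) (nat_lit 4),
  Rule.mk (nat_lit 1) (nat_lit 274) (Steps.bwd (nat_lit 2) (Steps.bwd (nat_lit 1) (Steps.bwd (nat_lit 6) (Steps.fwd (nat_lit 262144) (Steps.bwd (nat_lit 2) (Steps.bwd (nat_lit 1) (Steps.fwd (nat_lit 1572864) (Steps.bwd (nat_lit 1) (Steps.fwd (nat_lit 1572864) (Steps.fwd (nat_lit 1310720) (Steps.fwd (nat_lit 786432) (Steps.fwd (nat_lit 262144) (Steps.bwd (nat_lit 6) Steps.nil))))))))))))) (nat_lit 34) (nat_lit 4),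
  Rule.mk (nat_lit 6) (nat_lit 274) (Steps.bwd (nat_lit 1) (Steps.fwd (nat_lit 1572864) (Steps.fwd (nat_lit 1310720) (Steps.fwd (nat_lit 786432) (Steps.bwd (nat_lit 1) (Steps.fwd (nat_lit 1572864) (Steps.fwd (nat_lit 262144) (Steps.bwd (nat_lit 2) (Steps.fwd (nat_lit 262144) (Steps.bwd (nat_lit 6) (Steps.bwd (nat_lit 1) (Steps.fwd (nat_lit 786432) (Steps.fwd (nat_lit 262144) Steps.nil))))))))))))) (nat_lit 34) (nat_lit 11),
  Rule.mk (nat_lit 6) (nat_lit 274) (Steps.bwd (nat_lit 1) (Steps.bwd (nat_lit 3) (Steps.bwd (nat_lit 5) (Steps.bwd (nat_lit 6) (Steps.bwd (nat_lit 1) (Steps.bwd (nat_lit 6) (Steps.fwd (nat_lit 262144) (Steps.bwd (nat_lit 3) (Steps.fwd (nat_lit 262144) (Steps.fwd (nat_lit 1572864) (Steps.bwd (nat_lit 1) (Steps.fwd (nat_lit 524288) (Steps.fwd (nat_lit 262144) Steps.nil))))))))))))) (nat_lit 35) (nat_lit 12),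
  Rule.mk (nat_lit 6) (nat_lit 274) (Steps.bwd (nat_lit 1) (Steps.fwd (nat_lit 1572864) (Steps.fwd (nat_lit 1310720) (Steps.fwd (nat_lit 786432) (Steps.bwd (nat_lit 1) (Steps.bwd (nat_lit 6) (Steps.fwd (nat_lit 262144) (Steps.bwd (nat_lit 2) (Steps.fwd (nat_lit 262144) (Steps.bwd (nat_lit 6) (Steps.bwd (nat_lit 1) (Steps.fwd (nat_lit 786432) (Steps.fwd (nat_lit 262144) Steps.nil))))))))))))) (nat_lit 34) (nat_lit 11),
  Rule.mk (nat_lit 6) (nat_lit 274) (Steps.bwd (nat_lit 1) (Steps.bwd (nat_lit 3) (Steps.bwd (nat_lit 5) (Steps.bwd (nat_lit 6) (Steps.bwd (nat_lit 1) (Steps.fwd (nat_lit 1572864) (Steps.fwd (nat_lit 262144) (Steps.bwd (nat_lit 3) (Steps.fwd (nat_lit 262144) (Steps.fwd (nat_lit 1572864) (Steps.bwd (nat_lit 1) (Steps.fwd (nat_lit 524288) (Steps.fwd (nat_lit 262144) Steps.nil))))))))))))) (nat_lit 35) (nat_lit 12),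
  Rule.mk (nat_lit 6) (nat_lit 274) (Steps.bwd (nat_lit 1) (Steps.fwd (nat_lit 1572864) (Steps.bwd (nat_lit 5) (Steps.fwd (nat_lit 786432) (Steps.bwd (nat_lit 1) (Steps.fwd (nat_lit 1572864) (Steps.fwd (nat_lit 262144) (Steps.bwd (nat_lit 2) (Steps.fwd (nat_lit 262144) (Steps.bwd (nat_lit 6) (Steps.bwd (nat_lit 1) (Steps.fwd (nat_lit 786432) (Steps.fwd (nat_lit 262144) Steps.nil))))))))))))) (nat_lit 34) (nat_lit 11),
  Rule.mk (nat_lit 6) (nat_lit 274) (Steps.bwd (nat_lit 1) (Steps.bwd (nat_lit 3) (Steps.fwd (nat_lit 1310720) (Steps.bwd (nat_lit 6) (Steps.bwd (nat_lit 1) (Steps.fwd (nat_lit 1572864) (Steps.fwd (nat_lit 262144) (Steps.bwd (nat_lit 3) (Steps.fwd (nat_lit 262144) (Steps.fwd (nat_lit 1572864) (Steps.bwd (nat_lit 1) (Steps.fwd (nat_lit 524288) (Steps.fwd (nat_lit 262144) Steps.nil))))))))))))) (nat_lit 35) (nat_lit 12),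
  Rule.mk (nat_lit 6) (nat_lit 274) (Steps.bwd (nat_lit 1) (Steps.bwd (nat_lit 3) (Steps.fwd (nat_lit 1310720) (Steps.bwd (nat_lit 6) (Steps.bwd (nat_lit 1) (Steps.bwd (nat_lit 6) (Steps.fwd (nat_lit 262144) (Steps.bwd (nat_lit 3) (Steps.fwd (nat_lit 262144) (Steps.fwd (nat_lit 1572864) (Steps.bwd (nat_lit 1) (Steps.fwd (nat_lit 524288) (Steps.fwd (nat_lit 262144) Steps.nil))))))))))))) (nat_lit 35) (nat_lit 12),
  Rule.mk (nat_lit 6) (nat_lit 274) (Steps.bwd (nat_lit 1) (Steps.bwd (nat_lit 6) (Steps.fwd (nat_lit 1310720) (Steps.bwd (nat_lit 2) (Steps.bwd (nat_lit 1) (Steps.bwd (nat_lit 6) (Steps.fwd (nat_lit 262144) (Steps.bwd (nat_lit 2) (Steps.bwd (nat_lit 1) (Steps.fwd (nat_lit 1572864) (Steps.bwd (nat_lit 1) (Steps.bwd (nat_lit 2) (Steps.fwd (nat_lit 262144) Steps.nil))))))))))))) (nat_lit 34) (nat_lit 11),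
  Rule.mk (nat_lit 6) (nat_lit 274) (Steps.bwd (nat_lit 1) (Steps.bwd (nat_lit 3) (Steps.bwd (nat_lit 1) (Steps.fwd (nat_lit 1572864) (Steps.bwd (nat_lit 1) (Steps.fwd (nat_lit 524288) (Steps.fwd (nat_lit 1310720) (Steps.fwd (nat_lit 1572864) (Steps.fwd (nat_lit 262144) (Steps.fwd (nat_lit 1572864) (Steps.bwd (nat_lit 1) (Steps.bwd (nat_lit 3) (Steps.fwd (nat_lit 262144) Steps.nil))))))))))))) (nat_lit 35) (nat_lit 8),
  Rule.mk (nat_lit 6) (nat_lit 274) (Steps.bwd (nat_lit 1) (Steps.bwd (nat_lit 6) (Steps.bwd (nat_lit 5) (Steps.bwd (nat_lit 2) (Steps.bwd (nat_lit 1) (Steps.fwd (nat_lit 1572864) (Steps.fwd (nat_lit 262144) (Steps.bwd (nat_lit 2) (Steps.fwd (nat_lit 262144) (Steps.bwd (nat_lit 6) (Steps.bwd (nat_lit 1) (Steps.bwd (nat_lit 2) (Steps.fwd (nat_lit 262144) Steps.nil))))))))))))) (nat_lit 34) (nat_lit 11),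
  Rule.mk (nat_lit 6) (nat_lit 274) (Steps.bwd (nat_lit 1) (Steps.bwd (nat_lit 3) (Steps.bwd (nat_lit 1) (Steps.bwd (nat_lit 6) (Steps.bwd (nat_lit 1) (Steps.fwd (nat_lit 524288) (Steps.bwd (nat_lit 5) (Steps.fwd (nat_lit 1572864) (Steps.fwd (nat_lit 262144) (Steps.fwd (nat_lit 1572864) (Steps.bwd (nat_lit 1) (Steps.fwd (nat_lit 524288) (Steps.fwd (nat_lit 262144) Steps.nil))))))))))))) (nat_lit 35) (nat_lit 8),
  Rule.mk (nat_lit 6) (nat_lit 274) (Steps.bwd (nat_lit 1) (Steps.bwd (nat_lit 6) (Steps.bwd (nat_lit 5) (Steps.bwd (nat_lit 2) (Steps.bwd (nat_lit 1) (Steps.bwd (nat_lit 6) (Steps.fwd (nat_lit 262144) (Steps.bwd (nat_lit 2) (Steps.bwd (nat_lit 1) (Steps.fwd (nat_lit 1572864) (Steps.bwd (nat_lit 1) (Steps.bwd (nat_lit 2) (Steps.fwd (nat_lit 262144) Steps.nil))))))))))))) (nat_lit 34) (nat_lit 11),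
  Rule.mk (nat_lit 6) (nat_lit 274) (Steps.bwd (nat_lit 1) (Steps.bwd (nat_lit 3) (Steps.fwd (nat_lit 1310720) (Steps.fwd (nat_lit 1572864) (Steps.bwd (nat_lit 1) (Steps.bwd (nat_lit 6) (Steps.fwd (nat_lit 262144) (Steps.fwd (nat_lit 524288) (Steps.fwd (nat_lit 262144) (Steps.fwd (nat_lit 1572864) (Steps.bwd (nat_lit 1) (Steps.bwd (nat_lit 3) (Steps.fwd (nat_lit 262144) Steps.nil))))))))))))) (nat_lit 35) (nat_lit 12),
  Rule.mk (nat_lit 6) (nat_lit 274) (Steps.bwd (nat_lit 1) (Steps.fwd (nat_lit 1572864) (Steps.bwd (nat_lit 5) (Steps.bwd (nat_lit 2) (Steps.fwd (nat_lit 262144) (Steps.bwd (nat_lit 6) (Steps.fwd (nat_lit 262144) (Steps.fwd (nat_lit 786432) (Steps.fwd (nat_lit 262144) (Steps.fwd (nat_lit 1572864) (Steps.bwd (nat_lit 1) (Steps.bwd (nat_lit 2) (Steps.fwd (nat_lit 262144) Steps.nil))))))))))))) (nat_lit 34) (nat_lit 11),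
  Rule.mk (nat_lit 6) (nat_lit 274) (Steps.bwd (nat_lit 1) (Steps.fwd (nat_lit 1572864) (Steps.fwd (nat_lit 1310720) (Steps.bwd (nat_lit 2) (Steps.fwd (nat_lit 262144) (Steps.bwd (nat_lit 6) (Steps.fwd (nat_lit 262144) (Steps.fwd (nat_lit 786432) (Steps.fwd (nat_lit 262144) (Steps.fwd (nat_lit 1572864) (Steps.bwd (nat_lit 1) (Steps.bwd (nat_lit 2) (Steps.fwd (nat_lit 262144) Steps.nil))))))))))))) (nat_lit 34) (nat_lit 11),
  Rule.mk (nat_lit 6) (nat_lit 274) (Steps.bwd (nat_lit 1) (Steps.bwd (nat_lit 2) (Steps.bwd (nat_lit 1) (Steps.fwd (nat_lit 1572864) (Steps.fwd (nat_lit 262144) (Steps.bwd (nat_lit 6) (Steps.bwd (nat_lit 5) (Steps.fwd (nat_lit 786432) (Steps.fwd (nat_lit 262144) (Steps.fwd (nat_lit 1572864) (Steps.bwd (nat_lit 1) (Steps.bwd (nat_lit 2) (Steps.fwd (nat_lit 262144) Steps.nil))))))))))))) (nat_lit 34) (nat_lit 7),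
  Rule.mk (nat_lit 1) (nat_lit 274) (Steps.fwd (nat_lit 786432) (Steps.bwd (nat_lit 1) (Steps.bwd (nat_lit 6) (Steps.fwd (nat_lit 262144) (Steps.bwd (nat_lit 6) (Steps.bwd (nat_lit 5) (Steps.fwd (nat_lit 786432) (Steps.fwd (nat_lit 262144) (Steps.fwd (nat_lit 1572864) (Steps.bwd (nat_lit 1) (Steps.bwd (nat_lit 2) (Steps.fwd (nat_lit 262144) (Steps.bwd (nat_lit 6) Steps.nil))))))))))))) (nat_lit 34) (nat_lit 8),
  Rule.mk (nat_lit 6) (nat_lit 274) (Steps.bwd (nat_lit 1) (Steps.fwd (nat_lit 524288) (Steps.fwd (nat_lit 1310720) (Steps.bwd (nat_lit 6) (Steps.bwd (nat_lit 1) (Steps.fwd (nat_lit 1572864) (Steps.bwd (nat_lit 1) (Steps.fwd (nat_lit 524288) (Steps.fwd (nat_lit 262144) (Steps.bwd (nat_lit 6) (Steps.bwd (nat_lit 1) (Steps.bwd (nat_lit 3) (Steps.fwd (nat_lit 262144) Steps.nil))))))))))))) (nat_lit 35) (nat_lit 12),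
  Rule.mk (nat_lit 6) (nat_lit 274) (Steps.bwd (nat_lit 1) (Steps.fwd (nat_lit 524288) (Steps.bwd (nat_lit 5) (Steps.bwd (nat_lit 6) (Steps.bwd (nat_lit 1) (Steps.fwd (nat_lit 1572864) (Steps.bwd (nat_lit 1) (Steps.fwd (nat_lit 524288) (Steps.fwd (nat_lit 262144) (Steps.bwd (nat_lit 6) (Steps.bwd (nat_lit 1) (Steps.bwd (nat_lit 3) (Steps.fwd (nat_lit 262144) Steps.nil))))))))))))) (nat_lit 35) (nat_lit 12),
  Rule.mk (nat_lit 6) (nat_lit 274) (Steps.bwd (nat_lit 1) (Steps.fwd (nat_lit 524288) (Steps.bwd (nat_lit 5) (Steps.bwd (nat_lit 6) (Steps.bwd (nat_lit 1) (Steps.bwd (nat_lit 6) (Steps.bwd (nat_lit 1) (Steps.fwd (nat_lit 524288) (Steps.fwd (nat_lit 262144) (Steps.bwd (nat_lit 6) (Steps.bwd (nat_lit 1) (Steps.bwd (nat_lit 3) (Steps.fwd (nat_lit 262144) Steps.nil))))))))))))) (nat_lit 35) (nat_lit 12),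
  Rule.mk (nat_lit 6) (nat_lit 274) (Steps.bwd (nat_lit 1) (Steps.fwd (nat_lit 1572864) (Steps.fwd (nat_lit 1310720) (Steps.bwd (nat_lit 2) (Steps.bwd (nat_lit 1) (Steps.fwd (nat_lit 1572864) (Steps.fwd (nat_lit 262144) (Steps.bwd (nat_lit 2) (Steps.fwd (nat_lit 262144) (Steps.bwd (nat_lit 6) (Steps.bwd (nat_lit 1) (Steps.bwd (nat_lit 2) (Steps.fwd (nat_lit 262144) Steps.nil))))))))))))) (nat_lit 34) (nat_lit 11),
  Rule.mk (nat_lit 6) (nat_lit 274) (Steps.bwd (nat_lit 1) (Steps.bwd (nat_lit 3) (Steps.fwd (nat_lit 1310720) (Steps.fwd (nat_lit 1572864) (Steps.bwd (nat_lit 1) (Steps.fwd (nat_lit 1572864) (Steps.fwd (nat_lit 262144) (Steps.fwd (nat_lit 524288) (Steps.fwd (nat_lit 262144) (Steps.fwd (nat_lit 1572864) (Steps.bwd (nat_lit 1) (Steps.fwd (nat_lit 524288) (Steps.fwd (nat_lit 262144) Steps.nil))))))))))))) (nat_lit 35) (nat_lit 12),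
  Rule.mk (nat_lit 6) (nat_lit 274) (Steps.bwd (nat_lit 1) (Steps.bwd (nat_lit 3) (Steps.fwd (nat_lit 1310720) (Steps.fwd (nat_lit 1572864) (Steps.bwd (nat_lit 1) (Steps.fwd (nat_lit 1572864) (Steps.fwd (nat_lit 262144) (Steps.bwd (nat_lit 3) (Steps.fwd (nat_lit 262144) (Steps.fwd (nat_lit 1572864) (Steps.bwd (nat_lit 1) (Steps.fwd (nat_lit 524288) (Steps.fwd (nat_lit 262144) Steps.nil))))))))))))) (nat_lit 35) (nat_lit 12),
  Rule.mk (nat_lit 1) (nat_lit 274) (Steps.bwd (nat_lit 6) (Steps.bwd (nat_lit 1) (Steps.bwd (nat_lit 3) (Steps.fwd (nat_lit 262144) (Steps.bwd (nat_lit 6) (Steps.bwd (nat_lit 1) (Steps.fwd (nat_lit 524288) (Steps.fwd (nat_lit 1310720) (Steps.fwd (nat_lit 1572864) (Steps.bwd (nat_lit 1) (Steps.bwd (nat_lit 6) (Steps.fwd (nat_lit 262144) (Steps.bwd (nat_lit 3) Steps.nil))))))))))))) (nat_lit 35) (nat_lit 7),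
  Rule.mk (nat_lit 6) (nat_lit 154) (Steps.bwd (nat_lit 3) (Steps.bwd (nat_lit 5) (Steps.bwd (nat_lit 3) (Steps.bwd (nat_lit 7) (Steps.fwd (nat_lit 1572864) (Steps.fwd (nat_lit 524288) (Steps.fwd (nat_lit 1310720) Steps.nil))))))) (nat_lit 83) (nat_lit 5),
  Rule.mk (nat_lit 1) (nat_lit 274) (Steps.bwd (nat_lit 6) (Steps.bwd (nat_lit 1) (Steps.bwd (nat_lit 6) (Steps.fwd (nat_lit 1310720) (Steps.bwd (nat_lit 2) (Steps.fwd (nat_lit 262144) (Steps.bwd (nat_lit 6) (Steps.bwd (nat_lit 1) (Steps.bwd (nat_lit 2) (Steps.bwd (nat_lit 1) (Steps.fwd (nat_lit 1572864) (Steps.fwd (nat_lit 262144) (Steps.bwd (nat_lit 2) Steps.nil))))))))))))) (nat_lit 34) (nat_lit 10),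
  Rule.mk (nat_lit 1) (nat_lit 274) (Steps.bwd (nat_lit 6) (Steps.fwd (nat_lit 1310720) (Steps.bwd (nat_lit 2) (Steps.bwd (nat_lit 1) (Steps.fwd (nat_lit 1572864) (Steps.fwd (nat_lit 262144) (Steps.bwd (nat_lit 2) (Steps.bwd (nat_lit 1) (Steps.fwd (nat_lit 1572864) (Steps.bwd (nat_lit 1) (Steps.bwd (nat_lit 2) (Steps.fwd (nat_lit 262144) (Steps.bwd (nat_lit 6) Steps.nil))))))))))))) (nat_lit 34) (nat_lit 12)]
noncomputable def R_12 : List (Rule) := [Rule.mk (nat_lit 6) (nat_lit 154) (Steps.bwd (nat_lit 3) (Steps.fwd (nat_lit 1310720) (Steps.bwd (nat_lit 3) (Steps.bwd (nat_lit 7) (Steps.fwd (nat_lit 1572864) (Steps.fwd (nat_lit 524288) (Steps.fwd (nat_lit 1310720) Steps.nil))))))) (nat_lit 83) (nat_lit 5),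
  Rule.mk (nat_lit 1) (nat_lit 274) (Steps.bwd (nat_lit 6) (Steps.bwd (nat_lit 1) (Steps.fwd (nat_lit 1572864) (Steps.bwd (nat_lit 5) (Steps.bwd (nat_lit 2) (Steps.fwd (nat_lit 262144) (Steps.bwd (nat_lit 6) (Steps.bwd (nat_lit 1) (Steps.bwd (nat_lit 2) (Steps.bwd (nat_lit 1) (Steps.fwd (nat_lit 1572864) (Steps.fwd (nat_lit 262144) (Steps.bwd (nat_lit 2) Steps.nil))))))))))))) (nat_lit 34) (nat_lit 10),
  Rule.mk (nat_lit 1) (nat_lit 274) (Steps.bwd (nat_lit 6) (Steps.bwd (nat_lit 5) (Steps.bwd (nat_lit 2) (Steps.bwd (nat_lit 1) (Steps.fwd (nat_lit 1572864) (Steps.fwd (nat_lit 262144) (Steps.bwd (nat_lit 2) (Steps.bwd (nat_lit 1) (Steps.fwd (nat_lit 1572864) (Steps.bwd (nat_lit 1) (Steps.bwd (nat_lit 2) (Steps.fwd (nat_lit 262144) (Steps.bwd (nat_lit 6) Steps.nil))))))))))))) (nat_lit 34) (nat_lit 12),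
  Rule.mk (nat_lit 1) (nat_lit 274) (Steps.bwd (nat_lit 6) (Steps.bwd (nat_lit 1) (Steps.bwd (nat_lit 3) (Steps.fwd (nat_lit 262144) (Steps.bwd (nat_lit 6) (Steps.bwd (nat_lit 1) (Steps.fwd (nat_lit 524288) (Steps.bwd (nat_lit 5) (Steps.fwd (nat_lit 1572864) (Steps.bwd (nat_lit 1) (Steps.bwd (nat_lit 6) (Steps.fwd (nat_lit 262144) (Steps.bwd (nat_lit 3) Steps.nil))))))))))))) (nat_lit 35) (nat_lit 7),
  Rule.mk (nat_lit 4) (nat_lit 314) (Steps.bwd (nat_lit 9) (Steps.bwd (nat_lit 4) (Steps.fwd (nat_lit 2359296) (Steps.fwd (nat_lit 1048576) (Steps.fwd (nat_lit 2097152) (Steps.bwd (nat_lit 4) (Steps.fwd (nat_lit 2359296) (Steps.fwd (nat_lit 1048576) (Steps.bwd (nat_lit 9) (Steps.fwd (nat_lit 1048576) (Steps.bwd (nat_lit 8) (Steps.bwd (nat_lit 4) (Steps.bwd (nat_lit 9) (Steps.fwd (nat_lit 1048576) (Steps.fwd (nat_lit 2359296) Steps.nil))))))))))))))) (nat_lit 106)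 (nat_lit 2),
  Rule.mk (nat_lit 1) (nat_lit 274) (Steps.bwd (nat_lit 6) (Steps.fwd (nat_lit 1310720) (Steps.bwd (nat_lit 2) (Steps.bwd (nat_lit 1) (Steps.fwd (nat_lit 1572864) (Steps.bwd (nat_lit 1) (Steps.bwd (nat_lit 2) (Steps.fwd (nat_lit 262144) (Steps.bwd (nat_lit 6) (Steps.fwd (nat_lit 262144) (Steps.bwd (nat_lit 2) (Steps.fwd (nat_lit 262144) (Steps.fwd (nat_lit 1572864) Steps.nil))))))))))))) (nat_lit 34) (nat_lit 12),
  Rule.mk (nat_lit 4) (nat_lit 114) (Steps.bwd (nat_lit 5) (Steps.bwd (nat_lit 7) (Steps.fwd (nat_lit 1048576) (Steps.fwd (nat_lit 1572864) (Steps.bwd (nat_lit 7) Steps.nil))))) (nat_lit 66) (nat_lit 1),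
  Rule.mk (nat_lit 4) (nat_lit 74) (Steps.fwd (nat_lit 1572864) (Steps.fwd (nat_lit 1048576) (Steps.bwd (nat_lit 5) Steps.nil))) (nat_lit 22) (nat_lit 3),
  Rule.mk (nat_lit 6) (nat_lit 154) (Steps.bwd (nat_lit 3) (Steps.bwd (nat_lit 5) (Steps.bwd (nat_lit 3) (Steps.bwd (nat_lit 7) (Steps.bwd (nat_lit 6) (Steps.fwd (nat_lit 524288) (Steps.bwd (nat_lit 5) Steps.nil))))))) (nat_lit 83) (nat_lit 5),
  Rule.mk (nat_lit 1) (nat_lit 274) (Steps.bwd (nat_lit 6) (Steps.bwd (nat_lit 1) (Steps.bwd (nat_lit 6) (Steps.fwd (nat_lit 1310720) (Steps.fwd (nat_lit 786432) (Steps.fwd (nat_lit 262144) (Steps.fwd (nat_lit 1572864) (Steps.fwd (nat_lit 262144) (Steps.fwd (nat_lit 786432) (Steps.bwd (nat_lit 1) (Steps.fwd (nat_lit 1572864) (Steps.fwd (nat_lit 262144) (Steps.bwd (nat_lit 2) Steps.nil))))))))))))) (nat_lit 34) (nat_lit 10),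
  Rule.mk (nat_lit 1) (nat_lit 274) (Steps.fwd (nat_lit 1572864) (Steps.bwd (nat_lit 5) (Steps.bwd (nat_lit 2) (Steps.bwd (nat_lit 1) (Steps.bwd (nat_lit 6) (Steps.fwd (nat_lit 262144) (Steps.bwd (nat_lit 2) (Steps.fwd (nat_lit 262144) (Steps.bwd (nat_lit 6) (Steps.bwd (nat_lit 1) (Steps.bwd (nat_lit 2) (Steps.fwd (nat_lit 262144) (Steps.bwd (nat_lit 6) Steps.nil))))))))))))) (nat_lit 34) (nat_lit 12),
  Rule.mk (nat_lit 1) (nat_lit 274) (Steps.bwd (nat_lit 6) (Steps.bwd (nat_lit 1) (Steps.fwd (nat_lit 1572864) (Steps.bwd (nat_lit 5) (Steps.bwd (nat_lit 2) (Steps.fwd (nat_lit 262144) (Steps.fwd (nat_lit 1572864) (Steps.fwd (nat_lit 262144) (Steps.bwd (nat_lit 2) (Steps.bwd (nat_lit 1) (Steps.fwd (nat_lit 1572864) (Steps.fwd (nat_lit 262144) (Steps.bwd (nat_lit 2) Steps.nil))))))))))))) (nat_lit 34) (nat_lit 10),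
  Rule.mk (nat_lit 1) (nat_lit 274) (Steps.bwd (nat_lit 6) (Steps.bwd (nat_lit 1) (Steps.fwd (nat_lit 1572864) (Steps.bwd (nat_lit 5) (Steps.fwd (nat_lit 786432) (Steps.fwd (nat_lit 262144) (Steps.fwd (nat_lit 1572864) (Steps.fwd (nat_lit 262144) (Steps.fwd (nat_lit 786432) (Steps.bwd (nat_lit 1) (Steps.fwd (nat_lit 1572864) (Steps.fwd (nat_lit 262144) (Steps.bwd (nat_lit 2) Steps.nil))))))))))))) (nat_lit 34) (nat_lit 10),
  Rule.mk (nat_lit 1) (nat_lit 274) (Steps.fwd (nat_lit 1572864) (Steps.fwd (nat_lit 1310720) (Steps.bwd (nat_lit 2) (Steps.bwd (nat_lit 1) (Steps.bwd (nat_lit 6) (Steps.fwd (nat_lit 262144) (Steps.bwd (nat_lit 2) (Steps.fwd (nat_lit 262144) (Steps.bwd (nat_lit 6) (Steps.bwd (nat_lit 1) (Steps.bwd (nat_lit 2) (Steps.fwd (nat_lit 262144) (Steps.bwd (nat_lit 6) Steps.nil))))))))))))) (nat_lit 34) (nat_lit 12),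
  Rule.mk (nat_lit 1) (nat_lit 274) (Steps.bwd (nat_lit 6) (Steps.bwd (nat_lit 1) (Steps.fwd (nat_lit 1572864) (Steps.fwd (nat_lit 1310720) (Steps.fwd (nat_lit 786432) (Steps.fwd (nat_lit 262144) (Steps.fwd (nat_lit 1572864) (Steps.fwd (nat_lit 262144) (Steps.fwd (nat_lit 786432) (Steps.bwd (nat_lit 1) (Steps.fwd (nat_lit 1572864) (Steps.fwd (nat_lit 262144) (Steps.bwd (nat_lit 2) Steps.nil))))))))))))) (nat_lit 34) (nat_lit 10),
  Rule.mk (nat_lit 1) (nat_lit 274) (Steps.fwd (nat_lit 524288) (Steps.bwd (nat_lit 1) (Steps.fwd (nat_lit 1572864) (Steps.fwd (nat_lit 262144) (Steps.bwd (nat_lit 3) (Steps.fwd (nat_lit 1310720) (Steps.bwd (nat_lit 6) (Steps.bwd (nat_lit 1) (Steps.fwd (nat_lit 1572864) (Steps.bwd (nat_lit 1) (Steps.fwd (nat_lit 524288) (Steps.fwd (nat_lit 262144) (Steps.bwd (nat_lit 6) Steps.nil))))))))))))) (nat_lit 35) (nat_lit 9),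
  Rule.mk (nat_lit 4) (nat_lit 74) (Steps.fwd (nat_lit 524288) (Steps.fwd (nat_lit 1048576) (Steps.bwd (nat_lit 3) Steps.nil))) (nat_lit 15) (nat_lit 0),
  Rule.mk (nat_lit 1) (nat_lit 274) (Steps.fwd (nat_lit 524288) (Steps.bwd (nat_lit 1) (Steps.fwd (nat_lit 1572864) (Steps.fwd (nat_lit 262144) (Steps.bwd (nat_lit 3) (Steps.fwd (nat_lit 1310720) (Steps.fwd (nat_lit 1572864) (Steps.bwd (nat_lit 1) (Steps.fwd (nat_lit 1572864) (Steps.bwd (nat_lit 1) (Steps.fwd (nat_lit 524288) (Steps.fwd (nat_lit 262144) (Steps.bwd (nat_lit 6) Steps.nil))))))))))))) (nat_lit 35) (nat_lit 9),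
  Rule.mk (nat_lit 4) (nat_lit 314) (Steps.bwd (nat_lit 9) (Steps.bwd (nat_lit 4) (Steps.fwd (nat_lit 2359296) (Steps.bwd (nat_lit 4) (Steps.bwd (nat_lit 9) (Steps.fwd (nat_lit 1048576) (Steps.fwd (nat_lit 2359296) (Steps.fwd (nat_lit 1048576) (Steps.bwd (nat_lit 9) (Steps.bwd (nat_lit 4) (Steps.bwd (nat_lit 8) (Steps.bwd (nat_lit 4) (Steps.fwd (nat_lit 2097152) (Steps.fwd (nat_lit 1048576) (Steps.fwd (nat_lit 2359296) Steps.nil))))))))))))))) (nat_lit 106) (nat_lit 2),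
  Rule.mk (nat_lit 1) (nat_lit 274) (Steps.bwd (nat_lit 6) (Steps.bwd (nat_lit 1) (Steps.fwd (nat_lit 524288) (Steps.fwd (nat_lit 1310720) (Steps.fwd (nat_lit 1572864) (Steps.fwd (nat_lit 262144) (Steps.fwd (nat_lit 1572864) (Steps.bwd (nat_lit 1) (Steps.fwd (nat_lit 524288) (Steps.bwd (nat_lit 1) (Steps.bwd (nat_lit 6) (Steps.fwd (nat_lit 262144) (Steps.bwd (nat_lit 3) Steps.nil))))))))))))) (nat_lit 35) (nat_lit 11),
  Rule.mk (nat_lit 1) (nat_lit 274) (Steps.bwd (nat_lit 6) (Steps.bwd (nat_lit 1) (Steps.fwd (nat_lit 524288) (Steps.bwd (nat_lit 5) (Steps.fwd (nat_lit 1572864) (Steps.fwd (nat_lit 262144) (Steps.fwd (nat_lit 1572864) (Steps.bwd (nat_lit 1) (Steps.fwd (nat_lit 524288) (Steps.bwd (nat_lit 1) (Steps.bwd (nat_lit 6) (Steps.fwd (nat_lit 262144) (Steps.bwd (nat_lit 3) Steps.nil))))))))))))) (nat_lit 35) (nat_lit 11),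
  Rule.mk (nat_lit 1) (nat_lit 274) (Steps.bwd (nat_lit 6) (Steps.bwd (nat_lit 1) (Steps.fwd (nat_lit 524288) (Steps.bwd (nat_lit 5) (Steps.bwd (nat_lit 6) (Steps.fwd (nat_lit 262144) (Steps.fwd (nat_lit 1572864) (Steps.bwd (nat_lit 1) (Steps.fwd (nat_lit 524288) (Steps.bwd (nat_lit 1) (Steps.bwd (nat_lit 6) (Steps.fwd (nat_lit 262144) (Steps.bwd (nat_lit 3) Steps.nil))))))))))))) (nat_lit 35) (nat_lit 11),
  Rule.mk (nat_lit 4) (nat_lit 314) (Steps.bwd (nat_lit 9) (Steps.bwd (nat_lit 4) (Steps.fwd (nat_lit 2359296) (Steps.fwd (nat_lit 1048576) (Steps.fwd (nat_lit 2097152) (Steps.fwd (nat_lit 1048576) (Steps.bwd (nat_lit 8) (Steps.fwd (nat_lit 1048576) (Steps.fwd (nat_lit 2097152) (Steps.fwd (nat_lit 1048576) (Steps.bwd (nat_lit 8) (Steps.bwd (nat_lit 4) (Steps.fwd (nat_lit 2097152) (Steps.fwd (nat_lit 1048576) (Steps.fwd (nat_lit 2359296) Steps.nil)))))))))))))))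 (nat_lit 106) (nat_lit 2),
  Rule.mk (nat_lit 4) (nat_lit 114) (Steps.fwd (nat_lit 786432) (Steps.fwd (nat_lit 1310720) (Steps.bwd (nat_lit 4) (Steps.fwd (nat_lit 786432) (Steps.fwd (nat_lit 1572864) Steps.nil))))) (nat_lit 58) (nat_lit 0),
  Rule.mk (nat_lit 1) (nat_lit 274) (Steps.bwd (nat_lit 6) (Steps.bwd (nat_lit 5) (Steps.bwd (nat_lit 2) (Steps.bwd (nat_lit 1) (Steps.bwd (nat_lit 6) (Steps.fwd (nat_lit 262144) (Steps.fwd (nat_lit 786432) (Steps.bwd (nat_lit 1) (Steps.bwd (nat_lit 6) (Steps.fwd (nat_lit 262144) (Steps.bwd (nat_lit 2) (Steps.fwd (nat_lit 262144) (Steps.fwd (nat_lit 1572864) Steps.nil))))))))))))) (nat_lit 34) (nat_lit 12),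
  Rule.mk (nat_lit 4) (nat_lit 314) (Steps.bwd (nat_lit 9) (Steps.bwd (nat_lit 4) (Steps.fwd (nat_lit 2359296) (Steps.fwd (nat_lit 1048576) (Steps.fwd (nat_lit 2097152) (Steps.fwd (nat_lit 1048576) (Steps.bwd (nat_lit 8) (Steps.bwd (nat_lit 4) (Steps.fwd (nat_lit 2097152) (Steps.bwd (nat_lit 4) (Steps.fwd (nat_lit 2359296) (Steps.bwd (nat_lit 4) (Steps.fwd (nat_lit 2097152) (Steps.fwd (nat_lit 1048576) (Steps.fwd (nat_lit 2359296) Steps.nil))))))))))))))) (nat_lit 106) (nat_lit 2),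
  Rule.mk (nat_lit 1) (nat_lit 274) (Steps.bwd (nat_lit 6) (Steps.fwd (nat_lit 1310720) (Steps.bwd (nat_lit 2) (Steps.bwd (nat_lit 1) (Steps.bwd (nat_lit 6) (Steps.fwd (nat_lit 262144) (Steps.fwd (nat_lit 786432) (Steps.bwd (nat_lit 1) (Steps.bwd (nat_lit 6) (Steps.fwd (nat_lit 262144) (Steps.bwd (nat_lit 2) (Steps.fwd (nat_lit 262144) (Steps.fwd (nat_lit 1572864) Steps.nil))))))))))))) (nat_lit 34) (nat_lit 12),
  Rule.mk (nat_lit 4) (nat_lit 314) (Steps.bwd (nat_lit 8) (Steps.bwd (nat_lit 4) (Steps.bwd (nat_lit 9) (Steps.bwd (nat_lit 4) (Steps.fwd (nat_lit 2359296) (Steps.fwd (nat_lit 1048576) (Steps.fwd (nat_lit 2097152) (Steps.fwd (nat_lit 1048576) (Steps.bwd (nat_lit 8) (Steps.bwd (nat_lit 4) (Steps.bwd (nat_lit 9) (Steps.fwd (nat_lit 1048576) (Steps.fwd (nat_lit 2359296) (Steps.fwd (nat_lit 1048576) (Steps.fwd (nat_lit 2097152) Steps.nil))))))))))))))) (nat_lit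 106) (nat_lit 0),
  Rule.mk (nat_lit 1) (nat_lit 274) (Steps.bwd (nat_lit 6) (Steps.bwd (nat_lit 1) (Steps.bwd (nat_lit 6) (Steps.bwd (nat_lit 5) (Steps.bwd (nat_lit 2) (Steps.fwd (nat_lit 262144) (Steps.bwd (nat_lit 6) (Steps.bwd (nat_lit 1) (Steps.bwd (nat_lit 2) (Steps.bwd (nat_lit 1) (Steps.bwd (nat_lit 6) (Steps.fwd (nat_lit 262144) (Steps.bwd (nat_lit 2) Steps.nil))))))))))))) (nat_lit 34) (nat_lit 10),
  Rule.mk (nat_lit 1) (nat_lit 274) (Steps.bwd (nat_lit 6) (Steps.bwd (nat_lit 1) (Steps.fwd (nat_lit 1572864) (Steps.bwd (nat_lit 5) (Steps.fwd (nat_lit 786432) (Steps.fwd (nat_lit 262144) (Steps.bwd (nat_lit 6) (Steps.bwd (nat_lit 1) (Steps.bwd (nat_lit 2) (Steps.bwd (nat_lit 1) (Steps.bwd (nat_lit 6) (Steps.fwd (nat_lit 262144) (Steps.bwd (nat_lit 2) Steps.nil))))))))))))) (nat_lit 34) (nat_lit 10),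
  Rule.mk (nat_lit 4) (nat_lit 314) (Steps.bwd (nat_lit 8) (Steps.bwd (nat_lit 4) (Steps.fwd (nat_lit 2097152) (Steps.bwd (nat_lit 4) (Steps.fwd (nat_lit 2359296) (Steps.fwd (nat_lit 1048576) (Steps.bwd (nat_lit 9) (Steps.fwd (nat_lit 1048576) (Steps.fwd (nat_lit 2359296) (Steps.bwd (nat_lit 4) (Steps.bwd (nat_lit 9) (Steps.fwd (nat_lit 1048576) (Steps.bwd (nat_lit 8) (Steps.fwd (nat_lit 1048576) (Steps.fwd (nat_lit 2097152) Steps.nil))))))))))))))) (nat_lit 106) (nat_lit 0),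
  Rule.mk (nat_lit 1) (nat_lit 274) (Steps.bwd (nat_lit 6) (Steps.fwd (nat_lit 1310720) (Steps.bwd (nat_lit 2) (Steps.fwd (nat_lit 262144) (Steps.fwd (nat_lit 1572864) (Steps.bwd (nat_lit 1) (Steps.bwd (nat_lit 2) (Steps.fwd (nat_lit 262144) (Steps.bwd (nat_lit 6) (Steps.fwd (nat_lit 262144) (Steps.bwd (nat_lit 2) (Steps.fwd (nat_lit 262144) (Steps.fwd (nat_lit 1572864) Steps.nil))))))))))))) (nat_lit 34) (nat_lit 12),
  Rule.mk (nat_lit 1) (nat_lit 274) (Steps.bwd (nat_lit 6) (Steps.bwd (nat_lit 1) (Steps.fwd (nat_lit 1572864) (Steps.fwd (nat_lit 1310720) (Steps.bwd (nat_lit 2) (Steps.fwd (nat_lit 262144) (Steps.bwd (nat_lit 6) (Steps.bwd (nat_lit 1) (Steps.bwd (nat_lit 2) (Steps.bwd (nat_lit 1) (Steps.bwd (nat_lit 6) (Steps.fwd (nat_lit 262144) (Steps.bwd (nat_lit 2) Steps.nil))))))))))))) (nat_lit 34) (nat_lit 10),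
  Rule.mk (nat_lit 1) (nat_lit 274) (Steps.bwd (nat_lit 6) (Steps.bwd (nat_lit 1) (Steps.bwd (nat_lit 6) (Steps.fwd (nat_lit 1310720) (Steps.fwd (nat_lit 786432) (Steps.fwd (nat_lit 262144) (Steps.bwd (nat_lit 6) (Steps.bwd (nat_lit 1) (Steps.bwd (nat_lit 2) (Steps.bwd (nat_lit 1) (Steps.bwd (nat_lit 6) (Steps.fwd (nat_lit 262144) (Steps.bwd (nat_lit 2) Steps.nil))))))))))))) (nat_lit 34) (nat_lit 10),
  Rule.mk (nat_lit 4) (nat_lit 314) (Steps.bwd (nat_lit 9) (Steps.bwd (nat_lit 4) (Steps.fwd (nat_lit 2359296) (Steps.bwd (nat_lit 4) (Steps.bwd (nat_lit 9) (Steps.bwd (nat_lit 4) (Steps.bwd (nat_lit 8) (Steps.fwd (nat_lit 1048576) (Steps.fwd (nat_lit 2097152) (Steps.bwd (nat_lit 4) (Steps.bwd (nat_lit 8) (Steps.bwd (nat_lit 4) (Steps.bwd (nat_lit 9) (Steps.fwd (nat_lit 1048576) (Steps.fwd (nat_lit 2359296) Steps.nil))))))))))))))) (nat_lit 106) (nat_lit 2),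
  Rule.mk (nat_lit 6) (nat_lit 274) (Steps.bwd (nat_lit 1) (Steps.bwd (nat_lit 6) (Steps.bwd (nat_lit 5) (Steps.bwd (nat_lit 2) (Steps.bwd (nat_lit 1) (Steps.bwd (nat_lit 6) (Steps.fwd (nat_lit 262144) (Steps.bwd (nat_lit 2) (Steps.fwd (nat_lit 262144) (Steps.bwd (nat_lit 6) (Steps.bwd (nat_lit 1) (Steps.bwd (nat_lit 2) (Steps.fwd (nat_lit 262144) Steps.nil))))))))))))) (nat_lit 34) (nat_lit 11),
  Rule.mk (nat_lit 1) (nat_lit 274) (Steps.bwd (nat_lit 2) (Steps.bwd (nat_lit 1) (Steps.bwd (nat_lit 6) (Steps.fwd (nat_lit 262144) (Steps.bwd (nat_lit 2) (Steps.bwd (nat_lit 1) (Steps.fwd (nat_lit 1572864) (Steps.bwd (nat_lit 1) (Steps.fwd (nat_lit 1572864) (Steps.bwd (nat_lit 5) (Steps.fwd (nat_lit 786432) (Steps.fwd (nat_lit 262144) (Steps.bwd (nat_lit 6) Steps.nil))))))))))))) (nat_lit 34) (nat_lit 4),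
  Rule.mk (nat_lit 6) (nat_lit 274) (Steps.bwd (nat_lit 1) (Steps.bwd (nat_lit 2) (Steps.bwd (nat_lit 1) (Steps.bwd (nat_lit 6) (Steps.fwd (nat_lit 262144) (Steps.bwd (nat_lit 6) (Steps.bwd (nat_lit 5) (Steps.fwd (nat_lit 786432) (Steps.fwd (nat_lit 262144) (Steps.fwd (nat_lit 1572864) (Steps.bwd (nat_lit 1) (Steps.bwd (nat_lit 2) (Steps.fwd (nat_lit 262144) Steps.nil))))))))))))) (nat_lit 34) (nat_lit 7),
  Rule.mk (nat_lit 6) (nat_lit 274) (Steps.bwd (nat_lit 1) (Steps.fwd (nat_lit 1572864) (Steps.fwd (nat_lit 1310720) (Steps.fwd (nat_lit 786432) (Steps.bwd (nat_lit 1) (Steps.bwd (nat_lit 6) (Steps.fwd (nat_lit 262144) (Steps.bwd (nat_lit 2) (Steps.bwd (nat_lit 1) (Steps.fwd (nat_lit 1572864) (Steps.bwd (nat_lit 1) (Steps.fwd (nat_lit 786432) (Steps.fwd (nat_lit 262144) Steps.nil))))))))))))) (nat_lit 34) (nat_lit 11),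
  Rule.mk (nat_lit 6) (nat_lit 274) (Steps.bwd (nat_lit 1) (Steps.fwd (nat_lit 1572864) (Steps.fwd (nat_lit 1310720) (Steps.fwd (nat_lit 786432) (Steps.bwd (nat_lit 1) (Steps.fwd (nat_lit 1572864) (Steps.fwd (nat_lit 262144) (Steps.bwd (nat_lit 2) (Steps.bwd (nat_lit 1) (Steps.fwd (nat_lit 1572864) (Steps.bwd (nat_lit 1) (Steps.fwd (nat_lit 786432) (Steps.fwd (nat_lit 262144) Steps.nil))))))))))))) (nat_lit 34) (nat_lit 11),
  Rule.mk (nat_lit 6) (nat_lit 274) (Steps.bwd (nat_lit 1) (Steps.fwd (nat_lit 1572864) (Steps.bwd (nat_lit 5) (Steps.fwd (nat_lit 786432) (Steps.bwd (nat_lit 1) (Steps.bwd (nat_lit 6) (Steps.fwd (nat_lit 262144) (Steps.bwd (nat_lit 2) (Steps.bwd (nat_lit 1) (Steps.fwd (nat_lit 1572864) (Steps.bwd (nat_lit 1) (Steps.fwd (nat_lit 786432) (Steps.fwd (nat_lit 262144) Steps.nil))))))))))))) (nat_lit 34) (nat_lit 11),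
  Rule.mk (nat_lit 6) (nat_lit 274) (Steps.bwd (nat_lit 1) (Steps.fwd (nat_lit 1572864) (Steps.fwd (nat_lit 1310720) (Steps.bwd (nat_lit 2) (Steps.bwd (nat_lit 1) (Steps.bwd (nat_lit 6) (Steps.fwd (nat_lit 262144) (Steps.bwd (nat_lit 2) (Steps.fwd (nat_lit 262144) (Steps.bwd (nat_lit 6) (Steps.bwd (nat_lit 1) (Steps.bwd (nat_lit 2) (Steps.fwd (nat_lit 262144) Steps.nil))))))))))))) (nat_lit 34) (nat_lit 11),
  Rule.mk (nat_lit 6) (nat_lit 274) (Steps.bwd (nat_lit 1) (Steps.bwd (nat_lit 3) (Steps.fwd (nat_lit 1310720) (Steps.fwd (nat_lit 1572864) (Steps.bwd (nat_lit 1) (Steps.bwd (nat_lit 6) (Steps.fwd (nat_lit 262144) (Steps.bwd (nat_lit 3) (Steps.fwd (nat_lit 262144) (Steps.fwd (nat_lit 1572864) (Steps.bwd (nat_lit 1) (Steps.fwd (nat_lit 524288) (Steps.fwd (nat_lit 262144) Steps.nil))))))))))))) (nat_lit 35) (nat_lit 12),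
  Rule.mk (nat_lit 6) (nat_lit 274) (Steps.bwd (nat_lit 1) (Steps.fwd (nat_lit 1572864) (Steps.bwd (nat_lit 5) (Steps.fwd (nat_lit 786432) (Steps.bwd (nat_lit 1) (Steps.fwd (nat_lit 1572864) (Steps.fwd (nat_lit 262144) (Steps.bwd (nat_lit 2) (Steps.bwd (nat_lit 1) (Steps.fwd (nat_lit 1572864) (Steps.bwd (nat_lit 1) (Steps.fwd (nat_lit 786432) (Steps.fwd (nat_lit 262144) Steps.nil))))))))))))) (nat_lit 34) (nat_lit 11),
  Rule.mk (nat_lit 6) (nat_lit 274) (Steps.bwd (nat_lit 1) (Steps.fwd (nat_lit 1572864) (Steps.bwd (nat_lit 5) (Steps.bwd (nat_lit 2) (Steps.bwd (nat_lit 1) (Steps.bwd (nat_lit 6) (Steps.fwd (nat_lit 262144) (Steps.fwd (nat_lit 786432) (Steps.fwd (nat_lit 262144) (Steps.fwd (nat_lit 1572864) (Steps.bwd (nat_lit 1) (Steps.bwd (nat_lit 2) (Steps.fwd (nat_lit 262144) Steps.nil))))))))))))) (nat_lit 34) (nat_lit 11),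
  Rule.mk (nat_lit 1) (nat_lit 274) (Steps.fwd (nat_lit 786432) (Steps.bwd (nat_lit 1) (Steps.bwd (nat_lit 6) (Steps.fwd (nat_lit 262144) (Steps.bwd (nat_lit 6) (Steps.bwd (nat_lit 5) (Steps.fwd (nat_lit 786432) (Steps.fwd (nat_lit 262144) (Steps.bwd (nat_lit 6) (Steps.bwd (nat_lit 1) (Steps.bwd (nat_lit 2) (Steps.fwd (nat_lit 262144) (Steps.bwd (nat_lit 6) Steps.nil))))))))))))) (nat_lit 34) (nat_lit 8),
  Rule.mk (nat_lit 6) (nat_lit 274) (Steps.bwd (nat_lit 1) (Steps.fwd (nat_lit 524288) (Steps.bwd (nat_lit 1) (Steps.bwd (nat_lit 6) (Steps.fwd (nat_lit 262144) (Steps.fwd (nat_lit 524288) (Steps.bwd (nat_lit 5) (Steps.bwd (nat_lit 6) (Steps.fwd (nat_lit 262144) (Steps.fwd (nat_lit 1572864) (Steps.bwd (nat_lit 1) (Steps.bwd (nat_lit 3) (Steps.fwd (nat_lit 262144) Steps.nil))))))))))))) (nat_lit 35) (nat_lit 8),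
  Rule.mk (nat_lit 1) (nat_lit 274) (Steps.bwd (nat_lit 2) (Steps.bwd (nat_lit 1) (Steps.bwd (nat_lit 6) (Steps.fwd (nat_lit 262144) (Steps.bwd (nat_lit 6) (Steps.bwd (nat_lit 5) (Steps.fwd (nat_lit 786432) (Steps.fwd (nat_lit 262144) (Steps.bwd (nat_lit 6) (Steps.bwd (nat_lit 1) (Steps.bwd (nat_lit 2) (Steps.fwd (nat_lit 262144) (Steps.bwd (nat_lit 6) Steps.nil))))))))))))) (nat_lit 34) (nat_lit 8),
  Rule.mk (nat_lit 6) (nat_lit 274) (Steps.bwd (nat_lit 1) (Steps.bwd (nat_lit 6) (Steps.fwd (nat_lit 1310720) (Steps.bwd (nat_lit 2) (Steps.bwd (nat_lit 1) (Steps.bwd (nat_lit 6) (Steps.fwd (nat_lit 262144) (Steps.fwd (nat_lit 786432) (Steps.fwd (nat_lit 262144) (Steps.fwd (nat_lit 1572864) (Steps.bwd (nat_lit 1) (Steps.bwd (nat_lit 2) (Steps.fwd (nat_lit 262144) Steps.nil))))))))))))) (nat_lit 34) (nat_lit 11),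
  Rule.mk (nat_lit 6) (nat_lit 274) (Steps.bwd (nat_lit 1) (Steps.bwd (nat_lit 6) (Steps.bwd (nat_lit 5) (Steps.bwd (nat_lit 2) (Steps.bwd (nat_lit 1) (Steps.bwd (nat_lit 6) (Steps.fwd (nat_lit 262144) (Steps.fwd (nat_lit 786432) (Steps.fwd (nat_lit 262144) (Steps.fwd (nat_lit 1572864) (Steps.bwd (nat_lit 1) (Steps.bwd (nat_lit 2) (Steps.fwd (nat_lit 262144) Steps.nil))))))))))))) (nat_lit 34) (nat_lit 11),
  Rule.mk (nat_lit 6) (nat_lit 274) (Steps.bwd (nat_lit 1) (Steps.bwd (nat_lit 3) (Steps.bwd (nat_lit 1) (Steps.bwd (nat_lit 6) (Steps.bwd (nat_lit 1) (Steps.fwd (nat_lit 524288) (Steps.bwd (nat_lit 5) (Steps.bwd (nat_lit 6) (Steps.fwd (nat_lit 262144) (Steps.fwd (nat_lit 1572864) (Steps.bwd (nat_lit 1) (Steps.bwd (nat_lit 3) (Steps.fwd (nat_lit 262144) Steps.nil))))))))))))) (nat_lit 35) (nat_lit 8),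
  Rule.mk (nat_lit 1) (nat_lit 154) (Steps.bwd (nat_lit 4) (Steps.bwd (nat_lit 1) (Steps.bwd (nat_lit 6) (Steps.fwd (nat_lit 262144) (Steps.bwd (nat_lit 4) (Steps.fwd (nat_lit 262144) (Steps.fwd (nat_lit 1572864) Steps.nil))))))) (nat_lit 74) (nat_lit 1),
  Rule.mk (nat_lit 4) (nat_lit 154) (Steps.bwd (nat_lit 1) (Steps.bwd (nat_lit 6) (Steps.fwd (nat_lit 262144) (Steps.bwd (nat_lit 4) (Steps.bwd (nat_lit 1) (Steps.bwd (nat_lit 6) (Steps.fwd (nat_lit 262144) Steps.nil))))))) (nat_lit 74) (nat_lit 2),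
  Rule.mk (nat_lit 6) (nat_lit 274) (Steps.bwd (nat_lit 1) (Steps.bwd (nat_lit 3) (Steps.fwd (nat_lit 262144) (Steps.bwd (nat_lit 6) (Steps.bwd (nat_lit 1) (Steps.fwd (nat_lit 524288) (Steps.fwd (nat_lit 1310720) (Steps.bwd (nat_lit 6) (Steps.fwd (nat_lit 262144) (Steps.fwd (nat_lit 1572864) (Steps.bwd (nat_lit 1) (Steps.bwd (nat_lit 3) (Steps.fwd (nat_lit 262144) Steps.nil))))))))))))) (nat_lit 35) (nat_lit 8),
  Rule.mk (nat_lit 6) (nat_lit 274) (Steps.bwd (nat_lit 1) (Steps.fwd (nat_lit 524288) (Steps.fwd (nat_lit 1310720) (Steps.bwd (nat_lit 6) (Steps.fwd (nat_lit 262144) (Steps.bwd (nat_lit 6) (Steps.bwd (nat_lit 1) (Steps.fwd (nat_lit 524288) (Steps.fwd (nat_lit 262144) (Steps.bwd (nat_lit 6) (Steps.bwd (nat_lit 1) (Steps.fwd (nat_lit 524288) (Steps.fwd (nat_lit 262144) Steps.nil))))))))))))) (nat_lit 35) (nat_lit 12),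
  Rule.mk (nat_lit 4) (nat_lit 114) (Steps.fwd (nat_lit 524288) (Steps.fwd (nat_lit 1572864) (Steps.bwd (nat_lit 4) (Steps.bwd (nat_lit 3) (Steps.bwd (nat_lit 5) Steps.nil))))) (nat_lit 55) (nat_lit 5),
  Rule.mk (nat_lit 6) (nat_lit 274) (Steps.bwd (nat_lit 1) (Steps.fwd (nat_lit 1572864) (Steps.bwd (nat_lit 5) (Steps.bwd (nat_lit 2) (Steps.bwd (nat_lit 1) (Steps.bwd (nat_lit 6) (Steps.fwd (nat_lit 262144) (Steps.bwd (nat_lit 2) (Steps.bwd (nat_lit 1) (Steps.fwd (nat_lit 1572864) (Steps.bwd (nat_lit 1) (Steps.bwd (nat_lit 2) (Steps.fwd (nat_lit 262144) Steps.nil))))))))))))) (nat_lit 34) (nat_lit 11),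
  Rule.mk (nat_lit 1) (nat_lit 274) (Steps.fwd (nat_lit 786432) (Steps.bwd (nat_lit 1) (Steps.fwd (nat_lit 1572864) (Steps.fwd (nat_lit 262144) (Steps.bwd (nat_lit 6) (Steps.bwd (nat_lit 5) (Steps.fwd (nat_lit 786432) (Steps.fwd (nat_lit 262144) (Steps.fwd (nat_lit 1572864) (Steps.bwd (nat_lit 1) (Steps.bwd (nat_lit 2) (Steps.fwd (nat_lit 262144) (Steps.bwd (nat_lit 6) Steps.nil))))))))))))) (nat_lit 34) (nat_lit 8),
  Rule.mk (nat_lit 6) (nat_lit 274) (Steps.bwd (nat_lit 1) (Steps.fwd (nat_lit 524288) (Steps.bwd (nat_lit 1) (Steps.fwd (nat_lit 1572864) (Steps.fwd (nat_lit 262144) (Steps.fwd (nat_lit 524288) (Steps.bwd (nat_lit 5) (Steps.bwd (nat_lit 6) (Steps.fwd (nat_lit 262144) (Steps.fwd (nat_lit 1572864) (Steps.bwd (nat_lit 1) (Steps.bwd (nat_lit 3) (Steps.fwd (nat_lit 262144) Steps.nil))))))))))))) (nat_lit 35) (nat_lit 8),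
  Rule.mk (nat_lit 6) (nat_lit 274) (Steps.bwd (nat_lit 1) (Steps.fwd (nat_lit 524288) (Steps.bwd (nat_lit 1) (Steps.fwd (nat_lit 1572864) (Steps.fwd (nat_lit 262144) (Steps.fwd (nat_lit 524288) (Steps.bwd (nat_lit 5) (Steps.bwd (nat_lit 6) (Steps.fwd (nat_lit 262144) (Steps.bwd (nat_lit 6) (Steps.bwd (nat_lit 1) (Steps.bwd (nat_lit 3) (Steps.fwd (nat_lit 262144) Steps.nil))))))))))))) (nat_lit 35) (nat_lit 8),
  Rule.mk (nat_lit 1) (nat_lit 274) (Steps.fwd (nat_lit 786432) (Steps.bwd (nat_lit 1) (Steps.bwd (nat_lit 6) (Steps.fwd (nat_lit 262144) (Steps.bwd (nat_lit 2) (Steps.bwd (nat_lit 1) (Steps.fwd (nat_lit 1572864) (Steps.bwd (nat_lit 1) (Steps.bwd (nat_lit 6) (Steps.fwd (nat_lit 1310720) (Steps.bwd (nat_lit 2) (Steps.fwd (nat_lit 262144) (Steps.bwd (nat_lit 6) Steps.nil))))))))))))) (nat_lit 34) (nat_lit 4),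
  Rule.mk (nat_lit 4) (nat_lit 154) (Steps.bwd (nat_lit 1) (Steps.bwd (nat_lit 6) (Steps.fwd (nat_lit 262144) (Steps.bwd (nat_lit 4) (Steps.fwd (nat_lit 262144) (Steps.fwd (nat_lit 1572864) (Steps.fwd (nat_lit 262144) Steps.nil))))))) (nat_lit 74) (nat_lit 2),
  Rule.mk (nat_lit 6) (nat_lit 274) (Steps.bwd (nat_lit 1) (Steps.bwd (nat_lit 6) (Steps.fwd (nat_lit 1310720) (Steps.bwd (nat_lit 2) (Steps.bwd (nat_lit 1) (Steps.fwd (nat_lit 1572864) (Steps.fwd (nat_lit 262144) (Steps.bwd (nat_lit 2) (Steps.bwd (nat_lit 1) (Steps.fwd (nat_lit 1572864) (Steps.bwd (nat_lit 1) (Steps.bwd (nat_lit 2) (Steps.fwd (nat_lit 262144) Steps.nil))))))))))))) (nat_lit 34) (nat_lit 11),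
  Rule.mk (nat_lit 6) (nat_lit 274) (Steps.bwd (nat_lit 1) (Steps.bwd (nat_lit 3) (Steps.bwd (nat_lit 1) (Steps.bwd (nat_lit 6) (Steps.bwd (nat_lit 1) (Steps.fwd (nat_lit 524288) (Steps.fwd (nat_lit 1310720) (Steps.bwd (nat_lit 6) (Steps.fwd (nat_lit 262144) (Steps.fwd (nat_lit 1572864) (Steps.bwd (nat_lit 1) (Steps.bwd (nat_lit 3) (Steps.fwd (nat_lit 262144) Steps.nil))))))))))))) (nat_lit 35) (nat_lit 8)]
noncomputable def R_13 : List (Rule) := [Rule.mk (nat_lit 1) (nat_lit 274) (Steps.bwd (nat_lit 2) (Steps.bwd (nat_lit 1) (Steps.bwd (nat_lit 6) (Steps.fwd (nat_lit 262144) (Steps.bwd (nat_lit 2) (Steps.bwd (nat_lit 1) (Steps.fwd (nat_lit 1572864) (Steps.bwd (nat_lit 1) (Steps.bwd (nat_lit 6) (Steps.bwd (nat_lit 5) (Steps.bwd (nat_lit 2) (Steps.fwd (nat_lit 262144) (Steps.bwd (nat_lit 6) Steps.nil))))))))))))) (nat_lit 34) (nat_lit 4),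
  Rule.mk (nat_lit 6) (nat_lit 274) (Steps.bwd (nat_lit 1) (Steps.fwd (nat_lit 524288) (Steps.fwd (nat_lit 1310720) (Steps.bwd (nat_lit 6) (Steps.bwd (nat_lit 1) (Steps.bwd (nat_lit 6) (Steps.bwd (nat_lit 1) (Steps.fwd (nat_lit 524288) (Steps.fwd (nat_lit 262144) (Steps.bwd (nat_lit 6) (Steps.bwd (nat_lit 1) (Steps.bwd (nat_lit 3) (Steps.fwd (nat_lit 262144) Steps.nil))))))))))))) (nat_lit 35) (nat_lit 12),
  Rule.mk (nat_lit 4) (nat_lit 154) (Steps.bwd (nat_lit 1) (Steps.fwd (nat_lit 1572864) (Steps.fwd (nat_lit 262144) (Steps.fwd (nat_lit 1048576) (Steps.fwd (nat_lit 262144) (Steps.fwd (nat_lit 1572864) (Steps.fwd (nat_lit 262144) Steps.nil))))))) (nat_lit 74) (nat_lit 2),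
  Rule.mk (nat_lit 6) (nat_lit 274) (Steps.bwd (nat_lit 1) (Steps.fwd (nat_lit 1572864) (Steps.bwd (nat_lit 5) (Steps.bwd (nat_lit 2) (Steps.bwd (nat_lit 1) (Steps.fwd (nat_lit 1572864) (Steps.fwd (nat_lit 262144) (Steps.bwd (nat_lit 2) (Steps.bwd (nat_lit 1) (Steps.fwd (nat_lit 1572864) (Steps.bwd (nat_lit 1) (Steps.bwd (nat_lit 2) (Steps.fwd (nat_lit 262144) Steps.nil))))))))))))) (nat_lit 34) (nat_lit 11),
  Rule.mk (nat_lit 6) (nat_lit 274) (Steps.bwd (nat_lit 1) (Steps.bwd (nat_lit 3) (Steps.fwd (nat_lit 1310720) (Steps.fwd (nat_lit 1572864) (Steps.bwd (nat_lit 1) (Steps.fwd (nat_lit 1572864) (Steps.fwd (nat_lit 262144) (Steps.fwd (nat_lit 524288) (Steps.fwd (nat_lit 262144) (Steps.fwd (nat_lit 1572864) (Steps.bwd (nat_lit 1) (Steps.bwd (nat_lit 3) (Steps.fwd (nat_lit 262144) Steps.nil))))))))))))) (nat_lit 35) (nat_lit 12),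
  Rule.mk (nat_lit 6) (nat_lit 274) (Steps.bwd (nat_lit 1) (Steps.bwd (nat_lit 6) (Steps.fwd (nat_lit 1310720) (Steps.bwd (nat_lit 2) (Steps.bwd (nat_lit 1) (Steps.fwd (nat_lit 1572864) (Steps.bwd (nat_lit 1) (Steps.fwd (nat_lit 786432) (Steps.bwd (nat_lit 1) (Steps.fwd (nat_lit 1572864) (Steps.bwd (nat_lit 1) (Steps.bwd (nat_lit 2) (Steps.fwd (nat_lit 262144) Steps.nil))))))))))))) (nat_lit 34) (nat_lit 11),
  Rule.mk (nat_lit 6) (nat_lit 274) (Steps.bwd (nat_lit 1) (Steps.bwd (nat_lit 6) (Steps.bwd (nat_lit 5) (Steps.bwd (nat_lit 2) (Steps.bwd (nat_lit 1) (Steps.fwd (nat_lit 1572864) (Steps.bwd (nat_lit 1) (Steps.fwd (nat_lit 786432) (Steps.bwd (nat_lit 1) (Steps.fwd (nat_lit 1572864) (Steps.bwd (nat_lit 1) (Steps.fwd (nat_lit 786432) (Steps.fwd (nat_lit 262144) Steps.nil))))))))))))) (nat_lit 34) (nat_lit 11),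
  Rule.mk (nat_lit 1) (nat_lit 274) (Steps.fwd (nat_lit 1572864) (Steps.fwd (nat_lit 1310720) (Steps.bwd (nat_lit 2) (Steps.bwd (nat_lit 1) (Steps.fwd (nat_lit 1572864) (Steps.bwd (nat_lit 1) (Steps.fwd (nat_lit 786432) (Steps.fwd (nat_lit 262144) (Steps.fwd (nat_lit 1572864) (Steps.bwd (nat_lit 1) (Steps.fwd (nat_lit 786432) (Steps.fwd (nat_lit 262144) (Steps.bwd (nat_lit 6) Steps.nil))))))))))))) (nat_lit 34) (nat_lit 12),
  Rule.mk (nat_lit 6) (nat_lit 274) (Steps.bwd (nat_lit 1) (Steps.fwd (nat_lit 1572864) (Steps.bwd (nat_lit 5) (Steps.bwd (nat_lit 2) (Steps.bwd (nat_lit 1) (Steps.fwd (nat_lit 1572864) (Steps.fwd (nat_lit 262144) (Steps.bwd (nat_lit 2) (Steps.fwd (nat_lit 262144) (Steps.fwd (nat_lit 1572864) (Steps.bwd (nat_lit 1) (Steps.fwd (nat_lit 786432) (Steps.fwd (nat_lit 262144) Steps.nil))))))))))))) (nat_lit 34) (nat_lit 11),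
  Rule.mk (nat_lit 1) (nat_lit 274) (Steps.fwd (nat_lit 1572864) (Steps.bwd (nat_lit 5) (Steps.bwd (nat_lit 2) (Steps.bwd (nat_lit 1) (Steps.fwd (nat_lit 1572864) (Steps.bwd (nat_lit 1) (Steps.fwd (nat_lit 786432) (Steps.fwd (nat_lit 262144) (Steps.fwd (nat_lit 1572864) (Steps.bwd (nat_lit 1) (Steps.fwd (nat_lit 786432) (Steps.fwd (nat_lit 262144) (Steps.bwd (nat_lit 6) Steps.nil))))))))))))) (nat_lit 34) (nat_lit 12),
  Rule.mk (nat_lit 6) (nat_lit 274) (Steps.bwd (nat_lit 1) (Steps.fwd (nat_lit 1572864) (Steps.fwd (nat_lit 1310720) (Steps.bwd (nat_lit 2) (Steps.fwd (nat_lit 262144) (Steps.fwd (nat_lit 1572864) (Steps.fwd (nat_lit 262144) (Steps.fwd (nat_lit 786432) (Steps.fwd (nat_lit 262144) (Steps.fwd (nat_lit 1572864) (Steps.bwd (nat_lit 1) (Steps.fwd (nat_lit 786432) (Steps.fwd (nat_lit 262144) Steps.nil))))))))))))) (nat_lit 34) (nat_lit 11),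
  Rule.mk (nat_lit 6) (nat_lit 274) (Steps.bwd (nat_lit 1) (Steps.fwd (nat_lit 1572864) (Steps.bwd (nat_lit 5) (Steps.bwd (nat_lit 2) (Steps.fwd (nat_lit 262144) (Steps.bwd (nat_lit 6) (Steps.fwd (nat_lit 262144) (Steps.fwd (nat_lit 786432) (Steps.fwd (nat_lit 262144) (Steps.fwd (nat_lit 1572864) (Steps.bwd (nat_lit 1) (Steps.fwd (nat_lit 786432) (Steps.fwd (nat_lit 262144) Steps.nil))))))))))))) (nat_lit 34) (nat_lit 11),
  Rule.mk (nat_lit 6) (nat_lit 274) (Steps.bwd (nat_lit 1) (Steps.bwd (nat_lit 6) (Steps.fwd (nat_lit 1310720) (Steps.bwd (nat_lit 2) (Steps.bwd (nat_lit 1) (Steps.fwd (nat_lit 1572864) (Steps.bwd (nat_lit 1) (Steps.fwd (nat_lit 786432) (Steps.bwd (nat_lit 1) (Steps.fwd (nat_lit 1572864) (Steps.bwd (nat_lit 1) (Steps.fwd (nat_lit 786432) (Steps.fwd (nat_lit 262144) Steps.nil))))))))))))) (nat_lit 34) (nat_lit 11),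
  Rule.mk (nat_lit 6) (nat_lit 274) (Steps.bwd (nat_lit 1) (Steps.fwd (nat_lit 1572864) (Steps.fwd (nat_lit 1310720) (Steps.bwd (nat_lit 2) (Steps.bwd (nat_lit 1) (Steps.fwd (nat_lit 1572864) (Steps.fwd (nat_lit 262144) (Steps.bwd (nat_lit 2) (Steps.fwd (nat_lit 262144) (Steps.fwd (nat_lit 1572864) (Steps.bwd (nat_lit 1) (Steps.fwd (nat_lit 786432) (Steps.fwd (nat_lit 262144) Steps.nil))))))))))))) (nat_lit 34) (nat_lit 11),
  Rule.mk (nat_lit 6) (nat_lit 274) (Steps.bwd (nat_lit 1) (Steps.fwd (nat_lit 1572864) (Steps.fwd (nat_lit 1310720) (Steps.bwd (nat_lit 2) (Steps.fwd (nat_lit 262144) (Steps.fwd (nat_lit 1572864) (Steps.fwd (nat_lit 262144) (Steps.fwd (nat_lit 786432) (Steps.fwd (nat_lit 262144) (Steps.fwd (nat_lit 1572864) (Steps.bwd (nat_lit 1) (Steps.bwd (nat_lit 2) (Steps.fwd (nat_lit 262144) Steps.nil))))))))))))) (nat_lit 34) (nat_lit 11),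
  Rule.mk (nat_lit 6) (nat_lit 274) (Steps.bwd (nat_lit 1) (Steps.fwd (nat_lit 1572864) (Steps.bwd (nat_lit 5) (Steps.bwd (nat_lit 2) (Steps.fwd (nat_lit 262144) (Steps.fwd (nat_lit 1572864) (Steps.fwd (nat_lit 262144) (Steps.fwd (nat_lit 786432) (Steps.fwd (nat_lit 262144) (Steps.fwd (nat_lit 1572864) (Steps.bwd (nat_lit 1) (Steps.fwd (nat_lit 786432) (Steps.fwd (nat_lit 262144) Steps.nil))))))))))))) (nat_lit 34) (nat_lit 11),
  Rule.mk (nat_lit 6) (nat_lit 274) (Steps.bwd (nat_lit 1) (Steps.bwd (nat_lit 6) (Steps.fwd (nat_lit 1310720) (Steps.bwd (nat_lit 2) (Steps.bwd (nat_lit 1) (Steps.fwd (nat_lit 1572864) (Steps.fwd (nat_lit 262144) (Steps.fwd (nat_lit 786432) (Steps.fwd (nat_lit 262144) (Steps.fwd (nat_lit 1572864) (Steps.bwd (nat_lit 1) (Steps.fwd (nat_lit 786432) (Steps.fwd (nat_lit 262144) Steps.nil))))))))))))) (nat_lit 34) (nat_lit 11),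
  Rule.mk (nat_lit 6) (nat_lit 274) (Steps.bwd (nat_lit 1) (Steps.bwd (nat_lit 6) (Steps.bwd (nat_lit 5) (Steps.bwd (nat_lit 2) (Steps.bwd (nat_lit 1) (Steps.fwd (nat_lit 1572864) (Steps.fwd (nat_lit 262144) (Steps.fwd (nat_lit 786432) (Steps.fwd (nat_lit 262144) (Steps.fwd (nat_lit 1572864) (Steps.bwd (nat_lit 1) (Steps.fwd (nat_lit 786432) (Steps.fwd (nat_lit 262144) Steps.nil))))))))))))) (nat_lit 34) (nat_lit 11),
  Rule.mk (nat_lit 1) (nat_lit 274) (Steps.fwd (nat_lit 1572864) (Steps.fwd (nat_lit 1310720) (Steps.bwd (nat_lit 2) (Steps.bwd (nat_lit 1) (Steps.fwd (nat_lit 1572864) (Steps.bwd (nat_lit 1) (Steps.fwd (nat_lit 786432) (Steps.bwd (nat_lit 1) (Steps.fwd (nat_lit 1572864) (Steps.bwd (nat_lit 1) (Steps.fwd (nat_lit 786432) (Steps.fwd (nat_lit 262144) (Steps.bwd (nat_lit 6) Steps.nil))))))))))))) (nat_lit 34) (nat_lit 12),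
  Rule.mk (nat_lit 6) (nat_lit 274) (Steps.bwd (nat_lit 1) (Steps.fwd (nat_lit 1572864) (Steps.bwd (nat_lit 5) (Steps.bwd (nat_lit 2) (Steps.bwd (nat_lit 1) (Steps.bwd (nat_lit 6) (Steps.fwd (nat_lit 262144) (Steps.bwd (nat_lit 2) (Steps.fwd (nat_lit 262144) (Steps.bwd (nat_lit 6) (Steps.bwd (nat_lit 1) (Steps.fwd (nat_lit 786432) (Steps.fwd (nat_lit 262144) Steps.nil))))))))))))) (nat_lit 34) (nat_lit 11),
  Rule.mk (nat_lit 1) (nat_lit 274) (Steps.fwd (nat_lit 1572864) (Steps.bwd (nat_lit 5) (Steps.bwd (nat_lit 2) (Steps.bwd (nat_lit 1) (Steps.fwd (nat_lit 1572864) (Steps.bwd (nat_lit 1) (Steps.fwd (nat_lit 786432) (Steps.bwd (nat_lit 1) (Steps.fwd (nat_lit 1572864) (Steps.bwd (nat_lit 1) (Steps.fwd (nat_lit 786432) (Steps.fwd (nat_lit 262144) (Steps.bwd (nat_lit 6) Steps.nil))))))))))))) (nat_lit 34) (nat_lit 12),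
  Rule.mk (nat_lit 6) (nat_lit 274) (Steps.bwd (nat_lit 1) (Steps.fwd (nat_lit 1572864) (Steps.fwd (nat_lit 1310720) (Steps.bwd (nat_lit 2) (Steps.bwd (nat_lit 1) (Steps.fwd (nat_lit 1572864) (Steps.fwd (nat_lit 262144) (Steps.fwd (nat_lit 786432) (Steps.fwd (nat_lit 262144) (Steps.fwd (nat_lit 1572864) (Steps.bwd (nat_lit 1) (Steps.fwd (nat_lit 786432) (Steps.fwd (nat_lit 262144) Steps.nil))))))))))))) (nat_lit 34) (nat_lit 11),
  Rule.mk (nat_lit 6) (nat_lit 274) (Steps.bwd (nat_lit 1) (Steps.fwd (nat_lit 1572864) (Steps.bwd (nat_lit 5) (Steps.bwd (nat_lit 2) (Steps.bwd (nat_lit 1) (Steps.bwd (nat_lit 6) (Steps.fwd (nat_lit 262144) (Steps.fwd (nat_lit 786432) (Steps.fwd (nat_lit 262144) (Steps.fwd (nat_lit 1572864) (Steps.bwd (nat_lit 1) (Steps.fwd (nat_lit 786432) (Steps.fwd (nat_lit 262144) Steps.nil))))))))))))) (nat_lit 34) (nat_lit 11),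
  Rule.mk (nat_lit 6) (nat_lit 274) (Steps.bwd (nat_lit 1) (Steps.fwd (nat_lit 1572864) (Steps.fwd (nat_lit 1310720) (Steps.bwd (nat_lit 2) (Steps.bwd (nat_lit 1) (Steps.bwd (nat_lit 6) (Steps.fwd (nat_lit 262144) (Steps.bwd (nat_lit 2) (Steps.fwd (nat_lit 262144) (Steps.bwd (nat_lit 6) (Steps.bwd (nat_lit 1) (Steps.fwd (nat_lit 786432) (Steps.fwd (nat_lit 262144) Steps.nil))))))))))))) (nat_lit 34) (nat_lit 11),
  Rule.mk (nat_lit 6) (nat_lit 274) (Steps.bwd (nat_lit 1) (Steps.fwd (nat_lit 1572864) (Steps.fwd (nat_lit 1310720) (Steps.fwd (nat_lit 786432) (Steps.bwd (nat_lit 1) (Steps.bwd (nat_lit 6) (Steps.fwd (nat_lit 262144) (Steps.bwd (nat_lit 2) (Steps.fwd (nat_lit 262144) (Steps.fwd (nat_lit 1572864) (Steps.bwd (nat_lit 1) (Steps.fwd (nat_lit 786432) (Steps.fwd (nat_lit 262144) Steps.nil))))))))))))) (nat_lit 34) (nat_lit 11),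
  Rule.mk (nat_lit 6) (nat_lit 274) (Steps.bwd (nat_lit 1) (Steps.fwd (nat_lit 1572864) (Steps.bwd (nat_lit 5) (Steps.bwd (nat_lit 2) (Steps.bwd (nat_lit 1) (Steps.fwd (nat_lit 1572864) (Steps.fwd (nat_lit 262144) (Steps.fwd (nat_lit 786432) (Steps.fwd (nat_lit 262144) (Steps.fwd (nat_lit 1572864) (Steps.bwd (nat_lit 1) (Steps.fwd (nat_lit 786432) (Steps.fwd (nat_lit 262144) Steps.nil))))))))))))) (nat_lit 34) (nat_lit 11),
  Rule.mk (nat_lit 6) (nat_lit 274) (Steps.bwd (nat_lit 1) (Steps.bwd (nat_lit 6) (Steps.bwd (nat_lit 5) (Steps.bwd (nat_lit 2) (Steps.bwd (nat_lit 1) (Steps.fwd (nat_lit 1572864) (Steps.fwd (nat_lit 262144) (Steps.bwd (nat_lit 2) (Steps.bwd (nat_lit 1) (Steps.fwd (nat_lit 1572864) (Steps.bwd (nat_lit 1) (Steps.bwd (nat_lit 2) (Steps.fwd (nat_lit 262144) Steps.nil))))))))))))) (nat_lit 34) (nat_lit 11),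
  Rule.mk (nat_lit 7) (nat_lit 74) (Steps.fwd (nat_lit 262144) (Steps.bwd (nat_lit 7) (Steps.bwd (nat_lit 1) Steps.nil))) (nat_lit 26) (nat_lit 1),
  Rule.mk (nat_lit 6) (nat_lit 274) (Steps.bwd (nat_lit 1) (Steps.bwd (nat_lit 6) (Steps.fwd (nat_lit 1310720) (Steps.bwd (nat_lit 2) (Steps.bwd (nat_lit 1) (Steps.fwd (nat_lit 1572864) (Steps.fwd (nat_lit 262144) (Steps.bwd (nat_lit 2) (Steps.bwd (nat_lit 1) (Steps.fwd (nat_lit 1572864) (Steps.bwd (nat_lit 1) (Steps.fwd (nat_lit 786432) (Steps.fwd (nat_lit 262144) Steps.nil))))))))))))) (nat_lit 34) (nat_lit 11),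
  Rule.mk (nat_lit 6) (nat_lit 274) (Steps.bwd (nat_lit 1) (Steps.bwd (nat_lit 6) (Steps.fwd (nat_lit 1310720) (Steps.bwd (nat_lit 2) (Steps.bwd (nat_lit 1) (Steps.bwd (nat_lit 6) (Steps.fwd (nat_lit 262144) (Steps.fwd (nat_lit 786432) (Steps.fwd (nat_lit 262144) (Steps.fwd (nat_lit 1572864) (Steps.bwd (nat_lit 1) (Steps.fwd (nat_lit 786432) (Steps.fwd (nat_lit 262144) Steps.nil))))))))))))) (nat_lit 34) (nat_lit 11),
  Rule.mk (nat_lit 6) (nat_lit 274) (Steps.bwd (nat_lit 1) (Steps.bwd (nat_lit 6) (Steps.bwd (nat_lit 5) (Steps.bwd (nat_lit 2) (Steps.bwd (nat_lit 1) (Steps.bwd (nat_lit 6) (Steps.fwd (nat_lit 262144) (Steps.fwd (nat_lit 786432) (Steps.fwd (nat_lit 262144) (Steps.fwd (nat_lit 1572864) (Steps.bwd (nat_lit 1) (Steps.fwd (nat_lit 786432) (Steps.fwd (nat_lit 262144) Steps.nil))))))))))))) (nat_lit 34) (nat_lit 11),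
  Rule.mk (nat_lit 6) (nat_lit 274) (Steps.bwd (nat_lit 1) (Steps.bwd (nat_lit 6) (Steps.bwd (nat_lit 5) (Steps.bwd (nat_lit 2) (Steps.bwd (nat_lit 1) (Steps.fwd (nat_lit 1572864) (Steps.fwd (nat_lit 262144) (Steps.bwd (nat_lit 2) (Steps.bwd (nat_lit 1) (Steps.fwd (nat_lit 1572864) (Steps.bwd (nat_lit 1) (Steps.fwd (nat_lit 786432) (Steps.fwd (nat_lit 262144) Steps.nil))))))))))))) (nat_lit 34) (nat_lit 11),
  Rule.mk (nat_lit 6) (nat_lit 274) (Steps.bwd (nat_lit 1) (Steps.bwd (nat_lit 6) (Steps.bwd (nat_lit 5) (Steps.bwd (nat_lit 2) (Steps.bwd (nat_lit 1) (Steps.fwd (nat_lit 1572864) (Steps.fwd (nat_lit 262144) (Steps.fwd (nat_lit 786432) (Steps.fwd (nat_lit 262144) (Steps.fwd (nat_lit 1572864) (Steps.bwd (nat_lit 1) (Steps.bwd (nat_lit 2) (Steps.fwd (nat_lit 262144) Steps.nil))))))))))))) (nat_lit 34) (nat_lit 11),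
  Rule.mk (nat_lit 1) (nat_lit 274) (Steps.bwd (nat_lit 6) (Steps.bwd (nat_lit 5) (Steps.bwd (nat_lit 2) (Steps.bwd (nat_lit 1) (Steps.bwd (nat_lit 6) (Steps.fwd (nat_lit 262144) (Steps.bwd (nat_lit 2) (Steps.fwd (nat_lit 262144) (Steps.fwd (nat_lit 1572864) (Steps.bwd (nat_lit 1) (Steps.fwd (nat_lit 786432) (Steps.fwd (nat_lit 262144) (Steps.bwd (nat_lit 6) Steps.nil))))))))))))) (nat_lit 34) (nat_lit 12),
  Rule.mk (nat_lit 6) (nat_lit 274) (Steps.bwd (nat_lit 1) (Steps.bwd (nat_lit 2) (Steps.bwd (nat_lit 1) (Steps.fwd (nat_lit 1572864) (Steps.fwd (nat_lit 262144) (Steps.fwd (nat_lit 786432) (Steps.fwd (nat_lit 262144) (Steps.fwd (nat_lit 1572864) (Steps.bwd (nat_lit 1) (Steps.bwd (nat_lit 6) (Steps.fwd (nat_lit 1310720) (Steps.fwd (nat_lit 786432) (Steps.fwd (nat_lit 262144) Steps.nil))))))))))))) (nat_lit 34) (nat_lit 3),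
  Rule.mk (nat_lit 1) (nat_lit 274) (Steps.bwd (nat_lit 6) (Steps.fwd (nat_lit 1310720) (Steps.bwd (nat_lit 2) (Steps.bwd (nat_lit 1) (Steps.bwd (nat_lit 6) (Steps.fwd (nat_lit 262144) (Steps.bwd (nat_lit 2) (Steps.fwd (nat_lit 262144) (Steps.fwd (nat_lit 1572864) (Steps.bwd (nat_lit 1) (Steps.fwd (nat_lit 786432) (Steps.fwd (nat_lit 262144) (Steps.bwd (nat_lit 6) Steps.nil))))))))))))) (nat_lit 34) (nat_lit 12),
  Rule.mk (nat_lit 6) (nat_lit 274) (Steps.bwd (nat_lit 1) (Steps.bwd (nat_lit 2) (Steps.bwd (nat_lit 1) (Steps.fwd (nat_lit 1572864) (Steps.fwd (nat_lit 262144) (Steps.fwd (nat_lit 786432) (Steps.fwd (nat_lit 262144) (Steps.fwd (nat_lit 1572864) (Steps.bwd (nat_lit 1) (Steps.bwd (nat_lit 6) (Steps.bwd (nat_lit 5) (Steps.fwd (nat_lit 786432) (Steps.fwd (nat_lit 262144) Steps.nil))))))))))))) (nat_lit 34) (nat_lit 3),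
  Rule.mk (nat_lit 6) (nat_lit 274) (Steps.bwd (nat_lit 1) (Steps.bwd (nat_lit 2) (Steps.bwd (nat_lit 1) (Steps.bwd (nat_lit 6) (Steps.fwd (nat_lit 262144) (Steps.fwd (nat_lit 786432) (Steps.fwd (nat_lit 262144) (Steps.fwd (nat_lit 1572864) (Steps.bwd (nat_lit 1) (Steps.bwd (nat_lit 6) (Steps.bwd (nat_lit 5) (Steps.fwd (nat_lit 786432) (Steps.fwd (nat_lit 262144) Steps.nil))))))))))))) (nat_lit 34) (nat_lit 3),
  Rule.mk (nat_lit 6) (nat_lit 274) (Steps.bwd (nat_lit 1) (Steps.bwd (nat_lit 2) (Steps.bwd (nat_lit 1) (Steps.bwd (nat_lit 6) (Steps.fwd (nat_lit 262144) (Steps.fwd (nat_lit 786432) (Steps.fwd (nat_lit 262144) (Steps.fwd (nat_lit 1572864) (Steps.bwd (nat_lit 1) (Steps.bwd (nat_lit 6) (Steps.fwd (nat_lit 1310720) (Steps.fwd (nat_lit 786432) (Steps.fwd (nat_lit 262144) Steps.nil))))))))))))) (nat_lit 34) (nat_lit 3),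
  Rule.mk (nat_lit 1) (nat_lit 274) (Steps.bwd (nat_lit 6) (Steps.fwd (nat_lit 1310720) (Steps.bwd (nat_lit 2) (Steps.bwd (nat_lit 1) (Steps.bwd (nat_lit 6) (Steps.fwd (nat_lit 262144) (Steps.bwd (nat_lit 2) (Steps.bwd (nat_lit 1) (Steps.fwd (nat_lit 1572864) (Steps.bwd (nat_lit 1) (Steps.fwd (nat_lit 786432) (Steps.fwd (nat_lit 262144) (Steps.bwd (nat_lit 6) Steps.nil))))))))))))) (nat_lit 34) (nat_lit 12),
  Rule.mk (nat_lit 1) (nat_lit 274) (Steps.bwd (nat_lit 6) (Steps.bwd (nat_lit 5) (Steps.bwd (nat_lit 2) (Steps.bwd (nat_lit 1) (Steps.bwd (nat_lit 6) (Steps.fwd (nat_lit 262144) (Steps.bwd (nat_lit 2) (Steps.bwd (nat_lit 1) (Steps.fwd (nat_lit 1572864) (Steps.bwd (nat_lit 1) (Steps.fwd (nat_lit 786432) (Steps.fwd (nat_lit 262144) (Steps.bwd (nat_lit 6) Steps.nil))))))))))))) (nat_lit 34) (nat_lit 12),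
  Rule.mk (nat_lit 4) (nat_lit 314) (Steps.bwd (nat_lit 8) (Steps.bwd (nat_lit 4) (Steps.bwd (nat_lit 9) (Steps.bwd (nat_lit 4) (Steps.bwd (nat_lit 8) (Steps.bwd (nat_lit 4) (Steps.bwd (nat_lit 9) (Steps.bwd (nat_lit 4) (Steps.bwd (nat_lit 8) (Steps.fwd (nat_lit 1048576) (Steps.bwd (nat_lit 9) (Steps.bwd (nat_lit 4) (Steps.bwd (nat_lit 8) (Steps.fwd (nat_lit 1048576) (Steps.fwd (nat_lit 2097152) Steps.nil))))))))))))))) (nat_lit 106) (nat_lit 0),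
  Rule.mk (nat_lit 3) (nat_lit 114) (Steps.bwd (nat_lit 1) (Steps.bwd (nat_lit 3) (Steps.bwd (nat_lit 1) (Steps.bwd (nat_lit 3) (Steps.fwd (nat_lit 262144) Steps.nil))))) (nat_lit 13) (nat_lit 1),
  Rule.mk (nat_lit 4) (nat_lit 114) (Steps.fwd (nat_lit 1572864) (Steps.fwd (nat_lit 1835008) (Steps.bwd (nat_lit 4) (Steps.bwd (nat_lit 5) (Steps.bwd (nat_lit 7) Steps.nil))))) (nat_lit 66) (nat_lit 4),
  Rule.mk (nat_lit 4) (nat_lit 114) (Steps.bwd (nat_lit 6) (Steps.bwd (nat_lit 7) (Steps.bwd (nat_lit 4) (Steps.fwd (nat_lit 1310720) (Steps.bwd (nat_lit 7) Steps.nil))))) (nat_lit 66) (nat_lit 4),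
  Rule.mk (nat_lit 4) (nat_lit 154) (Steps.fwd (nat_lit 524288) (Steps.bwd (nat_lit 6) (Steps.bwd (nat_lit 7) (Steps.bwd (nat_lit 4) (Steps.fwd (nat_lit 524288) (Steps.bwd (nat_lit 5) (Steps.fwd (nat_lit 1835008) Steps.nil))))))) (nat_lit 81) (nat_lit 7),
  Rule.mk (nat_lit 4) (nat_lit 314) (Steps.bwd (nat_lit 9) (Steps.bwd (nat_lit 4) (Steps.bwd (nat_lit 8) (Steps.fwd (nat_lit 1048576) (Steps.fwd (nat_lit 2097152) (Steps.bwd (nat_lit 4) (Steps.fwd (nat_lit 2359296) (Steps.bwd (nat_lit 4) (Steps.bwd (nat_lit 9) (Steps.bwd (nat_lit 4) (Steps.bwd (nat_lit 8) (Steps.fwd (nat_lit 1048576) (Steps.fwd (nat_lit 2097152) (Steps.bwd (nat_lit 4) (Steps.fwd (nat_lit 2359296) Steps.nil))))))))))))))) (nat_lit 106) (nat_lit 2),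
  Rule.mk (nat_lit 4) (nat_lit 314) (Steps.fwd (nat_lit 2359296) (Steps.bwd (nat_lit 4) (Steps.bwd (nat_lit 9) (Steps.bwd (nat_lit 4) (Steps.fwd (nat_lit 2359296) (Steps.fwd (nat_lit 1048576) (Steps.fwd (nat_lit 2097152) (Steps.bwd (nat_lit 4) (Steps.bwd (nat_lit 8) (Steps.fwd (nat_lit 1048576) (Steps.fwd (nat_lit 2097152) (Steps.fwd (nat_lit 1048576) (Steps.fwd (nat_lit 2359296) (Steps.fwd (nat_lit 1048576) (Steps.fwd (nat_lit 2097152) Steps.nil))))))))))))))) (nat_lit 106) (nat_lit 0),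
  Rule.mk (nat_lit 4) (nat_lit 114) (Steps.fwd (nat_lit 1310720) (Steps.bwd (nat_lit 7) (Steps.bwd (nat_lit 4) (Steps.bwd (nat_lit 6) (Steps.fwd (nat_lit 1835008) Steps.nil))))) (nat_lit 66) (nat_lit 1),
  Rule.mk (nat_lit 4) (nat_lit 154) (Steps.fwd (nat_lit 1310720) (Steps.fwd (nat_lit 1835008) (Steps.fwd (nat_lit 786432) (Steps.bwd (nat_lit 4) (Steps.bwd (nat_lit 6) (Steps.fwd (nat_lit 1835008) (Steps.bwd (nat_lit 2) Steps.nil))))))) (nat_lit 78) (nat_lit 2),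
  Rule.mk (nat_lit 4) (nat_lit 114) (Steps.bwd (nat_lit 5) (Steps.bwd (nat_lit 2) (Steps.bwd (nat_lit 4) (Steps.fwd (nat_lit 1572864) (Steps.fwd (nat_lit 786432) Steps.nil))))) (nat_lit 54) (nat_lit 2),
  Rule.mk (nat_lit 4) (nat_lit 314) (Steps.bwd (nat_lit 9) (Steps.bwd (nat_lit 4) (Steps.bwd (nat_lit 8) (Steps.fwd (nat_lit 1048576) (Steps.fwd (nat_lit 2097152) (Steps.fwd (nat_lit 1048576) (Steps.bwd (nat_lit 8) (Steps.bwd (nat_lit 4) (Steps.bwd (nat_lit 9) (Steps.bwd (nat_lit 4) (Steps.bwd (nat_lit 8) (Steps.fwd (nat_lit 1048576) (Steps.bwd (nat_lit 9) (Steps.fwd (nat_lit 1048576) (Steps.fwd (nat_lit 2359296) Steps.nil))))))))))))))) (nat_lit 106) (nat_lit 2),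
  Rule.mk (nat_lit 4) (nat_lit 314) (Steps.bwd (nat_lit 9) (Steps.bwd (nat_lit 4) (Steps.bwd (nat_lit 8) (Steps.bwd (nat_lit 4) (Steps.bwd (nat_lit 9) (Steps.fwd (nat_lit 1048576) (Steps.fwd (nat_lit 2359296) (Steps.fwd (nat_lit 1048576) (Steps.bwd (nat_lit 9) (Steps.bwd (nat_lit 4) (Steps.bwd (nat_lit 8) (Steps.bwd (nat_lit 4) (Steps.bwd (nat_lit 9) (Steps.fwd (nat_lit 1048576) (Steps.fwd (nat_lit 2359296) Steps.nil))))))))))))))) (nat_lit 106) (nat_lit 2),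
  Rule.mk (nat_lit 1) (nat_lit 274) (Steps.bwd (nat_lit 6) (Steps.bwd (nat_lit 1) (Steps.bwd (nat_lit 6) (Steps.bwd (nat_lit 5) (Steps.fwd (nat_lit 786432) (Steps.fwd (nat_lit 262144) (Steps.bwd (nat_lit 6) (Steps.bwd (nat_lit 1) (Steps.bwd (nat_lit 2) (Steps.bwd (nat_lit 1) (Steps.fwd (nat_lit 1572864) (Steps.fwd (nat_lit 262144) (Steps.bwd (nat_lit 2) Steps.nil))))))))))))) (nat_lit 34) (nat_lit 10),
  Rule.mk (nat_lit 4) (nat_lit 314) (Steps.bwd (nat_lit 8) (Steps.bwd (nat_lit 4) (Steps.bwd (nat_lit 9) (Steps.fwd (nat_lit 1048576) (Steps.bwd (nat_lit 8) (Steps.fwd (nat_lit 1048576) (Steps.bwd (nat_lit 9) (Steps.fwd (nat_lit 1048576) (Steps.bwd (nat_lit 8) (Steps.fwd (nat_lit 1048576) (Steps.fwd (nat_lit 2097152) (Steps.bwd (nat_lit 4) (Steps.fwd (nat_lit 2359296) (Steps.fwd (nat_lit 1048576) (Steps.fwd (nat_lit 2097152) Steps.nil))))))))))))))) (nat_lit 106)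 (nat_lit 0),
  Rule.mk (nat_lit 6) (nat_lit 274) (Steps.bwd (nat_lit 1) (Steps.bwd (nat_lit 6) (Steps.fwd (nat_lit 1310720) (Steps.bwd (nat_lit 2) (Steps.bwd (nat_lit 1) (Steps.bwd (nat_lit 6) (Steps.fwd (nat_lit 262144) (Steps.bwd (nat_lit 2) (Steps.bwd (nat_lit 1) (Steps.fwd (nat_lit 1572864) (Steps.bwd (nat_lit 1) (Steps.fwd (nat_lit 786432) (Steps.fwd (nat_lit 262144) Steps.nil))))))))))))) (nat_lit 34) (nat_lit 11),
  Rule.mk (nat_lit 4) (nat_lit 314) (Steps.bwd (nat_lit 9) (Steps.bwd (nat_lit 4) (Steps.bwd (nat_lit 8) (Steps.fwd (nat_lit 1048576) (Steps.bwd (nat_lit 9) (Steps.bwd (nat_lit 4) (Steps.fwd (nat_lit 2359296) (Steps.fwd (nat_lit 1048576) (Steps.fwd (nat_lit 2097152) (Steps.bwd (nat_lit 4) (Steps.bwd (nat_lit 8) (Steps.bwd (nat_lit 4) (Steps.fwd (nat_lit 2097152) (Steps.fwd (nat_lit 1048576) (Steps.fwd (nat_lit 2359296) Steps.nil)))))))))))))))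 (nat_lit 106) (nat_lit 2),
  Rule.mk (nat_lit 4) (nat_lit 314) (Steps.bwd (nat_lit 8) (Steps.bwd (nat_lit 4) (Steps.bwd (nat_lit 9) (Steps.fwd (nat_lit 1048576) (Steps.fwd (nat_lit 2359296) (Steps.fwd (nat_lit 1048576) (Steps.bwd (nat_lit 9) (Steps.bwd (nat_lit 4) (Steps.bwd (nat_lit 8) (Steps.bwd (nat_lit 4) (Steps.bwd (nat_lit 9) (Steps.fwd (nat_lit 1048576) (Steps.fwd (nat_lit 2359296) (Steps.fwd (nat_lit 1048576) (Steps.bwd (nat_lit 9) Steps.nil))))))))))))))) (nat_lit 106) (nat_lit 0),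
  Rule.mk (nat_lit 1) (nat_lit 274) (Steps.bwd (nat_lit 6) (Steps.bwd (nat_lit 1) (Steps.fwd (nat_lit 1572864) (Steps.bwd (nat_lit 5) (Steps.fwd (nat_lit 786432) (Steps.fwd (nat_lit 262144) (Steps.fwd (nat_lit 1572864) (Steps.bwd (nat_lit 1) (Steps.bwd (nat_lit 2) (Steps.fwd (nat_lit 262144) (Steps.bwd (nat_lit 6) (Steps.fwd (nat_lit 262144) (Steps.bwd (nat_lit 2) Steps.nil))))))))))))) (nat_lit 34) (nat_lit 10),
  Rule.mk (nat_lit 1) (nat_lit 274) (Steps.bwd (nat_lit 6) (Steps.bwd (nat_lit 1) (Steps.fwd (nat_lit 1572864) (Steps.fwd (nat_lit 1310720) (Steps.fwd (nat_lit 786432) (Steps.fwd (nat_lit 262144) (Steps.bwd (nat_lit 6) (Steps.bwd (nat_lit 1) (Steps.bwd (nat_lit 2) (Steps.bwd (nat_lit 1) (Steps.bwd (nat_lit 6) (Steps.fwd (nat_lit 262144) (Steps.bwd (nat_lit 2) Steps.nil))))))))))))) (nat_lit 34) (nat_lit 10),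
  Rule.mk (nat_lit 4) (nat_lit 314) (Steps.bwd (nat_lit 8) (Steps.bwd (nat_lit 4) (Steps.bwd (nat_lit 9) (Steps.fwd (nat_lit 1048576) (Steps.fwd (nat_lit 2359296) (Steps.fwd (nat_lit 1048576) (Steps.fwd (nat_lit 2097152) (Steps.fwd (nat_lit 1048576) (Steps.bwd (nat_lit 8) (Steps.bwd (nat_lit 4) (Steps.fwd (nat_lit 2097152) (Steps.fwd (nat_lit 1048576) (Steps.bwd (nat_lit 8) (Steps.fwd (nat_lit 1048576) (Steps.fwd (nat_lit 2097152) Steps.nil))))))))))))))) (nat_lit 106) (nat_lit 0),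
  Rule.mk (nat_lit 4) (nat_lit 314) (Steps.bwd (nat_lit 9) (Steps.bwd (nat_lit 4) (Steps.fwd (nat_lit 2359296) (Steps.fwd (nat_lit 1048576) (Steps.fwd (nat_lit 2097152) (Steps.bwd (nat_lit 4) (Steps.fwd (nat_lit 2359296) (Steps.fwd (nat_lit 1048576) (Steps.bwd (nat_lit 9) (Steps.bwd (nat_lit 4) (Steps.fwd (nat_lit 2359296) (Steps.fwd (nat_lit 1048576) (Steps.fwd (nat_lit 2097152) (Steps.bwd (nat_lit 4) (Steps.fwd (nat_lit 2359296) Steps.nil))))))))))))))) (nat_lit 106) (nat_lit 2),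
  Rule.mk (nat_lit 4) (nat_lit 314) (Steps.bwd (nat_lit 9) (Steps.bwd (nat_lit 4) (Steps.bwd (nat_lit 8) (Steps.fwd (nat_lit 1048576) (Steps.fwd (nat_lit 2097152) (Steps.bwd (nat_lit 4) (Steps.bwd (nat_lit 8) (Steps.fwd (nat_lit 1048576) (Steps.bwd (nat_lit 9) (Steps.fwd (nat_lit 1048576) (Steps.bwd (nat_lit 8) (Steps.fwd (nat_lit 1048576) (Steps.fwd (nat_lit 2097152) (Steps.fwd (nat_lit 1048576) (Steps.fwd (nat_lit 2359296) Steps.nil))))))))))))))) (nat_lit 106) (nat_lit 2),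
  Rule.mk (nat_lit 4) (nat_lit 314) (Steps.bwd (nat_lit 8) (Steps.bwd (nat_lit 4) (Steps.bwd (nat_lit 9) (Steps.fwd (nat_lit 1048576) (Steps.fwd (nat_lit 2359296) (Steps.fwd (nat_lit 1048576) (Steps.fwd (nat_lit 2097152) (Steps.fwd (nat_lit 1048576) (Steps.fwd (nat_lit 2359296) (Steps.fwd (nat_lit 1048576) (Steps.bwd (nat_lit 9) (Steps.bwd (nat_lit 4) (Steps.fwd (nat_lit 2359296) (Steps.fwd (nat_lit 1048576) (Steps.fwd (nat_lit 2097152) Steps.nil))))))))))))))) (nat_lit 106) (nat_lit 0)]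
noncomputable def R_14 : List (Rule) := [Rule.mk (nat_lit 4) (nat_lit 314) (Steps.bwd (nat_lit 9) (Steps.bwd (nat_lit 4) (Steps.fwd (nat_lit 2359296) (Steps.fwd (nat_lit 1048576) (Steps.fwd (nat_lit 2097152) (Steps.bwd (nat_lit 4) (Steps.bwd (nat_lit 8) (Steps.bwd (nat_lit 4) (Steps.bwd (nat_lit 9) (Steps.fwd (nat_lit 1048576) (Steps.fwd (nat_lit 2359296) (Steps.bwd (nat_lit 4) (Steps.bwd (nat_lit 9) (Steps.bwd (nat_lit 4) (Steps.fwd (nat_lit 2359296) Steps.nil))))))))))))))) (nat_lit 106) (nat_lit 2),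
  Rule.mk (nat_lit 4) (nat_lit 314) (Steps.bwd (nat_lit 8) (Steps.bwd (nat_lit 4) (Steps.bwd (nat_lit 9) (Steps.fwd (nat_lit 1048576) (Steps.fwd (nat_lit 2359296) (Steps.fwd (nat_lit 1048576) (Steps.fwd (nat_lit 2097152) (Steps.fwd (nat_lit 1048576) (Steps.bwd (nat_lit 8) (Steps.bwd (nat_lit 4) (Steps.bwd (nat_lit 9) (Steps.bwd (nat_lit 4) (Steps.bwd (nat_lit 8) (Steps.fwd (nat_lit 1048576) (Steps.fwd (nat_lit 2097152) Steps.nil))))))))))))))) (nat_lit 106) (nat_lit 0),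
  Rule.mk (nat_lit 4) (nat_lit 314) (Steps.bwd (nat_lit 9) (Steps.bwd (nat_lit 4) (Steps.fwd (nat_lit 2359296) (Steps.fwd (nat_lit 1048576) (Steps.fwd (nat_lit 2097152) (Steps.bwd (nat_lit 4) (Steps.bwd (nat_lit 8) (Steps.bwd (nat_lit 4) (Steps.fwd (nat_lit 2097152) (Steps.fwd (nat_lit 1048576) (Steps.bwd (nat_lit 8) (Steps.fwd (nat_lit 1048576) (Steps.fwd (nat_lit 2097152) (Steps.fwd (nat_lit 1048576) (Steps.fwd (nat_lit 2359296) Steps.nil))))))))))))))) (nat_lit 106) (nat_lit 2),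
  Rule.mk (nat_lit 4) (nat_lit 314) (Steps.bwd (nat_lit 9) (Steps.bwd (nat_lit 4) (Steps.bwd (nat_lit 8) (Steps.bwd (nat_lit 4) (Steps.fwd (nat_lit 2097152) (Steps.fwd (nat_lit 1048576) (Steps.fwd (nat_lit 2359296) (Steps.fwd (nat_lit 1048576) (Steps.fwd (nat_lit 2097152) (Steps.fwd (nat_lit 1048576) (Steps.bwd (nat_lit 8) (Steps.fwd (nat_lit 1048576) (Steps.fwd (nat_lit 2097152) (Steps.fwd (nat_lit 1048576) (Steps.fwd (nat_lit 2359296) Steps.nil))))))))))))))) (nat_lit 106) (nat_lit 2),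
  Rule.mk (nat_lit 4) (nat_lit 314) (Steps.bwd (nat_lit 9) (Steps.bwd (nat_lit 4) (Steps.bwd (nat_lit 8) (Steps.fwd (nat_lit 1048576) (Steps.fwd (nat_lit 2097152) (Steps.bwd (nat_lit 4) (Steps.fwd (nat_lit 2359296) (Steps.bwd (nat_lit 4) (Steps.bwd (nat_lit 9) (Steps.bwd (nat_lit 4) (Steps.fwd (nat_lit 2359296) (Steps.bwd (nat_lit 4) (Steps.bwd (nat_lit 9) (Steps.fwd (nat_lit 1048576) (Steps.fwd (nat_lit 2359296) Steps.nil))))))))))))))) (nat_lit 106) (nat_lit 2),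
  Rule.mk (nat_lit 4) (nat_lit 314) (Steps.bwd (nat_lit 9) (Steps.bwd (nat_lit 4) (Steps.bwd (nat_lit 8) (Steps.fwd (nat_lit 1048576) (Steps.fwd (nat_lit 2097152) (Steps.fwd (nat_lit 1048576) (Steps.fwd (nat_lit 2359296) (Steps.bwd (nat_lit 4) (Steps.bwd (nat_lit 9) (Steps.bwd (nat_lit 4) (Steps.bwd (nat_lit 8) (Steps.fwd (nat_lit 1048576) (Steps.fwd (nat_lit 2097152) (Steps.fwd (nat_lit 1048576) (Steps.fwd (nat_lit 2359296) Steps.nil))))))))))))))) (nat_lit 106) (nat_lit 2),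
  Rule.mk (nat_lit 1) (nat_lit 274) (Steps.bwd (nat_lit 6) (Steps.fwd (nat_lit 1310720) (Steps.bwd (nat_lit 2) (Steps.bwd (nat_lit 1) (Steps.bwd (nat_lit 6) (Steps.fwd (nat_lit 262144) (Steps.fwd (nat_lit 786432) (Steps.bwd (nat_lit 1) (Steps.fwd (nat_lit 1572864) (Steps.fwd (nat_lit 262144) (Steps.bwd (nat_lit 2) (Steps.fwd (nat_lit 262144) (Steps.bwd (nat_lit 6) Steps.nil))))))))))))) (nat_lit 34) (nat_lit 12),
  Rule.mk (nat_lit 4) (nat_lit 314) (Steps.bwd (nat_lit 8) (Steps.bwd (nat_lit 4) (Steps.bwd (nat_lit 9) (Steps.fwd (nat_lit 1048576) (Steps.fwd (nat_lit 2359296) (Steps.bwd (nat_lit 4) (Steps.fwd (nat_lit 2097152) (Steps.fwd (nat_lit 1048576) (Steps.fwd (nat_lit 2359296) (Steps.bwd (nat_lit 4) (Steps.bwd (nat_lit 9) (Steps.fwd (nat_lit 1048576) (Steps.fwd (nat_lit 2359296) (Steps.bwd (nat_lit 4) (Steps.bwd (nat_lit 9) Steps.nil))))))))))))))) (nat_lit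 106) (nat_lit 0),
  Rule.mk (nat_lit 4) (nat_lit 314) (Steps.bwd (nat_lit 9) (Steps.bwd (nat_lit 4) (Steps.fwd (nat_lit 2359296) (Steps.fwd (nat_lit 1048576) (Steps.fwd (nat_lit 2097152) (Steps.bwd (nat_lit 4) (Steps.fwd (nat_lit 2359296) (Steps.fwd (nat_lit 1048576) (Steps.bwd (nat_lit 9) (Steps.bwd (nat_lit 4) (Steps.bwd (nat_lit 8) (Steps.bwd (nat_lit 4) (Steps.bwd (nat_lit 9) (Steps.fwd (nat_lit 1048576) (Steps.fwd (nat_lit 2359296) Steps.nil))))))))))))))) (nat_lit 106) (nat_lit 2),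
  Rule.mk (nat_lit 6) (nat_lit 274) (Steps.bwd (nat_lit 1) (Steps.bwd (nat_lit 6) (Steps.bwd (nat_lit 5) (Steps.fwd (nat_lit 786432) (Steps.bwd (nat_lit 1) (Steps.fwd (nat_lit 1572864) (Steps.fwd (nat_lit 262144) (Steps.bwd (nat_lit 2) (Steps.bwd (nat_lit 1) (Steps.fwd (nat_lit 1572864) (Steps.bwd (nat_lit 1) (Steps.bwd (nat_lit 2) (Steps.fwd (nat_lit 262144) Steps.nil))))))))))))) (nat_lit 34) (nat_lit 11),
  Rule.mk (nat_lit 3) (nat_lit 154) (Steps.bwd (nat_lit 1) (Steps.bwd (nat_lit 3) (Steps.fwd (nat_lit 1310720) (Steps.fwd (nat_lit 262144) (Steps.fwd (nat_lit 524288) (Steps.bwd (nat_lit 1) (Steps.bwd (nat_lit 5) Steps.nil))))))) (nat_lit 71) (nat_lit 2),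
  Rule.mk (nat_lit 6) (nat_lit 274) (Steps.bwd (nat_lit 1) (Steps.bwd (nat_lit 2) (Steps.bwd (nat_lit 1) (Steps.fwd (nat_lit 1572864) (Steps.fwd (nat_lit 262144) (Steps.bwd (nat_lit 2) (Steps.bwd (nat_lit 1) (Steps.fwd (nat_lit 1572864) (Steps.bwd (nat_lit 1) (Steps.fwd (nat_lit 1572864) (Steps.fwd (nat_lit 1310720) (Steps.fwd (nat_lit 786432) (Steps.fwd (nat_lit 262144) Steps.nil))))))))))))) (nat_lit 34) (nat_lit 3),
  Rule.mk (nat_lit 1) (nat_lit 274) (Steps.bwd (nat_lit 6) (Steps.bwd (nat_lit 5) (Steps.bwd (nat_lit 2) (Steps.fwd (nat_lit 262144) (Steps.fwd (nat_lit 1572864) (Steps.bwd (nat_lit 1) (Steps.fwd (nat_lit 786432) (Steps.fwd (nat_lit 262144) (Steps.bwd (nat_lit 6) (Steps.fwd (nat_lit 262144) (Steps.bwd (nat_lit 2) (Steps.fwd (nat_lit 262144) (Steps.fwd (nat_lit 1572864) Steps.nil))))))))))))) (nat_lit 34) (nat_lit 12),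
  Rule.mk (nat_lit 4) (nat_lit 314) (Steps.bwd (nat_lit 9) (Steps.bwd (nat_lit 4) (Steps.bwd (nat_lit 8) (Steps.bwd (nat_lit 4) (Steps.fwd (nat_lit 2097152) (Steps.fwd (nat_lit 1048576) (Steps.fwd (nat_lit 2359296) (Steps.bwd (nat_lit 4) (Steps.bwd (nat_lit 9) (Steps.bwd (nat_lit 4) (Steps.bwd (nat_lit 8) (Steps.fwd (nat_lit 1048576) (Steps.fwd (nat_lit 2097152) (Steps.bwd (nat_lit 4) (Steps.fwd (nat_lit 2359296) Steps.nil))))))))))))))) (nat_lit 106) (nat_lit 2),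
  Rule.mk (nat_lit 4) (nat_lit 314) (Steps.bwd (nat_lit 8) (Steps.bwd (nat_lit 4) (Steps.bwd (nat_lit 9) (Steps.bwd (nat_lit 4) (Steps.fwd (nat_lit 2359296) (Steps.bwd (nat_lit 4) (Steps.fwd (nat_lit 2097152) (Steps.fwd (nat_lit 1048576) (Steps.fwd (nat_lit 2359296) (Steps.bwd (nat_lit 4) (Steps.bwd (nat_lit 9) (Steps.fwd (nat_lit 1048576) (Steps.fwd (nat_lit 2359296) (Steps.fwd (nat_lit 1048576) (Steps.bwd (nat_lit 9) Steps.nil))))))))))))))) (nat_lit 106) (nat_lit 0),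
  Rule.mk (nat_lit 4) (nat_lit 314) (Steps.bwd (nat_lit 9) (Steps.bwd (nat_lit 4) (Steps.fwd (nat_lit 2359296) (Steps.fwd (nat_lit 1048576) (Steps.fwd (nat_lit 2097152) (Steps.bwd (nat_lit 4) (Steps.fwd (nat_lit 2359296) (Steps.fwd (nat_lit 1048576) (Steps.bwd (nat_lit 9) (Steps.bwd (nat_lit 4) (Steps.bwd (nat_lit 8) (Steps.bwd (nat_lit 4) (Steps.fwd (nat_lit 2097152) (Steps.fwd (nat_lit 1048576) (Steps.fwd (nat_lit 2359296) Steps.nil))))))))))))))) (nat_lit 106) (nat_lit 2),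
  Rule.mk (nat_lit 4) (nat_lit 314) (Steps.bwd (nat_lit 9) (Steps.bwd (nat_lit 4) (Steps.bwd (nat_lit 8) (Steps.fwd (nat_lit 1048576) (Steps.fwd (nat_lit 2097152) (Steps.bwd (nat_lit 4) (Steps.fwd (nat_lit 2359296) (Steps.fwd (nat_lit 1048576) (Steps.bwd (nat_lit 9) (Steps.bwd (nat_lit 4) (Steps.bwd (nat_lit 8) (Steps.fwd (nat_lit 1048576) (Steps.fwd (nat_lit 2097152) (Steps.fwd (nat_lit 1048576) (Steps.fwd (nat_lit 2359296) Steps.nil))))))))))))))) (nat_lit 106) (nat_lit 2),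
  Rule.mk (nat_lit 4) (nat_lit 314) (Steps.bwd (nat_lit 8) (Steps.bwd (nat_lit 4) (Steps.bwd (nat_lit 9) (Steps.fwd (nat_lit 1048576) (Steps.fwd (nat_lit 2359296) (Steps.fwd (nat_lit 1048576) (Steps.bwd (nat_lit 9) (Steps.bwd (nat_lit 4) (Steps.bwd (nat_lit 8) (Steps.bwd (nat_lit 4) (Steps.fwd (nat_lit 2097152) (Steps.fwd (nat_lit 1048576) (Steps.fwd (nat_lit 2359296) (Steps.fwd (nat_lit 1048576) (Steps.bwd (nat_lit 9) Steps.nil))))))))))))))) (nat_lit 106) (nat_lit 0),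
  Rule.mk (nat_lit 4) (nat_lit 314) (Steps.bwd (nat_lit 9) (Steps.bwd (nat_lit 4) (Steps.fwd (nat_lit 2359296) (Steps.fwd (nat_lit 1048576) (Steps.fwd (nat_lit 2097152) (Steps.bwd (nat_lit 4) (Steps.bwd (nat_lit 8) (Steps.bwd (nat_lit 4) (Steps.bwd (nat_lit 9) (Steps.fwd (nat_lit 1048576) (Steps.fwd (nat_lit 2359296) (Steps.fwd (nat_lit 1048576) (Steps.bwd (nat_lit 9) (Steps.fwd (nat_lit 1048576) (Steps.fwd (nat_lit 2359296) Steps.nil))))))))))))))) (nat_lit 106) (nat_lit 2),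
  Rule.mk (nat_lit 1) (nat_lit 274) (Steps.bwd (nat_lit 6) (Steps.fwd (nat_lit 1310720) (Steps.bwd (nat_lit 2) (Steps.bwd (nat_lit 1) (Steps.fwd (nat_lit 1572864) (Steps.bwd (nat_lit 1) (Steps.fwd (nat_lit 786432) (Steps.fwd (nat_lit 262144) (Steps.bwd (nat_lit 6) (Steps.fwd (nat_lit 262144) (Steps.bwd (nat_lit 2) (Steps.fwd (nat_lit 262144) (Steps.fwd (nat_lit 1572864) Steps.nil))))))))))))) (nat_lit 34) (nat_lit 12),
  Rule.mk (nat_lit 4) (nat_lit 314) (Steps.bwd (nat_lit 9) (Steps.bwd (nat_lit 4) (Steps.bwd (nat_lit 8) (Steps.fwd (nat_lit 1048576) (Steps.fwd (nat_lit 2097152) (Steps.fwd (nat_lit 1048576) (Steps.fwd (nat_lit 2359296) (Steps.bwd (nat_lit 4) (Steps.bwd (nat_lit 9) (Steps.bwd (nat_lit 4) (Steps.fwd (nat_lit 2359296) (Steps.bwd (nat_lit 4) (Steps.fwd (nat_lit 2097152) (Steps.fwd (nat_lit 1048576) (Steps.fwd (nat_lit 2359296) Steps.nil)))))))))))))))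 (nat_lit 106) (nat_lit 2),
  Rule.mk (nat_lit 4) (nat_lit 314) (Steps.bwd (nat_lit 8) (Steps.bwd (nat_lit 4) (Steps.bwd (nat_lit 9) (Steps.fwd (nat_lit 1048576) (Steps.fwd (nat_lit 2359296) (Steps.bwd (nat_lit 4) (Steps.fwd (nat_lit 2097152) (Steps.fwd (nat_lit 1048576) (Steps.fwd (nat_lit 2359296) (Steps.bwd (nat_lit 4) (Steps.bwd (nat_lit 9) (Steps.bwd (nat_lit 4) (Steps.fwd (nat_lit 2359296) (Steps.fwd (nat_lit 1048576) (Steps.fwd (nat_lit 2097152) Steps.nil))))))))))))))) (nat_lit 106) (nat_lit 0),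
  Rule.mk (nat_lit 4) (nat_lit 114) (Steps.bwd (nat_lit 7) (Steps.fwd (nat_lit 786432) (Steps.bwd (nat_lit 4) (Steps.bwd (nat_lit 7) (Steps.bwd (nat_lit 2) Steps.nil))))) (nat_lit 56) (nat_lit 2),
  Rule.mk (nat_lit 4) (nat_lit 314) (Steps.bwd (nat_lit 8) (Steps.bwd (nat_lit 4) (Steps.bwd (nat_lit 9) (Steps.fwd (nat_lit 1048576) (Steps.fwd (nat_lit 2359296) (Steps.fwd (nat_lit 1048576) (Steps.fwd (nat_lit 2097152) (Steps.bwd (nat_lit 4) (Steps.fwd (nat_lit 2359296) (Steps.bwd (nat_lit 4) (Steps.bwd (nat_lit 9) (Steps.fwd (nat_lit 1048576) (Steps.fwd (nat_lit 2359296) (Steps.fwd (nat_lit 1048576) (Steps.bwd (nat_lit 9) Steps.nil))))))))))))))) (nat_lit 106) (nat_lit 0),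
  Rule.mk (nat_lit 4) (nat_lit 314) (Steps.bwd (nat_lit 9) (Steps.bwd (nat_lit 4) (Steps.fwd (nat_lit 2359296) (Steps.fwd (nat_lit 1048576) (Steps.fwd (nat_lit 2097152) (Steps.bwd (nat_lit 4) (Steps.bwd (nat_lit 8) (Steps.bwd (nat_lit 4) (Steps.bwd (nat_lit 9) (Steps.fwd (nat_lit 1048576) (Steps.fwd (nat_lit 2359296) (Steps.fwd (nat_lit 1048576) (Steps.fwd (nat_lit 2097152) (Steps.fwd (nat_lit 1048576) (Steps.fwd (nat_lit 2359296) Steps.nil))))))))))))))) (nat_lit 106) (nat_lit 2),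
  Rule.mk (nat_lit 4) (nat_lit 314) (Steps.bwd (nat_lit 9) (Steps.bwd (nat_lit 4) (Steps.bwd (nat_lit 8) (Steps.fwd (nat_lit 1048576) (Steps.fwd (nat_lit 2097152) (Steps.fwd (nat_lit 1048576) (Steps.bwd (nat_lit 8) (Steps.fwd (nat_lit 1048576) (Steps.fwd (nat_lit 2097152) (Steps.bwd (nat_lit 4) (Steps.bwd (nat_lit 8) (Steps.bwd (nat_lit 4) (Steps.fwd (nat_lit 2097152) (Steps.fwd (nat_lit 1048576) (Steps.fwd (nat_lit 2359296) Steps.nil))))))))))))))) (nat_lit 106) (nat_lit 2),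
  Rule.mk (nat_lit 4) (nat_lit 314) (Steps.bwd (nat_lit 8) (Steps.bwd (nat_lit 4) (Steps.bwd (nat_lit 9) (Steps.fwd (nat_lit 1048576) (Steps.bwd (nat_lit 8) (Steps.bwd (nat_lit 4) (Steps.fwd (nat_lit 2097152) (Steps.fwd (nat_lit 1048576) (Steps.fwd (nat_lit 2359296) (Steps.bwd (nat_lit 4) (Steps.bwd (nat_lit 9) (Steps.bwd (nat_lit 4) (Steps.bwd (nat_lit 8) (Steps.fwd (nat_lit 1048576) (Steps.fwd (nat_lit 2097152) Steps.nil))))))))))))))) (nat_lit 106) (nat_lit 0),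
  Rule.mk (nat_lit 4) (nat_lit 114) (Steps.fwd (nat_lit 524288) (Steps.bwd (nat_lit 7) (Steps.bwd (nat_lit 4) (Steps.bwd (nat_lit 3) (Steps.bwd (nat_lit 7) Steps.nil))))) (nat_lit 57) (nat_lit 2),
  Rule.mk (nat_lit 4) (nat_lit 314) (Steps.bwd (nat_lit 9) (Steps.bwd (nat_lit 4) (Steps.bwd (nat_lit 8) (Steps.bwd (nat_lit 4) (Steps.fwd (nat_lit 2097152) (Steps.fwd (nat_lit 1048576) (Steps.fwd (nat_lit 2359296) (Steps.bwd (nat_lit 4) (Steps.fwd (nat_lit 2097152) (Steps.fwd (nat_lit 1048576) (Steps.bwd (nat_lit 8) (Steps.fwd (nat_lit 1048576) (Steps.fwd (nat_lit 2097152) (Steps.fwd (nat_lit 1048576) (Steps.fwd (nat_lit 2359296) Steps.nil))))))))))))))) (nat_lit 106) (nat_lit 2),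
  Rule.mk (nat_lit 4) (nat_lit 314) (Steps.bwd (nat_lit 8) (Steps.bwd (nat_lit 4) (Steps.bwd (nat_lit 9) (Steps.bwd (nat_lit 4) (Steps.bwd (nat_lit 8) (Steps.bwd (nat_lit 4) (Steps.fwd (nat_lit 2097152) (Steps.fwd (nat_lit 1048576) (Steps.fwd (nat_lit 2359296) (Steps.bwd (nat_lit 4) (Steps.bwd (nat_lit 9) (Steps.bwd (nat_lit 4) (Steps.fwd (nat_lit 2359296) (Steps.bwd (nat_lit 4) (Steps.bwd (nat_lit 9) Steps.nil))))))))))))))) (nat_lit 106) (nat_lit 0),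
  Rule.mk (nat_lit 4) (nat_lit 314) (Steps.bwd (nat_lit 9) (Steps.bwd (nat_lit 4) (Steps.bwd (nat_lit 8) (Steps.fwd (nat_lit 1048576) (Steps.bwd (nat_lit 9) (Steps.fwd (nat_lit 1048576) (Steps.fwd (nat_lit 2359296) (Steps.fwd (nat_lit 1048576) (Steps.fwd (nat_lit 2097152) (Steps.bwd (nat_lit 4) (Steps.fwd (nat_lit 2359296) (Steps.bwd (nat_lit 4) (Steps.bwd (nat_lit 9) (Steps.bwd (nat_lit 4) (Steps.fwd (nat_lit 2359296) Steps.nil))))))))))))))) (nat_lit 106) (nat_lit 2),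
  Rule.mk (nat_lit 4) (nat_lit 314) (Steps.bwd (nat_lit 8) (Steps.bwd (nat_lit 4) (Steps.bwd (nat_lit 9) (Steps.fwd (nat_lit 1048576) (Steps.fwd (nat_lit 2359296) (Steps.fwd (nat_lit 1048576) (Steps.fwd (nat_lit 2097152) (Steps.fwd (nat_lit 1048576) (Steps.bwd (nat_lit 8) (Steps.bwd (nat_lit 4) (Steps.bwd (nat_lit 9) (Steps.bwd (nat_lit 4) (Steps.fwd (nat_lit 2359296) (Steps.fwd (nat_lit 1048576) (Steps.fwd (nat_lit 2097152) Steps.nil))))))))))))))) (nat_lit 106) (nat_lit 0),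
  Rule.mk (nat_lit 4) (nat_lit 314) (Steps.bwd (nat_lit 9) (Steps.bwd (nat_lit 4) (Steps.fwd (nat_lit 2359296) (Steps.fwd (nat_lit 1048576) (Steps.fwd (nat_lit 2097152) (Steps.bwd (nat_lit 4) (Steps.fwd (nat_lit 2359296) (Steps.fwd (nat_lit 1048576) (Steps.bwd (nat_lit 9) (Steps.bwd (nat_lit 4) (Steps.bwd (nat_lit 8) (Steps.fwd (nat_lit 1048576) (Steps.fwd (nat_lit 2097152) (Steps.bwd (nat_lit 4) (Steps.fwd (nat_lit 2359296) Steps.nil))))))))))))))) (nat_lit 106) (nat_lit 2),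
  Rule.mk (nat_lit 1) (nat_lit 274) (Steps.bwd (nat_lit 6) (Steps.bwd (nat_lit 1) (Steps.fwd (nat_lit 524288) (Steps.fwd (nat_lit 262144) (Steps.fwd (nat_lit 1572864) (Steps.bwd (nat_lit 1) (Steps.fwd (nat_lit 524288) (Steps.fwd (nat_lit 262144) (Steps.bwd (nat_lit 6) (Steps.fwd (nat_lit 262144) (Steps.fwd (nat_lit 524288) (Steps.fwd (nat_lit 1310720) (Steps.bwd (nat_lit 6) Steps.nil))))))))))))) (nat_lit 35) (nat_lit 3),
  Rule.mk (nat_lit 6) (nat_lit 274) (Steps.bwd (nat_lit 1) (Steps.bwd (nat_lit 6) (Steps.fwd (nat_lit 1310720) (Steps.fwd (nat_lit 786432) (Steps.bwd (nat_lit 1) (Steps.bwd (nat_lit 6) (Steps.fwd (nat_lit 262144) (Steps.bwd (nat_lit 2) (Steps.fwd (nat_lit 262144) (Steps.bwd (nat_lit 6) (Steps.bwd (nat_lit 1) (Steps.bwd (nat_lit 2) (Steps.fwd (nat_lit 262144) Steps.nil))))))))))))) (nat_lit 34) (nat_lit 11),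
  Rule.mk (nat_lit 6) (nat_lit 274) (Steps.bwd (nat_lit 1) (Steps.bwd (nat_lit 3) (Steps.bwd (nat_lit 1) (Steps.bwd (nat_lit 6) (Steps.bwd (nat_lit 1) (Steps.fwd (nat_lit 524288) (Steps.fwd (nat_lit 1310720) (Steps.bwd (nat_lit 6) (Steps.fwd (nat_lit 262144) (Steps.fwd (nat_lit 1572864) (Steps.bwd (nat_lit 1) (Steps.fwd (nat_lit 524288) (Steps.fwd (nat_lit 262144) Steps.nil))))))))))))) (nat_lit 35) (nat_lit 8),
  Rule.mk (nat_lit 6) (nat_lit 154) (Steps.bwd (nat_lit 2) (Steps.bwd (nat_lit 5) (Steps.bwd (nat_lit 2) (Steps.bwd (nat_lit 7) (Steps.bwd (nat_lit 6) (Steps.fwd (nat_lit 786432) (Steps.fwd (nat_lit 1310720) Steps.nil))))))) (nat_lit 84) (nat_lit 0),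
  Rule.mk (nat_lit 1) (nat_lit 154) (Steps.bwd (nat_lit 6) (Steps.bwd (nat_lit 1) (Steps.fwd (nat_lit 1048576) (Steps.fwd (nat_lit 262144) (Steps.bwd (nat_lit 6) (Steps.bwd (nat_lit 1) (Steps.bwd (nat_lit 4) Steps.nil))))))) (nat_lit 74) (nat_lit 3),
  Rule.mk (nat_lit 1) (nat_lit 154) (Steps.bwd (nat_lit 6) (Steps.bwd (nat_lit 1) (Steps.bwd (nat_lit 4) (Steps.fwd (nat_lit 262144) (Steps.bwd (nat_lit 6) (Steps.bwd (nat_lit 1) (Steps.bwd (nat_lit 4) Steps.nil))))))) (nat_lit 74) (nat_lit 3),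
  Rule.mk (nat_lit 1) (nat_lit 274) (Steps.bwd (nat_lit 6) (Steps.bwd (nat_lit 1) (Steps.fwd (nat_lit 524288) (Steps.fwd (nat_lit 262144) (Steps.fwd (nat_lit 1572864) (Steps.bwd (nat_lit 1) (Steps.fwd (nat_lit 524288) (Steps.fwd (nat_lit 262144) (Steps.bwd (nat_lit 6) (Steps.fwd (nat_lit 262144) (Steps.fwd (nat_lit 524288) (Steps.bwd (nat_lit 5) (Steps.bwd (nat_lit 6) Steps.nil))))))))))))) (nat_lit 35) (nat_lit 3),
  Rule.mk (nat_lit 6) (nat_lit 274) (Steps.bwd (nat_lit 1) (Steps.bwd (nat_lit 3) (Steps.bwd (nat_lit 1) (Steps.bwd (nat_lit 6) (Steps.bwd (nat_lit 1) (Steps.fwd (nat_lit 524288) (Steps.bwd (nat_lit 5) (Steps.bwd (nat_lit 6) (Steps.fwd (nat_lit 262144) (Steps.fwd (nat_lit 1572864) (Steps.bwd (nat_lit 1) (Steps.fwd (nat_lit 524288) (Steps.fwd (nat_lit 262144) Steps.nil))))))))))))) (nat_lit 35) (nat_lit 8),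
  Rule.mk (nat_lit 6) (nat_lit 154) (Steps.bwd (nat_lit 2) (Steps.fwd (nat_lit 1310720) (Steps.fwd (nat_lit 1572864) (Steps.fwd (nat_lit 786432) (Steps.fwd (nat_lit 1310720) (Steps.fwd (nat_lit 786432) (Steps.bwd (nat_lit 7) Steps.nil))))))) (nat_lit 84) (nat_lit 5),
  Rule.mk (nat_lit 1) (nat_lit 154) (Steps.bwd (nat_lit 6) (Steps.bwd (nat_lit 1) (Steps.fwd (nat_lit 1048576) (Steps.fwd (nat_lit 262144) (Steps.bwd (nat_lit 6) (Steps.bwd (nat_lit 1) (Steps.fwd (nat_lit 1048576) Steps.nil))))))) (nat_lit 74) (nat_lit 3),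
  Rule.mk (nat_lit 1) (nat_lit 274) (Steps.fwd (nat_lit 786432) (Steps.bwd (nat_lit 1) (Steps.fwd (nat_lit 1572864) (Steps.fwd (nat_lit 262144) (Steps.bwd (nat_lit 2) (Steps.bwd (nat_lit 1) (Steps.fwd (nat_lit 1572864) (Steps.bwd (nat_lit 1) (Steps.bwd (nat_lit 6) (Steps.fwd (nat_lit 1310720) (Steps.bwd (nat_lit 2) (Steps.fwd (nat_lit 262144) (Steps.bwd (nat_lit 6) Steps.nil))))))))))))) (nat_lit 34) (nat_lit 4),
  Rule.mk (nat_lit 6) (nat_lit 274) (Steps.bwd (nat_lit 1) (Steps.bwd (nat_lit 6) (Steps.fwd (nat_lit 1310720) (Steps.fwd (nat_lit 786432) (Steps.bwd (nat_lit 1) (Steps.fwd (nat_lit 1572864) (Steps.fwd (nat_lit 262144) (Steps.bwd (nat_lit 2) (Steps.fwd (nat_lit 262144) (Steps.bwd (nat_lit 6) (Steps.bwd (nat_lit 1) (Steps.bwd (nat_lit 2) (Steps.fwd (nat_lit 262144) Steps.nil))))))))))))) (nat_lit 34) (nat_lit 11),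
  Rule.mk (nat_lit 6) (nat_lit 274) (Steps.bwd (nat_lit 1) (Steps.bwd (nat_lit 2) (Steps.bwd (nat_lit 1) (Steps.fwd (nat_lit 1572864) (Steps.fwd (nat_lit 262144) (Steps.bwd (nat_lit 2) (Steps.bwd (nat_lit 1) (Steps.fwd (nat_lit 1572864) (Steps.bwd (nat_lit 1) (Steps.fwd (nat_lit 1572864) (Steps.bwd (nat_lit 5) (Steps.fwd (nat_lit 786432) (Steps.fwd (nat_lit 262144) Steps.nil))))))))))))) (nat_lit 34) (nat_lit 3),
  Rule.mk (nat_lit 6) (nat_lit 154) (Steps.bwd (nat_lit 2) (Steps.bwd (nat_lit 5) (Steps.bwd (nat_lit 2) (Steps.fwd (nat_lit 1835008) (Steps.bwd (nat_lit 6) (Steps.fwd (nat_lit 786432) (Steps.bwd (nat_lit 5) Steps.nil))))))) (nat_lit 84) (nat_lit 0),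
  Rule.mk (nat_lit 1) (nat_lit 154) (Steps.bwd (nat_lit 6) (Steps.bwd (nat_lit 1) (Steps.bwd (nat_lit 4) (Steps.fwd (nat_lit 262144) (Steps.bwd (nat_lit 6) (Steps.bwd (nat_lit 1) (Steps.fwd (nat_lit 1048576) Steps.nil))))))) (nat_lit 74) (nat_lit 3),
  Rule.mk (nat_lit 3) (nat_lit 154) (Steps.bwd (nat_lit 1) (Steps.bwd (nat_lit 3) (Steps.fwd (nat_lit 1310720) (Steps.bwd (nat_lit 1) (Steps.bwd (nat_lit 3) (Steps.fwd (nat_lit 262144) (Steps.bwd (nat_lit 5) Steps.nil))))))) (nat_lit 71) (nat_lit 2),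
  Rule.mk (nat_lit 6) (nat_lit 274) (Steps.bwd (nat_lit 1) (Steps.bwd (nat_lit 3) (Steps.fwd (nat_lit 1310720) (Steps.fwd (nat_lit 1572864) (Steps.bwd (nat_lit 1) (Steps.bwd (nat_lit 6) (Steps.fwd (nat_lit 262144) (Steps.fwd (nat_lit 524288) (Steps.fwd (nat_lit 262144) (Steps.fwd (nat_lit 1572864) (Steps.bwd (nat_lit 1) (Steps.fwd (nat_lit 524288) (Steps.fwd (nat_lit 262144) Steps.nil))))))))))))) (nat_lit 35) (nat_lit 12),
  Rule.mk (nat_lit 6) (nat_lit 274) (Steps.bwd (nat_lit 1) (Steps.bwd (nat_lit 6) (Steps.bwd (nat_lit 5) (Steps.fwd (nat_lit 786432) (Steps.bwd (nat_lit 1) (Steps.bwd (nat_lit 6) (Steps.fwd (nat_lit 262144) (Steps.bwd (nat_lit 2) (Steps.fwd (nat_lit 262144) (Steps.bwd (nat_lit 6) (Steps.bwd (nat_lit 1) (Steps.bwd (nat_lit 2) (Steps.fwd (nat_lit 262144) Steps.nil))))))))))))) (nat_lit 34) (nat_lit 11),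
  Rule.mk (nat_lit 1) (nat_lit 274) (Steps.bwd (nat_lit 6) (Steps.bwd (nat_lit 5) (Steps.bwd (nat_lit 2) (Steps.fwd (nat_lit 262144) (Steps.bwd (nat_lit 6) (Steps.bwd (nat_lit 1) (Steps.fwd (nat_lit 786432) (Steps.fwd (nat_lit 262144) (Steps.fwd (nat_lit 1572864) (Steps.bwd (nat_lit 1) (Steps.fwd (nat_lit 786432) (Steps.fwd (nat_lit 262144) (Steps.bwd (nat_lit 6) Steps.nil))))))))))))) (nat_lit 34) (nat_lit 12),
  Rule.mk (nat_lit 6) (nat_lit 274) (Steps.bwd (nat_lit 1) (Steps.bwd (nat_lit 6) (Steps.bwd (nat_lit 5) (Steps.fwd (nat_lit 786432) (Steps.bwd (nat_lit 1) (Steps.fwd (nat_lit 1572864) (Steps.fwd (nat_lit 262144) (Steps.bwd (nat_lit 2) (Steps.fwd (nat_lit 262144) (Steps.bwd (nat_lit 6) (Steps.bwd (nat_lit 1) (Steps.bwd (nat_lit 2) (Steps.fwd (nat_lit 262144) Steps.nil))))))))))))) (nat_lit 34) (nat_lit 11),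
  Rule.mk (nat_lit 6) (nat_lit 154) (Steps.bwd (nat_lit 3) (Steps.bwd (nat_lit 5) (Steps.fwd (nat_lit 524288) (Steps.fwd (nat_lit 1835008) (Steps.bwd (nat_lit 6) (Steps.fwd (nat_lit 524288) (Steps.bwd (nat_lit 5) Steps.nil))))))) (nat_lit 83) (nat_lit 5),
  Rule.mk (nat_lit 1) (nat_lit 114) (Steps.bwd (nat_lit 4) (Steps.bwd (nat_lit 1) (Steps.bwd (nat_lit 4) (Steps.fwd (nat_lit 262144) (Steps.fwd (nat_lit 1048576) Steps.nil))))) (nat_lit 16) (nat_lit 1),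
  Rule.mk (nat_lit 3) (nat_lit 154) (Steps.bwd (nat_lit 1) (Steps.bwd (nat_lit 3) (Steps.fwd (nat_lit 1310720) (Steps.bwd (nat_lit 1) (Steps.bwd (nat_lit 3) (Steps.fwd (nat_lit 262144) (Steps.fwd (nat_lit 1310720) Steps.nil))))))) (nat_lit 71) (nat_lit 2),
  Rule.mk (nat_lit 6) (nat_lit 274) (Steps.bwd (nat_lit 1) (Steps.bwd (nat_lit 6) (Steps.bwd (nat_lit 5) (Steps.bwd (nat_lit 2) (Steps.bwd (nat_lit 1) (Steps.fwd (nat_lit 1572864) (Steps.fwd (nat_lit 262144) (Steps.bwd (nat_lit 2) (Steps.fwd (nat_lit 262144) (Steps.fwd (nat_lit 1572864) (Steps.bwd (nat_lit 1) (Steps.fwd (nat_lit 786432) (Steps.fwd (nat_lit 262144) Steps.nil))))))))))))) (nat_lit 34) (nat_lit 11),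
  Rule.mk (nat_lit 6) (nat_lit 274) (Steps.bwd (nat_lit 1) (Steps.bwd (nat_lit 6) (Steps.fwd (nat_lit 1310720) (Steps.bwd (nat_lit 2) (Steps.fwd (nat_lit 262144) (Steps.bwd (nat_lit 6) (Steps.bwd (nat_lit 1) (Steps.fwd (nat_lit 786432) (Steps.fwd (nat_lit 262144) (Steps.fwd (nat_lit 1572864) (Steps.bwd (nat_lit 1) (Steps.fwd (nat_lit 786432) (Steps.fwd (nat_lit 262144) Steps.nil))))))))))))) (nat_lit 34) (nat_lit 11),
  Rule.mk (nat_lit 6) (nat_lit 274) (Steps.bwd (nat_lit 1) (Steps.bwd (nat_lit 6) (Steps.bwd (nat_lit 5) (Steps.bwd (nat_lit 2) (Steps.bwd (nat_lit 1) (Steps.fwd (nat_lit 1572864) (Steps.bwd (nat_lit 1) (Steps.fwd (nat_lit 786432) (Steps.bwd (nat_lit 1) (Steps.fwd (nat_lit 1572864) (Steps.bwd (nat_lit 1) (Steps.bwd (nat_lit 2) (Steps.fwd (nat_lit 262144) Steps.nil))))))))))))) (nat_lit 34) (nat_lit 11),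
  Rule.mk (nat_lit 7) (nat_lit 114) (Steps.fwd (nat_lit 524288) (Steps.bwd (nat_lit 6) (Steps.fwd (nat_lit 1835008) (Steps.bwd (nat_lit 2) (Steps.bwd (nat_lit 6) Steps.nil))))) (nat_lit 62) (nat_lit 3),
  Rule.mk (nat_lit 6) (nat_lit 274) (Steps.bwd (nat_lit 1) (Steps.fwd (nat_lit 1572864) (Steps.fwd (nat_lit 1310720) (Steps.bwd (nat_lit 2) (Steps.bwd (nat_lit 1) (Steps.bwd (nat_lit 6) (Steps.fwd (nat_lit 262144) (Steps.fwd (nat_lit 786432) (Steps.fwd (nat_lit 262144) (Steps.fwd (nat_lit 1572864) (Steps.bwd (nat_lit 1) (Steps.bwd (nat_lit 2) (Steps.fwd (nat_lit 262144) Steps.nil))))))))))))) (nat_lit 34) (nat_lit 11),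
  Rule.mk (nat_lit 6) (nat_lit 274) (Steps.bwd (nat_lit 1) (Steps.fwd (nat_lit 1572864) (Steps.fwd (nat_lit 1310720) (Steps.bwd (nat_lit 2) (Steps.fwd (nat_lit 262144) (Steps.bwd (nat_lit 6) (Steps.fwd (nat_lit 262144) (Steps.fwd (nat_lit 786432) (Steps.fwd (nat_lit 262144) (Steps.fwd (nat_lit 1572864) (Steps.bwd (nat_lit 1) (Steps.fwd (nat_lit 786432) (Steps.fwd (nat_lit 262144) Steps.nil))))))))))))) (nat_lit 34) (nat_lit 11),
  Rule.mk (nat_lit 1) (nat_lit 274) (Steps.bwd (nat_lit 6) (Steps.bwd (nat_lit 1) (Steps.bwd (nat_lit 6) (Steps.fwd (nat_lit 1310720) (Steps.fwd (nat_lit 786432) (Steps.fwd (nat_lit 262144) (Steps.fwd (nat_lit 1572864) (Steps.bwd (nat_lit 1) (Steps.bwd (nat_lit 2) (Steps.bwd (nat_lit 1) (Steps.fwd (nat_lit 1572864) (Steps.fwd (nat_lit 262144) (Steps.bwd (nat_lit 2) Steps.nil))))))))))))) (nat_lit 34) (nat_lit 10),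
  Rule.mk (nat_lit 6) (nat_lit 274) (Steps.bwd (nat_lit 1) (Steps.fwd (nat_lit 1572864) (Steps.fwd (nat_lit 1310720) (Steps.bwd (nat_lit 2) (Steps.bwd (nat_lit 1) (Steps.bwd (nat_lit 6) (Steps.fwd (nat_lit 262144) (Steps.fwd (nat_lit 786432) (Steps.fwd (nat_lit 262144) (Steps.fwd (nat_lit 1572864) (Steps.bwd (nat_lit 1) (Steps.fwd (nat_lit 786432) (Steps.fwd (nat_lit 262144) Steps.nil))))))))))))) (nat_lit 34) (nat_lit 11)]
noncomputable def R_15 : List (Rule) := [Rule.mk (nat_lit 1) (nat_lit 274) (Steps.bwd (nat_lit 6) (Steps.bwd (nat_lit 5) (Steps.bwd (nat_lit 2) (Steps.bwd (nat_lit 1) (Steps.fwd (nat_lit 1572864) (Steps.bwd (nat_lit 1) (Steps.bwd (nat_lit 2) (Steps.bwd (nat_lit 1) (Steps.bwd (nat_lit 6) (Steps.fwd (nat_lit 262144) (Steps.fwd (nat_lit 786432) (Steps.fwd (nat_lit 262144) (Steps.bwd (nat_lit 6) Steps.nil))))))))))))) (nat_lit 34) (nat_lit 12),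
  Rule.mk (nat_lit 1) (nat_lit 114) (Steps.fwd (nat_lit 524288) (Steps.bwd (nat_lit 9) (Steps.bwd (nat_lit 1) (Steps.fwd (nat_lit 2359296) (Steps.bwd (nat_lit 2) Steps.nil))))) (nat_lit 104) (nat_lit 3),
  Rule.mk (nat_lit 1) (nat_lit 274) (Steps.bwd (nat_lit 6) (Steps.fwd (nat_lit 1310720) (Steps.bwd (nat_lit 2) (Steps.bwd (nat_lit 1) (Steps.fwd (nat_lit 1572864) (Steps.bwd (nat_lit 1) (Steps.bwd (nat_lit 2) (Steps.bwd (nat_lit 1) (Steps.bwd (nat_lit 6) (Steps.fwd (nat_lit 262144) (Steps.bwd (nat_lit 2) (Steps.bwd (nat_lit 1) (Steps.bwd (nat_lit 6) Steps.nil))))))))))))) (nat_lit 34) (nat_lit 12),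
  Rule.mk (nat_lit 1) (nat_lit 274) (Steps.bwd (nat_lit 6) (Steps.fwd (nat_lit 1310720) (Steps.bwd (nat_lit 2) (Steps.bwd (nat_lit 1) (Steps.fwd (nat_lit 1572864) (Steps.bwd (nat_lit 1) (Steps.bwd (nat_lit 2) (Steps.bwd (nat_lit 1) (Steps.bwd (nat_lit 6) (Steps.fwd (nat_lit 262144) (Steps.fwd (nat_lit 786432) (Steps.fwd (nat_lit 262144) (Steps.bwd (nat_lit 6) Steps.nil))))))))))))) (nat_lit 34) (nat_lit 12),
  Rule.mk (nat_lit 1) (nat_lit 274) (Steps.bwd (nat_lit 6) (Steps.bwd (nat_lit 5) (Steps.bwd (nat_lit 2) (Steps.bwd (nat_lit 1) (Steps.fwd (nat_lit 1572864) (Steps.fwd (nat_lit 262144) (Steps.fwd (nat_lit 786432) (Steps.bwd (nat_lit 1) (Steps.fwd (nat_lit 1572864) (Steps.fwd (nat_lit 262144) (Steps.fwd (nat_lit 786432) (Steps.fwd (nat_lit 262144) (Steps.bwd (nat_lit 6) Steps.nil))))))))))))) (nat_lit 34) (nat_lit 12),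
  Rule.mk (nat_lit 1) (nat_lit 114) (Steps.bwd (nat_lit 3) (Steps.bwd (nat_lit 9) (Steps.fwd (nat_lit 262144) (Steps.fwd (nat_lit 2359296) (Steps.bwd (nat_lit 2) Steps.nil))))) (nat_lit 104) (nat_lit 3),
  Rule.mk (nat_lit 1) (nat_lit 114) (Steps.bwd (nat_lit 5) (Steps.fwd (nat_lit 1835008) (Steps.bwd (nat_lit 1) (Steps.fwd (nat_lit 1310720) (Steps.bwd (nat_lit 7) Steps.nil))))) (nat_lit 52) (nat_lit 1),
  Rule.mk (nat_lit 1) (nat_lit 274) (Steps.bwd (nat_lit 6) (Steps.fwd (nat_lit 1310720) (Steps.fwd (nat_lit 786432) (Steps.fwd (nat_lit 262144) (Steps.fwd (nat_lit 1572864) (Steps.bwd (nat_lit 1) (Steps.bwd (nat_lit 2) (Steps.bwd (nat_lit 1) (Steps.fwd (nat_lit 1572864) (Steps.fwd (nat_lit 262144) (Steps.fwd (nat_lit 786432) (Steps.fwd (nat_lit 262144) (Steps.bwd (nat_lit 6) Steps.nil))))))))))))) (nat_lit 34) (nat_lit 12),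
  Rule.mk (nat_lit 1) (nat_lit 274) (Steps.bwd (nat_lit 6) (Steps.fwd (nat_lit 1310720) (Steps.bwd (nat_lit 2) (Steps.bwd (nat_lit 1) (Steps.fwd (nat_lit 1572864) (Steps.bwd (nat_lit 1) (Steps.bwd (nat_lit 2) (Steps.bwd (nat_lit 1) (Steps.fwd (nat_lit 1572864) (Steps.fwd (nat_lit 262144) (Steps.fwd (nat_lit 786432) (Steps.fwd (nat_lit 262144) (Steps.bwd (nat_lit 6) Steps.nil))))))))))))) (nat_lit 34) (nat_lit 12),
  Rule.mk (nat_lit 2) (nat_lit 114) (Steps.bwd (nat_lit 1) (Steps.fwd (nat_lit 786432) (Steps.fwd (nat_lit 262144) (Steps.bwd (nat_lit 2) (Steps.fwd (nat_lit 262144) Steps.nil))))) (nat_lit 12) (nat_lit 0),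
  Rule.mk (nat_lit 6) (nat_lit 274) (Steps.bwd (nat_lit 1) (Steps.fwd (nat_lit 1572864) (Steps.fwd (nat_lit 1310720) (Steps.bwd (nat_lit 2) (Steps.bwd (nat_lit 1) (Steps.fwd (nat_lit 1572864) (Steps.fwd (nat_lit 262144) (Steps.bwd (nat_lit 2) (Steps.bwd (nat_lit 1) (Steps.fwd (nat_lit 1572864) (Steps.bwd (nat_lit 1) (Steps.bwd (nat_lit 2) (Steps.fwd (nat_lit 262144) Steps.nil))))))))))))) (nat_lit 34) (nat_lit 11),
  Rule.mk (nat_lit 6) (nat_lit 274) (Steps.bwd (nat_lit 1) (Steps.fwd (nat_lit 1572864) (Steps.fwd (nat_lit 1310720) (Steps.bwd (nat_lit 2) (Steps.bwd (nat_lit 1) (Steps.fwd (nat_lit 1572864) (Steps.fwd (nat_lit 262144) (Steps.bwd (nat_lit 2) (Steps.bwd (nat_lit 1) (Steps.fwd (nat_lit 1572864) (Steps.bwd (nat_lit 1) (Steps.fwd (nat_lit 786432) (Steps.fwd (nat_lit 262144) Steps.nil))))))))))))) (nat_lit 34) (nat_lit 11),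
  Rule.mk (nat_lit 6) (nat_lit 274) (Steps.bwd (nat_lit 1) (Steps.fwd (nat_lit 1572864) (Steps.bwd (nat_lit 5) (Steps.bwd (nat_lit 2) (Steps.bwd (nat_lit 1) (Steps.fwd (nat_lit 1572864) (Steps.fwd (nat_lit 262144) (Steps.bwd (nat_lit 2) (Steps.bwd (nat_lit 1) (Steps.fwd (nat_lit 1572864) (Steps.bwd (nat_lit 1) (Steps.fwd (nat_lit 786432) (Steps.fwd (nat_lit 262144) Steps.nil))))))))))))) (nat_lit 34) (nat_lit 11),
  Rule.mk (nat_lit 1) (nat_lit 274) (Steps.bwd (nat_lit 6) (Steps.bwd (nat_lit 5) (Steps.bwd (nat_lit 2) (Steps.bwd (nat_lit 1) (Steps.fwd (nat_lit 1572864) (Steps.bwd (nat_lit 1) (Steps.fwd (nat_lit 786432) (Steps.fwd (nat_lit 262144) (Steps.bwd (nat_lit 6) (Steps.bwd (nat_lit 1) (Steps.bwd (nat_lit 2) (Steps.fwd (nat_lit 262144) (Steps.bwd (nat_lit 6) Steps.nil))))))))))))) (nat_lit 34) (nat_lit 12),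
  Rule.mk (nat_lit 1) (nat_lit 274) (Steps.bwd (nat_lit 6) (Steps.fwd (nat_lit 1310720) (Steps.bwd (nat_lit 2) (Steps.bwd (nat_lit 1) (Steps.fwd (nat_lit 1572864) (Steps.bwd (nat_lit 1) (Steps.bwd (nat_lit 2) (Steps.fwd (nat_lit 262144) (Steps.bwd (nat_lit 6) (Steps.bwd (nat_lit 1) (Steps.bwd (nat_lit 2) (Steps.fwd (nat_lit 262144) (Steps.bwd (nat_lit 6) Steps.nil))))))))))))) (nat_lit 34) (nat_lit 12),
  Rule.mk (nat_lit 1) (nat_lit 274) (Steps.bwd (nat_lit 6) (Steps.fwd (nat_lit 1310720) (Steps.bwd (nat_lit 2) (Steps.bwd (nat_lit 1) (Steps.fwd (nat_lit 1572864) (Steps.bwd (nat_lit 1) (Steps.fwd (nat_lit 786432) (Steps.fwd (nat_lit 262144) (Steps.bwd (nat_lit 6) (Steps.bwd (nat_lit 1) (Steps.bwd (nat_lit 2) (Steps.fwd (nat_lit 262144) (Steps.bwd (nat_lit 6) Steps.nil))))))))))))) (nat_lit 34) (nat_lit 12),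
  Rule.mk (nat_lit 1) (nat_lit 274) (Steps.bwd (nat_lit 6) (Steps.bwd (nat_lit 5) (Steps.bwd (nat_lit 2) (Steps.bwd (nat_lit 1) (Steps.fwd (nat_lit 1572864) (Steps.bwd (nat_lit 1) (Steps.fwd (nat_lit 786432) (Steps.fwd (nat_lit 262144) (Steps.bwd (nat_lit 6) (Steps.fwd (nat_lit 262144) (Steps.bwd (nat_lit 2) (Steps.fwd (nat_lit 262144) (Steps.bwd (nat_lit 6) Steps.nil))))))))))))) (nat_lit 34) (nat_lit 12),
  Rule.mk (nat_lit 6) (nat_lit 274) (Steps.bwd (nat_lit 1) (Steps.bwd (nat_lit 6) (Steps.bwd (nat_lit 5) (Steps.bwd (nat_lit 2) (Steps.bwd (nat_lit 1) (Steps.bwd (nat_lit 6) (Steps.fwd (nat_lit 262144) (Steps.bwd (nat_lit 2) (Steps.bwd (nat_lit 1) (Steps.fwd (nat_lit 1572864) (Steps.bwd (nat_lit 1) (Steps.fwd (nat_lit 786432) (Steps.fwd (nat_lit 262144) Steps.nil))))))))))))) (nat_lit 34) (nat_lit 11),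
  Rule.mk (nat_lit 3) (nat_lit 114) (Steps.bwd (nat_lit 1) (Steps.bwd (nat_lit 3) (Steps.fwd (nat_lit 262144) (Steps.fwd (nat_lit 524288) (Steps.fwd (nat_lit 262144) Steps.nil))))) (nat_lit 13) (nat_lit 1),
  Rule.mk (nat_lit 3) (nat_lit 114) (Steps.bwd (nat_lit 1) (Steps.bwd (nat_lit 3) (Steps.bwd (nat_lit 1) (Steps.fwd (nat_lit 524288) (Steps.fwd (nat_lit 262144) Steps.nil))))) (nat_lit 13) (nat_lit 1),
  Rule.mk (nat_lit 1) (nat_lit 114) (Steps.bwd (nat_lit 8) (Steps.bwd (nat_lit 2) (Steps.bwd (nat_lit 1) (Steps.fwd (nat_lit 524288) (Steps.fwd (nat_lit 2097152) Steps.nil))))) (nat_lit 104) (nat_lit 0),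
  Rule.mk (nat_lit 1) (nat_lit 114) (Steps.fwd (nat_lit 2359296) (Steps.bwd (nat_lit 2) (Steps.bwd (nat_lit 1) (Steps.fwd (nat_lit 524288) (Steps.bwd (nat_lit 9) Steps.nil))))) (nat_lit 104) (nat_lit 0),
  Rule.mk (nat_lit 1) (nat_lit 74) (Steps.fwd (nat_lit 1835008) (Steps.bwd (nat_lit 1) (Steps.bwd (nat_lit 7) Steps.nil))) (nat_lit 26) (nat_lit 0),
  Rule.mk (nat_lit 1) (nat_lit 114) (Steps.bwd (nat_lit 5) (Steps.fwd (nat_lit 1835008) (Steps.bwd (nat_lit 1) (Steps.bwd (nat_lit 5) (Steps.fwd (nat_lit 1835008) Steps.nil))))) (nat_lit 52) (nat_lit 1),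
  Rule.mk (nat_lit 2) (nat_lit 114) (Steps.bwd (nat_lit 1) (Steps.fwd (nat_lit 786432) (Steps.bwd (nat_lit 1) (Steps.fwd (nat_lit 786432) (Steps.fwd (nat_lit 262144) Steps.nil))))) (nat_lit 12) (nat_lit 0),
  Rule.mk (nat_lit 1) (nat_lit 114) (Steps.bwd (nat_lit 8) (Steps.fwd (nat_lit 786432) (Steps.bwd (nat_lit 1) (Steps.fwd (nat_lit 524288) (Steps.fwd (nat_lit 2097152) Steps.nil))))) (nat_lit 104) (nat_lit 0),
  Rule.mk (nat_lit 1) (nat_lit 154) (Steps.bwd (nat_lit 6) (Steps.bwd (nat_lit 1) (Steps.bwd (nat_lit 4) (Steps.fwd (nat_lit 262144) (Steps.fwd (nat_lit 1572864) (Steps.bwd (nat_lit 1) (Steps.fwd (nat_lit 1048576) Steps.nil))))))) (nat_lit 74) (nat_lit 3),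
  Rule.mk (nat_lit 6) (nat_lit 154) (Steps.bwd (nat_lit 1) (Steps.bwd (nat_lit 4) (Steps.bwd (nat_lit 1) (Steps.bwd (nat_lit 6) (Steps.fwd (nat_lit 262144) (Steps.fwd (nat_lit 1048576) (Steps.fwd (nat_lit 262144) Steps.nil))))))) (nat_lit 74) (nat_lit 0),
  Rule.mk (nat_lit 1) (nat_lit 154) (Steps.bwd (nat_lit 6) (Steps.bwd (nat_lit 1) (Steps.bwd (nat_lit 4) (Steps.fwd (nat_lit 262144) (Steps.fwd (nat_lit 1572864) (Steps.fwd (nat_lit 262144) (Steps.fwd (nat_lit 1048576) Steps.nil))))))) (nat_lit 74) (nat_lit 3),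
  Rule.mk (nat_lit 8) (nat_lit 114) (Steps.bwd (nat_lit 2) (Steps.fwd (nat_lit 262144) (Steps.bwd (nat_lit 3) (Steps.fwd (nat_lit 2097152) (Steps.bwd (nat_lit 1) Steps.nil))))) (nat_lit 104) (nat_lit 1),
  Rule.mk (nat_lit 1) (nat_lit 154) (Steps.bwd (nat_lit 6) (Steps.bwd (nat_lit 1) (Steps.bwd (nat_lit 4) (Steps.fwd (nat_lit 262144) (Steps.bwd (nat_lit 6) (Steps.fwd (nat_lit 262144) (Steps.fwd (nat_lit 1048576) Steps.nil))))))) (nat_lit 74) (nat_lit 3),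
  Rule.mk (nat_lit 1) (nat_lit 154) (Steps.bwd (nat_lit 3) (Steps.bwd (nat_lit 1) (Steps.bwd (nat_lit 7) (Steps.bwd (nat_lit 3) (Steps.fwd (nat_lit 262144) (Steps.bwd (nat_lit 3) (Steps.bwd (nat_lit 7) Steps.nil))))))) (nat_lit 73) (nat_lit 6),
  Rule.mk (nat_lit 1) (nat_lit 114) (Steps.fwd (nat_lit 524288) (Steps.bwd (nat_lit 1) (Steps.bwd (nat_lit 3) (Steps.fwd (nat_lit 262144) (Steps.bwd (nat_lit 3) Steps.nil))))) (nat_lit 13) (nat_lit 0),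
  Rule.mk (nat_lit 8) (nat_lit 94) (Steps.fwd (nat_lit 1310720) (Steps.bwd (nat_lit 9) (Steps.bwd (nat_lit 5) (Steps.bwd (nat_lit 7) Steps.nil)))) (nat_lit 100) (nat_lit 1),
  Rule.mk (nat_lit 1) (nat_lit 114) (Steps.fwd (nat_lit 524288) (Steps.bwd (nat_lit 9) (Steps.fwd (nat_lit 262144) (Steps.fwd (nat_lit 2359296) (Steps.bwd (nat_lit 2) Steps.nil))))) (nat_lit 104) (nat_lit 3),
  Rule.mk (nat_lit 3) (nat_lit 114) (Steps.bwd (nat_lit 1) (Steps.fwd (nat_lit 524288) (Steps.fwd (nat_lit 262144) (Steps.fwd (nat_lit 524288) (Steps.fwd (nat_lit 262144) Steps.nil))))) (nat_lit 13) (nat_lit 1),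
  Rule.mk (nat_lit 1) (nat_lit 114) (Steps.fwd (nat_lit 524288) (Steps.bwd (nat_lit 9) (Steps.bwd (nat_lit 1) (Steps.bwd (nat_lit 8) (Steps.bwd (nat_lit 2) Steps.nil))))) (nat_lit 104) (nat_lit 3),
  Rule.mk (nat_lit 8) (nat_lit 74) (Steps.fwd (nat_lit 1835008) (Steps.bwd (nat_lit 9) (Steps.fwd (nat_lit 1310720) Steps.nil))) (nat_lit 98) (nat_lit 1),
  Rule.mk (nat_lit 1) (nat_lit 114) (Steps.bwd (nat_lit 3) (Steps.bwd (nat_lit 9) (Steps.bwd (nat_lit 1) (Steps.fwd (nat_lit 2359296) (Steps.bwd (nat_lit 2) Steps.nil))))) (nat_lit 104) (nat_lit 3),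
  Rule.mk (nat_lit 1) (nat_lit 114) (Steps.fwd (nat_lit 524288) (Steps.fwd (nat_lit 262144) (Steps.fwd (nat_lit 524288) (Steps.fwd (nat_lit 262144) (Steps.bwd (nat_lit 3) Steps.nil))))) (nat_lit 13) (nat_lit 0),
  Rule.mk (nat_lit 1) (nat_lit 154) (Steps.bwd (nat_lit 5) (Steps.fwd (nat_lit 786432) (Steps.bwd (nat_lit 1) (Steps.fwd (nat_lit 786432) (Steps.fwd (nat_lit 1310720) (Steps.fwd (nat_lit 262144) (Steps.bwd (nat_lit 2) Steps.nil))))))) (nat_lit 70) (nat_lit 3),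
  Rule.mk (nat_lit 1) (nat_lit 114) (Steps.fwd (nat_lit 2359296) (Steps.fwd (nat_lit 786432) (Steps.bwd (nat_lit 1) (Steps.bwd (nat_lit 3) (Steps.bwd (nat_lit 9) Steps.nil))))) (nat_lit 104) (nat_lit 0),
  Rule.mk (nat_lit 3) (nat_lit 114) (Steps.bwd (nat_lit 1) (Steps.bwd (nat_lit 3) (Steps.fwd (nat_lit 262144) (Steps.bwd (nat_lit 3) (Steps.bwd (nat_lit 1) Steps.nil))))) (nat_lit 13) (nat_lit 1),
  Rule.mk (nat_lit 1) (nat_lit 114) (Steps.fwd (nat_lit 2359296) (Steps.fwd (nat_lit 786432) (Steps.bwd (nat_lit 1) (Steps.fwd (nat_lit 524288) (Steps.bwd (nat_lit 9) Steps.nil))))) (nat_lit 104) (nat_lit 0),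
  Rule.mk (nat_lit 1) (nat_lit 114) (Steps.bwd (nat_lit 5) (Steps.fwd (nat_lit 1835008) (Steps.fwd (nat_lit 262144) (Steps.fwd (nat_lit 1310720) (Steps.bwd (nat_lit 7) Steps.nil))))) (nat_lit 52) (nat_lit 1),
  Rule.mk (nat_lit 1) (nat_lit 114) (Steps.bwd (nat_lit 8) (Steps.bwd (nat_lit 2) (Steps.bwd (nat_lit 1) (Steps.bwd (nat_lit 3) (Steps.fwd (nat_lit 2097152) Steps.nil))))) (nat_lit 104) (nat_lit 0),
  Rule.mk (nat_lit 1) (nat_lit 114) (Steps.fwd (nat_lit 2359296) (Steps.bwd (nat_lit 2) (Steps.fwd (nat_lit 262144) (Steps.bwd (nat_lit 3) (Steps.bwd (nat_lit 9) Steps.nil))))) (nat_lit 104) (nat_lit 0),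
  Rule.mk (nat_lit 6) (nat_lit 154) (Steps.bwd (nat_lit 1) (Steps.bwd (nat_lit 4) (Steps.bwd (nat_lit 1) (Steps.bwd (nat_lit 6) (Steps.fwd (nat_lit 262144) (Steps.fwd (nat_lit 1048576) (Steps.bwd (nat_lit 1) Steps.nil))))))) (nat_lit 74) (nat_lit 0),
  Rule.mk (nat_lit 1) (nat_lit 114) (Steps.bwd (nat_lit 2) (Steps.bwd (nat_lit 1) (Steps.bwd (nat_lit 2) (Steps.bwd (nat_lit 1) (Steps.bwd (nat_lit 2) Steps.nil))))) (nat_lit 12) (nat_lit 1),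
  Rule.mk (nat_lit 6) (nat_lit 154) (Steps.bwd (nat_lit 1) (Steps.bwd (nat_lit 4) (Steps.bwd (nat_lit 1) (Steps.fwd (nat_lit 1572864) (Steps.fwd (nat_lit 262144) (Steps.fwd (nat_lit 1048576) (Steps.bwd (nat_lit 1) Steps.nil))))))) (nat_lit 74) (nat_lit 0),
  Rule.mk (nat_lit 3) (nat_lit 114) (Steps.bwd (nat_lit 1) (Steps.bwd (nat_lit 3) (Steps.bwd (nat_lit 1) (Steps.fwd (nat_lit 524288) (Steps.bwd (nat_lit 1) Steps.nil))))) (nat_lit 13) (nat_lit 1),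
  Rule.mk (nat_lit 1) (nat_lit 154) (Steps.bwd (nat_lit 2) (Steps.bwd (nat_lit 1) (Steps.bwd (nat_lit 5) (Steps.fwd (nat_lit 786432) (Steps.fwd (nat_lit 262144) (Steps.bwd (nat_lit 2) (Steps.fwd (nat_lit 1310720) Steps.nil))))))) (nat_lit 70) (nat_lit 1),
  Rule.mk (nat_lit 1) (nat_lit 154) (Steps.fwd (nat_lit 1835008) (Steps.bwd (nat_lit 2) (Steps.bwd (nat_lit 1) (Steps.fwd (nat_lit 786432) (Steps.bwd (nat_lit 7) (Steps.bwd (nat_lit 1) (Steps.bwd (nat_lit 2) Steps.nil))))))) (nat_lit 72) (nat_lit 3),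
  Rule.mk (nat_lit 1) (nat_lit 114) (Steps.fwd (nat_lit 524288) (Steps.bwd (nat_lit 1) (Steps.bwd (nat_lit 3) (Steps.fwd (nat_lit 262144) (Steps.fwd (nat_lit 524288) Steps.nil))))) (nat_lit 13) (nat_lit 0),
  Rule.mk (nat_lit 4) (nat_lit 114) (Steps.bwd (nat_lit 1) (Steps.bwd (nat_lit 4) (Steps.bwd (nat_lit 1) (Steps.fwd (nat_lit 1048576) (Steps.bwd (nat_lit 1) Steps.nil))))) (nat_lit 16) (nat_lit 0),
  Rule.mk (nat_lit 1) (nat_lit 154) (Steps.bwd (nat_lit 2) (Steps.bwd (nat_lit 1) (Steps.bwd (nat_lit 5) (Steps.fwd (nat_lit 786432) (Steps.bwd (nat_lit 1) (Steps.bwd (nat_lit 2) (Steps.fwd (nat_lit 1310720) Steps.nil))))))) (nat_lit 70) (nat_lit 1),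
  Rule.mk (nat_lit 3) (nat_lit 154) (Steps.bwd (nat_lit 1) (Steps.fwd (nat_lit 1310720) (Steps.fwd (nat_lit 524288) (Steps.fwd (nat_lit 262144) (Steps.fwd (nat_lit 524288) (Steps.fwd (nat_lit 1310720) (Steps.bwd (nat_lit 1) Steps.nil))))))) (nat_lit 71) (nat_lit 7),
  Rule.mk (nat_lit 3) (nat_lit 154) (Steps.bwd (nat_lit 1) (Steps.bwd (nat_lit 3) (Steps.bwd (nat_lit 7) (Steps.fwd (nat_lit 262144) (Steps.fwd (nat_lit 524288) (Steps.bwd (nat_lit 1) (Steps.fwd (nat_lit 1835008) Steps.nil))))))) (nat_lit 73) (nat_lit 2),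
  Rule.mk (nat_lit 9) (nat_lit 74) (Steps.fwd (nat_lit 1310720) (Steps.fwd (nat_lit 2359296) (Steps.bwd (nat_lit 7) Steps.nil))) (nat_lit 98) (nat_lit 3),
  Rule.mk (nat_lit 1) (nat_lit 154) (Steps.fwd (nat_lit 524288) (Steps.bwd (nat_lit 1) (Steps.fwd (nat_lit 1310720) (Steps.bwd (nat_lit 3) (Steps.fwd (nat_lit 262144) (Steps.bwd (nat_lit 3) (Steps.bwd (nat_lit 5) Steps.nil))))))) (nat_lit 71) (nat_lit 6),
  Rule.mk (nat_lit 1) (nat_lit 154) (Steps.fwd (nat_lit 524288) (Steps.bwd (nat_lit 1) (Steps.fwd (nat_lit 1310720) (Steps.bwd (nat_lit 3) (Steps.fwd (nat_lit 262144) (Steps.fwd (nat_lit 524288) (Steps.bwd (nat_lit 5) Steps.nil))))))) (nat_lit 71) (nat_lit 6),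
  Rule.mk (nat_lit 1) (nat_lit 114) (Steps.fwd (nat_lit 2359296) (Steps.bwd (nat_lit 2) (Steps.fwd (nat_lit 262144) (Steps.fwd (nat_lit 524288) (Steps.bwd (nat_lit 9) Steps.nil))))) (nat_lit 104) (nat_lit 0),
  Rule.mk (nat_lit 3) (nat_lit 154) (Steps.bwd (nat_lit 1) (Steps.fwd (nat_lit 524288) (Steps.fwd (nat_lit 1835008) (Steps.fwd (nat_lit 262144) (Steps.fwd (nat_lit 524288) (Steps.bwd (nat_lit 1) (Steps.bwd (nat_lit 7) Steps.nil))))))) (nat_lit 73) (nat_lit 2),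
  Rule.mk (nat_lit 1) (nat_lit 154) (Steps.bwd (nat_lit 2) (Steps.bwd (nat_lit 1) (Steps.fwd (nat_lit 524288) (Steps.fwd (nat_lit 262144) (Steps.bwd (nat_lit 2) (Steps.bwd (nat_lit 1) (Steps.bwd (nat_lit 3) Steps.nil))))))) (nat_lit 68) (nat_lit 1)]
noncomputable def R_16 : List (Rule) := [Rule.mk (nat_lit 1) (nat_lit 154) (Steps.bwd (nat_lit 2) (Steps.bwd (nat_lit 1) (Steps.fwd (nat_lit 524288) (Steps.bwd (nat_lit 1) (Steps.bwd (nat_lit 2) (Steps.bwd (nat_lit 1) (Steps.bwd (nat_lit 3) Steps.nil))))))) (nat_lit 68) (nat_lit 1),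
  Rule.mk (nat_lit 2) (nat_lit 114) (Steps.bwd (nat_lit 1) (Steps.fwd (nat_lit 524288) (Steps.bwd (nat_lit 9) (Steps.fwd (nat_lit 262144) (Steps.bwd (nat_lit 8) Steps.nil))))) (nat_lit 104) (nat_lit 2),
  Rule.mk (nat_lit 1) (nat_lit 154) (Steps.fwd (nat_lit 1835008) (Steps.bwd (nat_lit 2) (Steps.bwd (nat_lit 1) (Steps.fwd (nat_lit 786432) (Steps.bwd (nat_lit 7) (Steps.fwd (nat_lit 262144) (Steps.bwd (nat_lit 2) Steps.nil))))))) (nat_lit 72) (nat_lit 3),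
  Rule.mk (nat_lit 1) (nat_lit 154) (Steps.fwd (nat_lit 1310720) (Steps.bwd (nat_lit 2) (Steps.bwd (nat_lit 1) (Steps.fwd (nat_lit 786432) (Steps.bwd (nat_lit 5) (Steps.fwd (nat_lit 262144) (Steps.bwd (nat_lit 2) Steps.nil))))))) (nat_lit 70) (nat_lit 3),
  Rule.mk (nat_lit 1) (nat_lit 114) (Steps.bwd (nat_lit 8) (Steps.bwd (nat_lit 2) (Steps.fwd (nat_lit 262144) (Steps.bwd (nat_lit 3) (Steps.fwd (nat_lit 2097152) Steps.nil))))) (nat_lit 104) (nat_lit 0),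
  Rule.mk (nat_lit 3) (nat_lit 154) (Steps.bwd (nat_lit 1) (Steps.fwd (nat_lit 524288) (Steps.fwd (nat_lit 1835008) (Steps.fwd (nat_lit 262144) (Steps.fwd (nat_lit 524288) (Steps.fwd (nat_lit 262144) (Steps.bwd (nat_lit 7) Steps.nil))))))) (nat_lit 73) (nat_lit 2),
  Rule.mk (nat_lit 4) (nat_lit 114) (Steps.bwd (nat_lit 1) (Steps.bwd (nat_lit 4) (Steps.fwd (nat_lit 262144) (Steps.fwd (nat_lit 1048576) (Steps.bwd (nat_lit 1) Steps.nil))))) (nat_lit 16) (nat_lit 0),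
  Rule.mk (nat_lit 1) (nat_lit 114) (Steps.fwd (nat_lit 524288) (Steps.bwd (nat_lit 9) (Steps.bwd (nat_lit 1) (Steps.bwd (nat_lit 8) (Steps.fwd (nat_lit 786432) Steps.nil))))) (nat_lit 104) (nat_lit 3),
  Rule.mk (nat_lit 1) (nat_lit 114) (Steps.fwd (nat_lit 524288) (Steps.bwd (nat_lit 1) (Steps.bwd (nat_lit 3) (Steps.bwd (nat_lit 1) (Steps.fwd (nat_lit 524288) Steps.nil))))) (nat_lit 13) (nat_lit 0),
  Rule.mk (nat_lit 0) (nat_lit 174) (Steps.bwd (nat_lit 1) (Steps.fwd (nat_lit 524288) (Steps.bwd (nat_lit 1) (Steps.fwd (nat_lit 1310720) (Steps.bwd (nat_lit 3) (Steps.bwd (nat_lit 1) (Steps.fwd (nat_lit 524288) (Steps.fwd (nat_lit 1310720) Steps.nil)))))))) (nat_lit 71) (nat_lit 5),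
  Rule.mk (nat_lit 1) (nat_lit 54) (Steps.bwd (nat_lit 0) (Steps.bwd (nat_lit 1) Steps.nil)) (nat_lit 108) (nat_lit 0),
  Rule.mk (nat_lit 4) (nat_lit 54) (Steps.bwd (nat_lit 0) (Steps.fwd (nat_lit 1048576) Steps.nil)) (nat_lit 108) (nat_lit 0),
  Rule.mk (nat_lit 0) (nat_lit 74) (Steps.bwd (nat_lit 6) (Steps.fwd (nat_lit 0) (Steps.fwd (nat_lit 1572864) Steps.nil))) (nat_lit 108) (nat_lit 0),
  Rule.mk (nat_lit 0) (nat_lit 74) (Steps.fwd (nat_lit 1835008) (Steps.fwd (nat_lit 0) (Steps.bwd (nat_lit 7) Steps.nil))) (nat_lit 108) (nat_lit 0),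
  Rule.mk (nat_lit 0) (nat_lit 74) (Steps.fwd (nat_lit 1835008) (Steps.bwd (nat_lit 0) (Steps.fwd (nat_lit 1835008) Steps.nil))) (nat_lit 108) (nat_lit 0),
  Rule.mk (nat_lit 3) (nat_lit 54) (Steps.bwd (nat_lit 0) (Steps.bwd (nat_lit 2) Steps.nil)) (nat_lit 108) (nat_lit 0),
  Rule.mk (nat_lit 5) (nat_lit 54) (Steps.bwd (nat_lit 0) (Steps.fwd (nat_lit 1310720) Steps.nil)) (nat_lit 108) (nat_lit 0),
  Rule.mk (nat_lit 6) (nat_lit 54) (Steps.bwd (nat_lit 0) (Steps.fwd (nat_lit 1572864) Steps.nil)) (nat_lit 108) (nat_lit 0),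
  Rule.mk (nat_lit 7) (nat_lit 54) (Steps.bwd (nat_lit 0) (Steps.fwd (nat_lit 1835008) Steps.nil)) (nat_lit 108) (nat_lit 0),
  Rule.mk (nat_lit 8) (nat_lit 54) (Steps.bwd (nat_lit 0) (Steps.bwd (nat_lit 9) Steps.nil)) (nat_lit 108) (nat_lit 0),
  Rule.mk (nat_lit 9) (nat_lit 54) (Steps.bwd (nat_lit 0) (Steps.bwd (nat_lit 8) Steps.nil)) (nat_lit 108) (nat_lit 0),
  Rule.mk (nat_lit 1) (nat_lit 154) (Steps.fwd (nat_lit 524288) (Steps.bwd (nat_lit 1) (Steps.fwd (nat_lit 1835008) (Steps.bwd (nat_lit 3) (Steps.bwd (nat_lit 1) (Steps.fwd (nat_lit 524288) (Steps.fwd (nat_lit 1835008) Steps.nil))))))) (nat_lit 73) (nat_lit 6),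
  Rule.mk (nat_lit 0) (nat_lit 134) (Steps.bwd (nat_lit 8) (Steps.bwd (nat_lit 2) (Steps.fwd (nat_lit 262144) (Steps.fwd (nat_lit 524288) (Steps.bwd (nat_lit 9) (Steps.fwd (nat_lit 262144) Steps.nil)))))) (nat_lit 104) (nat_lit 0),
  Rule.mk (nat_lit 2) (nat_lit 54) (Steps.bwd (nat_lit 0) (Steps.fwd (nat_lit 524288) Steps.nil)) (nat_lit 108) (nat_lit 0),
  Rule.mk (nat_lit 0) (nat_lit 74) (Steps.fwd (nat_lit 1835008) (Steps.fwd (nat_lit 0) (Steps.fwd (nat_lit 1835008) Steps.nil))) (nat_lit 108) (nat_lit 0),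
  Rule.mk (nat_lit 5) (nat_lit 54) (Steps.bwd (nat_lit 0) (Steps.bwd (nat_lit 5) Steps.nil)) (nat_lit 108) (nat_lit 0),
  Rule.mk (nat_lit 9) (nat_lit 54) (Steps.bwd (nat_lit 0) (Steps.fwd (nat_lit 2359296) Steps.nil)) (nat_lit 108) (nat_lit 0),
  Rule.mk (nat_lit 1) (nat_lit 154) (Steps.bwd (nat_lit 6) (Steps.bwd (nat_lit 1) (Steps.bwd (nat_lit 4) (Steps.bwd (nat_lit 1) (Steps.bwd (nat_lit 6) (Steps.bwd (nat_lit 1) (Steps.fwd (nat_lit 1048576) Steps.nil))))))) (nat_lit 74) (nat_lit 3),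
  Rule.mk (nat_lit 4) (nat_lit 154) (Steps.fwd (nat_lit 1835008) (Steps.bwd (nat_lit 1) (Steps.bwd (nat_lit 4) (Steps.bwd (nat_lit 1) (Steps.bwd (nat_lit 7) (Steps.fwd (nat_lit 1048576) (Steps.fwd (nat_lit 262144) Steps.nil))))))) (nat_lit 76) (nat_lit 7),
  Rule.mk (nat_lit 1) (nat_lit 154) (Steps.fwd (nat_lit 524288) (Steps.bwd (nat_lit 5) (Steps.fwd (nat_lit 262144) (Steps.fwd (nat_lit 524288) (Steps.bwd (nat_lit 1) (Steps.bwd (nat_lit 5) (Steps.fwd (nat_lit 524288) Steps.nil))))))) (nat_lit 71) (nat_lit 3),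
  Rule.mk (nat_lit 1) (nat_lit 154) (Steps.fwd (nat_lit 1572864) (Steps.bwd (nat_lit 1) (Steps.bwd (nat_lit 4) (Steps.bwd (nat_lit 1) (Steps.fwd (nat_lit 1572864) (Steps.fwd (nat_lit 262144) (Steps.fwd (nat_lit 1048576) Steps.nil))))))) (nat_lit 74) (nat_lit 3),
  Rule.mk (nat_lit 4) (nat_lit 154) (Steps.bwd (nat_lit 7) (Steps.bwd (nat_lit 1) (Steps.bwd (nat_lit 4) (Steps.bwd (nat_lit 1) (Steps.bwd (nat_lit 7) (Steps.fwd (nat_lit 1048576) (Steps.fwd (nat_lit 262144) Steps.nil))))))) (nat_lit 76) (nat_lit 7),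
  Rule.mk (nat_lit 4) (nat_lit 114) (Steps.bwd (nat_lit 3) (Steps.bwd (nat_lit 6) (Steps.bwd (nat_lit 4) (Steps.fwd (nat_lit 524288) (Steps.fwd (nat_lit 1310720) Steps.nil))))) (nat_lit 55) (nat_lit 5),
  Rule.mk (nat_lit 4) (nat_lit 114) (Steps.bwd (nat_lit 5) (Steps.bwd (nat_lit 7) (Steps.bwd (nat_lit 4) (Steps.fwd (nat_lit 1572864) (Steps.bwd (nat_lit 7) Steps.nil))))) (nat_lit 66) (nat_lit 1),
  Rule.mk (nat_lit 4) (nat_lit 154) (Steps.bwd (nat_lit 7) (Steps.bwd (nat_lit 2) (Steps.bwd (nat_lit 6) (Steps.bwd (nat_lit 4) (Steps.bwd (nat_lit 7) (Steps.bwd (nat_lit 2) (Steps.fwd (nat_lit 1310720) Steps.nil))))))) (nat_lit 86) (nat_lit 3),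
  Rule.mk (nat_lit 1) (nat_lit 154) (Steps.bwd (nat_lit 7) (Steps.bwd (nat_lit 4) (Steps.bwd (nat_lit 1) (Steps.bwd (nat_lit 4) (Steps.bwd (nat_lit 7) (Steps.fwd (nat_lit 262144) (Steps.fwd (nat_lit 1048576) Steps.nil))))))) (nat_lit 76) (nat_lit 3),
  Rule.mk (nat_lit 0) (nat_lit 134) (Steps.bwd (nat_lit 1) (Steps.fwd (nat_lit 2359296) (Steps.bwd (nat_lit 2) (Steps.fwd (nat_lit 262144) (Steps.fwd (nat_lit 524288) (Steps.fwd (nat_lit 2097152) Steps.nil)))))) (nat_lit 104) (nat_lit 5),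
  Rule.mk (nat_lit 0) (nat_lit 74) (Steps.bwd (nat_lit 6) (Steps.fwd (nat_lit 0) (Steps.bwd (nat_lit 6) Steps.nil))) (nat_lit 108) (nat_lit 0),
  Rule.mk (nat_lit 4) (nat_lit 114) (Steps.fwd (nat_lit 1310720) (Steps.bwd (nat_lit 2) (Steps.bwd (nat_lit 4) (Steps.bwd (nat_lit 6) (Steps.bwd (nat_lit 2) Steps.nil))))) (nat_lit 54) (nat_lit 2),
  Rule.mk (nat_lit 4) (nat_lit 114) (Steps.bwd (nat_lit 7) (Steps.bwd (nat_lit 3) (Steps.bwd (nat_lit 4) (Steps.bwd (nat_lit 7) (Steps.bwd (nat_lit 3) Steps.nil))))) (nat_lit 65) (nat_lit 1),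
  Rule.mk (nat_lit 4) (nat_lit 114) (Steps.fwd (nat_lit 1572864) (Steps.bwd (nat_lit 7) (Steps.bwd (nat_lit 4) (Steps.fwd (nat_lit 1310720) (Steps.fwd (nat_lit 1835008) Steps.nil))))) (nat_lit 66) (nat_lit 4),
  Rule.mk (nat_lit 4) (nat_lit 154) (Steps.bwd (nat_lit 7) (Steps.fwd (nat_lit 1310720) (Steps.bwd (nat_lit 3) (Steps.bwd (nat_lit 4) (Steps.bwd (nat_lit 7) (Steps.fwd (nat_lit 1572864) (Steps.bwd (nat_lit 3) Steps.nil))))))) (nat_lit 89) (nat_lit 5),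
  Rule.mk (nat_lit 4) (nat_lit 114) (Steps.bwd (nat_lit 3) (Steps.bwd (nat_lit 5) (Steps.bwd (nat_lit 4) (Steps.bwd (nat_lit 3) (Steps.bwd (nat_lit 6) Steps.nil))))) (nat_lit 55) (nat_lit 2),
  Rule.mk (nat_lit 4) (nat_lit 154) (Steps.bwd (nat_lit 7) (Steps.bwd (nat_lit 3) (Steps.bwd (nat_lit 5) (Steps.bwd (nat_lit 4) (Steps.bwd (nat_lit 7) (Steps.bwd (nat_lit 3) (Steps.bwd (nat_lit 6) Steps.nil))))))) (nat_lit 91) (nat_lit 2),
  Rule.mk (nat_lit 1) (nat_lit 154) (Steps.bwd (nat_lit 4) (Steps.bwd (nat_lit 1) (Steps.bwd (nat_lit 7) (Steps.fwd (nat_lit 1048576) (Steps.fwd (nat_lit 262144) (Steps.bwd (nat_lit 4) (Steps.bwd (nat_lit 7) Steps.nil))))))) (nat_lit 76) (nat_lit 1),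
  Rule.mk (nat_lit 1) (nat_lit 114) (Steps.fwd (nat_lit 2359296) (Steps.fwd (nat_lit 786432) (Steps.bwd (nat_lit 1) (Steps.fwd (nat_lit 524288) (Steps.fwd (nat_lit 2097152) Steps.nil))))) (nat_lit 104) (nat_lit 0),
  Rule.mk (nat_lit 1) (nat_lit 154) (Steps.bwd (nat_lit 6) (Steps.bwd (nat_lit 1) (Steps.bwd (nat_lit 4) (Steps.bwd (nat_lit 1) (Steps.fwd (nat_lit 1572864) (Steps.fwd (nat_lit 262144) (Steps.fwd (nat_lit 1048576) Steps.nil))))))) (nat_lit 74) (nat_lit 3),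
  Rule.mk (nat_lit 1) (nat_lit 274) (Steps.fwd (nat_lit 524288) (Steps.fwd (nat_lit 262144) (Steps.bwd (nat_lit 6) (Steps.bwd (nat_lit 1) (Steps.bwd (nat_lit 3) (Steps.bwd (nat_lit 1) (Steps.bwd (nat_lit 6) (Steps.bwd (nat_lit 1) (Steps.fwd (nat_lit 524288) (Steps.bwd (nat_lit 5) (Steps.bwd (nat_lit 6) (Steps.fwd (nat_lit 262144) (Steps.fwd (nat_lit 1572864) Steps.nil))))))))))))) (nat_lit 35) (nat_lit 5),
  Rule.mk (nat_lit 0) (nat_lit 174) (Steps.bwd (nat_lit 1) (Steps.bwd (nat_lit 2) (Steps.fwd (nat_lit 262144) (Steps.bwd (nat_lit 5) (Steps.fwd (nat_lit 786432) (Steps.bwd (nat_lit 1) (Steps.fwd (nat_lit 786432) (Steps.fwd (nat_lit 1310720) Steps.nil)))))))) (nat_lit 70) (nat_lit 0),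
  Rule.mk (nat_lit 0) (nat_lit 74) (Steps.fwd (nat_lit 1572864) (Steps.fwd (nat_lit 0) (Steps.fwd (nat_lit 1572864) Steps.nil))) (nat_lit 108) (nat_lit 0),
  Rule.mk (nat_lit 1) (nat_lit 154) (Steps.bwd (nat_lit 3) (Steps.fwd (nat_lit 262144) (Steps.bwd (nat_lit 5) (Steps.fwd (nat_lit 524288) (Steps.bwd (nat_lit 1) (Steps.fwd (nat_lit 524288) (Steps.bwd (nat_lit 5) Steps.nil))))))) (nat_lit 71) (nat_lit 6),
  Rule.mk (nat_lit 4) (nat_lit 154) (Steps.bwd (nat_lit 7) (Steps.bwd (nat_lit 1) (Steps.bwd (nat_lit 4) (Steps.fwd (nat_lit 262144) (Steps.bwd (nat_lit 7) (Steps.fwd (nat_lit 1048576) (Steps.fwd (nat_lit 262144) Steps.nil))))))) (nat_lit 76) (nat_lit 7),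
  Rule.mk (nat_lit 4) (nat_lit 114) (Steps.bwd (nat_lit 3) (Steps.bwd (nat_lit 6) (Steps.bwd (nat_lit 4) (Steps.fwd (nat_lit 524288) (Steps.bwd (nat_lit 5) Steps.nil))))) (nat_lit 55) (nat_lit 5),
  Rule.mk (nat_lit 4) (nat_lit 114) (Steps.fwd (nat_lit 262144) (Steps.bwd (nat_lit 4) (Steps.fwd (nat_lit 262144) (Steps.fwd (nat_lit 1048576) (Steps.bwd (nat_lit 1) Steps.nil))))) (nat_lit 16) (nat_lit 0),
  Rule.mk (nat_lit 0) (nat_lit 134) (Steps.bwd (nat_lit 1) (Steps.fwd (nat_lit 2359296) (Steps.fwd (nat_lit 786432) (Steps.fwd (nat_lit 262144) (Steps.fwd (nat_lit 524288) (Steps.fwd (nat_lit 2097152) Steps.nil)))))) (nat_lit 104) (nat_lit 5),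
  Rule.mk (nat_lit 1) (nat_lit 154) (Steps.bwd (nat_lit 4) (Steps.fwd (nat_lit 262144) (Steps.bwd (nat_lit 6) (Steps.fwd (nat_lit 262144) (Steps.fwd (nat_lit 1048576) (Steps.bwd (nat_lit 1) (Steps.fwd (nat_lit 1572864) Steps.nil))))))) (nat_lit 74) (nat_lit 1),
  Rule.mk (nat_lit 4) (nat_lit 154) (Steps.fwd (nat_lit 262144) (Steps.bwd (nat_lit 4) (Steps.fwd (nat_lit 1835008) (Steps.fwd (nat_lit 262144) (Steps.fwd (nat_lit 1048576) (Steps.bwd (nat_lit 1) (Steps.fwd (nat_lit 1835008) Steps.nil))))))) (nat_lit 76) (nat_lit 5),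
  Rule.mk (nat_lit 4) (nat_lit 114) (Steps.bwd (nat_lit 6) (Steps.fwd (nat_lit 1835008) (Steps.bwd (nat_lit 4) (Steps.fwd (nat_lit 1310720) (Steps.fwd (nat_lit 1835008) Steps.nil))))) (nat_lit 66) (nat_lit 4),
  Rule.mk (nat_lit 4) (nat_lit 114) (Steps.bwd (nat_lit 3) (Steps.bwd (nat_lit 6) (Steps.bwd (nat_lit 4) (Steps.bwd (nat_lit 3) (Steps.fwd (nat_lit 1310720) Steps.nil))))) (nat_lit 55) (nat_lit 5),
  Rule.mk (nat_lit 1) (nat_lit 154) (Steps.bwd (nat_lit 4) (Steps.fwd (nat_lit 262144) (Steps.fwd (nat_lit 1835008) (Steps.fwd (nat_lit 1048576) (Steps.fwd (nat_lit 262144) (Steps.bwd (nat_lit 4) (Steps.fwd (nat_lit 1835008) Steps.nil))))))) (nat_lit 76) (nat_lit 1),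
  Rule.mk (nat_lit 4) (nat_lit 154) (Steps.bwd (nat_lit 7) (Steps.bwd (nat_lit 2) (Steps.bwd (nat_lit 6) (Steps.bwd (nat_lit 4) (Steps.fwd (nat_lit 1835008) (Steps.bwd (nat_lit 2) (Steps.fwd (nat_lit 1310720) Steps.nil))))))) (nat_lit 86) (nat_lit 3),
  Rule.mk (nat_lit 1) (nat_lit 154) (Steps.fwd (nat_lit 524288) (Steps.bwd (nat_lit 5) (Steps.bwd (nat_lit 1) (Steps.fwd (nat_lit 524288) (Steps.bwd (nat_lit 1) (Steps.fwd (nat_lit 1310720) (Steps.bwd (nat_lit 3) Steps.nil))))))) (nat_lit 71) (nat_lit 3),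
  Rule.mk (nat_lit 1) (nat_lit 154) (Steps.bwd (nat_lit 7) (Steps.bwd (nat_lit 3) (Steps.bwd (nat_lit 1) (Steps.fwd (nat_lit 524288) (Steps.bwd (nat_lit 7) (Steps.fwd (nat_lit 262144) (Steps.bwd (nat_lit 3) Steps.nil))))))) (nat_lit 73) (nat_lit 0),
  Rule.mk (nat_lit 4) (nat_lit 114) (Steps.bwd (nat_lit 6) (Steps.bwd (nat_lit 7) (Steps.bwd (nat_lit 4) (Steps.fwd (nat_lit 1310720) (Steps.fwd (nat_lit 1835008) Steps.nil))))) (nat_lit 66) (nat_lit 4)]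
noncomputable def R_17 : List (Rule) := [Rule.mk (nat_lit 4) (nat_lit 114) (Steps.bwd (nat_lit 3) (Steps.fwd (nat_lit 1310720) (Steps.bwd (nat_lit 4) (Steps.bwd (nat_lit 3) (Steps.bwd (nat_lit 6) Steps.nil))))) (nat_lit 55) (nat_lit 2),
  Rule.mk (nat_lit 4) (nat_lit 154) (Steps.bwd (nat_lit 7) (Steps.bwd (nat_lit 3) (Steps.fwd (nat_lit 1310720) (Steps.bwd (nat_lit 4) (Steps.bwd (nat_lit 7) (Steps.bwd (nat_lit 3) (Steps.bwd (nat_lit 6) Steps.nil))))))) (nat_lit 91) (nat_lit 2),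
  Rule.mk (nat_lit 1) (nat_lit 154) (Steps.bwd (nat_lit 4) (Steps.fwd (nat_lit 262144) (Steps.fwd (nat_lit 1835008) (Steps.fwd (nat_lit 1048576) (Steps.fwd (nat_lit 262144) (Steps.bwd (nat_lit 4) (Steps.bwd (nat_lit 7) Steps.nil))))))) (nat_lit 76) (nat_lit 1),
  Rule.mk (nat_lit 1) (nat_lit 114) (Steps.fwd (nat_lit 786432) (Steps.fwd (nat_lit 262144) (Steps.fwd (nat_lit 786432) (Steps.bwd (nat_lit 1) (Steps.bwd (nat_lit 2) Steps.nil))))) (nat_lit 12) (nat_lit 1),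
  Rule.mk (nat_lit 1) (nat_lit 154) (Steps.bwd (nat_lit 2) (Steps.fwd (nat_lit 1310720) (Steps.bwd (nat_lit 1) (Steps.fwd (nat_lit 786432) (Steps.fwd (nat_lit 262144) (Steps.fwd (nat_lit 1310720) (Steps.bwd (nat_lit 2) Steps.nil))))))) (nat_lit 70) (nat_lit 6),
  Rule.mk (nat_lit 1) (nat_lit 154) (Steps.bwd (nat_lit 4) (Steps.bwd (nat_lit 1) (Steps.bwd (nat_lit 6) (Steps.bwd (nat_lit 1) (Steps.fwd (nat_lit 1048576) (Steps.bwd (nat_lit 1) (Steps.bwd (nat_lit 6) Steps.nil))))))) (nat_lit 74) (nat_lit 1),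
  Rule.mk (nat_lit 4) (nat_lit 154) (Steps.bwd (nat_lit 1) (Steps.bwd (nat_lit 4) (Steps.bwd (nat_lit 7) (Steps.bwd (nat_lit 1) (Steps.fwd (nat_lit 1048576) (Steps.bwd (nat_lit 1) (Steps.bwd (nat_lit 7) Steps.nil))))))) (nat_lit 76) (nat_lit 5),
  Rule.mk (nat_lit 4) (nat_lit 114) (Steps.fwd (nat_lit 1310720) (Steps.fwd (nat_lit 786432) (Steps.bwd (nat_lit 4) (Steps.fwd (nat_lit 1572864) (Steps.fwd (nat_lit 786432) Steps.nil))))) (nat_lit 54) (nat_lit 2),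
  Rule.mk (nat_lit 4) (nat_lit 154) (Steps.bwd (nat_lit 5) (Steps.fwd (nat_lit 524288) (Steps.bwd (nat_lit 7) (Steps.bwd (nat_lit 4) (Steps.fwd (nat_lit 1572864) (Steps.fwd (nat_lit 524288) (Steps.bwd (nat_lit 7) Steps.nil))))))) (nat_lit 87) (nat_lit 6),
  Rule.mk (nat_lit 1) (nat_lit 154) (Steps.bwd (nat_lit 4) (Steps.bwd (nat_lit 1) (Steps.fwd (nat_lit 1835008) (Steps.fwd (nat_lit 1048576) (Steps.fwd (nat_lit 262144) (Steps.bwd (nat_lit 4) (Steps.bwd (nat_lit 7) Steps.nil))))))) (nat_lit 76) (nat_lit 1),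
  Rule.mk (nat_lit 1) (nat_lit 154) (Steps.fwd (nat_lit 524288) (Steps.fwd (nat_lit 1310720) (Steps.bwd (nat_lit 1) (Steps.fwd (nat_lit 524288) (Steps.fwd (nat_lit 262144) (Steps.fwd (nat_lit 1310720) (Steps.fwd (nat_lit 524288) Steps.nil))))))) (nat_lit 71) (nat_lit 3),
  Rule.mk (nat_lit 1) (nat_lit 154) (Steps.fwd (nat_lit 524288) (Steps.bwd (nat_lit 5) (Steps.fwd (nat_lit 262144) (Steps.bwd (nat_lit 3) (Steps.bwd (nat_lit 1) (Steps.bwd (nat_lit 5) (Steps.fwd (nat_lit 524288) Steps.nil))))))) (nat_lit 71) (nat_lit 3),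
  Rule.mk (nat_lit 1) (nat_lit 154) (Steps.fwd (nat_lit 524288) (Steps.fwd (nat_lit 262144) (Steps.fwd (nat_lit 1835008) (Steps.fwd (nat_lit 524288) (Steps.bwd (nat_lit 1) (Steps.bwd (nat_lit 3) (Steps.bwd (nat_lit 7) Steps.nil))))))) (nat_lit 73) (nat_lit 6),
  Rule.mk (nat_lit 1) (nat_lit 114) (Steps.fwd (nat_lit 524288) (Steps.fwd (nat_lit 262144) (Steps.fwd (nat_lit 524288) (Steps.bwd (nat_lit 1) (Steps.bwd (nat_lit 3) Steps.nil))))) (nat_lit 13) (nat_lit 0),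
  Rule.mk (nat_lit 1) (nat_lit 114) (Steps.fwd (nat_lit 524288) (Steps.bwd (nat_lit 1) (Steps.fwd (nat_lit 524288) (Steps.bwd (nat_lit 1) (Steps.bwd (nat_lit 3) Steps.nil))))) (nat_lit 13) (nat_lit 0),
  Rule.mk (nat_lit 1) (nat_lit 114) (Steps.fwd (nat_lit 786432) (Steps.fwd (nat_lit 262144) (Steps.bwd (nat_lit 2) (Steps.bwd (nat_lit 1) (Steps.bwd (nat_lit 2) Steps.nil))))) (nat_lit 12) (nat_lit 1),
  Rule.mk (nat_lit 1) (nat_lit 154) (Steps.fwd (nat_lit 524288) (Steps.bwd (nat_lit 1) (Steps.fwd (nat_lit 1310720) (Steps.fwd (nat_lit 524288) (Steps.bwd (nat_lit 1) (Steps.bwd (nat_lit 3) (Steps.bwd (nat_lit 5) Steps.nil))))))) (nat_lit 71) (nat_lit 6),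
  Rule.mk (nat_lit 1) (nat_lit 154) (Steps.fwd (nat_lit 786432) (Steps.bwd (nat_lit 1) (Steps.fwd (nat_lit 1835008) (Steps.fwd (nat_lit 786432) (Steps.bwd (nat_lit 1) (Steps.bwd (nat_lit 2) (Steps.bwd (nat_lit 7) Steps.nil))))))) (nat_lit 72) (nat_lit 1),
  Rule.mk (nat_lit 1) (nat_lit 274) (Steps.bwd (nat_lit 2) (Steps.fwd (nat_lit 262144) (Steps.fwd (nat_lit 1572864) (Steps.bwd (nat_lit 1) (Steps.fwd (nat_lit 1572864) (Steps.bwd (nat_lit 5) (Steps.bwd (nat_lit 2) (Steps.fwd (nat_lit 262144) (Steps.bwd (nat_lit 6) (Steps.fwd (nat_lit 262144) (Steps.bwd (nat_lit 2) (Steps.fwd (nat_lit 262144) (Steps.bwd (nat_lit 6) Steps.nil))))))))))))) (nat_lit 34) (nat_lit 8),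
  Rule.mk (nat_lit 1) (nat_lit 274) (Steps.bwd (nat_lit 6) (Steps.fwd (nat_lit 262144) (Steps.fwd (nat_lit 786432) (Steps.bwd (nat_lit 1) (Steps.fwd (nat_lit 1572864) (Steps.bwd (nat_lit 1) (Steps.fwd (nat_lit 786432) (Steps.fwd (nat_lit 262144) (Steps.fwd (nat_lit 1572864) (Steps.fwd (nat_lit 262144) (Steps.fwd (nat_lit 1572864) (Steps.fwd (nat_lit 1310720) (Steps.bwd (nat_lit 2) Steps.nil))))))))))))) (nat_lit 34) (nat_lit 2),
  Rule.mk (nat_lit 1) (nat_lit 274) (Steps.bwd (nat_lit 6) (Steps.bwd (nat_lit 1) (Steps.fwd (nat_lit 786432) (Steps.bwd (nat_lit 1) (Steps.fwd (nat_lit 1572864) (Steps.fwd (nat_lit 262144) (Steps.bwd (nat_lit 2) (Steps.bwd (nat_lit 1) (Steps.bwd (nat_lit 6) (Steps.bwd (nat_lit 1) (Steps.bwd (nat_lit 6) (Steps.fwd (nat_lit 1310720) (Steps.bwd (nat_lit 2) Steps.nil))))))))))))) (nat_lit 34) (nat_lit 2),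
  Rule.mk (nat_lit 1) (nat_lit 154) (Steps.fwd (nat_lit 524288) (Steps.fwd (nat_lit 262144) (Steps.bwd (nat_lit 5) (Steps.fwd (nat_lit 524288) (Steps.bwd (nat_lit 1) (Steps.bwd (nat_lit 3) (Steps.bwd (nat_lit 5) Steps.nil))))))) (nat_lit 71) (nat_lit 6),
  Rule.mk (nat_lit 1) (nat_lit 154) (Steps.bwd (nat_lit 3) (Steps.bwd (nat_lit 1) (Steps.bwd (nat_lit 5) (Steps.fwd (nat_lit 524288) (Steps.bwd (nat_lit 1) (Steps.bwd (nat_lit 3) (Steps.bwd (nat_lit 5) Steps.nil))))))) (nat_lit 71) (nat_lit 6),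
  Rule.mk (nat_lit 1) (nat_lit 154) (Steps.fwd (nat_lit 524288) (Steps.bwd (nat_lit 1) (Steps.bwd (nat_lit 7) (Steps.fwd (nat_lit 524288) (Steps.bwd (nat_lit 1) (Steps.bwd (nat_lit 3) (Steps.bwd (nat_lit 7) Steps.nil))))))) (nat_lit 73) (nat_lit 6),
  Rule.mk (nat_lit 1) (nat_lit 154) (Steps.fwd (nat_lit 786432) (Steps.bwd (nat_lit 1) (Steps.bwd (nat_lit 7) (Steps.fwd (nat_lit 786432) (Steps.bwd (nat_lit 1) (Steps.bwd (nat_lit 2) (Steps.bwd (nat_lit 7) Steps.nil))))))) (nat_lit 72) (nat_lit 1),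
  Rule.mk (nat_lit 1) (nat_lit 154) (Steps.bwd (nat_lit 6) (Steps.fwd (nat_lit 262144) (Steps.bwd (nat_lit 4) (Steps.fwd (nat_lit 262144) (Steps.fwd (nat_lit 1572864) (Steps.bwd (nat_lit 1) (Steps.bwd (nat_lit 4) Steps.nil))))))) (nat_lit 74) (nat_lit 3),
  Rule.mk (nat_lit 1) (nat_lit 114) (Steps.bwd (nat_lit 8) (Steps.fwd (nat_lit 786432) (Steps.bwd (nat_lit 1) (Steps.bwd (nat_lit 3) (Steps.bwd (nat_lit 9) Steps.nil))))) (nat_lit 104) (nat_lit 0),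
  Rule.mk (nat_lit 0) (nat_lit 134) (Steps.bwd (nat_lit 1) (Steps.fwd (nat_lit 786432) (Steps.bwd (nat_lit 1) (Steps.bwd (nat_lit 2) (Steps.bwd (nat_lit 1) (Steps.fwd (nat_lit 786432) Steps.nil)))))) (nat_lit 12) (nat_lit 0),
  Rule.mk (nat_lit 0) (nat_lit 74) (Steps.bwd (nat_lit 7) (Steps.fwd (nat_lit 0) (Steps.fwd (nat_lit 1835008) Steps.nil))) (nat_lit 108) (nat_lit 0),
  Rule.mk (nat_lit 1) (nat_lit 154) (Steps.fwd (nat_lit 786432) (Steps.bwd (nat_lit 1) (Steps.bwd (nat_lit 5) (Steps.bwd (nat_lit 2) (Steps.bwd (nat_lit 1) (Steps.fwd (nat_lit 786432) (Steps.bwd (nat_lit 5) Steps.nil))))))) (nat_lit 70) (nat_lit 1),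
  Rule.mk (nat_lit 4) (nat_lit 114) (Steps.bwd (nat_lit 2) (Steps.bwd (nat_lit 6) (Steps.bwd (nat_lit 4) (Steps.bwd (nat_lit 2) (Steps.bwd (nat_lit 5) Steps.nil))))) (nat_lit 58) (nat_lit 3),
  Rule.mk (nat_lit 4) (nat_lit 114) (Steps.bwd (nat_lit 5) (Steps.bwd (nat_lit 7) (Steps.bwd (nat_lit 4) (Steps.bwd (nat_lit 6) (Steps.bwd (nat_lit 7) Steps.nil))))) (nat_lit 66) (nat_lit 1),
  Rule.mk (nat_lit 4) (nat_lit 154) (Steps.fwd (nat_lit 1835008) (Steps.bwd (nat_lit 3) (Steps.bwd (nat_lit 6) (Steps.bwd (nat_lit 4) (Steps.bwd (nat_lit 7) (Steps.bwd (nat_lit 3) (Steps.fwd (nat_lit 1310720) Steps.nil))))))) (nat_lit 91) (nat_lit 6),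
  Rule.mk (nat_lit 0) (nat_lit 74) (Steps.bwd (nat_lit 7) (Steps.fwd (nat_lit 0) (Steps.bwd (nat_lit 7) Steps.nil))) (nat_lit 108) (nat_lit 0),
  Rule.mk (nat_lit 4) (nat_lit 114) (Steps.fwd (nat_lit 1572864) (Steps.bwd (nat_lit 7) (Steps.bwd (nat_lit 4) (Steps.fwd (nat_lit 1310720) (Steps.bwd (nat_lit 7) Steps.nil))))) (nat_lit 66) (nat_lit 4),
  Rule.mk (nat_lit 4) (nat_lit 154) (Steps.fwd (nat_lit 1835008) (Steps.fwd (nat_lit 1310720) (Steps.bwd (nat_lit 3) (Steps.bwd (nat_lit 4) (Steps.fwd (nat_lit 1835008) (Steps.fwd (nat_lit 1572864) (Steps.fwd (nat_lit 524288) Steps.nil))))))) (nat_lit 89) (nat_lit 5),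
  Rule.mk (nat_lit 4) (nat_lit 154) (Steps.fwd (nat_lit 1835008) (Steps.bwd (nat_lit 3) (Steps.fwd (nat_lit 1310720) (Steps.bwd (nat_lit 4) (Steps.fwd (nat_lit 1835008) (Steps.bwd (nat_lit 3) (Steps.bwd (nat_lit 6) Steps.nil))))))) (nat_lit 91) (nat_lit 2),
  Rule.mk (nat_lit 0) (nat_lit 134) (Steps.bwd (nat_lit 8) (Steps.bwd (nat_lit 2) (Steps.bwd (nat_lit 1) (Steps.fwd (nat_lit 524288) (Steps.bwd (nat_lit 9) (Steps.fwd (nat_lit 262144) Steps.nil)))))) (nat_lit 104) (nat_lit 0),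
  Rule.mk (nat_lit 0) (nat_lit 74) (Steps.fwd (nat_lit 1572864) (Steps.bwd (nat_lit 0) (Steps.fwd (nat_lit 1572864) Steps.nil))) (nat_lit 108) (nat_lit 0),
  Rule.mk (nat_lit 1) (nat_lit 154) (Steps.bwd (nat_lit 2) (Steps.fwd (nat_lit 1310720) (Steps.bwd (nat_lit 1) (Steps.bwd (nat_lit 2) (Steps.fwd (nat_lit 262144) (Steps.fwd (nat_lit 1310720) (Steps.bwd (nat_lit 2) Steps.nil))))))) (nat_lit 70) (nat_lit 6),
  Rule.mk (nat_lit 4) (nat_lit 154) (Steps.bwd (nat_lit 1) (Steps.bwd (nat_lit 4) (Steps.bwd (nat_lit 7) (Steps.fwd (nat_lit 262144) (Steps.fwd (nat_lit 1048576) (Steps.bwd (nat_lit 1) (Steps.fwd (nat_lit 1835008) Steps.nil))))))) (nat_lit 76) (nat_lit 5),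
  Rule.mk (nat_lit 4) (nat_lit 114) (Steps.fwd (nat_lit 1310720) (Steps.bwd (nat_lit 2) (Steps.bwd (nat_lit 4) (Steps.fwd (nat_lit 1572864) (Steps.fwd (nat_lit 786432) Steps.nil))))) (nat_lit 54) (nat_lit 2),
  Rule.mk (nat_lit 4) (nat_lit 154) (Steps.bwd (nat_lit 5) (Steps.fwd (nat_lit 524288) (Steps.fwd (nat_lit 1835008) (Steps.bwd (nat_lit 4) (Steps.fwd (nat_lit 1572864) (Steps.fwd (nat_lit 524288) (Steps.bwd (nat_lit 7) Steps.nil))))))) (nat_lit 87) (nat_lit 6),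
  Rule.mk (nat_lit 1) (nat_lit 154) (Steps.bwd (nat_lit 4) (Steps.bwd (nat_lit 1) (Steps.bwd (nat_lit 7) (Steps.fwd (nat_lit 1048576) (Steps.fwd (nat_lit 262144) (Steps.bwd (nat_lit 4) (Steps.fwd (nat_lit 1835008) Steps.nil))))))) (nat_lit 76) (nat_lit 1),
  Rule.mk (nat_lit 0) (nat_lit 134) (Steps.bwd (nat_lit 1) (Steps.bwd (nat_lit 3) (Steps.fwd (nat_lit 262144) (Steps.bwd (nat_lit 3) (Steps.fwd (nat_lit 262144) (Steps.fwd (nat_lit 524288) Steps.nil)))))) (nat_lit 13) (nat_lit 1),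
  Rule.mk (nat_lit 0) (nat_lit 134) (Steps.bwd (nat_lit 8) (Steps.bwd (nat_lit 2) (Steps.fwd (nat_lit 262144) (Steps.bwd (nat_lit 3) (Steps.bwd (nat_lit 9) (Steps.fwd (nat_lit 262144) Steps.nil)))))) (nat_lit 104) (nat_lit 0),
  Rule.mk (nat_lit 0) (nat_lit 74) (Steps.bwd (nat_lit 7) (Steps.bwd (nat_lit 0) (Steps.fwd (nat_lit 1835008) Steps.nil))) (nat_lit 108) (nat_lit 0),
  Rule.mk (nat_lit 1) (nat_lit 154) (Steps.bwd (nat_lit 2) (Steps.bwd (nat_lit 5) (Steps.bwd (nat_lit 1) (Steps.fwd (nat_lit 786432) (Steps.bwd (nat_lit 1) (Steps.fwd (nat_lit 1310720) (Steps.bwd (nat_lit 2) Steps.nil))))))) (nat_lit 70) (nat_lit 6),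
  Rule.mk (nat_lit 4) (nat_lit 154) (Steps.bwd (nat_lit 1) (Steps.bwd (nat_lit 4) (Steps.fwd (nat_lit 1835008) (Steps.bwd (nat_lit 1) (Steps.fwd (nat_lit 1048576) (Steps.bwd (nat_lit 1) (Steps.bwd (nat_lit 7) Steps.nil))))))) (nat_lit 76) (nat_lit 5),
  Rule.mk (nat_lit 4) (nat_lit 114) (Steps.bwd (nat_lit 5) (Steps.fwd (nat_lit 786432) (Steps.bwd (nat_lit 4) (Steps.fwd (nat_lit 1572864) (Steps.fwd (nat_lit 786432) Steps.nil))))) (nat_lit 54) (nat_lit 2),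
  Rule.mk (nat_lit 4) (nat_lit 114) (Steps.bwd (nat_lit 6) (Steps.bwd (nat_lit 7) (Steps.bwd (nat_lit 4) (Steps.bwd (nat_lit 5) (Steps.bwd (nat_lit 7) Steps.nil))))) (nat_lit 66) (nat_lit 4),
  Rule.mk (nat_lit 4) (nat_lit 154) (Steps.fwd (nat_lit 1310720) (Steps.fwd (nat_lit 524288) (Steps.bwd (nat_lit 7) (Steps.bwd (nat_lit 4) (Steps.fwd (nat_lit 1572864) (Steps.fwd (nat_lit 524288) (Steps.fwd (nat_lit 1835008) Steps.nil))))))) (nat_lit 87) (nat_lit 6),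
  Rule.mk (nat_lit 1) (nat_lit 154) (Steps.bwd (nat_lit 5) (Steps.fwd (nat_lit 786432) (Steps.bwd (nat_lit 1) (Steps.fwd (nat_lit 786432) (Steps.bwd (nat_lit 5) (Steps.fwd (nat_lit 262144) (Steps.bwd (nat_lit 2) Steps.nil))))))) (nat_lit 70) (nat_lit 3),
  Rule.mk (nat_lit 1) (nat_lit 154) (Steps.bwd (nat_lit 4) (Steps.bwd (nat_lit 1) (Steps.bwd (nat_lit 6) (Steps.fwd (nat_lit 262144) (Steps.fwd (nat_lit 1048576) (Steps.bwd (nat_lit 1) (Steps.fwd (nat_lit 1572864) Steps.nil))))))) (nat_lit 74) (nat_lit 1),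
  Rule.mk (nat_lit 4) (nat_lit 154) (Steps.bwd (nat_lit 1) (Steps.bwd (nat_lit 4) (Steps.fwd (nat_lit 1835008) (Steps.fwd (nat_lit 262144) (Steps.fwd (nat_lit 1048576) (Steps.bwd (nat_lit 1) (Steps.bwd (nat_lit 7) Steps.nil))))))) (nat_lit 76) (nat_lit 5),
  Rule.mk (nat_lit 4) (nat_lit 154) (Steps.fwd (nat_lit 1310720) (Steps.bwd (nat_lit 3) (Steps.bwd (nat_lit 7) (Steps.bwd (nat_lit 4) (Steps.fwd (nat_lit 1572864) (Steps.fwd (nat_lit 524288) (Steps.fwd (nat_lit 1835008) Steps.nil))))))) (nat_lit 87) (nat_lit 6),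
  Rule.mk (nat_lit 1) (nat_lit 114) (Steps.fwd (nat_lit 524288) (Steps.fwd (nat_lit 262144) (Steps.bwd (nat_lit 3) (Steps.fwd (nat_lit 262144) (Steps.fwd (nat_lit 524288) Steps.nil))))) (nat_lit 13) (nat_lit 0),
  Rule.mk (nat_lit 1) (nat_lit 154) (Steps.fwd (nat_lit 524288) (Steps.bwd (nat_lit 5) (Steps.fwd (nat_lit 262144) (Steps.fwd (nat_lit 524288) (Steps.bwd (nat_lit 1) (Steps.fwd (nat_lit 1310720) (Steps.fwd (nat_lit 524288) Steps.nil))))))) (nat_lit 71) (nat_lit 3),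
  Rule.mk (nat_lit 1) (nat_lit 154) (Steps.fwd (nat_lit 1572864) (Steps.bwd (nat_lit 1) (Steps.bwd (nat_lit 4) (Steps.fwd (nat_lit 262144) (Steps.bwd (nat_lit 6) (Steps.fwd (nat_lit 262144) (Steps.fwd (nat_lit 1048576) Steps.nil))))))) (nat_lit 74) (nat_lit 3),
  Rule.mk (nat_lit 4) (nat_lit 154) (Steps.fwd (nat_lit 1835008) (Steps.bwd (nat_lit 1) (Steps.bwd (nat_lit 4) (Steps.fwd (nat_lit 262144) (Steps.fwd (nat_lit 1835008) (Steps.fwd (nat_lit 1048576) (Steps.fwd (nat_lit 262144) Steps.nil))))))) (nat_lit 76) (nat_lit 7),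
  Rule.mk (nat_lit 4) (nat_lit 114) (Steps.fwd (nat_lit 1310720) (Steps.fwd (nat_lit 1835008) (Steps.bwd (nat_lit 4) (Steps.bwd (nat_lit 6) (Steps.fwd (nat_lit 1835008) Steps.nil))))) (nat_lit 66) (nat_lit 1),
  Rule.mk (nat_lit 4) (nat_lit 154) (Steps.fwd (nat_lit 1835008) (Steps.bwd (nat_lit 2) (Steps.bwd (nat_lit 6) (Steps.bwd (nat_lit 4) (Steps.fwd (nat_lit 1835008) (Steps.bwd (nat_lit 2) (Steps.bwd (nat_lit 5) Steps.nil))))))) (nat_lit 86) (nat_lit 3),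
  Rule.mk (nat_lit 1) (nat_lit 154) (Steps.fwd (nat_lit 1835008) (Steps.bwd (nat_lit 4) (Steps.fwd (nat_lit 262144) (Steps.bwd (nat_lit 4) (Steps.bwd (nat_lit 7) (Steps.fwd (nat_lit 262144) (Steps.fwd (nat_lit 1048576) Steps.nil))))))) (nat_lit 76) (nat_lit 3),
  Rule.mk (nat_lit 1) (nat_lit 154) (Steps.bwd (nat_lit 4) (Steps.bwd (nat_lit 1) (Steps.bwd (nat_lit 6) (Steps.bwd (nat_lit 1) (Steps.fwd (nat_lit 1048576) (Steps.fwd (nat_lit 262144) (Steps.bwd (nat_lit 6) Steps.nil))))))) (nat_lit 74) (nat_lit 1)]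
noncomputable def R_18 : List (Rule) := [Rule.mk (nat_lit 1) (nat_lit 154) (Steps.bwd (nat_lit 2) (Steps.bwd (nat_lit 1) (Steps.fwd (nat_lit 1835008) (Steps.bwd (nat_lit 2) (Steps.bwd (nat_lit 1) (Steps.bwd (nat_lit 2) (Steps.bwd (nat_lit 7) Steps.nil))))))) (nat_lit 72) (nat_lit 1),
  Rule.mk (nat_lit 1) (nat_lit 274) (Steps.fwd (nat_lit 524288) (Steps.bwd (nat_lit 5) (Steps.fwd (nat_lit 1572864) (Steps.fwd (nat_lit 262144) (Steps.bwd (nat_lit 6) (Steps.bwd (nat_lit 1) (Steps.fwd (nat_lit 524288) (Steps.fwd (nat_lit 262144) (Steps.bwd (nat_lit 6) (Steps.fwd (nat_lit 262144) (Steps.bwd (nat_lit 3) (Steps.fwd (nat_lit 262144) (Steps.bwd (nat_lit 6) Steps.nil))))))))))))) (nat_lit 35) (nat_lit 13),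
  Rule.mk (nat_lit 1) (nat_lit 274) (Steps.bwd (nat_lit 6) (Steps.fwd (nat_lit 262144) (Steps.fwd (nat_lit 524288) (Steps.bwd (nat_lit 1) (Steps.fwd (nat_lit 1572864) (Steps.bwd (nat_lit 1) (Steps.fwd (nat_lit 524288) (Steps.bwd (nat_lit 5) (Steps.fwd (nat_lit 1572864) (Steps.bwd (nat_lit 1) (Steps.bwd (nat_lit 6) (Steps.bwd (nat_lit 1) (Steps.bwd (nat_lit 3) Steps.nil))))))))))))) (nat_lit 35) (nat_lit 7),
  Rule.mk (nat_lit 1) (nat_lit 154) (Steps.fwd (nat_lit 524288) (Steps.fwd (nat_lit 262144) (Steps.bwd (nat_lit 7) (Steps.bwd (nat_lit 3) (Steps.bwd (nat_lit 1) (Steps.bwd (nat_lit 3) (Steps.bwd (nat_lit 7) Steps.nil))))))) (nat_lit 73) (nat_lit 6),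
  Rule.mk (nat_lit 6) (nat_lit 154) (Steps.bwd (nat_lit 1) (Steps.bwd (nat_lit 4) (Steps.bwd (nat_lit 1) (Steps.bwd (nat_lit 6) (Steps.bwd (nat_lit 1) (Steps.fwd (nat_lit 1048576) (Steps.fwd (nat_lit 262144) Steps.nil))))))) (nat_lit 74) (nat_lit 0),
  Rule.mk (nat_lit 3) (nat_lit 154) (Steps.bwd (nat_lit 1) (Steps.bwd (nat_lit 3) (Steps.fwd (nat_lit 1835008) (Steps.bwd (nat_lit 1) (Steps.bwd (nat_lit 3) (Steps.fwd (nat_lit 262144) (Steps.bwd (nat_lit 7) Steps.nil))))))) (nat_lit 73) (nat_lit 2),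
  Rule.mk (nat_lit 3) (nat_lit 154) (Steps.bwd (nat_lit 1) (Steps.bwd (nat_lit 3) (Steps.fwd (nat_lit 1835008) (Steps.bwd (nat_lit 1) (Steps.bwd (nat_lit 3) (Steps.fwd (nat_lit 262144) (Steps.fwd (nat_lit 1835008) Steps.nil))))))) (nat_lit 73) (nat_lit 2),
  Rule.mk (nat_lit 2) (nat_lit 74) (Steps.fwd (nat_lit 2359296) (Steps.bwd (nat_lit 3) (Steps.bwd (nat_lit 9) Steps.nil))) (nat_lit 97) (nat_lit 1),
  Rule.mk (nat_lit 1) (nat_lit 274) (Steps.fwd (nat_lit 1572864) (Steps.fwd (nat_lit 1310720) (Steps.bwd (nat_lit 2) (Steps.bwd (nat_lit 1) (Steps.fwd (nat_lit 1572864) (Steps.bwd (nat_lit 1) (Steps.bwd (nat_lit 2) (Steps.bwd (nat_lit 1) (Steps.fwd (nat_lit 1572864) (Steps.fwd (nat_lit 262144) (Steps.bwd (nat_lit 2) (Steps.bwd (nat_lit 1) (Steps.bwd (nat_lit 6) Steps.nil))))))))))))) (nat_lit 34) (nat_lit 12),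
  Rule.mk (nat_lit 1) (nat_lit 274) (Steps.bwd (nat_lit 6) (Steps.fwd (nat_lit 1310720) (Steps.bwd (nat_lit 2) (Steps.bwd (nat_lit 1) (Steps.fwd (nat_lit 1572864) (Steps.bwd (nat_lit 1) (Steps.bwd (nat_lit 2) (Steps.bwd (nat_lit 1) (Steps.fwd (nat_lit 1572864) (Steps.fwd (nat_lit 262144) (Steps.fwd (nat_lit 786432) (Steps.bwd (nat_lit 1) (Steps.bwd (nat_lit 6) Steps.nil))))))))))))) (nat_lit 34) (nat_lit 12),
  Rule.mk (nat_lit 4) (nat_lit 114) (Steps.bwd (nat_lit 3) (Steps.fwd (nat_lit 1572864) (Steps.bwd (nat_lit 4) (Steps.bwd (nat_lit 3) (Steps.bwd (nat_lit 5) Steps.nil))))) (nat_lit 55) (nat_lit 5),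
  Rule.mk (nat_lit 4) (nat_lit 114) (Steps.bwd (nat_lit 2) (Steps.bwd (nat_lit 6) (Steps.fwd (nat_lit 1048576) (Steps.bwd (nat_lit 2) (Steps.bwd (nat_lit 5) Steps.nil))))) (nat_lit 58) (nat_lit 3),
  Rule.mk (nat_lit 4) (nat_lit 154) (Steps.fwd (nat_lit 262144) (Steps.bwd (nat_lit 6) (Steps.fwd (nat_lit 262144) (Steps.bwd (nat_lit 4) (Steps.bwd (nat_lit 1) (Steps.fwd (nat_lit 1572864) (Steps.bwd (nat_lit 1) Steps.nil))))))) (nat_lit 74) (nat_lit 2),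
  Rule.mk (nat_lit 4) (nat_lit 114) (Steps.bwd (nat_lit 2) (Steps.fwd (nat_lit 1572864) (Steps.bwd (nat_lit 4) (Steps.bwd (nat_lit 2) (Steps.bwd (nat_lit 5) Steps.nil))))) (nat_lit 58) (nat_lit 3),
  Rule.mk (nat_lit 4) (nat_lit 154) (Steps.fwd (nat_lit 262144) (Steps.bwd (nat_lit 6) (Steps.bwd (nat_lit 1) (Steps.fwd (nat_lit 1048576) (Steps.bwd (nat_lit 1) (Steps.bwd (nat_lit 6) (Steps.bwd (nat_lit 1) Steps.nil))))))) (nat_lit 74) (nat_lit 2),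
  Rule.mk (nat_lit 4) (nat_lit 154) (Steps.fwd (nat_lit 262144) (Steps.bwd (nat_lit 6) (Steps.fwd (nat_lit 262144) (Steps.fwd (nat_lit 1048576) (Steps.fwd (nat_lit 262144) (Steps.fwd (nat_lit 1572864) (Steps.bwd (nat_lit 1) Steps.nil))))))) (nat_lit 74) (nat_lit 2),
  Rule.mk (nat_lit 4) (nat_lit 114) (Steps.bwd (nat_lit 2) (Steps.fwd (nat_lit 1572864) (Steps.fwd (nat_lit 1048576) (Steps.bwd (nat_lit 2) (Steps.bwd (nat_lit 5) Steps.nil))))) (nat_lit 58) (nat_lit 3),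
  Rule.mk (nat_lit 4) (nat_lit 114) (Steps.bwd (nat_lit 3) (Steps.bwd (nat_lit 6) (Steps.fwd (nat_lit 1048576) (Steps.bwd (nat_lit 3) (Steps.bwd (nat_lit 5) Steps.nil))))) (nat_lit 55) (nat_lit 5),
  Rule.mk (nat_lit 4) (nat_lit 154) (Steps.fwd (nat_lit 262144) (Steps.bwd (nat_lit 6) (Steps.fwd (nat_lit 262144) (Steps.fwd (nat_lit 1048576) (Steps.fwd (nat_lit 262144) (Steps.bwd (nat_lit 6) (Steps.bwd (nat_lit 1) Steps.nil))))))) (nat_lit 74) (nat_lit 2),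
  Rule.mk (nat_lit 4) (nat_lit 154) (Steps.fwd (nat_lit 262144) (Steps.bwd (nat_lit 6) (Steps.bwd (nat_lit 1) (Steps.fwd (nat_lit 1048576) (Steps.bwd (nat_lit 1) (Steps.fwd (nat_lit 1572864) (Steps.bwd (nat_lit 1) Steps.nil))))))) (nat_lit 74) (nat_lit 2),
  Rule.mk (nat_lit 4) (nat_lit 114) (Steps.bwd (nat_lit 3) (Steps.bwd (nat_lit 6) (Steps.bwd (nat_lit 4) (Steps.bwd (nat_lit 3) (Steps.bwd (nat_lit 5) Steps.nil))))) (nat_lit 55) (nat_lit 5),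
  Rule.mk (nat_lit 4) (nat_lit 114) (Steps.bwd (nat_lit 3) (Steps.fwd (nat_lit 1572864) (Steps.fwd (nat_lit 1048576) (Steps.bwd (nat_lit 3) (Steps.bwd (nat_lit 5) Steps.nil))))) (nat_lit 55) (nat_lit 5),
  Rule.mk (nat_lit 4) (nat_lit 154) (Steps.fwd (nat_lit 262144) (Steps.bwd (nat_lit 6) (Steps.fwd (nat_lit 262144) (Steps.fwd (nat_lit 1048576) (Steps.bwd (nat_lit 1) (Steps.bwd (nat_lit 6) (Steps.bwd (nat_lit 1) Steps.nil))))))) (nat_lit 74) (nat_lit 2),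
  Rule.mk (nat_lit 3) (nat_lit 154) (Steps.bwd (nat_lit 1) (Steps.bwd (nat_lit 3) (Steps.fwd (nat_lit 1310720) (Steps.bwd (nat_lit 1) (Steps.bwd (nat_lit 3) (Steps.bwd (nat_lit 1) (Steps.bwd (nat_lit 5) Steps.nil))))))) (nat_lit 71) (nat_lit 2),
  Rule.mk (nat_lit 6) (nat_lit 154) (Steps.bwd (nat_lit 1) (Steps.bwd (nat_lit 4) (Steps.bwd (nat_lit 1) (Steps.bwd (nat_lit 6) (Steps.bwd (nat_lit 1) (Steps.fwd (nat_lit 1048576) (Steps.bwd (nat_lit 1) Steps.nil))))))) (nat_lit 74) (nat_lit 0),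
  Rule.mk (nat_lit 6) (nat_lit 154) (Steps.bwd (nat_lit 1) (Steps.bwd (nat_lit 4) (Steps.fwd (nat_lit 262144) (Steps.bwd (nat_lit 6) (Steps.fwd (nat_lit 262144) (Steps.fwd (nat_lit 1048576) (Steps.bwd (nat_lit 1) Steps.nil))))))) (nat_lit 74) (nat_lit 0),
  Rule.mk (nat_lit 6) (nat_lit 154) (Steps.bwd (nat_lit 1) (Steps.bwd (nat_lit 4) (Steps.fwd (nat_lit 262144) (Steps.bwd (nat_lit 6) (Steps.bwd (nat_lit 1) (Steps.bwd (nat_lit 4) (Steps.bwd (nat_lit 1) Steps.nil))))))) (nat_lit 74) (nat_lit 0),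
  Rule.mk (nat_lit 6) (nat_lit 274) (Steps.bwd (nat_lit 1) (Steps.bwd (nat_lit 2) (Steps.fwd (nat_lit 262144) (Steps.fwd (nat_lit 1572864) (Steps.bwd (nat_lit 1) (Steps.fwd (nat_lit 786432) (Steps.bwd (nat_lit 1) (Steps.bwd (nat_lit 6) (Steps.bwd (nat_lit 1) (Steps.bwd (nat_lit 6) (Steps.bwd (nat_lit 5) (Steps.fwd (nat_lit 786432) (Steps.fwd (nat_lit 262144) Steps.nil))))))))))))) (nat_lit 34) (nat_lit 3),
  Rule.mk (nat_lit 6) (nat_lit 274) (Steps.bwd (nat_lit 1) (Steps.bwd (nat_lit 3) (Steps.fwd (nat_lit 262144) (Steps.fwd (nat_lit 1572864) (Steps.fwd (nat_lit 262144) (Steps.fwd (nat_lit 524288) (Steps.bwd (nat_lit 1) (Steps.bwd (nat_lit 6) (Steps.fwd (nat_lit 262144) (Steps.fwd (nat_lit 524288) (Steps.fwd (nat_lit 1310720) (Steps.bwd (nat_lit 6) (Steps.fwd (nat_lit 262144) Steps.nil))))))))))))) (nat_lit 35) (nat_lit 4),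
  Rule.mk (nat_lit 6) (nat_lit 274) (Steps.bwd (nat_lit 1) (Steps.bwd (nat_lit 2) (Steps.bwd (nat_lit 1) (Steps.bwd (nat_lit 6) (Steps.fwd (nat_lit 262144) (Steps.bwd (nat_lit 6) (Steps.bwd (nat_lit 5) (Steps.bwd (nat_lit 2) (Steps.bwd (nat_lit 1) (Steps.fwd (nat_lit 1572864) (Steps.bwd (nat_lit 1) (Steps.bwd (nat_lit 2) (Steps.fwd (nat_lit 262144) Steps.nil))))))))))))) (nat_lit 34) (nat_lit 7),
  Rule.mk (nat_lit 2) (nat_lit 74) (Steps.fwd (nat_lit 1572864) (Steps.bwd (nat_lit 3) (Steps.bwd (nat_lit 6) Steps.nil))) (nat_lit 40) (nat_lit 1),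
  Rule.mk (nat_lit 6) (nat_lit 274) (Steps.bwd (nat_lit 1) (Steps.bwd (nat_lit 3) (Steps.fwd (nat_lit 262144) (Steps.fwd (nat_lit 1572864) (Steps.fwd (nat_lit 262144) (Steps.fwd (nat_lit 524288) (Steps.fwd (nat_lit 262144) (Steps.bwd (nat_lit 6) (Steps.bwd (nat_lit 1) (Steps.fwd (nat_lit 524288) (Steps.fwd (nat_lit 1310720) (Steps.fwd (nat_lit 1572864) (Steps.fwd (nat_lit 262144) Steps.nil))))))))))))) (nat_lit 35) (nat_lit 4),
  Rule.mk (nat_lit 6) (nat_lit 274) (Steps.bwd (nat_lit 1) (Steps.bwd (nat_lit 2) (Steps.fwd (nat_lit 262144) (Steps.fwd (nat_lit 1572864) (Steps.bwd (nat_lit 1) (Steps.bwd (nat_lit 2) (Steps.bwd (nat_lit 1) (Steps.bwd (nat_lit 6) (Steps.bwd (nat_lit 1) (Steps.bwd (nat_lit 6) (Steps.bwd (nat_lit 5) (Steps.fwd (nat_lit 786432) (Steps.fwd (nat_lit 262144) Steps.nil))))))))))))) (nat_lit 34) (nat_lit 3),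
  Rule.mk (nat_lit 6) (nat_lit 94) (Steps.fwd (nat_lit 1310720) (Steps.fwd (nat_lit 1835008) (Steps.bwd (nat_lit 6) (Steps.fwd (nat_lit 1310720) Steps.nil)))) (nat_lit 24) (nat_lit 3),
  Rule.mk (nat_lit 6) (nat_lit 94) (Steps.bwd (nat_lit 5) (Steps.bwd (nat_lit 6) (Steps.fwd (nat_lit 1310720) (Steps.bwd (nat_lit 7) Steps.nil)))) (nat_lit 24) (nat_lit 1),
  Rule.mk (nat_lit 9) (nat_lit 114) (Steps.bwd (nat_lit 1) (Steps.fwd (nat_lit 2359296) (Steps.fwd (nat_lit 786432) (Steps.fwd (nat_lit 262144) (Steps.bwd (nat_lit 3) Steps.nil))))) (nat_lit 104) (nat_lit 5),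
  Rule.mk (nat_lit 6) (nat_lit 74) (Steps.fwd (nat_lit 524288) (Steps.bwd (nat_lit 6) (Steps.fwd (nat_lit 786432) Steps.nil))) (nat_lit 40) (nat_lit 2),
  Rule.mk (nat_lit 2) (nat_lit 274) (Steps.bwd (nat_lit 1) (Steps.fwd (nat_lit 1572864) (Steps.fwd (nat_lit 262144) (Steps.bwd (nat_lit 6) (Steps.bwd (nat_lit 5) (Steps.fwd (nat_lit 786432) (Steps.bwd (nat_lit 1) (Steps.bwd (nat_lit 6) (Steps.fwd (nat_lit 262144) (Steps.bwd (nat_lit 2) (Steps.bwd (nat_lit 1) (Steps.bwd (nat_lit 6) (Steps.bwd (nat_lit 1) Steps.nil))))))))))))) (nat_lit 34) (nat_lit 9),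
  Rule.mk (nat_lit 0) (nat_lit 134) (Steps.fwd (nat_lit 2359296) (Steps.bwd (nat_lit 2) (Steps.bwd (nat_lit 1) (Steps.fwd (nat_lit 524288) (Steps.bwd (nat_lit 9) (Steps.fwd (nat_lit 262144) Steps.nil)))))) (nat_lit 104) (nat_lit 0),
  Rule.mk (nat_lit 0) (nat_lit 134) (Steps.bwd (nat_lit 2) (Steps.bwd (nat_lit 1) (Steps.fwd (nat_lit 524288) (Steps.bwd (nat_lit 9) (Steps.fwd (nat_lit 262144) (Steps.fwd (nat_lit 2359296) Steps.nil)))))) (nat_lit 104) (nat_lit 1),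
  Rule.mk (nat_lit 6) (nat_lit 274) (Steps.bwd (nat_lit 1) (Steps.bwd (nat_lit 3) (Steps.bwd (nat_lit 5) (Steps.fwd (nat_lit 1572864) (Steps.fwd (nat_lit 262144) (Steps.fwd (nat_lit 1572864) (Steps.fwd (nat_lit 262144) (Steps.fwd (nat_lit 524288) (Steps.bwd (nat_lit 1) (Steps.bwd (nat_lit 6) (Steps.fwd (nat_lit 262144) (Steps.fwd (nat_lit 524288) (Steps.fwd (nat_lit 262144) Steps.nil))))))))))))) (nat_lit 35) (nat_lit 12),
  Rule.mk (nat_lit 6) (nat_lit 274) (Steps.bwd (nat_lit 1) (Steps.bwd (nat_lit 2) (Steps.bwd (nat_lit 1) (Steps.fwd (nat_lit 1572864) (Steps.fwd (nat_lit 262144) (Steps.bwd (nat_lit 6) (Steps.fwd (nat_lit 1310720) (Steps.bwd (nat_lit 2) (Steps.bwd (nat_lit 1) (Steps.bwd (nat_lit 6) (Steps.bwd (nat_lit 1) (Steps.bwd (nat_lit 2) (Steps.fwd (nat_lit 262144) Steps.nil))))))))))))) (nat_lit 34) (nat_lit 7),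
  Rule.mk (nat_lit 6) (nat_lit 274) (Steps.bwd (nat_lit 1) (Steps.bwd (nat_lit 2) (Steps.bwd (nat_lit 1) (Steps.fwd (nat_lit 1572864) (Steps.bwd (nat_lit 1) (Steps.fwd (nat_lit 1572864) (Steps.fwd (nat_lit 1310720) (Steps.bwd (nat_lit 2) (Steps.bwd (nat_lit 1) (Steps.bwd (nat_lit 6) (Steps.bwd (nat_lit 1) (Steps.fwd (nat_lit 786432) (Steps.fwd (nat_lit 262144) Steps.nil))))))))))))) (nat_lit 34) (nat_lit 7),
  Rule.mk (nat_lit 1) (nat_lit 274) (Steps.bwd (nat_lit 6) (Steps.fwd (nat_lit 1310720) (Steps.fwd (nat_lit 786432) (Steps.fwd (nat_lit 262144) (Steps.fwd (nat_lit 1572864) (Steps.bwd (nat_lit 1) (Steps.bwd (nat_lit 2) (Steps.bwd (nat_lit 1) (Steps.bwd (nat_lit 6) (Steps.fwd (nat_lit 262144) (Steps.bwd (nat_lit 2) (Steps.bwd (nat_lit 1) (Steps.bwd (nat_lit 6) Steps.nil))))))))))))) (nat_lit 34) (nat_lit 12),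
  Rule.mk (nat_lit 6) (nat_lit 274) (Steps.bwd (nat_lit 1) (Steps.bwd (nat_lit 6) (Steps.bwd (nat_lit 5) (Steps.bwd (nat_lit 2) (Steps.bwd (nat_lit 1) (Steps.bwd (nat_lit 6) (Steps.fwd (nat_lit 262144) (Steps.bwd (nat_lit 2) (Steps.bwd (nat_lit 1) (Steps.bwd (nat_lit 6) (Steps.bwd (nat_lit 1) (Steps.fwd (nat_lit 786432) (Steps.fwd (nat_lit 262144) Steps.nil))))))))))))) (nat_lit 34) (nat_lit 11),
  Rule.mk (nat_lit 6) (nat_lit 74) (Steps.fwd (nat_lit 2097152) (Steps.bwd (nat_lit 6) (Steps.bwd (nat_lit 9) Steps.nil))) (nat_lit 103) (nat_lit 0),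
  Rule.mk (nat_lit 6) (nat_lit 274) (Steps.bwd (nat_lit 1) (Steps.bwd (nat_lit 3) (Steps.fwd (nat_lit 262144) (Steps.fwd (nat_lit 1572864) (Steps.bwd (nat_lit 1) (Steps.fwd (nat_lit 524288) (Steps.fwd (nat_lit 262144) (Steps.bwd (nat_lit 6) (Steps.fwd (nat_lit 262144) (Steps.fwd (nat_lit 524288) (Steps.bwd (nat_lit 5) (Steps.fwd (nat_lit 1572864) (Steps.fwd (nat_lit 262144) Steps.nil))))))))))))) (nat_lit 35) (nat_lit 4),
  Rule.mk (nat_lit 6) (nat_lit 274) (Steps.bwd (nat_lit 1) (Steps.bwd (nat_lit 2) (Steps.bwd (nat_lit 1) (Steps.bwd (nat_lit 6) (Steps.fwd (nat_lit 262144) (Steps.bwd (nat_lit 6) (Steps.bwd (nat_lit 5) (Steps.bwd (nat_lit 2) (Steps.bwd (nat_lit 1) (Steps.fwd (nat_lit 1572864) (Steps.bwd (nat_lit 1) (Steps.fwd (nat_lit 786432) (Steps.fwd (nat_lit 262144) Steps.nil))))))))))))) (nat_lit 34) (nat_lit 7),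
  Rule.mk (nat_lit 6) (nat_lit 274) (Steps.bwd (nat_lit 1) (Steps.bwd (nat_lit 2) (Steps.fwd (nat_lit 262144) (Steps.fwd (nat_lit 1572864) (Steps.bwd (nat_lit 1) (Steps.bwd (nat_lit 2) (Steps.bwd (nat_lit 1) (Steps.bwd (nat_lit 6) (Steps.bwd (nat_lit 1) (Steps.fwd (nat_lit 1572864) (Steps.bwd (nat_lit 5) (Steps.fwd (nat_lit 786432) (Steps.fwd (nat_lit 262144) Steps.nil))))))))))))) (nat_lit 34) (nat_lit 3),
  Rule.mk (nat_lit 6) (nat_lit 274) (Steps.bwd (nat_lit 1) (Steps.bwd (nat_lit 2) (Steps.bwd (nat_lit 1) (Steps.fwd (nat_lit 1572864) (Steps.fwd (nat_lit 262144) (Steps.bwd (nat_lit 6) (Steps.bwd (nat_lit 5) (Steps.bwd (nat_lit 2) (Steps.bwd (nat_lit 1) (Steps.fwd (nat_lit 1572864) (Steps.bwd (nat_lit 1) (Steps.bwd (nat_lit 2) (Steps.fwd (nat_lit 262144) Steps.nil))))))))))))) (nat_lit 34) (nat_lit 7),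
  Rule.mk (nat_lit 6) (nat_lit 274) (Steps.bwd (nat_lit 1) (Steps.bwd (nat_lit 3) (Steps.fwd (nat_lit 262144) (Steps.fwd (nat_lit 1572864) (Steps.fwd (nat_lit 262144) (Steps.fwd (nat_lit 524288) (Steps.bwd (nat_lit 1) (Steps.fwd (nat_lit 1572864) (Steps.fwd (nat_lit 262144) (Steps.fwd (nat_lit 524288) (Steps.bwd (nat_lit 5) (Steps.fwd (nat_lit 1572864) (Steps.fwd (nat_lit 262144) Steps.nil))))))))))))) (nat_lit 35) (nat_lit 4),
  Rule.mk (nat_lit 6) (nat_lit 274) (Steps.bwd (nat_lit 1) (Steps.bwd (nat_lit 2) (Steps.bwd (nat_lit 1) (Steps.fwd (nat_lit 1572864) (Steps.fwd (nat_lit 262144) (Steps.fwd (nat_lit 786432) (Steps.bwd (nat_lit 1) (Steps.fwd (nat_lit 1572864) (Steps.fwd (nat_lit 262144) (Steps.bwd (nat_lit 6) (Steps.bwd (nat_lit 5) (Steps.fwd (nat_lit 786432) (Steps.fwd (nat_lit 262144) Steps.nil))))))))))))) (nat_lit 34) (nat_lit 3),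
  Rule.mk (nat_lit 9) (nat_lit 74) (Steps.fwd (nat_lit 1310720) (Steps.bwd (nat_lit 8) (Steps.fwd (nat_lit 1835008) Steps.nil))) (nat_lit 98) (nat_lit 3),
  Rule.mk (nat_lit 9) (nat_lit 94) (Steps.fwd (nat_lit 1310720) (Steps.bwd (nat_lit 7) (Steps.bwd (nat_lit 8) (Steps.fwd (nat_lit 1310720) Steps.nil)))) (nat_lit 100) (nat_lit 3),
  Rule.mk (nat_lit 6) (nat_lit 274) (Steps.bwd (nat_lit 1) (Steps.bwd (nat_lit 2) (Steps.bwd (nat_lit 1) (Steps.bwd (nat_lit 6) (Steps.bwd (nat_lit 1) (Steps.fwd (nat_lit 1572864) (Steps.fwd (nat_lit 1310720) (Steps.bwd (nat_lit 2) (Steps.bwd (nat_lit 1) (Steps.bwd (nat_lit 6) (Steps.fwd (nat_lit 262144) (Steps.bwd (nat_lit 2) (Steps.fwd (nat_lit 262144) Steps.nil))))))))))))) (nat_lit 34) (nat_lit 7),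
  Rule.mk (nat_lit 6) (nat_lit 274) (Steps.bwd (nat_lit 1) (Steps.bwd (nat_lit 2) (Steps.bwd (nat_lit 1) (Steps.bwd (nat_lit 6) (Steps.bwd (nat_lit 1) (Steps.fwd (nat_lit 1572864) (Steps.bwd (nat_lit 5) (Steps.fwd (nat_lit 786432) (Steps.bwd (nat_lit 1) (Steps.bwd (nat_lit 6) (Steps.fwd (nat_lit 262144) (Steps.bwd (nat_lit 2) (Steps.fwd (nat_lit 262144) Steps.nil))))))))))))) (nat_lit 34) (nat_lit 7),
  Rule.mk (nat_lit 1) (nat_lit 274) (Steps.bwd (nat_lit 6) (Steps.fwd (nat_lit 1310720) (Steps.fwd (nat_lit 786432) (Steps.fwd (nat_lit 262144) (Steps.bwd (nat_lit 6) (Steps.bwd (nat_lit 1) (Steps.bwd (nat_lit 2) (Steps.bwd (nat_lit 1) (Steps.bwd (nat_lit 6) (Steps.fwd (nat_lit 262144) (Steps.bwd (nat_lit 2) (Steps.bwd (nat_lit 1) (Steps.bwd (nat_lit 6) Steps.nil))))))))))))) (nat_lit 34) (nat_lit 12),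
  Rule.mk (nat_lit 6) (nat_lit 274) (Steps.bwd (nat_lit 1) (Steps.fwd (nat_lit 1572864) (Steps.bwd (nat_lit 5) (Steps.bwd (nat_lit 2) (Steps.bwd (nat_lit 1) (Steps.bwd (nat_lit 6) (Steps.fwd (nat_lit 262144) (Steps.bwd (nat_lit 2) (Steps.bwd (nat_lit 1) (Steps.bwd (nat_lit 6) (Steps.bwd (nat_lit 1) (Steps.fwd (nat_lit 786432) (Steps.fwd (nat_lit 262144) Steps.nil))))))))))))) (nat_lit 34) (nat_lit 11),
  Rule.mk (nat_lit 6) (nat_lit 274) (Steps.bwd (nat_lit 1) (Steps.fwd (nat_lit 1572864) (Steps.fwd (nat_lit 262144) (Steps.fwd (nat_lit 524288) (Steps.bwd (nat_lit 1) (Steps.fwd (nat_lit 1572864) (Steps.fwd (nat_lit 262144) (Steps.fwd (nat_lit 524288) (Steps.bwd (nat_lit 1) (Steps.bwd (nat_lit 6) (Steps.fwd (nat_lit 262144) (Steps.fwd (nat_lit 524288) (Steps.bwd (nat_lit 5) Steps.nil))))))))))))) (nat_lit 35) (nat_lit 2),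
  Rule.mk (nat_lit 6) (nat_lit 274) (Steps.bwd (nat_lit 1) (Steps.bwd (nat_lit 3) (Steps.fwd (nat_lit 1310720) (Steps.bwd (nat_lit 6) (Steps.fwd (nat_lit 262144) (Steps.fwd (nat_lit 1572864) (Steps.fwd (nat_lit 262144) (Steps.fwd (nat_lit 524288) (Steps.bwd (nat_lit 1) (Steps.fwd (nat_lit 1572864) (Steps.fwd (nat_lit 262144) (Steps.fwd (nat_lit 524288) (Steps.fwd (nat_lit 262144) Steps.nil))))))))))))) (nat_lit 35) (nat_lit 12),
  Rule.mk (nat_lit 1) (nat_lit 274) (Steps.fwd (nat_lit 1572864) (Steps.bwd (nat_lit 1) (Steps.fwd (nat_lit 786432) (Steps.bwd (nat_lit 1) (Steps.bwd (nat_lit 6) (Steps.fwd (nat_lit 262144) (Steps.bwd (nat_lit 6) (Steps.bwd (nat_lit 5) (Steps.fwd (nat_lit 786432) (Steps.bwd (nat_lit 1) (Steps.fwd (nat_lit 1572864) (Steps.fwd (nat_lit 262144) (Steps.bwd (nat_lit 2) Steps.nil))))))))))))) (nat_lit 34) (nat_lit 6),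
  Rule.mk (nat_lit 3) (nat_lit 154) (Steps.bwd (nat_lit 1) (Steps.fwd (nat_lit 786432) (Steps.fwd (nat_lit 262144) (Steps.fwd (nat_lit 524288) (Steps.fwd (nat_lit 262144) (Steps.bwd (nat_lit 2) (Steps.bwd (nat_lit 1) Steps.nil))))))) (nat_lit 68) (nat_lit 0),
  Rule.mk (nat_lit 1) (nat_lit 154) (Steps.bwd (nat_lit 2) (Steps.bwd (nat_lit 1) (Steps.bwd (nat_lit 5) (Steps.fwd (nat_lit 786432) (Steps.fwd (nat_lit 262144) (Steps.fwd (nat_lit 786432) (Steps.bwd (nat_lit 5) Steps.nil))))))) (nat_lit 70) (nat_lit 1),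
  Rule.mk (nat_lit 1) (nat_lit 154) (Steps.fwd (nat_lit 786432) (Steps.bwd (nat_lit 1) (Steps.fwd (nat_lit 1310720) (Steps.fwd (nat_lit 786432) (Steps.bwd (nat_lit 1) (Steps.fwd (nat_lit 786432) (Steps.bwd (nat_lit 5) Steps.nil))))))) (nat_lit 70) (nat_lit 1)]
noncomputable def R_19 : List (Rule) := [Rule.mk (nat_lit 6) (nat_lit 274) (Steps.bwd (nat_lit 1) (Steps.bwd (nat_lit 6) (Steps.fwd (nat_lit 1310720) (Steps.bwd (nat_lit 2) (Steps.bwd (nat_lit 1) (Steps.fwd (nat_lit 1572864) (Steps.fwd (nat_lit 262144) (Steps.fwd (nat_lit 786432) (Steps.bwd (nat_lit 1) (Steps.fwd (nat_lit 1572864) (Steps.fwd (nat_lit 262144) (Steps.bwd (nat_lit 2) (Steps.fwd (nat_lit 262144) Steps.nil))))))))))))) (nat_lit 34) (nat_lit 11),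
  Rule.mk (nat_lit 6) (nat_lit 274) (Steps.bwd (nat_lit 1) (Steps.bwd (nat_lit 3) (Steps.bwd (nat_lit 1) (Steps.fwd (nat_lit 1572864) (Steps.bwd (nat_lit 1) (Steps.fwd (nat_lit 524288) (Steps.fwd (nat_lit 262144) (Steps.fwd (nat_lit 1572864) (Steps.fwd (nat_lit 262144) (Steps.fwd (nat_lit 524288) (Steps.fwd (nat_lit 1310720) (Steps.bwd (nat_lit 6) (Steps.fwd (nat_lit 262144) Steps.nil))))))))))))) (nat_lit 35) (nat_lit 4),
  Rule.mk (nat_lit 6) (nat_lit 274) (Steps.bwd (nat_lit 1) (Steps.fwd (nat_lit 1572864) (Steps.fwd (nat_lit 1310720) (Steps.bwd (nat_lit 2) (Steps.fwd (nat_lit 262144) (Steps.fwd (nat_lit 1572864) (Steps.bwd (nat_lit 1) (Steps.fwd (nat_lit 786432) (Steps.bwd (nat_lit 1) (Steps.bwd (nat_lit 6) (Steps.bwd (nat_lit 1) (Steps.fwd (nat_lit 786432) (Steps.fwd (nat_lit 262144) Steps.nil))))))))))))) (nat_lit 34) (nat_lit 11),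
  Rule.mk (nat_lit 6) (nat_lit 274) (Steps.bwd (nat_lit 1) (Steps.bwd (nat_lit 3) (Steps.bwd (nat_lit 1) (Steps.fwd (nat_lit 1572864) (Steps.fwd (nat_lit 262144) (Steps.fwd (nat_lit 524288) (Steps.bwd (nat_lit 1) (Steps.fwd (nat_lit 1572864) (Steps.fwd (nat_lit 262144) (Steps.fwd (nat_lit 524288) (Steps.fwd (nat_lit 1310720) (Steps.fwd (nat_lit 1572864) (Steps.fwd (nat_lit 262144) Steps.nil))))))))))))) (nat_lit 35) (nat_lit 4),
  Rule.mk (nat_lit 2) (nat_lit 274) (Steps.bwd (nat_lit 1) (Steps.fwd (nat_lit 1572864) (Steps.fwd (nat_lit 262144) (Steps.bwd (nat_lit 6) (Steps.fwd (nat_lit 1310720) (Steps.bwd (nat_lit 2) (Steps.fwd (nat_lit 262144) (Steps.bwd (nat_lit 6) (Steps.fwd (nat_lit 262144) (Steps.bwd (nat_lit 2) (Steps.bwd (nat_lit 1) (Steps.bwd (nat_lit 6) (Steps.fwd (nat_lit 262144) Steps.nil))))))))))))) (nat_lit 34) (nat_lit 9),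
  Rule.mk (nat_lit 0) (nat_lit 134) (Steps.bwd (nat_lit 1) (Steps.fwd (nat_lit 2359296) (Steps.bwd (nat_lit 2) (Steps.fwd (nat_lit 262144) (Steps.fwd (nat_lit 524288) (Steps.bwd (nat_lit 9) Steps.nil)))))) (nat_lit 104) (nat_lit 5),
  Rule.mk (nat_lit 6) (nat_lit 274) (Steps.bwd (nat_lit 1) (Steps.fwd (nat_lit 1572864) (Steps.bwd (nat_lit 5) (Steps.bwd (nat_lit 2) (Steps.bwd (nat_lit 1) (Steps.fwd (nat_lit 1572864) (Steps.fwd (nat_lit 262144) (Steps.bwd (nat_lit 2) (Steps.bwd (nat_lit 1) (Steps.fwd (nat_lit 1572864) (Steps.fwd (nat_lit 262144) (Steps.bwd (nat_lit 2) (Steps.fwd (nat_lit 262144) Steps.nil))))))))))))) (nat_lit 34) (nat_lit 11),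
  Rule.mk (nat_lit 6) (nat_lit 274) (Steps.bwd (nat_lit 1) (Steps.bwd (nat_lit 3) (Steps.bwd (nat_lit 5) (Steps.fwd (nat_lit 1572864) (Steps.fwd (nat_lit 262144) (Steps.fwd (nat_lit 1572864) (Steps.bwd (nat_lit 1) (Steps.fwd (nat_lit 524288) (Steps.fwd (nat_lit 262144) (Steps.bwd (nat_lit 6) (Steps.fwd (nat_lit 262144) (Steps.fwd (nat_lit 524288) (Steps.fwd (nat_lit 262144) Steps.nil))))))))))))) (nat_lit 35) (nat_lit 12),
  Rule.mk (nat_lit 1) (nat_lit 274) (Steps.fwd (nat_lit 1572864) (Steps.bwd (nat_lit 5) (Steps.fwd (nat_lit 786432) (Steps.fwd (nat_lit 262144) (Steps.bwd (nat_lit 6) (Steps.bwd (nat_lit 1) (Steps.bwd (nat_lit 2) (Steps.bwd (nat_lit 1) (Steps.fwd (nat_lit 1572864) (Steps.fwd (nat_lit 262144) (Steps.bwd (nat_lit 2) (Steps.bwd (nat_lit 1) (Steps.bwd (nat_lit 6) Steps.nil))))))))))))) (nat_lit 34) (nat_lit 12),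
  Rule.mk (nat_lit 6) (nat_lit 274) (Steps.bwd (nat_lit 1) (Steps.fwd (nat_lit 1572864) (Steps.bwd (nat_lit 5) (Steps.bwd (nat_lit 2) (Steps.bwd (nat_lit 1) (Steps.fwd (nat_lit 1572864) (Steps.fwd (nat_lit 262144) (Steps.bwd (nat_lit 2) (Steps.bwd (nat_lit 1) (Steps.bwd (nat_lit 6) (Steps.bwd (nat_lit 1) (Steps.fwd (nat_lit 786432) (Steps.fwd (nat_lit 262144) Steps.nil))))))))))))) (nat_lit 34) (nat_lit 11),
  Rule.mk (nat_lit 6) (nat_lit 274) (Steps.bwd (nat_lit 1) (Steps.bwd (nat_lit 2) (Steps.bwd (nat_lit 1) (Steps.fwd (nat_lit 1572864) (Steps.fwd (nat_lit 262144) (Steps.bwd (nat_lit 2) (Steps.bwd (nat_lit 1) (Steps.fwd (nat_lit 1572864) (Steps.fwd (nat_lit 262144) (Steps.bwd (nat_lit 6) (Steps.bwd (nat_lit 5) (Steps.fwd (nat_lit 786432) (Steps.fwd (nat_lit 262144) Steps.nil))))))))))))) (nat_lit 34) (nat_lit 3),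
  Rule.mk (nat_lit 6) (nat_lit 274) (Steps.bwd (nat_lit 1) (Steps.bwd (nat_lit 2) (Steps.bwd (nat_lit 1) (Steps.fwd (nat_lit 1572864) (Steps.fwd (nat_lit 262144) (Steps.bwd (nat_lit 6) (Steps.bwd (nat_lit 5) (Steps.bwd (nat_lit 2) (Steps.bwd (nat_lit 1) (Steps.bwd (nat_lit 6) (Steps.fwd (nat_lit 262144) (Steps.fwd (nat_lit 786432) (Steps.fwd (nat_lit 262144) Steps.nil))))))))))))) (nat_lit 34) (nat_lit 7),
  Rule.mk (nat_lit 6) (nat_lit 274) (Steps.bwd (nat_lit 1) (Steps.bwd (nat_lit 3) (Steps.fwd (nat_lit 1310720) (Steps.bwd (nat_lit 6) (Steps.bwd (nat_lit 1) (Steps.fwd (nat_lit 1572864) (Steps.bwd (nat_lit 1) (Steps.fwd (nat_lit 524288) (Steps.fwd (nat_lit 262144) (Steps.fwd (nat_lit 1572864) (Steps.fwd (nat_lit 262144) (Steps.fwd (nat_lit 524288) (Steps.fwd (nat_lit 262144) Steps.nil))))))))))))) (nat_lit 35) (nat_lit 12),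
  Rule.mk (nat_lit 1) (nat_lit 274) (Steps.fwd (nat_lit 524288) (Steps.bwd (nat_lit 1) (Steps.fwd (nat_lit 1572864) (Steps.fwd (nat_lit 262144) (Steps.fwd (nat_lit 524288) (Steps.bwd (nat_lit 5) (Steps.fwd (nat_lit 1572864) (Steps.bwd (nat_lit 1) (Steps.fwd (nat_lit 1572864) (Steps.fwd (nat_lit 262144) (Steps.bwd (nat_lit 3) (Steps.fwd (nat_lit 262144) (Steps.bwd (nat_lit 6) Steps.nil))))))))))))) (nat_lit 35) (nat_lit 9),
  Rule.mk (nat_lit 1) (nat_lit 274) (Steps.fwd (nat_lit 1572864) (Steps.fwd (nat_lit 262144) (Steps.bwd (nat_lit 2) (Steps.bwd (nat_lit 1) (Steps.fwd (nat_lit 1572864) (Steps.fwd (nat_lit 262144) (Steps.bwd (nat_lit 6) (Steps.fwd (nat_lit 1310720) (Steps.bwd (nat_lit 2) (Steps.bwd (nat_lit 1) (Steps.fwd (nat_lit 1572864) (Steps.fwd (nat_lit 262144) (Steps.bwd (nat_lit 2) Steps.nil))))))))))))) (nat_lit 34) (nat_lit 6),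
  Rule.mk (nat_lit 6) (nat_lit 74) (Steps.fwd (nat_lit 786432) (Steps.bwd (nat_lit 6) (Steps.bwd (nat_lit 3) Steps.nil))) (nat_lit 40) (nat_lit 0),
  Rule.mk (nat_lit 1) (nat_lit 274) (Steps.fwd (nat_lit 524288) (Steps.bwd (nat_lit 1) (Steps.fwd (nat_lit 1572864) (Steps.fwd (nat_lit 262144) (Steps.bwd (nat_lit 3) (Steps.fwd (nat_lit 1310720) (Steps.fwd (nat_lit 1572864) (Steps.bwd (nat_lit 1) (Steps.bwd (nat_lit 6) (Steps.fwd (nat_lit 262144) (Steps.bwd (nat_lit 3) (Steps.fwd (nat_lit 262144) (Steps.bwd (nat_lit 6) Steps.nil))))))))))))) (nat_lit 35) (nat_lit 9),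
  Rule.mk (nat_lit 6) (nat_lit 274) (Steps.bwd (nat_lit 1) (Steps.bwd (nat_lit 2) (Steps.bwd (nat_lit 1) (Steps.fwd (nat_lit 1572864) (Steps.bwd (nat_lit 1) (Steps.fwd (nat_lit 1572864) (Steps.fwd (nat_lit 1310720) (Steps.bwd (nat_lit 2) (Steps.bwd (nat_lit 1) (Steps.fwd (nat_lit 1572864) (Steps.fwd (nat_lit 262144) (Steps.bwd (nat_lit 2) (Steps.fwd (nat_lit 262144) Steps.nil))))))))))))) (nat_lit 34) (nat_lit 7),
  Rule.mk (nat_lit 1) (nat_lit 274) (Steps.fwd (nat_lit 1572864) (Steps.fwd (nat_lit 262144) (Steps.bwd (nat_lit 2) (Steps.bwd (nat_lit 1) (Steps.bwd (nat_lit 6) (Steps.fwd (nat_lit 262144) (Steps.bwd (nat_lit 6) (Steps.bwd (nat_lit 5) (Steps.fwd (nat_lit 786432) (Steps.bwd (nat_lit 1) (Steps.bwd (nat_lit 6) (Steps.fwd (nat_lit 262144) (Steps.bwd (nat_lit 2) Steps.nil))))))))))))) (nat_lit 34) (nat_lit 6),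
  Rule.mk (nat_lit 6) (nat_lit 274) (Steps.bwd (nat_lit 1) (Steps.bwd (nat_lit 2) (Steps.bwd (nat_lit 1) (Steps.fwd (nat_lit 1572864) (Steps.bwd (nat_lit 1) (Steps.bwd (nat_lit 2) (Steps.bwd (nat_lit 1) (Steps.fwd (nat_lit 1572864) (Steps.fwd (nat_lit 262144) (Steps.bwd (nat_lit 6) (Steps.bwd (nat_lit 5) (Steps.fwd (nat_lit 786432) (Steps.fwd (nat_lit 262144) Steps.nil))))))))))))) (nat_lit 34) (nat_lit 3),
  Rule.mk (nat_lit 9) (nat_lit 94) (Steps.bwd (nat_lit 5) (Steps.fwd (nat_lit 1835008) (Steps.bwd (nat_lit 8) (Steps.fwd (nat_lit 1310720) Steps.nil)))) (nat_lit 100) (nat_lit 3),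
  Rule.mk (nat_lit 9) (nat_lit 74) (Steps.fwd (nat_lit 1572864) (Steps.bwd (nat_lit 9) (Steps.fwd (nat_lit 1572864) Steps.nil))) (nat_lit 103) (nat_lit 1),
  Rule.mk (nat_lit 4) (nat_lit 314) (Steps.bwd (nat_lit 9) (Steps.bwd (nat_lit 4) (Steps.bwd (nat_lit 8) (Steps.bwd (nat_lit 4) (Steps.bwd (nat_lit 9) (Steps.bwd (nat_lit 4) (Steps.fwd (nat_lit 2359296) (Steps.fwd (nat_lit 1048576) (Steps.bwd (nat_lit 9) (Steps.fwd (nat_lit 1048576) (Steps.fwd (nat_lit 2359296) (Steps.fwd (nat_lit 1048576) (Steps.fwd (nat_lit 2097152) (Steps.fwd (nat_lit 1048576) (Steps.fwd (nat_lit 2359296) Steps.nil))))))))))))))) (nat_lit 106) (nat_lit 2),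
  Rule.mk (nat_lit 6) (nat_lit 154) (Steps.bwd (nat_lit 3) (Steps.fwd (nat_lit 1310720) (Steps.bwd (nat_lit 3) (Steps.fwd (nat_lit 1835008) (Steps.bwd (nat_lit 6) (Steps.fwd (nat_lit 524288) (Steps.bwd (nat_lit 5) Steps.nil))))))) (nat_lit 83) (nat_lit 5),
  Rule.mk (nat_lit 7) (nat_lit 94) (Steps.fwd (nat_lit 1572864) (Steps.fwd (nat_lit 1310720) (Steps.bwd (nat_lit 6) (Steps.bwd (nat_lit 5) Steps.nil)))) (nat_lit 24) (nat_lit 0),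
  Rule.mk (nat_lit 6) (nat_lit 274) (Steps.bwd (nat_lit 1) (Steps.bwd (nat_lit 6) (Steps.fwd (nat_lit 1310720) (Steps.bwd (nat_lit 2) (Steps.fwd (nat_lit 262144) (Steps.fwd (nat_lit 1572864) (Steps.bwd (nat_lit 1) (Steps.bwd (nat_lit 2) (Steps.fwd (nat_lit 262144) (Steps.bwd (nat_lit 6) (Steps.fwd (nat_lit 262144) (Steps.bwd (nat_lit 2) (Steps.fwd (nat_lit 262144) Steps.nil))))))))))))) (nat_lit 34) (nat_lit 11),
  Rule.mk (nat_lit 4) (nat_lit 154) (Steps.fwd (nat_lit 262144) (Steps.bwd (nat_lit 6) (Steps.fwd (nat_lit 262144) (Steps.bwd (nat_lit 4) (Steps.bwd (nat_lit 1) (Steps.bwd (nat_lit 6) (Steps.bwd (nat_lit 1) Steps.nil))))))) (nat_lit 74) (nat_lit 2),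
  Rule.mk (nat_lit 6) (nat_lit 154) (Steps.bwd (nat_lit 3) (Steps.fwd (nat_lit 1310720) (Steps.bwd (nat_lit 3) (Steps.bwd (nat_lit 7) (Steps.bwd (nat_lit 6) (Steps.fwd (nat_lit 524288) (Steps.fwd (nat_lit 1310720) Steps.nil))))))) (nat_lit 83) (nat_lit 5),
  Rule.mk (nat_lit 4) (nat_lit 314) (Steps.bwd (nat_lit 9) (Steps.bwd (nat_lit 4) (Steps.bwd (nat_lit 8) (Steps.bwd (nat_lit 4) (Steps.bwd (nat_lit 9) (Steps.bwd (nat_lit 4) (Steps.fwd (nat_lit 2359296) (Steps.bwd (nat_lit 4) (Steps.bwd (nat_lit 9) (Steps.fwd (nat_lit 1048576) (Steps.fwd (nat_lit 2359296) (Steps.fwd (nat_lit 1048576) (Steps.fwd (nat_lit 2097152) (Steps.fwd (nat_lit 1048576) (Steps.fwd (nat_lit 2359296) Steps.nil))))))))))))))) (nat_lit 106) (nat_lit 2),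
  Rule.mk (nat_lit 4) (nat_lit 314) (Steps.bwd (nat_lit 9) (Steps.bwd (nat_lit 4) (Steps.bwd (nat_lit 8) (Steps.bwd (nat_lit 4) (Steps.bwd (nat_lit 9) (Steps.fwd (nat_lit 1048576) (Steps.fwd (nat_lit 2359296) (Steps.fwd (nat_lit 1048576) (Steps.fwd (nat_lit 2097152) (Steps.bwd (nat_lit 4) (Steps.bwd (nat_lit 8) (Steps.bwd (nat_lit 4) (Steps.bwd (nat_lit 9) (Steps.fwd (nat_lit 1048576) (Steps.fwd (nat_lit 2359296) Steps.nil))))))))))))))) (nat_lit 106) (nat_lit 2),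
  Rule.mk (nat_lit 4) (nat_lit 114) (Steps.fwd (nat_lit 524288) (Steps.bwd (nat_lit 5) (Steps.bwd (nat_lit 4) (Steps.fwd (nat_lit 524288) (Steps.bwd (nat_lit 6) Steps.nil))))) (nat_lit 55) (nat_lit 2),
  Rule.mk (nat_lit 4) (nat_lit 114) (Steps.fwd (nat_lit 786432) (Steps.bwd (nat_lit 7) (Steps.bwd (nat_lit 4) (Steps.fwd (nat_lit 786432) (Steps.fwd (nat_lit 1835008) Steps.nil))))) (nat_lit 64) (nat_lit 0),
  Rule.mk (nat_lit 4) (nat_lit 154) (Steps.fwd (nat_lit 524288) (Steps.bwd (nat_lit 7) (Steps.bwd (nat_lit 5) (Steps.bwd (nat_lit 4) (Steps.fwd (nat_lit 524288) (Steps.bwd (nat_lit 7) (Steps.bwd (nat_lit 6) Steps.nil))))))) (nat_lit 79) (nat_lit 3),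
  Rule.mk (nat_lit 4) (nat_lit 114) (Steps.fwd (nat_lit 1835008) (Steps.bwd (nat_lit 5) (Steps.bwd (nat_lit 4) (Steps.bwd (nat_lit 7) (Steps.fwd (nat_lit 1572864) Steps.nil))))) (nat_lit 67) (nat_lit 3),
  Rule.mk (nat_lit 4) (nat_lit 314) (Steps.bwd (nat_lit 8) (Steps.bwd (nat_lit 4) (Steps.bwd (nat_lit 9) (Steps.fwd (nat_lit 1048576) (Steps.fwd (nat_lit 2359296) (Steps.bwd (nat_lit 4) (Steps.bwd (nat_lit 9) (Steps.bwd (nat_lit 4) (Steps.bwd (nat_lit 8) (Steps.bwd (nat_lit 4) (Steps.bwd (nat_lit 9) (Steps.fwd (nat_lit 1048576) (Steps.fwd (nat_lit 2359296) (Steps.fwd (nat_lit 1048576) (Steps.fwd (nat_lit 2097152) Steps.nil))))))))))))))) (nat_lit 106) (nat_lit 0),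
  Rule.mk (nat_lit 4) (nat_lit 114) (Steps.fwd (nat_lit 786432) (Steps.fwd (nat_lit 1572864) (Steps.bwd (nat_lit 4) (Steps.fwd (nat_lit 786432) (Steps.bwd (nat_lit 5) Steps.nil))))) (nat_lit 58) (nat_lit 3),
  Rule.mk (nat_lit 4) (nat_lit 114) (Steps.fwd (nat_lit 786432) (Steps.bwd (nat_lit 5) (Steps.bwd (nat_lit 4) (Steps.fwd (nat_lit 786432) (Steps.bwd (nat_lit 6) Steps.nil))))) (nat_lit 58) (nat_lit 0),
  Rule.mk (nat_lit 4) (nat_lit 114) (Steps.fwd (nat_lit 1310720) (Steps.bwd (nat_lit 2) (Steps.fwd (nat_lit 1048576) (Steps.fwd (nat_lit 1572864) (Steps.bwd (nat_lit 2) Steps.nil))))) (nat_lit 54) (nat_lit 2),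
  Rule.mk (nat_lit 4) (nat_lit 154) (Steps.fwd (nat_lit 786432) (Steps.fwd (nat_lit 1835008) (Steps.bwd (nat_lit 5) (Steps.fwd (nat_lit 1048576) (Steps.fwd (nat_lit 786432) (Steps.fwd (nat_lit 1835008) (Steps.bwd (nat_lit 6) Steps.nil))))))) (nat_lit 92) (nat_lit 0),
  Rule.mk (nat_lit 7) (nat_lit 94) (Steps.fwd (nat_lit 1572864) (Steps.bwd (nat_lit 5) (Steps.fwd (nat_lit 1572864) (Steps.bwd (nat_lit 5) Steps.nil)))) (nat_lit 24) (nat_lit 0),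
  Rule.mk (nat_lit 4) (nat_lit 314) (Steps.bwd (nat_lit 8) (Steps.bwd (nat_lit 4) (Steps.bwd (nat_lit 9) (Steps.bwd (nat_lit 4) (Steps.bwd (nat_lit 8) (Steps.bwd (nat_lit 4) (Steps.fwd (nat_lit 2097152) (Steps.fwd (nat_lit 1048576) (Steps.bwd (nat_lit 8) (Steps.bwd (nat_lit 4) (Steps.fwd (nat_lit 2097152) (Steps.fwd (nat_lit 1048576) (Steps.fwd (nat_lit 2359296) (Steps.fwd (nat_lit 1048576) (Steps.fwd (nat_lit 2097152) Steps.nil))))))))))))))) (nat_lit 106) (nat_lit 0),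
  Rule.mk (nat_lit 4) (nat_lit 314) (Steps.bwd (nat_lit 8) (Steps.bwd (nat_lit 4) (Steps.bwd (nat_lit 9) (Steps.bwd (nat_lit 4) (Steps.bwd (nat_lit 8) (Steps.fwd (nat_lit 1048576) (Steps.fwd (nat_lit 2097152) (Steps.fwd (nat_lit 1048576) (Steps.bwd (nat_lit 8) (Steps.fwd (nat_lit 1048576) (Steps.fwd (nat_lit 2097152) (Steps.fwd (nat_lit 1048576) (Steps.fwd (nat_lit 2359296) (Steps.fwd (nat_lit 1048576) (Steps.fwd (nat_lit 2097152) Steps.nil))))))))))))))) (nat_lit 106) (nat_lit 0),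
  Rule.mk (nat_lit 4) (nat_lit 114) (Steps.fwd (nat_lit 786432) (Steps.bwd (nat_lit 7) (Steps.fwd (nat_lit 1048576) (Steps.fwd (nat_lit 786432) (Steps.bwd (nat_lit 7) Steps.nil))))) (nat_lit 64) (nat_lit 0),
  Rule.mk (nat_lit 4) (nat_lit 314) (Steps.bwd (nat_lit 9) (Steps.bwd (nat_lit 4) (Steps.fwd (nat_lit 2359296) (Steps.fwd (nat_lit 1048576) (Steps.fwd (nat_lit 2097152) (Steps.bwd (nat_lit 4) (Steps.bwd (nat_lit 8) (Steps.bwd (nat_lit 4) (Steps.bwd (nat_lit 9) (Steps.bwd (nat_lit 4) (Steps.fwd (nat_lit 2359296) (Steps.fwd (nat_lit 1048576) (Steps.fwd (nat_lit 2097152) (Steps.fwd (nat_lit 1048576) (Steps.fwd (nat_lit 2359296) Steps.nil))))))))))))))) (nat_lit 106) (nat_lit 2),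
  Rule.mk (nat_lit 4) (nat_lit 314) (Steps.bwd (nat_lit 9) (Steps.bwd (nat_lit 4) (Steps.bwd (nat_lit 8) (Steps.bwd (nat_lit 4) (Steps.bwd (nat_lit 9) (Steps.fwd (nat_lit 1048576) (Steps.fwd (nat_lit 2359296) (Steps.fwd (nat_lit 1048576) (Steps.fwd (nat_lit 2097152) (Steps.bwd (nat_lit 4) (Steps.fwd (nat_lit 2359296) (Steps.fwd (nat_lit 1048576) (Steps.fwd (nat_lit 2097152) (Steps.fwd (nat_lit 1048576) (Steps.fwd (nat_lit 2359296) Steps.nil))))))))))))))) (nat_lit 106) (nat_lit 2),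
  Rule.mk (nat_lit 7) (nat_lit 114) (Steps.fwd (nat_lit 786432) (Steps.bwd (nat_lit 6) (Steps.bwd (nat_lit 7) (Steps.bwd (nat_lit 3) (Steps.bwd (nat_lit 6) Steps.nil))))) (nat_lit 62) (nat_lit 0),
  Rule.mk (nat_lit 4) (nat_lit 314) (Steps.bwd (nat_lit 8) (Steps.bwd (nat_lit 4) (Steps.bwd (nat_lit 9) (Steps.bwd (nat_lit 4) (Steps.bwd (nat_lit 8) (Steps.bwd (nat_lit 4) (Steps.fwd (nat_lit 2097152) (Steps.fwd (nat_lit 1048576) (Steps.fwd (nat_lit 2359296) (Steps.bwd (nat_lit 4) (Steps.fwd (nat_lit 2097152) (Steps.fwd (nat_lit 1048576) (Steps.fwd (nat_lit 2359296) (Steps.fwd (nat_lit 1048576) (Steps.fwd (nat_lit 2097152) Steps.nil))))))))))))))) (nat_lit 106) (nat_lit 0),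
  Rule.mk (nat_lit 4) (nat_lit 314) (Steps.bwd (nat_lit 8) (Steps.bwd (nat_lit 4) (Steps.bwd (nat_lit 9) (Steps.bwd (nat_lit 4) (Steps.fwd (nat_lit 2359296) (Steps.fwd (nat_lit 1048576) (Steps.fwd (nat_lit 2097152) (Steps.fwd (nat_lit 1048576) (Steps.fwd (nat_lit 2359296) (Steps.bwd (nat_lit 4) (Steps.bwd (nat_lit 9) (Steps.bwd (nat_lit 4) (Steps.fwd (nat_lit 2359296) (Steps.fwd (nat_lit 1048576) (Steps.fwd (nat_lit 2097152) Steps.nil))))))))))))))) (nat_lit 106) (nat_lit 0),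
  Rule.mk (nat_lit 6) (nat_lit 74) (Steps.fwd (nat_lit 1835008) (Steps.fwd (nat_lit 1572864) (Steps.bwd (nat_lit 7) Steps.nil))) (nat_lit 48) (nat_lit 1),
  Rule.mk (nat_lit 6) (nat_lit 74) (Steps.fwd (nat_lit 1835008) (Steps.bwd (nat_lit 6) (Steps.bwd (nat_lit 7) Steps.nil))) (nat_lit 48) (nat_lit 1),
  Rule.mk (nat_lit 6) (nat_lit 114) (Steps.fwd (nat_lit 786432) (Steps.fwd (nat_lit 1835008) (Steps.bwd (nat_lit 6) (Steps.fwd (nat_lit 524288) (Steps.bwd (nat_lit 7) Steps.nil))))) (nat_lit 63) (nat_lit 2),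
  Rule.mk (nat_lit 1) (nat_lit 274) (Steps.bwd (nat_lit 6) (Steps.bwd (nat_lit 5) (Steps.bwd (nat_lit 2) (Steps.bwd (nat_lit 1) (Steps.bwd (nat_lit 6) (Steps.fwd (nat_lit 262144) (Steps.fwd (nat_lit 786432) (Steps.bwd (nat_lit 1) (Steps.fwd (nat_lit 1572864) (Steps.fwd (nat_lit 262144) (Steps.fwd (nat_lit 786432) (Steps.fwd (nat_lit 262144) (Steps.fwd (nat_lit 1572864) Steps.nil))))))))))))) (nat_lit 34) (nat_lit 12),
  Rule.mk (nat_lit 7) (nat_lit 74) (Steps.fwd (nat_lit 786432) (Steps.fwd (nat_lit 1835008) (Steps.bwd (nat_lit 3) Steps.nil))) (nat_lit 28) (nat_lit 1),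
  Rule.mk (nat_lit 1) (nat_lit 274) (Steps.fwd (nat_lit 786432) (Steps.fwd (nat_lit 262144) (Steps.bwd (nat_lit 6) (Steps.bwd (nat_lit 1) (Steps.bwd (nat_lit 6) (Steps.bwd (nat_lit 5) (Steps.fwd (nat_lit 786432) (Steps.bwd (nat_lit 1) (Steps.bwd (nat_lit 6) (Steps.bwd (nat_lit 1) (Steps.bwd (nat_lit 2) (Steps.bwd (nat_lit 1) (Steps.bwd (nat_lit 6) Steps.nil))))))))))))) (nat_lit 34) (nat_lit 8),
  Rule.mk (nat_lit 6) (nat_lit 274) (Steps.bwd (nat_lit 1) (Steps.fwd (nat_lit 524288) (Steps.fwd (nat_lit 262144) (Steps.bwd (nat_lit 6) (Steps.fwd (nat_lit 262144) (Steps.bwd (nat_lit 3) (Steps.fwd (nat_lit 1310720) (Steps.bwd (nat_lit 6) (Steps.bwd (nat_lit 1) (Steps.bwd (nat_lit 6) (Steps.bwd (nat_lit 1) (Steps.fwd (nat_lit 524288) (Steps.fwd (nat_lit 262144) Steps.nil))))))))))))) (nat_lit 35) (nat_lit 8),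
  Rule.mk (nat_lit 3) (nat_lit 154) (Steps.bwd (nat_lit 1) (Steps.bwd (nat_lit 3) (Steps.fwd (nat_lit 1835008) (Steps.fwd (nat_lit 262144) (Steps.bwd (nat_lit 3) (Steps.fwd (nat_lit 262144) (Steps.bwd (nat_lit 7) Steps.nil))))))) (nat_lit 73) (nat_lit 2),
  Rule.mk (nat_lit 1) (nat_lit 274) (Steps.bwd (nat_lit 6) (Steps.bwd (nat_lit 1) (Steps.bwd (nat_lit 6) (Steps.fwd (nat_lit 1310720) (Steps.fwd (nat_lit 786432) (Steps.fwd (nat_lit 262144) (Steps.fwd (nat_lit 1572864) (Steps.bwd (nat_lit 1) (Steps.fwd (nat_lit 786432) (Steps.fwd (nat_lit 262144) (Steps.bwd (nat_lit 6) (Steps.bwd (nat_lit 1) (Steps.bwd (nat_lit 2) Steps.nil))))))))))))) (nat_lit 34) (nat_lit 10),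
  Rule.mk (nat_lit 6) (nat_lit 274) (Steps.bwd (nat_lit 1) (Steps.bwd (nat_lit 6) (Steps.bwd (nat_lit 5) (Steps.bwd (nat_lit 2) (Steps.bwd (nat_lit 1) (Steps.fwd (nat_lit 1572864) (Steps.bwd (nat_lit 1) (Steps.bwd (nat_lit 2) (Steps.fwd (nat_lit 262144) (Steps.bwd (nat_lit 6) (Steps.bwd (nat_lit 1) (Steps.fwd (nat_lit 786432) (Steps.fwd (nat_lit 262144) Steps.nil))))))))))))) (nat_lit 34) (nat_lit 11),
  Rule.mk (nat_lit 1) (nat_lit 114) (Steps.fwd (nat_lit 524288) (Steps.bwd (nat_lit 1) (Steps.bwd (nat_lit 3) (Steps.bwd (nat_lit 1) (Steps.bwd (nat_lit 3) Steps.nil))))) (nat_lit 13) (nat_lit 0),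
  Rule.mk (nat_lit 1) (nat_lit 154) (Steps.bwd (nat_lit 2) (Steps.bwd (nat_lit 1) (Steps.fwd (nat_lit 524288) (Steps.fwd (nat_lit 262144) (Steps.bwd (nat_lit 2) (Steps.fwd (nat_lit 262144) (Steps.fwd (nat_lit 524288) Steps.nil))))))) (nat_lit 68) (nat_lit 1),
  Rule.mk (nat_lit 6) (nat_lit 274) (Steps.bwd (nat_lit 1) (Steps.bwd (nat_lit 3) (Steps.fwd (nat_lit 262144) (Steps.bwd (nat_lit 6) (Steps.fwd (nat_lit 262144) (Steps.bwd (nat_lit 3) (Steps.fwd (nat_lit 1310720) (Steps.bwd (nat_lit 6) (Steps.fwd (nat_lit 262144) (Steps.fwd (nat_lit 1572864) (Steps.fwd (nat_lit 262144) (Steps.fwd (nat_lit 524288) (Steps.fwd (nat_lit 262144) Steps.nil))))))))))))) (nat_lit 35) (nat_lit 8),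
  Rule.mk (nat_lit 1) (nat_lit 274) (Steps.bwd (nat_lit 6) (Steps.bwd (nat_lit 5) (Steps.fwd (nat_lit 786432) (Steps.fwd (nat_lit 262144) (Steps.fwd (nat_lit 1572864) (Steps.fwd (nat_lit 262144) (Steps.bwd (nat_lit 2) (Steps.bwd (nat_lit 1) (Steps.fwd (nat_lit 1572864) (Steps.bwd (nat_lit 1) (Steps.fwd (nat_lit 786432) (Steps.fwd (nat_lit 262144) (Steps.fwd (nat_lit 1572864) Steps.nil))))))))))))) (nat_lit 34) (nat_lit 12),
  Rule.mk (nat_lit 3) (nat_lit 154) (Steps.bwd (nat_lit 1) (Steps.bwd (nat_lit 3) (Steps.fwd (nat_lit 1835008) (Steps.fwd (nat_lit 262144) (Steps.fwd (nat_lit 524288) (Steps.fwd (nat_lit 262144) (Steps.bwd (nat_lit 7) Steps.nil))))))) (nat_lit 73) (nat_lit 2),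
  Rule.mk (nat_lit 6) (nat_lit 274) (Steps.bwd (nat_lit 1) (Steps.fwd (nat_lit 1572864) (Steps.bwd (nat_lit 5) (Steps.bwd (nat_lit 2) (Steps.bwd (nat_lit 1) (Steps.bwd (nat_lit 6) (Steps.bwd (nat_lit 1) (Steps.bwd (nat_lit 2) (Steps.fwd (nat_lit 262144) (Steps.bwd (nat_lit 6) (Steps.fwd (nat_lit 262144) (Steps.fwd (nat_lit 786432) (Steps.fwd (nat_lit 262144) Steps.nil))))))))))))) (nat_lit 34) (nat_lit 11)]
noncomputable def R_20 : List (Rule) := [Rule.mk (nat_lit 6) (nat_lit 274) (Steps.bwd (nat_lit 1) (Steps.fwd (nat_lit 1572864) (Steps.fwd (nat_lit 1310720) (Steps.bwd (nat_lit 2) (Steps.bwd (nat_lit 1) (Steps.fwd (nat_lit 1572864) (Steps.fwd (nat_lit 262144) (Steps.bwd (nat_lit 2) (Steps.bwd (nat_lit 1) (Steps.fwd (nat_lit 1572864) (Steps.fwd (nat_lit 262144) (Steps.bwd (nat_lit 2) (Steps.bwd (nat_lit 1) Steps.nil))))))))))))) (nat_lit 34) (nat_lit 11),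
  Rule.mk (nat_lit 1) (nat_lit 154) (Steps.fwd (nat_lit 786432) (Steps.bwd (nat_lit 1) (Steps.fwd (nat_lit 524288) (Steps.bwd (nat_lit 1) (Steps.fwd (nat_lit 786432) (Steps.fwd (nat_lit 262144) (Steps.bwd (nat_lit 3) Steps.nil))))))) (nat_lit 68) (nat_lit 1),
  Rule.mk (nat_lit 1) (nat_lit 274) (Steps.bwd (nat_lit 6) (Steps.bwd (nat_lit 1) (Steps.fwd (nat_lit 524288) (Steps.fwd (nat_lit 1310720) (Steps.fwd (nat_lit 1572864) (Steps.fwd (nat_lit 262144) (Steps.fwd (nat_lit 1572864) (Steps.bwd (nat_lit 1) (Steps.fwd (nat_lit 524288) (Steps.fwd (nat_lit 262144) (Steps.fwd (nat_lit 1572864) (Steps.fwd (nat_lit 262144) (Steps.bwd (nat_lit 3) Steps.nil))))))))))))) (nat_lit 35) (nat_lit 11),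
  Rule.mk (nat_lit 1) (nat_lit 154) (Steps.bwd (nat_lit 6) (Steps.fwd (nat_lit 262144) (Steps.bwd (nat_lit 4) (Steps.fwd (nat_lit 262144) (Steps.fwd (nat_lit 1572864) (Steps.fwd (nat_lit 262144) (Steps.bwd (nat_lit 4) Steps.nil))))))) (nat_lit 74) (nat_lit 3),
  Rule.mk (nat_lit 1) (nat_lit 274) (Steps.bwd (nat_lit 6) (Steps.bwd (nat_lit 1) (Steps.fwd (nat_lit 524288) (Steps.fwd (nat_lit 1310720) (Steps.bwd (nat_lit 6) (Steps.fwd (nat_lit 262144) (Steps.fwd (nat_lit 1572864) (Steps.bwd (nat_lit 1) (Steps.fwd (nat_lit 524288) (Steps.bwd (nat_lit 1) (Steps.fwd (nat_lit 1572864) (Steps.fwd (nat_lit 262144) (Steps.bwd (nat_lit 3) Steps.nil))))))))))))) (nat_lit 35) (nat_lit 11),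
  Rule.mk (nat_lit 1) (nat_lit 154) (Steps.fwd (nat_lit 786432) (Steps.bwd (nat_lit 1) (Steps.fwd (nat_lit 1310720) (Steps.bwd (nat_lit 2) (Steps.fwd (nat_lit 262144) (Steps.bwd (nat_lit 2) (Steps.bwd (nat_lit 5) Steps.nil))))))) (nat_lit 70) (nat_lit 1),
  Rule.mk (nat_lit 1) (nat_lit 274) (Steps.bwd (nat_lit 6) (Steps.fwd (nat_lit 1310720) (Steps.bwd (nat_lit 2) (Steps.bwd (nat_lit 1) (Steps.fwd (nat_lit 1572864) (Steps.fwd (nat_lit 262144) (Steps.bwd (nat_lit 2) (Steps.bwd (nat_lit 1) (Steps.bwd (nat_lit 6) (Steps.fwd (nat_lit 262144) (Steps.fwd (nat_lit 786432) (Steps.bwd (nat_lit 1) (Steps.bwd (nat_lit 6) Steps.nil))))))))))))) (nat_lit 34) (nat_lit 12),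
  Rule.mk (nat_lit 1) (nat_lit 274) (Steps.bwd (nat_lit 6) (Steps.bwd (nat_lit 1) (Steps.fwd (nat_lit 524288) (Steps.bwd (nat_lit 5) (Steps.fwd (nat_lit 1572864) (Steps.fwd (nat_lit 262144) (Steps.fwd (nat_lit 1572864) (Steps.bwd (nat_lit 1) (Steps.bwd (nat_lit 3) (Steps.fwd (nat_lit 262144) (Steps.bwd (nat_lit 6) (Steps.fwd (nat_lit 262144) (Steps.bwd (nat_lit 3) Steps.nil))))))))))))) (nat_lit 35) (nat_lit 11),
  Rule.mk (nat_lit 1) (nat_lit 274) (Steps.bwd (nat_lit 6) (Steps.fwd (nat_lit 1310720) (Steps.bwd (nat_lit 2) (Steps.bwd (nat_lit 1) (Steps.fwd (nat_lit 1572864) (Steps.fwd (nat_lit 262144) (Steps.bwd (nat_lit 2) (Steps.bwd (nat_lit 1) (Steps.fwd (nat_lit 1572864) (Steps.fwd (nat_lit 262144) (Steps.fwd (nat_lit 786432) (Steps.fwd (nat_lit 262144) (Steps.fwd (nat_lit 1572864) Steps.nil))))))))))))) (nat_lit 34) (nat_lit 12),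
  Rule.mk (nat_lit 1) (nat_lit 274) (Steps.bwd (nat_lit 6) (Steps.bwd (nat_lit 1) (Steps.fwd (nat_lit 524288) (Steps.fwd (nat_lit 1310720) (Steps.bwd (nat_lit 6) (Steps.fwd (nat_lit 262144) (Steps.fwd (nat_lit 1572864) (Steps.bwd (nat_lit 1) (Steps.bwd (nat_lit 3) (Steps.fwd (nat_lit 262144) (Steps.bwd (nat_lit 6) (Steps.bwd (nat_lit 1) (Steps.bwd (nat_lit 3) Steps.nil))))))))))))) (nat_lit 35) (nat_lit 11),
  Rule.mk (nat_lit 6) (nat_lit 274) (Steps.bwd (nat_lit 1) (Steps.fwd (nat_lit 524288) (Steps.fwd (nat_lit 262144) (Steps.fwd (nat_lit 1572864) (Steps.bwd (nat_lit 1) (Steps.bwd (nat_lit 3) (Steps.bwd (nat_lit 5) (Steps.bwd (nat_lit 6) (Steps.bwd (nat_lit 1) (Steps.bwd (nat_lit 6) (Steps.bwd (nat_lit 1) (Steps.fwd (nat_lit 524288) (Steps.fwd (nat_lit 262144) Steps.nil))))))))))))) (nat_lit 35) (nat_lit 8),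
  Rule.mk (nat_lit 1) (nat_lit 274) (Steps.fwd (nat_lit 524288) (Steps.bwd (nat_lit 1) (Steps.fwd (nat_lit 1572864) (Steps.fwd (nat_lit 262144) (Steps.bwd (nat_lit 3) (Steps.bwd (nat_lit 5) (Steps.fwd (nat_lit 1572864) (Steps.bwd (nat_lit 1) (Steps.bwd (nat_lit 6) (Steps.bwd (nat_lit 1) (Steps.fwd (nat_lit 524288) (Steps.bwd (nat_lit 1) (Steps.bwd (nat_lit 6) Steps.nil))))))))))))) (nat_lit 35) (nat_lit 9),
  Rule.mk (nat_lit 1) (nat_lit 274) (Steps.bwd (nat_lit 6) (Steps.bwd (nat_lit 1) (Steps.bwd (nat_lit 6) (Steps.fwd (nat_lit 1310720) (Steps.fwd (nat_lit 786432) (Steps.fwd (nat_lit 262144) (Steps.fwd (nat_lit 1572864) (Steps.bwd (nat_lit 1) (Steps.bwd (nat_lit 2) (Steps.bwd (nat_lit 1) (Steps.fwd (nat_lit 1572864) (Steps.bwd (nat_lit 1) (Steps.bwd (nat_lit 2) Steps.nil))))))))))))) (nat_lit 34) (nat_lit 10),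
  Rule.mk (nat_lit 1) (nat_lit 274) (Steps.bwd (nat_lit 6) (Steps.bwd (nat_lit 1) (Steps.bwd (nat_lit 6) (Steps.fwd (nat_lit 1310720) (Steps.fwd (nat_lit 786432) (Steps.fwd (nat_lit 262144) (Steps.fwd (nat_lit 1572864) (Steps.fwd (nat_lit 262144) (Steps.fwd (nat_lit 786432) (Steps.fwd (nat_lit 262144) (Steps.fwd (nat_lit 1572864) (Steps.bwd (nat_lit 1) (Steps.bwd (nat_lit 2) Steps.nil))))))))))))) (nat_lit 34) (nat_lit 10),
  Rule.mk (nat_lit 6) (nat_lit 274) (Steps.bwd (nat_lit 1) (Steps.fwd (nat_lit 1572864) (Steps.bwd (nat_lit 5) (Steps.bwd (nat_lit 2) (Steps.bwd (nat_lit 1) (Steps.fwd (nat_lit 1572864) (Steps.bwd (nat_lit 1) (Steps.bwd (nat_lit 2) (Steps.fwd (nat_lit 262144) (Steps.bwd (nat_lit 6) (Steps.bwd (nat_lit 1) (Steps.fwd (nat_lit 786432) (Steps.fwd (nat_lit 262144) Steps.nil))))))))))))) (nat_lit 34) (nat_lit 11),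
  Rule.mk (nat_lit 1) (nat_lit 274) (Steps.fwd (nat_lit 1572864) (Steps.bwd (nat_lit 5) (Steps.bwd (nat_lit 2) (Steps.fwd (nat_lit 262144) (Steps.bwd (nat_lit 6) (Steps.bwd (nat_lit 1) (Steps.fwd (nat_lit 786432) (Steps.fwd (nat_lit 262144) (Steps.bwd (nat_lit 6) (Steps.bwd (nat_lit 1) (Steps.bwd (nat_lit 2) (Steps.fwd (nat_lit 262144) (Steps.bwd (nat_lit 6) Steps.nil))))))))))))) (nat_lit 34) (nat_lit 12),
  Rule.mk (nat_lit 6) (nat_lit 274) (Steps.bwd (nat_lit 1) (Steps.fwd (nat_lit 1572864) (Steps.bwd (nat_lit 5) (Steps.fwd (nat_lit 786432) (Steps.bwd (nat_lit 1) (Steps.fwd (nat_lit 1572864) (Steps.bwd (nat_lit 1) (Steps.bwd (nat_lit 2) (Steps.fwd (nat_lit 262144) (Steps.bwd (nat_lit 6) (Steps.bwd (nat_lit 1) (Steps.fwd (nat_lit 786432) (Steps.fwd (nat_lit 262144) Steps.nil))))))))))))) (nat_lit 34) (nat_lit 11),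
  Rule.mk (nat_lit 1) (nat_lit 274) (Steps.fwd (nat_lit 524288) (Steps.bwd (nat_lit 1) (Steps.fwd (nat_lit 1572864) (Steps.fwd (nat_lit 262144) (Steps.bwd (nat_lit 3) (Steps.fwd (nat_lit 1310720) (Steps.fwd (nat_lit 1572864) (Steps.bwd (nat_lit 1) (Steps.fwd (nat_lit 1572864) (Steps.bwd (nat_lit 1) (Steps.fwd (nat_lit 524288) (Steps.bwd (nat_lit 1) (Steps.bwd (nat_lit 6) Steps.nil))))))))))))) (nat_lit 35) (nat_lit 9),
  Rule.mk (nat_lit 1) (nat_lit 274) (Steps.bwd (nat_lit 6) (Steps.bwd (nat_lit 1) (Steps.fwd (nat_lit 1572864) (Steps.bwd (nat_lit 5) (Steps.fwd (nat_lit 786432) (Steps.fwd (nat_lit 262144) (Steps.bwd (nat_lit 6) (Steps.bwd (nat_lit 1) (Steps.bwd (nat_lit 2) (Steps.bwd (nat_lit 1) (Steps.fwd (nat_lit 1572864) (Steps.bwd (nat_lit 1) (Steps.bwd (nat_lit 2) Steps.nil))))))))))))) (nat_lit 34) (nat_lit 10),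
  Rule.mk (nat_lit 1) (nat_lit 274) (Steps.fwd (nat_lit 1572864) (Steps.fwd (nat_lit 1310720) (Steps.bwd (nat_lit 2) (Steps.fwd (nat_lit 262144) (Steps.bwd (nat_lit 6) (Steps.bwd (nat_lit 1) (Steps.fwd (nat_lit 786432) (Steps.fwd (nat_lit 262144) (Steps.bwd (nat_lit 6) (Steps.bwd (nat_lit 1) (Steps.bwd (nat_lit 2) (Steps.bwd (nat_lit 1) (Steps.bwd (nat_lit 6) Steps.nil))))))))))))) (nat_lit 34) (nat_lit 12),
  Rule.mk (nat_lit 6) (nat_lit 74) (Steps.fwd (nat_lit 2097152) (Steps.fwd (nat_lit 1572864) (Steps.bwd (nat_lit 9) Steps.nil))) (nat_lit 103) (nat_lit 0),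
  Rule.mk (nat_lit 1) (nat_lit 154) (Steps.bwd (nat_lit 2) (Steps.bwd (nat_lit 1) (Steps.bwd (nat_lit 5) (Steps.bwd (nat_lit 2) (Steps.fwd (nat_lit 262144) (Steps.bwd (nat_lit 2) (Steps.fwd (nat_lit 1310720) Steps.nil))))))) (nat_lit 70) (nat_lit 1),
  Rule.mk (nat_lit 1) (nat_lit 154) (Steps.bwd (nat_lit 2) (Steps.bwd (nat_lit 1) (Steps.bwd (nat_lit 7) (Steps.bwd (nat_lit 2) (Steps.fwd (nat_lit 262144) (Steps.bwd (nat_lit 2) (Steps.fwd (nat_lit 1835008) Steps.nil))))))) (nat_lit 72) (nat_lit 1),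
  Rule.mk (nat_lit 3) (nat_lit 154) (Steps.bwd (nat_lit 1) (Steps.fwd (nat_lit 524288) (Steps.fwd (nat_lit 1310720) (Steps.fwd (nat_lit 262144) (Steps.fwd (nat_lit 524288) (Steps.fwd (nat_lit 262144) (Steps.bwd (nat_lit 5) Steps.nil))))))) (nat_lit 71) (nat_lit 2),
  Rule.mk (nat_lit 6) (nat_lit 74) (Steps.fwd (nat_lit 786432) (Steps.fwd (nat_lit 1572864) (Steps.bwd (nat_lit 3) Steps.nil))) (nat_lit 40) (nat_lit 0),
  Rule.mk (nat_lit 9) (nat_lit 74) (Steps.fwd (nat_lit 786432) (Steps.bwd (nat_lit 8) (Steps.bwd (nat_lit 3) Steps.nil))) (nat_lit 97) (nat_lit 0),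
  Rule.mk (nat_lit 6) (nat_lit 154) (Steps.bwd (nat_lit 3) (Steps.fwd (nat_lit 1310720) (Steps.fwd (nat_lit 524288) (Steps.bwd (nat_lit 7) (Steps.bwd (nat_lit 6) (Steps.fwd (nat_lit 524288) (Steps.fwd (nat_lit 1310720) Steps.nil))))))) (nat_lit 83) (nat_lit 5),
  Rule.mk (nat_lit 1) (nat_lit 154) (Steps.fwd (nat_lit 786432) (Steps.bwd (nat_lit 1) (Steps.bwd (nat_lit 5) (Steps.bwd (nat_lit 2) (Steps.fwd (nat_lit 262144) (Steps.bwd (nat_lit 2) (Steps.bwd (nat_lit 5) Steps.nil))))))) (nat_lit 70) (nat_lit 1),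
  Rule.mk (nat_lit 1) (nat_lit 154) (Steps.fwd (nat_lit 786432) (Steps.bwd (nat_lit 1) (Steps.bwd (nat_lit 7) (Steps.bwd (nat_lit 2) (Steps.fwd (nat_lit 262144) (Steps.bwd (nat_lit 2) (Steps.bwd (nat_lit 7) Steps.nil))))))) (nat_lit 72) (nat_lit 1),
  Rule.mk (nat_lit 1) (nat_lit 154) (Steps.fwd (nat_lit 786432) (Steps.bwd (nat_lit 1) (Steps.fwd (nat_lit 1310720) (Steps.fwd (nat_lit 786432) (Steps.fwd (nat_lit 262144) (Steps.bwd (nat_lit 2) (Steps.bwd (nat_lit 5) Steps.nil))))))) (nat_lit 70) (nat_lit 1),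
  Rule.mk (nat_lit 3) (nat_lit 74) (Steps.fwd (nat_lit 2359296) (Steps.fwd (nat_lit 786432) (Steps.bwd (nat_lit 9) Steps.nil))) (nat_lit 96) (nat_lit 0),
  Rule.mk (nat_lit 1) (nat_lit 154) (Steps.bwd (nat_lit 5) (Steps.fwd (nat_lit 524288) (Steps.bwd (nat_lit 1) (Steps.bwd (nat_lit 3) (Steps.bwd (nat_lit 5) (Steps.fwd (nat_lit 262144) (Steps.bwd (nat_lit 3) Steps.nil))))))) (nat_lit 71) (nat_lit 0),
  Rule.mk (nat_lit 1) (nat_lit 154) (Steps.bwd (nat_lit 7) (Steps.fwd (nat_lit 524288) (Steps.bwd (nat_lit 1) (Steps.bwd (nat_lit 3) (Steps.bwd (nat_lit 7) (Steps.fwd (nat_lit 262144) (Steps.bwd (nat_lit 3) Steps.nil))))))) (nat_lit 73) (nat_lit 0),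
  Rule.mk (nat_lit 3) (nat_lit 154) (Steps.bwd (nat_lit 1) (Steps.fwd (nat_lit 524288) (Steps.fwd (nat_lit 1310720) (Steps.fwd (nat_lit 262144) (Steps.bwd (nat_lit 3) (Steps.fwd (nat_lit 262144) (Steps.fwd (nat_lit 1310720) Steps.nil))))))) (nat_lit 71) (nat_lit 2),
  Rule.mk (nat_lit 6) (nat_lit 274) (Steps.bwd (nat_lit 1) (Steps.bwd (nat_lit 3) (Steps.fwd (nat_lit 1310720) (Steps.bwd (nat_lit 6) (Steps.fwd (nat_lit 262144) (Steps.bwd (nat_lit 6) (Steps.fwd (nat_lit 262144) (Steps.fwd (nat_lit 524288) (Steps.bwd (nat_lit 1) (Steps.bwd (nat_lit 6) (Steps.fwd (nat_lit 262144) (Steps.bwd (nat_lit 3) (Steps.fwd (nat_lit 262144) Steps.nil))))))))))))) (nat_lit 35) (nat_lit 12),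
  Rule.mk (nat_lit 2) (nat_lit 114) (Steps.bwd (nat_lit 1) (Steps.bwd (nat_lit 3) (Steps.bwd (nat_lit 9) (Steps.fwd (nat_lit 262144) (Steps.bwd (nat_lit 8) Steps.nil))))) (nat_lit 104) (nat_lit 2),
  Rule.mk (nat_lit 6) (nat_lit 274) (Steps.bwd (nat_lit 1) (Steps.bwd (nat_lit 3) (Steps.fwd (nat_lit 1310720) (Steps.fwd (nat_lit 1572864) (Steps.fwd (nat_lit 262144) (Steps.bwd (nat_lit 6) (Steps.fwd (nat_lit 262144) (Steps.fwd (nat_lit 524288) (Steps.bwd (nat_lit 1) (Steps.fwd (nat_lit 1572864) (Steps.fwd (nat_lit 262144) (Steps.bwd (nat_lit 3) (Steps.fwd (nat_lit 262144) Steps.nil))))))))))))) (nat_lit 35) (nat_lit 12),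
  Rule.mk (nat_lit 1) (nat_lit 274) (Steps.bwd (nat_lit 6) (Steps.fwd (nat_lit 262144) (Steps.bwd (nat_lit 6) (Steps.bwd (nat_lit 5) (Steps.bwd (nat_lit 2) (Steps.bwd (nat_lit 1) (Steps.bwd (nat_lit 6) (Steps.fwd (nat_lit 262144) (Steps.bwd (nat_lit 2) (Steps.bwd (nat_lit 1) (Steps.bwd (nat_lit 6) (Steps.fwd (nat_lit 262144) (Steps.fwd (nat_lit 786432) Steps.nil))))))))))))) (nat_lit 34) (nat_lit 10),
  Rule.mk (nat_lit 6) (nat_lit 274) (Steps.bwd (nat_lit 1) (Steps.bwd (nat_lit 3) (Steps.fwd (nat_lit 1310720) (Steps.bwd (nat_lit 6) (Steps.fwd (nat_lit 262144) (Steps.bwd (nat_lit 6) (Steps.bwd (nat_lit 1) (Steps.bwd (nat_lit 3) (Steps.bwd (nat_lit 1) (Steps.fwd (nat_lit 1572864) (Steps.fwd (nat_lit 262144) (Steps.fwd (nat_lit 524288) (Steps.bwd (nat_lit 1) Steps.nil))))))))))))) (nat_lit 35) (nat_lit 12),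
  Rule.mk (nat_lit 1) (nat_lit 274) (Steps.bwd (nat_lit 6) (Steps.bwd (nat_lit 5) (Steps.bwd (nat_lit 2) (Steps.bwd (nat_lit 1) (Steps.fwd (nat_lit 1572864) (Steps.fwd (nat_lit 262144) (Steps.bwd (nat_lit 2) (Steps.fwd (nat_lit 262144) (Steps.fwd (nat_lit 1572864) (Steps.bwd (nat_lit 1) (Steps.bwd (nat_lit 2) (Steps.fwd (nat_lit 262144) (Steps.bwd (nat_lit 6) Steps.nil))))))))))))) (nat_lit 34) (nat_lit 12),
  Rule.mk (nat_lit 6) (nat_lit 274) (Steps.bwd (nat_lit 1) (Steps.bwd (nat_lit 3) (Steps.fwd (nat_lit 1310720) (Steps.bwd (nat_lit 6) (Steps.fwd (nat_lit 262144) (Steps.bwd (nat_lit 6) (Steps.fwd (nat_lit 262144) (Steps.fwd (nat_lit 524288) (Steps.bwd (nat_lit 1) (Steps.fwd (nat_lit 1572864) (Steps.fwd (nat_lit 262144) (Steps.bwd (nat_lit 3) (Steps.fwd (nat_lit 262144) Steps.nil))))))))))))) (nat_lit 35) (nat_lit 12),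
  Rule.mk (nat_lit 4) (nat_lit 314) (Steps.bwd (nat_lit 9) (Steps.bwd (nat_lit 4) (Steps.bwd (nat_lit 8) (Steps.bwd (nat_lit 4) (Steps.bwd (nat_lit 9) (Steps.fwd (nat_lit 1048576) (Steps.fwd (nat_lit 2359296) (Steps.fwd (nat_lit 1048576) (Steps.bwd (nat_lit 9) (Steps.fwd (nat_lit 1048576) (Steps.fwd (nat_lit 2359296) (Steps.fwd (nat_lit 1048576) (Steps.fwd (nat_lit 2097152) (Steps.fwd (nat_lit 1048576) (Steps.fwd (nat_lit 2359296) Steps.nil))))))))))))))) (nat_lit 106) (nat_lit 2),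
  Rule.mk (nat_lit 4) (nat_lit 114) (Steps.fwd (nat_lit 1572864) (Steps.bwd (nat_lit 3) (Steps.bwd (nat_lit 4) (Steps.fwd (nat_lit 1310720) (Steps.bwd (nat_lit 3) Steps.nil))))) (nat_lit 59) (nat_lit 1),
  Rule.mk (nat_lit 4) (nat_lit 114) (Steps.bwd (nat_lit 7) (Steps.bwd (nat_lit 3) (Steps.bwd (nat_lit 4) (Steps.fwd (nat_lit 1835008) (Steps.bwd (nat_lit 3) Steps.nil))))) (nat_lit 65) (nat_lit 1),
  Rule.mk (nat_lit 4) (nat_lit 154) (Steps.fwd (nat_lit 1835008) (Steps.bwd (nat_lit 6) (Steps.bwd (nat_lit 3) (Steps.bwd (nat_lit 4) (Steps.fwd (nat_lit 1835008) (Steps.fwd (nat_lit 1310720) (Steps.bwd (nat_lit 3) Steps.nil))))))) (nat_lit 89) (nat_lit 1),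
  Rule.mk (nat_lit 4) (nat_lit 154) (Steps.fwd (nat_lit 1835008) (Steps.bwd (nat_lit 3) (Steps.bwd (nat_lit 5) (Steps.bwd (nat_lit 4) (Steps.bwd (nat_lit 7) (Steps.bwd (nat_lit 3) (Steps.fwd (nat_lit 1572864) Steps.nil))))))) (nat_lit 91) (nat_lit 2),
  Rule.mk (nat_lit 4) (nat_lit 74) (Steps.fwd (nat_lit 1835008) (Steps.bwd (nat_lit 4) (Steps.fwd (nat_lit 1835008) Steps.nil))) (nat_lit 30) (nat_lit 0),
  Rule.mk (nat_lit 0) (nat_lit 294) (Steps.bwd (nat_lit 1) (Steps.fwd (nat_lit 1572864) (Steps.bwd (nat_lit 1) (Steps.fwd (nat_lit 524288) (Steps.bwd (nat_lit 1) (Steps.fwd (nat_lit 1572864) (Steps.bwd (nat_lit 1) (Steps.bwd (nat_lit 3) (Steps.bwd (nat_lit 1) (Steps.fwd (nat_lit 1572864) (Steps.fwd (nat_lit 262144) (Steps.bwd (nat_lit 3) (Steps.bwd (nat_lit 5) (Steps.fwd (nat_lit 1572864) Steps.nil)))))))))))))) (nat_lit 35) (nat_lit 2),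
  Rule.mk (nat_lit 3) (nat_lit 154) (Steps.bwd (nat_lit 1) (Steps.fwd (nat_lit 786432) (Steps.bwd (nat_lit 1) (Steps.fwd (nat_lit 524288) (Steps.bwd (nat_lit 1) (Steps.fwd (nat_lit 786432) (Steps.fwd (nat_lit 262144) Steps.nil))))))) (nat_lit 68) (nat_lit 0),
  Rule.mk (nat_lit 1) (nat_lit 274) (Steps.bwd (nat_lit 6) (Steps.bwd (nat_lit 1) (Steps.fwd (nat_lit 786432) (Steps.fwd (nat_lit 262144) (Steps.bwd (nat_lit 6) (Steps.fwd (nat_lit 262144) (Steps.bwd (nat_lit 2) (Steps.bwd (nat_lit 1) (Steps.fwd (nat_lit 1572864) (Steps.fwd (nat_lit 262144) (Steps.fwd (nat_lit 1572864) (Steps.bwd (nat_lit 5) (Steps.bwd (nat_lit 2) Steps.nil))))))))))))) (nat_lit 34) (nat_lit 2),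
  Rule.mk (nat_lit 1) (nat_lit 274) (Steps.bwd (nat_lit 6) (Steps.bwd (nat_lit 1) (Steps.fwd (nat_lit 524288) (Steps.bwd (nat_lit 5) (Steps.fwd (nat_lit 1572864) (Steps.fwd (nat_lit 262144) (Steps.bwd (nat_lit 6) (Steps.bwd (nat_lit 1) (Steps.fwd (nat_lit 524288) (Steps.fwd (nat_lit 262144) (Steps.fwd (nat_lit 1572864) (Steps.fwd (nat_lit 262144) (Steps.bwd (nat_lit 3) Steps.nil))))))))))))) (nat_lit 35) (nat_lit 11),
  Rule.mk (nat_lit 0) (nat_lit 294) (Steps.bwd (nat_lit 1) (Steps.bwd (nat_lit 2) (Steps.bwd (nat_lit 1) (Steps.bwd (nat_lit 6) (Steps.bwd (nat_lit 1) (Steps.bwd (nat_lit 6) (Steps.bwd (nat_lit 5) (Steps.fwd (nat_lit 786432) (Steps.fwd (nat_lit 262144) (Steps.fwd (nat_lit 1572864) (Steps.fwd (nat_lit 262144) (Steps.bwd (nat_lit 2) (Steps.bwd (nat_lit 1) (Steps.bwd (nat_lit 6) Steps.nil)))))))))))))) (nat_lit 34) (nat_lit 7),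
  Rule.mk (nat_lit 1) (nat_lit 154) (Steps.bwd (nat_lit 2) (Steps.bwd (nat_lit 1) (Steps.fwd (nat_lit 524288) (Steps.fwd (nat_lit 262144) (Steps.fwd (nat_lit 786432) (Steps.fwd (nat_lit 262144) (Steps.fwd (nat_lit 524288) Steps.nil))))))) (nat_lit 68) (nat_lit 1),
  Rule.mk (nat_lit 1) (nat_lit 274) (Steps.bwd (nat_lit 6) (Steps.bwd (nat_lit 1) (Steps.fwd (nat_lit 524288) (Steps.bwd (nat_lit 5) (Steps.fwd (nat_lit 1572864) (Steps.fwd (nat_lit 262144) (Steps.fwd (nat_lit 1572864) (Steps.fwd (nat_lit 262144) (Steps.fwd (nat_lit 524288) (Steps.bwd (nat_lit 1) (Steps.bwd (nat_lit 6) (Steps.bwd (nat_lit 1) (Steps.bwd (nat_lit 3) Steps.nil))))))))))))) (nat_lit 35) (nat_lit 11),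
  Rule.mk (nat_lit 0) (nat_lit 134) (Steps.bwd (nat_lit 1) (Steps.bwd (nat_lit 3) (Steps.bwd (nat_lit 9) (Steps.fwd (nat_lit 262144) (Steps.fwd (nat_lit 2359296) (Steps.fwd (nat_lit 786432) Steps.nil)))))) (nat_lit 104) (nat_lit 2),
  Rule.mk (nat_lit 1) (nat_lit 154) (Steps.bwd (nat_lit 2) (Steps.bwd (nat_lit 1) (Steps.fwd (nat_lit 524288) (Steps.fwd (nat_lit 262144) (Steps.fwd (nat_lit 786432) (Steps.bwd (nat_lit 1) (Steps.bwd (nat_lit 3) Steps.nil))))))) (nat_lit 68) (nat_lit 1),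
  Rule.mk (nat_lit 4) (nat_lit 314) (Steps.bwd (nat_lit 8) (Steps.bwd (nat_lit 4) (Steps.bwd (nat_lit 9) (Steps.bwd (nat_lit 4) (Steps.bwd (nat_lit 8) (Steps.bwd (nat_lit 4) (Steps.fwd (nat_lit 2097152) (Steps.fwd (nat_lit 1048576) (Steps.bwd (nat_lit 8) (Steps.fwd (nat_lit 1048576) (Steps.fwd (nat_lit 2097152) (Steps.fwd (nat_lit 1048576) (Steps.fwd (nat_lit 2359296) (Steps.fwd (nat_lit 1048576) (Steps.fwd (nat_lit 2097152) Steps.nil))))))))))))))) (nat_lit 106) (nat_lit 0),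
  Rule.mk (nat_lit 1) (nat_lit 274) (Steps.bwd (nat_lit 6) (Steps.bwd (nat_lit 1) (Steps.bwd (nat_lit 3) (Steps.fwd (nat_lit 1310720) (Steps.bwd (nat_lit 6) (Steps.fwd (nat_lit 262144) (Steps.bwd (nat_lit 6) (Steps.bwd (nat_lit 1) (Steps.fwd (nat_lit 524288) (Steps.bwd (nat_lit 1) (Steps.fwd (nat_lit 1572864) (Steps.fwd (nat_lit 262144) (Steps.bwd (nat_lit 3) Steps.nil))))))))))))) (nat_lit 35) (nat_lit 11),
  Rule.mk (nat_lit 0) (nat_lit 294) (Steps.bwd (nat_lit 1) (Steps.bwd (nat_lit 2) (Steps.bwd (nat_lit 1) (Steps.bwd (nat_lit 6) (Steps.bwd (nat_lit 1) (Steps.fwd (nat_lit 1572864) (Steps.bwd (nat_lit 5) (Steps.fwd (nat_lit 786432) (Steps.bwd (nat_lit 1) (Steps.bwd (nat_lit 6) (Steps.fwd (nat_lit 262144) (Steps.bwd (nat_lit 2) (Steps.bwd (nat_lit 1) (Steps.bwd (nat_lit 6) Steps.nil)))))))))))))) (nat_lit 34) (nat_lit 7),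
  Rule.mk (nat_lit 1) (nat_lit 274) (Steps.bwd (nat_lit 6) (Steps.bwd (nat_lit 1) (Steps.fwd (nat_lit 786432) (Steps.bwd (nat_lit 1) (Steps.fwd (nat_lit 1572864) (Steps.fwd (nat_lit 262144) (Steps.bwd (nat_lit 2) (Steps.bwd (nat_lit 1) (Steps.fwd (nat_lit 1572864) (Steps.fwd (nat_lit 262144) (Steps.bwd (nat_lit 6) (Steps.fwd (nat_lit 1310720) (Steps.bwd (nat_lit 2) Steps.nil))))))))))))) (nat_lit 34) (nat_lit 2),
  Rule.mk (nat_lit 1) (nat_lit 274) (Steps.bwd (nat_lit 6) (Steps.bwd (nat_lit 1) (Steps.fwd (nat_lit 524288) (Steps.fwd (nat_lit 1310720) (Steps.bwd (nat_lit 6) (Steps.fwd (nat_lit 262144) (Steps.bwd (nat_lit 6) (Steps.fwd (nat_lit 262144) (Steps.fwd (nat_lit 524288) (Steps.bwd (nat_lit 1) (Steps.bwd (nat_lit 6) (Steps.bwd (nat_lit 1) (Steps.bwd (nat_lit 3) Steps.nil))))))))))))) (nat_lit 35) (nat_lit 11),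
  Rule.mk (nat_lit 4) (nat_lit 114) (Steps.fwd (nat_lit 524288) (Steps.bwd (nat_lit 5) (Steps.fwd (nat_lit 1048576) (Steps.bwd (nat_lit 3) (Steps.bwd (nat_lit 6) Steps.nil))))) (nat_lit 55) (nat_lit 2),
  Rule.mk (nat_lit 4) (nat_lit 314) (Steps.bwd (nat_lit 8) (Steps.bwd (nat_lit 4) (Steps.bwd (nat_lit 9) (Steps.bwd (nat_lit 4) (Steps.bwd (nat_lit 8) (Steps.fwd (nat_lit 1048576) (Steps.bwd (nat_lit 9) (Steps.bwd (nat_lit 4) (Steps.bwd (nat_lit 8) (Steps.bwd (nat_lit 4) (Steps.fwd (nat_lit 2097152) (Steps.fwd (nat_lit 1048576) (Steps.fwd (nat_lit 2359296) (Steps.fwd (nat_lit 1048576) (Steps.fwd (nat_lit 2097152) Steps.nil))))))))))))))) (nat_lit 106) (nat_lit 0),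
  Rule.mk (nat_lit 4) (nat_lit 114) (Steps.bwd (nat_lit 7) (Steps.fwd (nat_lit 1572864) (Steps.fwd (nat_lit 1048576) (Steps.bwd (nat_lit 7) (Steps.bwd (nat_lit 5) Steps.nil))))) (nat_lit 67) (nat_lit 0)]
noncomputable def R_21 : List (Rule) := [Rule.mk (nat_lit 1) (nat_lit 274) (Steps.bwd (nat_lit 6) (Steps.bwd (nat_lit 5) (Steps.bwd (nat_lit 2) (Steps.bwd (nat_lit 1) (Steps.bwd (nat_lit 6) (Steps.bwd (nat_lit 1) (Steps.fwd (nat_lit 786432) (Steps.fwd (nat_lit 262144) (Steps.fwd (nat_lit 1572864) (Steps.bwd (nat_lit 1) (Steps.bwd (nat_lit 2) (Steps.bwd (nat_lit 1) (Steps.bwd (nat_lit 6) Steps.nil))))))))))))) (nat_lit 34) (nat_lit 12),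
  Rule.mk (nat_lit 1) (nat_lit 274) (Steps.bwd (nat_lit 6) (Steps.fwd (nat_lit 262144) (Steps.bwd (nat_lit 6) (Steps.bwd (nat_lit 5) (Steps.fwd (nat_lit 786432) (Steps.bwd (nat_lit 1) (Steps.fwd (nat_lit 1572864) (Steps.fwd (nat_lit 262144) (Steps.bwd (nat_lit 2) (Steps.bwd (nat_lit 1) (Steps.bwd (nat_lit 6) (Steps.fwd (nat_lit 262144) (Steps.fwd (nat_lit 786432) Steps.nil))))))))))))) (nat_lit 34) (nat_lit 10),
  Rule.mk (nat_lit 4) (nat_lit 314) (Steps.bwd (nat_lit 9) (Steps.bwd (nat_lit 4) (Steps.bwd (nat_lit 8) (Steps.bwd (nat_lit 4) (Steps.bwd (nat_lit 9) (Steps.fwd (nat_lit 1048576) (Steps.bwd (nat_lit 8) (Steps.fwd (nat_lit 1048576) (Steps.bwd (nat_lit 9) (Steps.fwd (nat_lit 1048576) (Steps.fwd (nat_lit 2359296) (Steps.fwd (nat_lit 1048576) (Steps.fwd (nat_lit 2097152) (Steps.fwd (nat_lit 1048576) (Steps.fwd (nat_lit 2359296) Steps.nil))))))))))))))) (nat_lit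 106) (nat_lit 2),
  Rule.mk (nat_lit 1) (nat_lit 274) (Steps.bwd (nat_lit 6) (Steps.bwd (nat_lit 5) (Steps.fwd (nat_lit 786432) (Steps.bwd (nat_lit 1) (Steps.bwd (nat_lit 6) (Steps.bwd (nat_lit 1) (Steps.bwd (nat_lit 2) (Steps.fwd (nat_lit 262144) (Steps.fwd (nat_lit 1572864) (Steps.bwd (nat_lit 1) (Steps.bwd (nat_lit 2) (Steps.fwd (nat_lit 262144) (Steps.bwd (nat_lit 6) Steps.nil))))))))))))) (nat_lit 34) (nat_lit 12),
  Rule.mk (nat_lit 4) (nat_lit 314) (Steps.bwd (nat_lit 9) (Steps.bwd (nat_lit 4) (Steps.bwd (nat_lit 8) (Steps.bwd (nat_lit 4) (Steps.bwd (nat_lit 9) (Steps.fwd (nat_lit 1048576) (Steps.fwd (nat_lit 2359296) (Steps.bwd (nat_lit 4) (Steps.bwd (nat_lit 9) (Steps.fwd (nat_lit 1048576) (Steps.fwd (nat_lit 2359296) (Steps.fwd (nat_lit 1048576) (Steps.fwd (nat_lit 2097152) (Steps.fwd (nat_lit 1048576) (Steps.fwd (nat_lit 2359296) Steps.nil)))))))))))))))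 (nat_lit 106) (nat_lit 2),
  Rule.mk (nat_lit 1) (nat_lit 274) (Steps.bwd (nat_lit 6) (Steps.fwd (nat_lit 1310720) (Steps.bwd (nat_lit 2) (Steps.bwd (nat_lit 1) (Steps.bwd (nat_lit 6) (Steps.fwd (nat_lit 262144) (Steps.fwd (nat_lit 786432) (Steps.fwd (nat_lit 262144) (Steps.fwd (nat_lit 1572864) (Steps.fwd (nat_lit 262144) (Steps.bwd (nat_lit 2) (Steps.fwd (nat_lit 262144) (Steps.fwd (nat_lit 1572864) Steps.nil))))))))))))) (nat_lit 34) (nat_lit 12),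
  Rule.mk (nat_lit 1) (nat_lit 274) (Steps.bwd (nat_lit 6) (Steps.fwd (nat_lit 1310720) (Steps.fwd (nat_lit 786432) (Steps.bwd (nat_lit 1) (Steps.fwd (nat_lit 1572864) (Steps.bwd (nat_lit 1) (Steps.bwd (nat_lit 2) (Steps.fwd (nat_lit 262144) (Steps.fwd (nat_lit 1572864) (Steps.bwd (nat_lit 1) (Steps.bwd (nat_lit 2) (Steps.fwd (nat_lit 262144) (Steps.bwd (nat_lit 6) Steps.nil))))))))))))) (nat_lit 34) (nat_lit 12),
  Rule.mk (nat_lit 3) (nat_lit 154) (Steps.bwd (nat_lit 1) (Steps.fwd (nat_lit 786432) (Steps.bwd (nat_lit 1) (Steps.fwd (nat_lit 524288) (Steps.bwd (nat_lit 1) (Steps.fwd (nat_lit 786432) (Steps.bwd (nat_lit 1) Steps.nil))))))) (nat_lit 68) (nat_lit 0),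
  Rule.mk (nat_lit 1) (nat_lit 274) (Steps.bwd (nat_lit 6) (Steps.fwd (nat_lit 1310720) (Steps.bwd (nat_lit 2) (Steps.bwd (nat_lit 1) (Steps.fwd (nat_lit 1572864) (Steps.bwd (nat_lit 1) (Steps.fwd (nat_lit 786432) (Steps.bwd (nat_lit 1) (Steps.bwd (nat_lit 6) (Steps.fwd (nat_lit 262144) (Steps.bwd (nat_lit 2) (Steps.fwd (nat_lit 262144) (Steps.fwd (nat_lit 1572864) Steps.nil))))))))))))) (nat_lit 34) (nat_lit 12),
  Rule.mk (nat_lit 1) (nat_lit 274) (Steps.bwd (nat_lit 6) (Steps.bwd (nat_lit 5) (Steps.fwd (nat_lit 786432) (Steps.fwd (nat_lit 262144) (Steps.bwd (nat_lit 6) (Steps.fwd (nat_lit 262144) (Steps.bwd (nat_lit 2) (Steps.bwd (nat_lit 1) (Steps.bwd (nat_lit 6) (Steps.bwd (nat_lit 1) (Steps.bwd (nat_lit 2) (Steps.bwd (nat_lit 1) (Steps.bwd (nat_lit 6) Steps.nil))))))))))))) (nat_lit 34) (nat_lit 12),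
  Rule.mk (nat_lit 4) (nat_lit 114) (Steps.fwd (nat_lit 524288) (Steps.fwd (nat_lit 1572864) (Steps.fwd (nat_lit 1048576) (Steps.fwd (nat_lit 524288) (Steps.bwd (nat_lit 5) Steps.nil))))) (nat_lit 55) (nat_lit 5),
  Rule.mk (nat_lit 1) (nat_lit 274) (Steps.bwd (nat_lit 6) (Steps.fwd (nat_lit 1310720) (Steps.bwd (nat_lit 2) (Steps.bwd (nat_lit 1) (Steps.bwd (nat_lit 6) (Steps.fwd (nat_lit 262144) (Steps.fwd (nat_lit 786432) (Steps.fwd (nat_lit 262144) (Steps.bwd (nat_lit 6) (Steps.fwd (nat_lit 262144) (Steps.bwd (nat_lit 2) (Steps.fwd (nat_lit 262144) (Steps.bwd (nat_lit 6) Steps.nil))))))))))))) (nat_lit 34) (nat_lit 12),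
  Rule.mk (nat_lit 1) (nat_lit 274) (Steps.bwd (nat_lit 6) (Steps.fwd (nat_lit 1310720) (Steps.fwd (nat_lit 786432) (Steps.fwd (nat_lit 262144) (Steps.bwd (nat_lit 6) (Steps.fwd (nat_lit 262144) (Steps.bwd (nat_lit 2) (Steps.fwd (nat_lit 262144) (Steps.bwd (nat_lit 6) (Steps.bwd (nat_lit 1) (Steps.fwd (nat_lit 786432) (Steps.bwd (nat_lit 1) (Steps.fwd (nat_lit 1572864) Steps.nil))))))))))))) (nat_lit 34) (nat_lit 12),
  Rule.mk (nat_lit 4) (nat_lit 314) (Steps.bwd (nat_lit 9) (Steps.bwd (nat_lit 4) (Steps.bwd (nat_lit 8) (Steps.bwd (nat_lit 4) (Steps.bwd (nat_lit 9) (Steps.bwd (nat_lit 4) (Steps.bwd (nat_lit 8) (Steps.fwd (nat_lit 1048576) (Steps.fwd (nat_lit 2097152) (Steps.fwd (nat_lit 1048576) (Steps.fwd (nat_lit 2359296) (Steps.fwd (nat_lit 1048576) (Steps.fwd (nat_lit 2097152) (Steps.fwd (nat_lit 1048576) (Steps.fwd (nat_lit 2359296) Steps.nil)))))))))))))))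 (nat_lit 106) (nat_lit 2),
  Rule.mk (nat_lit 4) (nat_lit 314) (Steps.bwd (nat_lit 9) (Steps.bwd (nat_lit 4) (Steps.bwd (nat_lit 8) (Steps.bwd (nat_lit 4) (Steps.bwd (nat_lit 9) (Steps.fwd (nat_lit 1048576) (Steps.fwd (nat_lit 2359296) (Steps.bwd (nat_lit 4) (Steps.bwd (nat_lit 9) (Steps.bwd (nat_lit 4) (Steps.fwd (nat_lit 2359296) (Steps.fwd (nat_lit 1048576) (Steps.fwd (nat_lit 2097152) (Steps.fwd (nat_lit 1048576) (Steps.fwd (nat_lit 2359296) Steps.nil))))))))))))))) (nat_lit 106) (nat_lit 2),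
  Rule.mk (nat_lit 4) (nat_lit 114) (Steps.fwd (nat_lit 786432) (Steps.bwd (nat_lit 7) (Steps.fwd (nat_lit 1048576) (Steps.bwd (nat_lit 2) (Steps.bwd (nat_lit 7) Steps.nil))))) (nat_lit 64) (nat_lit 0),
  Rule.mk (nat_lit 4) (nat_lit 114) (Steps.fwd (nat_lit 786432) (Steps.bwd (nat_lit 5) (Steps.bwd (nat_lit 4) (Steps.bwd (nat_lit 2) (Steps.bwd (nat_lit 6) Steps.nil))))) (nat_lit 58) (nat_lit 0),
  Rule.mk (nat_lit 4) (nat_lit 114) (Steps.fwd (nat_lit 524288) (Steps.fwd (nat_lit 1310720) (Steps.fwd (nat_lit 1048576) (Steps.bwd (nat_lit 3) (Steps.bwd (nat_lit 6) Steps.nil))))) (nat_lit 55) (nat_lit 2),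
  Rule.mk (nat_lit 4) (nat_lit 114) (Steps.fwd (nat_lit 524288) (Steps.fwd (nat_lit 1835008) (Steps.fwd (nat_lit 1048576) (Steps.bwd (nat_lit 3) (Steps.bwd (nat_lit 7) Steps.nil))))) (nat_lit 57) (nat_lit 2),
  Rule.mk (nat_lit 4) (nat_lit 314) (Steps.bwd (nat_lit 8) (Steps.bwd (nat_lit 4) (Steps.bwd (nat_lit 9) (Steps.bwd (nat_lit 4) (Steps.bwd (nat_lit 8) (Steps.fwd (nat_lit 1048576) (Steps.fwd (nat_lit 2097152) (Steps.bwd (nat_lit 4) (Steps.bwd (nat_lit 8) (Steps.bwd (nat_lit 4) (Steps.fwd (nat_lit 2097152) (Steps.fwd (nat_lit 1048576) (Steps.fwd (nat_lit 2359296) (Steps.fwd (nat_lit 1048576) (Steps.fwd (nat_lit 2097152) Steps.nil))))))))))))))) (nat_lit 106) (nat_lit 0),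
  Rule.mk (nat_lit 4) (nat_lit 314) (Steps.bwd (nat_lit 8) (Steps.bwd (nat_lit 4) (Steps.bwd (nat_lit 9) (Steps.bwd (nat_lit 4) (Steps.bwd (nat_lit 8) (Steps.fwd (nat_lit 1048576) (Steps.fwd (nat_lit 2097152) (Steps.fwd (nat_lit 1048576) (Steps.fwd (nat_lit 2359296) (Steps.bwd (nat_lit 4) (Steps.fwd (nat_lit 2097152) (Steps.fwd (nat_lit 1048576) (Steps.fwd (nat_lit 2359296) (Steps.fwd (nat_lit 1048576) (Steps.fwd (nat_lit 2097152) Steps.nil))))))))))))))) (nat_lit 106) (nat_lit 0),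
  Rule.mk (nat_lit 4) (nat_lit 314) (Steps.bwd (nat_lit 9) (Steps.bwd (nat_lit 4) (Steps.bwd (nat_lit 8) (Steps.bwd (nat_lit 4) (Steps.bwd (nat_lit 9) (Steps.fwd (nat_lit 1048576) (Steps.fwd (nat_lit 2359296) (Steps.fwd (nat_lit 1048576) (Steps.bwd (nat_lit 9) (Steps.bwd (nat_lit 4) (Steps.fwd (nat_lit 2359296) (Steps.fwd (nat_lit 1048576) (Steps.fwd (nat_lit 2097152) (Steps.fwd (nat_lit 1048576) (Steps.fwd (nat_lit 2359296) Steps.nil))))))))))))))) (nat_lit 106) (nat_lit 2),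
  Rule.mk (nat_lit 1) (nat_lit 154) (Steps.bwd (nat_lit 2) (Steps.bwd (nat_lit 1) (Steps.bwd (nat_lit 5) (Steps.bwd (nat_lit 2) (Steps.fwd (nat_lit 262144) (Steps.bwd (nat_lit 2) (Steps.bwd (nat_lit 5) Steps.nil))))))) (nat_lit 70) (nat_lit 1),
  Rule.mk (nat_lit 1) (nat_lit 154) (Steps.bwd (nat_lit 2) (Steps.bwd (nat_lit 1) (Steps.bwd (nat_lit 7) (Steps.bwd (nat_lit 2) (Steps.fwd (nat_lit 262144) (Steps.bwd (nat_lit 2) (Steps.bwd (nat_lit 7) Steps.nil))))))) (nat_lit 72) (nat_lit 1),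
  Rule.mk (nat_lit 2) (nat_lit 154) (Steps.bwd (nat_lit 1) (Steps.bwd (nat_lit 2) (Steps.fwd (nat_lit 1835008) (Steps.fwd (nat_lit 262144) (Steps.bwd (nat_lit 2) (Steps.fwd (nat_lit 262144) (Steps.fwd (nat_lit 1835008) Steps.nil))))))) (nat_lit 72) (nat_lit 5),
  Rule.mk (nat_lit 4) (nat_lit 314) (Steps.bwd (nat_lit 8) (Steps.bwd (nat_lit 4) (Steps.bwd (nat_lit 9) (Steps.bwd (nat_lit 4) (Steps.bwd (nat_lit 8) (Steps.bwd (nat_lit 4) (Steps.fwd (nat_lit 2097152) (Steps.fwd (nat_lit 1048576) (Steps.fwd (nat_lit 2359296) (Steps.fwd (nat_lit 1048576) (Steps.fwd (nat_lit 2097152) (Steps.fwd (nat_lit 1048576) (Steps.fwd (nat_lit 2359296) (Steps.fwd (nat_lit 1048576) (Steps.fwd (nat_lit 2097152) Steps.nil))))))))))))))) (nat_lit 106) (nat_lit 0),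
  Rule.mk (nat_lit 4) (nat_lit 314) (Steps.bwd (nat_lit 9) (Steps.bwd (nat_lit 4) (Steps.bwd (nat_lit 8) (Steps.bwd (nat_lit 4) (Steps.bwd (nat_lit 9) (Steps.bwd (nat_lit 4) (Steps.bwd (nat_lit 8) (Steps.bwd (nat_lit 4) (Steps.fwd (nat_lit 2097152) (Steps.fwd (nat_lit 1048576) (Steps.fwd (nat_lit 2359296) (Steps.fwd (nat_lit 1048576) (Steps.fwd (nat_lit 2097152) (Steps.fwd (nat_lit 1048576) (Steps.fwd (nat_lit 2359296) Steps.nil))))))))))))))) (nat_lit 106) (nat_lit 2),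
  Rule.mk (nat_lit 2) (nat_lit 154) (Steps.bwd (nat_lit 1) (Steps.bwd (nat_lit 2) (Steps.fwd (nat_lit 1835008) (Steps.fwd (nat_lit 262144) (Steps.bwd (nat_lit 2) (Steps.fwd (nat_lit 262144) (Steps.bwd (nat_lit 7) Steps.nil))))))) (nat_lit 72) (nat_lit 5),
  Rule.mk (nat_lit 1) (nat_lit 154) (Steps.bwd (nat_lit 2) (Steps.bwd (nat_lit 1) (Steps.fwd (nat_lit 1310720) (Steps.fwd (nat_lit 786432) (Steps.fwd (nat_lit 262144) (Steps.bwd (nat_lit 2) (Steps.fwd (nat_lit 1310720) Steps.nil))))))) (nat_lit 70) (nat_lit 1),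
  Rule.mk (nat_lit 4) (nat_lit 314) (Steps.bwd (nat_lit 8) (Steps.bwd (nat_lit 4) (Steps.bwd (nat_lit 9) (Steps.bwd (nat_lit 4) (Steps.bwd (nat_lit 8) (Steps.bwd (nat_lit 4) (Steps.fwd (nat_lit 2097152) (Steps.bwd (nat_lit 4) (Steps.fwd (nat_lit 2359296) (Steps.bwd (nat_lit 4) (Steps.fwd (nat_lit 2097152) (Steps.fwd (nat_lit 1048576) (Steps.fwd (nat_lit 2359296) (Steps.fwd (nat_lit 1048576) (Steps.fwd (nat_lit 2097152) Steps.nil))))))))))))))) (nat_lit 106) (nat_lit 0),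
  Rule.mk (nat_lit 2) (nat_lit 154) (Steps.bwd (nat_lit 1) (Steps.fwd (nat_lit 786432) (Steps.fwd (nat_lit 1835008) (Steps.fwd (nat_lit 262144) (Steps.bwd (nat_lit 2) (Steps.fwd (nat_lit 262144) (Steps.fwd (nat_lit 1835008) Steps.nil))))))) (nat_lit 72) (nat_lit 5),
  Rule.mk (nat_lit 4) (nat_lit 314) (Steps.bwd (nat_lit 9) (Steps.bwd (nat_lit 4) (Steps.bwd (nat_lit 8) (Steps.bwd (nat_lit 4) (Steps.bwd (nat_lit 9) (Steps.bwd (nat_lit 4) (Steps.bwd (nat_lit 8) (Steps.bwd (nat_lit 4) (Steps.fwd (nat_lit 2097152) (Steps.fwd (nat_lit 1048576) (Steps.fwd (nat_lit 2359296) (Steps.fwd (nat_lit 1048576) (Steps.fwd (nat_lit 2097152) (Steps.bwd (nat_lit 4) (Steps.fwd (nat_lit 2359296) Steps.nil))))))))))))))) (nat_lit 106) (nat_lit 2),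
  Rule.mk (nat_lit 3) (nat_lit 154) (Steps.bwd (nat_lit 1) (Steps.fwd (nat_lit 524288) (Steps.fwd (nat_lit 1310720) (Steps.fwd (nat_lit 262144) (Steps.fwd (nat_lit 524288) (Steps.fwd (nat_lit 262144) (Steps.fwd (nat_lit 1310720) Steps.nil))))))) (nat_lit 71) (nat_lit 2),
  Rule.mk (nat_lit 4) (nat_lit 114) (Steps.fwd (nat_lit 1310720) (Steps.bwd (nat_lit 3) (Steps.bwd (nat_lit 4) (Steps.fwd (nat_lit 1572864) (Steps.bwd (nat_lit 3) Steps.nil))))) (nat_lit 59) (nat_lit 4),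
  Rule.mk (nat_lit 4) (nat_lit 114) (Steps.bwd (nat_lit 5) (Steps.bwd (nat_lit 7) (Steps.bwd (nat_lit 4) (Steps.fwd (nat_lit 1572864) (Steps.fwd (nat_lit 1835008) Steps.nil))))) (nat_lit 66) (nat_lit 1),
  Rule.mk (nat_lit 4) (nat_lit 114) (Steps.fwd (nat_lit 1310720) (Steps.fwd (nat_lit 1835008) (Steps.bwd (nat_lit 4) (Steps.fwd (nat_lit 1572864) (Steps.bwd (nat_lit 7) Steps.nil))))) (nat_lit 66) (nat_lit 1),
  Rule.mk (nat_lit 4) (nat_lit 314) (Steps.bwd (nat_lit 8) (Steps.bwd (nat_lit 4) (Steps.bwd (nat_lit 9) (Steps.fwd (nat_lit 1048576) (Steps.fwd (nat_lit 2359296) (Steps.bwd (nat_lit 4) (Steps.bwd (nat_lit 9) (Steps.fwd (nat_lit 1048576) (Steps.bwd (nat_lit 8) (Steps.bwd (nat_lit 4) (Steps.bwd (nat_lit 9) (Steps.fwd (nat_lit 1048576) (Steps.fwd (nat_lit 2359296) (Steps.fwd (nat_lit 1048576) (Steps.bwd (nat_lit 9) Steps.nil))))))))))))))) (nat_lit 106) (nat_lit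 0),
  Rule.mk (nat_lit 4) (nat_lit 114) (Steps.fwd (nat_lit 1835008) (Steps.fwd (nat_lit 1572864) (Steps.bwd (nat_lit 4) (Steps.fwd (nat_lit 1835008) (Steps.bwd (nat_lit 5) Steps.nil))))) (nat_lit 67) (nat_lit 0),
  Rule.mk (nat_lit 4) (nat_lit 314) (Steps.bwd (nat_lit 8) (Steps.bwd (nat_lit 4) (Steps.bwd (nat_lit 9) (Steps.fwd (nat_lit 1048576) (Steps.fwd (nat_lit 2359296) (Steps.bwd (nat_lit 4) (Steps.bwd (nat_lit 9) (Steps.bwd (nat_lit 4) (Steps.fwd (nat_lit 2359296) (Steps.fwd (nat_lit 1048576) (Steps.fwd (nat_lit 2097152) (Steps.bwd (nat_lit 4) (Steps.fwd (nat_lit 2359296) (Steps.bwd (nat_lit 4) (Steps.bwd (nat_lit 9) Steps.nil))))))))))))))) (nat_lit 106) (nat_lit 0),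
  Rule.mk (nat_lit 4) (nat_lit 74) (Steps.fwd (nat_lit 786432) (Steps.bwd (nat_lit 4) (Steps.fwd (nat_lit 786432) Steps.nil))) (nat_lit 14) (nat_lit 1),
  Rule.mk (nat_lit 4) (nat_lit 314) (Steps.bwd (nat_lit 9) (Steps.bwd (nat_lit 4) (Steps.fwd (nat_lit 2359296) (Steps.fwd (nat_lit 1048576) (Steps.fwd (nat_lit 2097152) (Steps.bwd (nat_lit 4) (Steps.fwd (nat_lit 2359296) (Steps.bwd (nat_lit 4) (Steps.bwd (nat_lit 9) (Steps.bwd (nat_lit 4) (Steps.fwd (nat_lit 2359296) (Steps.fwd (nat_lit 1048576) (Steps.fwd (nat_lit 2097152) (Steps.bwd (nat_lit 4) (Steps.fwd (nat_lit 2359296) Steps.nil))))))))))))))) (nat_lit 106) (nat_lit 2),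
  Rule.mk (nat_lit 4) (nat_lit 314) (Steps.bwd (nat_lit 9) (Steps.bwd (nat_lit 4) (Steps.bwd (nat_lit 8) (Steps.bwd (nat_lit 4) (Steps.bwd (nat_lit 9) (Steps.fwd (nat_lit 1048576) (Steps.fwd (nat_lit 2359296) (Steps.bwd (nat_lit 4) (Steps.fwd (nat_lit 2097152) (Steps.fwd (nat_lit 1048576) (Steps.fwd (nat_lit 2359296) (Steps.fwd (nat_lit 1048576) (Steps.fwd (nat_lit 2097152) (Steps.fwd (nat_lit 1048576) (Steps.fwd (nat_lit 2359296) Steps.nil))))))))))))))) (nat_lit 106) (nat_lit 2),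
  Rule.mk (nat_lit 4) (nat_lit 314) (Steps.bwd (nat_lit 9) (Steps.bwd (nat_lit 4) (Steps.bwd (nat_lit 8) (Steps.bwd (nat_lit 4) (Steps.bwd (nat_lit 9) (Steps.fwd (nat_lit 1048576) (Steps.bwd (nat_lit 8) (Steps.bwd (nat_lit 4) (Steps.fwd (nat_lit 2097152) (Steps.fwd (nat_lit 1048576) (Steps.fwd (nat_lit 2359296) (Steps.fwd (nat_lit 1048576) (Steps.fwd (nat_lit 2097152) (Steps.fwd (nat_lit 1048576) (Steps.fwd (nat_lit 2359296) Steps.nil))))))))))))))) (nat_lit 106) (nat_lit 2),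
  Rule.mk (nat_lit 1) (nat_lit 154) (Steps.bwd (nat_lit 2) (Steps.bwd (nat_lit 1) (Steps.fwd (nat_lit 1310720) (Steps.fwd (nat_lit 786432) (Steps.fwd (nat_lit 262144) (Steps.bwd (nat_lit 2) (Steps.bwd (nat_lit 5) Steps.nil))))))) (nat_lit 70) (nat_lit 1),
  Rule.mk (nat_lit 1) (nat_lit 154) (Steps.fwd (nat_lit 786432) (Steps.bwd (nat_lit 1) (Steps.fwd (nat_lit 1310720) (Steps.bwd (nat_lit 2) (Steps.fwd (nat_lit 262144) (Steps.bwd (nat_lit 2) (Steps.fwd (nat_lit 1310720) Steps.nil))))))) (nat_lit 70) (nat_lit 1),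
  Rule.mk (nat_lit 1) (nat_lit 154) (Steps.fwd (nat_lit 786432) (Steps.bwd (nat_lit 1) (Steps.bwd (nat_lit 5) (Steps.fwd (nat_lit 786432) (Steps.fwd (nat_lit 262144) (Steps.bwd (nat_lit 2) (Steps.bwd (nat_lit 5) Steps.nil))))))) (nat_lit 70) (nat_lit 1),
  Rule.mk (nat_lit 4) (nat_lit 314) (Steps.bwd (nat_lit 8) (Steps.bwd (nat_lit 4) (Steps.bwd (nat_lit 9) (Steps.bwd (nat_lit 4) (Steps.bwd (nat_lit 8) (Steps.fwd (nat_lit 1048576) (Steps.fwd (nat_lit 2097152) (Steps.bwd (nat_lit 4) (Steps.fwd (nat_lit 2359296) (Steps.fwd (nat_lit 1048576) (Steps.fwd (nat_lit 2097152) (Steps.fwd (nat_lit 1048576) (Steps.fwd (nat_lit 2359296) (Steps.fwd (nat_lit 1048576) (Steps.fwd (nat_lit 2097152) Steps.nil))))))))))))))) (nat_lit 106) (nat_lit 0),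
  Rule.mk (nat_lit 1) (nat_lit 154) (Steps.fwd (nat_lit 1310720) (Steps.fwd (nat_lit 524288) (Steps.bwd (nat_lit 1) (Steps.bwd (nat_lit 3) (Steps.bwd (nat_lit 5) (Steps.fwd (nat_lit 262144) (Steps.bwd (nat_lit 3) Steps.nil))))))) (nat_lit 71) (nat_lit 0),
  Rule.mk (nat_lit 2) (nat_lit 154) (Steps.bwd (nat_lit 1) (Steps.fwd (nat_lit 786432) (Steps.fwd (nat_lit 1835008) (Steps.fwd (nat_lit 262144) (Steps.bwd (nat_lit 2) (Steps.fwd (nat_lit 262144) (Steps.bwd (nat_lit 7) Steps.nil))))))) (nat_lit 72) (nat_lit 5),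
  Rule.mk (nat_lit 1) (nat_lit 154) (Steps.bwd (nat_lit 5) (Steps.fwd (nat_lit 524288) (Steps.bwd (nat_lit 1) (Steps.fwd (nat_lit 524288) (Steps.fwd (nat_lit 1310720) (Steps.fwd (nat_lit 262144) (Steps.bwd (nat_lit 3) Steps.nil))))))) (nat_lit 71) (nat_lit 0),
  Rule.mk (nat_lit 4) (nat_lit 314) (Steps.bwd (nat_lit 8) (Steps.bwd (nat_lit 4) (Steps.bwd (nat_lit 9) (Steps.bwd (nat_lit 4) (Steps.bwd (nat_lit 8) (Steps.fwd (nat_lit 1048576) (Steps.bwd (nat_lit 9) (Steps.fwd (nat_lit 1048576) (Steps.fwd (nat_lit 2359296) (Steps.fwd (nat_lit 1048576) (Steps.fwd (nat_lit 2097152) (Steps.fwd (nat_lit 1048576) (Steps.fwd (nat_lit 2359296) (Steps.fwd (nat_lit 1048576) (Steps.bwd (nat_lit 9) Steps.nil))))))))))))))) (nat_lit 106) (nat_lit 0),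
  Rule.mk (nat_lit 4) (nat_lit 314) (Steps.bwd (nat_lit 8) (Steps.bwd (nat_lit 4) (Steps.bwd (nat_lit 9) (Steps.bwd (nat_lit 4) (Steps.bwd (nat_lit 8) (Steps.fwd (nat_lit 1048576) (Steps.bwd (nat_lit 9) (Steps.bwd (nat_lit 4) (Steps.fwd (nat_lit 2359296) (Steps.fwd (nat_lit 1048576) (Steps.fwd (nat_lit 2097152) (Steps.fwd (nat_lit 1048576) (Steps.fwd (nat_lit 2359296) (Steps.bwd (nat_lit 4) (Steps.bwd (nat_lit 9) Steps.nil))))))))))))))) (nat_lit 106) (nat_lit 0),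
  Rule.mk (nat_lit 4) (nat_lit 314) (Steps.bwd (nat_lit 8) (Steps.bwd (nat_lit 4) (Steps.bwd (nat_lit 9) (Steps.bwd (nat_lit 4) (Steps.bwd (nat_lit 8) (Steps.bwd (nat_lit 4) (Steps.fwd (nat_lit 2097152) (Steps.bwd (nat_lit 4) (Steps.bwd (nat_lit 8) (Steps.bwd (nat_lit 4) (Steps.fwd (nat_lit 2097152) (Steps.fwd (nat_lit 1048576) (Steps.fwd (nat_lit 2359296) (Steps.fwd (nat_lit 1048576) (Steps.fwd (nat_lit 2097152) Steps.nil))))))))))))))) (nat_lit 106) (nat_lit 0),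
  Rule.mk (nat_lit 4) (nat_lit 314) (Steps.bwd (nat_lit 9) (Steps.bwd (nat_lit 4) (Steps.bwd (nat_lit 8) (Steps.bwd (nat_lit 4) (Steps.bwd (nat_lit 9) (Steps.bwd (nat_lit 4) (Steps.fwd (nat_lit 2359296) (Steps.bwd (nat_lit 4) (Steps.fwd (nat_lit 2097152) (Steps.fwd (nat_lit 1048576) (Steps.fwd (nat_lit 2359296) (Steps.fwd (nat_lit 1048576) (Steps.fwd (nat_lit 2097152) (Steps.fwd (nat_lit 1048576) (Steps.fwd (nat_lit 2359296) Steps.nil))))))))))))))) (nat_lit 106) (nat_lit 2),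
  Rule.mk (nat_lit 4) (nat_lit 314) (Steps.bwd (nat_lit 9) (Steps.bwd (nat_lit 4) (Steps.fwd (nat_lit 2359296) (Steps.fwd (nat_lit 1048576) (Steps.fwd (nat_lit 2097152) (Steps.bwd (nat_lit 4) (Steps.bwd (nat_lit 8) (Steps.bwd (nat_lit 4) (Steps.bwd (nat_lit 9) (Steps.fwd (nat_lit 1048576) (Steps.fwd (nat_lit 2359296) (Steps.fwd (nat_lit 1048576) (Steps.bwd (nat_lit 9) (Steps.bwd (nat_lit 4) (Steps.fwd (nat_lit 2359296) Steps.nil))))))))))))))) (nat_lit 106) (nat_lit 2),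
  Rule.mk (nat_lit 1) (nat_lit 154) (Steps.fwd (nat_lit 786432) (Steps.bwd (nat_lit 1) (Steps.bwd (nat_lit 5) (Steps.bwd (nat_lit 2) (Steps.fwd (nat_lit 262144) (Steps.bwd (nat_lit 2) (Steps.fwd (nat_lit 1310720) Steps.nil))))))) (nat_lit 70) (nat_lit 1),
  Rule.mk (nat_lit 1) (nat_lit 154) (Steps.fwd (nat_lit 786432) (Steps.bwd (nat_lit 1) (Steps.bwd (nat_lit 7) (Steps.bwd (nat_lit 2) (Steps.fwd (nat_lit 262144) (Steps.bwd (nat_lit 2) (Steps.fwd (nat_lit 1835008) Steps.nil))))))) (nat_lit 72) (nat_lit 1),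
  Rule.mk (nat_lit 6) (nat_lit 154) (Steps.bwd (nat_lit 3) (Steps.fwd (nat_lit 1310720) (Steps.fwd (nat_lit 524288) (Steps.bwd (nat_lit 7) (Steps.bwd (nat_lit 6) (Steps.fwd (nat_lit 524288) (Steps.bwd (nat_lit 5) Steps.nil))))))) (nat_lit 83) (nat_lit 5),
  Rule.mk (nat_lit 4) (nat_lit 314) (Steps.bwd (nat_lit 9) (Steps.bwd (nat_lit 4) (Steps.bwd (nat_lit 8) (Steps.bwd (nat_lit 4) (Steps.bwd (nat_lit 9) (Steps.fwd (nat_lit 1048576) (Steps.bwd (nat_lit 8) (Steps.bwd (nat_lit 4) (Steps.bwd (nat_lit 9) (Steps.bwd (nat_lit 4) (Steps.fwd (nat_lit 2359296) (Steps.fwd (nat_lit 1048576) (Steps.fwd (nat_lit 2097152) (Steps.fwd (nat_lit 1048576) (Steps.fwd (nat_lit 2359296) Steps.nil))))))))))))))) (nat_lit 106) (nat_lit 2),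
  Rule.mk (nat_lit 3) (nat_lit 154) (Steps.bwd (nat_lit 1) (Steps.fwd (nat_lit 524288) (Steps.bwd (nat_lit 5) (Steps.fwd (nat_lit 262144) (Steps.bwd (nat_lit 3) (Steps.fwd (nat_lit 262144) (Steps.bwd (nat_lit 5) Steps.nil))))))) (nat_lit 71) (nat_lit 2),
  Rule.mk (nat_lit 1) (nat_lit 154) (Steps.bwd (nat_lit 7) (Steps.fwd (nat_lit 524288) (Steps.bwd (nat_lit 1) (Steps.fwd (nat_lit 524288) (Steps.fwd (nat_lit 1835008) (Steps.fwd (nat_lit 262144) (Steps.bwd (nat_lit 3) Steps.nil))))))) (nat_lit 73) (nat_lit 0),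
  Rule.mk (nat_lit 4) (nat_lit 314) (Steps.bwd (nat_lit 8) (Steps.bwd (nat_lit 4) (Steps.bwd (nat_lit 9) (Steps.bwd (nat_lit 4) (Steps.fwd (nat_lit 2359296) (Steps.fwd (nat_lit 1048576) (Steps.fwd (nat_lit 2097152) (Steps.fwd (nat_lit 1048576) (Steps.fwd (nat_lit 2359296) (Steps.bwd (nat_lit 4) (Steps.bwd (nat_lit 9) (Steps.bwd (nat_lit 4) (Steps.fwd (nat_lit 2359296) (Steps.bwd (nat_lit 4) (Steps.bwd (nat_lit 9) Steps.nil))))))))))))))) (nat_lit 106) (nat_lit 0),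
  Rule.mk (nat_lit 3) (nat_lit 154) (Steps.bwd (nat_lit 1) (Steps.fwd (nat_lit 524288) (Steps.fwd (nat_lit 1310720) (Steps.fwd (nat_lit 262144) (Steps.bwd (nat_lit 3) (Steps.fwd (nat_lit 262144) (Steps.bwd (nat_lit 5) Steps.nil))))))) (nat_lit 71) (nat_lit 2),
  Rule.mk (nat_lit 4) (nat_lit 314) (Steps.bwd (nat_lit 8) (Steps.bwd (nat_lit 4) (Steps.bwd (nat_lit 9) (Steps.bwd (nat_lit 4) (Steps.bwd (nat_lit 8) (Steps.fwd (nat_lit 1048576) (Steps.bwd (nat_lit 9) (Steps.fwd (nat_lit 1048576) (Steps.fwd (nat_lit 2359296) (Steps.fwd (nat_lit 1048576) (Steps.fwd (nat_lit 2097152) (Steps.fwd (nat_lit 1048576) (Steps.fwd (nat_lit 2359296) (Steps.bwd (nat_lit 4) (Steps.bwd (nat_lit 9) Steps.nil))))))))))))))) (nat_lit 106) (nat_lit 0)]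
noncomputable def R_22 : List (Rule) := [Rule.mk (nat_lit 4) (nat_lit 114) (Steps.fwd (nat_lit 524288) (Steps.bwd (nat_lit 6) (Steps.fwd (nat_lit 1048576) (Steps.bwd (nat_lit 3) (Steps.bwd (nat_lit 5) Steps.nil))))) (nat_lit 55) (nat_lit 5),
  Rule.mk (nat_lit 4) (nat_lit 314) (Steps.bwd (nat_lit 8) (Steps.bwd (nat_lit 4) (Steps.bwd (nat_lit 9) (Steps.bwd (nat_lit 4) (Steps.bwd (nat_lit 8) (Steps.fwd (nat_lit 1048576) (Steps.fwd (nat_lit 2097152) (Steps.fwd (nat_lit 1048576) (Steps.bwd (nat_lit 8) (Steps.bwd (nat_lit 4) (Steps.fwd (nat_lit 2097152) (Steps.fwd (nat_lit 1048576) (Steps.fwd (nat_lit 2359296) (Steps.fwd (nat_lit 1048576) (Steps.fwd (nat_lit 2097152) Steps.nil))))))))))))))) (nat_lit 106) (nat_lit 0),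
  Rule.mk (nat_lit 7) (nat_lit 114) (Steps.bwd (nat_lit 2) (Steps.bwd (nat_lit 4) (Steps.bwd (nat_lit 7) (Steps.bwd (nat_lit 2) (Steps.fwd (nat_lit 1048576) Steps.nil))))) (nat_lit 56) (nat_lit 0),
  Rule.mk (nat_lit 1) (nat_lit 154) (Steps.bwd (nat_lit 5) (Steps.fwd (nat_lit 524288) (Steps.bwd (nat_lit 1) (Steps.fwd (nat_lit 524288) (Steps.fwd (nat_lit 1310720) (Steps.fwd (nat_lit 262144) (Steps.fwd (nat_lit 524288) Steps.nil))))))) (nat_lit 71) (nat_lit 0),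
  Rule.mk (nat_lit 1) (nat_lit 154) (Steps.bwd (nat_lit 7) (Steps.fwd (nat_lit 524288) (Steps.bwd (nat_lit 1) (Steps.fwd (nat_lit 524288) (Steps.fwd (nat_lit 1835008) (Steps.fwd (nat_lit 262144) (Steps.fwd (nat_lit 524288) Steps.nil))))))) (nat_lit 73) (nat_lit 0),
  Rule.mk (nat_lit 4) (nat_lit 314) (Steps.bwd (nat_lit 8) (Steps.bwd (nat_lit 4) (Steps.bwd (nat_lit 9) (Steps.bwd (nat_lit 4) (Steps.fwd (nat_lit 2359296) (Steps.fwd (nat_lit 1048576) (Steps.fwd (nat_lit 2097152) (Steps.fwd (nat_lit 1048576) (Steps.fwd (nat_lit 2359296) (Steps.bwd (nat_lit 4) (Steps.bwd (nat_lit 9) (Steps.fwd (nat_lit 1048576) (Steps.fwd (nat_lit 2359296) (Steps.fwd (nat_lit 1048576) (Steps.bwd (nat_lit 9) Steps.nil))))))))))))))) (nat_lit 106) (nat_lit 0),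
  Rule.mk (nat_lit 4) (nat_lit 314) (Steps.bwd (nat_lit 8) (Steps.bwd (nat_lit 4) (Steps.bwd (nat_lit 9) (Steps.bwd (nat_lit 4) (Steps.bwd (nat_lit 8) (Steps.fwd (nat_lit 1048576) (Steps.bwd (nat_lit 9) (Steps.bwd (nat_lit 4) (Steps.fwd (nat_lit 2359296) (Steps.fwd (nat_lit 1048576) (Steps.fwd (nat_lit 2097152) (Steps.fwd (nat_lit 1048576) (Steps.fwd (nat_lit 2359296) (Steps.fwd (nat_lit 1048576) (Steps.bwd (nat_lit 9) Steps.nil))))))))))))))) (nat_lit 106) (nat_lit 0),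
  Rule.mk (nat_lit 4) (nat_lit 314) (Steps.bwd (nat_lit 8) (Steps.bwd (nat_lit 4) (Steps.bwd (nat_lit 9) (Steps.bwd (nat_lit 4) (Steps.bwd (nat_lit 8) (Steps.bwd (nat_lit 4) (Steps.fwd (nat_lit 2097152) (Steps.bwd (nat_lit 4) (Steps.fwd (nat_lit 2359296) (Steps.fwd (nat_lit 1048576) (Steps.fwd (nat_lit 2097152) (Steps.fwd (nat_lit 1048576) (Steps.fwd (nat_lit 2359296) (Steps.fwd (nat_lit 1048576) (Steps.bwd (nat_lit 9) Steps.nil))))))))))))))) (nat_lit 106) (nat_lit 0),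
  Rule.mk (nat_lit 4) (nat_lit 314) (Steps.bwd (nat_lit 9) (Steps.bwd (nat_lit 4) (Steps.bwd (nat_lit 8) (Steps.bwd (nat_lit 4) (Steps.bwd (nat_lit 9) (Steps.bwd (nat_lit 4) (Steps.fwd (nat_lit 2359296) (Steps.fwd (nat_lit 1048576) (Steps.bwd (nat_lit 9) (Steps.bwd (nat_lit 4) (Steps.fwd (nat_lit 2359296) (Steps.fwd (nat_lit 1048576) (Steps.fwd (nat_lit 2097152) (Steps.fwd (nat_lit 1048576) (Steps.fwd (nat_lit 2359296) Steps.nil))))))))))))))) (nat_lit 106) (nat_lit 2),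
  Rule.mk (nat_lit 4) (nat_lit 314) (Steps.bwd (nat_lit 9) (Steps.bwd (nat_lit 4) (Steps.bwd (nat_lit 8) (Steps.bwd (nat_lit 4) (Steps.bwd (nat_lit 9) (Steps.fwd (nat_lit 1048576) (Steps.bwd (nat_lit 8) (Steps.fwd (nat_lit 1048576) (Steps.fwd (nat_lit 2097152) (Steps.fwd (nat_lit 1048576) (Steps.fwd (nat_lit 2359296) (Steps.fwd (nat_lit 1048576) (Steps.fwd (nat_lit 2097152) (Steps.fwd (nat_lit 1048576) (Steps.fwd (nat_lit 2359296) Steps.nil))))))))))))))) (nat_lit 106) (nat_lit 2),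
  Rule.mk (nat_lit 4) (nat_lit 314) (Steps.bwd (nat_lit 8) (Steps.bwd (nat_lit 4) (Steps.bwd (nat_lit 9) (Steps.bwd (nat_lit 4) (Steps.bwd (nat_lit 8) (Steps.bwd (nat_lit 4) (Steps.fwd (nat_lit 2097152) (Steps.fwd (nat_lit 1048576) (Steps.fwd (nat_lit 2359296) (Steps.fwd (nat_lit 1048576) (Steps.fwd (nat_lit 2097152) (Steps.fwd (nat_lit 1048576) (Steps.fwd (nat_lit 2359296) (Steps.fwd (nat_lit 1048576) (Steps.bwd (nat_lit 9) Steps.nil))))))))))))))) (nat_lit 106) (nat_lit 0),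
  Rule.mk (nat_lit 4) (nat_lit 314) (Steps.bwd (nat_lit 8) (Steps.bwd (nat_lit 4) (Steps.bwd (nat_lit 9) (Steps.bwd (nat_lit 4) (Steps.bwd (nat_lit 8) (Steps.bwd (nat_lit 4) (Steps.bwd (nat_lit 9) (Steps.bwd (nat_lit 4) (Steps.fwd (nat_lit 2359296) (Steps.fwd (nat_lit 1048576) (Steps.fwd (nat_lit 2097152) (Steps.fwd (nat_lit 1048576) (Steps.fwd (nat_lit 2359296) (Steps.bwd (nat_lit 4) (Steps.bwd (nat_lit 9) Steps.nil))))))))))))))) (nat_lit 106) (nat_lit 0),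
  Rule.mk (nat_lit 4) (nat_lit 314) (Steps.fwd (nat_lit 2359296) (Steps.fwd (nat_lit 1048576) (Steps.bwd (nat_lit 9) (Steps.bwd (nat_lit 4) (Steps.bwd (nat_lit 8) (Steps.bwd (nat_lit 4) (Steps.bwd (nat_lit 9) (Steps.fwd (nat_lit 1048576) (Steps.fwd (nat_lit 2359296) (Steps.fwd (nat_lit 1048576) (Steps.fwd (nat_lit 2097152) (Steps.bwd (nat_lit 4) (Steps.fwd (nat_lit 2359296) (Steps.bwd (nat_lit 4) (Steps.bwd (nat_lit 9) Steps.nil))))))))))))))) (nat_lit 106) (nat_lit 0),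
  Rule.mk (nat_lit 4) (nat_lit 314) (Steps.bwd (nat_lit 8) (Steps.bwd (nat_lit 4) (Steps.bwd (nat_lit 9) (Steps.fwd (nat_lit 1048576) (Steps.fwd (nat_lit 2359296) (Steps.bwd (nat_lit 4) (Steps.bwd (nat_lit 9) (Steps.fwd (nat_lit 1048576) (Steps.fwd (nat_lit 2359296) (Steps.fwd (nat_lit 1048576) (Steps.bwd (nat_lit 9) (Steps.bwd (nat_lit 4) (Steps.fwd (nat_lit 2359296) (Steps.fwd (nat_lit 1048576) (Steps.fwd (nat_lit 2097152) Steps.nil))))))))))))))) (nat_lit 106) (nat_lit 0),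
  Rule.mk (nat_lit 4) (nat_lit 314) (Steps.bwd (nat_lit 8) (Steps.bwd (nat_lit 4) (Steps.bwd (nat_lit 9) (Steps.bwd (nat_lit 4) (Steps.fwd (nat_lit 2359296) (Steps.fwd (nat_lit 1048576) (Steps.fwd (nat_lit 2097152) (Steps.fwd (nat_lit 1048576) (Steps.fwd (nat_lit 2359296) (Steps.fwd (nat_lit 1048576) (Steps.bwd (nat_lit 9) (Steps.bwd (nat_lit 4) (Steps.fwd (nat_lit 2359296) (Steps.fwd (nat_lit 1048576) (Steps.fwd (nat_lit 2097152) Steps.nil))))))))))))))) (nat_lit 106) (nat_lit 0),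
  Rule.mk (nat_lit 4) (nat_lit 314) (Steps.bwd (nat_lit 8) (Steps.bwd (nat_lit 4) (Steps.bwd (nat_lit 9) (Steps.bwd (nat_lit 4) (Steps.bwd (nat_lit 8) (Steps.fwd (nat_lit 1048576) (Steps.fwd (nat_lit 2097152) (Steps.fwd (nat_lit 1048576) (Steps.fwd (nat_lit 2359296) (Steps.fwd (nat_lit 1048576) (Steps.fwd (nat_lit 2097152) (Steps.fwd (nat_lit 1048576) (Steps.fwd (nat_lit 2359296) (Steps.bwd (nat_lit 4) (Steps.bwd (nat_lit 9) Steps.nil))))))))))))))) (nat_lit 106) (nat_lit 0),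
  Rule.mk (nat_lit 4) (nat_lit 314) (Steps.bwd (nat_lit 8) (Steps.bwd (nat_lit 4) (Steps.bwd (nat_lit 9) (Steps.bwd (nat_lit 4) (Steps.bwd (nat_lit 8) (Steps.fwd (nat_lit 1048576) (Steps.fwd (nat_lit 2097152) (Steps.fwd (nat_lit 1048576) (Steps.fwd (nat_lit 2359296) (Steps.fwd (nat_lit 1048576) (Steps.fwd (nat_lit 2097152) (Steps.fwd (nat_lit 1048576) (Steps.fwd (nat_lit 2359296) (Steps.fwd (nat_lit 1048576) (Steps.bwd (nat_lit 9) Steps.nil))))))))))))))) (nat_lit 106) (nat_lit 0),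
  Rule.mk (nat_lit 4) (nat_lit 314) (Steps.bwd (nat_lit 8) (Steps.bwd (nat_lit 4) (Steps.bwd (nat_lit 9) (Steps.bwd (nat_lit 4) (Steps.fwd (nat_lit 2359296) (Steps.fwd (nat_lit 1048576) (Steps.fwd (nat_lit 2097152) (Steps.fwd (nat_lit 1048576) (Steps.fwd (nat_lit 2359296) (Steps.bwd (nat_lit 4) (Steps.bwd (nat_lit 9) (Steps.bwd (nat_lit 4) (Steps.fwd (nat_lit 2359296) (Steps.fwd (nat_lit 1048576) (Steps.bwd (nat_lit 9) Steps.nil))))))))))))))) (nat_lit 106) (nat_lit 0),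
  Rule.mk (nat_lit 4) (nat_lit 314) (Steps.bwd (nat_lit 9) (Steps.bwd (nat_lit 4) (Steps.bwd (nat_lit 8) (Steps.bwd (nat_lit 4) (Steps.bwd (nat_lit 9) (Steps.bwd (nat_lit 4) (Steps.fwd (nat_lit 2359296) (Steps.bwd (nat_lit 4) (Steps.fwd (nat_lit 2097152) (Steps.bwd (nat_lit 4) (Steps.fwd (nat_lit 2359296) (Steps.fwd (nat_lit 1048576) (Steps.fwd (nat_lit 2097152) (Steps.fwd (nat_lit 1048576) (Steps.fwd (nat_lit 2359296) Steps.nil))))))))))))))) (nat_lit 106) (nat_lit 2),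
  Rule.mk (nat_lit 4) (nat_lit 314) (Steps.bwd (nat_lit 9) (Steps.bwd (nat_lit 4) (Steps.fwd (nat_lit 2359296) (Steps.fwd (nat_lit 1048576) (Steps.fwd (nat_lit 2097152) (Steps.bwd (nat_lit 4) (Steps.bwd (nat_lit 8) (Steps.bwd (nat_lit 4) (Steps.bwd (nat_lit 9) (Steps.fwd (nat_lit 1048576) (Steps.fwd (nat_lit 2359296) (Steps.bwd (nat_lit 4) (Steps.bwd (nat_lit 9) (Steps.fwd (nat_lit 1048576) (Steps.fwd (nat_lit 2359296) Steps.nil))))))))))))))) (nat_lit 106) (nat_lit 2),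
  Rule.mk (nat_lit 4) (nat_lit 314) (Steps.bwd (nat_lit 8) (Steps.bwd (nat_lit 4) (Steps.bwd (nat_lit 9) (Steps.bwd (nat_lit 4) (Steps.fwd (nat_lit 2359296) (Steps.fwd (nat_lit 1048576) (Steps.fwd (nat_lit 2097152) (Steps.fwd (nat_lit 1048576) (Steps.fwd (nat_lit 2359296) (Steps.bwd (nat_lit 4) (Steps.bwd (nat_lit 9) (Steps.fwd (nat_lit 1048576) (Steps.fwd (nat_lit 2359296) (Steps.bwd (nat_lit 4) (Steps.bwd (nat_lit 9) Steps.nil))))))))))))))) (nat_lit 106) (nat_lit 0),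
  Rule.mk (nat_lit 4) (nat_lit 314) (Steps.bwd (nat_lit 8) (Steps.bwd (nat_lit 4) (Steps.bwd (nat_lit 9) (Steps.bwd (nat_lit 4) (Steps.bwd (nat_lit 8) (Steps.fwd (nat_lit 1048576) (Steps.bwd (nat_lit 9) (Steps.fwd (nat_lit 1048576) (Steps.bwd (nat_lit 8) (Steps.bwd (nat_lit 4) (Steps.fwd (nat_lit 2097152) (Steps.fwd (nat_lit 1048576) (Steps.fwd (nat_lit 2359296) (Steps.fwd (nat_lit 1048576) (Steps.fwd (nat_lit 2097152) Steps.nil))))))))))))))) (nat_lit 106) (nat_lit 0),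
  Rule.mk (nat_lit 1) (nat_lit 154) (Steps.bwd (nat_lit 6) (Steps.bwd (nat_lit 1) (Steps.fwd (nat_lit 1048576) (Steps.fwd (nat_lit 262144) (Steps.fwd (nat_lit 1572864) (Steps.bwd (nat_lit 1) (Steps.bwd (nat_lit 4) Steps.nil))))))) (nat_lit 74) (nat_lit 3),
  Rule.mk (nat_lit 4) (nat_lit 314) (Steps.bwd (nat_lit 9) (Steps.bwd (nat_lit 4) (Steps.fwd (nat_lit 2359296) (Steps.fwd (nat_lit 1048576) (Steps.fwd (nat_lit 2097152) (Steps.bwd (nat_lit 4) (Steps.fwd (nat_lit 2359296) (Steps.bwd (nat_lit 4) (Steps.bwd (nat_lit 9) (Steps.bwd (nat_lit 4) (Steps.fwd (nat_lit 2359296) (Steps.fwd (nat_lit 1048576) (Steps.fwd (nat_lit 2097152) (Steps.fwd (nat_lit 1048576) (Steps.fwd (nat_lit 2359296) Steps.nil))))))))))))))) (nat_lit 106) (nat_lit 2),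
  Rule.mk (nat_lit 4) (nat_lit 154) (Steps.bwd (nat_lit 1) (Steps.fwd (nat_lit 1572864) (Steps.fwd (nat_lit 262144) (Steps.bwd (nat_lit 4) (Steps.bwd (nat_lit 1) (Steps.fwd (nat_lit 1572864) (Steps.fwd (nat_lit 262144) Steps.nil))))))) (nat_lit 74) (nat_lit 2),
  Rule.mk (nat_lit 4) (nat_lit 314) (Steps.bwd (nat_lit 8) (Steps.bwd (nat_lit 4) (Steps.bwd (nat_lit 9) (Steps.bwd (nat_lit 4) (Steps.bwd (nat_lit 8) (Steps.fwd (nat_lit 1048576) (Steps.fwd (nat_lit 2097152) (Steps.bwd (nat_lit 4) (Steps.fwd (nat_lit 2359296) (Steps.fwd (nat_lit 1048576) (Steps.fwd (nat_lit 2097152) (Steps.fwd (nat_lit 1048576) (Steps.fwd (nat_lit 2359296) (Steps.fwd (nat_lit 1048576) (Steps.bwd (nat_lit 9) Steps.nil))))))))))))))) (nat_lit 106) (nat_lit 0),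
  Rule.mk (nat_lit 1) (nat_lit 154) (Steps.bwd (nat_lit 2) (Steps.bwd (nat_lit 1) (Steps.bwd (nat_lit 5) (Steps.fwd (nat_lit 786432) (Steps.fwd (nat_lit 262144) (Steps.bwd (nat_lit 2) (Steps.bwd (nat_lit 5) Steps.nil))))))) (nat_lit 70) (nat_lit 1),
  Rule.mk (nat_lit 1) (nat_lit 154) (Steps.bwd (nat_lit 2) (Steps.bwd (nat_lit 1) (Steps.bwd (nat_lit 7) (Steps.fwd (nat_lit 786432) (Steps.fwd (nat_lit 262144) (Steps.bwd (nat_lit 2) (Steps.fwd (nat_lit 1835008) Steps.nil))))))) (nat_lit 72) (nat_lit 1),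
  Rule.mk (nat_lit 4) (nat_lit 314) (Steps.bwd (nat_lit 9) (Steps.bwd (nat_lit 4) (Steps.bwd (nat_lit 8) (Steps.bwd (nat_lit 4) (Steps.bwd (nat_lit 9) (Steps.bwd (nat_lit 4) (Steps.bwd (nat_lit 8) (Steps.bwd (nat_lit 4) (Steps.bwd (nat_lit 9) (Steps.fwd (nat_lit 1048576) (Steps.fwd (nat_lit 2359296) (Steps.fwd (nat_lit 1048576) (Steps.fwd (nat_lit 2097152) (Steps.fwd (nat_lit 1048576) (Steps.fwd (nat_lit 2359296) Steps.nil))))))))))))))) (nat_lit 106) (nat_lit 2),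
  Rule.mk (nat_lit 1) (nat_lit 154) (Steps.bwd (nat_lit 2) (Steps.bwd (nat_lit 1) (Steps.bwd (nat_lit 7) (Steps.fwd (nat_lit 786432) (Steps.fwd (nat_lit 262144) (Steps.bwd (nat_lit 2) (Steps.bwd (nat_lit 7) Steps.nil))))))) (nat_lit 72) (nat_lit 1),
  Rule.mk (nat_lit 4) (nat_lit 314) (Steps.bwd (nat_lit 9) (Steps.bwd (nat_lit 4) (Steps.bwd (nat_lit 8) (Steps.bwd (nat_lit 4) (Steps.bwd (nat_lit 9) (Steps.bwd (nat_lit 4) (Steps.bwd (nat_lit 8) (Steps.fwd (nat_lit 1048576) (Steps.bwd (nat_lit 9) (Steps.bwd (nat_lit 4) (Steps.fwd (nat_lit 2359296) (Steps.fwd (nat_lit 1048576) (Steps.fwd (nat_lit 2097152) (Steps.fwd (nat_lit 1048576) (Steps.fwd (nat_lit 2359296) Steps.nil))))))))))))))) (nat_lit 106) (nat_lit 2),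
  Rule.mk (nat_lit 3) (nat_lit 154) (Steps.bwd (nat_lit 1) (Steps.bwd (nat_lit 3) (Steps.fwd (nat_lit 1310720) (Steps.fwd (nat_lit 262144) (Steps.fwd (nat_lit 524288) (Steps.fwd (nat_lit 262144) (Steps.fwd (nat_lit 1310720) Steps.nil))))))) (nat_lit 71) (nat_lit 2),
  Rule.mk (nat_lit 4) (nat_lit 154) (Steps.fwd (nat_lit 786432) (Steps.fwd (nat_lit 1835008) (Steps.bwd (nat_lit 5) (Steps.bwd (nat_lit 4) (Steps.bwd (nat_lit 2) (Steps.bwd (nat_lit 7) (Steps.fwd (nat_lit 1572864) Steps.nil))))))) (nat_lit 92) (nat_lit 0),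
  Rule.mk (nat_lit 4) (nat_lit 114) (Steps.fwd (nat_lit 1572864) (Steps.bwd (nat_lit 3) (Steps.bwd (nat_lit 4) (Steps.bwd (nat_lit 5) (Steps.fwd (nat_lit 524288) Steps.nil))))) (nat_lit 59) (nat_lit 1),
  Rule.mk (nat_lit 4) (nat_lit 114) (Steps.fwd (nat_lit 1310720) (Steps.bwd (nat_lit 3) (Steps.bwd (nat_lit 4) (Steps.bwd (nat_lit 6) (Steps.fwd (nat_lit 524288) Steps.nil))))) (nat_lit 59) (nat_lit 4),
  Rule.mk (nat_lit 4) (nat_lit 114) (Steps.bwd (nat_lit 7) (Steps.bwd (nat_lit 3) (Steps.bwd (nat_lit 4) (Steps.bwd (nat_lit 7) (Steps.fwd (nat_lit 524288) Steps.nil))))) (nat_lit 65) (nat_lit 1),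
  Rule.mk (nat_lit 4) (nat_lit 114) (Steps.fwd (nat_lit 786432) (Steps.bwd (nat_lit 6) (Steps.bwd (nat_lit 4) (Steps.fwd (nat_lit 786432) (Steps.fwd (nat_lit 1310720) Steps.nil))))) (nat_lit 58) (nat_lit 3),
  Rule.mk (nat_lit 4) (nat_lit 114) (Steps.bwd (nat_lit 7) (Steps.bwd (nat_lit 6) (Steps.bwd (nat_lit 4) (Steps.bwd (nat_lit 7) (Steps.bwd (nat_lit 5) Steps.nil))))) (nat_lit 67) (nat_lit 0),
  Rule.mk (nat_lit 4) (nat_lit 114) (Steps.fwd (nat_lit 786432) (Steps.bwd (nat_lit 5) (Steps.bwd (nat_lit 4) (Steps.fwd (nat_lit 786432) (Steps.fwd (nat_lit 1572864) Steps.nil))))) (nat_lit 58) (nat_lit 0),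
  Rule.mk (nat_lit 4) (nat_lit 114) (Steps.bwd (nat_lit 6) (Steps.fwd (nat_lit 1835008) (Steps.fwd (nat_lit 1048576) (Steps.bwd (nat_lit 5) (Steps.bwd (nat_lit 7) Steps.nil))))) (nat_lit 66) (nat_lit 4),
  Rule.mk (nat_lit 4) (nat_lit 114) (Steps.fwd (nat_lit 1572864) (Steps.bwd (nat_lit 7) (Steps.fwd (nat_lit 1048576) (Steps.bwd (nat_lit 5) (Steps.fwd (nat_lit 1835008) Steps.nil))))) (nat_lit 66) (nat_lit 4),
  Rule.mk (nat_lit 4) (nat_lit 114) (Steps.bwd (nat_lit 6) (Steps.fwd (nat_lit 1835008) (Steps.bwd (nat_lit 4) (Steps.bwd (nat_lit 5) (Steps.bwd (nat_lit 7) Steps.nil))))) (nat_lit 66) (nat_lit 4),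
  Rule.mk (nat_lit 4) (nat_lit 154) (Steps.fwd (nat_lit 786432) (Steps.bwd (nat_lit 6) (Steps.fwd (nat_lit 1835008) (Steps.bwd (nat_lit 4) (Steps.bwd (nat_lit 2) (Steps.bwd (nat_lit 5) (Steps.bwd (nat_lit 7) Steps.nil))))))) (nat_lit 88) (nat_lit 4),
  Rule.mk (nat_lit 3) (nat_lit 154) (Steps.bwd (nat_lit 1) (Steps.bwd (nat_lit 3) (Steps.fwd (nat_lit 1310720) (Steps.fwd (nat_lit 262144) (Steps.fwd (nat_lit 524288) (Steps.bwd (nat_lit 1) (Steps.fwd (nat_lit 1310720) Steps.nil))))))) (nat_lit 71) (nat_lit 2),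
  Rule.mk (nat_lit 1) (nat_lit 154) (Steps.fwd (nat_lit 1835008) (Steps.bwd (nat_lit 3) (Steps.bwd (nat_lit 1) (Steps.bwd (nat_lit 3) (Steps.fwd (nat_lit 1835008) (Steps.fwd (nat_lit 262144) (Steps.bwd (nat_lit 3) Steps.nil))))))) (nat_lit 73) (nat_lit 0),
  Rule.mk (nat_lit 4) (nat_lit 114) (Steps.bwd (nat_lit 6) (Steps.fwd (nat_lit 524288) (Steps.bwd (nat_lit 4) (Steps.fwd (nat_lit 1310720) (Steps.bwd (nat_lit 3) Steps.nil))))) (nat_lit 59) (nat_lit 1),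
  Rule.mk (nat_lit 4) (nat_lit 314) (Steps.bwd (nat_lit 9) (Steps.bwd (nat_lit 4) (Steps.bwd (nat_lit 8) (Steps.bwd (nat_lit 4) (Steps.bwd (nat_lit 9) (Steps.fwd (nat_lit 1048576) (Steps.fwd (nat_lit 2359296) (Steps.bwd (nat_lit 4) (Steps.fwd (nat_lit 2097152) (Steps.bwd (nat_lit 4) (Steps.fwd (nat_lit 2359296) (Steps.fwd (nat_lit 1048576) (Steps.fwd (nat_lit 2097152) (Steps.fwd (nat_lit 1048576) (Steps.fwd (nat_lit 2359296) Steps.nil))))))))))))))) (nat_lit 106) (nat_lit 2),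
  Rule.mk (nat_lit 3) (nat_lit 154) (Steps.bwd (nat_lit 1) (Steps.bwd (nat_lit 3) (Steps.fwd (nat_lit 1310720) (Steps.fwd (nat_lit 262144) (Steps.fwd (nat_lit 524288) (Steps.fwd (nat_lit 262144) (Steps.bwd (nat_lit 5) Steps.nil))))))) (nat_lit 71) (nat_lit 2),
  Rule.mk (nat_lit 4) (nat_lit 314) (Steps.bwd (nat_lit 8) (Steps.bwd (nat_lit 4) (Steps.bwd (nat_lit 9) (Steps.bwd (nat_lit 4) (Steps.bwd (nat_lit 8) (Steps.fwd (nat_lit 1048576) (Steps.fwd (nat_lit 2097152) (Steps.bwd (nat_lit 4) (Steps.fwd (nat_lit 2359296) (Steps.bwd (nat_lit 4) (Steps.fwd (nat_lit 2097152) (Steps.fwd (nat_lit 1048576) (Steps.fwd (nat_lit 2359296) (Steps.fwd (nat_lit 1048576) (Steps.fwd (nat_lit 2097152) Steps.nil))))))))))))))) (nat_lit 106) (nat_lit 0),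
  Rule.mk (nat_lit 3) (nat_lit 154) (Steps.bwd (nat_lit 1) (Steps.fwd (nat_lit 1835008) (Steps.fwd (nat_lit 524288) (Steps.fwd (nat_lit 262144) (Steps.bwd (nat_lit 3) (Steps.fwd (nat_lit 1835008) (Steps.bwd (nat_lit 1) Steps.nil))))))) (nat_lit 73) (nat_lit 7),
  Rule.mk (nat_lit 4) (nat_lit 314) (Steps.bwd (nat_lit 9) (Steps.bwd (nat_lit 4) (Steps.bwd (nat_lit 8) (Steps.bwd (nat_lit 4) (Steps.bwd (nat_lit 9) (Steps.bwd (nat_lit 4) (Steps.fwd (nat_lit 2359296) (Steps.fwd (nat_lit 1048576) (Steps.fwd (nat_lit 2097152) (Steps.bwd (nat_lit 4) (Steps.fwd (nat_lit 2359296) (Steps.fwd (nat_lit 1048576) (Steps.fwd (nat_lit 2097152) (Steps.fwd (nat_lit 1048576) (Steps.fwd (nat_lit 2359296) Steps.nil))))))))))))))) (nat_lit 106) (nat_lit 2),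
  Rule.mk (nat_lit 4) (nat_lit 314) (Steps.bwd (nat_lit 8) (Steps.bwd (nat_lit 4) (Steps.bwd (nat_lit 9) (Steps.bwd (nat_lit 4) (Steps.bwd (nat_lit 8) (Steps.bwd (nat_lit 4) (Steps.bwd (nat_lit 9) (Steps.bwd (nat_lit 4) (Steps.bwd (nat_lit 8) (Steps.fwd (nat_lit 1048576) (Steps.fwd (nat_lit 2097152) (Steps.fwd (nat_lit 1048576) (Steps.fwd (nat_lit 2359296) (Steps.fwd (nat_lit 1048576) (Steps.fwd (nat_lit 2097152) Steps.nil))))))))))))))) (nat_lit 106) (nat_lit 0),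
  Rule.mk (nat_lit 1) (nat_lit 154) (Steps.bwd (nat_lit 4) (Steps.fwd (nat_lit 262144) (Steps.bwd (nat_lit 7) (Steps.bwd (nat_lit 4) (Steps.bwd (nat_lit 1) (Steps.fwd (nat_lit 1048576) (Steps.bwd (nat_lit 7) Steps.nil))))))) (nat_lit 76) (nat_lit 1),
  Rule.mk (nat_lit 4) (nat_lit 154) (Steps.bwd (nat_lit 1) (Steps.bwd (nat_lit 7) (Steps.fwd (nat_lit 1048576) (Steps.bwd (nat_lit 1) (Steps.bwd (nat_lit 4) (Steps.bwd (nat_lit 7) (Steps.fwd (nat_lit 262144) Steps.nil))))))) (nat_lit 76) (nat_lit 2),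
  Rule.mk (nat_lit 3) (nat_lit 154) (Steps.bwd (nat_lit 1) (Steps.bwd (nat_lit 3) (Steps.fwd (nat_lit 1310720) (Steps.fwd (nat_lit 262144) (Steps.bwd (nat_lit 3) (Steps.bwd (nat_lit 1) (Steps.bwd (nat_lit 5) Steps.nil))))))) (nat_lit 71) (nat_lit 2),
  Rule.mk (nat_lit 4) (nat_lit 314) (Steps.bwd (nat_lit 8) (Steps.bwd (nat_lit 4) (Steps.bwd (nat_lit 9) (Steps.bwd (nat_lit 4) (Steps.bwd (nat_lit 8) (Steps.fwd (nat_lit 1048576) (Steps.fwd (nat_lit 2097152) (Steps.fwd (nat_lit 1048576) (Steps.fwd (nat_lit 2359296) (Steps.fwd (nat_lit 1048576) (Steps.fwd (nat_lit 2097152) (Steps.fwd (nat_lit 1048576) (Steps.fwd (nat_lit 2359296) (Steps.fwd (nat_lit 1048576) (Steps.fwd (nat_lit 2097152) Steps.nil))))))))))))))) (nat_lit 106) (nat_lit 0),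
  Rule.mk (nat_lit 4) (nat_lit 314) (Steps.bwd (nat_lit 9) (Steps.bwd (nat_lit 4) (Steps.bwd (nat_lit 8) (Steps.bwd (nat_lit 4) (Steps.bwd (nat_lit 9) (Steps.fwd (nat_lit 1048576) (Steps.fwd (nat_lit 2359296) (Steps.fwd (nat_lit 1048576) (Steps.fwd (nat_lit 2097152) (Steps.fwd (nat_lit 1048576) (Steps.fwd (nat_lit 2359296) (Steps.fwd (nat_lit 1048576) (Steps.fwd (nat_lit 2097152) (Steps.fwd (nat_lit 1048576) (Steps.fwd (nat_lit 2359296) Steps.nil))))))))))))))) (nat_lit 106) (nat_lit 2),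
  Rule.mk (nat_lit 3) (nat_lit 154) (Steps.bwd (nat_lit 1) (Steps.fwd (nat_lit 1835008) (Steps.fwd (nat_lit 524288) (Steps.fwd (nat_lit 262144) (Steps.bwd (nat_lit 3) (Steps.bwd (nat_lit 7) (Steps.bwd (nat_lit 1) Steps.nil))))))) (nat_lit 73) (nat_lit 7),
  Rule.mk (nat_lit 3) (nat_lit 154) (Steps.bwd (nat_lit 1) (Steps.fwd (nat_lit 1835008) (Steps.bwd (nat_lit 3) (Steps.fwd (nat_lit 262144) (Steps.bwd (nat_lit 3) (Steps.bwd (nat_lit 7) (Steps.bwd (nat_lit 1) Steps.nil))))))) (nat_lit 73) (nat_lit 7),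
  Rule.mk (nat_lit 4) (nat_lit 314) (Steps.bwd (nat_lit 8) (Steps.bwd (nat_lit 4) (Steps.bwd (nat_lit 9) (Steps.bwd (nat_lit 4) (Steps.bwd (nat_lit 8) (Steps.bwd (nat_lit 4) (Steps.bwd (nat_lit 9) (Steps.bwd (nat_lit 4) (Steps.fwd (nat_lit 2359296) (Steps.fwd (nat_lit 1048576) (Steps.fwd (nat_lit 2097152) (Steps.fwd (nat_lit 1048576) (Steps.fwd (nat_lit 2359296) (Steps.fwd (nat_lit 1048576) (Steps.fwd (nat_lit 2097152) Steps.nil))))))))))))))) (nat_lit 106) (nat_lit 0),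
  Rule.mk (nat_lit 4) (nat_lit 314) (Steps.bwd (nat_lit 8) (Steps.bwd (nat_lit 4) (Steps.bwd (nat_lit 9) (Steps.bwd (nat_lit 4) (Steps.bwd (nat_lit 8) (Steps.bwd (nat_lit 4) (Steps.fwd (nat_lit 2097152) (Steps.bwd (nat_lit 4) (Steps.fwd (nat_lit 2359296) (Steps.fwd (nat_lit 1048576) (Steps.fwd (nat_lit 2097152) (Steps.fwd (nat_lit 1048576) (Steps.fwd (nat_lit 2359296) (Steps.bwd (nat_lit 4) (Steps.bwd (nat_lit 9) Steps.nil))))))))))))))) (nat_lit 106) (nat_lit 0),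
  Rule.mk (nat_lit 4) (nat_lit 314) (Steps.fwd (nat_lit 2359296) (Steps.bwd (nat_lit 4) (Steps.bwd (nat_lit 9) (Steps.bwd (nat_lit 4) (Steps.bwd (nat_lit 8) (Steps.bwd (nat_lit 4) (Steps.bwd (nat_lit 9) (Steps.bwd (nat_lit 4) (Steps.fwd (nat_lit 2359296) (Steps.fwd (nat_lit 1048576) (Steps.fwd (nat_lit 2097152) (Steps.fwd (nat_lit 1048576) (Steps.fwd (nat_lit 2359296) (Steps.bwd (nat_lit 4) (Steps.bwd (nat_lit 9) Steps.nil))))))))))))))) (nat_lit 106) (nat_lit 0),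
  Rule.mk (nat_lit 4) (nat_lit 314) (Steps.bwd (nat_lit 9) (Steps.bwd (nat_lit 4) (Steps.bwd (nat_lit 8) (Steps.bwd (nat_lit 4) (Steps.bwd (nat_lit 9) (Steps.bwd (nat_lit 4) (Steps.bwd (nat_lit 8) (Steps.bwd (nat_lit 4) (Steps.bwd (nat_lit 9) (Steps.bwd (nat_lit 4) (Steps.fwd (nat_lit 2359296) (Steps.fwd (nat_lit 1048576) (Steps.fwd (nat_lit 2097152) (Steps.fwd (nat_lit 1048576) (Steps.fwd (nat_lit 2359296) Steps.nil))))))))))))))) (nat_lit 106) (nat_lit 2),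
  Rule.mk (nat_lit 4) (nat_lit 314) (Steps.bwd (nat_lit 8) (Steps.bwd (nat_lit 4) (Steps.bwd (nat_lit 9) (Steps.bwd (nat_lit 4) (Steps.fwd (nat_lit 2359296) (Steps.fwd (nat_lit 1048576) (Steps.fwd (nat_lit 2097152) (Steps.fwd (nat_lit 1048576) (Steps.fwd (nat_lit 2359296) (Steps.fwd (nat_lit 1048576) (Steps.bwd (nat_lit 9) (Steps.fwd (nat_lit 1048576) (Steps.fwd (nat_lit 2359296) (Steps.bwd (nat_lit 4) (Steps.bwd (nat_lit 9) Steps.nil))))))))))))))) (nat_lit 106) (nat_lit 0)]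
noncomputable def R_23 : List (Rule) := [Rule.mk (nat_lit 4) (nat_lit 314) (Steps.bwd (nat_lit 8) (Steps.bwd (nat_lit 4) (Steps.bwd (nat_lit 9) (Steps.fwd (nat_lit 1048576) (Steps.fwd (nat_lit 2359296) (Steps.bwd (nat_lit 4) (Steps.bwd (nat_lit 9) (Steps.fwd (nat_lit 1048576) (Steps.fwd (nat_lit 2359296) (Steps.bwd (nat_lit 4) (Steps.bwd (nat_lit 9) (Steps.bwd (nat_lit 4) (Steps.fwd (nat_lit 2359296) (Steps.fwd (nat_lit 1048576) (Steps.fwd (nat_lit 2097152) Steps.nil))))))))))))))) (nat_lit 106) (nat_lit 0),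
  Rule.mk (nat_lit 4) (nat_lit 314) (Steps.bwd (nat_lit 9) (Steps.bwd (nat_lit 4) (Steps.fwd (nat_lit 2359296) (Steps.fwd (nat_lit 1048576) (Steps.bwd (nat_lit 9) (Steps.bwd (nat_lit 4) (Steps.bwd (nat_lit 8) (Steps.bwd (nat_lit 4) (Steps.bwd (nat_lit 9) (Steps.fwd (nat_lit 1048576) (Steps.fwd (nat_lit 2359296) (Steps.fwd (nat_lit 1048576) (Steps.fwd (nat_lit 2097152) (Steps.bwd (nat_lit 4) (Steps.fwd (nat_lit 2359296) Steps.nil))))))))))))))) (nat_lit 106) (nat_lit 2),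
  Rule.mk (nat_lit 4) (nat_lit 314) (Steps.bwd (nat_lit 8) (Steps.bwd (nat_lit 4) (Steps.bwd (nat_lit 9) (Steps.bwd (nat_lit 4) (Steps.bwd (nat_lit 8) (Steps.bwd (nat_lit 4) (Steps.fwd (nat_lit 2097152) (Steps.fwd (nat_lit 1048576) (Steps.fwd (nat_lit 2359296) (Steps.fwd (nat_lit 1048576) (Steps.fwd (nat_lit 2097152) (Steps.fwd (nat_lit 1048576) (Steps.fwd (nat_lit 2359296) (Steps.bwd (nat_lit 4) (Steps.bwd (nat_lit 9) Steps.nil))))))))))))))) (nat_lit 106) (nat_lit 0),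
  Rule.mk (nat_lit 4) (nat_lit 314) (Steps.bwd (nat_lit 9) (Steps.bwd (nat_lit 4) (Steps.fwd (nat_lit 2359296) (Steps.fwd (nat_lit 1048576) (Steps.fwd (nat_lit 2097152) (Steps.fwd (nat_lit 1048576) (Steps.bwd (nat_lit 8) (Steps.bwd (nat_lit 4) (Steps.bwd (nat_lit 9) (Steps.bwd (nat_lit 4) (Steps.fwd (nat_lit 2359296) (Steps.fwd (nat_lit 1048576) (Steps.fwd (nat_lit 2097152) (Steps.fwd (nat_lit 1048576) (Steps.fwd (nat_lit 2359296) Steps.nil))))))))))))))) (nat_lit 106) (nat_lit 2),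
  Rule.mk (nat_lit 4) (nat_lit 314) (Steps.bwd (nat_lit 9) (Steps.bwd (nat_lit 4) (Steps.bwd (nat_lit 8) (Steps.bwd (nat_lit 4) (Steps.bwd (nat_lit 9) (Steps.bwd (nat_lit 4) (Steps.fwd (nat_lit 2359296) (Steps.bwd (nat_lit 4) (Steps.bwd (nat_lit 9) (Steps.bwd (nat_lit 4) (Steps.fwd (nat_lit 2359296) (Steps.fwd (nat_lit 1048576) (Steps.fwd (nat_lit 2097152) (Steps.fwd (nat_lit 1048576) (Steps.fwd (nat_lit 2359296) Steps.nil))))))))))))))) (nat_lit 106) (nat_lit 2),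
  Rule.mk (nat_lit 4) (nat_lit 314) (Steps.bwd (nat_lit 9) (Steps.bwd (nat_lit 4) (Steps.fwd (nat_lit 2359296) (Steps.bwd (nat_lit 4) (Steps.bwd (nat_lit 9) (Steps.bwd (nat_lit 4) (Steps.fwd (nat_lit 2359296) (Steps.fwd (nat_lit 1048576) (Steps.bwd (nat_lit 9) (Steps.bwd (nat_lit 4) (Steps.fwd (nat_lit 2359296) (Steps.bwd (nat_lit 4) (Steps.bwd (nat_lit 9) (Steps.bwd (nat_lit 4) (Steps.fwd (nat_lit 2359296) Steps.nil))))))))))))))) (nat_lit 106) (nat_lit 2),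
  Rule.mk (nat_lit 4) (nat_lit 314) (Steps.bwd (nat_lit 9) (Steps.bwd (nat_lit 4) (Steps.bwd (nat_lit 8) (Steps.bwd (nat_lit 4) (Steps.bwd (nat_lit 9) (Steps.fwd (nat_lit 1048576) (Steps.bwd (nat_lit 8) (Steps.fwd (nat_lit 1048576) (Steps.fwd (nat_lit 2097152) (Steps.fwd (nat_lit 1048576) (Steps.fwd (nat_lit 2359296) (Steps.fwd (nat_lit 1048576) (Steps.fwd (nat_lit 2097152) (Steps.bwd (nat_lit 4) (Steps.fwd (nat_lit 2359296) Steps.nil))))))))))))))) (nat_lit 106) (nat_lit 2),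
  Rule.mk (nat_lit 4) (nat_lit 314) (Steps.bwd (nat_lit 9) (Steps.bwd (nat_lit 4) (Steps.fwd (nat_lit 2359296) (Steps.fwd (nat_lit 1048576) (Steps.fwd (nat_lit 2097152) (Steps.bwd (nat_lit 4) (Steps.fwd (nat_lit 2359296) (Steps.bwd (nat_lit 4) (Steps.bwd (nat_lit 9) (Steps.bwd (nat_lit 4) (Steps.bwd (nat_lit 8) (Steps.bwd (nat_lit 4) (Steps.bwd (nat_lit 9) (Steps.fwd (nat_lit 1048576) (Steps.fwd (nat_lit 2359296) Steps.nil))))))))))))))) (nat_lit 106) (nat_lit 2),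
  Rule.mk (nat_lit 4) (nat_lit 314) (Steps.bwd (nat_lit 9) (Steps.bwd (nat_lit 4) (Steps.bwd (nat_lit 8) (Steps.bwd (nat_lit 4) (Steps.bwd (nat_lit 9) (Steps.fwd (nat_lit 1048576) (Steps.fwd (nat_lit 2359296) (Steps.bwd (nat_lit 4) (Steps.fwd (nat_lit 2097152) (Steps.fwd (nat_lit 1048576) (Steps.fwd (nat_lit 2359296) (Steps.fwd (nat_lit 1048576) (Steps.fwd (nat_lit 2097152) (Steps.bwd (nat_lit 4) (Steps.fwd (nat_lit 2359296) Steps.nil))))))))))))))) (nat_lit 106) (nat_lit 2),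
  Rule.mk (nat_lit 4) (nat_lit 154) (Steps.bwd (nat_lit 1) (Steps.fwd (nat_lit 1835008) (Steps.fwd (nat_lit 1048576) (Steps.bwd (nat_lit 1) (Steps.bwd (nat_lit 4) (Steps.fwd (nat_lit 1835008) (Steps.fwd (nat_lit 262144) Steps.nil))))))) (nat_lit 76) (nat_lit 2),
  Rule.mk (nat_lit 4) (nat_lit 314) (Steps.bwd (nat_lit 8) (Steps.bwd (nat_lit 4) (Steps.bwd (nat_lit 9) (Steps.bwd (nat_lit 4) (Steps.bwd (nat_lit 8) (Steps.fwd (nat_lit 1048576) (Steps.fwd (nat_lit 2097152) (Steps.bwd (nat_lit 4) (Steps.fwd (nat_lit 2359296) (Steps.fwd (nat_lit 1048576) (Steps.fwd (nat_lit 2097152) (Steps.fwd (nat_lit 1048576) (Steps.fwd (nat_lit 2359296) (Steps.bwd (nat_lit 4) (Steps.bwd (nat_lit 9) Steps.nil))))))))))))))) (nat_lit 106) (nat_lit 0),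
  Rule.mk (nat_lit 7) (nat_lit 74) (Steps.fwd (nat_lit 1048576) (Steps.bwd (nat_lit 7) (Steps.bwd (nat_lit 4) Steps.nil))) (nat_lit 30) (nat_lit 1),
  Rule.mk (nat_lit 1) (nat_lit 154) (Steps.bwd (nat_lit 4) (Steps.fwd (nat_lit 262144) (Steps.bwd (nat_lit 6) (Steps.bwd (nat_lit 1) (Steps.fwd (nat_lit 1048576) (Steps.fwd (nat_lit 262144) (Steps.fwd (nat_lit 1572864) Steps.nil))))))) (nat_lit 74) (nat_lit 1),
  Rule.mk (nat_lit 1) (nat_lit 154) (Steps.bwd (nat_lit 4) (Steps.fwd (nat_lit 262144) (Steps.bwd (nat_lit 7) (Steps.bwd (nat_lit 4) (Steps.bwd (nat_lit 1) (Steps.fwd (nat_lit 1048576) (Steps.fwd (nat_lit 1835008) Steps.nil))))))) (nat_lit 76) (nat_lit 1),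
  Rule.mk (nat_lit 1) (nat_lit 74) (Steps.fwd (nat_lit 1310720) (Steps.bwd (nat_lit 1) (Steps.fwd (nat_lit 1310720) Steps.nil))) (nat_lit 18) (nat_lit 1),
  Rule.mk (nat_lit 4) (nat_lit 314) (Steps.bwd (nat_lit 8) (Steps.bwd (nat_lit 4) (Steps.bwd (nat_lit 9) (Steps.bwd (nat_lit 4) (Steps.bwd (nat_lit 8) (Steps.bwd (nat_lit 4) (Steps.bwd (nat_lit 9) (Steps.fwd (nat_lit 1048576) (Steps.bwd (nat_lit 8) (Steps.fwd (nat_lit 1048576) (Steps.fwd (nat_lit 2097152) (Steps.fwd (nat_lit 1048576) (Steps.fwd (nat_lit 2359296) (Steps.fwd (nat_lit 1048576) (Steps.fwd (nat_lit 2097152) Steps.nil))))))))))))))) (nat_lit 106) (nat_lit 0),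
  Rule.mk (nat_lit 4) (nat_lit 314) (Steps.bwd (nat_lit 8) (Steps.bwd (nat_lit 4) (Steps.bwd (nat_lit 9) (Steps.bwd (nat_lit 4) (Steps.bwd (nat_lit 8) (Steps.fwd (nat_lit 1048576) (Steps.bwd (nat_lit 9) (Steps.fwd (nat_lit 1048576) (Steps.fwd (nat_lit 2359296) (Steps.bwd (nat_lit 4) (Steps.fwd (nat_lit 2097152) (Steps.fwd (nat_lit 1048576) (Steps.fwd (nat_lit 2359296) (Steps.fwd (nat_lit 1048576) (Steps.fwd (nat_lit 2097152) Steps.nil))))))))))))))) (nat_lit 106) (nat_lit 0),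
  Rule.mk (nat_lit 4) (nat_lit 314) (Steps.bwd (nat_lit 9) (Steps.bwd (nat_lit 4) (Steps.bwd (nat_lit 8) (Steps.bwd (nat_lit 4) (Steps.bwd (nat_lit 9) (Steps.fwd (nat_lit 1048576) (Steps.fwd (nat_lit 2359296) (Steps.fwd (nat_lit 1048576) (Steps.fwd (nat_lit 2097152) (Steps.fwd (nat_lit 1048576) (Steps.fwd (nat_lit 2359296) (Steps.fwd (nat_lit 1048576) (Steps.fwd (nat_lit 2097152) (Steps.bwd (nat_lit 4) (Steps.fwd (nat_lit 2359296) Steps.nil))))))))))))))) (nat_lit 106) (nat_lit 2),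
  Rule.mk (nat_lit 4) (nat_lit 314) (Steps.bwd (nat_lit 9) (Steps.bwd (nat_lit 4) (Steps.bwd (nat_lit 8) (Steps.bwd (nat_lit 4) (Steps.bwd (nat_lit 9) (Steps.bwd (nat_lit 4) (Steps.fwd (nat_lit 2359296) (Steps.bwd (nat_lit 4) (Steps.fwd (nat_lit 2097152) (Steps.fwd (nat_lit 1048576) (Steps.fwd (nat_lit 2359296) (Steps.fwd (nat_lit 1048576) (Steps.fwd (nat_lit 2097152) (Steps.bwd (nat_lit 4) (Steps.fwd (nat_lit 2359296) Steps.nil))))))))))))))) (nat_lit 106) (nat_lit 2),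
  Rule.mk (nat_lit 4) (nat_lit 114) (Steps.bwd (nat_lit 2) (Steps.bwd (nat_lit 6) (Steps.fwd (nat_lit 1048576) (Steps.bwd (nat_lit 2) (Steps.fwd (nat_lit 1310720) Steps.nil))))) (nat_lit 58) (nat_lit 3),
  Rule.mk (nat_lit 4) (nat_lit 154) (Steps.bwd (nat_lit 1) (Steps.fwd (nat_lit 1835008) (Steps.fwd (nat_lit 1048576) (Steps.fwd (nat_lit 262144) (Steps.bwd (nat_lit 4) (Steps.bwd (nat_lit 7) (Steps.fwd (nat_lit 262144) Steps.nil))))))) (nat_lit 76) (nat_lit 2),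
  Rule.mk (nat_lit 1) (nat_lit 154) (Steps.fwd (nat_lit 1310720) (Steps.fwd (nat_lit 524288) (Steps.bwd (nat_lit 1) (Steps.fwd (nat_lit 524288) (Steps.fwd (nat_lit 1310720) (Steps.fwd (nat_lit 262144) (Steps.bwd (nat_lit 3) Steps.nil))))))) (nat_lit 71) (nat_lit 0),
  Rule.mk (nat_lit 1) (nat_lit 154) (Steps.bwd (nat_lit 5) (Steps.fwd (nat_lit 524288) (Steps.bwd (nat_lit 1) (Steps.fwd (nat_lit 524288) (Steps.bwd (nat_lit 5) (Steps.fwd (nat_lit 262144) (Steps.bwd (nat_lit 3) Steps.nil))))))) (nat_lit 71) (nat_lit 0),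
  Rule.mk (nat_lit 1) (nat_lit 154) (Steps.fwd (nat_lit 786432) (Steps.bwd (nat_lit 1) (Steps.fwd (nat_lit 1835008) (Steps.bwd (nat_lit 2) (Steps.fwd (nat_lit 262144) (Steps.bwd (nat_lit 2) (Steps.fwd (nat_lit 1835008) Steps.nil))))))) (nat_lit 72) (nat_lit 1),
  Rule.mk (nat_lit 4) (nat_lit 314) (Steps.fwd (nat_lit 2359296) (Steps.fwd (nat_lit 1048576) (Steps.bwd (nat_lit 9) (Steps.bwd (nat_lit 4) (Steps.bwd (nat_lit 8) (Steps.bwd (nat_lit 4) (Steps.bwd (nat_lit 9) (Steps.fwd (nat_lit 1048576) (Steps.fwd (nat_lit 2359296) (Steps.fwd (nat_lit 1048576) (Steps.fwd (nat_lit 2097152) (Steps.bwd (nat_lit 4) (Steps.fwd (nat_lit 2359296) (Steps.fwd (nat_lit 1048576) (Steps.bwd (nat_lit 9) Steps.nil))))))))))))))) (nat_lit 106) (nat_lit 0),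
  Rule.mk (nat_lit 1) (nat_lit 154) (Steps.fwd (nat_lit 786432) (Steps.bwd (nat_lit 1) (Steps.fwd (nat_lit 1835008) (Steps.bwd (nat_lit 2) (Steps.fwd (nat_lit 262144) (Steps.bwd (nat_lit 2) (Steps.bwd (nat_lit 7) Steps.nil))))))) (nat_lit 72) (nat_lit 1),
  Rule.mk (nat_lit 1) (nat_lit 154) (Steps.fwd (nat_lit 786432) (Steps.bwd (nat_lit 1) (Steps.bwd (nat_lit 7) (Steps.fwd (nat_lit 786432) (Steps.fwd (nat_lit 262144) (Steps.bwd (nat_lit 2) (Steps.fwd (nat_lit 1835008) Steps.nil))))))) (nat_lit 72) (nat_lit 1),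
  Rule.mk (nat_lit 1) (nat_lit 154) (Steps.bwd (nat_lit 5) (Steps.fwd (nat_lit 524288) (Steps.bwd (nat_lit 1) (Steps.fwd (nat_lit 524288) (Steps.bwd (nat_lit 5) (Steps.fwd (nat_lit 262144) (Steps.fwd (nat_lit 524288) Steps.nil))))))) (nat_lit 71) (nat_lit 0),
  Rule.mk (nat_lit 1) (nat_lit 154) (Steps.fwd (nat_lit 1310720) (Steps.fwd (nat_lit 524288) (Steps.bwd (nat_lit 1) (Steps.fwd (nat_lit 524288) (Steps.bwd (nat_lit 5) (Steps.fwd (nat_lit 262144) (Steps.bwd (nat_lit 3) Steps.nil))))))) (nat_lit 71) (nat_lit 0),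
  Rule.mk (nat_lit 1) (nat_lit 154) (Steps.bwd (nat_lit 2) (Steps.bwd (nat_lit 1) (Steps.fwd (nat_lit 1835008) (Steps.bwd (nat_lit 2) (Steps.fwd (nat_lit 262144) (Steps.bwd (nat_lit 2) (Steps.bwd (nat_lit 7) Steps.nil))))))) (nat_lit 72) (nat_lit 1),
  Rule.mk (nat_lit 4) (nat_lit 314) (Steps.bwd (nat_lit 9) (Steps.bwd (nat_lit 4) (Steps.fwd (nat_lit 2359296) (Steps.fwd (nat_lit 1048576) (Steps.fwd (nat_lit 2097152) (Steps.bwd (nat_lit 4) (Steps.fwd (nat_lit 2359296) (Steps.fwd (nat_lit 1048576) (Steps.bwd (nat_lit 9) (Steps.bwd (nat_lit 4) (Steps.fwd (nat_lit 2359296) (Steps.fwd (nat_lit 1048576) (Steps.fwd (nat_lit 2097152) (Steps.fwd (nat_lit 1048576) (Steps.fwd (nat_lit 2359296) Steps.nil))))))))))))))) (nat_lit 106) (nat_lit 2),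
  Rule.mk (nat_lit 1) (nat_lit 154) (Steps.bwd (nat_lit 2) (Steps.bwd (nat_lit 1) (Steps.fwd (nat_lit 1310720) (Steps.bwd (nat_lit 2) (Steps.fwd (nat_lit 262144) (Steps.bwd (nat_lit 2) (Steps.bwd (nat_lit 5) Steps.nil))))))) (nat_lit 70) (nat_lit 1),
  Rule.mk (nat_lit 3) (nat_lit 154) (Steps.bwd (nat_lit 1) (Steps.fwd (nat_lit 524288) (Steps.bwd (nat_lit 5) (Steps.fwd (nat_lit 262144) (Steps.bwd (nat_lit 3) (Steps.bwd (nat_lit 1) (Steps.fwd (nat_lit 1310720) Steps.nil))))))) (nat_lit 71) (nat_lit 2),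
  Rule.mk (nat_lit 1) (nat_lit 154) (Steps.fwd (nat_lit 1835008) (Steps.bwd (nat_lit 3) (Steps.bwd (nat_lit 1) (Steps.fwd (nat_lit 524288) (Steps.bwd (nat_lit 7) (Steps.fwd (nat_lit 262144) (Steps.bwd (nat_lit 3) Steps.nil))))))) (nat_lit 73) (nat_lit 0),
  Rule.mk (nat_lit 4) (nat_lit 154) (Steps.bwd (nat_lit 1) (Steps.bwd (nat_lit 6) (Steps.bwd (nat_lit 1) (Steps.bwd (nat_lit 4) (Steps.fwd (nat_lit 262144) (Steps.fwd (nat_lit 1572864) (Steps.bwd (nat_lit 1) Steps.nil))))))) (nat_lit 74) (nat_lit 2),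
  Rule.mk (nat_lit 4) (nat_lit 114) (Steps.bwd (nat_lit 2) (Steps.bwd (nat_lit 6) (Steps.bwd (nat_lit 4) (Steps.fwd (nat_lit 786432) (Steps.fwd (nat_lit 1310720) Steps.nil))))) (nat_lit 58) (nat_lit 3),
  Rule.mk (nat_lit 2) (nat_lit 154) (Steps.bwd (nat_lit 1) (Steps.fwd (nat_lit 786432) (Steps.bwd (nat_lit 7) (Steps.fwd (nat_lit 262144) (Steps.bwd (nat_lit 2) (Steps.fwd (nat_lit 262144) (Steps.fwd (nat_lit 1835008) Steps.nil))))))) (nat_lit 72) (nat_lit 5),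
  Rule.mk (nat_lit 4) (nat_lit 154) (Steps.fwd (nat_lit 262144) (Steps.bwd (nat_lit 6) (Steps.bwd (nat_lit 1) (Steps.bwd (nat_lit 4) (Steps.fwd (nat_lit 262144) (Steps.fwd (nat_lit 1572864) (Steps.bwd (nat_lit 1) Steps.nil))))))) (nat_lit 74) (nat_lit 2),
  Rule.mk (nat_lit 4) (nat_lit 114) (Steps.fwd (nat_lit 786432) (Steps.bwd (nat_lit 6) (Steps.bwd (nat_lit 4) (Steps.bwd (nat_lit 2) (Steps.fwd (nat_lit 1310720) Steps.nil))))) (nat_lit 58) (nat_lit 3),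
  Rule.mk (nat_lit 4) (nat_lit 114) (Steps.bwd (nat_lit 5) (Steps.bwd (nat_lit 3) (Steps.bwd (nat_lit 4) (Steps.bwd (nat_lit 6) (Steps.fwd (nat_lit 524288) Steps.nil))))) (nat_lit 59) (nat_lit 4),
  Rule.mk (nat_lit 1) (nat_lit 114) (Steps.bwd (nat_lit 5) (Steps.bwd (nat_lit 7) (Steps.bwd (nat_lit 1) (Steps.fwd (nat_lit 1310720) (Steps.fwd (nat_lit 1835008) Steps.nil))))) (nat_lit 52) (nat_lit 1),
  Rule.mk (nat_lit 1) (nat_lit 114) (Steps.bwd (nat_lit 5) (Steps.fwd (nat_lit 1835008) (Steps.bwd (nat_lit 1) (Steps.fwd (nat_lit 1310720) (Steps.fwd (nat_lit 1835008) Steps.nil))))) (nat_lit 52) (nat_lit 1),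
  Rule.mk (nat_lit 4) (nat_lit 114) (Steps.bwd (nat_lit 2) (Steps.bwd (nat_lit 5) (Steps.bwd (nat_lit 4) (Steps.bwd (nat_lit 2) (Steps.bwd (nat_lit 6) Steps.nil))))) (nat_lit 58) (nat_lit 0),
  Rule.mk (nat_lit 1) (nat_lit 154) (Steps.bwd (nat_lit 4) (Steps.fwd (nat_lit 262144) (Steps.bwd (nat_lit 6) (Steps.bwd (nat_lit 1) (Steps.bwd (nat_lit 4) (Steps.fwd (nat_lit 262144) (Steps.fwd (nat_lit 1572864) Steps.nil))))))) (nat_lit 74) (nat_lit 1),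
  Rule.mk (nat_lit 2) (nat_lit 154) (Steps.bwd (nat_lit 1) (Steps.fwd (nat_lit 786432) (Steps.bwd (nat_lit 7) (Steps.fwd (nat_lit 262144) (Steps.bwd (nat_lit 2) (Steps.fwd (nat_lit 262144) (Steps.bwd (nat_lit 7) Steps.nil))))))) (nat_lit 72) (nat_lit 5),
  Rule.mk (nat_lit 3) (nat_lit 154) (Steps.bwd (nat_lit 1) (Steps.fwd (nat_lit 524288) (Steps.fwd (nat_lit 1310720) (Steps.fwd (nat_lit 262144) (Steps.bwd (nat_lit 3) (Steps.bwd (nat_lit 1) (Steps.fwd (nat_lit 1310720) Steps.nil))))))) (nat_lit 71) (nat_lit 2),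
  Rule.mk (nat_lit 4) (nat_lit 314) (Steps.bwd (nat_lit 9) (Steps.bwd (nat_lit 4) (Steps.bwd (nat_lit 8) (Steps.bwd (nat_lit 4) (Steps.bwd (nat_lit 9) (Steps.fwd (nat_lit 1048576) (Steps.bwd (nat_lit 8) (Steps.bwd (nat_lit 4) (Steps.fwd (nat_lit 2097152) (Steps.fwd (nat_lit 1048576) (Steps.fwd (nat_lit 2359296) (Steps.fwd (nat_lit 1048576) (Steps.fwd (nat_lit 2097152) (Steps.bwd (nat_lit 4) (Steps.fwd (nat_lit 2359296) Steps.nil))))))))))))))) (nat_lit 106) (nat_lit 2),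
  Rule.mk (nat_lit 1) (nat_lit 154) (Steps.bwd (nat_lit 7) (Steps.fwd (nat_lit 524288) (Steps.bwd (nat_lit 1) (Steps.fwd (nat_lit 524288) (Steps.bwd (nat_lit 7) (Steps.fwd (nat_lit 262144) (Steps.fwd (nat_lit 524288) Steps.nil))))))) (nat_lit 73) (nat_lit 0),
  Rule.mk (nat_lit 3) (nat_lit 154) (Steps.bwd (nat_lit 1) (Steps.fwd (nat_lit 524288) (Steps.bwd (nat_lit 5) (Steps.fwd (nat_lit 262144) (Steps.bwd (nat_lit 3) (Steps.fwd (nat_lit 262144) (Steps.fwd (nat_lit 1310720) Steps.nil))))))) (nat_lit 71) (nat_lit 2),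
  Rule.mk (nat_lit 4) (nat_lit 314) (Steps.bwd (nat_lit 9) (Steps.bwd (nat_lit 4) (Steps.fwd (nat_lit 2359296) (Steps.fwd (nat_lit 1048576) (Steps.fwd (nat_lit 2097152) (Steps.bwd (nat_lit 4) (Steps.fwd (nat_lit 2359296) (Steps.bwd (nat_lit 4) (Steps.bwd (nat_lit 9) (Steps.fwd (nat_lit 1048576) (Steps.bwd (nat_lit 8) (Steps.bwd (nat_lit 4) (Steps.bwd (nat_lit 9) (Steps.fwd (nat_lit 1048576) (Steps.fwd (nat_lit 2359296) Steps.nil))))))))))))))) (nat_lit 106) (nat_lit 2),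
  Rule.mk (nat_lit 1) (nat_lit 154) (Steps.bwd (nat_lit 2) (Steps.bwd (nat_lit 1) (Steps.fwd (nat_lit 1310720) (Steps.bwd (nat_lit 2) (Steps.fwd (nat_lit 262144) (Steps.bwd (nat_lit 2) (Steps.fwd (nat_lit 1310720) Steps.nil))))))) (nat_lit 70) (nat_lit 1),
  Rule.mk (nat_lit 4) (nat_lit 114) (Steps.fwd (nat_lit 786432) (Steps.fwd (nat_lit 1572864) (Steps.fwd (nat_lit 1048576) (Steps.fwd (nat_lit 786432) (Steps.fwd (nat_lit 1310720) Steps.nil))))) (nat_lit 58) (nat_lit 3),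
  Rule.mk (nat_lit 4) (nat_lit 114) (Steps.bwd (nat_lit 3) (Steps.fwd (nat_lit 1572864) (Steps.bwd (nat_lit 4) (Steps.fwd (nat_lit 524288) (Steps.bwd (nat_lit 5) Steps.nil))))) (nat_lit 55) (nat_lit 5),
  Rule.mk (nat_lit 1) (nat_lit 154) (Steps.bwd (nat_lit 7) (Steps.bwd (nat_lit 4) (Steps.fwd (nat_lit 262144) (Steps.bwd (nat_lit 4) (Steps.bwd (nat_lit 7) (Steps.bwd (nat_lit 1) (Steps.fwd (nat_lit 1048576) Steps.nil))))))) (nat_lit 76) (nat_lit 3),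
  Rule.mk (nat_lit 7) (nat_lit 114) (Steps.fwd (nat_lit 786432) (Steps.bwd (nat_lit 4) (Steps.bwd (nat_lit 7) (Steps.bwd (nat_lit 2) (Steps.bwd (nat_lit 4) Steps.nil))))) (nat_lit 56) (nat_lit 0),
  Rule.mk (nat_lit 3) (nat_lit 154) (Steps.bwd (nat_lit 1) (Steps.fwd (nat_lit 524288) (Steps.fwd (nat_lit 1835008) (Steps.fwd (nat_lit 262144) (Steps.bwd (nat_lit 3) (Steps.bwd (nat_lit 1) (Steps.bwd (nat_lit 7) Steps.nil))))))) (nat_lit 73) (nat_lit 2),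
  Rule.mk (nat_lit 1) (nat_lit 154) (Steps.fwd (nat_lit 786432) (Steps.bwd (nat_lit 1) (Steps.bwd (nat_lit 5) (Steps.bwd (nat_lit 2) (Steps.fwd (nat_lit 262144) (Steps.fwd (nat_lit 786432) (Steps.fwd (nat_lit 1310720) Steps.nil))))))) (nat_lit 70) (nat_lit 1),
  Rule.mk (nat_lit 4) (nat_lit 114) (Steps.fwd (nat_lit 524288) (Steps.fwd (nat_lit 1835008) (Steps.bwd (nat_lit 4) (Steps.fwd (nat_lit 524288) (Steps.bwd (nat_lit 7) Steps.nil))))) (nat_lit 57) (nat_lit 2),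
  Rule.mk (nat_lit 3) (nat_lit 154) (Steps.bwd (nat_lit 1) (Steps.fwd (nat_lit 524288) (Steps.bwd (nat_lit 5) (Steps.fwd (nat_lit 262144) (Steps.bwd (nat_lit 3) (Steps.bwd (nat_lit 1) (Steps.bwd (nat_lit 5) Steps.nil))))))) (nat_lit 71) (nat_lit 2),
  Rule.mk (nat_lit 4) (nat_lit 114) (Steps.bwd (nat_lit 7) (Steps.fwd (nat_lit 786432) (Steps.bwd (nat_lit 4) (Steps.fwd (nat_lit 1835008) (Steps.bwd (nat_lit 2) Steps.nil))))) (nat_lit 56) (nat_lit 2),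
  Rule.mk (nat_lit 6) (nat_lit 274) (Steps.bwd (nat_lit 1) (Steps.bwd (nat_lit 2) (Steps.bwd (nat_lit 1) (Steps.bwd (nat_lit 6) (Steps.bwd (nat_lit 1) (Steps.bwd (nat_lit 6) (Steps.fwd (nat_lit 1310720) (Steps.bwd (nat_lit 2) (Steps.bwd (nat_lit 1) (Steps.bwd (nat_lit 6) (Steps.fwd (nat_lit 262144) (Steps.fwd (nat_lit 786432) (Steps.fwd (nat_lit 262144) Steps.nil))))))))))))) (nat_lit 34) (nat_lit 7),
  Rule.mk (nat_lit 1) (nat_lit 274) (Steps.bwd (nat_lit 6) (Steps.bwd (nat_lit 5) (Steps.bwd (nat_lit 2) (Steps.fwd (nat_lit 262144) (Steps.bwd (nat_lit 6) (Steps.bwd (nat_lit 1) (Steps.fwd (nat_lit 786432) (Steps.fwd (nat_lit 262144) (Steps.bwd (nat_lit 6) (Steps.fwd (nat_lit 262144) (Steps.bwd (nat_lit 2) (Steps.bwd (nat_lit 1) (Steps.bwd (nat_lit 6) Steps.nil))))))))))))) (nat_lit 34) (nat_lit 12),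
  Rule.mk (nat_lit 6) (nat_lit 274) (Steps.bwd (nat_lit 1) (Steps.bwd (nat_lit 2) (Steps.bwd (nat_lit 1) (Steps.fwd (nat_lit 1572864) (Steps.fwd (nat_lit 262144) (Steps.fwd (nat_lit 1572864) (Steps.bwd (nat_lit 5) (Steps.bwd (nat_lit 2) (Steps.fwd (nat_lit 262144) (Steps.fwd (nat_lit 1572864) (Steps.fwd (nat_lit 262144) (Steps.fwd (nat_lit 786432) (Steps.fwd (nat_lit 262144) Steps.nil))))))))))))) (nat_lit 34) (nat_lit 7),
  Rule.mk (nat_lit 1) (nat_lit 274) (Steps.bwd (nat_lit 6) (Steps.bwd (nat_lit 1) (Steps.bwd (nat_lit 3) (Steps.fwd (nat_lit 262144) (Steps.bwd (nat_lit 6) (Steps.bwd (nat_lit 1) (Steps.bwd (nat_lit 3) (Steps.fwd (nat_lit 1310720) (Steps.fwd (nat_lit 1572864) (Steps.fwd (nat_lit 262144) (Steps.bwd (nat_lit 6) (Steps.fwd (nat_lit 262144) (Steps.bwd (nat_lit 3) Steps.nil))))))))))))) (nat_lit 35) (nat_lit 7)]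
noncomputable def R_24 : List (Rule) := [Rule.mk (nat_lit 6) (nat_lit 274) (Steps.bwd (nat_lit 1) (Steps.bwd (nat_lit 2) (Steps.fwd (nat_lit 262144) (Steps.bwd (nat_lit 6) (Steps.fwd (nat_lit 262144) (Steps.bwd (nat_lit 2) (Steps.fwd (nat_lit 262144) (Steps.fwd (nat_lit 1572864) (Steps.bwd (nat_lit 1) (Steps.bwd (nat_lit 6) (Steps.fwd (nat_lit 1310720) (Steps.bwd (nat_lit 2) (Steps.fwd (nat_lit 262144) Steps.nil))))))))))))) (nat_lit 34) (nat_lit 3),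
  Rule.mk (nat_lit 1) (nat_lit 274) (Steps.bwd (nat_lit 6) (Steps.bwd (nat_lit 5) (Steps.bwd (nat_lit 2) (Steps.bwd (nat_lit 1) (Steps.fwd (nat_lit 1572864) (Steps.fwd (nat_lit 262144) (Steps.bwd (nat_lit 2) (Steps.bwd (nat_lit 1) (Steps.bwd (nat_lit 6) (Steps.bwd (nat_lit 1) (Steps.fwd (nat_lit 786432) (Steps.fwd (nat_lit 262144) (Steps.fwd (nat_lit 1572864) Steps.nil))))))))))))) (nat_lit 34) (nat_lit 12),
  Rule.mk (nat_lit 6) (nat_lit 274) (Steps.bwd (nat_lit 1) (Steps.bwd (nat_lit 2) (Steps.fwd (nat_lit 262144) (Steps.fwd (nat_lit 1572864) (Steps.fwd (nat_lit 262144) (Steps.bwd (nat_lit 2) (Steps.fwd (nat_lit 262144) (Steps.fwd (nat_lit 1572864) (Steps.bwd (nat_lit 1) (Steps.fwd (nat_lit 1572864) (Steps.bwd (nat_lit 5) (Steps.bwd (nat_lit 2) (Steps.fwd (nat_lit 262144) Steps.nil))))))))))))) (nat_lit 34) (nat_lit 3),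
  Rule.mk (nat_lit 1) (nat_lit 274) (Steps.bwd (nat_lit 6) (Steps.bwd (nat_lit 5) (Steps.bwd (nat_lit 2) (Steps.bwd (nat_lit 1) (Steps.bwd (nat_lit 6) (Steps.fwd (nat_lit 262144) (Steps.bwd (nat_lit 2) (Steps.bwd (nat_lit 1) (Steps.bwd (nat_lit 6) (Steps.bwd (nat_lit 1) (Steps.fwd (nat_lit 786432) (Steps.fwd (nat_lit 262144) (Steps.fwd (nat_lit 1572864) Steps.nil))))))))))))) (nat_lit 34) (nat_lit 12),
  Rule.mk (nat_lit 1) (nat_lit 274) (Steps.fwd (nat_lit 786432) (Steps.bwd (nat_lit 1) (Steps.bwd (nat_lit 6) (Steps.fwd (nat_lit 262144) (Steps.bwd (nat_lit 6) (Steps.bwd (nat_lit 5) (Steps.fwd (nat_lit 786432) (Steps.fwd (nat_lit 262144) (Steps.fwd (nat_lit 1572864) (Steps.bwd (nat_lit 1) (Steps.fwd (nat_lit 786432) (Steps.fwd (nat_lit 262144) (Steps.bwd (nat_lit 6) Steps.nil))))))))))))) (nat_lit 34) (nat_lit 8),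
  Rule.mk (nat_lit 6) (nat_lit 274) (Steps.bwd (nat_lit 1) (Steps.bwd (nat_lit 2) (Steps.fwd (nat_lit 262144) (Steps.fwd (nat_lit 1572864) (Steps.fwd (nat_lit 262144) (Steps.bwd (nat_lit 2) (Steps.fwd (nat_lit 262144) (Steps.bwd (nat_lit 6) (Steps.bwd (nat_lit 1) (Steps.fwd (nat_lit 1572864) (Steps.bwd (nat_lit 5) (Steps.fwd (nat_lit 786432) (Steps.fwd (nat_lit 262144) Steps.nil))))))))))))) (nat_lit 34) (nat_lit 3),
  Rule.mk (nat_lit 6) (nat_lit 274) (Steps.bwd (nat_lit 1) (Steps.bwd (nat_lit 2) (Steps.bwd (nat_lit 1) (Steps.fwd (nat_lit 1572864) (Steps.bwd (nat_lit 1) (Steps.bwd (nat_lit 6) (Steps.fwd (nat_lit 1310720) (Steps.fwd (nat_lit 786432) (Steps.fwd (nat_lit 262144) (Steps.fwd (nat_lit 1572864) (Steps.fwd (nat_lit 262144) (Steps.fwd (nat_lit 786432) (Steps.fwd (nat_lit 262144) Steps.nil))))))))))))) (nat_lit 34) (nat_lit 7),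
  Rule.mk (nat_lit 1) (nat_lit 274) (Steps.fwd (nat_lit 1572864) (Steps.fwd (nat_lit 1310720) (Steps.bwd (nat_lit 2) (Steps.fwd (nat_lit 262144) (Steps.bwd (nat_lit 6) (Steps.bwd (nat_lit 1) (Steps.bwd (nat_lit 2) (Steps.bwd (nat_lit 1) (Steps.fwd (nat_lit 1572864) (Steps.fwd (nat_lit 262144) (Steps.bwd (nat_lit 2) (Steps.bwd (nat_lit 1) (Steps.bwd (nat_lit 6) Steps.nil))))))))))))) (nat_lit 34) (nat_lit 12),
  Rule.mk (nat_lit 6) (nat_lit 274) (Steps.bwd (nat_lit 1) (Steps.bwd (nat_lit 2) (Steps.bwd (nat_lit 1) (Steps.bwd (nat_lit 6) (Steps.fwd (nat_lit 262144) (Steps.bwd (nat_lit 6) (Steps.fwd (nat_lit 1310720) (Steps.bwd (nat_lit 2) (Steps.fwd (nat_lit 262144) (Steps.fwd (nat_lit 1572864) (Steps.fwd (nat_lit 262144) (Steps.fwd (nat_lit 786432) (Steps.fwd (nat_lit 262144) Steps.nil))))))))))))) (nat_lit 34) (nat_lit 7),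
  Rule.mk (nat_lit 1) (nat_lit 274) (Steps.bwd (nat_lit 6) (Steps.bwd (nat_lit 1) (Steps.bwd (nat_lit 3) (Steps.fwd (nat_lit 262144) (Steps.bwd (nat_lit 6) (Steps.bwd (nat_lit 1) (Steps.bwd (nat_lit 3) (Steps.fwd (nat_lit 1310720) (Steps.bwd (nat_lit 6) (Steps.fwd (nat_lit 262144) (Steps.fwd (nat_lit 1572864) (Steps.fwd (nat_lit 262144) (Steps.bwd (nat_lit 3) Steps.nil))))))))))))) (nat_lit 35) (nat_lit 7),
  Rule.mk (nat_lit 1) (nat_lit 274) (Steps.bwd (nat_lit 6) (Steps.fwd (nat_lit 1310720) (Steps.bwd (nat_lit 2) (Steps.bwd (nat_lit 1) (Steps.fwd (nat_lit 1572864) (Steps.fwd (nat_lit 262144) (Steps.bwd (nat_lit 2) (Steps.bwd (nat_lit 1) (Steps.bwd (nat_lit 6) (Steps.bwd (nat_lit 1) (Steps.fwd (nat_lit 786432) (Steps.fwd (nat_lit 262144) (Steps.fwd (nat_lit 1572864) Steps.nil))))))))))))) (nat_lit 34) (nat_lit 12),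
  Rule.mk (nat_lit 1) (nat_lit 274) (Steps.bwd (nat_lit 6) (Steps.bwd (nat_lit 5) (Steps.bwd (nat_lit 2) (Steps.bwd (nat_lit 1) (Steps.bwd (nat_lit 6) (Steps.fwd (nat_lit 262144) (Steps.bwd (nat_lit 2) (Steps.bwd (nat_lit 1) (Steps.bwd (nat_lit 6) (Steps.bwd (nat_lit 1) (Steps.bwd (nat_lit 2) (Steps.fwd (nat_lit 262144) (Steps.fwd (nat_lit 1572864) Steps.nil))))))))))))) (nat_lit 34) (nat_lit 12),
  Rule.mk (nat_lit 1) (nat_lit 154) (Steps.fwd (nat_lit 786432) (Steps.bwd (nat_lit 1) (Steps.bwd (nat_lit 3) (Steps.fwd (nat_lit 262144) (Steps.bwd (nat_lit 2) (Steps.fwd (nat_lit 262144) (Steps.bwd (nat_lit 3) Steps.nil))))))) (nat_lit 68) (nat_lit 1),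
  Rule.mk (nat_lit 3) (nat_lit 154) (Steps.bwd (nat_lit 1) (Steps.bwd (nat_lit 3) (Steps.bwd (nat_lit 5) (Steps.fwd (nat_lit 262144) (Steps.bwd (nat_lit 3) (Steps.bwd (nat_lit 1) (Steps.bwd (nat_lit 5) Steps.nil))))))) (nat_lit 71) (nat_lit 2),
  Rule.mk (nat_lit 6) (nat_lit 274) (Steps.bwd (nat_lit 1) (Steps.bwd (nat_lit 2) (Steps.bwd (nat_lit 1) (Steps.fwd (nat_lit 1572864) (Steps.bwd (nat_lit 1) (Steps.bwd (nat_lit 6) (Steps.fwd (nat_lit 1310720) (Steps.bwd (nat_lit 2) (Steps.bwd (nat_lit 1) (Steps.bwd (nat_lit 6) (Steps.fwd (nat_lit 262144) (Steps.fwd (nat_lit 786432) (Steps.fwd (nat_lit 262144) Steps.nil))))))))))))) (nat_lit 34) (nat_lit 7),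
  Rule.mk (nat_lit 1) (nat_lit 274) (Steps.fwd (nat_lit 1572864) (Steps.fwd (nat_lit 1310720) (Steps.bwd (nat_lit 2) (Steps.fwd (nat_lit 262144) (Steps.bwd (nat_lit 6) (Steps.bwd (nat_lit 1) (Steps.bwd (nat_lit 2) (Steps.fwd (nat_lit 262144) (Steps.bwd (nat_lit 6) (Steps.fwd (nat_lit 262144) (Steps.bwd (nat_lit 2) (Steps.bwd (nat_lit 1) (Steps.bwd (nat_lit 6) Steps.nil))))))))))))) (nat_lit 34) (nat_lit 12),
  Rule.mk (nat_lit 6) (nat_lit 274) (Steps.bwd (nat_lit 1) (Steps.fwd (nat_lit 1572864) (Steps.bwd (nat_lit 5) (Steps.bwd (nat_lit 2) (Steps.fwd (nat_lit 262144) (Steps.bwd (nat_lit 6) (Steps.bwd (nat_lit 1) (Steps.bwd (nat_lit 2) (Steps.fwd (nat_lit 262144) (Steps.bwd (nat_lit 6) (Steps.fwd (nat_lit 262144) (Steps.bwd (nat_lit 2) (Steps.bwd (nat_lit 1) Steps.nil))))))))))))) (nat_lit 34) (nat_lit 11),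
  Rule.mk (nat_lit 6) (nat_lit 274) (Steps.bwd (nat_lit 1) (Steps.bwd (nat_lit 2) (Steps.bwd (nat_lit 1) (Steps.fwd (nat_lit 1572864) (Steps.fwd (nat_lit 262144) (Steps.bwd (nat_lit 6) (Steps.fwd (nat_lit 1310720) (Steps.bwd (nat_lit 2) (Steps.fwd (nat_lit 262144) (Steps.fwd (nat_lit 1572864) (Steps.bwd (nat_lit 1) (Steps.fwd (nat_lit 786432) (Steps.fwd (nat_lit 262144) Steps.nil))))))))))))) (nat_lit 34) (nat_lit 7),
  Rule.mk (nat_lit 1) (nat_lit 274) (Steps.bwd (nat_lit 6) (Steps.bwd (nat_lit 1) (Steps.bwd (nat_lit 3) (Steps.fwd (nat_lit 262144) (Steps.bwd (nat_lit 6) (Steps.bwd (nat_lit 1) (Steps.bwd (nat_lit 3) (Steps.fwd (nat_lit 1310720) (Steps.bwd (nat_lit 6) (Steps.fwd (nat_lit 262144) (Steps.bwd (nat_lit 6) (Steps.fwd (nat_lit 262144) (Steps.bwd (nat_lit 3) Steps.nil))))))))))))) (nat_lit 35) (nat_lit 7),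
  Rule.mk (nat_lit 1) (nat_lit 274) (Steps.fwd (nat_lit 786432) (Steps.fwd (nat_lit 262144) (Steps.fwd (nat_lit 1572864) (Steps.bwd (nat_lit 1) (Steps.fwd (nat_lit 1572864) (Steps.bwd (nat_lit 5) (Steps.fwd (nat_lit 786432) (Steps.bwd (nat_lit 1) (Steps.bwd (nat_lit 6) (Steps.bwd (nat_lit 1) (Steps.bwd (nat_lit 2) (Steps.bwd (nat_lit 1) (Steps.bwd (nat_lit 6) Steps.nil))))))))))))) (nat_lit 34) (nat_lit 8),
  Rule.mk (nat_lit 4) (nat_lit 154) (Steps.fwd (nat_lit 786432) (Steps.bwd (nat_lit 6) (Steps.fwd (nat_lit 1835008) (Steps.bwd (nat_lit 4) (Steps.fwd (nat_lit 786432) (Steps.bwd (nat_lit 5) (Steps.bwd (nat_lit 7) Steps.nil))))))) (nat_lit 88) (nat_lit 4),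
  Rule.mk (nat_lit 4) (nat_lit 114) (Steps.fwd (nat_lit 786432) (Steps.bwd (nat_lit 6) (Steps.bwd (nat_lit 4) (Steps.fwd (nat_lit 786432) (Steps.bwd (nat_lit 5) Steps.nil))))) (nat_lit 58) (nat_lit 3),
  Rule.mk (nat_lit 4) (nat_lit 114) (Steps.fwd (nat_lit 1835008) (Steps.bwd (nat_lit 3) (Steps.bwd (nat_lit 4) (Steps.fwd (nat_lit 1835008) (Steps.bwd (nat_lit 3) Steps.nil))))) (nat_lit 65) (nat_lit 1),
  Rule.mk (nat_lit 4) (nat_lit 114) (Steps.fwd (nat_lit 1572864) (Steps.bwd (nat_lit 3) (Steps.bwd (nat_lit 4) (Steps.bwd (nat_lit 5) (Steps.bwd (nat_lit 3) Steps.nil))))) (nat_lit 59) (nat_lit 1),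
  Rule.mk (nat_lit 4) (nat_lit 154) (Steps.bwd (nat_lit 6) (Steps.fwd (nat_lit 1835008) (Steps.bwd (nat_lit 3) (Steps.bwd (nat_lit 4) (Steps.bwd (nat_lit 5) (Steps.bwd (nat_lit 7) (Steps.bwd (nat_lit 3) Steps.nil))))))) (nat_lit 93) (nat_lit 1),
  Rule.mk (nat_lit 1) (nat_lit 274) (Steps.bwd (nat_lit 6) (Steps.fwd (nat_lit 1310720) (Steps.bwd (nat_lit 2) (Steps.bwd (nat_lit 1) (Steps.fwd (nat_lit 1572864) (Steps.fwd (nat_lit 262144) (Steps.bwd (nat_lit 2) (Steps.bwd (nat_lit 1) (Steps.fwd (nat_lit 1572864) (Steps.bwd (nat_lit 1) (Steps.bwd (nat_lit 2) (Steps.fwd (nat_lit 262144) (Steps.fwd (nat_lit 1572864) Steps.nil))))))))))))) (nat_lit 34) (nat_lit 12),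
  Rule.mk (nat_lit 1) (nat_lit 274) (Steps.bwd (nat_lit 6) (Steps.bwd (nat_lit 1) (Steps.bwd (nat_lit 6) (Steps.bwd (nat_lit 5) (Steps.fwd (nat_lit 786432) (Steps.bwd (nat_lit 1) (Steps.bwd (nat_lit 6) (Steps.bwd (nat_lit 1) (Steps.fwd (nat_lit 786432) (Steps.bwd (nat_lit 1) (Steps.bwd (nat_lit 6) (Steps.bwd (nat_lit 1) (Steps.bwd (nat_lit 2) Steps.nil))))))))))))) (nat_lit 34) (nat_lit 10),
  Rule.mk (nat_lit 1) (nat_lit 274) (Steps.bwd (nat_lit 6) (Steps.bwd (nat_lit 1) (Steps.fwd (nat_lit 524288) (Steps.bwd (nat_lit 5) (Steps.fwd (nat_lit 1572864) (Steps.fwd (nat_lit 262144) (Steps.bwd (nat_lit 6) (Steps.bwd (nat_lit 1) (Steps.fwd (nat_lit 524288) (Steps.fwd (nat_lit 262144) (Steps.bwd (nat_lit 6) (Steps.fwd (nat_lit 262144) (Steps.bwd (nat_lit 3) Steps.nil))))))))))))) (nat_lit 35) (nat_lit 11),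
  Rule.mk (nat_lit 4) (nat_lit 314) (Steps.bwd (nat_lit 9) (Steps.bwd (nat_lit 4) (Steps.bwd (nat_lit 8) (Steps.bwd (nat_lit 4) (Steps.bwd (nat_lit 9) (Steps.fwd (nat_lit 1048576) (Steps.bwd (nat_lit 8) (Steps.fwd (nat_lit 1048576) (Steps.fwd (nat_lit 2097152) (Steps.bwd (nat_lit 4) (Steps.fwd (nat_lit 2359296) (Steps.fwd (nat_lit 1048576) (Steps.fwd (nat_lit 2097152) (Steps.fwd (nat_lit 1048576) (Steps.fwd (nat_lit 2359296) Steps.nil))))))))))))))) (nat_lit 106) (nat_lit 2),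
  Rule.mk (nat_lit 1) (nat_lit 274) (Steps.bwd (nat_lit 6) (Steps.bwd (nat_lit 1) (Steps.fwd (nat_lit 1572864) (Steps.bwd (nat_lit 5) (Steps.fwd (nat_lit 786432) (Steps.fwd (nat_lit 262144) (Steps.fwd (nat_lit 1572864) (Steps.fwd (nat_lit 262144) (Steps.fwd (nat_lit 786432) (Steps.bwd (nat_lit 1) (Steps.bwd (nat_lit 6) (Steps.bwd (nat_lit 1) (Steps.bwd (nat_lit 2) Steps.nil))))))))))))) (nat_lit 34) (nat_lit 10),
  Rule.mk (nat_lit 1) (nat_lit 274) (Steps.bwd (nat_lit 6) (Steps.bwd (nat_lit 1) (Steps.bwd (nat_lit 6) (Steps.bwd (nat_lit 5) (Steps.fwd (nat_lit 786432) (Steps.fwd (nat_lit 262144) (Steps.bwd (nat_lit 6) (Steps.fwd (nat_lit 262144) (Steps.bwd (nat_lit 2) (Steps.bwd (nat_lit 1) (Steps.fwd (nat_lit 1572864) (Steps.bwd (nat_lit 1) (Steps.bwd (nat_lit 2) Steps.nil))))))))))))) (nat_lit 34) (nat_lit 10),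
  Rule.mk (nat_lit 1) (nat_lit 274) (Steps.bwd (nat_lit 6) (Steps.bwd (nat_lit 1) (Steps.bwd (nat_lit 6) (Steps.fwd (nat_lit 1310720) (Steps.fwd (nat_lit 786432) (Steps.fwd (nat_lit 262144) (Steps.fwd (nat_lit 1572864) (Steps.fwd (nat_lit 262144) (Steps.fwd (nat_lit 786432) (Steps.bwd (nat_lit 1) (Steps.fwd (nat_lit 1572864) (Steps.bwd (nat_lit 1) (Steps.bwd (nat_lit 2) Steps.nil))))))))))))) (nat_lit 34) (nat_lit 10),
  Rule.mk (nat_lit 1) (nat_lit 274) (Steps.bwd (nat_lit 6) (Steps.bwd (nat_lit 1) (Steps.bwd (nat_lit 3) (Steps.fwd (nat_lit 1310720) (Steps.bwd (nat_lit 6) (Steps.fwd (nat_lit 262144) (Steps.bwd (nat_lit 6) (Steps.bwd (nat_lit 1) (Steps.fwd (nat_lit 524288) (Steps.fwd (nat_lit 262144) (Steps.fwd (nat_lit 1572864) (Steps.fwd (nat_lit 262144) (Steps.bwd (nat_lit 3) Steps.nil))))))))))))) (nat_lit 35) (nat_lit 11),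
  Rule.mk (nat_lit 4) (nat_lit 114) (Steps.fwd (nat_lit 524288) (Steps.bwd (nat_lit 5) (Steps.bwd (nat_lit 4) (Steps.bwd (nat_lit 3) (Steps.bwd (nat_lit 6) Steps.nil))))) (nat_lit 55) (nat_lit 2),
  Rule.mk (nat_lit 1) (nat_lit 274) (Steps.bwd (nat_lit 6) (Steps.bwd (nat_lit 1) (Steps.fwd (nat_lit 1572864) (Steps.fwd (nat_lit 1310720) (Steps.fwd (nat_lit 786432) (Steps.bwd (nat_lit 1) (Steps.bwd (nat_lit 6) (Steps.fwd (nat_lit 262144) (Steps.fwd (nat_lit 786432) (Steps.bwd (nat_lit 1) (Steps.fwd (nat_lit 1572864) (Steps.bwd (nat_lit 1) (Steps.bwd (nat_lit 2) Steps.nil))))))))))))) (nat_lit 34) (nat_lit 10),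
  Rule.mk (nat_lit 1) (nat_lit 274) (Steps.bwd (nat_lit 6) (Steps.bwd (nat_lit 1) (Steps.fwd (nat_lit 1572864) (Steps.bwd (nat_lit 5) (Steps.fwd (nat_lit 786432) (Steps.bwd (nat_lit 1) (Steps.fwd (nat_lit 1572864) (Steps.fwd (nat_lit 262144) (Steps.bwd (nat_lit 2) (Steps.bwd (nat_lit 1) (Steps.fwd (nat_lit 1572864) (Steps.bwd (nat_lit 1) (Steps.bwd (nat_lit 2) Steps.nil))))))))))))) (nat_lit 34) (nat_lit 10),
  Rule.mk (nat_lit 1) (nat_lit 274) (Steps.bwd (nat_lit 6) (Steps.fwd (nat_lit 1310720) (Steps.bwd (nat_lit 2) (Steps.bwd (nat_lit 1) (Steps.bwd (nat_lit 6) (Steps.fwd (nat_lit 262144) (Steps.fwd (nat_lit 786432) (Steps.bwd (nat_lit 1) (Steps.fwd (nat_lit 1572864) (Steps.bwd (nat_lit 1) (Steps.bwd (nat_lit 2) (Steps.fwd (nat_lit 262144) (Steps.fwd (nat_lit 1572864) Steps.nil))))))))))))) (nat_lit 34) (nat_lit 12),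
  Rule.mk (nat_lit 1) (nat_lit 274) (Steps.bwd (nat_lit 6) (Steps.fwd (nat_lit 1310720) (Steps.bwd (nat_lit 2) (Steps.bwd (nat_lit 1) (Steps.bwd (nat_lit 6) (Steps.fwd (nat_lit 262144) (Steps.bwd (nat_lit 2) (Steps.bwd (nat_lit 1) (Steps.bwd (nat_lit 6) (Steps.bwd (nat_lit 1) (Steps.fwd (nat_lit 786432) (Steps.fwd (nat_lit 262144) (Steps.fwd (nat_lit 1572864) Steps.nil))))))))))))) (nat_lit 34) (nat_lit 12),
  Rule.mk (nat_lit 1) (nat_lit 274) (Steps.bwd (nat_lit 6) (Steps.fwd (nat_lit 1310720) (Steps.bwd (nat_lit 2) (Steps.bwd (nat_lit 1) (Steps.bwd (nat_lit 6) (Steps.fwd (nat_lit 262144) (Steps.fwd (nat_lit 786432) (Steps.bwd (nat_lit 1) (Steps.bwd (nat_lit 6) (Steps.bwd (nat_lit 1) (Steps.bwd (nat_lit 2) (Steps.fwd (nat_lit 262144) (Steps.fwd (nat_lit 1572864) Steps.nil))))))))))))) (nat_lit 34) (nat_lit 12),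
  Rule.mk (nat_lit 1) (nat_lit 274) (Steps.bwd (nat_lit 6) (Steps.fwd (nat_lit 1310720) (Steps.bwd (nat_lit 2) (Steps.bwd (nat_lit 1) (Steps.bwd (nat_lit 6) (Steps.fwd (nat_lit 262144) (Steps.fwd (nat_lit 786432) (Steps.fwd (nat_lit 262144) (Steps.fwd (nat_lit 1572864) (Steps.bwd (nat_lit 1) (Steps.bwd (nat_lit 2) (Steps.bwd (nat_lit 1) (Steps.bwd (nat_lit 6) Steps.nil))))))))))))) (nat_lit 34) (nat_lit 12),
  Rule.mk (nat_lit 1) (nat_lit 274) (Steps.bwd (nat_lit 6) (Steps.bwd (nat_lit 5) (Steps.bwd (nat_lit 2) (Steps.bwd (nat_lit 1) (Steps.bwd (nat_lit 6) (Steps.bwd (nat_lit 1) (Steps.fwd (nat_lit 786432) (Steps.fwd (nat_lit 262144) (Steps.bwd (nat_lit 6) (Steps.bwd (nat_lit 1) (Steps.bwd (nat_lit 2) (Steps.bwd (nat_lit 1) (Steps.bwd (nat_lit 6) Steps.nil))))))))))))) (nat_lit 34) (nat_lit 12),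
  Rule.mk (nat_lit 1) (nat_lit 274) (Steps.bwd (nat_lit 6) (Steps.fwd (nat_lit 1310720) (Steps.bwd (nat_lit 2) (Steps.bwd (nat_lit 1) (Steps.fwd (nat_lit 1572864) (Steps.bwd (nat_lit 1) (Steps.bwd (nat_lit 2) (Steps.bwd (nat_lit 1) (Steps.fwd (nat_lit 1572864) (Steps.fwd (nat_lit 262144) (Steps.bwd (nat_lit 2) (Steps.fwd (nat_lit 262144) (Steps.bwd (nat_lit 6) Steps.nil))))))))))))) (nat_lit 34) (nat_lit 12),
  Rule.mk (nat_lit 1) (nat_lit 274) (Steps.bwd (nat_lit 6) (Steps.bwd (nat_lit 5) (Steps.fwd (nat_lit 786432) (Steps.bwd (nat_lit 1) (Steps.fwd (nat_lit 1572864) (Steps.fwd (nat_lit 262144) (Steps.bwd (nat_lit 2) (Steps.bwd (nat_lit 1) (Steps.bwd (nat_lit 6) (Steps.fwd (nat_lit 262144) (Steps.bwd (nat_lit 2) (Steps.fwd (nat_lit 262144) (Steps.bwd (nat_lit 6) Steps.nil))))))))))))) (nat_lit 34) (nat_lit 12),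
  Rule.mk (nat_lit 7) (nat_lit 114) (Steps.fwd (nat_lit 786432) (Steps.fwd (nat_lit 1048576) (Steps.bwd (nat_lit 7) (Steps.bwd (nat_lit 2) (Steps.bwd (nat_lit 4) Steps.nil))))) (nat_lit 56) (nat_lit 0),
  Rule.mk (nat_lit 1) (nat_lit 274) (Steps.bwd (nat_lit 6) (Steps.fwd (nat_lit 1310720) (Steps.fwd (nat_lit 786432) (Steps.fwd (nat_lit 262144) (Steps.bwd (nat_lit 6) (Steps.fwd (nat_lit 262144) (Steps.fwd (nat_lit 786432) (Steps.fwd (nat_lit 262144) (Steps.fwd (nat_lit 1572864) (Steps.bwd (nat_lit 1) (Steps.bwd (nat_lit 2) (Steps.fwd (nat_lit 262144) (Steps.bwd (nat_lit 6) Steps.nil))))))))))))) (nat_lit 34) (nat_lit 12),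
  Rule.mk (nat_lit 1) (nat_lit 274) (Steps.bwd (nat_lit 6) (Steps.fwd (nat_lit 1310720) (Steps.fwd (nat_lit 786432) (Steps.bwd (nat_lit 1) (Steps.fwd (nat_lit 1572864) (Steps.fwd (nat_lit 262144) (Steps.bwd (nat_lit 2) (Steps.bwd (nat_lit 1) (Steps.bwd (nat_lit 6) (Steps.fwd (nat_lit 262144) (Steps.bwd (nat_lit 2) (Steps.fwd (nat_lit 262144) (Steps.bwd (nat_lit 6) Steps.nil))))))))))))) (nat_lit 34) (nat_lit 12),
  Rule.mk (nat_lit 4) (nat_lit 114) (Steps.fwd (nat_lit 524288) (Steps.fwd (nat_lit 1835008) (Steps.fwd (nat_lit 1048576) (Steps.fwd (nat_lit 524288) (Steps.bwd (nat_lit 7) Steps.nil))))) (nat_lit 57) (nat_lit 2),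
  Rule.mk (nat_lit 1) (nat_lit 274) (Steps.bwd (nat_lit 6) (Steps.fwd (nat_lit 1310720) (Steps.bwd (nat_lit 2) (Steps.bwd (nat_lit 1) (Steps.fwd (nat_lit 1572864) (Steps.bwd (nat_lit 1) (Steps.bwd (nat_lit 2) (Steps.bwd (nat_lit 1) (Steps.bwd (nat_lit 6) (Steps.fwd (nat_lit 262144) (Steps.bwd (nat_lit 2) (Steps.fwd (nat_lit 262144) (Steps.bwd (nat_lit 6) Steps.nil))))))))))))) (nat_lit 34) (nat_lit 12),
  Rule.mk (nat_lit 1) (nat_lit 274) (Steps.bwd (nat_lit 6) (Steps.bwd (nat_lit 5) (Steps.fwd (nat_lit 786432) (Steps.bwd (nat_lit 1) (Steps.fwd (nat_lit 1572864) (Steps.bwd (nat_lit 1) (Steps.bwd (nat_lit 2) (Steps.fwd (nat_lit 262144) (Steps.bwd (nat_lit 6) (Steps.fwd (nat_lit 262144) (Steps.bwd (nat_lit 2) (Steps.fwd (nat_lit 262144) (Steps.bwd (nat_lit 6) Steps.nil))))))))))))) (nat_lit 34) (nat_lit 12),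
  Rule.mk (nat_lit 4) (nat_lit 114) (Steps.bwd (nat_lit 7) (Steps.fwd (nat_lit 786432) (Steps.fwd (nat_lit 1048576) (Steps.fwd (nat_lit 1835008) (Steps.bwd (nat_lit 2) Steps.nil))))) (nat_lit 56) (nat_lit 2),
  Rule.mk (nat_lit 1) (nat_lit 274) (Steps.bwd (nat_lit 6) (Steps.fwd (nat_lit 1310720) (Steps.fwd (nat_lit 786432) (Steps.fwd (nat_lit 262144) (Steps.bwd (nat_lit 6) (Steps.fwd (nat_lit 262144) (Steps.bwd (nat_lit 2) (Steps.fwd (nat_lit 262144) (Steps.bwd (nat_lit 6) (Steps.bwd (nat_lit 1) (Steps.bwd (nat_lit 2) (Steps.fwd (nat_lit 262144) (Steps.bwd (nat_lit 6) Steps.nil))))))))))))) (nat_lit 34) (nat_lit 12),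
  Rule.mk (nat_lit 1) (nat_lit 274) (Steps.bwd (nat_lit 6) (Steps.fwd (nat_lit 1310720) (Steps.fwd (nat_lit 786432) (Steps.bwd (nat_lit 1) (Steps.bwd (nat_lit 6) (Steps.bwd (nat_lit 1) (Steps.bwd (nat_lit 2) (Steps.fwd (nat_lit 262144) (Steps.bwd (nat_lit 6) (Steps.fwd (nat_lit 262144) (Steps.bwd (nat_lit 2) (Steps.fwd (nat_lit 262144) (Steps.bwd (nat_lit 6) Steps.nil))))))))))))) (nat_lit 34) (nat_lit 12),
  Rule.mk (nat_lit 4) (nat_lit 114) (Steps.bwd (nat_lit 6) (Steps.fwd (nat_lit 524288) (Steps.fwd (nat_lit 1048576) (Steps.bwd (nat_lit 5) (Steps.bwd (nat_lit 3) Steps.nil))))) (nat_lit 59) (nat_lit 1),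
  Rule.mk (nat_lit 1) (nat_lit 154) (Steps.fwd (nat_lit 1048576) (Steps.bwd (nat_lit 1) (Steps.bwd (nat_lit 6) (Steps.bwd (nat_lit 1) (Steps.bwd (nat_lit 4) (Steps.fwd (nat_lit 262144) (Steps.fwd (nat_lit 1572864) Steps.nil))))))) (nat_lit 74) (nat_lit 1),
  Rule.mk (nat_lit 4) (nat_lit 314) (Steps.bwd (nat_lit 9) (Steps.bwd (nat_lit 4) (Steps.bwd (nat_lit 8) (Steps.bwd (nat_lit 4) (Steps.bwd (nat_lit 9) (Steps.bwd (nat_lit 4) (Steps.bwd (nat_lit 8) (Steps.fwd (nat_lit 1048576) (Steps.bwd (nat_lit 9) (Steps.fwd (nat_lit 1048576) (Steps.fwd (nat_lit 2359296) (Steps.fwd (nat_lit 1048576) (Steps.fwd (nat_lit 2097152) (Steps.fwd (nat_lit 1048576) (Steps.fwd (nat_lit 2359296) Steps.nil))))))))))))))) (nat_lit 106) (nat_lit 2),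
  Rule.mk (nat_lit 1) (nat_lit 154) (Steps.bwd (nat_lit 7) (Steps.bwd (nat_lit 3) (Steps.bwd (nat_lit 1) (Steps.bwd (nat_lit 3) (Steps.fwd (nat_lit 1835008) (Steps.fwd (nat_lit 262144) (Steps.fwd (nat_lit 524288) Steps.nil))))))) (nat_lit 73) (nat_lit 0),
  Rule.mk (nat_lit 4) (nat_lit 114) (Steps.fwd (nat_lit 1572864) (Steps.fwd (nat_lit 524288) (Steps.bwd (nat_lit 4) (Steps.bwd (nat_lit 5) (Steps.bwd (nat_lit 3) Steps.nil))))) (nat_lit 59) (nat_lit 1),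
  Rule.mk (nat_lit 1) (nat_lit 154) (Steps.bwd (nat_lit 2) (Steps.bwd (nat_lit 1) (Steps.fwd (nat_lit 1835008) (Steps.bwd (nat_lit 2) (Steps.fwd (nat_lit 262144) (Steps.bwd (nat_lit 2) (Steps.fwd (nat_lit 1835008) Steps.nil))))))) (nat_lit 72) (nat_lit 1),
  Rule.mk (nat_lit 3) (nat_lit 154) (Steps.bwd (nat_lit 1) (Steps.bwd (nat_lit 3) (Steps.fwd (nat_lit 1310720) (Steps.fwd (nat_lit 262144) (Steps.bwd (nat_lit 3) (Steps.bwd (nat_lit 1) (Steps.fwd (nat_lit 1310720) Steps.nil))))))) (nat_lit 71) (nat_lit 2),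
  Rule.mk (nat_lit 4) (nat_lit 314) (Steps.bwd (nat_lit 9) (Steps.fwd (nat_lit 1048576) (Steps.fwd (nat_lit 2359296) (Steps.fwd (nat_lit 1048576) (Steps.bwd (nat_lit 9) (Steps.bwd (nat_lit 4) (Steps.fwd (nat_lit 2359296) (Steps.fwd (nat_lit 1048576) (Steps.bwd (nat_lit 9) (Steps.fwd (nat_lit 1048576) (Steps.fwd (nat_lit 2359296) (Steps.bwd (nat_lit 4) (Steps.bwd (nat_lit 9) (Steps.bwd (nat_lit 4) (Steps.fwd (nat_lit 2359296) Steps.nil))))))))))))))) (nat_lit 106) (nat_lit 2),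
  Rule.mk (nat_lit 4) (nat_lit 314) (Steps.bwd (nat_lit 8) (Steps.bwd (nat_lit 4) (Steps.bwd (nat_lit 9) (Steps.fwd (nat_lit 1048576) (Steps.fwd (nat_lit 2359296) (Steps.bwd (nat_lit 4) (Steps.bwd (nat_lit 9) (Steps.fwd (nat_lit 1048576) (Steps.bwd (nat_lit 8) (Steps.bwd (nat_lit 4) (Steps.bwd (nat_lit 9) (Steps.fwd (nat_lit 1048576) (Steps.fwd (nat_lit 2359296) (Steps.bwd (nat_lit 4) (Steps.bwd (nat_lit 9) Steps.nil))))))))))))))) (nat_lit 106) (nat_lit 0),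
  Rule.mk (nat_lit 4) (nat_lit 114) (Steps.fwd (nat_lit 1310720) (Steps.fwd (nat_lit 524288) (Steps.bwd (nat_lit 4) (Steps.fwd (nat_lit 1572864) (Steps.bwd (nat_lit 3) Steps.nil))))) (nat_lit 59) (nat_lit 4),
  Rule.mk (nat_lit 4) (nat_lit 114) (Steps.fwd (nat_lit 1310720) (Steps.bwd (nat_lit 7) (Steps.bwd (nat_lit 4) (Steps.fwd (nat_lit 1572864) (Steps.fwd (nat_lit 1835008) Steps.nil))))) (nat_lit 66) (nat_lit 1),
  Rule.mk (nat_lit 4) (nat_lit 314) (Steps.fwd (nat_lit 2359296) (Steps.bwd (nat_lit 4) (Steps.bwd (nat_lit 9) (Steps.bwd (nat_lit 4) (Steps.fwd (nat_lit 2359296) (Steps.fwd (nat_lit 1048576) (Steps.bwd (nat_lit 9) (Steps.bwd (nat_lit 4) (Steps.bwd (nat_lit 8) (Steps.bwd (nat_lit 4) (Steps.bwd (nat_lit 9) (Steps.fwd (nat_lit 1048576) (Steps.fwd (nat_lit 2359296) (Steps.fwd (nat_lit 1048576) (Steps.fwd (nat_lit 2097152) Steps.nil))))))))))))))) (nat_lit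 106) (nat_lit 0)]
noncomputable def R_25 : List (Rule) := [Rule.mk (nat_lit 4) (nat_lit 314) (Steps.bwd (nat_lit 9) (Steps.bwd (nat_lit 4) (Steps.bwd (nat_lit 8) (Steps.bwd (nat_lit 4) (Steps.bwd (nat_lit 9) (Steps.bwd (nat_lit 4) (Steps.fwd (nat_lit 2359296) (Steps.fwd (nat_lit 1048576) (Steps.fwd (nat_lit 2097152) (Steps.fwd (nat_lit 1048576) (Steps.fwd (nat_lit 2359296) (Steps.bwd (nat_lit 4) (Steps.bwd (nat_lit 9) (Steps.bwd (nat_lit 4) (Steps.fwd (nat_lit 2359296) Steps.nil))))))))))))))) (nat_lit 106) (nat_lit 2),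
  Rule.mk (nat_lit 4) (nat_lit 314) (Steps.bwd (nat_lit 8) (Steps.bwd (nat_lit 4) (Steps.bwd (nat_lit 9) (Steps.bwd (nat_lit 4) (Steps.bwd (nat_lit 8) (Steps.fwd (nat_lit 1048576) (Steps.fwd (nat_lit 2097152) (Steps.bwd (nat_lit 4) (Steps.bwd (nat_lit 8) (Steps.fwd (nat_lit 1048576) (Steps.fwd (nat_lit 2097152) (Steps.fwd (nat_lit 1048576) (Steps.fwd (nat_lit 2359296) (Steps.fwd (nat_lit 1048576) (Steps.fwd (nat_lit 2097152) Steps.nil))))))))))))))) (nat_lit 106) (nat_lit 0),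
  Rule.mk (nat_lit 4) (nat_lit 114) (Steps.bwd (nat_lit 5) (Steps.bwd (nat_lit 3) (Steps.bwd (nat_lit 4) (Steps.fwd (nat_lit 1572864) (Steps.bwd (nat_lit 3) Steps.nil))))) (nat_lit 59) (nat_lit 4),
  Rule.mk (nat_lit 3) (nat_lit 154) (Steps.bwd (nat_lit 1) (Steps.fwd (nat_lit 524288) (Steps.bwd (nat_lit 5) (Steps.fwd (nat_lit 262144) (Steps.fwd (nat_lit 524288) (Steps.fwd (nat_lit 262144) (Steps.fwd (nat_lit 1310720) Steps.nil))))))) (nat_lit 71) (nat_lit 2),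
  Rule.mk (nat_lit 4) (nat_lit 314) (Steps.bwd (nat_lit 8) (Steps.bwd (nat_lit 4) (Steps.bwd (nat_lit 9) (Steps.bwd (nat_lit 4) (Steps.bwd (nat_lit 8) (Steps.fwd (nat_lit 1048576) (Steps.bwd (nat_lit 9) (Steps.bwd (nat_lit 4) (Steps.bwd (nat_lit 8) (Steps.fwd (nat_lit 1048576) (Steps.fwd (nat_lit 2097152) (Steps.fwd (nat_lit 1048576) (Steps.fwd (nat_lit 2359296) (Steps.fwd (nat_lit 1048576) (Steps.fwd (nat_lit 2097152) Steps.nil))))))))))))))) (nat_lit 106) (nat_lit 0),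
  Rule.mk (nat_lit 4) (nat_lit 114) (Steps.bwd (nat_lit 5) (Steps.bwd (nat_lit 3) (Steps.fwd (nat_lit 1048576) (Steps.fwd (nat_lit 1572864) (Steps.bwd (nat_lit 3) Steps.nil))))) (nat_lit 59) (nat_lit 4),
  Rule.mk (nat_lit 1) (nat_lit 154) (Steps.fwd (nat_lit 1310720) (Steps.fwd (nat_lit 524288) (Steps.bwd (nat_lit 1) (Steps.bwd (nat_lit 3) (Steps.fwd (nat_lit 1310720) (Steps.fwd (nat_lit 262144) (Steps.bwd (nat_lit 3) Steps.nil))))))) (nat_lit 71) (nat_lit 0),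
  Rule.mk (nat_lit 3) (nat_lit 154) (Steps.bwd (nat_lit 1) (Steps.fwd (nat_lit 1835008) (Steps.bwd (nat_lit 3) (Steps.fwd (nat_lit 262144) (Steps.bwd (nat_lit 3) (Steps.fwd (nat_lit 1835008) (Steps.bwd (nat_lit 1) Steps.nil))))))) (nat_lit 73) (nat_lit 7),
  Rule.mk (nat_lit 4) (nat_lit 114) (Steps.fwd (nat_lit 786432) (Steps.bwd (nat_lit 5) (Steps.fwd (nat_lit 1048576) (Steps.bwd (nat_lit 2) (Steps.bwd (nat_lit 6) Steps.nil))))) (nat_lit 58) (nat_lit 0),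
  Rule.mk (nat_lit 4) (nat_lit 154) (Steps.fwd (nat_lit 524288) (Steps.bwd (nat_lit 7) (Steps.fwd (nat_lit 1572864) (Steps.fwd (nat_lit 1048576) (Steps.bwd (nat_lit 3) (Steps.bwd (nat_lit 7) (Steps.bwd (nat_lit 5) Steps.nil))))))) (nat_lit 79) (nat_lit 7),
  Rule.mk (nat_lit 4) (nat_lit 314) (Steps.bwd (nat_lit 9) (Steps.bwd (nat_lit 4) (Steps.bwd (nat_lit 8) (Steps.bwd (nat_lit 4) (Steps.bwd (nat_lit 9) (Steps.bwd (nat_lit 4) (Steps.fwd (nat_lit 2359296) (Steps.fwd (nat_lit 1048576) (Steps.fwd (nat_lit 2097152) (Steps.fwd (nat_lit 1048576) (Steps.fwd (nat_lit 2359296) (Steps.fwd (nat_lit 1048576) (Steps.fwd (nat_lit 2097152) (Steps.fwd (nat_lit 1048576) (Steps.fwd (nat_lit 2359296) Steps.nil))))))))))))))) (nat_lit 106) (nat_lit 2),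
  Rule.mk (nat_lit 1) (nat_lit 154) (Steps.bwd (nat_lit 7) (Steps.fwd (nat_lit 524288) (Steps.bwd (nat_lit 1) (Steps.fwd (nat_lit 524288) (Steps.bwd (nat_lit 7) (Steps.fwd (nat_lit 262144) (Steps.bwd (nat_lit 3) Steps.nil))))))) (nat_lit 73) (nat_lit 0),
  Rule.mk (nat_lit 3) (nat_lit 154) (Steps.bwd (nat_lit 1) (Steps.fwd (nat_lit 524288) (Steps.bwd (nat_lit 5) (Steps.fwd (nat_lit 262144) (Steps.fwd (nat_lit 524288) (Steps.fwd (nat_lit 262144) (Steps.bwd (nat_lit 5) Steps.nil))))))) (nat_lit 71) (nat_lit 2),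
  Rule.mk (nat_lit 4) (nat_lit 314) (Steps.bwd (nat_lit 8) (Steps.bwd (nat_lit 4) (Steps.bwd (nat_lit 9) (Steps.bwd (nat_lit 4) (Steps.bwd (nat_lit 8) (Steps.fwd (nat_lit 1048576) (Steps.bwd (nat_lit 9) (Steps.bwd (nat_lit 4) (Steps.fwd (nat_lit 2359296) (Steps.bwd (nat_lit 4) (Steps.fwd (nat_lit 2097152) (Steps.fwd (nat_lit 1048576) (Steps.fwd (nat_lit 2359296) (Steps.fwd (nat_lit 1048576) (Steps.fwd (nat_lit 2097152) Steps.nil))))))))))))))) (nat_lit 106) (nat_lit 0),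
  Rule.mk (nat_lit 1) (nat_lit 154) (Steps.bwd (nat_lit 5) (Steps.fwd (nat_lit 524288) (Steps.bwd (nat_lit 1) (Steps.bwd (nat_lit 3) (Steps.fwd (nat_lit 1310720) (Steps.fwd (nat_lit 262144) (Steps.bwd (nat_lit 3) Steps.nil))))))) (nat_lit 71) (nat_lit 0),
  Rule.mk (nat_lit 1) (nat_lit 154) (Steps.bwd (nat_lit 5) (Steps.fwd (nat_lit 524288) (Steps.bwd (nat_lit 1) (Steps.bwd (nat_lit 3) (Steps.fwd (nat_lit 1310720) (Steps.fwd (nat_lit 262144) (Steps.fwd (nat_lit 524288) Steps.nil))))))) (nat_lit 71) (nat_lit 0),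
  Rule.mk (nat_lit 1) (nat_lit 154) (Steps.bwd (nat_lit 7) (Steps.fwd (nat_lit 524288) (Steps.bwd (nat_lit 1) (Steps.bwd (nat_lit 3) (Steps.fwd (nat_lit 1835008) (Steps.fwd (nat_lit 262144) (Steps.fwd (nat_lit 524288) Steps.nil))))))) (nat_lit 73) (nat_lit 0),
  Rule.mk (nat_lit 4) (nat_lit 114) (Steps.fwd (nat_lit 1310720) (Steps.fwd (nat_lit 524288) (Steps.fwd (nat_lit 1048576) (Steps.bwd (nat_lit 6) (Steps.bwd (nat_lit 3) Steps.nil))))) (nat_lit 59) (nat_lit 4),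
  Rule.mk (nat_lit 6) (nat_lit 274) (Steps.bwd (nat_lit 1) (Steps.bwd (nat_lit 6) (Steps.fwd (nat_lit 1310720) (Steps.fwd (nat_lit 786432) (Steps.fwd (nat_lit 262144) (Steps.bwd (nat_lit 6) (Steps.fwd (nat_lit 262144) (Steps.bwd (nat_lit 2) (Steps.bwd (nat_lit 1) (Steps.bwd (nat_lit 6) (Steps.fwd (nat_lit 262144) (Steps.bwd (nat_lit 2) (Steps.bwd (nat_lit 1) Steps.nil))))))))))))) (nat_lit 34) (nat_lit 11),
  Rule.mk (nat_lit 6) (nat_lit 274) (Steps.bwd (nat_lit 1) (Steps.fwd (nat_lit 524288) (Steps.bwd (nat_lit 5) (Steps.fwd (nat_lit 1572864) (Steps.fwd (nat_lit 262144) (Steps.fwd (nat_lit 1572864) (Steps.fwd (nat_lit 262144) (Steps.fwd (nat_lit 524288) (Steps.bwd (nat_lit 1) (Steps.fwd (nat_lit 1572864) (Steps.fwd (nat_lit 262144) (Steps.fwd (nat_lit 524288) (Steps.fwd (nat_lit 262144) Steps.nil))))))))))))) (nat_lit 35) (nat_lit 12),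
  Rule.mk (nat_lit 6) (nat_lit 274) (Steps.bwd (nat_lit 1) (Steps.fwd (nat_lit 524288) (Steps.fwd (nat_lit 1310720) (Steps.fwd (nat_lit 1572864) (Steps.fwd (nat_lit 262144) (Steps.bwd (nat_lit 6) (Steps.fwd (nat_lit 262144) (Steps.fwd (nat_lit 524288) (Steps.bwd (nat_lit 1) (Steps.bwd (nat_lit 6) (Steps.fwd (nat_lit 262144) (Steps.bwd (nat_lit 3) (Steps.bwd (nat_lit 1) Steps.nil))))))))))))) (nat_lit 35) (nat_lit 12),
  Rule.mk (nat_lit 6) (nat_lit 274) (Steps.bwd (nat_lit 1) (Steps.fwd (nat_lit 1572864) (Steps.bwd (nat_lit 5) (Steps.fwd (nat_lit 786432) (Steps.fwd (nat_lit 262144) (Steps.fwd (nat_lit 1572864) (Steps.bwd (nat_lit 1) (Steps.bwd (nat_lit 2) (Steps.fwd (nat_lit 262144) (Steps.bwd (nat_lit 6) (Steps.fwd (nat_lit 262144) (Steps.bwd (nat_lit 2) (Steps.bwd (nat_lit 1) Steps.nil))))))))))))) (nat_lit 34) (nat_lit 11),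
  Rule.mk (nat_lit 6) (nat_lit 274) (Steps.bwd (nat_lit 1) (Steps.bwd (nat_lit 3) (Steps.fwd (nat_lit 1310720) (Steps.fwd (nat_lit 1572864) (Steps.fwd (nat_lit 262144) (Steps.bwd (nat_lit 6) (Steps.bwd (nat_lit 1) (Steps.bwd (nat_lit 3) (Steps.fwd (nat_lit 262144) (Steps.bwd (nat_lit 6) (Steps.fwd (nat_lit 262144) (Steps.fwd (nat_lit 524288) (Steps.bwd (nat_lit 1) Steps.nil))))))))))))) (nat_lit 35) (nat_lit 12),
  Rule.mk (nat_lit 6) (nat_lit 74) (Steps.fwd (nat_lit 2359296) (Steps.bwd (nat_lit 6) (Steps.bwd (nat_lit 8) Steps.nil))) (nat_lit 102) (nat_lit 1),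
  Rule.mk (nat_lit 6) (nat_lit 274) (Steps.bwd (nat_lit 1) (Steps.fwd (nat_lit 786432) (Steps.bwd (nat_lit 1) (Steps.fwd (nat_lit 1572864) (Steps.bwd (nat_lit 1) (Steps.fwd (nat_lit 786432) (Steps.fwd (nat_lit 262144) (Steps.bwd (nat_lit 6) (Steps.bwd (nat_lit 1) (Steps.bwd (nat_lit 6) (Steps.fwd (nat_lit 1310720) (Steps.fwd (nat_lit 786432) (Steps.fwd (nat_lit 262144) Steps.nil))))))))))))) (nat_lit 34) (nat_lit 3),
  Rule.mk (nat_lit 1) (nat_lit 274) (Steps.bwd (nat_lit 6) (Steps.bwd (nat_lit 1) (Steps.bwd (nat_lit 6) (Steps.fwd (nat_lit 1310720) (Steps.bwd (nat_lit 2) (Steps.fwd (nat_lit 262144) (Steps.bwd (nat_lit 6) (Steps.fwd (nat_lit 262144) (Steps.bwd (nat_lit 2) (Steps.bwd (nat_lit 1) (Steps.fwd (nat_lit 1572864) (Steps.fwd (nat_lit 262144) (Steps.bwd (nat_lit 2) Steps.nil))))))))))))) (nat_lit 34) (nat_lit 10),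
  Rule.mk (nat_lit 6) (nat_lit 274) (Steps.bwd (nat_lit 1) (Steps.fwd (nat_lit 1572864) (Steps.bwd (nat_lit 5) (Steps.fwd (nat_lit 786432) (Steps.bwd (nat_lit 1) (Steps.fwd (nat_lit 1572864) (Steps.bwd (nat_lit 1) (Steps.fwd (nat_lit 786432) (Steps.fwd (nat_lit 262144) (Steps.fwd (nat_lit 1572864) (Steps.bwd (nat_lit 1) (Steps.fwd (nat_lit 786432) (Steps.fwd (nat_lit 262144) Steps.nil))))))))))))) (nat_lit 34) (nat_lit 11),
  Rule.mk (nat_lit 1) (nat_lit 274) (Steps.bwd (nat_lit 6) (Steps.bwd (nat_lit 1) (Steps.bwd (nat_lit 6) (Steps.fwd (nat_lit 1310720) (Steps.bwd (nat_lit 2) (Steps.bwd (nat_lit 1) (Steps.bwd (nat_lit 6) (Steps.bwd (nat_lit 1) (Steps.bwd (nat_lit 2) (Steps.bwd (nat_lit 1) (Steps.bwd (nat_lit 6) (Steps.bwd (nat_lit 1) (Steps.bwd (nat_lit 2) Steps.nil))))))))))))) (nat_lit 34) (nat_lit 10),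
  Rule.mk (nat_lit 6) (nat_lit 274) (Steps.bwd (nat_lit 1) (Steps.bwd (nat_lit 6) (Steps.fwd (nat_lit 1310720) (Steps.fwd (nat_lit 786432) (Steps.fwd (nat_lit 262144) (Steps.fwd (nat_lit 1572864) (Steps.bwd (nat_lit 1) (Steps.bwd (nat_lit 2) (Steps.bwd (nat_lit 1) (Steps.fwd (nat_lit 1572864) (Steps.fwd (nat_lit 262144) (Steps.bwd (nat_lit 2) (Steps.fwd (nat_lit 262144) Steps.nil))))))))))))) (nat_lit 34) (nat_lit 11),
  Rule.mk (nat_lit 6) (nat_lit 274) (Steps.bwd (nat_lit 1) (Steps.fwd (nat_lit 524288) (Steps.bwd (nat_lit 5) (Steps.bwd (nat_lit 6) (Steps.fwd (nat_lit 262144) (Steps.fwd (nat_lit 1572864) (Steps.fwd (nat_lit 262144) (Steps.fwd (nat_lit 524288) (Steps.bwd (nat_lit 1) (Steps.fwd (nat_lit 1572864) (Steps.fwd (nat_lit 262144) (Steps.fwd (nat_lit 524288) (Steps.fwd (nat_lit 262144) Steps.nil))))))))))))) (nat_lit 35) (nat_lit 12),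
  Rule.mk (nat_lit 6) (nat_lit 274) (Steps.bwd (nat_lit 1) (Steps.fwd (nat_lit 524288) (Steps.fwd (nat_lit 1310720) (Steps.bwd (nat_lit 6) (Steps.fwd (nat_lit 262144) (Steps.bwd (nat_lit 6) (Steps.fwd (nat_lit 262144) (Steps.fwd (nat_lit 524288) (Steps.bwd (nat_lit 1) (Steps.bwd (nat_lit 6) (Steps.fwd (nat_lit 262144) (Steps.bwd (nat_lit 3) (Steps.fwd (nat_lit 262144) Steps.nil))))))))))))) (nat_lit 35) (nat_lit 12),
  Rule.mk (nat_lit 6) (nat_lit 274) (Steps.bwd (nat_lit 1) (Steps.fwd (nat_lit 524288) (Steps.bwd (nat_lit 1) (Steps.fwd (nat_lit 1572864) (Steps.fwd (nat_lit 262144) (Steps.fwd (nat_lit 524288) (Steps.bwd (nat_lit 1) (Steps.bwd (nat_lit 6) (Steps.bwd (nat_lit 1) (Steps.bwd (nat_lit 3) (Steps.bwd (nat_lit 5) (Steps.fwd (nat_lit 1572864) (Steps.fwd (nat_lit 262144) Steps.nil))))))))))))) (nat_lit 35) (nat_lit 4),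
  Rule.mk (nat_lit 6) (nat_lit 274) (Steps.bwd (nat_lit 1) (Steps.bwd (nat_lit 6) (Steps.fwd (nat_lit 1310720) (Steps.fwd (nat_lit 786432) (Steps.fwd (nat_lit 262144) (Steps.bwd (nat_lit 6) (Steps.bwd (nat_lit 1) (Steps.fwd (nat_lit 786432) (Steps.bwd (nat_lit 1) (Steps.fwd (nat_lit 1572864) (Steps.fwd (nat_lit 262144) (Steps.bwd (nat_lit 2) (Steps.bwd (nat_lit 1) Steps.nil))))))))))))) (nat_lit 34) (nat_lit 11),
  Rule.mk (nat_lit 6) (nat_lit 274) (Steps.bwd (nat_lit 1) (Steps.bwd (nat_lit 3) (Steps.fwd (nat_lit 1310720) (Steps.fwd (nat_lit 1572864) (Steps.fwd (nat_lit 262144) (Steps.bwd (nat_lit 6) (Steps.bwd (nat_lit 1) (Steps.bwd (nat_lit 3) (Steps.bwd (nat_lit 1) (Steps.bwd (nat_lit 6) (Steps.fwd (nat_lit 262144) (Steps.fwd (nat_lit 524288) (Steps.bwd (nat_lit 1) Steps.nil))))))))))))) (nat_lit 35) (nat_lit 12),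
  Rule.mk (nat_lit 6) (nat_lit 74) (Steps.fwd (nat_lit 2359296) (Steps.fwd (nat_lit 1572864) (Steps.bwd (nat_lit 8) Steps.nil))) (nat_lit 102) (nat_lit 1),
  Rule.mk (nat_lit 6) (nat_lit 274) (Steps.bwd (nat_lit 1) (Steps.fwd (nat_lit 1572864) (Steps.bwd (nat_lit 5) (Steps.fwd (nat_lit 786432) (Steps.fwd (nat_lit 262144) (Steps.bwd (nat_lit 6) (Steps.fwd (nat_lit 262144) (Steps.bwd (nat_lit 2) (Steps.bwd (nat_lit 1) (Steps.fwd (nat_lit 1572864) (Steps.fwd (nat_lit 262144) (Steps.bwd (nat_lit 2) (Steps.fwd (nat_lit 262144) Steps.nil))))))))))))) (nat_lit 34) (nat_lit 11),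
  Rule.mk (nat_lit 3) (nat_lit 154) (Steps.bwd (nat_lit 1) (Steps.fwd (nat_lit 524288) (Steps.fwd (nat_lit 1310720) (Steps.fwd (nat_lit 262144) (Steps.bwd (nat_lit 3) (Steps.bwd (nat_lit 1) (Steps.bwd (nat_lit 5) Steps.nil))))))) (nat_lit 71) (nat_lit 2),
  Rule.mk (nat_lit 6) (nat_lit 274) (Steps.bwd (nat_lit 1) (Steps.fwd (nat_lit 524288) (Steps.fwd (nat_lit 1310720) (Steps.bwd (nat_lit 6) (Steps.fwd (nat_lit 262144) (Steps.fwd (nat_lit 1572864) (Steps.fwd (nat_lit 262144) (Steps.fwd (nat_lit 524288) (Steps.bwd (nat_lit 1) (Steps.bwd (nat_lit 6) (Steps.fwd (nat_lit 262144) (Steps.fwd (nat_lit 524288) (Steps.fwd (nat_lit 262144) Steps.nil))))))))))))) (nat_lit 35) (nat_lit 12),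
  Rule.mk (nat_lit 6) (nat_lit 274) (Steps.bwd (nat_lit 1) (Steps.fwd (nat_lit 524288) (Steps.bwd (nat_lit 5) (Steps.fwd (nat_lit 1572864) (Steps.fwd (nat_lit 262144) (Steps.fwd (nat_lit 1572864) (Steps.bwd (nat_lit 1) (Steps.fwd (nat_lit 524288) (Steps.bwd (nat_lit 1) (Steps.fwd (nat_lit 1572864) (Steps.fwd (nat_lit 262144) (Steps.bwd (nat_lit 3) (Steps.fwd (nat_lit 262144) Steps.nil))))))))))))) (nat_lit 35) (nat_lit 12),
  Rule.mk (nat_lit 6) (nat_lit 274) (Steps.bwd (nat_lit 1) (Steps.bwd (nat_lit 6) (Steps.bwd (nat_lit 5) (Steps.fwd (nat_lit 786432) (Steps.fwd (nat_lit 262144) (Steps.fwd (nat_lit 1572864) (Steps.bwd (nat_lit 1) (Steps.bwd (nat_lit 2) (Steps.fwd (nat_lit 262144) (Steps.bwd (nat_lit 6) (Steps.fwd (nat_lit 262144) (Steps.bwd (nat_lit 2) (Steps.bwd (nat_lit 1) Steps.nil))))))))))))) (nat_lit 34) (nat_lit 11),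
  Rule.mk (nat_lit 6) (nat_lit 274) (Steps.bwd (nat_lit 1) (Steps.fwd (nat_lit 1572864) (Steps.bwd (nat_lit 5) (Steps.fwd (nat_lit 786432) (Steps.fwd (nat_lit 262144) (Steps.bwd (nat_lit 6) (Steps.bwd (nat_lit 1) (Steps.fwd (nat_lit 786432) (Steps.bwd (nat_lit 1) (Steps.fwd (nat_lit 1572864) (Steps.fwd (nat_lit 262144) (Steps.bwd (nat_lit 2) (Steps.bwd (nat_lit 1) Steps.nil))))))))))))) (nat_lit 34) (nat_lit 11),
  Rule.mk (nat_lit 6) (nat_lit 274) (Steps.bwd (nat_lit 1) (Steps.bwd (nat_lit 2) (Steps.bwd (nat_lit 1) (Steps.fwd (nat_lit 1572864) (Steps.fwd (nat_lit 262144) (Steps.bwd (nat_lit 2) (Steps.bwd (nat_lit 1) (Steps.bwd (nat_lit 6) (Steps.bwd (nat_lit 1) (Steps.bwd (nat_lit 6) (Steps.bwd (nat_lit 5) (Steps.bwd (nat_lit 2) (Steps.fwd (nat_lit 262144) Steps.nil))))))))))))) (nat_lit 34) (nat_lit 3),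
  Rule.mk (nat_lit 6) (nat_lit 154) (Steps.bwd (nat_lit 2) (Steps.fwd (nat_lit 1310720) (Steps.bwd (nat_lit 2) (Steps.fwd (nat_lit 1835008) (Steps.fwd (nat_lit 1572864) (Steps.fwd (nat_lit 786432) (Steps.bwd (nat_lit 5) Steps.nil))))))) (nat_lit 84) (nat_lit 0),
  Rule.mk (nat_lit 6) (nat_lit 274) (Steps.bwd (nat_lit 1) (Steps.fwd (nat_lit 524288) (Steps.bwd (nat_lit 5) (Steps.bwd (nat_lit 6) (Steps.fwd (nat_lit 262144) (Steps.bwd (nat_lit 6) (Steps.fwd (nat_lit 262144) (Steps.bwd (nat_lit 3) (Steps.bwd (nat_lit 1) (Steps.fwd (nat_lit 1572864) (Steps.fwd (nat_lit 262144) (Steps.fwd (nat_lit 524288) (Steps.fwd (nat_lit 262144) Steps.nil))))))))))))) (nat_lit 35) (nat_lit 12),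
  Rule.mk (nat_lit 6) (nat_lit 274) (Steps.bwd (nat_lit 1) (Steps.fwd (nat_lit 1572864) (Steps.bwd (nat_lit 5) (Steps.fwd (nat_lit 786432) (Steps.fwd (nat_lit 262144) (Steps.bwd (nat_lit 6) (Steps.fwd (nat_lit 262144) (Steps.bwd (nat_lit 2) (Steps.bwd (nat_lit 1) (Steps.bwd (nat_lit 6) (Steps.fwd (nat_lit 262144) (Steps.bwd (nat_lit 2) (Steps.fwd (nat_lit 262144) Steps.nil))))))))))))) (nat_lit 34) (nat_lit 11),
  Rule.mk (nat_lit 6) (nat_lit 274) (Steps.bwd (nat_lit 1) (Steps.fwd (nat_lit 524288) (Steps.fwd (nat_lit 1310720) (Steps.fwd (nat_lit 1572864) (Steps.fwd (nat_lit 262144) (Steps.fwd (nat_lit 1572864) (Steps.fwd (nat_lit 262144) (Steps.fwd (nat_lit 524288) (Steps.bwd (nat_lit 1) (Steps.bwd (nat_lit 6) (Steps.fwd (nat_lit 262144) (Steps.fwd (nat_lit 524288) (Steps.fwd (nat_lit 262144) Steps.nil))))))))))))) (nat_lit 35) (nat_lit 12),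
  Rule.mk (nat_lit 6) (nat_lit 274) (Steps.bwd (nat_lit 1) (Steps.fwd (nat_lit 524288) (Steps.bwd (nat_lit 5) (Steps.bwd (nat_lit 6) (Steps.fwd (nat_lit 262144) (Steps.bwd (nat_lit 6) (Steps.fwd (nat_lit 262144) (Steps.fwd (nat_lit 524288) (Steps.bwd (nat_lit 1) (Steps.fwd (nat_lit 1572864) (Steps.fwd (nat_lit 262144) (Steps.bwd (nat_lit 3) (Steps.fwd (nat_lit 262144) Steps.nil))))))))))))) (nat_lit 35) (nat_lit 12),
  Rule.mk (nat_lit 6) (nat_lit 274) (Steps.bwd (nat_lit 1) (Steps.bwd (nat_lit 3) (Steps.bwd (nat_lit 1) (Steps.fwd (nat_lit 1572864) (Steps.fwd (nat_lit 262144) (Steps.fwd (nat_lit 524288) (Steps.bwd (nat_lit 1) (Steps.bwd (nat_lit 6) (Steps.bwd (nat_lit 1) (Steps.bwd (nat_lit 3) (Steps.bwd (nat_lit 5) (Steps.bwd (nat_lit 6) (Steps.fwd (nat_lit 262144) Steps.nil))))))))))))) (nat_lit 35) (nat_lit 4),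
  Rule.mk (nat_lit 6) (nat_lit 274) (Steps.bwd (nat_lit 1) (Steps.fwd (nat_lit 1572864) (Steps.bwd (nat_lit 5) (Steps.fwd (nat_lit 786432) (Steps.fwd (nat_lit 262144) (Steps.bwd (nat_lit 6) (Steps.bwd (nat_lit 1) (Steps.fwd (nat_lit 786432) (Steps.bwd (nat_lit 1) (Steps.bwd (nat_lit 6) (Steps.fwd (nat_lit 262144) (Steps.bwd (nat_lit 2) (Steps.bwd (nat_lit 1) Steps.nil))))))))))))) (nat_lit 34) (nat_lit 11),
  Rule.mk (nat_lit 6) (nat_lit 274) (Steps.bwd (nat_lit 1) (Steps.bwd (nat_lit 2) (Steps.bwd (nat_lit 1) (Steps.fwd (nat_lit 1572864) (Steps.fwd (nat_lit 262144) (Steps.bwd (nat_lit 2) (Steps.bwd (nat_lit 1) (Steps.bwd (nat_lit 6) (Steps.bwd (nat_lit 1) (Steps.fwd (nat_lit 1572864) (Steps.bwd (nat_lit 5) (Steps.bwd (nat_lit 2) (Steps.fwd (nat_lit 262144) Steps.nil))))))))))))) (nat_lit 34) (nat_lit 3),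
  Rule.mk (nat_lit 6) (nat_lit 274) (Steps.bwd (nat_lit 1) (Steps.fwd (nat_lit 524288) (Steps.bwd (nat_lit 5) (Steps.fwd (nat_lit 1572864) (Steps.fwd (nat_lit 262144) (Steps.bwd (nat_lit 6) (Steps.fwd (nat_lit 262144) (Steps.bwd (nat_lit 3) (Steps.bwd (nat_lit 1) (Steps.fwd (nat_lit 1572864) (Steps.fwd (nat_lit 262144) (Steps.fwd (nat_lit 524288) (Steps.fwd (nat_lit 262144) Steps.nil))))))))))))) (nat_lit 35) (nat_lit 12),
  Rule.mk (nat_lit 1) (nat_lit 274) (Steps.bwd (nat_lit 6) (Steps.bwd (nat_lit 5) (Steps.bwd (nat_lit 2) (Steps.fwd (nat_lit 262144) (Steps.fwd (nat_lit 1572864) (Steps.bwd (nat_lit 1) (Steps.bwd (nat_lit 2) (Steps.fwd (nat_lit 262144) (Steps.fwd (nat_lit 1572864) (Steps.fwd (nat_lit 262144) (Steps.bwd (nat_lit 2) (Steps.fwd (nat_lit 262144) (Steps.bwd (nat_lit 6) Steps.nil))))))))))))) (nat_lit 34) (nat_lit 12),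
  Rule.mk (nat_lit 6) (nat_lit 274) (Steps.bwd (nat_lit 1) (Steps.fwd (nat_lit 786432) (Steps.bwd (nat_lit 1) (Steps.fwd (nat_lit 1572864) (Steps.fwd (nat_lit 262144) (Steps.fwd (nat_lit 786432) (Steps.bwd (nat_lit 1) (Steps.bwd (nat_lit 6) (Steps.fwd (nat_lit 262144) (Steps.bwd (nat_lit 6) (Steps.fwd (nat_lit 1310720) (Steps.fwd (nat_lit 786432) (Steps.fwd (nat_lit 262144) Steps.nil))))))))))))) (nat_lit 34) (nat_lit 3),
  Rule.mk (nat_lit 1) (nat_lit 274) (Steps.bwd (nat_lit 6) (Steps.bwd (nat_lit 5) (Steps.fwd (nat_lit 786432) (Steps.bwd (nat_lit 1) (Steps.fwd (nat_lit 1572864) (Steps.fwd (nat_lit 262144) (Steps.bwd (nat_lit 2) (Steps.fwd (nat_lit 262144) (Steps.bwd (nat_lit 6) (Steps.bwd (nat_lit 1) (Steps.bwd (nat_lit 2) (Steps.fwd (nat_lit 262144) (Steps.fwd (nat_lit 1572864) Steps.nil))))))))))))) (nat_lit 34) (nat_lit 12),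
  Rule.mk (nat_lit 6) (nat_lit 274) (Steps.bwd (nat_lit 1) (Steps.bwd (nat_lit 6) (Steps.fwd (nat_lit 1310720) (Steps.fwd (nat_lit 786432) (Steps.bwd (nat_lit 1) (Steps.fwd (nat_lit 1572864) (Steps.fwd (nat_lit 262144) (Steps.fwd (nat_lit 786432) (Steps.bwd (nat_lit 1) (Steps.bwd (nat_lit 6) (Steps.fwd (nat_lit 262144) (Steps.bwd (nat_lit 2) (Steps.fwd (nat_lit 262144) Steps.nil))))))))))))) (nat_lit 34) (nat_lit 11),
  Rule.mk (nat_lit 1) (nat_lit 274) (Steps.bwd (nat_lit 6) (Steps.bwd (nat_lit 1) (Steps.bwd (nat_lit 6) (Steps.fwd (nat_lit 1310720) (Steps.bwd (nat_lit 2) (Steps.bwd (nat_lit 1) (Steps.fwd (nat_lit 1572864) (Steps.fwd (nat_lit 262144) (Steps.bwd (nat_lit 2) (Steps.fwd (nat_lit 262144) (Steps.bwd (nat_lit 6) (Steps.bwd (nat_lit 1) (Steps.bwd (nat_lit 2) Steps.nil))))))))))))) (nat_lit 34) (nat_lit 10),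
  Rule.mk (nat_lit 6) (nat_lit 274) (Steps.bwd (nat_lit 1) (Steps.fwd (nat_lit 786432) (Steps.bwd (nat_lit 1) (Steps.fwd (nat_lit 1572864) (Steps.fwd (nat_lit 262144) (Steps.fwd (nat_lit 786432) (Steps.bwd (nat_lit 1) (Steps.fwd (nat_lit 1572864) (Steps.fwd (nat_lit 262144) (Steps.bwd (nat_lit 6) (Steps.fwd (nat_lit 1310720) (Steps.fwd (nat_lit 786432) (Steps.fwd (nat_lit 262144) Steps.nil))))))))))))) (nat_lit 34) (nat_lit 3),
  Rule.mk (nat_lit 3) (nat_lit 154) (Steps.bwd (nat_lit 1) (Steps.fwd (nat_lit 524288) (Steps.fwd (nat_lit 1835008) (Steps.fwd (nat_lit 262144) (Steps.fwd (nat_lit 524288) (Steps.fwd (nat_lit 262144) (Steps.fwd (nat_lit 1835008) Steps.nil))))))) (nat_lit 73) (nat_lit 2),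
  Rule.mk (nat_lit 6) (nat_lit 274) (Steps.bwd (nat_lit 1) (Steps.bwd (nat_lit 6) (Steps.fwd (nat_lit 1310720) (Steps.fwd (nat_lit 786432) (Steps.fwd (nat_lit 262144) (Steps.fwd (nat_lit 1572864) (Steps.bwd (nat_lit 1) (Steps.bwd (nat_lit 2) (Steps.bwd (nat_lit 1) (Steps.fwd (nat_lit 1572864) (Steps.fwd (nat_lit 262144) (Steps.bwd (nat_lit 2) (Steps.bwd (nat_lit 1) Steps.nil))))))))))))) (nat_lit 34) (nat_lit 11),
  Rule.mk (nat_lit 3) (nat_lit 154) (Steps.bwd (nat_lit 1) (Steps.fwd (nat_lit 524288) (Steps.bwd (nat_lit 7) (Steps.fwd (nat_lit 262144) (Steps.bwd (nat_lit 3) (Steps.bwd (nat_lit 1) (Steps.bwd (nat_lit 7) Steps.nil))))))) (nat_lit 73) (nat_lit 2),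
  Rule.mk (nat_lit 6) (nat_lit 274) (Steps.bwd (nat_lit 1) (Steps.fwd (nat_lit 524288) (Steps.bwd (nat_lit 5) (Steps.fwd (nat_lit 1572864) (Steps.fwd (nat_lit 262144) (Steps.bwd (nat_lit 6) (Steps.bwd (nat_lit 1) (Steps.fwd (nat_lit 524288) (Steps.bwd (nat_lit 1) (Steps.bwd (nat_lit 6) (Steps.fwd (nat_lit 262144) (Steps.fwd (nat_lit 524288) (Steps.bwd (nat_lit 1) Steps.nil))))))))))))) (nat_lit 35) (nat_lit 12),
  Rule.mk (nat_lit 6) (nat_lit 274) (Steps.bwd (nat_lit 1) (Steps.fwd (nat_lit 524288) (Steps.bwd (nat_lit 5) (Steps.fwd (nat_lit 1572864) (Steps.fwd (nat_lit 262144) (Steps.fwd (nat_lit 1572864) (Steps.bwd (nat_lit 1) (Steps.fwd (nat_lit 524288) (Steps.bwd (nat_lit 1) (Steps.bwd (nat_lit 6) (Steps.fwd (nat_lit 262144) (Steps.fwd (nat_lit 524288) (Steps.bwd (nat_lit 1) Steps.nil))))))))))))) (nat_lit 35) (nat_lit 12),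
  Rule.mk (nat_lit 3) (nat_lit 154) (Steps.bwd (nat_lit 1) (Steps.bwd (nat_lit 3) (Steps.bwd (nat_lit 5) (Steps.bwd (nat_lit 1) (Steps.bwd (nat_lit 3) (Steps.fwd (nat_lit 262144) (Steps.fwd (nat_lit 1310720) Steps.nil))))))) (nat_lit 71) (nat_lit 2),
  Rule.mk (nat_lit 6) (nat_lit 274) (Steps.bwd (nat_lit 1) (Steps.bwd (nat_lit 6) (Steps.fwd (nat_lit 1310720) (Steps.fwd (nat_lit 786432) (Steps.fwd (nat_lit 262144) (Steps.bwd (nat_lit 6) (Steps.bwd (nat_lit 1) (Steps.bwd (nat_lit 2) (Steps.bwd (nat_lit 1) (Steps.fwd (nat_lit 1572864) (Steps.fwd (nat_lit 262144) (Steps.bwd (nat_lit 2) (Steps.bwd (nat_lit 1) Steps.nil))))))))))))) (nat_lit 34) (nat_lit 11)]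
noncomputable def R_26 : List (Rule) := [Rule.mk (nat_lit 3) (nat_lit 154) (Steps.bwd (nat_lit 1) (Steps.bwd (nat_lit 3) (Steps.fwd (nat_lit 1310720) (Steps.fwd (nat_lit 262144) (Steps.bwd (nat_lit 3) (Steps.fwd (nat_lit 262144) (Steps.bwd (nat_lit 5) Steps.nil))))))) (nat_lit 71) (nat_lit 2),
  Rule.mk (nat_lit 1) (nat_lit 274) (Steps.bwd (nat_lit 6) (Steps.bwd (nat_lit 1) (Steps.fwd (nat_lit 1572864) (Steps.fwd (nat_lit 1310720) (Steps.bwd (nat_lit 2) (Steps.bwd (nat_lit 1) (Steps.fwd (nat_lit 1572864) (Steps.bwd (nat_lit 1) (Steps.bwd (nat_lit 2) (Steps.fwd (nat_lit 262144) (Steps.bwd (nat_lit 6) (Steps.bwd (nat_lit 1) (Steps.bwd (nat_lit 2) Steps.nil))))))))))))) (nat_lit 34) (nat_lit 10),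
  Rule.mk (nat_lit 6) (nat_lit 274) (Steps.bwd (nat_lit 1) (Steps.fwd (nat_lit 1572864) (Steps.bwd (nat_lit 5) (Steps.fwd (nat_lit 786432) (Steps.bwd (nat_lit 1) (Steps.fwd (nat_lit 1572864) (Steps.fwd (nat_lit 262144) (Steps.fwd (nat_lit 786432) (Steps.bwd (nat_lit 1) (Steps.fwd (nat_lit 1572864) (Steps.fwd (nat_lit 262144) (Steps.bwd (nat_lit 2) (Steps.fwd (nat_lit 262144) Steps.nil))))))))))))) (nat_lit 34) (nat_lit 11),
  Rule.mk (nat_lit 6) (nat_lit 274) (Steps.bwd (nat_lit 1) (Steps.bwd (nat_lit 6) (Steps.fwd (nat_lit 1310720) (Steps.fwd (nat_lit 786432) (Steps.fwd (nat_lit 262144) (Steps.fwd (nat_lit 1572864) (Steps.bwd (nat_lit 1) (Steps.bwd (nat_lit 2) (Steps.bwd (nat_lit 1) (Steps.bwd (nat_lit 6) (Steps.fwd (nat_lit 262144) (Steps.bwd (nat_lit 2) (Steps.bwd (nat_lit 1) Steps.nil))))))))))))) (nat_lit 34) (nat_lit 11),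
  Rule.mk (nat_lit 6) (nat_lit 274) (Steps.bwd (nat_lit 1) (Steps.fwd (nat_lit 524288) (Steps.fwd (nat_lit 1310720) (Steps.bwd (nat_lit 6) (Steps.fwd (nat_lit 262144) (Steps.bwd (nat_lit 6) (Steps.bwd (nat_lit 1) (Steps.fwd (nat_lit 524288) (Steps.bwd (nat_lit 1) (Steps.bwd (nat_lit 6) (Steps.fwd (nat_lit 262144) (Steps.bwd (nat_lit 3) (Steps.bwd (nat_lit 1) Steps.nil))))))))))))) (nat_lit 35) (nat_lit 12),
  Rule.mk (nat_lit 6) (nat_lit 274) (Steps.bwd (nat_lit 1) (Steps.fwd (nat_lit 524288) (Steps.bwd (nat_lit 5) (Steps.bwd (nat_lit 6) (Steps.fwd (nat_lit 262144) (Steps.fwd (nat_lit 1572864) (Steps.fwd (nat_lit 262144) (Steps.fwd (nat_lit 524288) (Steps.bwd (nat_lit 1) (Steps.fwd (nat_lit 1572864) (Steps.fwd (nat_lit 262144) (Steps.fwd (nat_lit 524288) (Steps.bwd (nat_lit 1) Steps.nil))))))))))))) (nat_lit 35) (nat_lit 12),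
  Rule.mk (nat_lit 6) (nat_lit 274) (Steps.bwd (nat_lit 1) (Steps.bwd (nat_lit 3) (Steps.bwd (nat_lit 1) (Steps.fwd (nat_lit 1572864) (Steps.fwd (nat_lit 262144) (Steps.fwd (nat_lit 524288) (Steps.bwd (nat_lit 1) (Steps.fwd (nat_lit 1572864) (Steps.bwd (nat_lit 1) (Steps.bwd (nat_lit 3) (Steps.bwd (nat_lit 5) (Steps.bwd (nat_lit 6) (Steps.fwd (nat_lit 262144) Steps.nil))))))))))))) (nat_lit 35) (nat_lit 4),
  Rule.mk (nat_lit 6) (nat_lit 274) (Steps.bwd (nat_lit 1) (Steps.bwd (nat_lit 6) (Steps.fwd (nat_lit 1310720) (Steps.fwd (nat_lit 786432) (Steps.fwd (nat_lit 262144) (Steps.bwd (nat_lit 6) (Steps.bwd (nat_lit 1) (Steps.bwd (nat_lit 2) (Steps.bwd (nat_lit 1) (Steps.bwd (nat_lit 6) (Steps.fwd (nat_lit 262144) (Steps.bwd (nat_lit 2) (Steps.bwd (nat_lit 1) Steps.nil))))))))))))) (nat_lit 34) (nat_lit 11),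
  Rule.mk (nat_lit 6) (nat_lit 274) (Steps.bwd (nat_lit 1) (Steps.fwd (nat_lit 1572864) (Steps.bwd (nat_lit 5) (Steps.fwd (nat_lit 786432) (Steps.fwd (nat_lit 262144) (Steps.fwd (nat_lit 1572864) (Steps.bwd (nat_lit 1) (Steps.bwd (nat_lit 2) (Steps.bwd (nat_lit 1) (Steps.fwd (nat_lit 1572864) (Steps.fwd (nat_lit 262144) (Steps.bwd (nat_lit 2) (Steps.bwd (nat_lit 1) Steps.nil))))))))))))) (nat_lit 34) (nat_lit 11),
  Rule.mk (nat_lit 6) (nat_lit 274) (Steps.bwd (nat_lit 1) (Steps.fwd (nat_lit 524288) (Steps.fwd (nat_lit 1310720) (Steps.bwd (nat_lit 6) (Steps.fwd (nat_lit 262144) (Steps.bwd (nat_lit 6) (Steps.bwd (nat_lit 1) (Steps.fwd (nat_lit 524288) (Steps.bwd (nat_lit 1) (Steps.fwd (nat_lit 1572864) (Steps.fwd (nat_lit 262144) (Steps.fwd (nat_lit 524288) (Steps.bwd (nat_lit 1) Steps.nil))))))))))))) (nat_lit 35) (nat_lit 12),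
  Rule.mk (nat_lit 6) (nat_lit 274) (Steps.bwd (nat_lit 1) (Steps.fwd (nat_lit 1572864) (Steps.bwd (nat_lit 5) (Steps.fwd (nat_lit 786432) (Steps.fwd (nat_lit 262144) (Steps.bwd (nat_lit 6) (Steps.bwd (nat_lit 1) (Steps.bwd (nat_lit 2) (Steps.bwd (nat_lit 1) (Steps.fwd (nat_lit 1572864) (Steps.fwd (nat_lit 262144) (Steps.bwd (nat_lit 2) (Steps.bwd (nat_lit 1) Steps.nil))))))))))))) (nat_lit 34) (nat_lit 11),
  Rule.mk (nat_lit 6) (nat_lit 274) (Steps.bwd (nat_lit 1) (Steps.bwd (nat_lit 2) (Steps.bwd (nat_lit 1) (Steps.fwd (nat_lit 1572864) (Steps.fwd (nat_lit 262144) (Steps.fwd (nat_lit 786432) (Steps.bwd (nat_lit 1) (Steps.fwd (nat_lit 1572864) (Steps.bwd (nat_lit 1) (Steps.bwd (nat_lit 6) (Steps.fwd (nat_lit 1310720) (Steps.bwd (nat_lit 2) (Steps.fwd (nat_lit 262144) Steps.nil))))))))))))) (nat_lit 34) (nat_lit 3),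
  Rule.mk (nat_lit 6) (nat_lit 94) (Steps.fwd (nat_lit 1310720) (Steps.bwd (nat_lit 6) (Steps.fwd (nat_lit 1310720) (Steps.bwd (nat_lit 7) Steps.nil)))) (nat_lit 24) (nat_lit 1),
  Rule.mk (nat_lit 6) (nat_lit 274) (Steps.bwd (nat_lit 1) (Steps.fwd (nat_lit 524288) (Steps.fwd (nat_lit 1310720) (Steps.bwd (nat_lit 6) (Steps.fwd (nat_lit 262144) (Steps.bwd (nat_lit 6) (Steps.fwd (nat_lit 262144) (Steps.bwd (nat_lit 3) (Steps.bwd (nat_lit 1) (Steps.fwd (nat_lit 1572864) (Steps.fwd (nat_lit 262144) (Steps.fwd (nat_lit 524288) (Steps.fwd (nat_lit 262144) Steps.nil))))))))))))) (nat_lit 35) (nat_lit 12),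
  Rule.mk (nat_lit 4) (nat_lit 114) (Steps.fwd (nat_lit 1310720) (Steps.bwd (nat_lit 7) (Steps.bwd (nat_lit 4) (Steps.fwd (nat_lit 1572864) (Steps.bwd (nat_lit 7) Steps.nil))))) (nat_lit 66) (nat_lit 1),
  Rule.mk (nat_lit 6) (nat_lit 274) (Steps.bwd (nat_lit 1) (Steps.bwd (nat_lit 6) (Steps.fwd (nat_lit 1310720) (Steps.fwd (nat_lit 786432) (Steps.bwd (nat_lit 1) (Steps.fwd (nat_lit 1572864) (Steps.bwd (nat_lit 1) (Steps.fwd (nat_lit 786432) (Steps.fwd (nat_lit 262144) (Steps.bwd (nat_lit 6) (Steps.bwd (nat_lit 1) (Steps.fwd (nat_lit 786432) (Steps.fwd (nat_lit 262144) Steps.nil))))))))))))) (nat_lit 34) (nat_lit 11),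
  Rule.mk (nat_lit 1) (nat_lit 274) (Steps.bwd (nat_lit 6) (Steps.fwd (nat_lit 1310720) (Steps.fwd (nat_lit 786432) (Steps.fwd (nat_lit 262144) (Steps.bwd (nat_lit 6) (Steps.fwd (nat_lit 262144) (Steps.fwd (nat_lit 786432) (Steps.fwd (nat_lit 262144) (Steps.fwd (nat_lit 1572864) (Steps.fwd (nat_lit 262144) (Steps.bwd (nat_lit 2) (Steps.fwd (nat_lit 262144) (Steps.fwd (nat_lit 1572864) Steps.nil))))))))))))) (nat_lit 34) (nat_lit 12),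
  Rule.mk (nat_lit 6) (nat_lit 274) (Steps.bwd (nat_lit 1) (Steps.fwd (nat_lit 524288) (Steps.bwd (nat_lit 5) (Steps.fwd (nat_lit 1572864) (Steps.fwd (nat_lit 262144) (Steps.bwd (nat_lit 6) (Steps.bwd (nat_lit 1) (Steps.fwd (nat_lit 524288) (Steps.bwd (nat_lit 1) (Steps.fwd (nat_lit 1572864) (Steps.fwd (nat_lit 262144) (Steps.fwd (nat_lit 524288) (Steps.bwd (nat_lit 1) Steps.nil))))))))))))) (nat_lit 35) (nat_lit 12),
  Rule.mk (nat_lit 6) (nat_lit 274) (Steps.bwd (nat_lit 1) (Steps.fwd (nat_lit 524288) (Steps.fwd (nat_lit 1310720) (Steps.bwd (nat_lit 6) (Steps.fwd (nat_lit 262144) (Steps.fwd (nat_lit 1572864) (Steps.bwd (nat_lit 1) (Steps.fwd (nat_lit 524288) (Steps.bwd (nat_lit 1) (Steps.fwd (nat_lit 1572864) (Steps.fwd (nat_lit 262144) (Steps.fwd (nat_lit 524288) (Steps.bwd (nat_lit 1) Steps.nil))))))))))))) (nat_lit 35) (nat_lit 12),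
  Rule.mk (nat_lit 6) (nat_lit 274) (Steps.bwd (nat_lit 1) (Steps.bwd (nat_lit 3) (Steps.bwd (nat_lit 1) (Steps.fwd (nat_lit 1572864) (Steps.fwd (nat_lit 262144) (Steps.fwd (nat_lit 524288) (Steps.bwd (nat_lit 1) (Steps.fwd (nat_lit 1572864) (Steps.bwd (nat_lit 1) (Steps.bwd (nat_lit 3) (Steps.fwd (nat_lit 1310720) (Steps.bwd (nat_lit 6) (Steps.fwd (nat_lit 262144) Steps.nil))))))))))))) (nat_lit 35) (nat_lit 4),
  Rule.mk (nat_lit 4) (nat_lit 114) (Steps.bwd (nat_lit 7) (Steps.fwd (nat_lit 1572864) (Steps.fwd (nat_lit 1048576) (Steps.fwd (nat_lit 1835008) (Steps.bwd (nat_lit 5) Steps.nil))))) (nat_lit 67) (nat_lit 0),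
  Rule.mk (nat_lit 6) (nat_lit 274) (Steps.bwd (nat_lit 1) (Steps.fwd (nat_lit 1572864) (Steps.bwd (nat_lit 5) (Steps.fwd (nat_lit 786432) (Steps.fwd (nat_lit 262144) (Steps.bwd (nat_lit 6) (Steps.bwd (nat_lit 1) (Steps.bwd (nat_lit 2) (Steps.bwd (nat_lit 1) (Steps.bwd (nat_lit 6) (Steps.fwd (nat_lit 262144) (Steps.bwd (nat_lit 2) (Steps.bwd (nat_lit 1) Steps.nil))))))))))))) (nat_lit 34) (nat_lit 11),
  Rule.mk (nat_lit 6) (nat_lit 274) (Steps.bwd (nat_lit 1) (Steps.bwd (nat_lit 2) (Steps.bwd (nat_lit 1) (Steps.fwd (nat_lit 1572864) (Steps.fwd (nat_lit 262144) (Steps.fwd (nat_lit 786432) (Steps.bwd (nat_lit 1) (Steps.fwd (nat_lit 1572864) (Steps.bwd (nat_lit 1) (Steps.fwd (nat_lit 1572864) (Steps.fwd (nat_lit 1310720) (Steps.bwd (nat_lit 2) (Steps.fwd (nat_lit 262144) Steps.nil))))))))))))) (nat_lit 34) (nat_lit 3),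
  Rule.mk (nat_lit 6) (nat_lit 274) (Steps.bwd (nat_lit 1) (Steps.fwd (nat_lit 786432) (Steps.bwd (nat_lit 1) (Steps.fwd (nat_lit 1572864) (Steps.bwd (nat_lit 1) (Steps.fwd (nat_lit 786432) (Steps.fwd (nat_lit 262144) (Steps.fwd (nat_lit 1572864) (Steps.bwd (nat_lit 1) (Steps.fwd (nat_lit 1572864) (Steps.fwd (nat_lit 1310720) (Steps.fwd (nat_lit 786432) (Steps.fwd (nat_lit 262144) Steps.nil))))))))))))) (nat_lit 34) (nat_lit 3),
  Rule.mk (nat_lit 1) (nat_lit 274) (Steps.bwd (nat_lit 6) (Steps.fwd (nat_lit 1310720) (Steps.bwd (nat_lit 2) (Steps.bwd (nat_lit 1) (Steps.bwd (nat_lit 6) (Steps.fwd (nat_lit 262144) (Steps.bwd (nat_lit 2) (Steps.fwd (nat_lit 262144) (Steps.bwd (nat_lit 6) (Steps.fwd (nat_lit 262144) (Steps.bwd (nat_lit 2) (Steps.fwd (nat_lit 262144) (Steps.bwd (nat_lit 6) Steps.nil))))))))))))) (nat_lit 34) (nat_lit 12),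
  Rule.mk (nat_lit 6) (nat_lit 274) (Steps.bwd (nat_lit 1) (Steps.fwd (nat_lit 524288) (Steps.bwd (nat_lit 5) (Steps.fwd (nat_lit 1572864) (Steps.fwd (nat_lit 262144) (Steps.bwd (nat_lit 6) (Steps.fwd (nat_lit 262144) (Steps.fwd (nat_lit 524288) (Steps.bwd (nat_lit 1) (Steps.bwd (nat_lit 6) (Steps.fwd (nat_lit 262144) (Steps.bwd (nat_lit 3) (Steps.bwd (nat_lit 1) Steps.nil))))))))))))) (nat_lit 35) (nat_lit 12),
  Rule.mk (nat_lit 6) (nat_lit 274) (Steps.bwd (nat_lit 1) (Steps.bwd (nat_lit 3) (Steps.bwd (nat_lit 1) (Steps.fwd (nat_lit 1572864) (Steps.bwd (nat_lit 1) (Steps.fwd (nat_lit 524288) (Steps.bwd (nat_lit 1) (Steps.fwd (nat_lit 1572864) (Steps.bwd (nat_lit 1) (Steps.bwd (nat_lit 3) (Steps.bwd (nat_lit 5) (Steps.fwd (nat_lit 1572864) (Steps.fwd (nat_lit 262144) Steps.nil))))))))))))) (nat_lit 35) (nat_lit 4),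
  Rule.mk (nat_lit 6) (nat_lit 274) (Steps.bwd (nat_lit 1) (Steps.bwd (nat_lit 6) (Steps.bwd (nat_lit 5) (Steps.fwd (nat_lit 786432) (Steps.fwd (nat_lit 262144) (Steps.bwd (nat_lit 6) (Steps.bwd (nat_lit 1) (Steps.fwd (nat_lit 786432) (Steps.bwd (nat_lit 1) (Steps.fwd (nat_lit 1572864) (Steps.fwd (nat_lit 262144) (Steps.bwd (nat_lit 2) (Steps.bwd (nat_lit 1) Steps.nil))))))))))))) (nat_lit 34) (nat_lit 11),
  Rule.mk (nat_lit 1) (nat_lit 274) (Steps.bwd (nat_lit 6) (Steps.bwd (nat_lit 1) (Steps.bwd (nat_lit 2) (Steps.fwd (nat_lit 262144) (Steps.fwd (nat_lit 1572864) (Steps.fwd (nat_lit 262144) (Steps.bwd (nat_lit 6) (Steps.bwd (nat_lit 5) (Steps.bwd (nat_lit 2) (Steps.bwd (nat_lit 1) (Steps.fwd (nat_lit 1572864) (Steps.fwd (nat_lit 262144) (Steps.bwd (nat_lit 2) Steps.nil))))))))))))) (nat_lit 34) (nat_lit 6),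
  Rule.mk (nat_lit 3) (nat_lit 154) (Steps.bwd (nat_lit 1) (Steps.bwd (nat_lit 2) (Steps.fwd (nat_lit 262144) (Steps.fwd (nat_lit 524288) (Steps.fwd (nat_lit 262144) (Steps.bwd (nat_lit 2) (Steps.bwd (nat_lit 1) Steps.nil))))))) (nat_lit 68) (nat_lit 0),
  Rule.mk (nat_lit 4) (nat_lit 114) (Steps.bwd (nat_lit 1) (Steps.bwd (nat_lit 4) (Steps.bwd (nat_lit 1) (Steps.bwd (nat_lit 4) (Steps.bwd (nat_lit 1) Steps.nil))))) (nat_lit 16) (nat_lit 0),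
  Rule.mk (nat_lit 6) (nat_lit 274) (Steps.bwd (nat_lit 1) (Steps.fwd (nat_lit 786432) (Steps.fwd (nat_lit 262144) (Steps.bwd (nat_lit 6) (Steps.fwd (nat_lit 262144) (Steps.fwd (nat_lit 786432) (Steps.bwd (nat_lit 1) (Steps.bwd (nat_lit 6) (Steps.fwd (nat_lit 262144) (Steps.fwd (nat_lit 1572864) (Steps.bwd (nat_lit 5) (Steps.fwd (nat_lit 786432) (Steps.fwd (nat_lit 262144) Steps.nil))))))))))))) (nat_lit 34) (nat_lit 3),
  Rule.mk (nat_lit 6) (nat_lit 274) (Steps.bwd (nat_lit 1) (Steps.bwd (nat_lit 6) (Steps.bwd (nat_lit 5) (Steps.fwd (nat_lit 786432) (Steps.fwd (nat_lit 262144) (Steps.bwd (nat_lit 6) (Steps.fwd (nat_lit 262144) (Steps.bwd (nat_lit 2) (Steps.bwd (nat_lit 1) (Steps.fwd (nat_lit 1572864) (Steps.fwd (nat_lit 262144) (Steps.bwd (nat_lit 2) (Steps.fwd (nat_lit 262144) Steps.nil))))))))))))) (nat_lit 34) (nat_lit 11),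
  Rule.mk (nat_lit 8) (nat_lit 94) (Steps.bwd (nat_lit 5) (Steps.bwd (nat_lit 9) (Steps.fwd (nat_lit 1835008) (Steps.fwd (nat_lit 1310720) Steps.nil)))) (nat_lit 101) (nat_lit 3),
  Rule.mk (nat_lit 1) (nat_lit 274) (Steps.fwd (nat_lit 786432) (Steps.bwd (nat_lit 1) (Steps.bwd (nat_lit 6) (Steps.fwd (nat_lit 262144) (Steps.bwd (nat_lit 6) (Steps.bwd (nat_lit 5) (Steps.fwd (nat_lit 786432) (Steps.bwd (nat_lit 1) (Steps.bwd (nat_lit 6) (Steps.bwd (nat_lit 1) (Steps.fwd (nat_lit 786432) (Steps.fwd (nat_lit 262144) (Steps.bwd (nat_lit 6) Steps.nil))))))))))))) (nat_lit 34) (nat_lit 8),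
  Rule.mk (nat_lit 6) (nat_lit 274) (Steps.bwd (nat_lit 1) (Steps.bwd (nat_lit 2) (Steps.fwd (nat_lit 262144) (Steps.fwd (nat_lit 1572864) (Steps.fwd (nat_lit 262144) (Steps.fwd (nat_lit 786432) (Steps.fwd (nat_lit 262144) (Steps.fwd (nat_lit 1572864) (Steps.bwd (nat_lit 1) (Steps.fwd (nat_lit 1572864) (Steps.bwd (nat_lit 5) (Steps.fwd (nat_lit 786432) (Steps.fwd (nat_lit 262144) Steps.nil))))))))))))) (nat_lit 34) (nat_lit 3),
  Rule.mk (nat_lit 6) (nat_lit 274) (Steps.bwd (nat_lit 1) (Steps.fwd (nat_lit 524288) (Steps.bwd (nat_lit 5) (Steps.bwd (nat_lit 6) (Steps.fwd (nat_lit 262144) (Steps.bwd (nat_lit 6) (Steps.fwd (nat_lit 262144) (Steps.fwd (nat_lit 524288) (Steps.bwd (nat_lit 1) (Steps.fwd (nat_lit 1572864) (Steps.fwd (nat_lit 262144) (Steps.fwd (nat_lit 524288) (Steps.bwd (nat_lit 1) Steps.nil))))))))))))) (nat_lit 35) (nat_lit 12),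
  Rule.mk (nat_lit 6) (nat_lit 274) (Steps.bwd (nat_lit 1) (Steps.bwd (nat_lit 6) (Steps.bwd (nat_lit 5) (Steps.fwd (nat_lit 786432) (Steps.fwd (nat_lit 262144) (Steps.bwd (nat_lit 6) (Steps.fwd (nat_lit 262144) (Steps.bwd (nat_lit 2) (Steps.bwd (nat_lit 1) (Steps.bwd (nat_lit 6) (Steps.fwd (nat_lit 262144) (Steps.fwd (nat_lit 786432) (Steps.bwd (nat_lit 1) Steps.nil))))))))))))) (nat_lit 34) (nat_lit 11),
  Rule.mk (nat_lit 1) (nat_lit 274) (Steps.bwd (nat_lit 6) (Steps.bwd (nat_lit 1) (Steps.bwd (nat_lit 3) (Steps.fwd (nat_lit 262144) (Steps.fwd (nat_lit 1572864) (Steps.bwd (nat_lit 1) (Steps.fwd (nat_lit 524288) (Steps.fwd (nat_lit 1310720) (Steps.fwd (nat_lit 1572864) (Steps.fwd (nat_lit 262144) (Steps.fwd (nat_lit 1572864) (Steps.fwd (nat_lit 262144) (Steps.fwd (nat_lit 524288) Steps.nil))))))))))))) (nat_lit 35) (nat_lit 7),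
  Rule.mk (nat_lit 1) (nat_lit 114) (Steps.fwd (nat_lit 1835008) (Steps.fwd (nat_lit 1310720) (Steps.bwd (nat_lit 1) (Steps.fwd (nat_lit 1835008) (Steps.fwd (nat_lit 1310720) Steps.nil))))) (nat_lit 53) (nat_lit 0),
  Rule.mk (nat_lit 6) (nat_lit 274) (Steps.bwd (nat_lit 1) (Steps.bwd (nat_lit 6) (Steps.fwd (nat_lit 1310720) (Steps.fwd (nat_lit 786432) (Steps.fwd (nat_lit 262144) (Steps.fwd (nat_lit 1572864) (Steps.fwd (nat_lit 262144) (Steps.fwd (nat_lit 786432) (Steps.bwd (nat_lit 1) (Steps.fwd (nat_lit 1572864) (Steps.fwd (nat_lit 262144) (Steps.bwd (nat_lit 2) (Steps.fwd (nat_lit 262144) Steps.nil))))))))))))) (nat_lit 34) (nat_lit 11),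
  Rule.mk (nat_lit 8) (nat_lit 94) (Steps.bwd (nat_lit 5) (Steps.bwd (nat_lit 9) (Steps.fwd (nat_lit 1835008) (Steps.bwd (nat_lit 5) Steps.nil)))) (nat_lit 101) (nat_lit 3),
  Rule.mk (nat_lit 6) (nat_lit 274) (Steps.bwd (nat_lit 1) (Steps.bwd (nat_lit 2) (Steps.fwd (nat_lit 262144) (Steps.fwd (nat_lit 1572864) (Steps.fwd (nat_lit 262144) (Steps.fwd (nat_lit 786432) (Steps.fwd (nat_lit 262144) (Steps.fwd (nat_lit 1572864) (Steps.bwd (nat_lit 1) (Steps.bwd (nat_lit 6) (Steps.bwd (nat_lit 5) (Steps.fwd (nat_lit 786432) (Steps.fwd (nat_lit 262144) Steps.nil))))))))))))) (nat_lit 34) (nat_lit 3),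
  Rule.mk (nat_lit 6) (nat_lit 274) (Steps.bwd (nat_lit 1) (Steps.fwd (nat_lit 1572864) (Steps.bwd (nat_lit 5) (Steps.bwd (nat_lit 2) (Steps.fwd (nat_lit 262144) (Steps.bwd (nat_lit 6) (Steps.fwd (nat_lit 262144) (Steps.bwd (nat_lit 2) (Steps.fwd (nat_lit 262144) (Steps.fwd (nat_lit 1572864) (Steps.fwd (nat_lit 262144) (Steps.fwd (nat_lit 786432) (Steps.fwd (nat_lit 262144) Steps.nil))))))))))))) (nat_lit 34) (nat_lit 11),
  Rule.mk (nat_lit 6) (nat_lit 274) (Steps.bwd (nat_lit 1) (Steps.bwd (nat_lit 3) (Steps.bwd (nat_lit 5) (Steps.fwd (nat_lit 1572864) (Steps.fwd (nat_lit 262144) (Steps.bwd (nat_lit 6) (Steps.bwd (nat_lit 1) (Steps.fwd (nat_lit 524288) (Steps.bwd (nat_lit 1) (Steps.bwd (nat_lit 6) (Steps.fwd (nat_lit 262144) (Steps.fwd (nat_lit 524288) (Steps.bwd (nat_lit 1) Steps.nil))))))))))))) (nat_lit 35) (nat_lit 12),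
  Rule.mk (nat_lit 1) (nat_lit 274) (Steps.bwd (nat_lit 6) (Steps.bwd (nat_lit 1) (Steps.bwd (nat_lit 3) (Steps.fwd (nat_lit 262144) (Steps.fwd (nat_lit 1572864) (Steps.bwd (nat_lit 1) (Steps.fwd (nat_lit 524288) (Steps.bwd (nat_lit 5) (Steps.fwd (nat_lit 1572864) (Steps.fwd (nat_lit 262144) (Steps.fwd (nat_lit 1572864) (Steps.fwd (nat_lit 262144) (Steps.fwd (nat_lit 524288) Steps.nil))))))))))))) (nat_lit 35) (nat_lit 7),
  Rule.mk (nat_lit 6) (nat_lit 274) (Steps.bwd (nat_lit 1) (Steps.bwd (nat_lit 6) (Steps.bwd (nat_lit 5) (Steps.fwd (nat_lit 786432) (Steps.fwd (nat_lit 262144) (Steps.fwd (nat_lit 1572864) (Steps.fwd (nat_lit 262144) (Steps.fwd (nat_lit 786432) (Steps.bwd (nat_lit 1) (Steps.bwd (nat_lit 6) (Steps.fwd (nat_lit 262144) (Steps.bwd (nat_lit 2) (Steps.fwd (nat_lit 262144) Steps.nil))))))))))))) (nat_lit 34) (nat_lit 11),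
  Rule.mk (nat_lit 1) (nat_lit 154) (Steps.bwd (nat_lit 4) (Steps.bwd (nat_lit 1) (Steps.fwd (nat_lit 1572864) (Steps.bwd (nat_lit 1) (Steps.bwd (nat_lit 4) (Steps.fwd (nat_lit 262144) (Steps.bwd (nat_lit 6) Steps.nil))))))) (nat_lit 74) (nat_lit 1),
  Rule.mk (nat_lit 6) (nat_lit 274) (Steps.bwd (nat_lit 1) (Steps.fwd (nat_lit 786432) (Steps.fwd (nat_lit 262144) (Steps.bwd (nat_lit 6) (Steps.bwd (nat_lit 1) (Steps.fwd (nat_lit 786432) (Steps.bwd (nat_lit 1) (Steps.fwd (nat_lit 1572864) (Steps.fwd (nat_lit 262144) (Steps.bwd (nat_lit 6) (Steps.bwd (nat_lit 5) (Steps.fwd (nat_lit 786432) (Steps.fwd (nat_lit 262144) Steps.nil))))))))))))) (nat_lit 34) (nat_lit 3),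
  Rule.mk (nat_lit 6) (nat_lit 274) (Steps.bwd (nat_lit 1) (Steps.bwd (nat_lit 6) (Steps.fwd (nat_lit 1310720) (Steps.fwd (nat_lit 786432) (Steps.fwd (nat_lit 262144) (Steps.bwd (nat_lit 6) (Steps.bwd (nat_lit 1) (Steps.fwd (nat_lit 786432) (Steps.bwd (nat_lit 1) (Steps.bwd (nat_lit 6) (Steps.fwd (nat_lit 262144) (Steps.bwd (nat_lit 2) (Steps.bwd (nat_lit 1) Steps.nil))))))))))))) (nat_lit 34) (nat_lit 11),
  Rule.mk (nat_lit 1) (nat_lit 274) (Steps.bwd (nat_lit 3) (Steps.fwd (nat_lit 1310720) (Steps.bwd (nat_lit 6) (Steps.bwd (nat_lit 1) (Steps.fwd (nat_lit 1572864) (Steps.fwd (nat_lit 262144) (Steps.fwd (nat_lit 524288) (Steps.bwd (nat_lit 1) (Steps.fwd (nat_lit 1572864) (Steps.bwd (nat_lit 1) (Steps.bwd (nat_lit 3) (Steps.fwd (nat_lit 262144) (Steps.bwd (nat_lit 6) Steps.nil))))))))))))) (nat_lit 35) (nat_lit 13),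
  Rule.mk (nat_lit 6) (nat_lit 274) (Steps.bwd (nat_lit 1) (Steps.bwd (nat_lit 3) (Steps.fwd (nat_lit 1310720) (Steps.fwd (nat_lit 1572864) (Steps.fwd (nat_lit 262144) (Steps.fwd (nat_lit 1572864) (Steps.fwd (nat_lit 262144) (Steps.bwd (nat_lit 3) (Steps.bwd (nat_lit 1) (Steps.bwd (nat_lit 6) (Steps.fwd (nat_lit 262144) (Steps.fwd (nat_lit 524288) (Steps.bwd (nat_lit 1) Steps.nil))))))))))))) (nat_lit 35) (nat_lit 12),
  Rule.mk (nat_lit 1) (nat_lit 274) (Steps.bwd (nat_lit 6) (Steps.bwd (nat_lit 1) (Steps.bwd (nat_lit 2) (Steps.fwd (nat_lit 262144) (Steps.fwd (nat_lit 1572864) (Steps.bwd (nat_lit 1) (Steps.bwd (nat_lit 6) (Steps.fwd (nat_lit 1310720) (Steps.bwd (nat_lit 2) (Steps.bwd (nat_lit 1) (Steps.fwd (nat_lit 1572864) (Steps.fwd (nat_lit 262144) (Steps.bwd (nat_lit 2) Steps.nil))))))))))))) (nat_lit 34) (nat_lit 6),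
  Rule.mk (nat_lit 6) (nat_lit 274) (Steps.bwd (nat_lit 1) (Steps.bwd (nat_lit 6) (Steps.fwd (nat_lit 1310720) (Steps.bwd (nat_lit 2) (Steps.fwd (nat_lit 262144) (Steps.fwd (nat_lit 1572864) (Steps.fwd (nat_lit 262144) (Steps.fwd (nat_lit 786432) (Steps.fwd (nat_lit 262144) (Steps.fwd (nat_lit 1572864) (Steps.bwd (nat_lit 1) (Steps.bwd (nat_lit 2) (Steps.fwd (nat_lit 262144) Steps.nil))))))))))))) (nat_lit 34) (nat_lit 11),
  Rule.mk (nat_lit 6) (nat_lit 274) (Steps.bwd (nat_lit 1) (Steps.bwd (nat_lit 6) (Steps.fwd (nat_lit 1310720) (Steps.bwd (nat_lit 2) (Steps.fwd (nat_lit 262144) (Steps.bwd (nat_lit 6) (Steps.bwd (nat_lit 1) (Steps.bwd (nat_lit 2) (Steps.bwd (nat_lit 1) (Steps.bwd (nat_lit 6) (Steps.fwd (nat_lit 262144) (Steps.fwd (nat_lit 786432) (Steps.bwd (nat_lit 1) Steps.nil))))))))))))) (nat_lit 34) (nat_lit 11),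
  Rule.mk (nat_lit 1) (nat_lit 274) (Steps.bwd (nat_lit 6) (Steps.fwd (nat_lit 1310720) (Steps.bwd (nat_lit 2) (Steps.bwd (nat_lit 1) (Steps.fwd (nat_lit 1572864) (Steps.bwd (nat_lit 1) (Steps.bwd (nat_lit 2) (Steps.fwd (nat_lit 262144) (Steps.fwd (nat_lit 1572864) (Steps.bwd (nat_lit 1) (Steps.bwd (nat_lit 2) (Steps.fwd (nat_lit 262144) (Steps.bwd (nat_lit 6) Steps.nil))))))))))))) (nat_lit 34) (nat_lit 12),
  Rule.mk (nat_lit 1) (nat_lit 154) (Steps.bwd (nat_lit 4) (Steps.bwd (nat_lit 1) (Steps.bwd (nat_lit 6) (Steps.fwd (nat_lit 262144) (Steps.bwd (nat_lit 4) (Steps.fwd (nat_lit 262144) (Steps.bwd (nat_lit 6) Steps.nil))))))) (nat_lit 74) (nat_lit 1),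
  Rule.mk (nat_lit 1) (nat_lit 154) (Steps.bwd (nat_lit 4) (Steps.bwd (nat_lit 1) (Steps.fwd (nat_lit 1572864) (Steps.fwd (nat_lit 262144) (Steps.fwd (nat_lit 1048576) (Steps.fwd (nat_lit 262144) (Steps.bwd (nat_lit 6) Steps.nil))))))) (nat_lit 74) (nat_lit 1),
  Rule.mk (nat_lit 6) (nat_lit 274) (Steps.bwd (nat_lit 1) (Steps.fwd (nat_lit 524288) (Steps.fwd (nat_lit 1310720) (Steps.bwd (nat_lit 6) (Steps.fwd (nat_lit 262144) (Steps.bwd (nat_lit 6) (Steps.fwd (nat_lit 262144) (Steps.fwd (nat_lit 524288) (Steps.bwd (nat_lit 1) (Steps.fwd (nat_lit 1572864) (Steps.fwd (nat_lit 262144) (Steps.bwd (nat_lit 3) (Steps.fwd (nat_lit 262144) Steps.nil))))))))))))) (nat_lit 35) (nat_lit 12),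
  Rule.mk (nat_lit 6) (nat_lit 274) (Steps.bwd (nat_lit 1) (Steps.fwd (nat_lit 524288) (Steps.fwd (nat_lit 262144) (Steps.bwd (nat_lit 6) (Steps.fwd (nat_lit 262144) (Steps.fwd (nat_lit 524288) (Steps.bwd (nat_lit 1) (Steps.bwd (nat_lit 6) (Steps.fwd (nat_lit 262144) (Steps.bwd (nat_lit 3) (Steps.fwd (nat_lit 1310720) (Steps.bwd (nat_lit 6) (Steps.bwd (nat_lit 1) Steps.nil))))))))))))) (nat_lit 35) (nat_lit 4),
  Rule.mk (nat_lit 6) (nat_lit 274) (Steps.bwd (nat_lit 1) (Steps.fwd (nat_lit 1572864) (Steps.bwd (nat_lit 5) (Steps.bwd (nat_lit 2) (Steps.fwd (nat_lit 262144) (Steps.bwd (nat_lit 6) (Steps.bwd (nat_lit 1) (Steps.bwd (nat_lit 2) (Steps.bwd (nat_lit 1) (Steps.bwd (nat_lit 6) (Steps.fwd (nat_lit 262144) (Steps.fwd (nat_lit 786432) (Steps.bwd (nat_lit 1) Steps.nil))))))))))))) (nat_lit 34) (nat_lit 11),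
  Rule.mk (nat_lit 1) (nat_lit 154) (Steps.bwd (nat_lit 4) (Steps.bwd (nat_lit 1) (Steps.bwd (nat_lit 6) (Steps.bwd (nat_lit 1) (Steps.bwd (nat_lit 4) (Steps.bwd (nat_lit 1) (Steps.bwd (nat_lit 6) Steps.nil))))))) (nat_lit 74) (nat_lit 1),
  Rule.mk (nat_lit 1) (nat_lit 154) (Steps.fwd (nat_lit 524288) (Steps.bwd (nat_lit 1) (Steps.bwd (nat_lit 5) (Steps.bwd (nat_lit 3) (Steps.fwd (nat_lit 262144) (Steps.fwd (nat_lit 524288) (Steps.bwd (nat_lit 5) Steps.nil))))))) (nat_lit 71) (nat_lit 6),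
  Rule.mk (nat_lit 6) (nat_lit 274) (Steps.bwd (nat_lit 1) (Steps.bwd (nat_lit 6) (Steps.fwd (nat_lit 1310720) (Steps.fwd (nat_lit 786432) (Steps.fwd (nat_lit 262144) (Steps.bwd (nat_lit 6) (Steps.fwd (nat_lit 262144) (Steps.bwd (nat_lit 2) (Steps.bwd (nat_lit 1) (Steps.bwd (nat_lit 6) (Steps.fwd (nat_lit 262144) (Steps.bwd (nat_lit 2) (Steps.fwd (nat_lit 262144) Steps.nil))))))))))))) (nat_lit 34) (nat_lit 11)]
noncomputable def R_27 : List (Rule) := [Rule.mk (nat_lit 6) (nat_lit 274) (Steps.bwd (nat_lit 1) (Steps.fwd (nat_lit 1572864) (Steps.bwd (nat_lit 5) (Steps.fwd (nat_lit 786432) (Steps.fwd (nat_lit 262144) (Steps.fwd (nat_lit 1572864) (Steps.fwd (nat_lit 262144) (Steps.bwd (nat_lit 2) (Steps.bwd (nat_lit 1) (Steps.bwd (nat_lit 6) (Steps.fwd (nat_lit 262144) (Steps.fwd (nat_lit 786432) (Steps.bwd (nat_lit 1) Steps.nil))))))))))))) (nat_lit 34) (nat_lit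 11),
  Rule.mk (nat_lit 1) (nat_lit 114) (Steps.fwd (nat_lit 1835008) (Steps.bwd (nat_lit 5) (Steps.bwd (nat_lit 1) (Steps.fwd (nat_lit 1835008) (Steps.bwd (nat_lit 5) Steps.nil))))) (nat_lit 53) (nat_lit 0),
  Rule.mk (nat_lit 6) (nat_lit 274) (Steps.bwd (nat_lit 1) (Steps.fwd (nat_lit 786432) (Steps.fwd (nat_lit 262144) (Steps.fwd (nat_lit 1572864) (Steps.fwd (nat_lit 262144) (Steps.fwd (nat_lit 786432) (Steps.bwd (nat_lit 1) (Steps.fwd (nat_lit 1572864) (Steps.fwd (nat_lit 262144) (Steps.fwd (nat_lit 1572864) (Steps.fwd (nat_lit 1310720) (Steps.fwd (nat_lit 786432) (Steps.fwd (nat_lit 262144) Steps.nil))))))))))))) (nat_lit 34) (nat_lit 3),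
  Rule.mk (nat_lit 6) (nat_lit 274) (Steps.bwd (nat_lit 1) (Steps.fwd (nat_lit 1572864) (Steps.fwd (nat_lit 1310720) (Steps.fwd (nat_lit 786432) (Steps.fwd (nat_lit 262144) (Steps.fwd (nat_lit 1572864) (Steps.fwd (nat_lit 262144) (Steps.fwd (nat_lit 786432) (Steps.bwd (nat_lit 1) (Steps.bwd (nat_lit 6) (Steps.fwd (nat_lit 262144) (Steps.bwd (nat_lit 2) (Steps.fwd (nat_lit 262144) Steps.nil))))))))))))) (nat_lit 34) (nat_lit 11),
  Rule.mk (nat_lit 6) (nat_lit 274) (Steps.bwd (nat_lit 1) (Steps.fwd (nat_lit 786432) (Steps.fwd (nat_lit 262144) (Steps.bwd (nat_lit 6) (Steps.fwd (nat_lit 262144) (Steps.bwd (nat_lit 2) (Steps.bwd (nat_lit 1) (Steps.fwd (nat_lit 1572864) (Steps.fwd (nat_lit 262144) (Steps.fwd (nat_lit 1572864) (Steps.bwd (nat_lit 5) (Steps.fwd (nat_lit 786432) (Steps.fwd (nat_lit 262144) Steps.nil))))))))))))) (nat_lit 34) (nat_lit 3),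
  Rule.mk (nat_lit 6) (nat_lit 274) (Steps.bwd (nat_lit 1) (Steps.fwd (nat_lit 1572864) (Steps.fwd (nat_lit 1310720) (Steps.fwd (nat_lit 786432) (Steps.fwd (nat_lit 262144) (Steps.bwd (nat_lit 6) (Steps.fwd (nat_lit 262144) (Steps.fwd (nat_lit 786432) (Steps.bwd (nat_lit 1) (Steps.bwd (nat_lit 6) (Steps.fwd (nat_lit 262144) (Steps.bwd (nat_lit 2) (Steps.fwd (nat_lit 262144) Steps.nil))))))))))))) (nat_lit 34) (nat_lit 11),
  Rule.mk (nat_lit 1) (nat_lit 274) (Steps.fwd (nat_lit 786432) (Steps.bwd (nat_lit 1) (Steps.fwd (nat_lit 1572864) (Steps.fwd (nat_lit 262144) (Steps.bwd (nat_lit 6) (Steps.bwd (nat_lit 5) (Steps.fwd (nat_lit 786432) (Steps.fwd (nat_lit 262144) (Steps.bwd (nat_lit 6) (Steps.bwd (nat_lit 1) (Steps.fwd (nat_lit 786432) (Steps.fwd (nat_lit 262144) (Steps.bwd (nat_lit 6) Steps.nil))))))))))))) (nat_lit 34) (nat_lit 8),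
  Rule.mk (nat_lit 6) (nat_lit 274) (Steps.bwd (nat_lit 1) (Steps.fwd (nat_lit 786432) (Steps.fwd (nat_lit 262144) (Steps.fwd (nat_lit 1572864) (Steps.fwd (nat_lit 262144) (Steps.fwd (nat_lit 786432) (Steps.bwd (nat_lit 1) (Steps.bwd (nat_lit 6) (Steps.fwd (nat_lit 262144) (Steps.bwd (nat_lit 6) (Steps.fwd (nat_lit 1310720) (Steps.fwd (nat_lit 786432) (Steps.fwd (nat_lit 262144) Steps.nil))))))))))))) (nat_lit 34) (nat_lit 3),
  Rule.mk (nat_lit 6) (nat_lit 274) (Steps.bwd (nat_lit 1) (Steps.fwd (nat_lit 1572864) (Steps.bwd (nat_lit 5) (Steps.fwd (nat_lit 786432) (Steps.fwd (nat_lit 262144) (Steps.fwd (nat_lit 1572864) (Steps.fwd (nat_lit 262144) (Steps.fwd (nat_lit 786432) (Steps.bwd (nat_lit 1) (Steps.fwd (nat_lit 1572864) (Steps.fwd (nat_lit 262144) (Steps.bwd (nat_lit 2) (Steps.fwd (nat_lit 262144) Steps.nil))))))))))))) (nat_lit 34) (nat_lit 11),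
  Rule.mk (nat_lit 1) (nat_lit 154) (Steps.bwd (nat_lit 4) (Steps.fwd (nat_lit 262144) (Steps.bwd (nat_lit 6) (Steps.fwd (nat_lit 262144) (Steps.bwd (nat_lit 4) (Steps.fwd (nat_lit 262144) (Steps.bwd (nat_lit 6) Steps.nil))))))) (nat_lit 74) (nat_lit 1),
  Rule.mk (nat_lit 1) (nat_lit 154) (Steps.fwd (nat_lit 524288) (Steps.bwd (nat_lit 1) (Steps.fwd (nat_lit 1310720) (Steps.fwd (nat_lit 524288) (Steps.fwd (nat_lit 262144) (Steps.bwd (nat_lit 3) (Steps.fwd (nat_lit 1310720) Steps.nil))))))) (nat_lit 71) (nat_lit 6),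
  Rule.mk (nat_lit 1) (nat_lit 154) (Steps.fwd (nat_lit 524288) (Steps.bwd (nat_lit 1) (Steps.fwd (nat_lit 1835008) (Steps.fwd (nat_lit 524288) (Steps.fwd (nat_lit 262144) (Steps.bwd (nat_lit 3) (Steps.fwd (nat_lit 1835008) Steps.nil))))))) (nat_lit 73) (nat_lit 6),
  Rule.mk (nat_lit 6) (nat_lit 274) (Steps.bwd (nat_lit 1) (Steps.bwd (nat_lit 2) (Steps.fwd (nat_lit 262144) (Steps.fwd (nat_lit 1572864) (Steps.fwd (nat_lit 262144) (Steps.fwd (nat_lit 786432) (Steps.bwd (nat_lit 1) (Steps.fwd (nat_lit 1572864) (Steps.bwd (nat_lit 1) (Steps.bwd (nat_lit 6) (Steps.bwd (nat_lit 5) (Steps.fwd (nat_lit 786432) (Steps.fwd (nat_lit 262144) Steps.nil))))))))))))) (nat_lit 34) (nat_lit 3),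
  Rule.mk (nat_lit 6) (nat_lit 274) (Steps.bwd (nat_lit 1) (Steps.bwd (nat_lit 6) (Steps.fwd (nat_lit 1310720) (Steps.bwd (nat_lit 2) (Steps.fwd (nat_lit 262144) (Steps.fwd (nat_lit 1572864) (Steps.fwd (nat_lit 262144) (Steps.bwd (nat_lit 2) (Steps.bwd (nat_lit 1) (Steps.fwd (nat_lit 1572864) (Steps.bwd (nat_lit 1) (Steps.fwd (nat_lit 786432) (Steps.fwd (nat_lit 262144) Steps.nil))))))))))))) (nat_lit 34) (nat_lit 11),
  Rule.mk (nat_lit 6) (nat_lit 274) (Steps.bwd (nat_lit 1) (Steps.fwd (nat_lit 1572864) (Steps.bwd (nat_lit 5) (Steps.fwd (nat_lit 786432) (Steps.fwd (nat_lit 262144) (Steps.bwd (nat_lit 6) (Steps.bwd (nat_lit 1) (Steps.bwd (nat_lit 2) (Steps.bwd (nat_lit 1) (Steps.fwd (nat_lit 1572864) (Steps.fwd (nat_lit 262144) (Steps.fwd (nat_lit 786432) (Steps.bwd (nat_lit 1) Steps.nil))))))))))))) (nat_lit 34) (nat_lit 11),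
  Rule.mk (nat_lit 1) (nat_lit 274) (Steps.bwd (nat_lit 6) (Steps.bwd (nat_lit 1) (Steps.bwd (nat_lit 3) (Steps.fwd (nat_lit 1310720) (Steps.bwd (nat_lit 6) (Steps.fwd (nat_lit 262144) (Steps.bwd (nat_lit 6) (Steps.bwd (nat_lit 1) (Steps.bwd (nat_lit 3) (Steps.bwd (nat_lit 1) (Steps.fwd (nat_lit 1572864) (Steps.fwd (nat_lit 262144) (Steps.fwd (nat_lit 524288) Steps.nil))))))))))))) (nat_lit 35) (nat_lit 11),
  Rule.mk (nat_lit 6) (nat_lit 274) (Steps.bwd (nat_lit 1) (Steps.fwd (nat_lit 524288) (Steps.fwd (nat_lit 1310720) (Steps.fwd (nat_lit 1572864) (Steps.fwd (nat_lit 262144) (Steps.bwd (nat_lit 6) (Steps.fwd (nat_lit 262144) (Steps.fwd (nat_lit 524288) (Steps.bwd (nat_lit 1) (Steps.bwd (nat_lit 6) (Steps.fwd (nat_lit 262144) (Steps.bwd (nat_lit 3) (Steps.fwd (nat_lit 262144) Steps.nil))))))))))))) (nat_lit 35) (nat_lit 12),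
  Rule.mk (nat_lit 1) (nat_lit 114) (Steps.bwd (nat_lit 4) (Steps.bwd (nat_lit 1) (Steps.bwd (nat_lit 4) (Steps.bwd (nat_lit 1) (Steps.bwd (nat_lit 4) Steps.nil))))) (nat_lit 16) (nat_lit 1),
  Rule.mk (nat_lit 1) (nat_lit 274) (Steps.bwd (nat_lit 6) (Steps.bwd (nat_lit 1) (Steps.bwd (nat_lit 2) (Steps.fwd (nat_lit 262144) (Steps.fwd (nat_lit 1572864) (Steps.bwd (nat_lit 1) (Steps.bwd (nat_lit 6) (Steps.bwd (nat_lit 5) (Steps.bwd (nat_lit 2) (Steps.bwd (nat_lit 1) (Steps.bwd (nat_lit 6) (Steps.fwd (nat_lit 262144) (Steps.fwd (nat_lit 786432) Steps.nil))))))))))))) (nat_lit 34) (nat_lit 6),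
  Rule.mk (nat_lit 1) (nat_lit 154) (Steps.bwd (nat_lit 4) (Steps.bwd (nat_lit 1) (Steps.fwd (nat_lit 1572864) (Steps.bwd (nat_lit 1) (Steps.bwd (nat_lit 4) (Steps.bwd (nat_lit 1) (Steps.bwd (nat_lit 6) Steps.nil))))))) (nat_lit 74) (nat_lit 1),
  Rule.mk (nat_lit 1) (nat_lit 274) (Steps.bwd (nat_lit 6) (Steps.fwd (nat_lit 1310720) (Steps.bwd (nat_lit 2) (Steps.bwd (nat_lit 1) (Steps.bwd (nat_lit 6) (Steps.bwd (nat_lit 1) (Steps.bwd (nat_lit 2) (Steps.fwd (nat_lit 262144) (Steps.fwd (nat_lit 1572864) (Steps.fwd (nat_lit 262144) (Steps.bwd (nat_lit 2) (Steps.fwd (nat_lit 262144) (Steps.bwd (nat_lit 6) Steps.nil))))))))))))) (nat_lit 34) (nat_lit 12),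
  Rule.mk (nat_lit 1) (nat_lit 274) (Steps.bwd (nat_lit 3) (Steps.fwd (nat_lit 1310720) (Steps.bwd (nat_lit 6) (Steps.bwd (nat_lit 1) (Steps.bwd (nat_lit 6) (Steps.fwd (nat_lit 262144) (Steps.fwd (nat_lit 524288) (Steps.bwd (nat_lit 1) (Steps.fwd (nat_lit 1572864) (Steps.bwd (nat_lit 1) (Steps.bwd (nat_lit 3) (Steps.bwd (nat_lit 1) (Steps.bwd (nat_lit 6) Steps.nil))))))))))))) (nat_lit 35) (nat_lit 13),
  Rule.mk (nat_lit 1) (nat_lit 274) (Steps.fwd (nat_lit 1572864) (Steps.bwd (nat_lit 5) (Steps.fwd (nat_lit 786432) (Steps.bwd (nat_lit 1) (Steps.bwd (nat_lit 6) (Steps.fwd (nat_lit 262144) (Steps.bwd (nat_lit 2) (Steps.bwd (nat_lit 1) (Steps.fwd (nat_lit 1572864) (Steps.bwd (nat_lit 1) (Steps.fwd (nat_lit 786432) (Steps.fwd (nat_lit 262144) (Steps.fwd (nat_lit 1572864) Steps.nil))))))))))))) (nat_lit 34) (nat_lit 12),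
  Rule.mk (nat_lit 1) (nat_lit 274) (Steps.bwd (nat_lit 6) (Steps.bwd (nat_lit 1) (Steps.bwd (nat_lit 2) (Steps.fwd (nat_lit 262144) (Steps.fwd (nat_lit 1572864) (Steps.bwd (nat_lit 1) (Steps.bwd (nat_lit 6) (Steps.fwd (nat_lit 1310720) (Steps.bwd (nat_lit 2) (Steps.bwd (nat_lit 1) (Steps.bwd (nat_lit 6) (Steps.fwd (nat_lit 262144) (Steps.fwd (nat_lit 786432) Steps.nil))))))))))))) (nat_lit 34) (nat_lit 6),
  Rule.mk (nat_lit 6) (nat_lit 274) (Steps.bwd (nat_lit 1) (Steps.fwd (nat_lit 786432) (Steps.fwd (nat_lit 262144) (Steps.bwd (nat_lit 6) (Steps.bwd (nat_lit 1) (Steps.fwd (nat_lit 786432) (Steps.bwd (nat_lit 1) (Steps.bwd (nat_lit 6) (Steps.fwd (nat_lit 262144) (Steps.fwd (nat_lit 1572864) (Steps.fwd (nat_lit 1310720) (Steps.fwd (nat_lit 786432) (Steps.fwd (nat_lit 262144) Steps.nil))))))))))))) (nat_lit 34) (nat_lit 3),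
  Rule.mk (nat_lit 6) (nat_lit 274) (Steps.bwd (nat_lit 1) (Steps.bwd (nat_lit 2) (Steps.fwd (nat_lit 262144) (Steps.fwd (nat_lit 1572864) (Steps.fwd (nat_lit 262144) (Steps.fwd (nat_lit 786432) (Steps.bwd (nat_lit 1) (Steps.fwd (nat_lit 1572864) (Steps.bwd (nat_lit 1) (Steps.fwd (nat_lit 1572864) (Steps.bwd (nat_lit 5) (Steps.fwd (nat_lit 786432) (Steps.fwd (nat_lit 262144) Steps.nil))))))))))))) (nat_lit 34) (nat_lit 3),
  Rule.mk (nat_lit 3) (nat_lit 154) (Steps.bwd (nat_lit 1) (Steps.fwd (nat_lit 524288) (Steps.bwd (nat_lit 7) (Steps.bwd (nat_lit 1) (Steps.fwd (nat_lit 524288) (Steps.fwd (nat_lit 262144) (Steps.bwd (nat_lit 7) Steps.nil))))))) (nat_lit 73) (nat_lit 2),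
  Rule.mk (nat_lit 6) (nat_lit 274) (Steps.bwd (nat_lit 1) (Steps.fwd (nat_lit 1572864) (Steps.fwd (nat_lit 1310720) (Steps.bwd (nat_lit 2) (Steps.fwd (nat_lit 262144) (Steps.fwd (nat_lit 1572864) (Steps.fwd (nat_lit 262144) (Steps.bwd (nat_lit 2) (Steps.bwd (nat_lit 1) (Steps.fwd (nat_lit 1572864) (Steps.bwd (nat_lit 1) (Steps.fwd (nat_lit 786432) (Steps.fwd (nat_lit 262144) Steps.nil))))))))))))) (nat_lit 34) (nat_lit 11),
  Rule.mk (nat_lit 6) (nat_lit 274) (Steps.bwd (nat_lit 1) (Steps.bwd (nat_lit 6) (Steps.bwd (nat_lit 5) (Steps.fwd (nat_lit 786432) (Steps.fwd (nat_lit 262144) (Steps.bwd (nat_lit 6) (Steps.bwd (nat_lit 1) (Steps.bwd (nat_lit 2) (Steps.bwd (nat_lit 1) (Steps.bwd (nat_lit 6) (Steps.fwd (nat_lit 262144) (Steps.fwd (nat_lit 786432) (Steps.bwd (nat_lit 1) Steps.nil))))))))))))) (nat_lit 34) (nat_lit 11),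
  Rule.mk (nat_lit 1) (nat_lit 274) (Steps.bwd (nat_lit 6) (Steps.bwd (nat_lit 1) (Steps.bwd (nat_lit 3) (Steps.fwd (nat_lit 1310720) (Steps.fwd (nat_lit 1572864) (Steps.fwd (nat_lit 262144) (Steps.bwd (nat_lit 6) (Steps.bwd (nat_lit 1) (Steps.bwd (nat_lit 3) (Steps.bwd (nat_lit 1) (Steps.fwd (nat_lit 1572864) (Steps.fwd (nat_lit 262144) (Steps.fwd (nat_lit 524288) Steps.nil))))))))))))) (nat_lit 35) (nat_lit 11),
  Rule.mk (nat_lit 1) (nat_lit 274) (Steps.fwd (nat_lit 1572864) (Steps.bwd (nat_lit 5) (Steps.fwd (nat_lit 786432) (Steps.bwd (nat_lit 1) (Steps.fwd (nat_lit 1572864) (Steps.fwd (nat_lit 262144) (Steps.bwd (nat_lit 2) (Steps.bwd (nat_lit 1) (Steps.fwd (nat_lit 1572864) (Steps.bwd (nat_lit 1) (Steps.fwd (nat_lit 786432) (Steps.fwd (nat_lit 262144) (Steps.fwd (nat_lit 1572864) Steps.nil))))))))))))) (nat_lit 34) (nat_lit 12),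
  Rule.mk (nat_lit 6) (nat_lit 274) (Steps.bwd (nat_lit 1) (Steps.fwd (nat_lit 1572864) (Steps.bwd (nat_lit 5) (Steps.fwd (nat_lit 786432) (Steps.fwd (nat_lit 262144) (Steps.bwd (nat_lit 6) (Steps.fwd (nat_lit 262144) (Steps.fwd (nat_lit 786432) (Steps.bwd (nat_lit 1) (Steps.fwd (nat_lit 1572864) (Steps.fwd (nat_lit 262144) (Steps.bwd (nat_lit 2) (Steps.bwd (nat_lit 1) Steps.nil))))))))))))) (nat_lit 34) (nat_lit 11),
  Rule.mk (nat_lit 6) (nat_lit 274) (Steps.bwd (nat_lit 1) (Steps.fwd (nat_lit 1572864) (Steps.bwd (nat_lit 5) (Steps.fwd (nat_lit 786432) (Steps.fwd (nat_lit 262144) (Steps.bwd (nat_lit 6) (Steps.bwd (nat_lit 1) (Steps.bwd (nat_lit 2) (Steps.bwd (nat_lit 1) (Steps.bwd (nat_lit 6) (Steps.fwd (nat_lit 262144) (Steps.fwd (nat_lit 786432) (Steps.bwd (nat_lit 1) Steps.nil))))))))))))) (nat_lit 34) (nat_lit 11),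
  Rule.mk (nat_lit 1) (nat_lit 274) (Steps.bwd (nat_lit 6) (Steps.bwd (nat_lit 1) (Steps.bwd (nat_lit 3) (Steps.fwd (nat_lit 1310720) (Steps.bwd (nat_lit 6) (Steps.fwd (nat_lit 262144) (Steps.fwd (nat_lit 1572864) (Steps.bwd (nat_lit 1) (Steps.bwd (nat_lit 3) (Steps.bwd (nat_lit 1) (Steps.fwd (nat_lit 1572864) (Steps.fwd (nat_lit 262144) (Steps.fwd (nat_lit 524288) Steps.nil))))))))))))) (nat_lit 35) (nat_lit 11),
  Rule.mk (nat_lit 6) (nat_lit 274) (Steps.bwd (nat_lit 1) (Steps.fwd (nat_lit 1572864) (Steps.bwd (nat_lit 5) (Steps.fwd (nat_lit 786432) (Steps.fwd (nat_lit 262144) (Steps.bwd (nat_lit 6) (Steps.bwd (nat_lit 1) (Steps.fwd (nat_lit 786432) (Steps.bwd (nat_lit 1) (Steps.bwd (nat_lit 6) (Steps.fwd (nat_lit 262144) (Steps.bwd (nat_lit 2) (Steps.fwd (nat_lit 262144) Steps.nil))))))))))))) (nat_lit 34) (nat_lit 11),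
  Rule.mk (nat_lit 6) (nat_lit 274) (Steps.bwd (nat_lit 1) (Steps.bwd (nat_lit 2) (Steps.fwd (nat_lit 262144) (Steps.fwd (nat_lit 1572864) (Steps.fwd (nat_lit 262144) (Steps.fwd (nat_lit 786432) (Steps.fwd (nat_lit 262144) (Steps.bwd (nat_lit 6) (Steps.bwd (nat_lit 1) (Steps.bwd (nat_lit 6) (Steps.bwd (nat_lit 5) (Steps.fwd (nat_lit 786432) (Steps.fwd (nat_lit 262144) Steps.nil))))))))))))) (nat_lit 34) (nat_lit 3),
  Rule.mk (nat_lit 1) (nat_lit 274) (Steps.bwd (nat_lit 6) (Steps.bwd (nat_lit 1) (Steps.bwd (nat_lit 3) (Steps.fwd (nat_lit 1310720) (Steps.fwd (nat_lit 1572864) (Steps.fwd (nat_lit 262144) (Steps.fwd (nat_lit 1572864) (Steps.bwd (nat_lit 1) (Steps.bwd (nat_lit 3) (Steps.bwd (nat_lit 1) (Steps.fwd (nat_lit 1572864) (Steps.fwd (nat_lit 262144) (Steps.fwd (nat_lit 524288) Steps.nil))))))))))))) (nat_lit 35) (nat_lit 11),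
  Rule.mk (nat_lit 6) (nat_lit 274) (Steps.bwd (nat_lit 1) (Steps.fwd (nat_lit 524288) (Steps.bwd (nat_lit 5) (Steps.fwd (nat_lit 1572864) (Steps.fwd (nat_lit 262144) (Steps.bwd (nat_lit 6) (Steps.fwd (nat_lit 262144) (Steps.fwd (nat_lit 524288) (Steps.bwd (nat_lit 1) (Steps.fwd (nat_lit 1572864) (Steps.fwd (nat_lit 262144) (Steps.bwd (nat_lit 3) (Steps.fwd (nat_lit 262144) Steps.nil))))))))))))) (nat_lit 35) (nat_lit 12),
  Rule.mk (nat_lit 6) (nat_lit 274) (Steps.bwd (nat_lit 1) (Steps.fwd (nat_lit 524288) (Steps.bwd (nat_lit 5) (Steps.fwd (nat_lit 1572864) (Steps.fwd (nat_lit 262144) (Steps.bwd (nat_lit 6) (Steps.bwd (nat_lit 1) (Steps.fwd (nat_lit 524288) (Steps.bwd (nat_lit 1) (Steps.bwd (nat_lit 6) (Steps.fwd (nat_lit 262144) (Steps.fwd (nat_lit 524288) (Steps.fwd (nat_lit 262144) Steps.nil))))))))))))) (nat_lit 35) (nat_lit 12),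
  Rule.mk (nat_lit 6) (nat_lit 114) (Steps.bwd (nat_lit 7) (Steps.bwd (nat_lit 2) (Steps.fwd (nat_lit 1572864) (Steps.bwd (nat_lit 7) (Steps.bwd (nat_lit 3) Steps.nil))))) (nat_lit 62) (nat_lit 5),
  Rule.mk (nat_lit 1) (nat_lit 274) (Steps.bwd (nat_lit 6) (Steps.bwd (nat_lit 1) (Steps.bwd (nat_lit 3) (Steps.fwd (nat_lit 262144) (Steps.fwd (nat_lit 1572864) (Steps.bwd (nat_lit 1) (Steps.fwd (nat_lit 524288) (Steps.bwd (nat_lit 5) (Steps.fwd (nat_lit 1572864) (Steps.fwd (nat_lit 262144) (Steps.bwd (nat_lit 6) (Steps.fwd (nat_lit 262144) (Steps.fwd (nat_lit 524288) Steps.nil))))))))))))) (nat_lit 35) (nat_lit 7),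
  Rule.mk (nat_lit 6) (nat_lit 274) (Steps.bwd (nat_lit 1) (Steps.fwd (nat_lit 524288) (Steps.bwd (nat_lit 5) (Steps.fwd (nat_lit 1572864) (Steps.fwd (nat_lit 262144) (Steps.fwd (nat_lit 1572864) (Steps.fwd (nat_lit 262144) (Steps.fwd (nat_lit 524288) (Steps.bwd (nat_lit 1) (Steps.fwd (nat_lit 1572864) (Steps.fwd (nat_lit 262144) (Steps.bwd (nat_lit 3) (Steps.fwd (nat_lit 262144) Steps.nil))))))))))))) (nat_lit 35) (nat_lit 12),
  Rule.mk (nat_lit 1) (nat_lit 274) (Steps.fwd (nat_lit 786432) (Steps.bwd (nat_lit 1) (Steps.fwd (nat_lit 1572864) (Steps.fwd (nat_lit 262144) (Steps.bwd (nat_lit 6) (Steps.bwd (nat_lit 5) (Steps.fwd (nat_lit 786432) (Steps.bwd (nat_lit 1) (Steps.bwd (nat_lit 6) (Steps.bwd (nat_lit 1) (Steps.fwd (nat_lit 786432) (Steps.fwd (nat_lit 262144) (Steps.bwd (nat_lit 6) Steps.nil))))))))))))) (nat_lit 34) (nat_lit 8),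
  Rule.mk (nat_lit 6) (nat_lit 274) (Steps.bwd (nat_lit 1) (Steps.fwd (nat_lit 524288) (Steps.fwd (nat_lit 1310720) (Steps.fwd (nat_lit 1572864) (Steps.fwd (nat_lit 262144) (Steps.bwd (nat_lit 6) (Steps.fwd (nat_lit 262144) (Steps.fwd (nat_lit 524288) (Steps.bwd (nat_lit 1) (Steps.fwd (nat_lit 1572864) (Steps.fwd (nat_lit 262144) (Steps.fwd (nat_lit 524288) (Steps.bwd (nat_lit 1) Steps.nil))))))))))))) (nat_lit 35) (nat_lit 12),
  Rule.mk (nat_lit 6) (nat_lit 274) (Steps.bwd (nat_lit 1) (Steps.fwd (nat_lit 524288) (Steps.bwd (nat_lit 5) (Steps.bwd (nat_lit 6) (Steps.fwd (nat_lit 262144) (Steps.bwd (nat_lit 6) (Steps.bwd (nat_lit 1) (Steps.bwd (nat_lit 3) (Steps.fwd (nat_lit 262144) (Steps.bwd (nat_lit 6) (Steps.fwd (nat_lit 262144) (Steps.fwd (nat_lit 524288) (Steps.bwd (nat_lit 1) Steps.nil))))))))))))) (nat_lit 35) (nat_lit 12),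
  Rule.mk (nat_lit 1) (nat_lit 274) (Steps.bwd (nat_lit 6) (Steps.bwd (nat_lit 1) (Steps.bwd (nat_lit 3) (Steps.fwd (nat_lit 262144) (Steps.fwd (nat_lit 1572864) (Steps.bwd (nat_lit 1) (Steps.fwd (nat_lit 524288) (Steps.fwd (nat_lit 1310720) (Steps.fwd (nat_lit 1572864) (Steps.fwd (nat_lit 262144) (Steps.bwd (nat_lit 6) (Steps.fwd (nat_lit 262144) (Steps.fwd (nat_lit 524288) Steps.nil))))))))))))) (nat_lit 35) (nat_lit 7),
  Rule.mk (nat_lit 6) (nat_lit 274) (Steps.bwd (nat_lit 1) (Steps.fwd (nat_lit 524288) (Steps.fwd (nat_lit 1310720) (Steps.fwd (nat_lit 1572864) (Steps.fwd (nat_lit 262144) (Steps.fwd (nat_lit 1572864) (Steps.fwd (nat_lit 262144) (Steps.fwd (nat_lit 524288) (Steps.bwd (nat_lit 1) (Steps.fwd (nat_lit 1572864) (Steps.fwd (nat_lit 262144) (Steps.fwd (nat_lit 524288) (Steps.fwd (nat_lit 262144) Steps.nil))))))))))))) (nat_lit 35) (nat_lit 12),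
  Rule.mk (nat_lit 3) (nat_lit 154) (Steps.bwd (nat_lit 1) (Steps.fwd (nat_lit 524288) (Steps.fwd (nat_lit 1835008) (Steps.fwd (nat_lit 262144) (Steps.bwd (nat_lit 3) (Steps.fwd (nat_lit 262144) (Steps.fwd (nat_lit 1835008) Steps.nil))))))) (nat_lit 73) (nat_lit 2),
  Rule.mk (nat_lit 6) (nat_lit 274) (Steps.bwd (nat_lit 1) (Steps.bwd (nat_lit 6) (Steps.fwd (nat_lit 1310720) (Steps.fwd (nat_lit 786432) (Steps.fwd (nat_lit 262144) (Steps.bwd (nat_lit 6) (Steps.fwd (nat_lit 262144) (Steps.bwd (nat_lit 2) (Steps.bwd (nat_lit 1) (Steps.fwd (nat_lit 1572864) (Steps.fwd (nat_lit 262144) (Steps.bwd (nat_lit 2) (Steps.fwd (nat_lit 262144) Steps.nil))))))))))))) (nat_lit 34) (nat_lit 11),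
  Rule.mk (nat_lit 6) (nat_lit 274) (Steps.bwd (nat_lit 1) (Steps.bwd (nat_lit 6) (Steps.fwd (nat_lit 1310720) (Steps.bwd (nat_lit 2) (Steps.fwd (nat_lit 262144) (Steps.fwd (nat_lit 1572864) (Steps.fwd (nat_lit 262144) (Steps.fwd (nat_lit 786432) (Steps.fwd (nat_lit 262144) (Steps.fwd (nat_lit 1572864) (Steps.bwd (nat_lit 1) (Steps.fwd (nat_lit 786432) (Steps.fwd (nat_lit 262144) Steps.nil))))))))))))) (nat_lit 34) (nat_lit 11),
  Rule.mk (nat_lit 6) (nat_lit 274) (Steps.bwd (nat_lit 1) (Steps.fwd (nat_lit 1572864) (Steps.fwd (nat_lit 1310720) (Steps.fwd (nat_lit 786432) (Steps.fwd (nat_lit 262144) (Steps.bwd (nat_lit 6) (Steps.bwd (nat_lit 1) (Steps.fwd (nat_lit 786432) (Steps.bwd (nat_lit 1) (Steps.bwd (nat_lit 6) (Steps.fwd (nat_lit 262144) (Steps.bwd (nat_lit 2) (Steps.bwd (nat_lit 1) Steps.nil))))))))))))) (nat_lit 34) (nat_lit 11),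
  Rule.mk (nat_lit 6) (nat_lit 274) (Steps.bwd (nat_lit 1) (Steps.fwd (nat_lit 1572864) (Steps.fwd (nat_lit 1310720) (Steps.fwd (nat_lit 786432) (Steps.fwd (nat_lit 262144) (Steps.bwd (nat_lit 6) (Steps.bwd (nat_lit 1) (Steps.bwd (nat_lit 2) (Steps.bwd (nat_lit 1) (Steps.bwd (nat_lit 6) (Steps.fwd (nat_lit 262144) (Steps.bwd (nat_lit 2) (Steps.bwd (nat_lit 1) Steps.nil))))))))))))) (nat_lit 34) (nat_lit 11),
  Rule.mk (nat_lit 1) (nat_lit 154) (Steps.bwd (nat_lit 4) (Steps.bwd (nat_lit 1) (Steps.bwd (nat_lit 6) (Steps.fwd (nat_lit 262144) (Steps.bwd (nat_lit 4) (Steps.bwd (nat_lit 1) (Steps.bwd (nat_lit 6) Steps.nil))))))) (nat_lit 74) (nat_lit 1),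
  Rule.mk (nat_lit 6) (nat_lit 274) (Steps.bwd (nat_lit 1) (Steps.bwd (nat_lit 2) (Steps.bwd (nat_lit 1) (Steps.bwd (nat_lit 6) (Steps.fwd (nat_lit 262144) (Steps.fwd (nat_lit 1572864) (Steps.fwd (nat_lit 1310720) (Steps.fwd (nat_lit 786432) (Steps.fwd (nat_lit 262144) (Steps.fwd (nat_lit 1572864) (Steps.bwd (nat_lit 1) (Steps.fwd (nat_lit 786432) (Steps.fwd (nat_lit 262144) Steps.nil))))))))))))) (nat_lit 34) (nat_lit 7),
  Rule.mk (nat_lit 1) (nat_lit 274) (Steps.bwd (nat_lit 6) (Steps.bwd (nat_lit 1) (Steps.bwd (nat_lit 2) (Steps.fwd (nat_lit 262144) (Steps.fwd (nat_lit 1572864) (Steps.fwd (nat_lit 262144) (Steps.bwd (nat_lit 6) (Steps.bwd (nat_lit 5) (Steps.bwd (nat_lit 2) (Steps.bwd (nat_lit 1) (Steps.bwd (nat_lit 6) (Steps.fwd (nat_lit 262144) (Steps.fwd (nat_lit 786432) Steps.nil))))))))))))) (nat_lit 34) (nat_lit 6),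
  Rule.mk (nat_lit 6) (nat_lit 274) (Steps.bwd (nat_lit 1) (Steps.fwd (nat_lit 1572864) (Steps.bwd (nat_lit 5) (Steps.fwd (nat_lit 786432) (Steps.fwd (nat_lit 262144) (Steps.bwd (nat_lit 6) (Steps.fwd (nat_lit 262144) (Steps.bwd (nat_lit 2) (Steps.bwd (nat_lit 1) (Steps.bwd (nat_lit 6) (Steps.fwd (nat_lit 262144) (Steps.bwd (nat_lit 2) (Steps.bwd (nat_lit 1) Steps.nil))))))))))))) (nat_lit 34) (nat_lit 11),
  Rule.mk (nat_lit 8) (nat_lit 94) (Steps.fwd (nat_lit 1310720) (Steps.bwd (nat_lit 9) (Steps.fwd (nat_lit 1310720) (Steps.bwd (nat_lit 7) Steps.nil)))) (nat_lit 100) (nat_lit 1),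
  Rule.mk (nat_lit 6) (nat_lit 274) (Steps.bwd (nat_lit 1) (Steps.fwd (nat_lit 524288) (Steps.bwd (nat_lit 5) (Steps.bwd (nat_lit 6) (Steps.fwd (nat_lit 262144) (Steps.fwd (nat_lit 1572864) (Steps.fwd (nat_lit 262144) (Steps.fwd (nat_lit 524288) (Steps.bwd (nat_lit 1) (Steps.bwd (nat_lit 6) (Steps.fwd (nat_lit 262144) (Steps.fwd (nat_lit 524288) (Steps.fwd (nat_lit 262144) Steps.nil))))))))))))) (nat_lit 35) (nat_lit 12),
  Rule.mk (nat_lit 6) (nat_lit 274) (Steps.bwd (nat_lit 1) (Steps.fwd (nat_lit 524288) (Steps.bwd (nat_lit 5) (Steps.fwd (nat_lit 1572864) (Steps.fwd (nat_lit 262144) (Steps.bwd (nat_lit 6) (Steps.bwd (nat_lit 1) (Steps.bwd (nat_lit 3) (Steps.fwd (nat_lit 262144) (Steps.bwd (nat_lit 6) (Steps.fwd (nat_lit 262144) (Steps.fwd (nat_lit 524288) (Steps.bwd (nat_lit 1) Steps.nil))))))))))))) (nat_lit 35) (nat_lit 12),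
  Rule.mk (nat_lit 6) (nat_lit 274) (Steps.bwd (nat_lit 1) (Steps.fwd (nat_lit 524288) (Steps.fwd (nat_lit 1310720) (Steps.bwd (nat_lit 6) (Steps.fwd (nat_lit 262144) (Steps.bwd (nat_lit 6) (Steps.fwd (nat_lit 262144) (Steps.fwd (nat_lit 524288) (Steps.bwd (nat_lit 1) (Steps.bwd (nat_lit 6) (Steps.fwd (nat_lit 262144) (Steps.fwd (nat_lit 524288) (Steps.fwd (nat_lit 262144) Steps.nil))))))))))))) (nat_lit 35) (nat_lit 12),
  Rule.mk (nat_lit 6) (nat_lit 274) (Steps.bwd (nat_lit 1) (Steps.fwd (nat_lit 1572864) (Steps.bwd (nat_lit 5) (Steps.fwd (nat_lit 786432) (Steps.fwd (nat_lit 262144) (Steps.fwd (nat_lit 1572864) (Steps.bwd (nat_lit 1) (Steps.bwd (nat_lit 2) (Steps.bwd (nat_lit 1) (Steps.fwd (nat_lit 1572864) (Steps.fwd (nat_lit 262144) (Steps.bwd (nat_lit 2) (Steps.fwd (nat_lit 262144) Steps.nil))))))))))))) (nat_lit 34) (nat_lit 11),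
  Rule.mk (nat_lit 1) (nat_lit 274) (Steps.bwd (nat_lit 6) (Steps.bwd (nat_lit 5) (Steps.bwd (nat_lit 2) (Steps.bwd (nat_lit 1) (Steps.fwd (nat_lit 1572864) (Steps.bwd (nat_lit 1) (Steps.bwd (nat_lit 2) (Steps.bwd (nat_lit 1) (Steps.fwd (nat_lit 1572864) (Steps.fwd (nat_lit 262144) (Steps.fwd (nat_lit 786432) (Steps.fwd (nat_lit 262144) (Steps.bwd (nat_lit 6) Steps.nil))))))))))))) (nat_lit 34) (nat_lit 12),
  Rule.mk (nat_lit 1) (nat_lit 154) (Steps.bwd (nat_lit 4) (Steps.fwd (nat_lit 262144) (Steps.fwd (nat_lit 1572864) (Steps.fwd (nat_lit 262144) (Steps.bwd (nat_lit 4) (Steps.fwd (nat_lit 262144) (Steps.bwd (nat_lit 6) Steps.nil))))))) (nat_lit 74) (nat_lit 1),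
  Rule.mk (nat_lit 1) (nat_lit 274) (Steps.fwd (nat_lit 786432) (Steps.bwd (nat_lit 1) (Steps.fwd (nat_lit 1572864) (Steps.fwd (nat_lit 262144) (Steps.bwd (nat_lit 2) (Steps.fwd (nat_lit 262144) (Steps.bwd (nat_lit 6) (Steps.bwd (nat_lit 1) (Steps.fwd (nat_lit 1572864) (Steps.bwd (nat_lit 5) (Steps.bwd (nat_lit 2) (Steps.fwd (nat_lit 262144) (Steps.bwd (nat_lit 6) Steps.nil))))))))))))) (nat_lit 34) (nat_lit 4)]
noncomputable def R_28 : List (Rule) := [Rule.mk (nat_lit 1) (nat_lit 274) (Steps.bwd (nat_lit 6) (Steps.bwd (nat_lit 5) (Steps.bwd (nat_lit 2) (Steps.fwd (nat_lit 262144) (Steps.bwd (nat_lit 6) (Steps.bwd (nat_lit 1) (Steps.bwd (nat_lit 2) (Steps.fwd (nat_lit 262144) (Steps.fwd (nat_lit 1572864) (Steps.bwd (nat_lit 1) (Steps.fwd (nat_lit 786432) (Steps.fwd (nat_lit 262144) (Steps.fwd (nat_lit 1572864) Steps.nil))))))))))))) (nat_lit 34) (nat_lit 12),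
  Rule.mk (nat_lit 1) (nat_lit 274) (Steps.bwd (nat_lit 6) (Steps.bwd (nat_lit 1) (Steps.bwd (nat_lit 3) (Steps.fwd (nat_lit 262144) (Steps.bwd (nat_lit 6) (Steps.bwd (nat_lit 1) (Steps.bwd (nat_lit 3) (Steps.fwd (nat_lit 262144) (Steps.fwd (nat_lit 1572864) (Steps.bwd (nat_lit 1) (Steps.fwd (nat_lit 524288) (Steps.bwd (nat_lit 5) (Steps.fwd (nat_lit 1572864) Steps.nil))))))))))))) (nat_lit 35) (nat_lit 3),
  Rule.mk (nat_lit 6) (nat_lit 274) (Steps.bwd (nat_lit 1) (Steps.fwd (nat_lit 786432) (Steps.fwd (nat_lit 262144) (Steps.bwd (nat_lit 6) (Steps.fwd (nat_lit 262144) (Steps.bwd (nat_lit 2) (Steps.bwd (nat_lit 1) (Steps.fwd (nat_lit 1572864) (Steps.fwd (nat_lit 262144) (Steps.bwd (nat_lit 6) (Steps.bwd (nat_lit 5) (Steps.bwd (nat_lit 2) (Steps.bwd (nat_lit 1) Steps.nil))))))))))))) (nat_lit 34) (nat_lit 3),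
  Rule.mk (nat_lit 1) (nat_lit 274) (Steps.bwd (nat_lit 6) (Steps.bwd (nat_lit 5) (Steps.bwd (nat_lit 2) (Steps.fwd (nat_lit 262144) (Steps.bwd (nat_lit 6) (Steps.bwd (nat_lit 1) (Steps.bwd (nat_lit 2) (Steps.fwd (nat_lit 262144) (Steps.fwd (nat_lit 1572864) (Steps.bwd (nat_lit 1) (Steps.bwd (nat_lit 2) (Steps.fwd (nat_lit 262144) (Steps.bwd (nat_lit 6) Steps.nil))))))))))))) (nat_lit 34) (nat_lit 12),
  Rule.mk (nat_lit 1) (nat_lit 274) (Steps.fwd (nat_lit 786432) (Steps.bwd (nat_lit 1) (Steps.fwd (nat_lit 1572864) (Steps.fwd (nat_lit 262144) (Steps.bwd (nat_lit 2) (Steps.fwd (nat_lit 262144) (Steps.bwd (nat_lit 6) (Steps.bwd (nat_lit 1) (Steps.bwd (nat_lit 6) (Steps.fwd (nat_lit 1310720) (Steps.bwd (nat_lit 2) (Steps.fwd (nat_lit 262144) (Steps.bwd (nat_lit 6) Steps.nil))))))))))))) (nat_lit 34) (nat_lit 4),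
  Rule.mk (nat_lit 9) (nat_lit 94) (Steps.bwd (nat_lit 5) (Steps.bwd (nat_lit 7) (Steps.fwd (nat_lit 2359296) (Steps.bwd (nat_lit 5) Steps.nil)))) (nat_lit 100) (nat_lit 3),
  Rule.mk (nat_lit 1) (nat_lit 274) (Steps.bwd (nat_lit 3) (Steps.bwd (nat_lit 5) (Steps.bwd (nat_lit 6) (Steps.bwd (nat_lit 1) (Steps.bwd (nat_lit 6) (Steps.fwd (nat_lit 262144) (Steps.fwd (nat_lit 524288) (Steps.fwd (nat_lit 262144) (Steps.bwd (nat_lit 6) (Steps.bwd (nat_lit 1) (Steps.bwd (nat_lit 3) (Steps.fwd (nat_lit 262144) (Steps.bwd (nat_lit 6) Steps.nil))))))))))))) (nat_lit 35) (nat_lit 13),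
  Rule.mk (nat_lit 1) (nat_lit 274) (Steps.fwd (nat_lit 786432) (Steps.bwd (nat_lit 1) (Steps.bwd (nat_lit 6) (Steps.fwd (nat_lit 262144) (Steps.bwd (nat_lit 2) (Steps.fwd (nat_lit 262144) (Steps.bwd (nat_lit 6) (Steps.bwd (nat_lit 1) (Steps.fwd (nat_lit 1572864) (Steps.bwd (nat_lit 5) (Steps.bwd (nat_lit 2) (Steps.fwd (nat_lit 262144) (Steps.bwd (nat_lit 6) Steps.nil))))))))))))) (nat_lit 34) (nat_lit 4),
  Rule.mk (nat_lit 6) (nat_lit 274) (Steps.bwd (nat_lit 1) (Steps.fwd (nat_lit 1572864) (Steps.fwd (nat_lit 1310720) (Steps.bwd (nat_lit 2) (Steps.bwd (nat_lit 1) (Steps.fwd (nat_lit 1572864) (Steps.bwd (nat_lit 1) (Steps.fwd (nat_lit 786432) (Steps.fwd (nat_lit 262144) (Steps.fwd (nat_lit 1572864) (Steps.bwd (nat_lit 1) (Steps.fwd (nat_lit 786432) (Steps.fwd (nat_lit 262144) Steps.nil))))))))))))) (nat_lit 34) (nat_lit 11),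
  Rule.mk (nat_lit 1) (nat_lit 274) (Steps.bwd (nat_lit 6) (Steps.fwd (nat_lit 1310720) (Steps.bwd (nat_lit 2) (Steps.fwd (nat_lit 262144) (Steps.bwd (nat_lit 6) (Steps.bwd (nat_lit 1) (Steps.bwd (nat_lit 2) (Steps.fwd (nat_lit 262144) (Steps.fwd (nat_lit 1572864) (Steps.fwd (nat_lit 262144) (Steps.bwd (nat_lit 2) (Steps.bwd (nat_lit 1) (Steps.bwd (nat_lit 6) Steps.nil))))))))))))) (nat_lit 34) (nat_lit 12),
  Rule.mk (nat_lit 1) (nat_lit 274) (Steps.fwd (nat_lit 786432) (Steps.bwd (nat_lit 1) (Steps.bwd (nat_lit 6) (Steps.fwd (nat_lit 262144) (Steps.bwd (nat_lit 6) (Steps.fwd (nat_lit 1310720) (Steps.fwd (nat_lit 786432) (Steps.fwd (nat_lit 262144) (Steps.bwd (nat_lit 6) (Steps.bwd (nat_lit 1) (Steps.fwd (nat_lit 786432) (Steps.fwd (nat_lit 262144) (Steps.bwd (nat_lit 6) Steps.nil))))))))))))) (nat_lit 34) (nat_lit 8),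
  Rule.mk (nat_lit 1) (nat_lit 274) (Steps.bwd (nat_lit 6) (Steps.fwd (nat_lit 1310720) (Steps.bwd (nat_lit 2) (Steps.fwd (nat_lit 262144) (Steps.bwd (nat_lit 6) (Steps.bwd (nat_lit 1) (Steps.bwd (nat_lit 2) (Steps.fwd (nat_lit 262144) (Steps.fwd (nat_lit 1572864) (Steps.bwd (nat_lit 1) (Steps.bwd (nat_lit 2) (Steps.fwd (nat_lit 262144) (Steps.bwd (nat_lit 6) Steps.nil))))))))))))) (nat_lit 34) (nat_lit 12),
  Rule.mk (nat_lit 6) (nat_lit 274) (Steps.bwd (nat_lit 1) (Steps.bwd (nat_lit 2) (Steps.bwd (nat_lit 1) (Steps.fwd (nat_lit 1572864) (Steps.fwd (nat_lit 262144) (Steps.fwd (nat_lit 1572864) (Steps.fwd (nat_lit 1310720) (Steps.bwd (nat_lit 2) (Steps.bwd (nat_lit 1) (Steps.fwd (nat_lit 1572864) (Steps.bwd (nat_lit 1) (Steps.fwd (nat_lit 786432) (Steps.fwd (nat_lit 262144) Steps.nil))))))))))))) (nat_lit 34) (nat_lit 7),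
  Rule.mk (nat_lit 1) (nat_lit 274) (Steps.bwd (nat_lit 6) (Steps.bwd (nat_lit 1) (Steps.bwd (nat_lit 2) (Steps.fwd (nat_lit 262144) (Steps.fwd (nat_lit 1572864) (Steps.bwd (nat_lit 1) (Steps.bwd (nat_lit 6) (Steps.fwd (nat_lit 1310720) (Steps.bwd (nat_lit 2) (Steps.bwd (nat_lit 1) (Steps.fwd (nat_lit 1572864) (Steps.bwd (nat_lit 1) (Steps.fwd (nat_lit 786432) Steps.nil))))))))))))) (nat_lit 34) (nat_lit 6),
  Rule.mk (nat_lit 1) (nat_lit 154) (Steps.bwd (nat_lit 4) (Steps.bwd (nat_lit 1) (Steps.fwd (nat_lit 1572864) (Steps.fwd (nat_lit 262144) (Steps.bwd (nat_lit 4) (Steps.fwd (nat_lit 262144) (Steps.bwd (nat_lit 6) Steps.nil))))))) (nat_lit 74) (nat_lit 1),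
  Rule.mk (nat_lit 6) (nat_lit 274) (Steps.bwd (nat_lit 1) (Steps.bwd (nat_lit 2) (Steps.bwd (nat_lit 1) (Steps.fwd (nat_lit 1572864) (Steps.fwd (nat_lit 262144) (Steps.fwd (nat_lit 1572864) (Steps.bwd (nat_lit 5) (Steps.fwd (nat_lit 786432) (Steps.bwd (nat_lit 1) (Steps.fwd (nat_lit 1572864) (Steps.bwd (nat_lit 1) (Steps.fwd (nat_lit 786432) (Steps.fwd (nat_lit 262144) Steps.nil))))))))))))) (nat_lit 34) (nat_lit 7),
  Rule.mk (nat_lit 6) (nat_lit 154) (Steps.bwd (nat_lit 2) (Steps.fwd (nat_lit 1310720) (Steps.bwd (nat_lit 2) (Steps.fwd (nat_lit 1835008) (Steps.bwd (nat_lit 6) (Steps.bwd (nat_lit 2) (Steps.fwd (nat_lit 1310720) Steps.nil))))))) (nat_lit 84) (nat_lit 0),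
  Rule.mk (nat_lit 1) (nat_lit 274) (Steps.bwd (nat_lit 6) (Steps.fwd (nat_lit 1310720) (Steps.bwd (nat_lit 2) (Steps.bwd (nat_lit 1) (Steps.fwd (nat_lit 1572864) (Steps.bwd (nat_lit 1) (Steps.bwd (nat_lit 2) (Steps.fwd (nat_lit 262144) (Steps.fwd (nat_lit 1572864) (Steps.fwd (nat_lit 262144) (Steps.bwd (nat_lit 2) (Steps.fwd (nat_lit 262144) (Steps.bwd (nat_lit 6) Steps.nil))))))))))))) (nat_lit 34) (nat_lit 12),
  Rule.mk (nat_lit 1) (nat_lit 274) (Steps.fwd (nat_lit 786432) (Steps.bwd (nat_lit 1) (Steps.bwd (nat_lit 6) (Steps.fwd (nat_lit 262144) (Steps.bwd (nat_lit 6) (Steps.bwd (nat_lit 5) (Steps.fwd (nat_lit 786432) (Steps.fwd (nat_lit 262144) (Steps.bwd (nat_lit 6) (Steps.bwd (nat_lit 1) (Steps.fwd (nat_lit 786432) (Steps.fwd (nat_lit 262144) (Steps.bwd (nat_lit 6) Steps.nil))))))))))))) (nat_lit 34) (nat_lit 8),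
  Rule.mk (nat_lit 6) (nat_lit 274) (Steps.bwd (nat_lit 1) (Steps.bwd (nat_lit 6) (Steps.bwd (nat_lit 5) (Steps.bwd (nat_lit 2) (Steps.fwd (nat_lit 262144) (Steps.fwd (nat_lit 1572864) (Steps.fwd (nat_lit 262144) (Steps.bwd (nat_lit 2) (Steps.bwd (nat_lit 1) (Steps.fwd (nat_lit 1572864) (Steps.bwd (nat_lit 1) (Steps.fwd (nat_lit 786432) (Steps.fwd (nat_lit 262144) Steps.nil))))))))))))) (nat_lit 34) (nat_lit 11),
  Rule.mk (nat_lit 3) (nat_lit 154) (Steps.bwd (nat_lit 1) (Steps.fwd (nat_lit 524288) (Steps.bwd (nat_lit 7) (Steps.fwd (nat_lit 262144) (Steps.bwd (nat_lit 3) (Steps.fwd (nat_lit 262144) (Steps.bwd (nat_lit 7) Steps.nil))))))) (nat_lit 73) (nat_lit 2),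
  Rule.mk (nat_lit 6) (nat_lit 274) (Steps.bwd (nat_lit 1) (Steps.bwd (nat_lit 6) (Steps.bwd (nat_lit 5) (Steps.bwd (nat_lit 2) (Steps.fwd (nat_lit 262144) (Steps.bwd (nat_lit 6) (Steps.fwd (nat_lit 262144) (Steps.bwd (nat_lit 2) (Steps.fwd (nat_lit 262144) (Steps.fwd (nat_lit 1572864) (Steps.bwd (nat_lit 1) (Steps.fwd (nat_lit 786432) (Steps.fwd (nat_lit 262144) Steps.nil))))))))))))) (nat_lit 34) (nat_lit 11),
  Rule.mk (nat_lit 6) (nat_lit 274) (Steps.bwd (nat_lit 1) (Steps.fwd (nat_lit 1572864) (Steps.bwd (nat_lit 5) (Steps.bwd (nat_lit 2) (Steps.fwd (nat_lit 262144) (Steps.bwd (nat_lit 6) (Steps.fwd (nat_lit 262144) (Steps.bwd (nat_lit 2) (Steps.fwd (nat_lit 262144) (Steps.fwd (nat_lit 1572864) (Steps.bwd (nat_lit 1) (Steps.fwd (nat_lit 786432) (Steps.fwd (nat_lit 262144) Steps.nil))))))))))))) (nat_lit 34) (nat_lit 11),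
  Rule.mk (nat_lit 6) (nat_lit 274) (Steps.bwd (nat_lit 1) (Steps.bwd (nat_lit 6) (Steps.bwd (nat_lit 5) (Steps.fwd (nat_lit 786432) (Steps.fwd (nat_lit 262144) (Steps.bwd (nat_lit 6) (Steps.fwd (nat_lit 262144) (Steps.bwd (nat_lit 2) (Steps.bwd (nat_lit 1) (Steps.bwd (nat_lit 6) (Steps.bwd (nat_lit 1) (Steps.fwd (nat_lit 786432) (Steps.bwd (nat_lit 1) Steps.nil))))))))))))) (nat_lit 34) (nat_lit 11),
  Rule.mk (nat_lit 1) (nat_lit 274) (Steps.bwd (nat_lit 6) (Steps.bwd (nat_lit 1) (Steps.bwd (nat_lit 2) (Steps.fwd (nat_lit 262144) (Steps.bwd (nat_lit 6) (Steps.fwd (nat_lit 262144) (Steps.bwd (nat_lit 2) (Steps.fwd (nat_lit 262144) (Steps.fwd (nat_lit 1572864) (Steps.bwd (nat_lit 1) (Steps.bwd (nat_lit 6) (Steps.fwd (nat_lit 1310720) (Steps.bwd (nat_lit 2) Steps.nil))))))))))))) (nat_lit 34) (nat_lit 2),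
  Rule.mk (nat_lit 6) (nat_lit 274) (Steps.bwd (nat_lit 1) (Steps.fwd (nat_lit 524288) (Steps.fwd (nat_lit 1310720) (Steps.fwd (nat_lit 1572864) (Steps.fwd (nat_lit 262144) (Steps.bwd (nat_lit 6) (Steps.bwd (nat_lit 1) (Steps.fwd (nat_lit 524288) (Steps.bwd (nat_lit 1) (Steps.bwd (nat_lit 6) (Steps.fwd (nat_lit 262144) (Steps.fwd (nat_lit 524288) (Steps.bwd (nat_lit 1) Steps.nil))))))))))))) (nat_lit 35) (nat_lit 12),
  Rule.mk (nat_lit 1) (nat_lit 274) (Steps.bwd (nat_lit 6) (Steps.bwd (nat_lit 1) (Steps.bwd (nat_lit 3) (Steps.fwd (nat_lit 262144) (Steps.fwd (nat_lit 1572864) (Steps.bwd (nat_lit 1) (Steps.fwd (nat_lit 524288) (Steps.bwd (nat_lit 5) (Steps.fwd (nat_lit 1572864) (Steps.bwd (nat_lit 1) (Steps.bwd (nat_lit 6) (Steps.fwd (nat_lit 262144) (Steps.fwd (nat_lit 524288) Steps.nil))))))))))))) (nat_lit 35) (nat_lit 7),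
  Rule.mk (nat_lit 2) (nat_lit 154) (Steps.bwd (nat_lit 1) (Steps.bwd (nat_lit 3) (Steps.fwd (nat_lit 262144) (Steps.bwd (nat_lit 2) (Steps.fwd (nat_lit 262144) (Steps.fwd (nat_lit 524288) (Steps.bwd (nat_lit 1) Steps.nil))))))) (nat_lit 68) (nat_lit 2),
  Rule.mk (nat_lit 1) (nat_lit 154) (Steps.bwd (nat_lit 4) (Steps.fwd (nat_lit 262144) (Steps.bwd (nat_lit 6) (Steps.fwd (nat_lit 262144) (Steps.fwd (nat_lit 1048576) (Steps.fwd (nat_lit 262144) (Steps.bwd (nat_lit 6) Steps.nil))))))) (nat_lit 74) (nat_lit 1),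
  Rule.mk (nat_lit 6) (nat_lit 274) (Steps.bwd (nat_lit 1) (Steps.fwd (nat_lit 1572864) (Steps.bwd (nat_lit 5) (Steps.bwd (nat_lit 2) (Steps.fwd (nat_lit 262144) (Steps.fwd (nat_lit 1572864) (Steps.bwd (nat_lit 1) (Steps.fwd (nat_lit 786432) (Steps.fwd (nat_lit 262144) (Steps.fwd (nat_lit 1572864) (Steps.bwd (nat_lit 1) (Steps.fwd (nat_lit 786432) (Steps.fwd (nat_lit 262144) Steps.nil))))))))))))) (nat_lit 34) (nat_lit 11),
  Rule.mk (nat_lit 6) (nat_lit 274) (Steps.bwd (nat_lit 1) (Steps.bwd (nat_lit 6) (Steps.fwd (nat_lit 1310720) (Steps.fwd (nat_lit 786432) (Steps.fwd (nat_lit 262144) (Steps.bwd (nat_lit 6) (Steps.fwd (nat_lit 262144) (Steps.fwd (nat_lit 786432) (Steps.bwd (nat_lit 1) (Steps.fwd (nat_lit 1572864) (Steps.fwd (nat_lit 262144) (Steps.bwd (nat_lit 2) (Steps.bwd (nat_lit 1) Steps.nil))))))))))))) (nat_lit 34) (nat_lit 11),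
  Rule.mk (nat_lit 6) (nat_lit 274) (Steps.bwd (nat_lit 1) (Steps.bwd (nat_lit 3) (Steps.fwd (nat_lit 1310720) (Steps.bwd (nat_lit 6) (Steps.fwd (nat_lit 262144) (Steps.bwd (nat_lit 6) (Steps.fwd (nat_lit 262144) (Steps.bwd (nat_lit 3) (Steps.bwd (nat_lit 1) (Steps.bwd (nat_lit 6) (Steps.fwd (nat_lit 262144) (Steps.fwd (nat_lit 524288) (Steps.bwd (nat_lit 1) Steps.nil))))))))))))) (nat_lit 35) (nat_lit 12),
  Rule.mk (nat_lit 1) (nat_lit 274) (Steps.bwd (nat_lit 6) (Steps.bwd (nat_lit 5) (Steps.bwd (nat_lit 2) (Steps.bwd (nat_lit 1) (Steps.fwd (nat_lit 1572864) (Steps.bwd (nat_lit 1) (Steps.bwd (nat_lit 2) (Steps.fwd (nat_lit 262144) (Steps.fwd (nat_lit 1572864) (Steps.fwd (nat_lit 262144) (Steps.bwd (nat_lit 2) (Steps.bwd (nat_lit 1) (Steps.bwd (nat_lit 6) Steps.nil))))))))))))) (nat_lit 34) (nat_lit 12),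
  Rule.mk (nat_lit 6) (nat_lit 274) (Steps.bwd (nat_lit 1) (Steps.fwd (nat_lit 1572864) (Steps.fwd (nat_lit 1310720) (Steps.fwd (nat_lit 786432) (Steps.fwd (nat_lit 262144) (Steps.bwd (nat_lit 6) (Steps.bwd (nat_lit 1) (Steps.fwd (nat_lit 786432) (Steps.bwd (nat_lit 1) (Steps.bwd (nat_lit 6) (Steps.fwd (nat_lit 262144) (Steps.bwd (nat_lit 2) (Steps.fwd (nat_lit 262144) Steps.nil))))))))))))) (nat_lit 34) (nat_lit 11),
  Rule.mk (nat_lit 1) (nat_lit 274) (Steps.bwd (nat_lit 6) (Steps.bwd (nat_lit 5) (Steps.bwd (nat_lit 2) (Steps.bwd (nat_lit 1) (Steps.fwd (nat_lit 1572864) (Steps.bwd (nat_lit 1) (Steps.bwd (nat_lit 2) (Steps.fwd (nat_lit 262144) (Steps.fwd (nat_lit 1572864) (Steps.bwd (nat_lit 1) (Steps.bwd (nat_lit 2) (Steps.fwd (nat_lit 262144) (Steps.bwd (nat_lit 6) Steps.nil))))))))))))) (nat_lit 34) (nat_lit 12),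
  Rule.mk (nat_lit 6) (nat_lit 274) (Steps.bwd (nat_lit 1) (Steps.bwd (nat_lit 2) (Steps.bwd (nat_lit 1) (Steps.bwd (nat_lit 6) (Steps.fwd (nat_lit 262144) (Steps.fwd (nat_lit 1572864) (Steps.fwd (nat_lit 1310720) (Steps.fwd (nat_lit 786432) (Steps.fwd (nat_lit 262144) (Steps.fwd (nat_lit 1572864) (Steps.bwd (nat_lit 1) (Steps.bwd (nat_lit 2) (Steps.fwd (nat_lit 262144) Steps.nil))))))))))))) (nat_lit 34) (nat_lit 7),
  Rule.mk (nat_lit 1) (nat_lit 274) (Steps.fwd (nat_lit 786432) (Steps.bwd (nat_lit 1) (Steps.bwd (nat_lit 6) (Steps.fwd (nat_lit 262144) (Steps.fwd (nat_lit 1572864) (Steps.fwd (nat_lit 1310720) (Steps.fwd (nat_lit 786432) (Steps.fwd (nat_lit 262144) (Steps.bwd (nat_lit 6) (Steps.bwd (nat_lit 1) (Steps.fwd (nat_lit 786432) (Steps.fwd (nat_lit 262144) (Steps.bwd (nat_lit 6) Steps.nil))))))))))))) (nat_lit 34) (nat_lit 8),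
  Rule.mk (nat_lit 6) (nat_lit 274) (Steps.bwd (nat_lit 1) (Steps.bwd (nat_lit 2) (Steps.fwd (nat_lit 262144) (Steps.fwd (nat_lit 1572864) (Steps.bwd (nat_lit 1) (Steps.fwd (nat_lit 786432) (Steps.fwd (nat_lit 262144) (Steps.fwd (nat_lit 1572864) (Steps.bwd (nat_lit 1) (Steps.fwd (nat_lit 1572864) (Steps.bwd (nat_lit 5) (Steps.fwd (nat_lit 786432) (Steps.fwd (nat_lit 262144) Steps.nil))))))))))))) (nat_lit 34) (nat_lit 3),
  Rule.mk (nat_lit 6) (nat_lit 274) (Steps.bwd (nat_lit 1) (Steps.bwd (nat_lit 3) (Steps.fwd (nat_lit 1310720) (Steps.bwd (nat_lit 6) (Steps.fwd (nat_lit 262144) (Steps.bwd (nat_lit 6) (Steps.bwd (nat_lit 1) (Steps.fwd (nat_lit 524288) (Steps.bwd (nat_lit 1) (Steps.bwd (nat_lit 6) (Steps.fwd (nat_lit 262144) (Steps.fwd (nat_lit 524288) (Steps.bwd (nat_lit 1) Steps.nil))))))))))))) (nat_lit 35) (nat_lit 12),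
  Rule.mk (nat_lit 1) (nat_lit 274) (Steps.bwd (nat_lit 6) (Steps.bwd (nat_lit 1) (Steps.bwd (nat_lit 3) (Steps.fwd (nat_lit 262144) (Steps.fwd (nat_lit 1572864) (Steps.fwd (nat_lit 262144) (Steps.fwd (nat_lit 524288) (Steps.fwd (nat_lit 1310720) (Steps.fwd (nat_lit 1572864) (Steps.bwd (nat_lit 1) (Steps.bwd (nat_lit 6) (Steps.fwd (nat_lit 262144) (Steps.fwd (nat_lit 524288) Steps.nil))))))))))))) (nat_lit 35) (nat_lit 7),
  Rule.mk (nat_lit 1) (nat_lit 274) (Steps.bwd (nat_lit 6) (Steps.bwd (nat_lit 1) (Steps.bwd (nat_lit 3) (Steps.fwd (nat_lit 262144) (Steps.bwd (nat_lit 6) (Steps.fwd (nat_lit 262144) (Steps.fwd (nat_lit 524288) (Steps.bwd (nat_lit 1) (Steps.fwd (nat_lit 1572864) (Steps.fwd (nat_lit 262144) (Steps.bwd (nat_lit 3) (Steps.fwd (nat_lit 1310720) (Steps.fwd (nat_lit 1572864) Steps.nil))))))))))))) (nat_lit 35) (nat_lit 3),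
  Rule.mk (nat_lit 6) (nat_lit 274) (Steps.bwd (nat_lit 1) (Steps.fwd (nat_lit 786432) (Steps.fwd (nat_lit 262144) (Steps.bwd (nat_lit 6) (Steps.fwd (nat_lit 262144) (Steps.fwd (nat_lit 786432) (Steps.bwd (nat_lit 1) (Steps.bwd (nat_lit 6) (Steps.fwd (nat_lit 262144) (Steps.bwd (nat_lit 6) (Steps.fwd (nat_lit 1310720) (Steps.bwd (nat_lit 2) (Steps.bwd (nat_lit 1) Steps.nil))))))))))))) (nat_lit 34) (nat_lit 3),
  Rule.mk (nat_lit 6) (nat_lit 274) (Steps.bwd (nat_lit 1) (Steps.bwd (nat_lit 6) (Steps.bwd (nat_lit 5) (Steps.fwd (nat_lit 786432) (Steps.fwd (nat_lit 262144) (Steps.bwd (nat_lit 6) (Steps.fwd (nat_lit 262144) (Steps.fwd (nat_lit 786432) (Steps.bwd (nat_lit 1) (Steps.fwd (nat_lit 1572864) (Steps.fwd (nat_lit 262144) (Steps.bwd (nat_lit 2) (Steps.fwd (nat_lit 262144) Steps.nil))))))))))))) (nat_lit 34) (nat_lit 11),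
  Rule.mk (nat_lit 6) (nat_lit 274) (Steps.bwd (nat_lit 1) (Steps.fwd (nat_lit 1572864) (Steps.fwd (nat_lit 1310720) (Steps.fwd (nat_lit 786432) (Steps.bwd (nat_lit 1) (Steps.fwd (nat_lit 1572864) (Steps.fwd (nat_lit 262144) (Steps.bwd (nat_lit 2) (Steps.bwd (nat_lit 1) (Steps.bwd (nat_lit 6) (Steps.fwd (nat_lit 262144) (Steps.fwd (nat_lit 786432) (Steps.fwd (nat_lit 262144) Steps.nil))))))))))))) (nat_lit 34) (nat_lit 11),
  Rule.mk (nat_lit 3) (nat_lit 154) (Steps.bwd (nat_lit 1) (Steps.bwd (nat_lit 3) (Steps.fwd (nat_lit 1310720) (Steps.bwd (nat_lit 1) (Steps.bwd (nat_lit 3) (Steps.bwd (nat_lit 1) (Steps.fwd (nat_lit 1310720) Steps.nil))))))) (nat_lit 71) (nat_lit 2),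
  Rule.mk (nat_lit 6) (nat_lit 114) (Steps.bwd (nat_lit 3) (Steps.fwd (nat_lit 1835008) (Steps.bwd (nat_lit 6) (Steps.fwd (nat_lit 786432) (Steps.bwd (nat_lit 7) Steps.nil))))) (nat_lit 63) (nat_lit 5),
  Rule.mk (nat_lit 1) (nat_lit 274) (Steps.bwd (nat_lit 6) (Steps.bwd (nat_lit 1) (Steps.bwd (nat_lit 2) (Steps.fwd (nat_lit 262144) (Steps.bwd (nat_lit 6) (Steps.bwd (nat_lit 1) (Steps.bwd (nat_lit 6) (Steps.bwd (nat_lit 5) (Steps.bwd (nat_lit 2) (Steps.bwd (nat_lit 1) (Steps.bwd (nat_lit 6) (Steps.bwd (nat_lit 1) (Steps.fwd (nat_lit 786432) Steps.nil))))))))))))) (nat_lit 34) (nat_lit 6),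
  Rule.mk (nat_lit 6) (nat_lit 114) (Steps.bwd (nat_lit 2) (Steps.fwd (nat_lit 1835008) (Steps.bwd (nat_lit 6) (Steps.fwd (nat_lit 524288) (Steps.bwd (nat_lit 7) Steps.nil))))) (nat_lit 63) (nat_lit 2),
  Rule.mk (nat_lit 1) (nat_lit 274) (Steps.bwd (nat_lit 6) (Steps.bwd (nat_lit 1) (Steps.bwd (nat_lit 3) (Steps.fwd (nat_lit 262144) (Steps.bwd (nat_lit 6) (Steps.bwd (nat_lit 1) (Steps.bwd (nat_lit 3) (Steps.bwd (nat_lit 5) (Steps.bwd (nat_lit 6) (Steps.bwd (nat_lit 1) (Steps.bwd (nat_lit 6) (Steps.bwd (nat_lit 1) (Steps.fwd (nat_lit 524288) Steps.nil))))))))))))) (nat_lit 35) (nat_lit 7),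
  Rule.mk (nat_lit 6) (nat_lit 274) (Steps.bwd (nat_lit 1) (Steps.fwd (nat_lit 1572864) (Steps.bwd (nat_lit 5) (Steps.fwd (nat_lit 786432) (Steps.fwd (nat_lit 262144) (Steps.bwd (nat_lit 6) (Steps.fwd (nat_lit 262144) (Steps.fwd (nat_lit 786432) (Steps.bwd (nat_lit 1) (Steps.fwd (nat_lit 1572864) (Steps.fwd (nat_lit 262144) (Steps.bwd (nat_lit 2) (Steps.fwd (nat_lit 262144) Steps.nil))))))))))))) (nat_lit 34) (nat_lit 11),
  Rule.mk (nat_lit 6) (nat_lit 274) (Steps.bwd (nat_lit 1) (Steps.fwd (nat_lit 1572864) (Steps.fwd (nat_lit 1310720) (Steps.fwd (nat_lit 786432) (Steps.bwd (nat_lit 1) (Steps.bwd (nat_lit 6) (Steps.fwd (nat_lit 262144) (Steps.bwd (nat_lit 2) (Steps.bwd (nat_lit 1) (Steps.bwd (nat_lit 6) (Steps.fwd (nat_lit 262144) (Steps.fwd (nat_lit 786432) (Steps.fwd (nat_lit 262144) Steps.nil))))))))))))) (nat_lit 34) (nat_lit 11),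
  Rule.mk (nat_lit 1) (nat_lit 274) (Steps.bwd (nat_lit 6) (Steps.bwd (nat_lit 1) (Steps.bwd (nat_lit 2) (Steps.fwd (nat_lit 262144) (Steps.bwd (nat_lit 6) (Steps.fwd (nat_lit 262144) (Steps.bwd (nat_lit 6) (Steps.bwd (nat_lit 5) (Steps.bwd (nat_lit 2) (Steps.bwd (nat_lit 1) (Steps.fwd (nat_lit 1572864) (Steps.bwd (nat_lit 1) (Steps.fwd (nat_lit 786432) Steps.nil))))))))))))) (nat_lit 34) (nat_lit 6),
  Rule.mk (nat_lit 6) (nat_lit 274) (Steps.bwd (nat_lit 1) (Steps.fwd (nat_lit 786432) (Steps.fwd (nat_lit 262144) (Steps.bwd (nat_lit 6) (Steps.bwd (nat_lit 1) (Steps.bwd (nat_lit 6) (Steps.bwd (nat_lit 5) (Steps.bwd (nat_lit 2) (Steps.bwd (nat_lit 1) (Steps.fwd (nat_lit 1572864) (Steps.bwd (nat_lit 1) (Steps.fwd (nat_lit 786432) (Steps.fwd (nat_lit 262144) Steps.nil))))))))))))) (nat_lit 34) (nat_lit 7),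
  Rule.mk (nat_lit 6) (nat_lit 274) (Steps.bwd (nat_lit 1) (Steps.bwd (nat_lit 3) (Steps.bwd (nat_lit 5) (Steps.bwd (nat_lit 6) (Steps.bwd (nat_lit 1) (Steps.bwd (nat_lit 6) (Steps.fwd (nat_lit 262144) (Steps.bwd (nat_lit 3) (Steps.fwd (nat_lit 262144) (Steps.bwd (nat_lit 6) (Steps.bwd (nat_lit 1) (Steps.fwd (nat_lit 524288) (Steps.fwd (nat_lit 262144) Steps.nil))))))))))))) (nat_lit 35) (nat_lit 12),
  Rule.mk (nat_lit 1) (nat_lit 274) (Steps.bwd (nat_lit 6) (Steps.bwd (nat_lit 1) (Steps.bwd (nat_lit 3) (Steps.fwd (nat_lit 262144) (Steps.bwd (nat_lit 6) (Steps.bwd (nat_lit 1) (Steps.bwd (nat_lit 3) (Steps.bwd (nat_lit 5) (Steps.bwd (nat_lit 6) (Steps.fwd (nat_lit 262144) (Steps.fwd (nat_lit 1572864) (Steps.fwd (nat_lit 262144) (Steps.fwd (nat_lit 524288) Steps.nil))))))))))))) (nat_lit 35) (nat_lit 7),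
  Rule.mk (nat_lit 6) (nat_lit 274) (Steps.bwd (nat_lit 1) (Steps.fwd (nat_lit 786432) (Steps.fwd (nat_lit 262144) (Steps.bwd (nat_lit 6) (Steps.fwd (nat_lit 262144) (Steps.fwd (nat_lit 786432) (Steps.bwd (nat_lit 1) (Steps.fwd (nat_lit 1572864) (Steps.fwd (nat_lit 262144) (Steps.fwd (nat_lit 1572864) (Steps.fwd (nat_lit 1310720) (Steps.bwd (nat_lit 2) (Steps.bwd (nat_lit 1) Steps.nil))))))))))))) (nat_lit 34) (nat_lit 3),
  Rule.mk (nat_lit 6) (nat_lit 274) (Steps.bwd (nat_lit 1) (Steps.bwd (nat_lit 6) (Steps.fwd (nat_lit 1310720) (Steps.fwd (nat_lit 786432) (Steps.fwd (nat_lit 262144) (Steps.bwd (nat_lit 6) (Steps.fwd (nat_lit 262144) (Steps.fwd (nat_lit 786432) (Steps.bwd (nat_lit 1) (Steps.bwd (nat_lit 6) (Steps.fwd (nat_lit 262144) (Steps.bwd (nat_lit 2) (Steps.fwd (nat_lit 262144) Steps.nil))))))))))))) (nat_lit 34) (nat_lit 11),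
  Rule.mk (nat_lit 6) (nat_lit 274) (Steps.bwd (nat_lit 1) (Steps.fwd (nat_lit 1572864) (Steps.fwd (nat_lit 1310720) (Steps.fwd (nat_lit 786432) (Steps.bwd (nat_lit 1) (Steps.bwd (nat_lit 6) (Steps.fwd (nat_lit 262144) (Steps.bwd (nat_lit 2) (Steps.bwd (nat_lit 1) (Steps.bwd (nat_lit 6) (Steps.bwd (nat_lit 1) (Steps.fwd (nat_lit 786432) (Steps.fwd (nat_lit 262144) Steps.nil))))))))))))) (nat_lit 34) (nat_lit 11),
  Rule.mk (nat_lit 4) (nat_lit 114) (Steps.bwd (nat_lit 3) (Steps.bwd (nat_lit 5) (Steps.bwd (nat_lit 4) (Steps.fwd (nat_lit 524288) (Steps.bwd (nat_lit 6) Steps.nil))))) (nat_lit 55) (nat_lit 2),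
  Rule.mk (nat_lit 1) (nat_lit 274) (Steps.bwd (nat_lit 6) (Steps.bwd (nat_lit 1) (Steps.bwd (nat_lit 2) (Steps.fwd (nat_lit 262144) (Steps.bwd (nat_lit 6) (Steps.bwd (nat_lit 1) (Steps.bwd (nat_lit 6) (Steps.bwd (nat_lit 5) (Steps.bwd (nat_lit 2) (Steps.fwd (nat_lit 262144) (Steps.bwd (nat_lit 6) (Steps.fwd (nat_lit 262144) (Steps.bwd (nat_lit 2) Steps.nil))))))))))))) (nat_lit 34) (nat_lit 6),
  Rule.mk (nat_lit 6) (nat_lit 274) (Steps.bwd (nat_lit 1) (Steps.fwd (nat_lit 786432) (Steps.fwd (nat_lit 262144) (Steps.bwd (nat_lit 6) (Steps.bwd (nat_lit 1) (Steps.bwd (nat_lit 6) (Steps.fwd (nat_lit 1310720) (Steps.bwd (nat_lit 2) (Steps.bwd (nat_lit 1) (Steps.fwd (nat_lit 1572864) (Steps.bwd (nat_lit 1) (Steps.fwd (nat_lit 786432) (Steps.fwd (nat_lit 262144) Steps.nil))))))))))))) (nat_lit 34) (nat_lit 7),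
  Rule.mk (nat_lit 1) (nat_lit 274) (Steps.bwd (nat_lit 6) (Steps.bwd (nat_lit 1) (Steps.bwd (nat_lit 3) (Steps.fwd (nat_lit 262144) (Steps.fwd (nat_lit 1572864) (Steps.bwd (nat_lit 1) (Steps.bwd (nat_lit 3) (Steps.fwd (nat_lit 1310720) (Steps.bwd (nat_lit 6) (Steps.bwd (nat_lit 1) (Steps.fwd (nat_lit 1572864) (Steps.bwd (nat_lit 1) (Steps.fwd (nat_lit 524288) Steps.nil))))))))))))) (nat_lit 35) (nat_lit 7),
  Rule.mk (nat_lit 6) (nat_lit 274) (Steps.bwd (nat_lit 1) (Steps.fwd (nat_lit 786432) (Steps.fwd (nat_lit 262144) (Steps.bwd (nat_lit 6) (Steps.fwd (nat_lit 262144) (Steps.fwd (nat_lit 786432) (Steps.bwd (nat_lit 1) (Steps.fwd (nat_lit 1572864) (Steps.fwd (nat_lit 262144) (Steps.fwd (nat_lit 1572864) (Steps.bwd (nat_lit 5) (Steps.fwd (nat_lit 786432) (Steps.bwd (nat_lit 1) Steps.nil))))))))))))) (nat_lit 34) (nat_lit 3),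
  Rule.mk (nat_lit 6) (nat_lit 274) (Steps.bwd (nat_lit 1) (Steps.fwd (nat_lit 1572864) (Steps.fwd (nat_lit 1310720) (Steps.fwd (nat_lit 786432) (Steps.bwd (nat_lit 1) (Steps.fwd (nat_lit 1572864) (Steps.fwd (nat_lit 262144) (Steps.bwd (nat_lit 2) (Steps.bwd (nat_lit 1) (Steps.bwd (nat_lit 6) (Steps.bwd (nat_lit 1) (Steps.fwd (nat_lit 786432) (Steps.fwd (nat_lit 262144) Steps.nil))))))))))))) (nat_lit 34) (nat_lit 11)]
noncomputable def R_29 : List (Rule) := [Rule.mk (nat_lit 1) (nat_lit 274) (Steps.bwd (nat_lit 6) (Steps.fwd (nat_lit 1310720) (Steps.bwd (nat_lit 2) (Steps.fwd (nat_lit 262144) (Steps.bwd (nat_lit 6) (Steps.bwd (nat_lit 1) (Steps.fwd (nat_lit 786432) (Steps.fwd (nat_lit 262144) (Steps.fwd (nat_lit 1572864) (Steps.bwd (nat_lit 1) (Steps.bwd (nat_lit 2) (Steps.fwd (nat_lit 262144) (Steps.bwd (nat_lit 6) Steps.nil))))))))))))) (nat_lit 34) (nat_lit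 12),
  Rule.mk (nat_lit 1) (nat_lit 274) (Steps.bwd (nat_lit 6) (Steps.bwd (nat_lit 1) (Steps.bwd (nat_lit 2) (Steps.fwd (nat_lit 262144) (Steps.bwd (nat_lit 6) (Steps.bwd (nat_lit 1) (Steps.bwd (nat_lit 6) (Steps.bwd (nat_lit 5) (Steps.bwd (nat_lit 2) (Steps.fwd (nat_lit 262144) (Steps.fwd (nat_lit 1572864) (Steps.fwd (nat_lit 262144) (Steps.fwd (nat_lit 786432) Steps.nil))))))))))))) (nat_lit 34) (nat_lit 6),
  Rule.mk (nat_lit 6) (nat_lit 274) (Steps.bwd (nat_lit 1) (Steps.fwd (nat_lit 1572864) (Steps.bwd (nat_lit 5) (Steps.bwd (nat_lit 2) (Steps.bwd (nat_lit 1) (Steps.bwd (nat_lit 6) (Steps.fwd (nat_lit 262144) (Steps.bwd (nat_lit 2) (Steps.bwd (nat_lit 1) (Steps.bwd (nat_lit 6) (Steps.bwd (nat_lit 1) (Steps.bwd (nat_lit 2) (Steps.fwd (nat_lit 262144) Steps.nil))))))))))))) (nat_lit 34) (nat_lit 11),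
  Rule.mk (nat_lit 1) (nat_lit 274) (Steps.bwd (nat_lit 6) (Steps.bwd (nat_lit 1) (Steps.bwd (nat_lit 3) (Steps.fwd (nat_lit 262144) (Steps.bwd (nat_lit 6) (Steps.bwd (nat_lit 1) (Steps.bwd (nat_lit 3) (Steps.bwd (nat_lit 5) (Steps.bwd (nat_lit 6) (Steps.fwd (nat_lit 262144) (Steps.bwd (nat_lit 6) (Steps.fwd (nat_lit 262144) (Steps.fwd (nat_lit 524288) Steps.nil))))))))))))) (nat_lit 35) (nat_lit 7),
  Rule.mk (nat_lit 1) (nat_lit 274) (Steps.bwd (nat_lit 6) (Steps.bwd (nat_lit 1) (Steps.bwd (nat_lit 6) (Steps.bwd (nat_lit 5) (Steps.fwd (nat_lit 786432) (Steps.fwd (nat_lit 262144) (Steps.fwd (nat_lit 1572864) (Steps.fwd (nat_lit 262144) (Steps.bwd (nat_lit 2) (Steps.bwd (nat_lit 1) (Steps.bwd (nat_lit 6) (Steps.fwd (nat_lit 262144) (Steps.bwd (nat_lit 2) Steps.nil))))))))))))) (nat_lit 34) (nat_lit 10),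
  Rule.mk (nat_lit 6) (nat_lit 274) (Steps.bwd (nat_lit 1) (Steps.fwd (nat_lit 524288) (Steps.bwd (nat_lit 5) (Steps.fwd (nat_lit 1572864) (Steps.fwd (nat_lit 262144) (Steps.bwd (nat_lit 6) (Steps.fwd (nat_lit 262144) (Steps.fwd (nat_lit 524288) (Steps.bwd (nat_lit 1) (Steps.bwd (nat_lit 6) (Steps.fwd (nat_lit 262144) (Steps.bwd (nat_lit 3) (Steps.fwd (nat_lit 262144) Steps.nil))))))))))))) (nat_lit 35) (nat_lit 12),
  Rule.mk (nat_lit 6) (nat_lit 274) (Steps.bwd (nat_lit 1) (Steps.fwd (nat_lit 524288) (Steps.bwd (nat_lit 5) (Steps.fwd (nat_lit 1572864) (Steps.fwd (nat_lit 262144) (Steps.bwd (nat_lit 6) (Steps.fwd (nat_lit 262144) (Steps.fwd (nat_lit 524288) (Steps.bwd (nat_lit 1) (Steps.bwd (nat_lit 6) (Steps.fwd (nat_lit 262144) (Steps.fwd (nat_lit 524288) (Steps.fwd (nat_lit 262144) Steps.nil))))))))))))) (nat_lit 35) (nat_lit 12),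
  Rule.mk (nat_lit 6) (nat_lit 274) (Steps.bwd (nat_lit 1) (Steps.bwd (nat_lit 3) (Steps.fwd (nat_lit 1310720) (Steps.fwd (nat_lit 1572864) (Steps.fwd (nat_lit 262144) (Steps.bwd (nat_lit 6) (Steps.fwd (nat_lit 262144) (Steps.bwd (nat_lit 3) (Steps.bwd (nat_lit 1) (Steps.bwd (nat_lit 6) (Steps.fwd (nat_lit 262144) (Steps.fwd (nat_lit 524288) (Steps.bwd (nat_lit 1) Steps.nil))))))))))))) (nat_lit 35) (nat_lit 12),
  Rule.mk (nat_lit 6) (nat_lit 274) (Steps.bwd (nat_lit 1) (Steps.fwd (nat_lit 524288) (Steps.bwd (nat_lit 5) (Steps.bwd (nat_lit 6) (Steps.fwd (nat_lit 262144) (Steps.bwd (nat_lit 6) (Steps.fwd (nat_lit 262144) (Steps.fwd (nat_lit 524288) (Steps.bwd (nat_lit 1) (Steps.bwd (nat_lit 6) (Steps.fwd (nat_lit 262144) (Steps.bwd (nat_lit 3) (Steps.fwd (nat_lit 262144) Steps.nil))))))))))))) (nat_lit 35) (nat_lit 12),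
  Rule.mk (nat_lit 6) (nat_lit 274) (Steps.bwd (nat_lit 1) (Steps.fwd (nat_lit 524288) (Steps.bwd (nat_lit 5) (Steps.bwd (nat_lit 6) (Steps.fwd (nat_lit 262144) (Steps.bwd (nat_lit 6) (Steps.fwd (nat_lit 262144) (Steps.fwd (nat_lit 524288) (Steps.bwd (nat_lit 1) (Steps.bwd (nat_lit 6) (Steps.fwd (nat_lit 262144) (Steps.fwd (nat_lit 524288) (Steps.fwd (nat_lit 262144) Steps.nil))))))))))))) (nat_lit 35) (nat_lit 12),
  Rule.mk (nat_lit 6) (nat_lit 274) (Steps.bwd (nat_lit 1) (Steps.fwd (nat_lit 524288) (Steps.bwd (nat_lit 1) (Steps.fwd (nat_lit 1572864) (Steps.fwd (nat_lit 262144) (Steps.fwd (nat_lit 524288) (Steps.bwd (nat_lit 1) (Steps.bwd (nat_lit 6) (Steps.bwd (nat_lit 1) (Steps.fwd (nat_lit 524288) (Steps.fwd (nat_lit 1310720) (Steps.bwd (nat_lit 6) (Steps.fwd (nat_lit 262144) Steps.nil))))))))))))) (nat_lit 35) (nat_lit 4),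
  Rule.mk (nat_lit 4) (nat_lit 154) (Steps.bwd (nat_lit 1) (Steps.bwd (nat_lit 6) (Steps.bwd (nat_lit 1) (Steps.fwd (nat_lit 1048576) (Steps.fwd (nat_lit 262144) (Steps.fwd (nat_lit 1572864) (Steps.bwd (nat_lit 1) Steps.nil))))))) (nat_lit 74) (nat_lit 2),
  Rule.mk (nat_lit 6) (nat_lit 274) (Steps.bwd (nat_lit 1) (Steps.bwd (nat_lit 3) (Steps.fwd (nat_lit 1310720) (Steps.fwd (nat_lit 1572864) (Steps.fwd (nat_lit 262144) (Steps.bwd (nat_lit 6) (Steps.fwd (nat_lit 262144) (Steps.fwd (nat_lit 524288) (Steps.bwd (nat_lit 1) (Steps.bwd (nat_lit 6) (Steps.fwd (nat_lit 262144) (Steps.fwd (nat_lit 524288) (Steps.bwd (nat_lit 1) Steps.nil))))))))))))) (nat_lit 35) (nat_lit 12),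
  Rule.mk (nat_lit 1) (nat_lit 274) (Steps.bwd (nat_lit 6) (Steps.bwd (nat_lit 1) (Steps.fwd (nat_lit 1572864) (Steps.bwd (nat_lit 5) (Steps.fwd (nat_lit 786432) (Steps.fwd (nat_lit 262144) (Steps.fwd (nat_lit 1572864) (Steps.fwd (nat_lit 262144) (Steps.bwd (nat_lit 2) (Steps.bwd (nat_lit 1) (Steps.bwd (nat_lit 6) (Steps.fwd (nat_lit 262144) (Steps.bwd (nat_lit 2) Steps.nil))))))))))))) (nat_lit 34) (nat_lit 10),
  Rule.mk (nat_lit 1) (nat_lit 274) (Steps.bwd (nat_lit 6) (Steps.bwd (nat_lit 1) (Steps.fwd (nat_lit 1572864) (Steps.fwd (nat_lit 1310720) (Steps.fwd (nat_lit 786432) (Steps.fwd (nat_lit 262144) (Steps.fwd (nat_lit 1572864) (Steps.fwd (nat_lit 262144) (Steps.bwd (nat_lit 2) (Steps.bwd (nat_lit 1) (Steps.fwd (nat_lit 1572864) (Steps.fwd (nat_lit 262144) (Steps.bwd (nat_lit 2) Steps.nil))))))))))))) (nat_lit 34) (nat_lit 10),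
  Rule.mk (nat_lit 4) (nat_lit 154) (Steps.bwd (nat_lit 1) (Steps.bwd (nat_lit 4) (Steps.bwd (nat_lit 7) (Steps.fwd (nat_lit 262144) (Steps.bwd (nat_lit 4) (Steps.fwd (nat_lit 262144) (Steps.bwd (nat_lit 7) Steps.nil))))))) (nat_lit 76) (nat_lit 5),
  Rule.mk (nat_lit 6) (nat_lit 274) (Steps.bwd (nat_lit 1) (Steps.fwd (nat_lit 524288) (Steps.fwd (nat_lit 1310720) (Steps.fwd (nat_lit 1572864) (Steps.fwd (nat_lit 262144) (Steps.bwd (nat_lit 6) (Steps.fwd (nat_lit 262144) (Steps.fwd (nat_lit 524288) (Steps.bwd (nat_lit 1) (Steps.bwd (nat_lit 6) (Steps.fwd (nat_lit 262144) (Steps.fwd (nat_lit 524288) (Steps.fwd (nat_lit 262144) Steps.nil))))))))))))) (nat_lit 35) (nat_lit 12),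
  Rule.mk (nat_lit 3) (nat_lit 154) (Steps.bwd (nat_lit 1) (Steps.bwd (nat_lit 3) (Steps.fwd (nat_lit 1835008) (Steps.fwd (nat_lit 262144) (Steps.bwd (nat_lit 3) (Steps.fwd (nat_lit 262144) (Steps.fwd (nat_lit 1835008) Steps.nil))))))) (nat_lit 73) (nat_lit 2),
  Rule.mk (nat_lit 6) (nat_lit 274) (Steps.bwd (nat_lit 1) (Steps.fwd (nat_lit 524288) (Steps.bwd (nat_lit 5) (Steps.fwd (nat_lit 1572864) (Steps.fwd (nat_lit 262144) (Steps.bwd (nat_lit 6) (Steps.bwd (nat_lit 1) (Steps.fwd (nat_lit 524288) (Steps.bwd (nat_lit 1) (Steps.fwd (nat_lit 1572864) (Steps.fwd (nat_lit 262144) (Steps.bwd (nat_lit 3) (Steps.fwd (nat_lit 262144) Steps.nil))))))))))))) (nat_lit 35) (nat_lit 12),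
  Rule.mk (nat_lit 6) (nat_lit 274) (Steps.bwd (nat_lit 1) (Steps.fwd (nat_lit 524288) (Steps.fwd (nat_lit 1310720) (Steps.bwd (nat_lit 6) (Steps.fwd (nat_lit 262144) (Steps.bwd (nat_lit 6) (Steps.fwd (nat_lit 262144) (Steps.fwd (nat_lit 524288) (Steps.bwd (nat_lit 1) (Steps.fwd (nat_lit 1572864) (Steps.fwd (nat_lit 262144) (Steps.fwd (nat_lit 524288) (Steps.fwd (nat_lit 262144) Steps.nil))))))))))))) (nat_lit 35) (nat_lit 12),
  Rule.mk (nat_lit 6) (nat_lit 274) (Steps.bwd (nat_lit 1) (Steps.fwd (nat_lit 524288) (Steps.bwd (nat_lit 1) (Steps.fwd (nat_lit 1572864) (Steps.fwd (nat_lit 262144) (Steps.fwd (nat_lit 524288) (Steps.bwd (nat_lit 1) (Steps.fwd (nat_lit 1572864) (Steps.bwd (nat_lit 1) (Steps.fwd (nat_lit 524288) (Steps.fwd (nat_lit 1310720) (Steps.fwd (nat_lit 1572864) (Steps.fwd (nat_lit 262144) Steps.nil))))))))))))) (nat_lit 35) (nat_lit 4),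
  Rule.mk (nat_lit 6) (nat_lit 154) (Steps.bwd (nat_lit 3) (Steps.fwd (nat_lit 1310720) (Steps.fwd (nat_lit 1572864) (Steps.fwd (nat_lit 524288) (Steps.bwd (nat_lit 5) (Steps.bwd (nat_lit 3) (Steps.fwd (nat_lit 1835008) Steps.nil))))))) (nat_lit 83) (nat_lit 2),
  Rule.mk (nat_lit 6) (nat_lit 274) (Steps.bwd (nat_lit 1) (Steps.fwd (nat_lit 1572864) (Steps.bwd (nat_lit 5) (Steps.fwd (nat_lit 786432) (Steps.fwd (nat_lit 262144) (Steps.bwd (nat_lit 6) (Steps.bwd (nat_lit 1) (Steps.bwd (nat_lit 2) (Steps.bwd (nat_lit 1) (Steps.fwd (nat_lit 1572864) (Steps.fwd (nat_lit 262144) (Steps.bwd (nat_lit 2) (Steps.fwd (nat_lit 262144) Steps.nil))))))))))))) (nat_lit 34) (nat_lit 11),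
  Rule.mk (nat_lit 6) (nat_lit 154) (Steps.bwd (nat_lit 3) (Steps.fwd (nat_lit 1310720) (Steps.bwd (nat_lit 3) (Steps.fwd (nat_lit 1835008) (Steps.fwd (nat_lit 1572864) (Steps.bwd (nat_lit 3) (Steps.fwd (nat_lit 1310720) Steps.nil))))))) (nat_lit 83) (nat_lit 5),
  Rule.mk (nat_lit 6) (nat_lit 274) (Steps.bwd (nat_lit 1) (Steps.bwd (nat_lit 6) (Steps.fwd (nat_lit 1310720) (Steps.fwd (nat_lit 786432) (Steps.fwd (nat_lit 262144) (Steps.bwd (nat_lit 6) (Steps.fwd (nat_lit 262144) (Steps.bwd (nat_lit 2) (Steps.bwd (nat_lit 1) (Steps.fwd (nat_lit 1572864) (Steps.fwd (nat_lit 262144) (Steps.fwd (nat_lit 786432) (Steps.fwd (nat_lit 262144) Steps.nil))))))))))))) (nat_lit 34) (nat_lit 11),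
  Rule.mk (nat_lit 6) (nat_lit 274) (Steps.bwd (nat_lit 1) (Steps.fwd (nat_lit 1572864) (Steps.fwd (nat_lit 1310720) (Steps.bwd (nat_lit 2) (Steps.fwd (nat_lit 262144) (Steps.bwd (nat_lit 6) (Steps.bwd (nat_lit 1) (Steps.fwd (nat_lit 786432) (Steps.bwd (nat_lit 1) (Steps.bwd (nat_lit 6) (Steps.bwd (nat_lit 1) (Steps.bwd (nat_lit 2) (Steps.fwd (nat_lit 262144) Steps.nil))))))))))))) (nat_lit 34) (nat_lit 11),
  Rule.mk (nat_lit 3) (nat_lit 154) (Steps.bwd (nat_lit 1) (Steps.bwd (nat_lit 3) (Steps.fwd (nat_lit 1310720) (Steps.fwd (nat_lit 262144) (Steps.bwd (nat_lit 3) (Steps.fwd (nat_lit 262144) (Steps.fwd (nat_lit 1310720) Steps.nil))))))) (nat_lit 71) (nat_lit 2),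
  Rule.mk (nat_lit 4) (nat_lit 114) (Steps.bwd (nat_lit 2) (Steps.fwd (nat_lit 1835008) (Steps.fwd (nat_lit 1048576) (Steps.fwd (nat_lit 786432) (Steps.bwd (nat_lit 7) Steps.nil))))) (nat_lit 64) (nat_lit 0),
  Rule.mk (nat_lit 6) (nat_lit 274) (Steps.bwd (nat_lit 1) (Steps.fwd (nat_lit 1572864) (Steps.fwd (nat_lit 1310720) (Steps.fwd (nat_lit 786432) (Steps.fwd (nat_lit 262144) (Steps.bwd (nat_lit 6) (Steps.fwd (nat_lit 262144) (Steps.bwd (nat_lit 2) (Steps.bwd (nat_lit 1) (Steps.fwd (nat_lit 1572864) (Steps.fwd (nat_lit 262144) (Steps.fwd (nat_lit 786432) (Steps.fwd (nat_lit 262144) Steps.nil))))))))))))) (nat_lit 34) (nat_lit 11),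
  Rule.mk (nat_lit 6) (nat_lit 274) (Steps.bwd (nat_lit 1) (Steps.fwd (nat_lit 1572864) (Steps.bwd (nat_lit 5) (Steps.fwd (nat_lit 786432) (Steps.bwd (nat_lit 1) (Steps.fwd (nat_lit 1572864) (Steps.fwd (nat_lit 262144) (Steps.bwd (nat_lit 2) (Steps.bwd (nat_lit 1) (Steps.bwd (nat_lit 6) (Steps.fwd (nat_lit 262144) (Steps.fwd (nat_lit 786432) (Steps.fwd (nat_lit 262144) Steps.nil))))))))))))) (nat_lit 34) (nat_lit 11),
  Rule.mk (nat_lit 3) (nat_lit 154) (Steps.bwd (nat_lit 1) (Steps.bwd (nat_lit 3) (Steps.bwd (nat_lit 5) (Steps.bwd (nat_lit 1) (Steps.bwd (nat_lit 3) (Steps.bwd (nat_lit 1) (Steps.fwd (nat_lit 1310720) Steps.nil))))))) (nat_lit 71) (nat_lit 2),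
  Rule.mk (nat_lit 1) (nat_lit 274) (Steps.bwd (nat_lit 6) (Steps.bwd (nat_lit 1) (Steps.bwd (nat_lit 2) (Steps.fwd (nat_lit 262144) (Steps.bwd (nat_lit 6) (Steps.bwd (nat_lit 1) (Steps.bwd (nat_lit 6) (Steps.bwd (nat_lit 5) (Steps.bwd (nat_lit 2) (Steps.bwd (nat_lit 1) (Steps.fwd (nat_lit 1572864) (Steps.bwd (nat_lit 1) (Steps.fwd (nat_lit 786432) Steps.nil))))))))))))) (nat_lit 34) (nat_lit 6),
  Rule.mk (nat_lit 1) (nat_lit 274) (Steps.fwd (nat_lit 1572864) (Steps.bwd (nat_lit 1) (Steps.fwd (nat_lit 524288) (Steps.fwd (nat_lit 262144) (Steps.bwd (nat_lit 6) (Steps.bwd (nat_lit 1) (Steps.fwd (nat_lit 524288) (Steps.fwd (nat_lit 262144) (Steps.fwd (nat_lit 1572864) (Steps.bwd (nat_lit 1) (Steps.fwd (nat_lit 524288) (Steps.fwd (nat_lit 1310720) (Steps.fwd (nat_lit 1572864) Steps.nil))))))))))))) (nat_lit 35) (nat_lit 3),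
  Rule.mk (nat_lit 8) (nat_lit 114) (Steps.bwd (nat_lit 2) (Steps.fwd (nat_lit 262144) (Steps.fwd (nat_lit 524288) (Steps.fwd (nat_lit 2097152) (Steps.bwd (nat_lit 1) Steps.nil))))) (nat_lit 104) (nat_lit 1),
  Rule.mk (nat_lit 1) (nat_lit 274) (Steps.bwd (nat_lit 6) (Steps.bwd (nat_lit 1) (Steps.bwd (nat_lit 2) (Steps.fwd (nat_lit 262144) (Steps.bwd (nat_lit 6) (Steps.bwd (nat_lit 1) (Steps.bwd (nat_lit 6) (Steps.bwd (nat_lit 5) (Steps.bwd (nat_lit 2) (Steps.fwd (nat_lit 262144) (Steps.bwd (nat_lit 6) (Steps.fwd (nat_lit 262144) (Steps.fwd (nat_lit 786432) Steps.nil))))))))))))) (nat_lit 34) (nat_lit 6),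
  Rule.mk (nat_lit 1) (nat_lit 274) (Steps.fwd (nat_lit 1572864) (Steps.bwd (nat_lit 1) (Steps.fwd (nat_lit 524288) (Steps.fwd (nat_lit 262144) (Steps.bwd (nat_lit 6) (Steps.bwd (nat_lit 1) (Steps.bwd (nat_lit 3) (Steps.fwd (nat_lit 262144) (Steps.fwd (nat_lit 1572864) (Steps.bwd (nat_lit 1) (Steps.fwd (nat_lit 524288) (Steps.bwd (nat_lit 5) (Steps.fwd (nat_lit 1572864) Steps.nil))))))))))))) (nat_lit 35) (nat_lit 3),
  Rule.mk (nat_lit 3) (nat_lit 154) (Steps.bwd (nat_lit 1) (Steps.bwd (nat_lit 3) (Steps.bwd (nat_lit 5) (Steps.fwd (nat_lit 262144) (Steps.bwd (nat_lit 3) (Steps.bwd (nat_lit 1) (Steps.fwd (nat_lit 1310720) Steps.nil))))))) (nat_lit 71) (nat_lit 2),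
  Rule.mk (nat_lit 6) (nat_lit 274) (Steps.bwd (nat_lit 1) (Steps.fwd (nat_lit 1572864) (Steps.bwd (nat_lit 5) (Steps.bwd (nat_lit 2) (Steps.fwd (nat_lit 262144) (Steps.bwd (nat_lit 6) (Steps.bwd (nat_lit 1) (Steps.fwd (nat_lit 786432) (Steps.bwd (nat_lit 1) (Steps.bwd (nat_lit 6) (Steps.bwd (nat_lit 1) (Steps.bwd (nat_lit 2) (Steps.fwd (nat_lit 262144) Steps.nil))))))))))))) (nat_lit 34) (nat_lit 11),
  Rule.mk (nat_lit 6) (nat_lit 274) (Steps.bwd (nat_lit 1) (Steps.fwd (nat_lit 524288) (Steps.fwd (nat_lit 1310720) (Steps.fwd (nat_lit 1572864) (Steps.fwd (nat_lit 262144) (Steps.bwd (nat_lit 6) (Steps.fwd (nat_lit 262144) (Steps.fwd (nat_lit 524288) (Steps.bwd (nat_lit 1) (Steps.fwd (nat_lit 1572864) (Steps.fwd (nat_lit 262144) (Steps.bwd (nat_lit 3) (Steps.fwd (nat_lit 262144) Steps.nil))))))))))))) (nat_lit 35) (nat_lit 12),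
  Rule.mk (nat_lit 6) (nat_lit 274) (Steps.bwd (nat_lit 1) (Steps.fwd (nat_lit 524288) (Steps.fwd (nat_lit 1310720) (Steps.fwd (nat_lit 1572864) (Steps.fwd (nat_lit 262144) (Steps.bwd (nat_lit 6) (Steps.fwd (nat_lit 262144) (Steps.fwd (nat_lit 524288) (Steps.bwd (nat_lit 1) (Steps.fwd (nat_lit 1572864) (Steps.fwd (nat_lit 262144) (Steps.fwd (nat_lit 524288) (Steps.fwd (nat_lit 262144) Steps.nil))))))))))))) (nat_lit 35) (nat_lit 12),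
  Rule.mk (nat_lit 4) (nat_lit 114) (Steps.bwd (nat_lit 3) (Steps.fwd (nat_lit 1835008) (Steps.fwd (nat_lit 1048576) (Steps.fwd (nat_lit 524288) (Steps.fwd (nat_lit 1835008) Steps.nil))))) (nat_lit 57) (nat_lit 2),
  Rule.mk (nat_lit 3) (nat_lit 154) (Steps.bwd (nat_lit 1) (Steps.bwd (nat_lit 3) (Steps.bwd (nat_lit 5) (Steps.fwd (nat_lit 262144) (Steps.bwd (nat_lit 3) (Steps.fwd (nat_lit 262144) (Steps.bwd (nat_lit 5) Steps.nil))))))) (nat_lit 71) (nat_lit 2),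
  Rule.mk (nat_lit 6) (nat_lit 274) (Steps.bwd (nat_lit 1) (Steps.bwd (nat_lit 2) (Steps.bwd (nat_lit 1) (Steps.fwd (nat_lit 1572864) (Steps.fwd (nat_lit 262144) (Steps.bwd (nat_lit 2) (Steps.bwd (nat_lit 1) (Steps.bwd (nat_lit 6) (Steps.bwd (nat_lit 1) (Steps.bwd (nat_lit 6) (Steps.fwd (nat_lit 1310720) (Steps.fwd (nat_lit 786432) (Steps.fwd (nat_lit 262144) Steps.nil))))))))))))) (nat_lit 34) (nat_lit 3),
  Rule.mk (nat_lit 6) (nat_lit 94) (Steps.fwd (nat_lit 1310720) (Steps.bwd (nat_lit 6) (Steps.fwd (nat_lit 1310720) (Steps.fwd (nat_lit 1835008) Steps.nil)))) (nat_lit 24) (nat_lit 1),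
  Rule.mk (nat_lit 6) (nat_lit 274) (Steps.bwd (nat_lit 1) (Steps.bwd (nat_lit 3) (Steps.fwd (nat_lit 1310720) (Steps.fwd (nat_lit 1572864) (Steps.fwd (nat_lit 262144) (Steps.bwd (nat_lit 6) (Steps.fwd (nat_lit 262144) (Steps.bwd (nat_lit 3) (Steps.bwd (nat_lit 1) (Steps.fwd (nat_lit 1572864) (Steps.fwd (nat_lit 262144) (Steps.fwd (nat_lit 524288) (Steps.fwd (nat_lit 262144) Steps.nil))))))))))))) (nat_lit 35) (nat_lit 12),
  Rule.mk (nat_lit 1) (nat_lit 274) (Steps.fwd (nat_lit 1572864) (Steps.bwd (nat_lit 1) (Steps.fwd (nat_lit 524288) (Steps.fwd (nat_lit 262144) (Steps.bwd (nat_lit 6) (Steps.bwd (nat_lit 1) (Steps.fwd (nat_lit 524288) (Steps.fwd (nat_lit 262144) (Steps.fwd (nat_lit 1572864) (Steps.bwd (nat_lit 1) (Steps.fwd (nat_lit 524288) (Steps.bwd (nat_lit 5) (Steps.fwd (nat_lit 1572864) Steps.nil))))))))))))) (nat_lit 35) (nat_lit 3),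
  Rule.mk (nat_lit 8) (nat_lit 114) (Steps.fwd (nat_lit 786432) (Steps.fwd (nat_lit 262144) (Steps.fwd (nat_lit 524288) (Steps.fwd (nat_lit 2097152) (Steps.bwd (nat_lit 1) Steps.nil))))) (nat_lit 104) (nat_lit 1),
  Rule.mk (nat_lit 6) (nat_lit 274) (Steps.bwd (nat_lit 1) (Steps.bwd (nat_lit 3) (Steps.bwd (nat_lit 1) (Steps.fwd (nat_lit 1572864) (Steps.fwd (nat_lit 262144) (Steps.fwd (nat_lit 524288) (Steps.bwd (nat_lit 1) (Steps.fwd (nat_lit 1572864) (Steps.bwd (nat_lit 1) (Steps.fwd (nat_lit 524288) (Steps.bwd (nat_lit 5) (Steps.fwd (nat_lit 1572864) (Steps.fwd (nat_lit 262144) Steps.nil))))))))))))) (nat_lit 35) (nat_lit 4),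
  Rule.mk (nat_lit 3) (nat_lit 154) (Steps.bwd (nat_lit 1) (Steps.bwd (nat_lit 3) (Steps.bwd (nat_lit 5) (Steps.fwd (nat_lit 262144) (Steps.bwd (nat_lit 3) (Steps.fwd (nat_lit 262144) (Steps.fwd (nat_lit 1310720) Steps.nil))))))) (nat_lit 71) (nat_lit 2),
  Rule.mk (nat_lit 4) (nat_lit 114) (Steps.bwd (nat_lit 2) (Steps.fwd (nat_lit 1835008) (Steps.fwd (nat_lit 1048576) (Steps.fwd (nat_lit 786432) (Steps.fwd (nat_lit 1835008) Steps.nil))))) (nat_lit 64) (nat_lit 0),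
  Rule.mk (nat_lit 6) (nat_lit 274) (Steps.bwd (nat_lit 1) (Steps.bwd (nat_lit 2) (Steps.bwd (nat_lit 1) (Steps.fwd (nat_lit 1572864) (Steps.fwd (nat_lit 262144) (Steps.bwd (nat_lit 2) (Steps.bwd (nat_lit 1) (Steps.bwd (nat_lit 6) (Steps.bwd (nat_lit 1) (Steps.fwd (nat_lit 1572864) (Steps.fwd (nat_lit 1310720) (Steps.fwd (nat_lit 786432) (Steps.fwd (nat_lit 262144) Steps.nil))))))))))))) (nat_lit 34) (nat_lit 3),
  Rule.mk (nat_lit 1) (nat_lit 154) (Steps.bwd (nat_lit 5) (Steps.fwd (nat_lit 786432) (Steps.bwd (nat_lit 1) (Steps.bwd (nat_lit 2) (Steps.fwd (nat_lit 1310720) (Steps.fwd (nat_lit 262144) (Steps.bwd (nat_lit 2) Steps.nil))))))) (nat_lit 70) (nat_lit 3),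
  Rule.mk (nat_lit 6) (nat_lit 274) (Steps.bwd (nat_lit 1) (Steps.bwd (nat_lit 6) (Steps.fwd (nat_lit 1310720) (Steps.fwd (nat_lit 786432) (Steps.fwd (nat_lit 262144) (Steps.bwd (nat_lit 6) (Steps.bwd (nat_lit 1) (Steps.fwd (nat_lit 786432) (Steps.bwd (nat_lit 1) (Steps.bwd (nat_lit 6) (Steps.fwd (nat_lit 262144) (Steps.bwd (nat_lit 2) (Steps.fwd (nat_lit 262144) Steps.nil))))))))))))) (nat_lit 34) (nat_lit 11),
  Rule.mk (nat_lit 1) (nat_lit 114) (Steps.bwd (nat_lit 7) (Steps.fwd (nat_lit 1310720) (Steps.bwd (nat_lit 1) (Steps.fwd (nat_lit 1835008) (Steps.bwd (nat_lit 5) Steps.nil))))) (nat_lit 53) (nat_lit 0),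
  Rule.mk (nat_lit 6) (nat_lit 274) (Steps.bwd (nat_lit 1) (Steps.fwd (nat_lit 786432) (Steps.fwd (nat_lit 262144) (Steps.fwd (nat_lit 1572864) (Steps.fwd (nat_lit 262144) (Steps.fwd (nat_lit 786432) (Steps.bwd (nat_lit 1) (Steps.bwd (nat_lit 6) (Steps.fwd (nat_lit 262144) (Steps.bwd (nat_lit 6) (Steps.bwd (nat_lit 5) (Steps.fwd (nat_lit 786432) (Steps.fwd (nat_lit 262144) Steps.nil))))))))))))) (nat_lit 34) (nat_lit 3),
  Rule.mk (nat_lit 6) (nat_lit 114) (Steps.bwd (nat_lit 7) (Steps.fwd (nat_lit 524288) (Steps.fwd (nat_lit 1572864) (Steps.bwd (nat_lit 7) (Steps.bwd (nat_lit 2) Steps.nil))))) (nat_lit 62) (nat_lit 2),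
  Rule.mk (nat_lit 6) (nat_lit 274) (Steps.bwd (nat_lit 1) (Steps.bwd (nat_lit 3) (Steps.fwd (nat_lit 1310720) (Steps.bwd (nat_lit 6) (Steps.bwd (nat_lit 1) (Steps.fwd (nat_lit 1572864) (Steps.fwd (nat_lit 262144) (Steps.bwd (nat_lit 3) (Steps.bwd (nat_lit 1) (Steps.fwd (nat_lit 1572864) (Steps.bwd (nat_lit 1) (Steps.bwd (nat_lit 3) (Steps.fwd (nat_lit 262144) Steps.nil))))))))))))) (nat_lit 35) (nat_lit 12),
  Rule.mk (nat_lit 6) (nat_lit 274) (Steps.bwd (nat_lit 1) (Steps.bwd (nat_lit 2) (Steps.fwd (nat_lit 262144) (Steps.fwd (nat_lit 1572864) (Steps.bwd (nat_lit 1) (Steps.bwd (nat_lit 6) (Steps.fwd (nat_lit 1310720) (Steps.bwd (nat_lit 2) (Steps.bwd (nat_lit 1) (Steps.fwd (nat_lit 1572864) (Steps.fwd (nat_lit 262144) (Steps.bwd (nat_lit 2) (Steps.bwd (nat_lit 1) Steps.nil))))))))))))) (nat_lit 34) (nat_lit 7),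
  Rule.mk (nat_lit 1) (nat_lit 274) (Steps.bwd (nat_lit 6) (Steps.bwd (nat_lit 1) (Steps.bwd (nat_lit 3) (Steps.fwd (nat_lit 262144) (Steps.fwd (nat_lit 1572864) (Steps.fwd (nat_lit 262144) (Steps.bwd (nat_lit 3) (Steps.fwd (nat_lit 1310720) (Steps.fwd (nat_lit 1572864) (Steps.bwd (nat_lit 1) (Steps.fwd (nat_lit 1572864) (Steps.fwd (nat_lit 262144) (Steps.bwd (nat_lit 3) Steps.nil))))))))))))) (nat_lit 35) (nat_lit 7),
  Rule.mk (nat_lit 6) (nat_lit 274) (Steps.bwd (nat_lit 1) (Steps.bwd (nat_lit 6) (Steps.bwd (nat_lit 5) (Steps.fwd (nat_lit 786432) (Steps.fwd (nat_lit 262144) (Steps.bwd (nat_lit 6) (Steps.fwd (nat_lit 262144) (Steps.bwd (nat_lit 2) (Steps.fwd (nat_lit 262144) (Steps.bwd (nat_lit 6) (Steps.fwd (nat_lit 262144) (Steps.bwd (nat_lit 2) (Steps.bwd (nat_lit 1) Steps.nil))))))))))))) (nat_lit 34) (nat_lit 11),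
  Rule.mk (nat_lit 1) (nat_lit 154) (Steps.bwd (nat_lit 7) (Steps.fwd (nat_lit 524288) (Steps.bwd (nat_lit 1) (Steps.bwd (nat_lit 3) (Steps.fwd (nat_lit 1835008) (Steps.fwd (nat_lit 262144) (Steps.bwd (nat_lit 3) Steps.nil))))))) (nat_lit 73) (nat_lit 0),
  Rule.mk (nat_lit 1) (nat_lit 154) (Steps.fwd (nat_lit 524288) (Steps.bwd (nat_lit 1) (Steps.bwd (nat_lit 5) (Steps.bwd (nat_lit 3) (Steps.fwd (nat_lit 262144) (Steps.bwd (nat_lit 3) (Steps.fwd (nat_lit 1310720) Steps.nil))))))) (nat_lit 71) (nat_lit 6),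
  Rule.mk (nat_lit 1) (nat_lit 154) (Steps.fwd (nat_lit 524288) (Steps.bwd (nat_lit 1) (Steps.fwd (nat_lit 1835008) (Steps.bwd (nat_lit 3) (Steps.fwd (nat_lit 262144) (Steps.bwd (nat_lit 3) (Steps.fwd (nat_lit 1835008) Steps.nil))))))) (nat_lit 73) (nat_lit 6),
  Rule.mk (nat_lit 1) (nat_lit 154) (Steps.bwd (nat_lit 6) (Steps.bwd (nat_lit 1) (Steps.fwd (nat_lit 1048576) (Steps.bwd (nat_lit 1) (Steps.fwd (nat_lit 1572864) (Steps.fwd (nat_lit 262144) (Steps.bwd (nat_lit 4) Steps.nil))))))) (nat_lit 74) (nat_lit 3)]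
noncomputable def R_30 : List (Rule) := [Rule.mk (nat_lit 6) (nat_lit 274) (Steps.bwd (nat_lit 1) (Steps.fwd (nat_lit 786432) (Steps.fwd (nat_lit 262144) (Steps.bwd (nat_lit 6) (Steps.bwd (nat_lit 1) (Steps.bwd (nat_lit 2) (Steps.bwd (nat_lit 1) (Steps.fwd (nat_lit 1572864) (Steps.fwd (nat_lit 262144) (Steps.fwd (nat_lit 1572864) (Steps.fwd (nat_lit 1310720) (Steps.fwd (nat_lit 786432) (Steps.fwd (nat_lit 262144) Steps.nil))))))))))))) (nat_lit 34) (nat_lit 3),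
  Rule.mk (nat_lit 6) (nat_lit 274) (Steps.bwd (nat_lit 1) (Steps.fwd (nat_lit 1572864) (Steps.fwd (nat_lit 1310720) (Steps.bwd (nat_lit 2) (Steps.bwd (nat_lit 1) (Steps.bwd (nat_lit 6) (Steps.fwd (nat_lit 262144) (Steps.bwd (nat_lit 2) (Steps.bwd (nat_lit 1) (Steps.fwd (nat_lit 1572864) (Steps.bwd (nat_lit 1) (Steps.bwd (nat_lit 2) (Steps.fwd (nat_lit 262144) Steps.nil))))))))))))) (nat_lit 34) (nat_lit 11),
  Rule.mk (nat_lit 6) (nat_lit 114) (Steps.bwd (nat_lit 2) (Steps.fwd (nat_lit 1835008) (Steps.bwd (nat_lit 6) (Steps.fwd (nat_lit 524288) (Steps.fwd (nat_lit 1835008) Steps.nil))))) (nat_lit 63) (nat_lit 2),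
  Rule.mk (nat_lit 6) (nat_lit 274) (Steps.bwd (nat_lit 1) (Steps.bwd (nat_lit 3) (Steps.fwd (nat_lit 262144) (Steps.fwd (nat_lit 1572864) (Steps.bwd (nat_lit 1) (Steps.bwd (nat_lit 3) (Steps.fwd (nat_lit 1310720) (Steps.fwd (nat_lit 1572864) (Steps.bwd (nat_lit 1) (Steps.fwd (nat_lit 1572864) (Steps.fwd (nat_lit 262144) (Steps.bwd (nat_lit 3) (Steps.bwd (nat_lit 1) Steps.nil))))))))))))) (nat_lit 35) (nat_lit 8),
  Rule.mk (nat_lit 1) (nat_lit 274) (Steps.bwd (nat_lit 6) (Steps.bwd (nat_lit 1) (Steps.bwd (nat_lit 2) (Steps.fwd (nat_lit 262144) (Steps.fwd (nat_lit 1572864) (Steps.bwd (nat_lit 1) (Steps.bwd (nat_lit 6) (Steps.bwd (nat_lit 5) (Steps.bwd (nat_lit 2) (Steps.bwd (nat_lit 1) (Steps.bwd (nat_lit 6) (Steps.fwd (nat_lit 262144) (Steps.bwd (nat_lit 2) Steps.nil))))))))))))) (nat_lit 34) (nat_lit 6),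
  Rule.mk (nat_lit 6) (nat_lit 274) (Steps.bwd (nat_lit 1) (Steps.fwd (nat_lit 524288) (Steps.bwd (nat_lit 1) (Steps.fwd (nat_lit 1572864) (Steps.fwd (nat_lit 262144) (Steps.fwd (nat_lit 524288) (Steps.bwd (nat_lit 1) (Steps.bwd (nat_lit 6) (Steps.bwd (nat_lit 1) (Steps.bwd (nat_lit 3) (Steps.fwd (nat_lit 1310720) (Steps.bwd (nat_lit 6) (Steps.fwd (nat_lit 262144) Steps.nil))))))))))))) (nat_lit 35) (nat_lit 4),
  Rule.mk (nat_lit 6) (nat_lit 274) (Steps.bwd (nat_lit 1) (Steps.fwd (nat_lit 1572864) (Steps.bwd (nat_lit 5) (Steps.bwd (nat_lit 2) (Steps.fwd (nat_lit 262144) (Steps.bwd (nat_lit 6) (Steps.bwd (nat_lit 1) (Steps.bwd (nat_lit 2) (Steps.bwd (nat_lit 1) (Steps.bwd (nat_lit 6) (Steps.fwd (nat_lit 262144) (Steps.bwd (nat_lit 2) (Steps.bwd (nat_lit 1) Steps.nil))))))))))))) (nat_lit 34) (nat_lit 11),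
  Rule.mk (nat_lit 1) (nat_lit 274) (Steps.bwd (nat_lit 6) (Steps.bwd (nat_lit 1) (Steps.bwd (nat_lit 3) (Steps.fwd (nat_lit 262144) (Steps.fwd (nat_lit 1572864) (Steps.bwd (nat_lit 1) (Steps.bwd (nat_lit 3) (Steps.bwd (nat_lit 5) (Steps.fwd (nat_lit 1572864) (Steps.bwd (nat_lit 1) (Steps.fwd (nat_lit 1572864) (Steps.fwd (nat_lit 262144) (Steps.bwd (nat_lit 3) Steps.nil))))))))))))) (nat_lit 35) (nat_lit 7),
  Rule.mk (nat_lit 1) (nat_lit 74) (Steps.fwd (nat_lit 1310720) (Steps.fwd (nat_lit 262144) (Steps.fwd (nat_lit 1310720) Steps.nil))) (nat_lit 18) (nat_lit 1),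
  Rule.mk (nat_lit 1) (nat_lit 114) (Steps.bwd (nat_lit 7) (Steps.fwd (nat_lit 1310720) (Steps.fwd (nat_lit 262144) (Steps.bwd (nat_lit 7) (Steps.fwd (nat_lit 1310720) Steps.nil))))) (nat_lit 53) (nat_lit 0),
  Rule.mk (nat_lit 1) (nat_lit 154) (Steps.fwd (nat_lit 1048576) (Steps.bwd (nat_lit 1) (Steps.bwd (nat_lit 6) (Steps.fwd (nat_lit 262144) (Steps.bwd (nat_lit 4) (Steps.bwd (nat_lit 1) (Steps.fwd (nat_lit 1572864) Steps.nil))))))) (nat_lit 74) (nat_lit 1),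
  Rule.mk (nat_lit 6) (nat_lit 274) (Steps.bwd (nat_lit 1) (Steps.fwd (nat_lit 786432) (Steps.fwd (nat_lit 262144) (Steps.bwd (nat_lit 6) (Steps.fwd (nat_lit 262144) (Steps.bwd (nat_lit 2) (Steps.bwd (nat_lit 1) (Steps.bwd (nat_lit 6) (Steps.fwd (nat_lit 262144) (Steps.fwd (nat_lit 1572864) (Steps.fwd (nat_lit 1310720) (Steps.fwd (nat_lit 786432) (Steps.fwd (nat_lit 262144) Steps.nil))))))))))))) (nat_lit 34) (nat_lit 3),
  Rule.mk (nat_lit 6) (nat_lit 274) (Steps.bwd (nat_lit 1) (Steps.bwd (nat_lit 6) (Steps.fwd (nat_lit 1310720) (Steps.fwd (nat_lit 786432) (Steps.fwd (nat_lit 262144) (Steps.bwd (nat_lit 6) (Steps.bwd (nat_lit 1) (Steps.bwd (nat_lit 2) (Steps.bwd (nat_lit 1) (Steps.fwd (nat_lit 1572864) (Steps.fwd (nat_lit 262144) (Steps.bwd (nat_lit 2) (Steps.fwd (nat_lit 262144) Steps.nil))))))))))))) (nat_lit 34) (nat_lit 11),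
  Rule.mk (nat_lit 6) (nat_lit 274) (Steps.bwd (nat_lit 1) (Steps.bwd (nat_lit 3) (Steps.fwd (nat_lit 262144) (Steps.fwd (nat_lit 1572864) (Steps.bwd (nat_lit 1) (Steps.bwd (nat_lit 3) (Steps.bwd (nat_lit 5) (Steps.fwd (nat_lit 1572864) (Steps.bwd (nat_lit 1) (Steps.fwd (nat_lit 1572864) (Steps.fwd (nat_lit 262144) (Steps.bwd (nat_lit 3) (Steps.bwd (nat_lit 1) Steps.nil))))))))))))) (nat_lit 35) (nat_lit 8),
  Rule.mk (nat_lit 6) (nat_lit 274) (Steps.bwd (nat_lit 1) (Steps.fwd (nat_lit 786432) (Steps.fwd (nat_lit 262144) (Steps.bwd (nat_lit 6) (Steps.fwd (nat_lit 262144) (Steps.fwd (nat_lit 786432) (Steps.bwd (nat_lit 1) (Steps.fwd (nat_lit 1572864) (Steps.fwd (nat_lit 262144) (Steps.bwd (nat_lit 6) (Steps.fwd (nat_lit 1310720) (Steps.fwd (nat_lit 786432) (Steps.fwd (nat_lit 262144) Steps.nil))))))))))))) (nat_lit 34) (nat_lit 3),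
  Rule.mk (nat_lit 6) (nat_lit 274) (Steps.bwd (nat_lit 1) (Steps.bwd (nat_lit 6) (Steps.bwd (nat_lit 5) (Steps.fwd (nat_lit 786432) (Steps.fwd (nat_lit 262144) (Steps.bwd (nat_lit 6) (Steps.fwd (nat_lit 262144) (Steps.fwd (nat_lit 786432) (Steps.bwd (nat_lit 1) (Steps.bwd (nat_lit 6) (Steps.fwd (nat_lit 262144) (Steps.bwd (nat_lit 2) (Steps.fwd (nat_lit 262144) Steps.nil))))))))))))) (nat_lit 34) (nat_lit 11),
  Rule.mk (nat_lit 6) (nat_lit 114) (Steps.bwd (nat_lit 7) (Steps.fwd (nat_lit 524288) (Steps.bwd (nat_lit 6) (Steps.bwd (nat_lit 7) (Steps.bwd (nat_lit 2) Steps.nil))))) (nat_lit 62) (nat_lit 2),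
  Rule.mk (nat_lit 3) (nat_lit 154) (Steps.bwd (nat_lit 1) (Steps.bwd (nat_lit 3) (Steps.bwd (nat_lit 7) (Steps.fwd (nat_lit 262144) (Steps.bwd (nat_lit 3) (Steps.fwd (nat_lit 262144) (Steps.fwd (nat_lit 1835008) Steps.nil))))))) (nat_lit 73) (nat_lit 2),
  Rule.mk (nat_lit 6) (nat_lit 274) (Steps.bwd (nat_lit 1) (Steps.bwd (nat_lit 3) (Steps.bwd (nat_lit 5) (Steps.bwd (nat_lit 6) (Steps.bwd (nat_lit 1) (Steps.bwd (nat_lit 6) (Steps.fwd (nat_lit 262144) (Steps.fwd (nat_lit 524288) (Steps.bwd (nat_lit 1) (Steps.fwd (nat_lit 1572864) (Steps.bwd (nat_lit 1) (Steps.bwd (nat_lit 3) (Steps.fwd (nat_lit 262144) Steps.nil))))))))))))) (nat_lit 35) (nat_lit 12),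
  Rule.mk (nat_lit 6) (nat_lit 274) (Steps.bwd (nat_lit 1) (Steps.bwd (nat_lit 2) (Steps.fwd (nat_lit 262144) (Steps.fwd (nat_lit 1572864) (Steps.bwd (nat_lit 1) (Steps.bwd (nat_lit 6) (Steps.fwd (nat_lit 1310720) (Steps.bwd (nat_lit 2) (Steps.bwd (nat_lit 1) (Steps.bwd (nat_lit 6) (Steps.fwd (nat_lit 262144) (Steps.bwd (nat_lit 2) (Steps.bwd (nat_lit 1) Steps.nil))))))))))))) (nat_lit 34) (nat_lit 7),
  Rule.mk (nat_lit 1) (nat_lit 154) (Steps.fwd (nat_lit 524288) (Steps.bwd (nat_lit 1) (Steps.bwd (nat_lit 7) (Steps.bwd (nat_lit 3) (Steps.fwd (nat_lit 262144) (Steps.bwd (nat_lit 3) (Steps.fwd (nat_lit 1835008) Steps.nil))))))) (nat_lit 73) (nat_lit 6),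
  Rule.mk (nat_lit 3) (nat_lit 154) (Steps.bwd (nat_lit 1) (Steps.bwd (nat_lit 3) (Steps.bwd (nat_lit 7) (Steps.fwd (nat_lit 262144) (Steps.bwd (nat_lit 3) (Steps.fwd (nat_lit 262144) (Steps.bwd (nat_lit 7) Steps.nil))))))) (nat_lit 73) (nat_lit 2),
  Rule.mk (nat_lit 6) (nat_lit 114) (Steps.bwd (nat_lit 7) (Steps.bwd (nat_lit 2) (Steps.bwd (nat_lit 6) (Steps.bwd (nat_lit 7) (Steps.bwd (nat_lit 3) Steps.nil))))) (nat_lit 62) (nat_lit 5),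
  Rule.mk (nat_lit 6) (nat_lit 274) (Steps.bwd (nat_lit 1) (Steps.bwd (nat_lit 3) (Steps.fwd (nat_lit 1310720) (Steps.bwd (nat_lit 6) (Steps.fwd (nat_lit 262144) (Steps.bwd (nat_lit 6) (Steps.fwd (nat_lit 262144) (Steps.fwd (nat_lit 524288) (Steps.bwd (nat_lit 1) (Steps.bwd (nat_lit 6) (Steps.fwd (nat_lit 262144) (Steps.fwd (nat_lit 524288) (Steps.bwd (nat_lit 1) Steps.nil))))))))))))) (nat_lit 35) (nat_lit 12),
  Rule.mk (nat_lit 6) (nat_lit 114) (Steps.bwd (nat_lit 3) (Steps.fwd (nat_lit 1048576) (Steps.bwd (nat_lit 5) (Steps.bwd (nat_lit 3) (Steps.fwd (nat_lit 1048576) Steps.nil))))) (nat_lit 59) (nat_lit 2),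
  Rule.mk (nat_lit 1) (nat_lit 274) (Steps.bwd (nat_lit 6) (Steps.bwd (nat_lit 1) (Steps.bwd (nat_lit 2) (Steps.fwd (nat_lit 262144) (Steps.fwd (nat_lit 1572864) (Steps.fwd (nat_lit 262144) (Steps.bwd (nat_lit 6) (Steps.bwd (nat_lit 5) (Steps.bwd (nat_lit 2) (Steps.bwd (nat_lit 1) (Steps.bwd (nat_lit 6) (Steps.fwd (nat_lit 262144) (Steps.bwd (nat_lit 2) Steps.nil))))))))))))) (nat_lit 34) (nat_lit 6),
  Rule.mk (nat_lit 6) (nat_lit 274) (Steps.bwd (nat_lit 1) (Steps.fwd (nat_lit 1572864) (Steps.bwd (nat_lit 5) (Steps.fwd (nat_lit 786432) (Steps.fwd (nat_lit 262144) (Steps.bwd (nat_lit 6) (Steps.fwd (nat_lit 262144) (Steps.fwd (nat_lit 786432) (Steps.bwd (nat_lit 1) (Steps.bwd (nat_lit 6) (Steps.fwd (nat_lit 262144) (Steps.bwd (nat_lit 2) (Steps.fwd (nat_lit 262144) Steps.nil))))))))))))) (nat_lit 34) (nat_lit 11),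
  Rule.mk (nat_lit 6) (nat_lit 274) (Steps.bwd (nat_lit 1) (Steps.fwd (nat_lit 524288) (Steps.bwd (nat_lit 1) (Steps.fwd (nat_lit 1572864) (Steps.fwd (nat_lit 262144) (Steps.fwd (nat_lit 524288) (Steps.bwd (nat_lit 1) (Steps.fwd (nat_lit 1572864) (Steps.bwd (nat_lit 1) (Steps.fwd (nat_lit 524288) (Steps.bwd (nat_lit 5) (Steps.fwd (nat_lit 1572864) (Steps.fwd (nat_lit 262144) Steps.nil))))))))))))) (nat_lit 35) (nat_lit 4),
  Rule.mk (nat_lit 6) (nat_lit 274) (Steps.bwd (nat_lit 1) (Steps.bwd (nat_lit 2) (Steps.bwd (nat_lit 1) (Steps.bwd (nat_lit 6) (Steps.fwd (nat_lit 262144) (Steps.bwd (nat_lit 2) (Steps.bwd (nat_lit 1) (Steps.bwd (nat_lit 6) (Steps.bwd (nat_lit 1) (Steps.fwd (nat_lit 1572864) (Steps.bwd (nat_lit 5) (Steps.bwd (nat_lit 2) (Steps.fwd (nat_lit 262144) Steps.nil))))))))))))) (nat_lit 34) (nat_lit 3),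
  Rule.mk (nat_lit 6) (nat_lit 274) (Steps.bwd (nat_lit 1) (Steps.fwd (nat_lit 1572864) (Steps.bwd (nat_lit 5) (Steps.bwd (nat_lit 2) (Steps.fwd (nat_lit 262144) (Steps.bwd (nat_lit 6) (Steps.bwd (nat_lit 1) (Steps.bwd (nat_lit 2) (Steps.bwd (nat_lit 1) (Steps.fwd (nat_lit 1572864) (Steps.fwd (nat_lit 262144) (Steps.bwd (nat_lit 2) (Steps.bwd (nat_lit 1) Steps.nil))))))))))))) (nat_lit 34) (nat_lit 11),
  Rule.mk (nat_lit 6) (nat_lit 274) (Steps.bwd (nat_lit 1) (Steps.fwd (nat_lit 786432) (Steps.fwd (nat_lit 262144) (Steps.bwd (nat_lit 6) (Steps.fwd (nat_lit 262144) (Steps.bwd (nat_lit 2) (Steps.bwd (nat_lit 1) (Steps.bwd (nat_lit 6) (Steps.fwd (nat_lit 262144) (Steps.fwd (nat_lit 1572864) (Steps.bwd (nat_lit 5) (Steps.fwd (nat_lit 786432) (Steps.fwd (nat_lit 262144) Steps.nil))))))))))))) (nat_lit 34) (nat_lit 3),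
  Rule.mk (nat_lit 6) (nat_lit 274) (Steps.bwd (nat_lit 1) (Steps.fwd (nat_lit 786432) (Steps.fwd (nat_lit 262144) (Steps.bwd (nat_lit 6) (Steps.fwd (nat_lit 262144) (Steps.fwd (nat_lit 786432) (Steps.bwd (nat_lit 1) (Steps.bwd (nat_lit 6) (Steps.fwd (nat_lit 262144) (Steps.bwd (nat_lit 6) (Steps.fwd (nat_lit 1310720) (Steps.fwd (nat_lit 786432) (Steps.fwd (nat_lit 262144) Steps.nil))))))))))))) (nat_lit 34) (nat_lit 3),
  Rule.mk (nat_lit 6) (nat_lit 274) (Steps.bwd (nat_lit 1) (Steps.bwd (nat_lit 6) (Steps.fwd (nat_lit 1310720) (Steps.fwd (nat_lit 786432) (Steps.fwd (nat_lit 262144) (Steps.bwd (nat_lit 6) (Steps.fwd (nat_lit 262144) (Steps.fwd (nat_lit 786432) (Steps.bwd (nat_lit 1) (Steps.fwd (nat_lit 1572864) (Steps.fwd (nat_lit 262144) (Steps.bwd (nat_lit 2) (Steps.fwd (nat_lit 262144) Steps.nil))))))))))))) (nat_lit 34) (nat_lit 11),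
  Rule.mk (nat_lit 6) (nat_lit 274) (Steps.bwd (nat_lit 1) (Steps.bwd (nat_lit 3) (Steps.bwd (nat_lit 5) (Steps.bwd (nat_lit 6) (Steps.bwd (nat_lit 1) (Steps.bwd (nat_lit 6) (Steps.fwd (nat_lit 262144) (Steps.fwd (nat_lit 524288) (Steps.fwd (nat_lit 262144) (Steps.fwd (nat_lit 1572864) (Steps.bwd (nat_lit 1) (Steps.bwd (nat_lit 3) (Steps.fwd (nat_lit 262144) Steps.nil))))))))))))) (nat_lit 35) (nat_lit 12),
  Rule.mk (nat_lit 1) (nat_lit 274) (Steps.bwd (nat_lit 6) (Steps.bwd (nat_lit 1) (Steps.bwd (nat_lit 3) (Steps.fwd (nat_lit 262144) (Steps.fwd (nat_lit 1572864) (Steps.bwd (nat_lit 1) (Steps.bwd (nat_lit 3) (Steps.fwd (nat_lit 1310720) (Steps.fwd (nat_lit 1572864) (Steps.bwd (nat_lit 1) (Steps.fwd (nat_lit 1572864) (Steps.fwd (nat_lit 262144) (Steps.bwd (nat_lit 3) Steps.nil))))))))))))) (nat_lit 35) (nat_lit 7),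
  Rule.mk (nat_lit 6) (nat_lit 154) (Steps.bwd (nat_lit 3) (Steps.fwd (nat_lit 1310720) (Steps.bwd (nat_lit 3) (Steps.fwd (nat_lit 1835008) (Steps.bwd (nat_lit 6) (Steps.bwd (nat_lit 3) (Steps.fwd (nat_lit 1310720) Steps.nil))))))) (nat_lit 83) (nat_lit 5),
  Rule.mk (nat_lit 6) (nat_lit 274) (Steps.bwd (nat_lit 1) (Steps.bwd (nat_lit 6) (Steps.fwd (nat_lit 1310720) (Steps.fwd (nat_lit 786432) (Steps.fwd (nat_lit 262144) (Steps.bwd (nat_lit 6) (Steps.fwd (nat_lit 262144) (Steps.bwd (nat_lit 2) (Steps.bwd (nat_lit 1) (Steps.fwd (nat_lit 1572864) (Steps.bwd (nat_lit 1) (Steps.fwd (nat_lit 786432) (Steps.fwd (nat_lit 262144) Steps.nil))))))))))))) (nat_lit 34) (nat_lit 11),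
  Rule.mk (nat_lit 1) (nat_lit 274) (Steps.bwd (nat_lit 6) (Steps.bwd (nat_lit 1) (Steps.bwd (nat_lit 2) (Steps.fwd (nat_lit 262144) (Steps.bwd (nat_lit 6) (Steps.bwd (nat_lit 1) (Steps.bwd (nat_lit 6) (Steps.bwd (nat_lit 5) (Steps.bwd (nat_lit 2) (Steps.bwd (nat_lit 1) (Steps.fwd (nat_lit 1572864) (Steps.fwd (nat_lit 262144) (Steps.bwd (nat_lit 2) Steps.nil))))))))))))) (nat_lit 34) (nat_lit 6),
  Rule.mk (nat_lit 6) (nat_lit 274) (Steps.bwd (nat_lit 1) (Steps.fwd (nat_lit 1572864) (Steps.fwd (nat_lit 1310720) (Steps.bwd (nat_lit 2) (Steps.fwd (nat_lit 262144) (Steps.bwd (nat_lit 6) (Steps.bwd (nat_lit 1) (Steps.bwd (nat_lit 2) (Steps.bwd (nat_lit 1) (Steps.bwd (nat_lit 6) (Steps.bwd (nat_lit 1) (Steps.bwd (nat_lit 2) (Steps.fwd (nat_lit 262144) Steps.nil))))))))))))) (nat_lit 34) (nat_lit 11),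
  Rule.mk (nat_lit 6) (nat_lit 274) (Steps.bwd (nat_lit 1) (Steps.fwd (nat_lit 786432) (Steps.fwd (nat_lit 262144) (Steps.bwd (nat_lit 6) (Steps.fwd (nat_lit 262144) (Steps.fwd (nat_lit 786432) (Steps.bwd (nat_lit 1) (Steps.bwd (nat_lit 6) (Steps.fwd (nat_lit 262144) (Steps.bwd (nat_lit 6) (Steps.bwd (nat_lit 5) (Steps.fwd (nat_lit 786432) (Steps.fwd (nat_lit 262144) Steps.nil))))))))))))) (nat_lit 34) (nat_lit 3),
  Rule.mk (nat_lit 6) (nat_lit 274) (Steps.bwd (nat_lit 1) (Steps.fwd (nat_lit 1572864) (Steps.fwd (nat_lit 1310720) (Steps.fwd (nat_lit 786432) (Steps.fwd (nat_lit 262144) (Steps.bwd (nat_lit 6) (Steps.fwd (nat_lit 262144) (Steps.fwd (nat_lit 786432) (Steps.bwd (nat_lit 1) (Steps.fwd (nat_lit 1572864) (Steps.fwd (nat_lit 262144) (Steps.bwd (nat_lit 2) (Steps.fwd (nat_lit 262144) Steps.nil))))))))))))) (nat_lit 34) (nat_lit 11),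
  Rule.mk (nat_lit 6) (nat_lit 274) (Steps.bwd (nat_lit 1) (Steps.bwd (nat_lit 3) (Steps.bwd (nat_lit 1) (Steps.fwd (nat_lit 1572864) (Steps.fwd (nat_lit 262144) (Steps.fwd (nat_lit 524288) (Steps.bwd (nat_lit 1) (Steps.fwd (nat_lit 1572864) (Steps.bwd (nat_lit 1) (Steps.fwd (nat_lit 524288) (Steps.fwd (nat_lit 1310720) (Steps.bwd (nat_lit 6) (Steps.fwd (nat_lit 262144) Steps.nil))))))))))))) (nat_lit 35) (nat_lit 4),
  Rule.mk (nat_lit 6) (nat_lit 274) (Steps.bwd (nat_lit 1) (Steps.bwd (nat_lit 2) (Steps.bwd (nat_lit 1) (Steps.bwd (nat_lit 6) (Steps.fwd (nat_lit 262144) (Steps.bwd (nat_lit 2) (Steps.bwd (nat_lit 1) (Steps.fwd (nat_lit 1572864) (Steps.bwd (nat_lit 1) (Steps.bwd (nat_lit 6) (Steps.fwd (nat_lit 1310720) (Steps.bwd (nat_lit 2) (Steps.fwd (nat_lit 262144) Steps.nil))))))))))))) (nat_lit 34) (nat_lit 3),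
  Rule.mk (nat_lit 1) (nat_lit 274) (Steps.bwd (nat_lit 6) (Steps.bwd (nat_lit 1) (Steps.bwd (nat_lit 3) (Steps.fwd (nat_lit 262144) (Steps.fwd (nat_lit 1572864) (Steps.bwd (nat_lit 1) (Steps.bwd (nat_lit 3) (Steps.bwd (nat_lit 5) (Steps.fwd (nat_lit 1572864) (Steps.bwd (nat_lit 1) (Steps.bwd (nat_lit 6) (Steps.fwd (nat_lit 262144) (Steps.bwd (nat_lit 3) Steps.nil))))))))))))) (nat_lit 35) (nat_lit 7),
  Rule.mk (nat_lit 6) (nat_lit 154) (Steps.bwd (nat_lit 3) (Steps.fwd (nat_lit 1310720) (Steps.bwd (nat_lit 3) (Steps.fwd (nat_lit 1835008) (Steps.bwd (nat_lit 6) (Steps.bwd (nat_lit 3) (Steps.bwd (nat_lit 5) Steps.nil))))))) (nat_lit 83) (nat_lit 5),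
  Rule.mk (nat_lit 1) (nat_lit 274) (Steps.bwd (nat_lit 6) (Steps.bwd (nat_lit 1) (Steps.bwd (nat_lit 2) (Steps.fwd (nat_lit 262144) (Steps.bwd (nat_lit 6) (Steps.fwd (nat_lit 262144) (Steps.bwd (nat_lit 6) (Steps.bwd (nat_lit 5) (Steps.bwd (nat_lit 2) (Steps.fwd (nat_lit 262144) (Steps.bwd (nat_lit 6) (Steps.bwd (nat_lit 1) (Steps.fwd (nat_lit 786432) Steps.nil))))))))))))) (nat_lit 34) (nat_lit 6),
  Rule.mk (nat_lit 6) (nat_lit 274) (Steps.bwd (nat_lit 1) (Steps.fwd (nat_lit 786432) (Steps.fwd (nat_lit 262144) (Steps.bwd (nat_lit 6) (Steps.bwd (nat_lit 1) (Steps.bwd (nat_lit 6) (Steps.bwd (nat_lit 5) (Steps.bwd (nat_lit 2) (Steps.bwd (nat_lit 1) (Steps.fwd (nat_lit 1572864) (Steps.fwd (nat_lit 262144) (Steps.fwd (nat_lit 786432) (Steps.fwd (nat_lit 262144) Steps.nil))))))))))))) (nat_lit 34) (nat_lit 7),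
  Rule.mk (nat_lit 1) (nat_lit 274) (Steps.bwd (nat_lit 6) (Steps.bwd (nat_lit 1) (Steps.bwd (nat_lit 2) (Steps.fwd (nat_lit 262144) (Steps.bwd (nat_lit 6) (Steps.bwd (nat_lit 1) (Steps.bwd (nat_lit 6) (Steps.bwd (nat_lit 5) (Steps.bwd (nat_lit 2) (Steps.fwd (nat_lit 262144) (Steps.fwd (nat_lit 1572864) (Steps.bwd (nat_lit 1) (Steps.fwd (nat_lit 786432) Steps.nil))))))))))))) (nat_lit 34) (nat_lit 6),
  Rule.mk (nat_lit 6) (nat_lit 274) (Steps.bwd (nat_lit 1) (Steps.bwd (nat_lit 6) (Steps.fwd (nat_lit 1310720) (Steps.fwd (nat_lit 786432) (Steps.fwd (nat_lit 262144) (Steps.fwd (nat_lit 1572864) (Steps.fwd (nat_lit 262144) (Steps.fwd (nat_lit 786432) (Steps.bwd (nat_lit 1) (Steps.bwd (nat_lit 6) (Steps.fwd (nat_lit 262144) (Steps.bwd (nat_lit 2) (Steps.fwd (nat_lit 262144) Steps.nil))))))))))))) (nat_lit 34) (nat_lit 11),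
  Rule.mk (nat_lit 6) (nat_lit 274) (Steps.bwd (nat_lit 1) (Steps.bwd (nat_lit 3) (Steps.fwd (nat_lit 1310720) (Steps.bwd (nat_lit 6) (Steps.bwd (nat_lit 1) (Steps.fwd (nat_lit 1572864) (Steps.fwd (nat_lit 262144) (Steps.fwd (nat_lit 524288) (Steps.bwd (nat_lit 1) (Steps.fwd (nat_lit 1572864) (Steps.bwd (nat_lit 1) (Steps.bwd (nat_lit 3) (Steps.fwd (nat_lit 262144) Steps.nil))))))))))))) (nat_lit 35) (nat_lit 12),
  Rule.mk (nat_lit 1) (nat_lit 154) (Steps.fwd (nat_lit 524288) (Steps.bwd (nat_lit 1) (Steps.fwd (nat_lit 1835008) (Steps.fwd (nat_lit 524288) (Steps.fwd (nat_lit 262144) (Steps.bwd (nat_lit 3) (Steps.bwd (nat_lit 7) Steps.nil))))))) (nat_lit 73) (nat_lit 6),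
  Rule.mk (nat_lit 1) (nat_lit 274) (Steps.bwd (nat_lit 6) (Steps.bwd (nat_lit 1) (Steps.bwd (nat_lit 2) (Steps.fwd (nat_lit 262144) (Steps.bwd (nat_lit 6) (Steps.bwd (nat_lit 1) (Steps.bwd (nat_lit 6) (Steps.bwd (nat_lit 5) (Steps.bwd (nat_lit 2) (Steps.bwd (nat_lit 1) (Steps.bwd (nat_lit 6) (Steps.fwd (nat_lit 262144) (Steps.bwd (nat_lit 2) Steps.nil))))))))))))) (nat_lit 34) (nat_lit 6),
  Rule.mk (nat_lit 6) (nat_lit 274) (Steps.bwd (nat_lit 1) (Steps.fwd (nat_lit 786432) (Steps.fwd (nat_lit 262144) (Steps.bwd (nat_lit 6) (Steps.bwd (nat_lit 1) (Steps.bwd (nat_lit 6) (Steps.fwd (nat_lit 1310720) (Steps.bwd (nat_lit 2) (Steps.bwd (nat_lit 1) (Steps.fwd (nat_lit 1572864) (Steps.fwd (nat_lit 262144) (Steps.fwd (nat_lit 786432) (Steps.fwd (nat_lit 262144) Steps.nil))))))))))))) (nat_lit 34) (nat_lit 7),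
  Rule.mk (nat_lit 4) (nat_lit 114) (Steps.fwd (nat_lit 1835008) (Steps.bwd (nat_lit 6) (Steps.fwd (nat_lit 1048576) (Steps.fwd (nat_lit 1835008) (Steps.bwd (nat_lit 5) Steps.nil))))) (nat_lit 67) (nat_lit 0),
  Rule.mk (nat_lit 6) (nat_lit 274) (Steps.bwd (nat_lit 1) (Steps.bwd (nat_lit 2) (Steps.bwd (nat_lit 1) (Steps.fwd (nat_lit 1572864) (Steps.fwd (nat_lit 262144) (Steps.bwd (nat_lit 2) (Steps.bwd (nat_lit 1) (Steps.fwd (nat_lit 1572864) (Steps.bwd (nat_lit 1) (Steps.bwd (nat_lit 6) (Steps.fwd (nat_lit 1310720) (Steps.bwd (nat_lit 2) (Steps.fwd (nat_lit 262144) Steps.nil))))))))))))) (nat_lit 34) (nat_lit 3),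
  Rule.mk (nat_lit 4) (nat_lit 114) (Steps.bwd (nat_lit 3) (Steps.fwd (nat_lit 1835008) (Steps.fwd (nat_lit 1048576) (Steps.bwd (nat_lit 3) (Steps.bwd (nat_lit 7) Steps.nil))))) (nat_lit 57) (nat_lit 2),
  Rule.mk (nat_lit 6) (nat_lit 114) (Steps.bwd (nat_lit 3) (Steps.bwd (nat_lit 4) (Steps.fwd (nat_lit 1310720) (Steps.bwd (nat_lit 3) (Steps.fwd (nat_lit 1048576) Steps.nil))))) (nat_lit 59) (nat_lit 2),
  Rule.mk (nat_lit 6) (nat_lit 274) (Steps.bwd (nat_lit 1) (Steps.fwd (nat_lit 786432) (Steps.fwd (nat_lit 262144) (Steps.bwd (nat_lit 6) (Steps.fwd (nat_lit 262144) (Steps.bwd (nat_lit 2) (Steps.bwd (nat_lit 1) (Steps.fwd (nat_lit 1572864) (Steps.fwd (nat_lit 262144) (Steps.fwd (nat_lit 1572864) (Steps.fwd (nat_lit 1310720) (Steps.fwd (nat_lit 786432) (Steps.fwd (nat_lit 262144) Steps.nil))))))))))))) (nat_lit 34) (nat_lit 3),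
  Rule.mk (nat_lit 6) (nat_lit 274) (Steps.bwd (nat_lit 1) (Steps.bwd (nat_lit 2) (Steps.bwd (nat_lit 1) (Steps.fwd (nat_lit 1572864) (Steps.fwd (nat_lit 262144) (Steps.bwd (nat_lit 2) (Steps.bwd (nat_lit 1) (Steps.bwd (nat_lit 6) (Steps.bwd (nat_lit 1) (Steps.fwd (nat_lit 1572864) (Steps.bwd (nat_lit 5) (Steps.fwd (nat_lit 786432) (Steps.fwd (nat_lit 262144) Steps.nil))))))))))))) (nat_lit 34) (nat_lit 3),
  Rule.mk (nat_lit 1) (nat_lit 274) (Steps.bwd (nat_lit 6) (Steps.bwd (nat_lit 5) (Steps.bwd (nat_lit 2) (Steps.fwd (nat_lit 262144) (Steps.bwd (nat_lit 6) (Steps.bwd (nat_lit 1) (Steps.fwd (nat_lit 786432) (Steps.fwd (nat_lit 262144) (Steps.fwd (nat_lit 1572864) (Steps.bwd (nat_lit 1) (Steps.bwd (nat_lit 2) (Steps.fwd (nat_lit 262144) (Steps.bwd (nat_lit 6) Steps.nil))))))))))))) (nat_lit 34) (nat_lit 12),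
  Rule.mk (nat_lit 1) (nat_lit 154) (Steps.fwd (nat_lit 524288) (Steps.bwd (nat_lit 1) (Steps.bwd (nat_lit 5) (Steps.fwd (nat_lit 524288) (Steps.fwd (nat_lit 262144) (Steps.bwd (nat_lit 3) (Steps.fwd (nat_lit 1310720) Steps.nil))))))) (nat_lit 71) (nat_lit 6),
  Rule.mk (nat_lit 1) (nat_lit 154) (Steps.bwd (nat_lit 6) (Steps.bwd (nat_lit 1) (Steps.bwd (nat_lit 4) (Steps.bwd (nat_lit 1) (Steps.bwd (nat_lit 6) (Steps.fwd (nat_lit 262144) (Steps.fwd (nat_lit 1048576) Steps.nil))))))) (nat_lit 74) (nat_lit 3),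
  Rule.mk (nat_lit 6) (nat_lit 274) (Steps.bwd (nat_lit 1) (Steps.fwd (nat_lit 524288) (Steps.bwd (nat_lit 1) (Steps.fwd (nat_lit 1572864) (Steps.fwd (nat_lit 262144) (Steps.fwd (nat_lit 524288) (Steps.bwd (nat_lit 1) (Steps.fwd (nat_lit 1572864) (Steps.bwd (nat_lit 1) (Steps.fwd (nat_lit 524288) (Steps.fwd (nat_lit 1310720) (Steps.bwd (nat_lit 6) (Steps.fwd (nat_lit 262144) Steps.nil))))))))))))) (nat_lit 35) (nat_lit 4),
  Rule.mk (nat_lit 3) (nat_lit 154) (Steps.bwd (nat_lit 1) (Steps.bwd (nat_lit 3) (Steps.bwd (nat_lit 7) (Steps.bwd (nat_lit 1) (Steps.bwd (nat_lit 3) (Steps.fwd (nat_lit 262144) (Steps.fwd (nat_lit 1835008) Steps.nil))))))) (nat_lit 73) (nat_lit 2)]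
noncomputable def R_31 : List (Rule) := [Rule.mk (nat_lit 6) (nat_lit 274) (Steps.bwd (nat_lit 1) (Steps.bwd (nat_lit 3) (Steps.fwd (nat_lit 1310720) (Steps.bwd (nat_lit 6) (Steps.fwd (nat_lit 262144) (Steps.bwd (nat_lit 6) (Steps.bwd (nat_lit 1) (Steps.bwd (nat_lit 3) (Steps.bwd (nat_lit 1) (Steps.bwd (nat_lit 6) (Steps.fwd (nat_lit 262144) (Steps.fwd (nat_lit 524288) (Steps.bwd (nat_lit 1) Steps.nil))))))))))))) (nat_lit 35) (nat_lit 12),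
  Rule.mk (nat_lit 6) (nat_lit 274) (Steps.bwd (nat_lit 1) (Steps.fwd (nat_lit 524288) (Steps.bwd (nat_lit 1) (Steps.fwd (nat_lit 1572864) (Steps.fwd (nat_lit 262144) (Steps.fwd (nat_lit 524288) (Steps.bwd (nat_lit 1) (Steps.fwd (nat_lit 1572864) (Steps.bwd (nat_lit 1) (Steps.bwd (nat_lit 3) (Steps.bwd (nat_lit 5) (Steps.fwd (nat_lit 1572864) (Steps.fwd (nat_lit 262144) Steps.nil))))))))))))) (nat_lit 35) (nat_lit 4),
  Rule.mk (nat_lit 6) (nat_lit 114) (Steps.bwd (nat_lit 2) (Steps.bwd (nat_lit 4) (Steps.bwd (nat_lit 5) (Steps.fwd (nat_lit 786432) (Steps.fwd (nat_lit 1048576) Steps.nil))))) (nat_lit 54) (nat_lit 0),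
  Rule.mk (nat_lit 4) (nat_lit 114) (Steps.bwd (nat_lit 1) (Steps.bwd (nat_lit 4) (Steps.fwd (nat_lit 262144) (Steps.bwd (nat_lit 4) (Steps.bwd (nat_lit 1) Steps.nil))))) (nat_lit 16) (nat_lit 0),
  Rule.mk (nat_lit 4) (nat_lit 114) (Steps.bwd (nat_lit 3) (Steps.fwd (nat_lit 1835008) (Steps.fwd (nat_lit 1048576) (Steps.fwd (nat_lit 524288) (Steps.bwd (nat_lit 7) Steps.nil))))) (nat_lit 57) (nat_lit 2),
  Rule.mk (nat_lit 1) (nat_lit 274) (Steps.bwd (nat_lit 6) (Steps.bwd (nat_lit 5) (Steps.bwd (nat_lit 2) (Steps.bwd (nat_lit 1) (Steps.fwd (nat_lit 1572864) (Steps.fwd (nat_lit 262144) (Steps.fwd (nat_lit 786432) (Steps.fwd (nat_lit 262144) (Steps.fwd (nat_lit 1572864) (Steps.bwd (nat_lit 1) (Steps.bwd (nat_lit 2) (Steps.fwd (nat_lit 262144) (Steps.bwd (nat_lit 6) Steps.nil))))))))))))) (nat_lit 34) (nat_lit 12),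
  Rule.mk (nat_lit 6) (nat_lit 274) (Steps.bwd (nat_lit 1) (Steps.fwd (nat_lit 524288) (Steps.bwd (nat_lit 5) (Steps.bwd (nat_lit 6) (Steps.fwd (nat_lit 262144) (Steps.bwd (nat_lit 6) (Steps.fwd (nat_lit 262144) (Steps.fwd (nat_lit 524288) (Steps.bwd (nat_lit 1) (Steps.fwd (nat_lit 1572864) (Steps.fwd (nat_lit 262144) (Steps.fwd (nat_lit 524288) (Steps.fwd (nat_lit 262144) Steps.nil))))))))))))) (nat_lit 35) (nat_lit 12),
  Rule.mk (nat_lit 6) (nat_lit 154) (Steps.bwd (nat_lit 3) (Steps.fwd (nat_lit 1310720) (Steps.fwd (nat_lit 1572864) (Steps.fwd (nat_lit 524288) (Steps.bwd (nat_lit 5) (Steps.fwd (nat_lit 524288) (Steps.fwd (nat_lit 1835008) Steps.nil))))))) (nat_lit 83) (nat_lit 2),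
  Rule.mk (nat_lit 6) (nat_lit 274) (Steps.bwd (nat_lit 1) (Steps.bwd (nat_lit 3) (Steps.bwd (nat_lit 5) (Steps.bwd (nat_lit 6) (Steps.fwd (nat_lit 262144) (Steps.bwd (nat_lit 6) (Steps.fwd (nat_lit 262144) (Steps.bwd (nat_lit 3) (Steps.bwd (nat_lit 1) (Steps.fwd (nat_lit 1572864) (Steps.fwd (nat_lit 262144) (Steps.fwd (nat_lit 524288) (Steps.fwd (nat_lit 262144) Steps.nil))))))))))))) (nat_lit 35) (nat_lit 12),
  Rule.mk (nat_lit 6) (nat_lit 114) (Steps.bwd (nat_lit 3) (Steps.bwd (nat_lit 4) (Steps.bwd (nat_lit 5) (Steps.fwd (nat_lit 524288) (Steps.fwd (nat_lit 1048576) Steps.nil))))) (nat_lit 59) (nat_lit 2),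
  Rule.mk (nat_lit 6) (nat_lit 274) (Steps.bwd (nat_lit 1) (Steps.fwd (nat_lit 524288) (Steps.bwd (nat_lit 5) (Steps.fwd (nat_lit 1572864) (Steps.fwd (nat_lit 262144) (Steps.bwd (nat_lit 6) (Steps.fwd (nat_lit 262144) (Steps.fwd (nat_lit 524288) (Steps.bwd (nat_lit 1) (Steps.fwd (nat_lit 1572864) (Steps.fwd (nat_lit 262144) (Steps.fwd (nat_lit 524288) (Steps.fwd (nat_lit 262144) Steps.nil))))))))))))) (nat_lit 35) (nat_lit 12),
  Rule.mk (nat_lit 6) (nat_lit 274) (Steps.bwd (nat_lit 1) (Steps.bwd (nat_lit 2) (Steps.bwd (nat_lit 1) (Steps.fwd (nat_lit 1572864) (Steps.fwd (nat_lit 262144) (Steps.bwd (nat_lit 2) (Steps.bwd (nat_lit 1) (Steps.bwd (nat_lit 6) (Steps.bwd (nat_lit 1) (Steps.bwd (nat_lit 6) (Steps.bwd (nat_lit 5) (Steps.fwd (nat_lit 786432) (Steps.fwd (nat_lit 262144) Steps.nil))))))))))))) (nat_lit 34) (nat_lit 3),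
  Rule.mk (nat_lit 6) (nat_lit 274) (Steps.bwd (nat_lit 1) (Steps.fwd (nat_lit 1572864) (Steps.bwd (nat_lit 5) (Steps.bwd (nat_lit 2) (Steps.fwd (nat_lit 262144) (Steps.bwd (nat_lit 6) (Steps.bwd (nat_lit 1) (Steps.bwd (nat_lit 2) (Steps.bwd (nat_lit 1) (Steps.bwd (nat_lit 6) (Steps.bwd (nat_lit 1) (Steps.bwd (nat_lit 2) (Steps.fwd (nat_lit 262144) Steps.nil))))))))))))) (nat_lit 34) (nat_lit 11),
  Rule.mk (nat_lit 6) (nat_lit 114) (Steps.bwd (nat_lit 2) (Steps.bwd (nat_lit 4) (Steps.bwd (nat_lit 5) (Steps.fwd (nat_lit 786432) (Steps.bwd (nat_lit 4) Steps.nil))))) (nat_lit 54) (nat_lit 0),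
  Rule.mk (nat_lit 6) (nat_lit 274) (Steps.bwd (nat_lit 1) (Steps.bwd (nat_lit 3) (Steps.bwd (nat_lit 5) (Steps.fwd (nat_lit 1572864) (Steps.fwd (nat_lit 262144) (Steps.bwd (nat_lit 6) (Steps.fwd (nat_lit 262144) (Steps.bwd (nat_lit 3) (Steps.bwd (nat_lit 1) (Steps.fwd (nat_lit 1572864) (Steps.fwd (nat_lit 262144) (Steps.fwd (nat_lit 524288) (Steps.fwd (nat_lit 262144) Steps.nil))))))))))))) (nat_lit 35) (nat_lit 12),
  Rule.mk (nat_lit 6) (nat_lit 274) (Steps.bwd (nat_lit 1) (Steps.fwd (nat_lit 1572864) (Steps.fwd (nat_lit 1310720) (Steps.bwd (nat_lit 2) (Steps.fwd (nat_lit 262144) (Steps.bwd (nat_lit 6) (Steps.fwd (nat_lit 262144) (Steps.bwd (nat_lit 2) (Steps.bwd (nat_lit 1) (Steps.fwd (nat_lit 1572864) (Steps.fwd (nat_lit 262144) (Steps.fwd (nat_lit 786432) (Steps.fwd (nat_lit 262144) Steps.nil))))))))))))) (nat_lit 34) (nat_lit 11),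
  Rule.mk (nat_lit 6) (nat_lit 274) (Steps.bwd (nat_lit 1) (Steps.fwd (nat_lit 524288) (Steps.fwd (nat_lit 1310720) (Steps.bwd (nat_lit 6) (Steps.fwd (nat_lit 262144) (Steps.bwd (nat_lit 6) (Steps.bwd (nat_lit 1) (Steps.fwd (nat_lit 524288) (Steps.bwd (nat_lit 1) (Steps.bwd (nat_lit 6) (Steps.fwd (nat_lit 262144) (Steps.fwd (nat_lit 524288) (Steps.bwd (nat_lit 1) Steps.nil))))))))))))) (nat_lit 35) (nat_lit 12),
  Rule.mk (nat_lit 6) (nat_lit 114) (Steps.bwd (nat_lit 2) (Steps.fwd (nat_lit 1048576) (Steps.fwd (nat_lit 1310720) (Steps.bwd (nat_lit 2) (Steps.fwd (nat_lit 1048576) Steps.nil))))) (nat_lit 54) (nat_lit 0),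
  Rule.mk (nat_lit 6) (nat_lit 114) (Steps.bwd (nat_lit 3) (Steps.bwd (nat_lit 4) (Steps.bwd (nat_lit 5) (Steps.fwd (nat_lit 524288) (Steps.bwd (nat_lit 4) Steps.nil))))) (nat_lit 59) (nat_lit 2),
  Rule.mk (nat_lit 1) (nat_lit 274) (Steps.bwd (nat_lit 6) (Steps.bwd (nat_lit 5) (Steps.bwd (nat_lit 2) (Steps.fwd (nat_lit 262144) (Steps.bwd (nat_lit 6) (Steps.bwd (nat_lit 1) (Steps.bwd (nat_lit 2) (Steps.fwd (nat_lit 262144) (Steps.fwd (nat_lit 1572864) (Steps.bwd (nat_lit 1) (Steps.bwd (nat_lit 2) (Steps.fwd (nat_lit 262144) (Steps.fwd (nat_lit 1572864) Steps.nil))))))))))))) (nat_lit 34) (nat_lit 12),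
  Rule.mk (nat_lit 1) (nat_lit 274) (Steps.bwd (nat_lit 6) (Steps.bwd (nat_lit 1) (Steps.bwd (nat_lit 3) (Steps.fwd (nat_lit 262144) (Steps.fwd (nat_lit 1572864) (Steps.bwd (nat_lit 1) (Steps.bwd (nat_lit 3) (Steps.fwd (nat_lit 1310720) (Steps.fwd (nat_lit 1572864) (Steps.bwd (nat_lit 1) (Steps.bwd (nat_lit 6) (Steps.fwd (nat_lit 262144) (Steps.bwd (nat_lit 3) Steps.nil))))))))))))) (nat_lit 35) (nat_lit 7),
  Rule.mk (nat_lit 6) (nat_lit 114) (Steps.bwd (nat_lit 3) (Steps.bwd (nat_lit 4) (Steps.fwd (nat_lit 1310720) (Steps.fwd (nat_lit 524288) (Steps.bwd (nat_lit 4) Steps.nil))))) (nat_lit 59) (nat_lit 2),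
  Rule.mk (nat_lit 1) (nat_lit 154) (Steps.fwd (nat_lit 524288) (Steps.bwd (nat_lit 1) (Steps.bwd (nat_lit 7) (Steps.fwd (nat_lit 524288) (Steps.fwd (nat_lit 262144) (Steps.bwd (nat_lit 3) (Steps.fwd (nat_lit 1835008) Steps.nil))))))) (nat_lit 73) (nat_lit 6),
  Rule.mk (nat_lit 1) (nat_lit 154) (Steps.fwd (nat_lit 1572864) (Steps.bwd (nat_lit 1) (Steps.bwd (nat_lit 4) (Steps.bwd (nat_lit 1) (Steps.bwd (nat_lit 6) (Steps.fwd (nat_lit 262144) (Steps.fwd (nat_lit 1048576) Steps.nil))))))) (nat_lit 74) (nat_lit 3),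
  Rule.mk (nat_lit 4) (nat_lit 154) (Steps.fwd (nat_lit 1835008) (Steps.bwd (nat_lit 1) (Steps.bwd (nat_lit 4) (Steps.bwd (nat_lit 1) (Steps.fwd (nat_lit 1835008) (Steps.fwd (nat_lit 1048576) (Steps.fwd (nat_lit 262144) Steps.nil))))))) (nat_lit 76) (nat_lit 7),
  Rule.mk (nat_lit 4) (nat_lit 114) (Steps.fwd (nat_lit 1835008) (Steps.bwd (nat_lit 5) (Steps.bwd (nat_lit 4) (Steps.fwd (nat_lit 1835008) (Steps.bwd (nat_lit 6) Steps.nil))))) (nat_lit 67) (nat_lit 3),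
  Rule.mk (nat_lit 6) (nat_lit 274) (Steps.bwd (nat_lit 1) (Steps.fwd (nat_lit 786432) (Steps.fwd (nat_lit 262144) (Steps.bwd (nat_lit 6) (Steps.bwd (nat_lit 1) (Steps.bwd (nat_lit 2) (Steps.bwd (nat_lit 1) (Steps.bwd (nat_lit 6) (Steps.fwd (nat_lit 262144) (Steps.fwd (nat_lit 1572864) (Steps.bwd (nat_lit 5) (Steps.fwd (nat_lit 786432) (Steps.fwd (nat_lit 262144) Steps.nil))))))))))))) (nat_lit 34) (nat_lit 3),
  Rule.mk (nat_lit 6) (nat_lit 274) (Steps.bwd (nat_lit 1) (Steps.fwd (nat_lit 786432) (Steps.fwd (nat_lit 262144) (Steps.fwd (nat_lit 1572864) (Steps.fwd (nat_lit 262144) (Steps.fwd (nat_lit 786432) (Steps.bwd (nat_lit 1) (Steps.fwd (nat_lit 1572864) (Steps.fwd (nat_lit 262144) (Steps.bwd (nat_lit 6) (Steps.fwd (nat_lit 1310720) (Steps.fwd (nat_lit 786432) (Steps.fwd (nat_lit 262144) Steps.nil))))))))))))) (nat_lit 34) (nat_lit 3),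
  Rule.mk (nat_lit 6) (nat_lit 114) (Steps.bwd (nat_lit 2) (Steps.bwd (nat_lit 4) (Steps.fwd (nat_lit 1310720) (Steps.fwd (nat_lit 786432) (Steps.bwd (nat_lit 4) Steps.nil))))) (nat_lit 54) (nat_lit 0),
  Rule.mk (nat_lit 1) (nat_lit 154) (Steps.fwd (nat_lit 1572864) (Steps.bwd (nat_lit 1) (Steps.fwd (nat_lit 1048576) (Steps.bwd (nat_lit 1) (Steps.fwd (nat_lit 1572864) (Steps.fwd (nat_lit 262144) (Steps.bwd (nat_lit 4) Steps.nil))))))) (nat_lit 74) (nat_lit 3),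
  Rule.mk (nat_lit 6) (nat_lit 274) (Steps.bwd (nat_lit 1) (Steps.fwd (nat_lit 786432) (Steps.fwd (nat_lit 262144) (Steps.bwd (nat_lit 6) (Steps.bwd (nat_lit 1) (Steps.bwd (nat_lit 2) (Steps.bwd (nat_lit 1) (Steps.fwd (nat_lit 1572864) (Steps.fwd (nat_lit 262144) (Steps.fwd (nat_lit 1572864) (Steps.bwd (nat_lit 5) (Steps.fwd (nat_lit 786432) (Steps.fwd (nat_lit 262144) Steps.nil))))))))))))) (nat_lit 34) (nat_lit 3),
  Rule.mk (nat_lit 1) (nat_lit 274) (Steps.bwd (nat_lit 6) (Steps.fwd (nat_lit 1310720) (Steps.bwd (nat_lit 2) (Steps.fwd (nat_lit 262144) (Steps.bwd (nat_lit 6) (Steps.bwd (nat_lit 1) (Steps.bwd (nat_lit 2) (Steps.fwd (nat_lit 262144) (Steps.fwd (nat_lit 1572864) (Steps.bwd (nat_lit 1) (Steps.bwd (nat_lit 2) (Steps.fwd (nat_lit 262144) (Steps.fwd (nat_lit 1572864) Steps.nil))))))))))))) (nat_lit 34) (nat_lit 12),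
  Rule.mk (nat_lit 6) (nat_lit 274) (Steps.bwd (nat_lit 1) (Steps.fwd (nat_lit 524288) (Steps.fwd (nat_lit 1310720) (Steps.bwd (nat_lit 6) (Steps.fwd (nat_lit 262144) (Steps.bwd (nat_lit 6) (Steps.bwd (nat_lit 1) (Steps.fwd (nat_lit 524288) (Steps.bwd (nat_lit 1) (Steps.fwd (nat_lit 1572864) (Steps.fwd (nat_lit 262144) (Steps.bwd (nat_lit 3) (Steps.fwd (nat_lit 262144) Steps.nil))))))))))))) (nat_lit 35) (nat_lit 12),
  Rule.mk (nat_lit 1) (nat_lit 154) (Steps.fwd (nat_lit 524288) (Steps.bwd (nat_lit 1) (Steps.fwd (nat_lit 1310720) (Steps.bwd (nat_lit 3) (Steps.fwd (nat_lit 262144) (Steps.bwd (nat_lit 3) (Steps.fwd (nat_lit 1310720) Steps.nil))))))) (nat_lit 71) (nat_lit 6),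
  Rule.mk (nat_lit 5) (nat_lit 114) (Steps.bwd (nat_lit 4) (Steps.fwd (nat_lit 524288) (Steps.bwd (nat_lit 6) (Steps.bwd (nat_lit 4) (Steps.fwd (nat_lit 524288) Steps.nil))))) (nat_lit 55) (nat_lit 4),
  Rule.mk (nat_lit 1) (nat_lit 274) (Steps.bwd (nat_lit 6) (Steps.bwd (nat_lit 1) (Steps.bwd (nat_lit 2) (Steps.fwd (nat_lit 262144) (Steps.fwd (nat_lit 1572864) (Steps.fwd (nat_lit 262144) (Steps.bwd (nat_lit 6) (Steps.fwd (nat_lit 1310720) (Steps.bwd (nat_lit 2) (Steps.bwd (nat_lit 1) (Steps.bwd (nat_lit 6) (Steps.fwd (nat_lit 262144) (Steps.bwd (nat_lit 2) Steps.nil))))))))))))) (nat_lit 34) (nat_lit 6),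
  Rule.mk (nat_lit 6) (nat_lit 274) (Steps.bwd (nat_lit 1) (Steps.fwd (nat_lit 786432) (Steps.fwd (nat_lit 262144) (Steps.bwd (nat_lit 6) (Steps.fwd (nat_lit 262144) (Steps.fwd (nat_lit 786432) (Steps.bwd (nat_lit 1) (Steps.fwd (nat_lit 1572864) (Steps.fwd (nat_lit 262144) (Steps.bwd (nat_lit 6) (Steps.bwd (nat_lit 5) (Steps.fwd (nat_lit 786432) (Steps.fwd (nat_lit 262144) Steps.nil))))))))))))) (nat_lit 34) (nat_lit 3),
  Rule.mk (nat_lit 6) (nat_lit 274) (Steps.bwd (nat_lit 1) (Steps.bwd (nat_lit 2) (Steps.bwd (nat_lit 1) (Steps.bwd (nat_lit 6) (Steps.fwd (nat_lit 262144) (Steps.bwd (nat_lit 2) (Steps.bwd (nat_lit 1) (Steps.bwd (nat_lit 6) (Steps.bwd (nat_lit 1) (Steps.bwd (nat_lit 6) (Steps.fwd (nat_lit 1310720) (Steps.bwd (nat_lit 2) (Steps.fwd (nat_lit 262144) Steps.nil))))))))))))) (nat_lit 34) (nat_lit 3),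
  Rule.mk (nat_lit 6) (nat_lit 274) (Steps.bwd (nat_lit 1) (Steps.bwd (nat_lit 6) (Steps.fwd (nat_lit 1310720) (Steps.bwd (nat_lit 2) (Steps.fwd (nat_lit 262144) (Steps.bwd (nat_lit 6) (Steps.bwd (nat_lit 1) (Steps.bwd (nat_lit 2) (Steps.bwd (nat_lit 1) (Steps.fwd (nat_lit 1572864) (Steps.fwd (nat_lit 262144) (Steps.bwd (nat_lit 2) (Steps.bwd (nat_lit 1) Steps.nil))))))))))))) (nat_lit 34) (nat_lit 11),
  Rule.mk (nat_lit 1) (nat_lit 274) (Steps.bwd (nat_lit 6) (Steps.bwd (nat_lit 1) (Steps.bwd (nat_lit 2) (Steps.fwd (nat_lit 262144) (Steps.fwd (nat_lit 1572864) (Steps.fwd (nat_lit 262144) (Steps.bwd (nat_lit 6) (Steps.fwd (nat_lit 1310720) (Steps.bwd (nat_lit 2) (Steps.bwd (nat_lit 1) (Steps.fwd (nat_lit 1572864) (Steps.fwd (nat_lit 262144) (Steps.bwd (nat_lit 2) Steps.nil))))))))))))) (nat_lit 34) (nat_lit 6),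
  Rule.mk (nat_lit 6) (nat_lit 274) (Steps.bwd (nat_lit 1) (Steps.fwd (nat_lit 524288) (Steps.bwd (nat_lit 5) (Steps.bwd (nat_lit 6) (Steps.fwd (nat_lit 262144) (Steps.bwd (nat_lit 6) (Steps.fwd (nat_lit 262144) (Steps.fwd (nat_lit 524288) (Steps.bwd (nat_lit 1) (Steps.bwd (nat_lit 6) (Steps.fwd (nat_lit 262144) (Steps.bwd (nat_lit 3) (Steps.bwd (nat_lit 1) Steps.nil))))))))))))) (nat_lit 35) (nat_lit 12),
  Rule.mk (nat_lit 6) (nat_lit 154) (Steps.bwd (nat_lit 3) (Steps.fwd (nat_lit 1310720) (Steps.fwd (nat_lit 1572864) (Steps.fwd (nat_lit 524288) (Steps.fwd (nat_lit 1310720) (Steps.fwd (nat_lit 524288) (Steps.fwd (nat_lit 1835008) Steps.nil))))))) (nat_lit 83) (nat_lit 2),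
  Rule.mk (nat_lit 6) (nat_lit 274) (Steps.bwd (nat_lit 1) (Steps.bwd (nat_lit 6) (Steps.fwd (nat_lit 1310720) (Steps.bwd (nat_lit 2) (Steps.fwd (nat_lit 262144) (Steps.bwd (nat_lit 6) (Steps.fwd (nat_lit 262144) (Steps.bwd (nat_lit 2) (Steps.bwd (nat_lit 1) (Steps.fwd (nat_lit 1572864) (Steps.fwd (nat_lit 262144) (Steps.fwd (nat_lit 786432) (Steps.fwd (nat_lit 262144) Steps.nil))))))))))))) (nat_lit 34) (nat_lit 11),
  Rule.mk (nat_lit 6) (nat_lit 274) (Steps.bwd (nat_lit 1) (Steps.fwd (nat_lit 1572864) (Steps.bwd (nat_lit 5) (Steps.fwd (nat_lit 786432) (Steps.bwd (nat_lit 1) (Steps.bwd (nat_lit 6) (Steps.fwd (nat_lit 262144) (Steps.bwd (nat_lit 2) (Steps.bwd (nat_lit 1) (Steps.bwd (nat_lit 6) (Steps.bwd (nat_lit 1) (Steps.fwd (nat_lit 786432) (Steps.fwd (nat_lit 262144) Steps.nil))))))))))))) (nat_lit 34) (nat_lit 11),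
  Rule.mk (nat_lit 6) (nat_lit 274) (Steps.bwd (nat_lit 1) (Steps.fwd (nat_lit 1572864) (Steps.bwd (nat_lit 5) (Steps.bwd (nat_lit 2) (Steps.fwd (nat_lit 262144) (Steps.bwd (nat_lit 6) (Steps.fwd (nat_lit 262144) (Steps.bwd (nat_lit 2) (Steps.bwd (nat_lit 1) (Steps.bwd (nat_lit 6) (Steps.bwd (nat_lit 1) (Steps.bwd (nat_lit 2) (Steps.fwd (nat_lit 262144) Steps.nil))))))))))))) (nat_lit 34) (nat_lit 11),
  Rule.mk (nat_lit 6) (nat_lit 274) (Steps.bwd (nat_lit 1) (Steps.bwd (nat_lit 6) (Steps.fwd (nat_lit 1310720) (Steps.bwd (nat_lit 2) (Steps.fwd (nat_lit 262144) (Steps.bwd (nat_lit 6) (Steps.bwd (nat_lit 1) (Steps.bwd (nat_lit 2) (Steps.bwd (nat_lit 1) (Steps.bwd (nat_lit 6) (Steps.bwd (nat_lit 1) (Steps.fwd (nat_lit 786432) (Steps.fwd (nat_lit 262144) Steps.nil))))))))))))) (nat_lit 34) (nat_lit 11),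
  Rule.mk (nat_lit 1) (nat_lit 274) (Steps.bwd (nat_lit 6) (Steps.fwd (nat_lit 1310720) (Steps.bwd (nat_lit 2) (Steps.bwd (nat_lit 1) (Steps.fwd (nat_lit 1572864) (Steps.fwd (nat_lit 262144) (Steps.fwd (nat_lit 786432) (Steps.bwd (nat_lit 1) (Steps.bwd (nat_lit 6) (Steps.fwd (nat_lit 262144) (Steps.bwd (nat_lit 2) (Steps.bwd (nat_lit 1) (Steps.bwd (nat_lit 6) Steps.nil))))))))))))) (nat_lit 34) (nat_lit 12),
  Rule.mk (nat_lit 6) (nat_lit 274) (Steps.bwd (nat_lit 1) (Steps.bwd (nat_lit 2) (Steps.bwd (nat_lit 1) (Steps.bwd (nat_lit 6) (Steps.fwd (nat_lit 262144) (Steps.bwd (nat_lit 2) (Steps.bwd (nat_lit 1) (Steps.fwd (nat_lit 1572864) (Steps.bwd (nat_lit 1) (Steps.fwd (nat_lit 1572864) (Steps.bwd (nat_lit 5) (Steps.bwd (nat_lit 2) (Steps.fwd (nat_lit 262144) Steps.nil))))))))))))) (nat_lit 34) (nat_lit 3),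
  Rule.mk (nat_lit 6) (nat_lit 114) (Steps.bwd (nat_lit 2) (Steps.bwd (nat_lit 4) (Steps.fwd (nat_lit 1310720) (Steps.fwd (nat_lit 786432) (Steps.fwd (nat_lit 1048576) Steps.nil))))) (nat_lit 54) (nat_lit 0),
  Rule.mk (nat_lit 6) (nat_lit 274) (Steps.bwd (nat_lit 1) (Steps.fwd (nat_lit 1572864) (Steps.fwd (nat_lit 1310720) (Steps.bwd (nat_lit 2) (Steps.fwd (nat_lit 262144) (Steps.bwd (nat_lit 6) (Steps.fwd (nat_lit 262144) (Steps.bwd (nat_lit 2) (Steps.bwd (nat_lit 1) (Steps.fwd (nat_lit 1572864) (Steps.bwd (nat_lit 1) (Steps.fwd (nat_lit 786432) (Steps.fwd (nat_lit 262144) Steps.nil))))))))))))) (nat_lit 34) (nat_lit 11),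
  Rule.mk (nat_lit 6) (nat_lit 274) (Steps.bwd (nat_lit 1) (Steps.fwd (nat_lit 1572864) (Steps.fwd (nat_lit 1310720) (Steps.bwd (nat_lit 2) (Steps.fwd (nat_lit 262144) (Steps.bwd (nat_lit 6) (Steps.fwd (nat_lit 262144) (Steps.bwd (nat_lit 2) (Steps.bwd (nat_lit 1) (Steps.bwd (nat_lit 6) (Steps.bwd (nat_lit 1) (Steps.bwd (nat_lit 2) (Steps.fwd (nat_lit 262144) Steps.nil))))))))))))) (nat_lit 34) (nat_lit 11),
  Rule.mk (nat_lit 6) (nat_lit 274) (Steps.bwd (nat_lit 1) (Steps.fwd (nat_lit 1572864) (Steps.bwd (nat_lit 5) (Steps.bwd (nat_lit 2) (Steps.bwd (nat_lit 1) (Steps.bwd (nat_lit 6) (Steps.bwd (nat_lit 1) (Steps.bwd (nat_lit 2) (Steps.bwd (nat_lit 1) (Steps.bwd (nat_lit 6) (Steps.bwd (nat_lit 1) (Steps.bwd (nat_lit 2) (Steps.fwd (nat_lit 262144) Steps.nil))))))))))))) (nat_lit 34) (nat_lit 11),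
  Rule.mk (nat_lit 6) (nat_lit 274) (Steps.bwd (nat_lit 1) (Steps.fwd (nat_lit 1572864) (Steps.fwd (nat_lit 1310720) (Steps.bwd (nat_lit 2) (Steps.bwd (nat_lit 1) (Steps.bwd (nat_lit 6) (Steps.fwd (nat_lit 262144) (Steps.bwd (nat_lit 2) (Steps.bwd (nat_lit 1) (Steps.bwd (nat_lit 6) (Steps.bwd (nat_lit 1) (Steps.fwd (nat_lit 786432) (Steps.fwd (nat_lit 262144) Steps.nil))))))))))))) (nat_lit 34) (nat_lit 11),
  Rule.mk (nat_lit 6) (nat_lit 274) (Steps.bwd (nat_lit 1) (Steps.fwd (nat_lit 1572864) (Steps.bwd (nat_lit 5) (Steps.bwd (nat_lit 2) (Steps.bwd (nat_lit 1) (Steps.fwd (nat_lit 1572864) (Steps.fwd (nat_lit 262144) (Steps.bwd (nat_lit 2) (Steps.bwd (nat_lit 1) (Steps.bwd (nat_lit 6) (Steps.bwd (nat_lit 1) (Steps.bwd (nat_lit 2) (Steps.fwd (nat_lit 262144) Steps.nil))))))))))))) (nat_lit 34) (nat_lit 11),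
  Rule.mk (nat_lit 4) (nat_lit 114) (Steps.fwd (nat_lit 524288) (Steps.fwd (nat_lit 1572864) (Steps.fwd (nat_lit 1048576) (Steps.bwd (nat_lit 3) (Steps.bwd (nat_lit 5) Steps.nil))))) (nat_lit 55) (nat_lit 5),
  Rule.mk (nat_lit 6) (nat_lit 274) (Steps.bwd (nat_lit 1) (Steps.fwd (nat_lit 1572864) (Steps.fwd (nat_lit 1310720) (Steps.fwd (nat_lit 786432) (Steps.fwd (nat_lit 262144) (Steps.fwd (nat_lit 1572864) (Steps.fwd (nat_lit 262144) (Steps.fwd (nat_lit 786432) (Steps.bwd (nat_lit 1) (Steps.fwd (nat_lit 1572864) (Steps.fwd (nat_lit 262144) (Steps.bwd (nat_lit 2) (Steps.fwd (nat_lit 262144) Steps.nil))))))))))))) (nat_lit 34) (nat_lit 11),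
  Rule.mk (nat_lit 6) (nat_lit 274) (Steps.bwd (nat_lit 1) (Steps.bwd (nat_lit 2) (Steps.bwd (nat_lit 1) (Steps.fwd (nat_lit 1572864) (Steps.fwd (nat_lit 262144) (Steps.bwd (nat_lit 2) (Steps.bwd (nat_lit 1) (Steps.fwd (nat_lit 1572864) (Steps.bwd (nat_lit 1) (Steps.fwd (nat_lit 1572864) (Steps.bwd (nat_lit 5) (Steps.bwd (nat_lit 2) (Steps.fwd (nat_lit 262144) Steps.nil))))))))))))) (nat_lit 34) (nat_lit 3),
  Rule.mk (nat_lit 6) (nat_lit 274) (Steps.bwd (nat_lit 1) (Steps.fwd (nat_lit 524288) (Steps.bwd (nat_lit 5) (Steps.fwd (nat_lit 1572864) (Steps.fwd (nat_lit 262144) (Steps.fwd (nat_lit 1572864) (Steps.bwd (nat_lit 1) (Steps.fwd (nat_lit 524288) (Steps.bwd (nat_lit 1) (Steps.fwd (nat_lit 1572864) (Steps.fwd (nat_lit 262144) (Steps.fwd (nat_lit 524288) (Steps.bwd (nat_lit 1) Steps.nil))))))))))))) (nat_lit 35) (nat_lit 12),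
  Rule.mk (nat_lit 6) (nat_lit 274) (Steps.bwd (nat_lit 1) (Steps.bwd (nat_lit 6) (Steps.fwd (nat_lit 1310720) (Steps.fwd (nat_lit 786432) (Steps.fwd (nat_lit 262144) (Steps.bwd (nat_lit 6) (Steps.fwd (nat_lit 262144) (Steps.bwd (nat_lit 2) (Steps.bwd (nat_lit 1) (Steps.fwd (nat_lit 1572864) (Steps.fwd (nat_lit 262144) (Steps.fwd (nat_lit 786432) (Steps.bwd (nat_lit 1) Steps.nil))))))))))))) (nat_lit 34) (nat_lit 11),
  Rule.mk (nat_lit 6) (nat_lit 274) (Steps.bwd (nat_lit 1) (Steps.bwd (nat_lit 3) (Steps.fwd (nat_lit 1310720) (Steps.bwd (nat_lit 6) (Steps.bwd (nat_lit 1) (Steps.fwd (nat_lit 1572864) (Steps.fwd (nat_lit 262144) (Steps.bwd (nat_lit 3) (Steps.fwd (nat_lit 262144) (Steps.bwd (nat_lit 6) (Steps.bwd (nat_lit 1) (Steps.fwd (nat_lit 524288) (Steps.fwd (nat_lit 262144) Steps.nil))))))))))))) (nat_lit 35) (nat_lit 12),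
  Rule.mk (nat_lit 6) (nat_lit 274) (Steps.bwd (nat_lit 1) (Steps.bwd (nat_lit 6) (Steps.fwd (nat_lit 1310720) (Steps.fwd (nat_lit 786432) (Steps.fwd (nat_lit 262144) (Steps.fwd (nat_lit 1572864) (Steps.fwd (nat_lit 262144) (Steps.bwd (nat_lit 2) (Steps.bwd (nat_lit 1) (Steps.fwd (nat_lit 1572864) (Steps.fwd (nat_lit 262144) (Steps.fwd (nat_lit 786432) (Steps.bwd (nat_lit 1) Steps.nil))))))))))))) (nat_lit 34) (nat_lit 11),
  Rule.mk (nat_lit 6) (nat_lit 274) (Steps.bwd (nat_lit 1) (Steps.fwd (nat_lit 1572864) (Steps.fwd (nat_lit 1310720) (Steps.fwd (nat_lit 786432) (Steps.fwd (nat_lit 262144) (Steps.fwd (nat_lit 1572864) (Steps.fwd (nat_lit 262144) (Steps.bwd (nat_lit 2) (Steps.bwd (nat_lit 1) (Steps.fwd (nat_lit 1572864) (Steps.fwd (nat_lit 262144) (Steps.bwd (nat_lit 2) (Steps.bwd (nat_lit 1) Steps.nil))))))))))))) (nat_lit 34) (nat_lit 11),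
  Rule.mk (nat_lit 6) (nat_lit 274) (Steps.bwd (nat_lit 1) (Steps.fwd (nat_lit 1572864) (Steps.bwd (nat_lit 5) (Steps.fwd (nat_lit 786432) (Steps.bwd (nat_lit 1) (Steps.fwd (nat_lit 1572864) (Steps.fwd (nat_lit 262144) (Steps.bwd (nat_lit 2) (Steps.bwd (nat_lit 1) (Steps.bwd (nat_lit 6) (Steps.bwd (nat_lit 1) (Steps.fwd (nat_lit 786432) (Steps.fwd (nat_lit 262144) Steps.nil))))))))))))) (nat_lit 34) (nat_lit 11),
  Rule.mk (nat_lit 6) (nat_lit 154) (Steps.bwd (nat_lit 2) (Steps.bwd (nat_lit 5) (Steps.bwd (nat_lit 2) (Steps.bwd (nat_lit 7) (Steps.fwd (nat_lit 1572864) (Steps.fwd (nat_lit 786432) (Steps.fwd (nat_lit 1310720) Steps.nil))))))) (nat_lit 84) (nat_lit 0)]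
noncomputable def R_32 : List (Rule) := [Rule.mk (nat_lit 6) (nat_lit 274) (Steps.bwd (nat_lit 1) (Steps.fwd (nat_lit 524288) (Steps.bwd (nat_lit 5) (Steps.bwd (nat_lit 6) (Steps.fwd (nat_lit 262144) (Steps.fwd (nat_lit 1572864) (Steps.bwd (nat_lit 1) (Steps.fwd (nat_lit 524288) (Steps.bwd (nat_lit 1) (Steps.bwd (nat_lit 6) (Steps.fwd (nat_lit 262144) (Steps.fwd (nat_lit 524288) (Steps.fwd (nat_lit 262144) Steps.nil))))))))))))) (nat_lit 35) (nat_lit 12),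
  Rule.mk (nat_lit 6) (nat_lit 274) (Steps.bwd (nat_lit 1) (Steps.fwd (nat_lit 524288) (Steps.bwd (nat_lit 1) (Steps.fwd (nat_lit 1572864) (Steps.fwd (nat_lit 262144) (Steps.fwd (nat_lit 524288) (Steps.bwd (nat_lit 1) (Steps.bwd (nat_lit 6) (Steps.bwd (nat_lit 1) (Steps.fwd (nat_lit 524288) (Steps.fwd (nat_lit 1310720) (Steps.fwd (nat_lit 1572864) (Steps.fwd (nat_lit 262144) Steps.nil))))))))))))) (nat_lit 35) (nat_lit 4),
  Rule.mk (nat_lit 6) (nat_lit 274) (Steps.bwd (nat_lit 1) (Steps.fwd (nat_lit 524288) (Steps.fwd (nat_lit 1310720) (Steps.bwd (nat_lit 6) (Steps.fwd (nat_lit 262144) (Steps.fwd (nat_lit 1572864) (Steps.bwd (nat_lit 1) (Steps.fwd (nat_lit 524288) (Steps.bwd (nat_lit 1) (Steps.bwd (nat_lit 6) (Steps.fwd (nat_lit 262144) (Steps.fwd (nat_lit 524288) (Steps.bwd (nat_lit 1) Steps.nil))))))))))))) (nat_lit 35) (nat_lit 12),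
  Rule.mk (nat_lit 6) (nat_lit 274) (Steps.bwd (nat_lit 1) (Steps.fwd (nat_lit 1572864) (Steps.bwd (nat_lit 5) (Steps.fwd (nat_lit 786432) (Steps.fwd (nat_lit 262144) (Steps.bwd (nat_lit 6) (Steps.fwd (nat_lit 262144) (Steps.bwd (nat_lit 2) (Steps.fwd (nat_lit 262144) (Steps.bwd (nat_lit 6) (Steps.fwd (nat_lit 262144) (Steps.bwd (nat_lit 2) (Steps.bwd (nat_lit 1) Steps.nil))))))))))))) (nat_lit 34) (nat_lit 11),
  Rule.mk (nat_lit 6) (nat_lit 154) (Steps.bwd (nat_lit 3) (Steps.bwd (nat_lit 5) (Steps.bwd (nat_lit 3) (Steps.fwd (nat_lit 1835008) (Steps.fwd (nat_lit 1572864) (Steps.fwd (nat_lit 524288) (Steps.bwd (nat_lit 5) Steps.nil))))))) (nat_lit 83) (nat_lit 5),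
  Rule.mk (nat_lit 6) (nat_lit 274) (Steps.bwd (nat_lit 1) (Steps.fwd (nat_lit 1572864) (Steps.bwd (nat_lit 5) (Steps.fwd (nat_lit 786432) (Steps.fwd (nat_lit 262144) (Steps.fwd (nat_lit 1572864) (Steps.bwd (nat_lit 1) (Steps.bwd (nat_lit 2) (Steps.bwd (nat_lit 1) (Steps.bwd (nat_lit 6) (Steps.fwd (nat_lit 262144) (Steps.bwd (nat_lit 2) (Steps.bwd (nat_lit 1) Steps.nil))))))))))))) (nat_lit 34) (nat_lit 11),
  Rule.mk (nat_lit 6) (nat_lit 274) (Steps.bwd (nat_lit 1) (Steps.fwd (nat_lit 524288) (Steps.fwd (nat_lit 1310720) (Steps.fwd (nat_lit 1572864) (Steps.fwd (nat_lit 262144) (Steps.fwd (nat_lit 1572864) (Steps.fwd (nat_lit 262144) (Steps.fwd (nat_lit 524288) (Steps.bwd (nat_lit 1) (Steps.fwd (nat_lit 1572864) (Steps.fwd (nat_lit 262144) (Steps.fwd (nat_lit 524288) (Steps.bwd (nat_lit 1) Steps.nil))))))))))))) (nat_lit 35) (nat_lit 12),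
  Rule.mk (nat_lit 6) (nat_lit 274) (Steps.bwd (nat_lit 1) (Steps.fwd (nat_lit 1572864) (Steps.fwd (nat_lit 1310720) (Steps.fwd (nat_lit 786432) (Steps.fwd (nat_lit 262144) (Steps.fwd (nat_lit 1572864) (Steps.fwd (nat_lit 262144) (Steps.bwd (nat_lit 2) (Steps.bwd (nat_lit 1) (Steps.fwd (nat_lit 1572864) (Steps.fwd (nat_lit 262144) (Steps.fwd (nat_lit 786432) (Steps.bwd (nat_lit 1) Steps.nil))))))))))))) (nat_lit 34) (nat_lit 11),
  Rule.mk (nat_lit 6) (nat_lit 274) (Steps.bwd (nat_lit 1) (Steps.bwd (nat_lit 3) (Steps.bwd (nat_lit 1) (Steps.fwd (nat_lit 1572864) (Steps.fwd (nat_lit 262144) (Steps.fwd (nat_lit 524288) (Steps.bwd (nat_lit 1) (Steps.bwd (nat_lit 6) (Steps.bwd (nat_lit 1) (Steps.fwd (nat_lit 524288) (Steps.bwd (nat_lit 5) (Steps.bwd (nat_lit 6) (Steps.fwd (nat_lit 262144) Steps.nil))))))))))))) (nat_lit 35) (nat_lit 4),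
  Rule.mk (nat_lit 6) (nat_lit 274) (Steps.bwd (nat_lit 1) (Steps.fwd (nat_lit 1572864) (Steps.fwd (nat_lit 1310720) (Steps.bwd (nat_lit 2) (Steps.bwd (nat_lit 1) (Steps.bwd (nat_lit 6) (Steps.fwd (nat_lit 262144) (Steps.fwd (nat_lit 786432) (Steps.bwd (nat_lit 1) (Steps.fwd (nat_lit 1572864) (Steps.bwd (nat_lit 1) (Steps.fwd (nat_lit 786432) (Steps.fwd (nat_lit 262144) Steps.nil))))))))))))) (nat_lit 34) (nat_lit 11),
  Rule.mk (nat_lit 6) (nat_lit 274) (Steps.bwd (nat_lit 1) (Steps.fwd (nat_lit 524288) (Steps.bwd (nat_lit 1) (Steps.fwd (nat_lit 1572864) (Steps.fwd (nat_lit 262144) (Steps.fwd (nat_lit 524288) (Steps.bwd (nat_lit 1) (Steps.fwd (nat_lit 1572864) (Steps.bwd (nat_lit 1) (Steps.bwd (nat_lit 3) (Steps.fwd (nat_lit 1310720) (Steps.fwd (nat_lit 1572864) (Steps.fwd (nat_lit 262144) Steps.nil))))))))))))) (nat_lit 35) (nat_lit 4),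
  Rule.mk (nat_lit 6) (nat_lit 274) (Steps.bwd (nat_lit 1) (Steps.fwd (nat_lit 1572864) (Steps.bwd (nat_lit 5) (Steps.bwd (nat_lit 2) (Steps.fwd (nat_lit 262144) (Steps.bwd (nat_lit 6) (Steps.fwd (nat_lit 262144) (Steps.fwd (nat_lit 786432) (Steps.bwd (nat_lit 1) (Steps.fwd (nat_lit 1572864) (Steps.bwd (nat_lit 1) (Steps.fwd (nat_lit 786432) (Steps.fwd (nat_lit 262144) Steps.nil))))))))))))) (nat_lit 34) (nat_lit 11),
  Rule.mk (nat_lit 6) (nat_lit 154) (Steps.bwd (nat_lit 2) (Steps.bwd (nat_lit 5) (Steps.bwd (nat_lit 2) (Steps.fwd (nat_lit 1835008) (Steps.fwd (nat_lit 1572864) (Steps.bwd (nat_lit 2) (Steps.bwd (nat_lit 5) Steps.nil))))))) (nat_lit 84) (nat_lit 0),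
  Rule.mk (nat_lit 1) (nat_lit 274) (Steps.bwd (nat_lit 6) (Steps.bwd (nat_lit 5) (Steps.bwd (nat_lit 2) (Steps.fwd (nat_lit 262144) (Steps.bwd (nat_lit 6) (Steps.bwd (nat_lit 1) (Steps.fwd (nat_lit 786432) (Steps.fwd (nat_lit 262144) (Steps.fwd (nat_lit 1572864) (Steps.bwd (nat_lit 1) (Steps.bwd (nat_lit 2) (Steps.fwd (nat_lit 262144) (Steps.fwd (nat_lit 1572864) Steps.nil))))))))))))) (nat_lit 34) (nat_lit 12),
  Rule.mk (nat_lit 6) (nat_lit 274) (Steps.bwd (nat_lit 1) (Steps.fwd (nat_lit 1572864) (Steps.bwd (nat_lit 5) (Steps.bwd (nat_lit 2) (Steps.bwd (nat_lit 1) (Steps.bwd (nat_lit 6) (Steps.fwd (nat_lit 262144) (Steps.fwd (nat_lit 786432) (Steps.bwd (nat_lit 1) (Steps.fwd (nat_lit 1572864) (Steps.bwd (nat_lit 1) (Steps.fwd (nat_lit 786432) (Steps.fwd (nat_lit 262144) Steps.nil))))))))))))) (nat_lit 34) (nat_lit 11),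
  Rule.mk (nat_lit 6) (nat_lit 274) (Steps.bwd (nat_lit 1) (Steps.fwd (nat_lit 1572864) (Steps.fwd (nat_lit 1310720) (Steps.bwd (nat_lit 2) (Steps.bwd (nat_lit 1) (Steps.fwd (nat_lit 1572864) (Steps.fwd (nat_lit 262144) (Steps.bwd (nat_lit 2) (Steps.fwd (nat_lit 262144) (Steps.bwd (nat_lit 6) (Steps.bwd (nat_lit 1) (Steps.fwd (nat_lit 786432) (Steps.fwd (nat_lit 262144) Steps.nil))))))))))))) (nat_lit 34) (nat_lit 11),
  Rule.mk (nat_lit 1) (nat_lit 274) (Steps.bwd (nat_lit 6) (Steps.fwd (nat_lit 1310720) (Steps.fwd (nat_lit 786432) (Steps.fwd (nat_lit 262144) (Steps.fwd (nat_lit 1572864) (Steps.bwd (nat_lit 1) (Steps.bwd (nat_lit 2) (Steps.bwd (nat_lit 1) (Steps.fwd (nat_lit 1572864) (Steps.fwd (nat_lit 262144) (Steps.fwd (nat_lit 786432) (Steps.fwd (nat_lit 262144) (Steps.fwd (nat_lit 1572864) Steps.nil))))))))))))) (nat_lit 34) (nat_lit 12),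
  Rule.mk (nat_lit 6) (nat_lit 274) (Steps.bwd (nat_lit 1) (Steps.bwd (nat_lit 2) (Steps.bwd (nat_lit 1) (Steps.bwd (nat_lit 6) (Steps.fwd (nat_lit 262144) (Steps.bwd (nat_lit 2) (Steps.fwd (nat_lit 262144) (Steps.bwd (nat_lit 6) (Steps.bwd (nat_lit 1) (Steps.bwd (nat_lit 6) (Steps.fwd (nat_lit 1310720) (Steps.bwd (nat_lit 2) (Steps.fwd (nat_lit 262144) Steps.nil))))))))))))) (nat_lit 34) (nat_lit 3),
  Rule.mk (nat_lit 1) (nat_lit 274) (Steps.bwd (nat_lit 6) (Steps.fwd (nat_lit 1310720) (Steps.fwd (nat_lit 786432) (Steps.fwd (nat_lit 262144) (Steps.fwd (nat_lit 1572864) (Steps.bwd (nat_lit 1) (Steps.bwd (nat_lit 2) (Steps.bwd (nat_lit 1) (Steps.bwd (nat_lit 6) (Steps.fwd (nat_lit 262144) (Steps.fwd (nat_lit 786432) (Steps.fwd (nat_lit 262144) (Steps.fwd (nat_lit 1572864) Steps.nil))))))))))))) (nat_lit 34) (nat_lit 12),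
  Rule.mk (nat_lit 6) (nat_lit 274) (Steps.bwd (nat_lit 1) (Steps.bwd (nat_lit 2) (Steps.bwd (nat_lit 1) (Steps.bwd (nat_lit 6) (Steps.fwd (nat_lit 262144) (Steps.bwd (nat_lit 2) (Steps.fwd (nat_lit 262144) (Steps.bwd (nat_lit 6) (Steps.bwd (nat_lit 1) (Steps.fwd (nat_lit 1572864) (Steps.bwd (nat_lit 5) (Steps.bwd (nat_lit 2) (Steps.fwd (nat_lit 262144) Steps.nil))))))))))))) (nat_lit 34) (nat_lit 3),
  Rule.mk (nat_lit 6) (nat_lit 274) (Steps.bwd (nat_lit 1) (Steps.bwd (nat_lit 2) (Steps.bwd (nat_lit 1) (Steps.fwd (nat_lit 1572864) (Steps.fwd (nat_lit 262144) (Steps.fwd (nat_lit 786432) (Steps.bwd (nat_lit 1) (Steps.fwd (nat_lit 1572864) (Steps.bwd (nat_lit 1) (Steps.fwd (nat_lit 1572864) (Steps.bwd (nat_lit 5) (Steps.bwd (nat_lit 2) (Steps.fwd (nat_lit 262144) Steps.nil))))))))))))) (nat_lit 34) (nat_lit 3),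
  Rule.mk (nat_lit 6) (nat_lit 274) (Steps.bwd (nat_lit 1) (Steps.bwd (nat_lit 6) (Steps.fwd (nat_lit 1310720) (Steps.fwd (nat_lit 786432) (Steps.fwd (nat_lit 262144) (Steps.bwd (nat_lit 6) (Steps.fwd (nat_lit 262144) (Steps.bwd (nat_lit 2) (Steps.bwd (nat_lit 1) (Steps.fwd (nat_lit 1572864) (Steps.fwd (nat_lit 262144) (Steps.bwd (nat_lit 2) (Steps.bwd (nat_lit 1) Steps.nil))))))))))))) (nat_lit 34) (nat_lit 11),
  Rule.mk (nat_lit 8) (nat_lit 114) (Steps.fwd (nat_lit 786432) (Steps.fwd (nat_lit 262144) (Steps.bwd (nat_lit 3) (Steps.fwd (nat_lit 2097152) (Steps.bwd (nat_lit 1) Steps.nil))))) (nat_lit 104) (nat_lit 1),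
  Rule.mk (nat_lit 6) (nat_lit 274) (Steps.bwd (nat_lit 1) (Steps.bwd (nat_lit 2) (Steps.bwd (nat_lit 1) (Steps.fwd (nat_lit 1572864) (Steps.fwd (nat_lit 262144) (Steps.bwd (nat_lit 2) (Steps.bwd (nat_lit 1) (Steps.bwd (nat_lit 6) (Steps.bwd (nat_lit 1) (Steps.bwd (nat_lit 6) (Steps.fwd (nat_lit 1310720) (Steps.bwd (nat_lit 2) (Steps.fwd (nat_lit 262144) Steps.nil))))))))))))) (nat_lit 34) (nat_lit 3),
  Rule.mk (nat_lit 6) (nat_lit 274) (Steps.bwd (nat_lit 1) (Steps.fwd (nat_lit 524288) (Steps.fwd (nat_lit 1310720) (Steps.fwd (nat_lit 1572864) (Steps.fwd (nat_lit 262144) (Steps.bwd (nat_lit 6) (Steps.fwd (nat_lit 262144) (Steps.bwd (nat_lit 3) (Steps.bwd (nat_lit 1) (Steps.fwd (nat_lit 1572864) (Steps.fwd (nat_lit 262144) (Steps.fwd (nat_lit 524288) (Steps.fwd (nat_lit 262144) Steps.nil))))))))))))) (nat_lit 35) (nat_lit 12),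
  Rule.mk (nat_lit 6) (nat_lit 274) (Steps.bwd (nat_lit 1) (Steps.fwd (nat_lit 1572864) (Steps.bwd (nat_lit 5) (Steps.bwd (nat_lit 2) (Steps.bwd (nat_lit 1) (Steps.fwd (nat_lit 1572864) (Steps.fwd (nat_lit 262144) (Steps.bwd (nat_lit 2) (Steps.fwd (nat_lit 262144) (Steps.bwd (nat_lit 6) (Steps.bwd (nat_lit 1) (Steps.fwd (nat_lit 786432) (Steps.fwd (nat_lit 262144) Steps.nil))))))))))))) (nat_lit 34) (nat_lit 11),
  Rule.mk (nat_lit 6) (nat_lit 274) (Steps.bwd (nat_lit 1) (Steps.bwd (nat_lit 2) (Steps.bwd (nat_lit 1) (Steps.fwd (nat_lit 1572864) (Steps.fwd (nat_lit 262144) (Steps.fwd (nat_lit 786432) (Steps.bwd (nat_lit 1) (Steps.fwd (nat_lit 1572864) (Steps.bwd (nat_lit 1) (Steps.bwd (nat_lit 6) (Steps.bwd (nat_lit 5) (Steps.bwd (nat_lit 2) (Steps.fwd (nat_lit 262144) Steps.nil))))))))))))) (nat_lit 34) (nat_lit 3),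
  Rule.mk (nat_lit 6) (nat_lit 274) (Steps.bwd (nat_lit 1) (Steps.fwd (nat_lit 1572864) (Steps.fwd (nat_lit 1310720) (Steps.fwd (nat_lit 786432) (Steps.fwd (nat_lit 262144) (Steps.bwd (nat_lit 6) (Steps.fwd (nat_lit 262144) (Steps.bwd (nat_lit 2) (Steps.bwd (nat_lit 1) (Steps.fwd (nat_lit 1572864) (Steps.fwd (nat_lit 262144) (Steps.bwd (nat_lit 2) (Steps.bwd (nat_lit 1) Steps.nil))))))))))))) (nat_lit 34) (nat_lit 11),
  Rule.mk (nat_lit 6) (nat_lit 274) (Steps.bwd (nat_lit 1) (Steps.fwd (nat_lit 524288) (Steps.fwd (nat_lit 1310720) (Steps.bwd (nat_lit 6) (Steps.fwd (nat_lit 262144) (Steps.fwd (nat_lit 1572864) (Steps.fwd (nat_lit 262144) (Steps.fwd (nat_lit 524288) (Steps.bwd (nat_lit 1) (Steps.fwd (nat_lit 1572864) (Steps.fwd (nat_lit 262144) (Steps.fwd (nat_lit 524288) (Steps.fwd (nat_lit 262144) Steps.nil))))))))))))) (nat_lit 35) (nat_lit 12),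
  Rule.mk (nat_lit 6) (nat_lit 274) (Steps.bwd (nat_lit 1) (Steps.fwd (nat_lit 1572864) (Steps.bwd (nat_lit 5) (Steps.fwd (nat_lit 786432) (Steps.bwd (nat_lit 1) (Steps.bwd (nat_lit 6) (Steps.fwd (nat_lit 262144) (Steps.bwd (nat_lit 2) (Steps.fwd (nat_lit 262144) (Steps.bwd (nat_lit 6) (Steps.bwd (nat_lit 1) (Steps.fwd (nat_lit 786432) (Steps.fwd (nat_lit 262144) Steps.nil))))))))))))) (nat_lit 34) (nat_lit 11),
  Rule.mk (nat_lit 6) (nat_lit 274) (Steps.bwd (nat_lit 1) (Steps.bwd (nat_lit 2) (Steps.bwd (nat_lit 1) (Steps.fwd (nat_lit 1572864) (Steps.fwd (nat_lit 262144) (Steps.bwd (nat_lit 2) (Steps.bwd (nat_lit 1) (Steps.bwd (nat_lit 6) (Steps.bwd (nat_lit 1) (Steps.fwd (nat_lit 1572864) (Steps.fwd (nat_lit 1310720) (Steps.bwd (nat_lit 2) (Steps.fwd (nat_lit 262144) Steps.nil))))))))))))) (nat_lit 34) (nat_lit 3),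
  Rule.mk (nat_lit 6) (nat_lit 274) (Steps.bwd (nat_lit 1) (Steps.bwd (nat_lit 3) (Steps.bwd (nat_lit 1) (Steps.fwd (nat_lit 1572864) (Steps.fwd (nat_lit 262144) (Steps.fwd (nat_lit 524288) (Steps.bwd (nat_lit 1) (Steps.bwd (nat_lit 6) (Steps.bwd (nat_lit 1) (Steps.fwd (nat_lit 524288) (Steps.bwd (nat_lit 5) (Steps.fwd (nat_lit 1572864) (Steps.fwd (nat_lit 262144) Steps.nil))))))))))))) (nat_lit 35) (nat_lit 4),
  Rule.mk (nat_lit 1) (nat_lit 274) (Steps.bwd (nat_lit 6) (Steps.bwd (nat_lit 1) (Steps.bwd (nat_lit 2) (Steps.fwd (nat_lit 262144) (Steps.fwd (nat_lit 1572864) (Steps.bwd (nat_lit 1) (Steps.bwd (nat_lit 6) (Steps.fwd (nat_lit 1310720) (Steps.bwd (nat_lit 2) (Steps.bwd (nat_lit 1) (Steps.bwd (nat_lit 6) (Steps.fwd (nat_lit 262144) (Steps.bwd (nat_lit 2) Steps.nil))))))))))))) (nat_lit 34) (nat_lit 6),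
  Rule.mk (nat_lit 6) (nat_lit 154) (Steps.bwd (nat_lit 1) (Steps.bwd (nat_lit 4) (Steps.fwd (nat_lit 262144) (Steps.fwd (nat_lit 1572864) (Steps.bwd (nat_lit 1) (Steps.bwd (nat_lit 4) (Steps.bwd (nat_lit 1) Steps.nil))))))) (nat_lit 74) (nat_lit 0),
  Rule.mk (nat_lit 6) (nat_lit 274) (Steps.bwd (nat_lit 1) (Steps.bwd (nat_lit 3) (Steps.fwd (nat_lit 1310720) (Steps.bwd (nat_lit 6) (Steps.bwd (nat_lit 1) (Steps.fwd (nat_lit 1572864) (Steps.fwd (nat_lit 262144) (Steps.fwd (nat_lit 524288) (Steps.bwd (nat_lit 1) (Steps.bwd (nat_lit 6) (Steps.bwd (nat_lit 1) (Steps.fwd (nat_lit 524288) (Steps.fwd (nat_lit 262144) Steps.nil))))))))))))) (nat_lit 35) (nat_lit 12),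
  Rule.mk (nat_lit 6) (nat_lit 274) (Steps.bwd (nat_lit 1) (Steps.fwd (nat_lit 786432) (Steps.fwd (nat_lit 262144) (Steps.fwd (nat_lit 1572864) (Steps.bwd (nat_lit 1) (Steps.bwd (nat_lit 2) (Steps.bwd (nat_lit 1) (Steps.fwd (nat_lit 1572864) (Steps.fwd (nat_lit 262144) (Steps.fwd (nat_lit 1572864) (Steps.fwd (nat_lit 1310720) (Steps.fwd (nat_lit 786432) (Steps.fwd (nat_lit 262144) Steps.nil))))))))))))) (nat_lit 34) (nat_lit 3),
  Rule.mk (nat_lit 6) (nat_lit 274) (Steps.bwd (nat_lit 1) (Steps.bwd (nat_lit 6) (Steps.bwd (nat_lit 5) (Steps.fwd (nat_lit 786432) (Steps.fwd (nat_lit 262144) (Steps.bwd (nat_lit 6) (Steps.fwd (nat_lit 262144) (Steps.bwd (nat_lit 2) (Steps.bwd (nat_lit 1) (Steps.bwd (nat_lit 6) (Steps.fwd (nat_lit 262144) (Steps.bwd (nat_lit 2) (Steps.bwd (nat_lit 1) Steps.nil))))))))))))) (nat_lit 34) (nat_lit 11),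
  Rule.mk (nat_lit 6) (nat_lit 274) (Steps.bwd (nat_lit 1) (Steps.fwd (nat_lit 524288) (Steps.fwd (nat_lit 1310720) (Steps.fwd (nat_lit 1572864) (Steps.fwd (nat_lit 262144) (Steps.bwd (nat_lit 6) (Steps.bwd (nat_lit 1) (Steps.fwd (nat_lit 524288) (Steps.bwd (nat_lit 1) (Steps.fwd (nat_lit 1572864) (Steps.fwd (nat_lit 262144) (Steps.fwd (nat_lit 524288) (Steps.bwd (nat_lit 1) Steps.nil))))))))))))) (nat_lit 35) (nat_lit 12),
  Rule.mk (nat_lit 6) (nat_lit 274) (Steps.bwd (nat_lit 1) (Steps.fwd (nat_lit 1572864) (Steps.bwd (nat_lit 5) (Steps.fwd (nat_lit 786432) (Steps.fwd (nat_lit 262144) (Steps.bwd (nat_lit 6) (Steps.fwd (nat_lit 262144) (Steps.bwd (nat_lit 2) (Steps.bwd (nat_lit 1) (Steps.bwd (nat_lit 6) (Steps.fwd (nat_lit 262144) (Steps.fwd (nat_lit 786432) (Steps.bwd (nat_lit 1) Steps.nil))))))))))))) (nat_lit 34) (nat_lit 11),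
  Rule.mk (nat_lit 1) (nat_lit 274) (Steps.bwd (nat_lit 6) (Steps.bwd (nat_lit 1) (Steps.bwd (nat_lit 3) (Steps.fwd (nat_lit 262144) (Steps.fwd (nat_lit 1572864) (Steps.fwd (nat_lit 262144) (Steps.fwd (nat_lit 524288) (Steps.fwd (nat_lit 1310720) (Steps.fwd (nat_lit 1572864) (Steps.bwd (nat_lit 1) (Steps.fwd (nat_lit 1572864) (Steps.fwd (nat_lit 262144) (Steps.fwd (nat_lit 524288) Steps.nil))))))))))))) (nat_lit 35) (nat_lit 7),
  Rule.mk (nat_lit 6) (nat_lit 274) (Steps.bwd (nat_lit 1) (Steps.bwd (nat_lit 2) (Steps.bwd (nat_lit 1) (Steps.fwd (nat_lit 1572864) (Steps.fwd (nat_lit 262144) (Steps.bwd (nat_lit 2) (Steps.fwd (nat_lit 262144) (Steps.bwd (nat_lit 6) (Steps.bwd (nat_lit 1) (Steps.bwd (nat_lit 6) (Steps.fwd (nat_lit 1310720) (Steps.bwd (nat_lit 2) (Steps.fwd (nat_lit 262144) Steps.nil))))))))))))) (nat_lit 34) (nat_lit 3),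
  Rule.mk (nat_lit 1) (nat_lit 274) (Steps.bwd (nat_lit 6) (Steps.bwd (nat_lit 1) (Steps.bwd (nat_lit 6) (Steps.bwd (nat_lit 5) (Steps.bwd (nat_lit 2) (Steps.bwd (nat_lit 1) (Steps.bwd (nat_lit 6) (Steps.bwd (nat_lit 1) (Steps.fwd (nat_lit 786432) (Steps.fwd (nat_lit 262144) (Steps.fwd (nat_lit 1572864) (Steps.bwd (nat_lit 1) (Steps.bwd (nat_lit 2) Steps.nil))))))))))))) (nat_lit 34) (nat_lit 10),
  Rule.mk (nat_lit 6) (nat_lit 274) (Steps.bwd (nat_lit 1) (Steps.bwd (nat_lit 6) (Steps.bwd (nat_lit 5) (Steps.bwd (nat_lit 2) (Steps.bwd (nat_lit 1) (Steps.fwd (nat_lit 1572864) (Steps.bwd (nat_lit 1) (Steps.bwd (nat_lit 2) (Steps.fwd (nat_lit 262144) (Steps.fwd (nat_lit 1572864) (Steps.bwd (nat_lit 1) (Steps.bwd (nat_lit 2) (Steps.bwd (nat_lit 1) Steps.nil))))))))))))) (nat_lit 34) (nat_lit 11),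
  Rule.mk (nat_lit 2) (nat_lit 274) (Steps.bwd (nat_lit 1) (Steps.bwd (nat_lit 6) (Steps.bwd (nat_lit 1) (Steps.bwd (nat_lit 2) (Steps.fwd (nat_lit 262144) (Steps.fwd (nat_lit 1572864) (Steps.fwd (nat_lit 262144) (Steps.fwd (nat_lit 786432) (Steps.bwd (nat_lit 1) (Steps.bwd (nat_lit 6) (Steps.fwd (nat_lit 262144) (Steps.fwd (nat_lit 1572864) (Steps.fwd (nat_lit 1310720) Steps.nil))))))))))))) (nat_lit 34) (nat_lit 1),
  Rule.mk (nat_lit 6) (nat_lit 274) (Steps.bwd (nat_lit 1) (Steps.fwd (nat_lit 1572864) (Steps.bwd (nat_lit 5) (Steps.bwd (nat_lit 2) (Steps.fwd (nat_lit 262144) (Steps.bwd (nat_lit 6) (Steps.fwd (nat_lit 262144) (Steps.bwd (nat_lit 2) (Steps.fwd (nat_lit 262144) (Steps.fwd (nat_lit 1572864) (Steps.fwd (nat_lit 262144) (Steps.fwd (nat_lit 786432) (Steps.bwd (nat_lit 1) Steps.nil))))))))))))) (nat_lit 34) (nat_lit 11),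
  Rule.mk (nat_lit 1) (nat_lit 274) (Steps.bwd (nat_lit 6) (Steps.bwd (nat_lit 1) (Steps.bwd (nat_lit 3) (Steps.fwd (nat_lit 262144) (Steps.fwd (nat_lit 1572864) (Steps.bwd (nat_lit 1) (Steps.fwd (nat_lit 524288) (Steps.fwd (nat_lit 1310720) (Steps.fwd (nat_lit 1572864) (Steps.bwd (nat_lit 1) (Steps.fwd (nat_lit 1572864) (Steps.fwd (nat_lit 262144) (Steps.fwd (nat_lit 524288) Steps.nil))))))))))))) (nat_lit 35) (nat_lit 7),
  Rule.mk (nat_lit 6) (nat_lit 274) (Steps.bwd (nat_lit 1) (Steps.bwd (nat_lit 6) (Steps.fwd (nat_lit 1310720) (Steps.fwd (nat_lit 786432) (Steps.fwd (nat_lit 262144) (Steps.fwd (nat_lit 1572864) (Steps.fwd (nat_lit 262144) (Steps.bwd (nat_lit 2) (Steps.bwd (nat_lit 1) (Steps.fwd (nat_lit 1572864) (Steps.fwd (nat_lit 262144) (Steps.bwd (nat_lit 2) (Steps.bwd (nat_lit 1) Steps.nil))))))))))))) (nat_lit 34) (nat_lit 11),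
  Rule.mk (nat_lit 6) (nat_lit 274) (Steps.bwd (nat_lit 1) (Steps.bwd (nat_lit 2) (Steps.bwd (nat_lit 1) (Steps.fwd (nat_lit 1572864) (Steps.fwd (nat_lit 262144) (Steps.bwd (nat_lit 2) (Steps.fwd (nat_lit 262144) (Steps.bwd (nat_lit 6) (Steps.bwd (nat_lit 1) (Steps.fwd (nat_lit 1572864) (Steps.bwd (nat_lit 5) (Steps.bwd (nat_lit 2) (Steps.fwd (nat_lit 262144) Steps.nil))))))))))))) (nat_lit 34) (nat_lit 3),
  Rule.mk (nat_lit 1) (nat_lit 274) (Steps.bwd (nat_lit 6) (Steps.bwd (nat_lit 1) (Steps.bwd (nat_lit 6) (Steps.bwd (nat_lit 5) (Steps.bwd (nat_lit 2) (Steps.bwd (nat_lit 1) (Steps.bwd (nat_lit 6) (Steps.bwd (nat_lit 1) (Steps.fwd (nat_lit 786432) (Steps.fwd (nat_lit 262144) (Steps.bwd (nat_lit 6) (Steps.bwd (nat_lit 1) (Steps.bwd (nat_lit 2) Steps.nil))))))))))))) (nat_lit 34) (nat_lit 10),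
  Rule.mk (nat_lit 2) (nat_lit 274) (Steps.bwd (nat_lit 1) (Steps.bwd (nat_lit 6) (Steps.bwd (nat_lit 1) (Steps.bwd (nat_lit 2) (Steps.fwd (nat_lit 262144) (Steps.fwd (nat_lit 1572864) (Steps.fwd (nat_lit 262144) (Steps.fwd (nat_lit 786432) (Steps.bwd (nat_lit 1) (Steps.bwd (nat_lit 6) (Steps.fwd (nat_lit 262144) (Steps.bwd (nat_lit 6) (Steps.bwd (nat_lit 5) Steps.nil))))))))))))) (nat_lit 34) (nat_lit 1),
  Rule.mk (nat_lit 6) (nat_lit 274) (Steps.bwd (nat_lit 1) (Steps.fwd (nat_lit 786432) (Steps.fwd (nat_lit 262144) (Steps.bwd (nat_lit 6) (Steps.bwd (nat_lit 1) (Steps.fwd (nat_lit 786432) (Steps.bwd (nat_lit 1) (Steps.fwd (nat_lit 1572864) (Steps.fwd (nat_lit 262144) (Steps.fwd (nat_lit 1572864) (Steps.fwd (nat_lit 1310720) (Steps.fwd (nat_lit 786432) (Steps.fwd (nat_lit 262144) Steps.nil))))))))))))) (nat_lit 34) (nat_lit 3),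
  Rule.mk (nat_lit 1) (nat_lit 274) (Steps.bwd (nat_lit 3) (Steps.bwd (nat_lit 5) (Steps.bwd (nat_lit 6) (Steps.bwd (nat_lit 1) (Steps.bwd (nat_lit 6) (Steps.fwd (nat_lit 262144) (Steps.fwd (nat_lit 524288) (Steps.bwd (nat_lit 1) (Steps.fwd (nat_lit 1572864) (Steps.bwd (nat_lit 1) (Steps.bwd (nat_lit 3) (Steps.fwd (nat_lit 262144) (Steps.bwd (nat_lit 6) Steps.nil))))))))))))) (nat_lit 35) (nat_lit 13),
  Rule.mk (nat_lit 6) (nat_lit 274) (Steps.bwd (nat_lit 1) (Steps.bwd (nat_lit 3) (Steps.fwd (nat_lit 1310720) (Steps.bwd (nat_lit 6) (Steps.fwd (nat_lit 262144) (Steps.fwd (nat_lit 1572864) (Steps.fwd (nat_lit 262144) (Steps.bwd (nat_lit 3) (Steps.bwd (nat_lit 1) (Steps.bwd (nat_lit 6) (Steps.fwd (nat_lit 262144) (Steps.fwd (nat_lit 524288) (Steps.bwd (nat_lit 1) Steps.nil))))))))))))) (nat_lit 35) (nat_lit 12),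
  Rule.mk (nat_lit 6) (nat_lit 154) (Steps.bwd (nat_lit 1) (Steps.bwd (nat_lit 4) (Steps.fwd (nat_lit 262144) (Steps.fwd (nat_lit 1572864) (Steps.fwd (nat_lit 262144) (Steps.bwd (nat_lit 4) (Steps.bwd (nat_lit 1) Steps.nil))))))) (nat_lit 74) (nat_lit 0),
  Rule.mk (nat_lit 6) (nat_lit 274) (Steps.bwd (nat_lit 1) (Steps.bwd (nat_lit 3) (Steps.fwd (nat_lit 1310720) (Steps.bwd (nat_lit 6) (Steps.bwd (nat_lit 1) (Steps.bwd (nat_lit 6) (Steps.fwd (nat_lit 262144) (Steps.fwd (nat_lit 524288) (Steps.bwd (nat_lit 1) (Steps.bwd (nat_lit 6) (Steps.bwd (nat_lit 1) (Steps.fwd (nat_lit 524288) (Steps.fwd (nat_lit 262144) Steps.nil))))))))))))) (nat_lit 35) (nat_lit 12),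
  Rule.mk (nat_lit 6) (nat_lit 274) (Steps.bwd (nat_lit 1) (Steps.bwd (nat_lit 6) (Steps.bwd (nat_lit 5) (Steps.bwd (nat_lit 2) (Steps.fwd (nat_lit 262144) (Steps.bwd (nat_lit 6) (Steps.bwd (nat_lit 1) (Steps.bwd (nat_lit 2) (Steps.bwd (nat_lit 1) (Steps.bwd (nat_lit 6) (Steps.fwd (nat_lit 262144) (Steps.fwd (nat_lit 786432) (Steps.bwd (nat_lit 1) Steps.nil))))))))))))) (nat_lit 34) (nat_lit 11),
  Rule.mk (nat_lit 6) (nat_lit 274) (Steps.bwd (nat_lit 1) (Steps.bwd (nat_lit 6) (Steps.fwd (nat_lit 1310720) (Steps.bwd (nat_lit 2) (Steps.fwd (nat_lit 262144) (Steps.fwd (nat_lit 1572864) (Steps.bwd (nat_lit 1) (Steps.fwd (nat_lit 786432) (Steps.fwd (nat_lit 262144) (Steps.fwd (nat_lit 1572864) (Steps.bwd (nat_lit 1) (Steps.bwd (nat_lit 2) (Steps.fwd (nat_lit 262144) Steps.nil))))))))))))) (nat_lit 34) (nat_lit 11),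
  Rule.mk (nat_lit 6) (nat_lit 274) (Steps.bwd (nat_lit 1) (Steps.fwd (nat_lit 1572864) (Steps.fwd (nat_lit 1310720) (Steps.bwd (nat_lit 2) (Steps.fwd (nat_lit 262144) (Steps.bwd (nat_lit 6) (Steps.bwd (nat_lit 1) (Steps.bwd (nat_lit 2) (Steps.bwd (nat_lit 1) (Steps.bwd (nat_lit 6) (Steps.fwd (nat_lit 262144) (Steps.fwd (nat_lit 786432) (Steps.bwd (nat_lit 1) Steps.nil))))))))))))) (nat_lit 34) (nat_lit 11),
  Rule.mk (nat_lit 1) (nat_lit 274) (Steps.bwd (nat_lit 6) (Steps.fwd (nat_lit 1310720) (Steps.bwd (nat_lit 2) (Steps.bwd (nat_lit 1) (Steps.fwd (nat_lit 1572864) (Steps.bwd (nat_lit 1) (Steps.bwd (nat_lit 2) (Steps.fwd (nat_lit 262144) (Steps.fwd (nat_lit 1572864) (Steps.fwd (nat_lit 262144) (Steps.bwd (nat_lit 2) (Steps.bwd (nat_lit 1) (Steps.bwd (nat_lit 6) Steps.nil))))))))))))) (nat_lit 34) (nat_lit 12),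
  Rule.mk (nat_lit 6) (nat_lit 274) (Steps.bwd (nat_lit 1) (Steps.bwd (nat_lit 3) (Steps.bwd (nat_lit 5) (Steps.bwd (nat_lit 6) (Steps.bwd (nat_lit 1) (Steps.bwd (nat_lit 6) (Steps.fwd (nat_lit 262144) (Steps.fwd (nat_lit 524288) (Steps.bwd (nat_lit 1) (Steps.bwd (nat_lit 6) (Steps.bwd (nat_lit 1) (Steps.fwd (nat_lit 524288) (Steps.fwd (nat_lit 262144) Steps.nil))))))))))))) (nat_lit 35) (nat_lit 12),
  Rule.mk (nat_lit 6) (nat_lit 274) (Steps.bwd (nat_lit 1) (Steps.bwd (nat_lit 6) (Steps.bwd (nat_lit 5) (Steps.fwd (nat_lit 786432) (Steps.fwd (nat_lit 262144) (Steps.fwd (nat_lit 1572864) (Steps.fwd (nat_lit 262144) (Steps.bwd (nat_lit 2) (Steps.bwd (nat_lit 1) (Steps.bwd (nat_lit 6) (Steps.fwd (nat_lit 262144) (Steps.fwd (nat_lit 786432) (Steps.bwd (nat_lit 1) Steps.nil))))))))))))) (nat_lit 34) (nat_lit 11),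
  Rule.mk (nat_lit 1) (nat_lit 274) (Steps.bwd (nat_lit 6) (Steps.bwd (nat_lit 1) (Steps.bwd (nat_lit 3) (Steps.fwd (nat_lit 262144) (Steps.fwd (nat_lit 1572864) (Steps.bwd (nat_lit 1) (Steps.fwd (nat_lit 524288) (Steps.bwd (nat_lit 5) (Steps.fwd (nat_lit 1572864) (Steps.bwd (nat_lit 1) (Steps.fwd (nat_lit 1572864) (Steps.fwd (nat_lit 262144) (Steps.fwd (nat_lit 524288) Steps.nil))))))))))))) (nat_lit 35) (nat_lit 7),
  Rule.mk (nat_lit 6) (nat_lit 274) (Steps.bwd (nat_lit 1) (Steps.fwd (nat_lit 1572864) (Steps.fwd (nat_lit 1310720) (Steps.bwd (nat_lit 2) (Steps.bwd (nat_lit 1) (Steps.fwd (nat_lit 1572864) (Steps.fwd (nat_lit 262144) (Steps.bwd (nat_lit 2) (Steps.bwd (nat_lit 1) (Steps.bwd (nat_lit 6) (Steps.bwd (nat_lit 1) (Steps.fwd (nat_lit 786432) (Steps.fwd (nat_lit 262144) Steps.nil))))))))))))) (nat_lit 34) (nat_lit 11),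
  Rule.mk (nat_lit 1) (nat_lit 274) (Steps.bwd (nat_lit 6) (Steps.bwd (nat_lit 1) (Steps.bwd (nat_lit 6) (Steps.fwd (nat_lit 1310720) (Steps.bwd (nat_lit 2) (Steps.bwd (nat_lit 1) (Steps.bwd (nat_lit 6) (Steps.bwd (nat_lit 1) (Steps.fwd (nat_lit 786432) (Steps.fwd (nat_lit 262144) (Steps.bwd (nat_lit 6) (Steps.bwd (nat_lit 1) (Steps.bwd (nat_lit 2) Steps.nil))))))))))))) (nat_lit 34) (nat_lit 10)]
noncomputable def R_33 : List (Rule) := [Rule.mk (nat_lit 6) (nat_lit 154) (Steps.bwd (nat_lit 1) (Steps.bwd (nat_lit 4) (Steps.fwd (nat_lit 262144) (Steps.bwd (nat_lit 6) (Steps.bwd (nat_lit 1) (Steps.fwd (nat_lit 1048576) (Steps.bwd (nat_lit 1) Steps.nil))))))) (nat_lit 74) (nat_lit 0),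
  Rule.mk (nat_lit 2) (nat_lit 274) (Steps.bwd (nat_lit 1) (Steps.bwd (nat_lit 6) (Steps.bwd (nat_lit 1) (Steps.bwd (nat_lit 2) (Steps.fwd (nat_lit 262144) (Steps.fwd (nat_lit 1572864) (Steps.fwd (nat_lit 262144) (Steps.fwd (nat_lit 786432) (Steps.bwd (nat_lit 1) (Steps.fwd (nat_lit 1572864) (Steps.fwd (nat_lit 262144) (Steps.fwd (nat_lit 1572864) (Steps.bwd (nat_lit 5) Steps.nil))))))))))))) (nat_lit 34) (nat_lit 1),
  Rule.mk (nat_lit 6) (nat_lit 274) (Steps.bwd (nat_lit 1) (Steps.fwd (nat_lit 1572864) (Steps.fwd (nat_lit 1310720) (Steps.fwd (nat_lit 786432) (Steps.fwd (nat_lit 262144) (Steps.fwd (nat_lit 1572864) (Steps.bwd (nat_lit 1) (Steps.bwd (nat_lit 2) (Steps.bwd (nat_lit 1) (Steps.fwd (nat_lit 1572864) (Steps.fwd (nat_lit 262144) (Steps.bwd (nat_lit 2) (Steps.fwd (nat_lit 262144) Steps.nil))))))))))))) (nat_lit 34) (nat_lit 11),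
  Rule.mk (nat_lit 1) (nat_lit 274) (Steps.fwd (nat_lit 786432) (Steps.bwd (nat_lit 1) (Steps.fwd (nat_lit 1572864) (Steps.fwd (nat_lit 262144) (Steps.bwd (nat_lit 6) (Steps.fwd (nat_lit 1310720) (Steps.fwd (nat_lit 786432) (Steps.fwd (nat_lit 262144) (Steps.bwd (nat_lit 6) (Steps.bwd (nat_lit 1) (Steps.fwd (nat_lit 786432) (Steps.fwd (nat_lit 262144) (Steps.bwd (nat_lit 6) Steps.nil))))))))))))) (nat_lit 34) (nat_lit 8),
  Rule.mk (nat_lit 6) (nat_lit 274) (Steps.bwd (nat_lit 1) (Steps.bwd (nat_lit 2) (Steps.bwd (nat_lit 1) (Steps.bwd (nat_lit 6) (Steps.fwd (nat_lit 262144) (Steps.bwd (nat_lit 2) (Steps.fwd (nat_lit 262144) (Steps.fwd (nat_lit 1572864) (Steps.bwd (nat_lit 1) (Steps.bwd (nat_lit 6) (Steps.fwd (nat_lit 1310720) (Steps.bwd (nat_lit 2) (Steps.fwd (nat_lit 262144) Steps.nil))))))))))))) (nat_lit 34) (nat_lit 3),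
  Rule.mk (nat_lit 1) (nat_lit 274) (Steps.bwd (nat_lit 6) (Steps.bwd (nat_lit 1) (Steps.bwd (nat_lit 6) (Steps.fwd (nat_lit 1310720) (Steps.bwd (nat_lit 2) (Steps.bwd (nat_lit 1) (Steps.bwd (nat_lit 6) (Steps.bwd (nat_lit 1) (Steps.fwd (nat_lit 786432) (Steps.fwd (nat_lit 262144) (Steps.fwd (nat_lit 1572864) (Steps.bwd (nat_lit 1) (Steps.bwd (nat_lit 2) Steps.nil))))))))))))) (nat_lit 34) (nat_lit 10),
  Rule.mk (nat_lit 4) (nat_lit 154) (Steps.bwd (nat_lit 1) (Steps.bwd (nat_lit 6) (Steps.bwd (nat_lit 1) (Steps.bwd (nat_lit 4) (Steps.fwd (nat_lit 262144) (Steps.fwd (nat_lit 1572864) (Steps.fwd (nat_lit 262144) Steps.nil))))))) (nat_lit 74) (nat_lit 2),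
  Rule.mk (nat_lit 6) (nat_lit 274) (Steps.bwd (nat_lit 1) (Steps.bwd (nat_lit 6) (Steps.fwd (nat_lit 1310720) (Steps.bwd (nat_lit 2) (Steps.bwd (nat_lit 1) (Steps.fwd (nat_lit 1572864) (Steps.bwd (nat_lit 1) (Steps.bwd (nat_lit 2) (Steps.fwd (nat_lit 262144) (Steps.fwd (nat_lit 1572864) (Steps.bwd (nat_lit 1) (Steps.bwd (nat_lit 2) (Steps.bwd (nat_lit 1) Steps.nil))))))))))))) (nat_lit 34) (nat_lit 11),
  Rule.mk (nat_lit 2) (nat_lit 274) (Steps.bwd (nat_lit 1) (Steps.bwd (nat_lit 6) (Steps.bwd (nat_lit 1) (Steps.bwd (nat_lit 2) (Steps.fwd (nat_lit 262144) (Steps.fwd (nat_lit 1572864) (Steps.fwd (nat_lit 262144) (Steps.fwd (nat_lit 786432) (Steps.bwd (nat_lit 1) (Steps.fwd (nat_lit 1572864) (Steps.fwd (nat_lit 262144) (Steps.fwd (nat_lit 1572864) (Steps.fwd (nat_lit 1310720) Steps.nil))))))))))))) (nat_lit 34) (nat_lit 1),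
  Rule.mk (nat_lit 6) (nat_lit 274) (Steps.bwd (nat_lit 1) (Steps.bwd (nat_lit 2) (Steps.fwd (nat_lit 262144) (Steps.fwd (nat_lit 1572864) (Steps.bwd (nat_lit 1) (Steps.fwd (nat_lit 786432) (Steps.fwd (nat_lit 262144) (Steps.fwd (nat_lit 1572864) (Steps.bwd (nat_lit 1) (Steps.bwd (nat_lit 6) (Steps.bwd (nat_lit 5) (Steps.fwd (nat_lit 786432) (Steps.fwd (nat_lit 262144) Steps.nil))))))))))))) (nat_lit 34) (nat_lit 3),
  Rule.mk (nat_lit 6) (nat_lit 274) (Steps.bwd (nat_lit 1) (Steps.bwd (nat_lit 6) (Steps.fwd (nat_lit 1310720) (Steps.bwd (nat_lit 2) (Steps.fwd (nat_lit 262144) (Steps.fwd (nat_lit 1572864) (Steps.fwd (nat_lit 262144) (Steps.bwd (nat_lit 2) (Steps.bwd (nat_lit 1) (Steps.fwd (nat_lit 1572864) (Steps.fwd (nat_lit 262144) (Steps.fwd (nat_lit 786432) (Steps.fwd (nat_lit 262144) Steps.nil))))))))))))) (nat_lit 34) (nat_lit 11),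
  Rule.mk (nat_lit 6) (nat_lit 274) (Steps.bwd (nat_lit 1) (Steps.bwd (nat_lit 6) (Steps.bwd (nat_lit 5) (Steps.fwd (nat_lit 786432) (Steps.fwd (nat_lit 262144) (Steps.bwd (nat_lit 6) (Steps.bwd (nat_lit 1) (Steps.bwd (nat_lit 2) (Steps.bwd (nat_lit 1) (Steps.fwd (nat_lit 1572864) (Steps.bwd (nat_lit 1) (Steps.fwd (nat_lit 786432) (Steps.bwd (nat_lit 1) Steps.nil))))))))))))) (nat_lit 34) (nat_lit 11),
  Rule.mk (nat_lit 1) (nat_lit 274) (Steps.bwd (nat_lit 6) (Steps.bwd (nat_lit 1) (Steps.bwd (nat_lit 3) (Steps.fwd (nat_lit 1310720) (Steps.bwd (nat_lit 6) (Steps.fwd (nat_lit 262144) (Steps.bwd (nat_lit 6) (Steps.bwd (nat_lit 1) (Steps.bwd (nat_lit 3) (Steps.fwd (nat_lit 262144) (Steps.bwd (nat_lit 6) (Steps.fwd (nat_lit 262144) (Steps.fwd (nat_lit 524288) Steps.nil))))))))))))) (nat_lit 35) (nat_lit 11),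
  Rule.mk (nat_lit 1) (nat_lit 274) (Steps.bwd (nat_lit 6) (Steps.bwd (nat_lit 1) (Steps.bwd (nat_lit 2) (Steps.fwd (nat_lit 262144) (Steps.fwd (nat_lit 1572864) (Steps.bwd (nat_lit 1) (Steps.bwd (nat_lit 6) (Steps.fwd (nat_lit 1310720) (Steps.bwd (nat_lit 2) (Steps.bwd (nat_lit 1) (Steps.bwd (nat_lit 6) (Steps.bwd (nat_lit 1) (Steps.fwd (nat_lit 786432) Steps.nil))))))))))))) (nat_lit 34) (nat_lit 6),
  Rule.mk (nat_lit 6) (nat_lit 274) (Steps.bwd (nat_lit 1) (Steps.fwd (nat_lit 1572864) (Steps.bwd (nat_lit 5) (Steps.bwd (nat_lit 2) (Steps.bwd (nat_lit 1) (Steps.bwd (nat_lit 6) (Steps.fwd (nat_lit 262144) (Steps.bwd (nat_lit 2) (Steps.fwd (nat_lit 262144) (Steps.fwd (nat_lit 1572864) (Steps.bwd (nat_lit 1) (Steps.bwd (nat_lit 2) (Steps.fwd (nat_lit 262144) Steps.nil))))))))))))) (nat_lit 34) (nat_lit 11),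
  Rule.mk (nat_lit 4) (nat_lit 154) (Steps.bwd (nat_lit 1) (Steps.bwd (nat_lit 6) (Steps.bwd (nat_lit 1) (Steps.fwd (nat_lit 1048576) (Steps.fwd (nat_lit 262144) (Steps.fwd (nat_lit 1572864) (Steps.fwd (nat_lit 262144) Steps.nil))))))) (nat_lit 74) (nat_lit 2),
  Rule.mk (nat_lit 6) (nat_lit 274) (Steps.bwd (nat_lit 1) (Steps.bwd (nat_lit 6) (Steps.bwd (nat_lit 5) (Steps.bwd (nat_lit 2) (Steps.bwd (nat_lit 1) (Steps.bwd (nat_lit 6) (Steps.fwd (nat_lit 262144) (Steps.fwd (nat_lit 786432) (Steps.bwd (nat_lit 1) (Steps.bwd (nat_lit 6) (Steps.fwd (nat_lit 262144) (Steps.bwd (nat_lit 2) (Steps.fwd (nat_lit 262144) Steps.nil))))))))))))) (nat_lit 34) (nat_lit 11),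
  Rule.mk (nat_lit 1) (nat_lit 274) (Steps.bwd (nat_lit 6) (Steps.fwd (nat_lit 1310720) (Steps.bwd (nat_lit 2) (Steps.bwd (nat_lit 1) (Steps.bwd (nat_lit 6) (Steps.bwd (nat_lit 1) (Steps.bwd (nat_lit 2) (Steps.fwd (nat_lit 262144) (Steps.fwd (nat_lit 1572864) (Steps.fwd (nat_lit 262144) (Steps.bwd (nat_lit 2) (Steps.bwd (nat_lit 1) (Steps.bwd (nat_lit 6) Steps.nil))))))))))))) (nat_lit 34) (nat_lit 12),
  Rule.mk (nat_lit 6) (nat_lit 274) (Steps.bwd (nat_lit 1) (Steps.fwd (nat_lit 1572864) (Steps.fwd (nat_lit 1310720) (Steps.bwd (nat_lit 2) (Steps.bwd (nat_lit 1) (Steps.fwd (nat_lit 1572864) (Steps.fwd (nat_lit 262144) (Steps.bwd (nat_lit 2) (Steps.fwd (nat_lit 262144) (Steps.fwd (nat_lit 1572864) (Steps.bwd (nat_lit 1) (Steps.bwd (nat_lit 2) (Steps.fwd (nat_lit 262144) Steps.nil))))))))))))) (nat_lit 34) (nat_lit 11),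
  Rule.mk (nat_lit 6) (nat_lit 274) (Steps.bwd (nat_lit 1) (Steps.fwd (nat_lit 1572864) (Steps.fwd (nat_lit 1310720) (Steps.bwd (nat_lit 2) (Steps.fwd (nat_lit 262144) (Steps.bwd (nat_lit 6) (Steps.fwd (nat_lit 262144) (Steps.fwd (nat_lit 786432) (Steps.bwd (nat_lit 1) (Steps.fwd (nat_lit 1572864) (Steps.bwd (nat_lit 1) (Steps.fwd (nat_lit 786432) (Steps.fwd (nat_lit 262144) Steps.nil))))))))))))) (nat_lit 34) (nat_lit 11),
  Rule.mk (nat_lit 1) (nat_lit 274) (Steps.bwd (nat_lit 6) (Steps.bwd (nat_lit 1) (Steps.bwd (nat_lit 2) (Steps.fwd (nat_lit 262144) (Steps.fwd (nat_lit 1572864) (Steps.fwd (nat_lit 262144) (Steps.bwd (nat_lit 6) (Steps.fwd (nat_lit 1310720) (Steps.bwd (nat_lit 2) (Steps.bwd (nat_lit 1) (Steps.bwd (nat_lit 6) (Steps.bwd (nat_lit 1) (Steps.fwd (nat_lit 786432) Steps.nil))))))))))))) (nat_lit 34) (nat_lit 6),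
  Rule.mk (nat_lit 6) (nat_lit 274) (Steps.bwd (nat_lit 1) (Steps.bwd (nat_lit 6) (Steps.bwd (nat_lit 5) (Steps.bwd (nat_lit 2) (Steps.bwd (nat_lit 1) (Steps.bwd (nat_lit 6) (Steps.fwd (nat_lit 262144) (Steps.fwd (nat_lit 786432) (Steps.bwd (nat_lit 1) (Steps.fwd (nat_lit 1572864) (Steps.fwd (nat_lit 262144) (Steps.bwd (nat_lit 2) (Steps.fwd (nat_lit 262144) Steps.nil))))))))))))) (nat_lit 34) (nat_lit 11),
  Rule.mk (nat_lit 1) (nat_lit 274) (Steps.bwd (nat_lit 6) (Steps.bwd (nat_lit 1) (Steps.bwd (nat_lit 2) (Steps.fwd (nat_lit 262144) (Steps.fwd (nat_lit 1572864) (Steps.fwd (nat_lit 262144) (Steps.bwd (nat_lit 6) (Steps.bwd (nat_lit 5) (Steps.bwd (nat_lit 2) (Steps.bwd (nat_lit 1) (Steps.bwd (nat_lit 6) (Steps.bwd (nat_lit 1) (Steps.fwd (nat_lit 786432) Steps.nil))))))))))))) (nat_lit 34) (nat_lit 6),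
  Rule.mk (nat_lit 6) (nat_lit 274) (Steps.bwd (nat_lit 1) (Steps.fwd (nat_lit 786432) (Steps.fwd (nat_lit 262144) (Steps.fwd (nat_lit 1572864) (Steps.bwd (nat_lit 1) (Steps.bwd (nat_lit 2) (Steps.bwd (nat_lit 1) (Steps.bwd (nat_lit 6) (Steps.fwd (nat_lit 262144) (Steps.fwd (nat_lit 1572864) (Steps.bwd (nat_lit 5) (Steps.fwd (nat_lit 786432) (Steps.fwd (nat_lit 262144) Steps.nil))))))))))))) (nat_lit 34) (nat_lit 3),
  Rule.mk (nat_lit 6) (nat_lit 274) (Steps.bwd (nat_lit 1) (Steps.fwd (nat_lit 1572864) (Steps.fwd (nat_lit 1310720) (Steps.bwd (nat_lit 2) (Steps.fwd (nat_lit 262144) (Steps.fwd (nat_lit 1572864) (Steps.fwd (nat_lit 262144) (Steps.bwd (nat_lit 2) (Steps.bwd (nat_lit 1) (Steps.fwd (nat_lit 1572864) (Steps.fwd (nat_lit 262144) (Steps.fwd (nat_lit 786432) (Steps.fwd (nat_lit 262144) Steps.nil))))))))))))) (nat_lit 34) (nat_lit 11),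
  Rule.mk (nat_lit 1) (nat_lit 274) (Steps.bwd (nat_lit 6) (Steps.bwd (nat_lit 1) (Steps.bwd (nat_lit 3) (Steps.fwd (nat_lit 1310720) (Steps.fwd (nat_lit 1572864) (Steps.fwd (nat_lit 262144) (Steps.bwd (nat_lit 6) (Steps.bwd (nat_lit 1) (Steps.bwd (nat_lit 3) (Steps.fwd (nat_lit 262144) (Steps.bwd (nat_lit 6) (Steps.fwd (nat_lit 262144) (Steps.fwd (nat_lit 524288) Steps.nil))))))))))))) (nat_lit 35) (nat_lit 11),
  Rule.mk (nat_lit 6) (nat_lit 274) (Steps.bwd (nat_lit 1) (Steps.fwd (nat_lit 524288) (Steps.fwd (nat_lit 1310720) (Steps.bwd (nat_lit 6) (Steps.fwd (nat_lit 262144) (Steps.bwd (nat_lit 6) (Steps.fwd (nat_lit 262144) (Steps.fwd (nat_lit 524288) (Steps.bwd (nat_lit 1) (Steps.bwd (nat_lit 6) (Steps.fwd (nat_lit 262144) (Steps.bwd (nat_lit 3) (Steps.bwd (nat_lit 1) Steps.nil))))))))))))) (nat_lit 35) (nat_lit 12),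
  Rule.mk (nat_lit 6) (nat_lit 274) (Steps.bwd (nat_lit 1) (Steps.fwd (nat_lit 1572864) (Steps.bwd (nat_lit 5) (Steps.fwd (nat_lit 786432) (Steps.fwd (nat_lit 262144) (Steps.bwd (nat_lit 6) (Steps.bwd (nat_lit 1) (Steps.bwd (nat_lit 2) (Steps.bwd (nat_lit 1) (Steps.bwd (nat_lit 6) (Steps.bwd (nat_lit 1) (Steps.fwd (nat_lit 786432) (Steps.bwd (nat_lit 1) Steps.nil))))))))))))) (nat_lit 34) (nat_lit 11),
  Rule.mk (nat_lit 1) (nat_lit 274) (Steps.bwd (nat_lit 6) (Steps.bwd (nat_lit 1) (Steps.bwd (nat_lit 3) (Steps.fwd (nat_lit 1310720) (Steps.bwd (nat_lit 6) (Steps.fwd (nat_lit 262144) (Steps.fwd (nat_lit 1572864) (Steps.bwd (nat_lit 1) (Steps.bwd (nat_lit 3) (Steps.bwd (nat_lit 1) (Steps.bwd (nat_lit 6) (Steps.fwd (nat_lit 262144) (Steps.fwd (nat_lit 524288) Steps.nil))))))))))))) (nat_lit 35) (nat_lit 11),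
  Rule.mk (nat_lit 6) (nat_lit 274) (Steps.bwd (nat_lit 1) (Steps.fwd (nat_lit 524288) (Steps.bwd (nat_lit 5) (Steps.bwd (nat_lit 6) (Steps.fwd (nat_lit 262144) (Steps.fwd (nat_lit 1572864) (Steps.bwd (nat_lit 1) (Steps.fwd (nat_lit 524288) (Steps.bwd (nat_lit 1) (Steps.fwd (nat_lit 1572864) (Steps.fwd (nat_lit 262144) (Steps.bwd (nat_lit 3) (Steps.fwd (nat_lit 262144) Steps.nil))))))))))))) (nat_lit 35) (nat_lit 12),
  Rule.mk (nat_lit 6) (nat_lit 274) (Steps.bwd (nat_lit 1) (Steps.bwd (nat_lit 6) (Steps.bwd (nat_lit 5) (Steps.fwd (nat_lit 786432) (Steps.fwd (nat_lit 262144) (Steps.bwd (nat_lit 6) (Steps.bwd (nat_lit 1) (Steps.bwd (nat_lit 2) (Steps.bwd (nat_lit 1) (Steps.bwd (nat_lit 6) (Steps.bwd (nat_lit 1) (Steps.fwd (nat_lit 786432) (Steps.bwd (nat_lit 1) Steps.nil))))))))))))) (nat_lit 34) (nat_lit 11),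
  Rule.mk (nat_lit 1) (nat_lit 274) (Steps.bwd (nat_lit 6) (Steps.bwd (nat_lit 1) (Steps.bwd (nat_lit 3) (Steps.fwd (nat_lit 1310720) (Steps.fwd (nat_lit 1572864) (Steps.fwd (nat_lit 262144) (Steps.fwd (nat_lit 1572864) (Steps.bwd (nat_lit 1) (Steps.bwd (nat_lit 3) (Steps.fwd (nat_lit 262144) (Steps.bwd (nat_lit 6) (Steps.fwd (nat_lit 262144) (Steps.fwd (nat_lit 524288) Steps.nil))))))))))))) (nat_lit 35) (nat_lit 11),
  Rule.mk (nat_lit 1) (nat_lit 274) (Steps.fwd (nat_lit 1572864) (Steps.fwd (nat_lit 1310720) (Steps.bwd (nat_lit 2) (Steps.bwd (nat_lit 1) (Steps.fwd (nat_lit 1572864) (Steps.fwd (nat_lit 262144) (Steps.fwd (nat_lit 786432) (Steps.bwd (nat_lit 1) (Steps.bwd (nat_lit 6) (Steps.bwd (nat_lit 1) (Steps.fwd (nat_lit 786432) (Steps.fwd (nat_lit 262144) (Steps.bwd (nat_lit 6) Steps.nil))))))))))))) (nat_lit 34) (nat_lit 12),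
  Rule.mk (nat_lit 1) (nat_lit 274) (Steps.fwd (nat_lit 1572864) (Steps.bwd (nat_lit 5) (Steps.bwd (nat_lit 2) (Steps.bwd (nat_lit 1) (Steps.fwd (nat_lit 1572864) (Steps.fwd (nat_lit 262144) (Steps.fwd (nat_lit 786432) (Steps.bwd (nat_lit 1) (Steps.bwd (nat_lit 6) (Steps.bwd (nat_lit 1) (Steps.fwd (nat_lit 786432) (Steps.fwd (nat_lit 262144) (Steps.bwd (nat_lit 6) Steps.nil))))))))))))) (nat_lit 34) (nat_lit 12),
  Rule.mk (nat_lit 6) (nat_lit 274) (Steps.bwd (nat_lit 1) (Steps.fwd (nat_lit 524288) (Steps.fwd (nat_lit 1310720) (Steps.fwd (nat_lit 1572864) (Steps.fwd (nat_lit 262144) (Steps.fwd (nat_lit 1572864) (Steps.bwd (nat_lit 1) (Steps.fwd (nat_lit 524288) (Steps.bwd (nat_lit 1) (Steps.bwd (nat_lit 6) (Steps.fwd (nat_lit 262144) (Steps.fwd (nat_lit 524288) (Steps.bwd (nat_lit 1) Steps.nil))))))))))))) (nat_lit 35) (nat_lit 12),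
  Rule.mk (nat_lit 1) (nat_lit 274) (Steps.fwd (nat_lit 1572864) (Steps.fwd (nat_lit 1310720) (Steps.bwd (nat_lit 2) (Steps.fwd (nat_lit 262144) (Steps.bwd (nat_lit 6) (Steps.fwd (nat_lit 262144) (Steps.fwd (nat_lit 786432) (Steps.bwd (nat_lit 1) (Steps.fwd (nat_lit 1572864) (Steps.bwd (nat_lit 1) (Steps.bwd (nat_lit 2) (Steps.fwd (nat_lit 262144) (Steps.bwd (nat_lit 6) Steps.nil))))))))))))) (nat_lit 34) (nat_lit 12),
  Rule.mk (nat_lit 1) (nat_lit 274) (Steps.fwd (nat_lit 1572864) (Steps.fwd (nat_lit 1310720) (Steps.bwd (nat_lit 2) (Steps.bwd (nat_lit 1) (Steps.bwd (nat_lit 6) (Steps.fwd (nat_lit 262144) (Steps.fwd (nat_lit 786432) (Steps.bwd (nat_lit 1) (Steps.fwd (nat_lit 1572864) (Steps.bwd (nat_lit 1) (Steps.bwd (nat_lit 2) (Steps.fwd (nat_lit 262144) (Steps.bwd (nat_lit 6) Steps.nil))))))))))))) (nat_lit 34) (nat_lit 12),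
  Rule.mk (nat_lit 6) (nat_lit 274) (Steps.bwd (nat_lit 1) (Steps.fwd (nat_lit 524288) (Steps.bwd (nat_lit 5) (Steps.bwd (nat_lit 6) (Steps.fwd (nat_lit 262144) (Steps.fwd (nat_lit 1572864) (Steps.bwd (nat_lit 1) (Steps.fwd (nat_lit 524288) (Steps.bwd (nat_lit 1) (Steps.fwd (nat_lit 1572864) (Steps.fwd (nat_lit 262144) (Steps.fwd (nat_lit 524288) (Steps.bwd (nat_lit 1) Steps.nil))))))))))))) (nat_lit 35) (nat_lit 12),
  Rule.mk (nat_lit 1) (nat_lit 274) (Steps.fwd (nat_lit 1572864) (Steps.bwd (nat_lit 5) (Steps.bwd (nat_lit 2) (Steps.bwd (nat_lit 1) (Steps.fwd (nat_lit 1572864) (Steps.fwd (nat_lit 262144) (Steps.fwd (nat_lit 786432) (Steps.fwd (nat_lit 262144) (Steps.bwd (nat_lit 6) (Steps.bwd (nat_lit 1) (Steps.fwd (nat_lit 786432) (Steps.fwd (nat_lit 262144) (Steps.bwd (nat_lit 6) Steps.nil))))))))))))) (nat_lit 34) (nat_lit 12),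
  Rule.mk (nat_lit 6) (nat_lit 274) (Steps.bwd (nat_lit 1) (Steps.fwd (nat_lit 524288) (Steps.fwd (nat_lit 1310720) (Steps.bwd (nat_lit 6) (Steps.fwd (nat_lit 262144) (Steps.fwd (nat_lit 1572864) (Steps.bwd (nat_lit 1) (Steps.fwd (nat_lit 524288) (Steps.bwd (nat_lit 1) (Steps.bwd (nat_lit 6) (Steps.fwd (nat_lit 262144) (Steps.bwd (nat_lit 3) (Steps.bwd (nat_lit 1) Steps.nil))))))))))))) (nat_lit 35) (nat_lit 12),
  Rule.mk (nat_lit 1) (nat_lit 274) (Steps.fwd (nat_lit 1572864) (Steps.bwd (nat_lit 5) (Steps.bwd (nat_lit 2) (Steps.bwd (nat_lit 1) (Steps.bwd (nat_lit 6) (Steps.fwd (nat_lit 262144) (Steps.fwd (nat_lit 786432) (Steps.bwd (nat_lit 1) (Steps.fwd (nat_lit 1572864) (Steps.bwd (nat_lit 1) (Steps.bwd (nat_lit 2) (Steps.fwd (nat_lit 262144) (Steps.bwd (nat_lit 6) Steps.nil))))))))))))) (nat_lit 34) (nat_lit 12),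
  Rule.mk (nat_lit 1) (nat_lit 274) (Steps.bwd (nat_lit 6) (Steps.fwd (nat_lit 262144) (Steps.bwd (nat_lit 2) (Steps.bwd (nat_lit 1) (Steps.bwd (nat_lit 6) (Steps.fwd (nat_lit 262144) (Steps.fwd (nat_lit 786432) (Steps.bwd (nat_lit 1) (Steps.fwd (nat_lit 1572864) (Steps.bwd (nat_lit 1) (Steps.bwd (nat_lit 6) (Steps.fwd (nat_lit 1310720) (Steps.bwd (nat_lit 2) Steps.nil))))))))))))) (nat_lit 34) (nat_lit 2),
  Rule.mk (nat_lit 1) (nat_lit 274) (Steps.bwd (nat_lit 6) (Steps.fwd (nat_lit 262144) (Steps.bwd (nat_lit 2) (Steps.bwd (nat_lit 1) (Steps.bwd (nat_lit 6) (Steps.fwd (nat_lit 262144) (Steps.fwd (nat_lit 786432) (Steps.bwd (nat_lit 1) (Steps.fwd (nat_lit 1572864) (Steps.bwd (nat_lit 1) (Steps.fwd (nat_lit 1572864) (Steps.fwd (nat_lit 1310720) (Steps.bwd (nat_lit 2) Steps.nil))))))))))))) (nat_lit 34) (nat_lit 2),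
  Rule.mk (nat_lit 1) (nat_lit 274) (Steps.bwd (nat_lit 6) (Steps.fwd (nat_lit 262144) (Steps.bwd (nat_lit 6) (Steps.fwd (nat_lit 1310720) (Steps.fwd (nat_lit 786432) (Steps.bwd (nat_lit 1) (Steps.fwd (nat_lit 1572864) (Steps.bwd (nat_lit 1) (Steps.fwd (nat_lit 786432) (Steps.fwd (nat_lit 262144) (Steps.bwd (nat_lit 6) (Steps.bwd (nat_lit 1) (Steps.bwd (nat_lit 2) Steps.nil))))))))))))) (nat_lit 34) (nat_lit 10),
  Rule.mk (nat_lit 1) (nat_lit 274) (Steps.bwd (nat_lit 6) (Steps.fwd (nat_lit 262144) (Steps.bwd (nat_lit 6) (Steps.bwd (nat_lit 5) (Steps.fwd (nat_lit 786432) (Steps.bwd (nat_lit 1) (Steps.fwd (nat_lit 1572864) (Steps.bwd (nat_lit 1) (Steps.fwd (nat_lit 786432) (Steps.fwd (nat_lit 262144) (Steps.bwd (nat_lit 6) (Steps.bwd (nat_lit 1) (Steps.bwd (nat_lit 2) Steps.nil))))))))))))) (nat_lit 34) (nat_lit 10),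
  Rule.mk (nat_lit 6) (nat_lit 274) (Steps.bwd (nat_lit 1) (Steps.bwd (nat_lit 2) (Steps.bwd (nat_lit 1) (Steps.fwd (nat_lit 1572864) (Steps.fwd (nat_lit 262144) (Steps.fwd (nat_lit 1572864) (Steps.bwd (nat_lit 5) (Steps.fwd (nat_lit 786432) (Steps.bwd (nat_lit 1) (Steps.fwd (nat_lit 1572864) (Steps.bwd (nat_lit 1) (Steps.bwd (nat_lit 2) (Steps.fwd (nat_lit 262144) Steps.nil))))))))))))) (nat_lit 34) (nat_lit 7),
  Rule.mk (nat_lit 6) (nat_lit 154) (Steps.bwd (nat_lit 2) (Steps.bwd (nat_lit 5) (Steps.bwd (nat_lit 2) (Steps.fwd (nat_lit 1835008) (Steps.fwd (nat_lit 1572864) (Steps.bwd (nat_lit 2) (Steps.fwd (nat_lit 1310720) Steps.nil))))))) (nat_lit 84) (nat_lit 0),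
  Rule.mk (nat_lit 1) (nat_lit 274) (Steps.bwd (nat_lit 6) (Steps.bwd (nat_lit 1) (Steps.bwd (nat_lit 2) (Steps.fwd (nat_lit 262144) (Steps.fwd (nat_lit 1572864) (Steps.fwd (nat_lit 262144) (Steps.bwd (nat_lit 6) (Steps.bwd (nat_lit 5) (Steps.bwd (nat_lit 2) (Steps.bwd (nat_lit 1) (Steps.fwd (nat_lit 1572864) (Steps.fwd (nat_lit 262144) (Steps.fwd (nat_lit 786432) Steps.nil))))))))))))) (nat_lit 34) (nat_lit 6),
  Rule.mk (nat_lit 3) (nat_lit 274) (Steps.bwd (nat_lit 1) (Steps.bwd (nat_lit 6) (Steps.bwd (nat_lit 1) (Steps.bwd (nat_lit 3) (Steps.fwd (nat_lit 262144) (Steps.fwd (nat_lit 1572864) (Steps.bwd (nat_lit 1) (Steps.fwd (nat_lit 524288) (Steps.fwd (nat_lit 1310720) (Steps.bwd (nat_lit 6) (Steps.fwd (nat_lit 262144) (Steps.fwd (nat_lit 1572864) (Steps.fwd (nat_lit 262144) Steps.nil))))))))))))) (nat_lit 35) (nat_lit 6),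
  Rule.mk (nat_lit 6) (nat_lit 274) (Steps.bwd (nat_lit 1) (Steps.bwd (nat_lit 2) (Steps.bwd (nat_lit 1) (Steps.bwd (nat_lit 6) (Steps.fwd (nat_lit 262144) (Steps.fwd (nat_lit 1572864) (Steps.bwd (nat_lit 5) (Steps.fwd (nat_lit 786432) (Steps.fwd (nat_lit 262144) (Steps.fwd (nat_lit 1572864) (Steps.bwd (nat_lit 1) (Steps.bwd (nat_lit 2) (Steps.fwd (nat_lit 262144) Steps.nil))))))))))))) (nat_lit 34) (nat_lit 7),
  Rule.mk (nat_lit 6) (nat_lit 274) (Steps.bwd (nat_lit 1) (Steps.fwd (nat_lit 1572864) (Steps.fwd (nat_lit 1310720) (Steps.fwd (nat_lit 786432) (Steps.fwd (nat_lit 262144) (Steps.bwd (nat_lit 6) (Steps.fwd (nat_lit 262144) (Steps.bwd (nat_lit 2) (Steps.bwd (nat_lit 1) (Steps.bwd (nat_lit 6) (Steps.fwd (nat_lit 262144) (Steps.bwd (nat_lit 2) (Steps.bwd (nat_lit 1) Steps.nil))))))))))))) (nat_lit 34) (nat_lit 11),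
  Rule.mk (nat_lit 3) (nat_lit 274) (Steps.bwd (nat_lit 1) (Steps.bwd (nat_lit 6) (Steps.bwd (nat_lit 1) (Steps.bwd (nat_lit 3) (Steps.fwd (nat_lit 262144) (Steps.fwd (nat_lit 1572864) (Steps.bwd (nat_lit 1) (Steps.fwd (nat_lit 524288) (Steps.fwd (nat_lit 1310720) (Steps.fwd (nat_lit 1572864) (Steps.bwd (nat_lit 1) (Steps.fwd (nat_lit 1572864) (Steps.fwd (nat_lit 262144) Steps.nil))))))))))))) (nat_lit 35) (nat_lit 6),
  Rule.mk (nat_lit 1) (nat_lit 274) (Steps.bwd (nat_lit 3) (Steps.bwd (nat_lit 5) (Steps.bwd (nat_lit 6) (Steps.bwd (nat_lit 1) (Steps.fwd (nat_lit 1572864) (Steps.fwd (nat_lit 262144) (Steps.bwd (nat_lit 3) (Steps.fwd (nat_lit 262144) (Steps.fwd (nat_lit 1572864) (Steps.bwd (nat_lit 1) (Steps.bwd (nat_lit 3) (Steps.fwd (nat_lit 262144) (Steps.bwd (nat_lit 6) Steps.nil))))))))))))) (nat_lit 35) (nat_lit 13),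
  Rule.mk (nat_lit 6) (nat_lit 274) (Steps.bwd (nat_lit 1) (Steps.bwd (nat_lit 2) (Steps.bwd (nat_lit 1) (Steps.fwd (nat_lit 1572864) (Steps.fwd (nat_lit 262144) (Steps.fwd (nat_lit 1572864) (Steps.bwd (nat_lit 5) (Steps.fwd (nat_lit 786432) (Steps.fwd (nat_lit 262144) (Steps.fwd (nat_lit 1572864) (Steps.bwd (nat_lit 1) (Steps.fwd (nat_lit 786432) (Steps.fwd (nat_lit 262144) Steps.nil))))))))))))) (nat_lit 34) (nat_lit 7),
  Rule.mk (nat_lit 6) (nat_lit 154) (Steps.bwd (nat_lit 2) (Steps.fwd (nat_lit 1310720) (Steps.bwd (nat_lit 2) (Steps.fwd (nat_lit 1835008) (Steps.fwd (nat_lit 1572864) (Steps.bwd (nat_lit 2) (Steps.fwd (nat_lit 1310720) Steps.nil))))))) (nat_lit 84) (nat_lit 0),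
  Rule.mk (nat_lit 3) (nat_lit 274) (Steps.bwd (nat_lit 1) (Steps.bwd (nat_lit 6) (Steps.bwd (nat_lit 1) (Steps.bwd (nat_lit 3) (Steps.fwd (nat_lit 262144) (Steps.fwd (nat_lit 1572864) (Steps.bwd (nat_lit 1) (Steps.fwd (nat_lit 524288) (Steps.bwd (nat_lit 5) (Steps.fwd (nat_lit 1572864) (Steps.bwd (nat_lit 1) (Steps.fwd (nat_lit 1572864) (Steps.fwd (nat_lit 262144) Steps.nil))))))))))))) (nat_lit 35) (nat_lit 6),
  Rule.mk (nat_lit 1) (nat_lit 274) (Steps.fwd (nat_lit 786432) (Steps.bwd (nat_lit 1) (Steps.bwd (nat_lit 6) (Steps.fwd (nat_lit 262144) (Steps.fwd (nat_lit 1572864) (Steps.fwd (nat_lit 1310720) (Steps.bwd (nat_lit 2) (Steps.bwd (nat_lit 1) (Steps.bwd (nat_lit 6) (Steps.bwd (nat_lit 1) (Steps.fwd (nat_lit 786432) (Steps.fwd (nat_lit 262144) (Steps.bwd (nat_lit 6) Steps.nil))))))))))))) (nat_lit 34) (nat_lit 8),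
  Rule.mk (nat_lit 6) (nat_lit 274) (Steps.bwd (nat_lit 1) (Steps.bwd (nat_lit 6) (Steps.bwd (nat_lit 5) (Steps.bwd (nat_lit 2) (Steps.fwd (nat_lit 262144) (Steps.bwd (nat_lit 6) (Steps.fwd (nat_lit 262144) (Steps.bwd (nat_lit 2) (Steps.fwd (nat_lit 262144) (Steps.fwd (nat_lit 1572864) (Steps.fwd (nat_lit 262144) (Steps.fwd (nat_lit 786432) (Steps.fwd (nat_lit 262144) Steps.nil))))))))))))) (nat_lit 34) (nat_lit 11),
  Rule.mk (nat_lit 1) (nat_lit 274) (Steps.bwd (nat_lit 6) (Steps.bwd (nat_lit 1) (Steps.bwd (nat_lit 2) (Steps.fwd (nat_lit 262144) (Steps.bwd (nat_lit 6) (Steps.fwd (nat_lit 262144) (Steps.bwd (nat_lit 2) (Steps.fwd (nat_lit 262144) (Steps.fwd (nat_lit 1572864) (Steps.fwd (nat_lit 262144) (Steps.bwd (nat_lit 6) (Steps.bwd (nat_lit 5) (Steps.bwd (nat_lit 2) Steps.nil))))))))))))) (nat_lit 34) (nat_lit 2),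
  Rule.mk (nat_lit 3) (nat_lit 154) (Steps.bwd (nat_lit 1) (Steps.bwd (nat_lit 2) (Steps.bwd (nat_lit 1) (Steps.bwd (nat_lit 3) (Steps.fwd (nat_lit 262144) (Steps.bwd (nat_lit 2) (Steps.bwd (nat_lit 1) Steps.nil))))))) (nat_lit 68) (nat_lit 0),
  Rule.mk (nat_lit 1) (nat_lit 274) (Steps.fwd (nat_lit 786432) (Steps.bwd (nat_lit 1) (Steps.fwd (nat_lit 1572864) (Steps.fwd (nat_lit 262144) (Steps.fwd (nat_lit 1572864) (Steps.fwd (nat_lit 1310720) (Steps.bwd (nat_lit 2) (Steps.bwd (nat_lit 1) (Steps.bwd (nat_lit 6) (Steps.bwd (nat_lit 1) (Steps.fwd (nat_lit 786432) (Steps.fwd (nat_lit 262144) (Steps.bwd (nat_lit 6) Steps.nil))))))))))))) (nat_lit 34) (nat_lit 8),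
  Rule.mk (nat_lit 1) (nat_lit 274) (Steps.bwd (nat_lit 6) (Steps.bwd (nat_lit 1) (Steps.bwd (nat_lit 2) (Steps.fwd (nat_lit 262144) (Steps.bwd (nat_lit 6) (Steps.fwd (nat_lit 262144) (Steps.bwd (nat_lit 2) (Steps.fwd (nat_lit 262144) (Steps.fwd (nat_lit 1572864) (Steps.fwd (nat_lit 262144) (Steps.bwd (nat_lit 6) (Steps.fwd (nat_lit 1310720) (Steps.bwd (nat_lit 2) Steps.nil))))))))))))) (nat_lit 34) (nat_lit 2),
  Rule.mk (nat_lit 1) (nat_lit 274) (Steps.bwd (nat_lit 6) (Steps.fwd (nat_lit 1310720) (Steps.bwd (nat_lit 2) (Steps.fwd (nat_lit 262144) (Steps.fwd (nat_lit 1572864) (Steps.fwd (nat_lit 262144) (Steps.fwd (nat_lit 786432) (Steps.bwd (nat_lit 1) (Steps.bwd (nat_lit 6) (Steps.bwd (nat_lit 1) (Steps.fwd (nat_lit 786432) (Steps.fwd (nat_lit 262144) (Steps.bwd (nat_lit 6) Steps.nil))))))))))))) (nat_lit 34) (nat_lit 12),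
  Rule.mk (nat_lit 6) (nat_lit 154) (Steps.bwd (nat_lit 3) (Steps.bwd (nat_lit 5) (Steps.fwd (nat_lit 524288) (Steps.bwd (nat_lit 7) (Steps.bwd (nat_lit 6) (Steps.fwd (nat_lit 524288) (Steps.bwd (nat_lit 5) Steps.nil))))))) (nat_lit 83) (nat_lit 5)]
noncomputable def R_34 : List (Rule) := [Rule.mk (nat_lit 1) (nat_lit 274) (Steps.bwd (nat_lit 6) (Steps.bwd (nat_lit 5) (Steps.bwd (nat_lit 2) (Steps.fwd (nat_lit 262144) (Steps.fwd (nat_lit 1572864) (Steps.fwd (nat_lit 262144) (Steps.bwd (nat_lit 2) (Steps.bwd (nat_lit 1) (Steps.bwd (nat_lit 6) (Steps.bwd (nat_lit 1) (Steps.fwd (nat_lit 786432) (Steps.fwd (nat_lit 262144) (Steps.bwd (nat_lit 6) Steps.nil))))))))))))) (nat_lit 34) (nat_lit 12),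
  Rule.mk (nat_lit 6) (nat_lit 154) (Steps.bwd (nat_lit 3) (Steps.bwd (nat_lit 5) (Steps.fwd (nat_lit 524288) (Steps.bwd (nat_lit 7) (Steps.bwd (nat_lit 6) (Steps.fwd (nat_lit 524288) (Steps.fwd (nat_lit 1310720) Steps.nil))))))) (nat_lit 83) (nat_lit 5),
  Rule.mk (nat_lit 3) (nat_lit 154) (Steps.bwd (nat_lit 1) (Steps.bwd (nat_lit 2) (Steps.bwd (nat_lit 1) (Steps.bwd (nat_lit 3) (Steps.fwd (nat_lit 262144) (Steps.bwd (nat_lit 2) (Steps.fwd (nat_lit 262144) Steps.nil))))))) (nat_lit 68) (nat_lit 0),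
  Rule.mk (nat_lit 2) (nat_lit 154) (Steps.bwd (nat_lit 1) (Steps.fwd (nat_lit 524288) (Steps.fwd (nat_lit 262144) (Steps.bwd (nat_lit 2) (Steps.fwd (nat_lit 262144) (Steps.fwd (nat_lit 524288) (Steps.bwd (nat_lit 1) Steps.nil))))))) (nat_lit 68) (nat_lit 2),
  Rule.mk (nat_lit 6) (nat_lit 274) (Steps.bwd (nat_lit 1) (Steps.fwd (nat_lit 1572864) (Steps.bwd (nat_lit 5) (Steps.bwd (nat_lit 2) (Steps.fwd (nat_lit 262144) (Steps.bwd (nat_lit 6) (Steps.fwd (nat_lit 262144) (Steps.fwd (nat_lit 786432) (Steps.fwd (nat_lit 262144) (Steps.bwd (nat_lit 6) (Steps.bwd (nat_lit 1) (Steps.bwd (nat_lit 2) (Steps.fwd (nat_lit 262144) Steps.nil))))))))))))) (nat_lit 34) (nat_lit 11),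
  Rule.mk (nat_lit 6) (nat_lit 274) (Steps.bwd (nat_lit 1) (Steps.bwd (nat_lit 6) (Steps.bwd (nat_lit 5) (Steps.bwd (nat_lit 2) (Steps.bwd (nat_lit 1) (Steps.fwd (nat_lit 1572864) (Steps.bwd (nat_lit 1) (Steps.bwd (nat_lit 2) (Steps.fwd (nat_lit 262144) (Steps.bwd (nat_lit 6) (Steps.bwd (nat_lit 1) (Steps.bwd (nat_lit 2) (Steps.bwd (nat_lit 1) Steps.nil))))))))))))) (nat_lit 34) (nat_lit 11),
  Rule.mk (nat_lit 1) (nat_lit 274) (Steps.bwd (nat_lit 3) (Steps.fwd (nat_lit 1310720) (Steps.bwd (nat_lit 6) (Steps.bwd (nat_lit 1) (Steps.bwd (nat_lit 6) (Steps.fwd (nat_lit 262144) (Steps.fwd (nat_lit 524288) (Steps.bwd (nat_lit 1) (Steps.fwd (nat_lit 1572864) (Steps.bwd (nat_lit 1) (Steps.bwd (nat_lit 3) (Steps.fwd (nat_lit 262144) (Steps.bwd (nat_lit 6) Steps.nil))))))))))))) (nat_lit 35) (nat_lit 13),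
  Rule.mk (nat_lit 6) (nat_lit 274) (Steps.bwd (nat_lit 1) (Steps.bwd (nat_lit 2) (Steps.bwd (nat_lit 1) (Steps.fwd (nat_lit 1572864) (Steps.fwd (nat_lit 262144) (Steps.fwd (nat_lit 1572864) (Steps.fwd (nat_lit 1310720) (Steps.fwd (nat_lit 786432) (Steps.fwd (nat_lit 262144) (Steps.fwd (nat_lit 1572864) (Steps.bwd (nat_lit 1) (Steps.bwd (nat_lit 2) (Steps.fwd (nat_lit 262144) Steps.nil))))))))))))) (nat_lit 34) (nat_lit 7),
  Rule.mk (nat_lit 1) (nat_lit 274) (Steps.bwd (nat_lit 6) (Steps.bwd (nat_lit 1) (Steps.bwd (nat_lit 2) (Steps.fwd (nat_lit 262144) (Steps.fwd (nat_lit 1572864) (Steps.bwd (nat_lit 1) (Steps.bwd (nat_lit 6) (Steps.bwd (nat_lit 5) (Steps.bwd (nat_lit 2) (Steps.bwd (nat_lit 1) (Steps.fwd (nat_lit 1572864) (Steps.fwd (nat_lit 262144) (Steps.bwd (nat_lit 2) Steps.nil))))))))))))) (nat_lit 34) (nat_lit 6),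
  Rule.mk (nat_lit 6) (nat_lit 274) (Steps.bwd (nat_lit 1) (Steps.fwd (nat_lit 1572864) (Steps.bwd (nat_lit 5) (Steps.bwd (nat_lit 2) (Steps.fwd (nat_lit 262144) (Steps.bwd (nat_lit 6) (Steps.fwd (nat_lit 262144) (Steps.fwd (nat_lit 786432) (Steps.bwd (nat_lit 1) (Steps.fwd (nat_lit 1572864) (Steps.bwd (nat_lit 1) (Steps.bwd (nat_lit 2) (Steps.fwd (nat_lit 262144) Steps.nil))))))))))))) (nat_lit 34) (nat_lit 11),
  Rule.mk (nat_lit 6) (nat_lit 274) (Steps.bwd (nat_lit 1) (Steps.fwd (nat_lit 1572864) (Steps.fwd (nat_lit 1310720) (Steps.fwd (nat_lit 786432) (Steps.fwd (nat_lit 262144) (Steps.bwd (nat_lit 6) (Steps.bwd (nat_lit 1) (Steps.fwd (nat_lit 786432) (Steps.bwd (nat_lit 1) (Steps.fwd (nat_lit 1572864) (Steps.fwd (nat_lit 262144) (Steps.bwd (nat_lit 2) (Steps.bwd (nat_lit 1) Steps.nil))))))))))))) (nat_lit 34) (nat_lit 11),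
  Rule.mk (nat_lit 6) (nat_lit 274) (Steps.bwd (nat_lit 1) (Steps.fwd (nat_lit 1572864) (Steps.bwd (nat_lit 5) (Steps.bwd (nat_lit 2) (Steps.fwd (nat_lit 262144) (Steps.bwd (nat_lit 6) (Steps.fwd (nat_lit 262144) (Steps.fwd (nat_lit 786432) (Steps.bwd (nat_lit 1) (Steps.bwd (nat_lit 6) (Steps.bwd (nat_lit 1) (Steps.bwd (nat_lit 2) (Steps.fwd (nat_lit 262144) Steps.nil))))))))))))) (nat_lit 34) (nat_lit 11),
  Rule.mk (nat_lit 6) (nat_lit 274) (Steps.bwd (nat_lit 1) (Steps.fwd (nat_lit 1572864) (Steps.fwd (nat_lit 1310720) (Steps.bwd (nat_lit 2) (Steps.fwd (nat_lit 262144) (Steps.bwd (nat_lit 6) (Steps.fwd (nat_lit 262144) (Steps.fwd (nat_lit 786432) (Steps.bwd (nat_lit 1) (Steps.bwd (nat_lit 6) (Steps.bwd (nat_lit 1) (Steps.bwd (nat_lit 2) (Steps.fwd (nat_lit 262144) Steps.nil))))))))))))) (nat_lit 34) (nat_lit 11),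
  Rule.mk (nat_lit 6) (nat_lit 274) (Steps.bwd (nat_lit 1) (Steps.bwd (nat_lit 6) (Steps.fwd (nat_lit 1310720) (Steps.bwd (nat_lit 2) (Steps.bwd (nat_lit 1) (Steps.fwd (nat_lit 1572864) (Steps.bwd (nat_lit 1) (Steps.bwd (nat_lit 2) (Steps.fwd (nat_lit 262144) (Steps.bwd (nat_lit 6) (Steps.bwd (nat_lit 1) (Steps.bwd (nat_lit 2) (Steps.bwd (nat_lit 1) Steps.nil))))))))))))) (nat_lit 34) (nat_lit 11),
  Rule.mk (nat_lit 1) (nat_lit 274) (Steps.fwd (nat_lit 786432) (Steps.bwd (nat_lit 1) (Steps.fwd (nat_lit 1572864) (Steps.fwd (nat_lit 262144) (Steps.bwd (nat_lit 2) (Steps.bwd (nat_lit 1) (Steps.fwd (nat_lit 1572864) (Steps.bwd (nat_lit 1) (Steps.bwd (nat_lit 6) (Steps.bwd (nat_lit 5) (Steps.bwd (nat_lit 2) (Steps.fwd (nat_lit 262144) (Steps.bwd (nat_lit 6) Steps.nil))))))))))))) (nat_lit 34) (nat_lit 4),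
  Rule.mk (nat_lit 1) (nat_lit 274) (Steps.bwd (nat_lit 6) (Steps.bwd (nat_lit 1) (Steps.bwd (nat_lit 3) (Steps.fwd (nat_lit 262144) (Steps.bwd (nat_lit 6) (Steps.fwd (nat_lit 262144) (Steps.fwd (nat_lit 524288) (Steps.bwd (nat_lit 1) (Steps.bwd (nat_lit 6) (Steps.fwd (nat_lit 262144) (Steps.bwd (nat_lit 3) (Steps.fwd (nat_lit 1310720) (Steps.fwd (nat_lit 1572864) Steps.nil))))))))))))) (nat_lit 35) (nat_lit 3),
  Rule.mk (nat_lit 6) (nat_lit 274) (Steps.bwd (nat_lit 1) (Steps.bwd (nat_lit 6) (Steps.fwd (nat_lit 1310720) (Steps.fwd (nat_lit 786432) (Steps.fwd (nat_lit 262144) (Steps.fwd (nat_lit 1572864) (Steps.fwd (nat_lit 262144) (Steps.bwd (nat_lit 2) (Steps.bwd (nat_lit 1) (Steps.fwd (nat_lit 1572864) (Steps.fwd (nat_lit 262144) (Steps.fwd (nat_lit 786432) (Steps.fwd (nat_lit 262144) Steps.nil))))))))))))) (nat_lit 34) (nat_lit 11),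
  Rule.mk (nat_lit 1) (nat_lit 114) (Steps.bwd (nat_lit 7) (Steps.fwd (nat_lit 1310720) (Steps.bwd (nat_lit 1) (Steps.fwd (nat_lit 1835008) (Steps.fwd (nat_lit 1310720) Steps.nil))))) (nat_lit 53) (nat_lit 0),
  Rule.mk (nat_lit 6) (nat_lit 274) (Steps.bwd (nat_lit 1) (Steps.fwd (nat_lit 1572864) (Steps.bwd (nat_lit 5) (Steps.bwd (nat_lit 2) (Steps.bwd (nat_lit 1) (Steps.bwd (nat_lit 6) (Steps.fwd (nat_lit 262144) (Steps.fwd (nat_lit 786432) (Steps.bwd (nat_lit 1) (Steps.fwd (nat_lit 1572864) (Steps.bwd (nat_lit 1) (Steps.bwd (nat_lit 2) (Steps.fwd (nat_lit 262144) Steps.nil))))))))))))) (nat_lit 34) (nat_lit 11),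
  Rule.mk (nat_lit 6) (nat_lit 274) (Steps.bwd (nat_lit 1) (Steps.bwd (nat_lit 6) (Steps.fwd (nat_lit 1310720) (Steps.bwd (nat_lit 2) (Steps.fwd (nat_lit 262144) (Steps.fwd (nat_lit 1572864) (Steps.bwd (nat_lit 1) (Steps.bwd (nat_lit 2) (Steps.bwd (nat_lit 1) (Steps.bwd (nat_lit 6) (Steps.bwd (nat_lit 1) (Steps.fwd (nat_lit 786432) (Steps.fwd (nat_lit 262144) Steps.nil))))))))))))) (nat_lit 34) (nat_lit 11),
  Rule.mk (nat_lit 6) (nat_lit 274) (Steps.bwd (nat_lit 1) (Steps.fwd (nat_lit 1572864) (Steps.fwd (nat_lit 1310720) (Steps.bwd (nat_lit 2) (Steps.bwd (nat_lit 1) (Steps.bwd (nat_lit 6) (Steps.fwd (nat_lit 262144) (Steps.fwd (nat_lit 786432) (Steps.bwd (nat_lit 1) (Steps.fwd (nat_lit 1572864) (Steps.bwd (nat_lit 1) (Steps.bwd (nat_lit 2) (Steps.fwd (nat_lit 262144) Steps.nil))))))))))))) (nat_lit 34) (nat_lit 11),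
  Rule.mk (nat_lit 6) (nat_lit 114) (Steps.bwd (nat_lit 2) (Steps.fwd (nat_lit 1048576) (Steps.bwd (nat_lit 5) (Steps.bwd (nat_lit 2) (Steps.fwd (nat_lit 1048576) Steps.nil))))) (nat_lit 54) (nat_lit 0),
  Rule.mk (nat_lit 6) (nat_lit 274) (Steps.bwd (nat_lit 1) (Steps.fwd (nat_lit 1572864) (Steps.fwd (nat_lit 1310720) (Steps.bwd (nat_lit 2) (Steps.bwd (nat_lit 1) (Steps.bwd (nat_lit 6) (Steps.fwd (nat_lit 262144) (Steps.bwd (nat_lit 2) (Steps.bwd (nat_lit 1) (Steps.bwd (nat_lit 6) (Steps.bwd (nat_lit 1) (Steps.bwd (nat_lit 2) (Steps.fwd (nat_lit 262144) Steps.nil))))))))))))) (nat_lit 34) (nat_lit 11),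
  Rule.mk (nat_lit 6) (nat_lit 154) (Steps.bwd (nat_lit 2) (Steps.bwd (nat_lit 5) (Steps.bwd (nat_lit 2) (Steps.fwd (nat_lit 1835008) (Steps.bwd (nat_lit 6) (Steps.bwd (nat_lit 2) (Steps.bwd (nat_lit 5) Steps.nil))))))) (nat_lit 84) (nat_lit 0),
  Rule.mk (nat_lit 6) (nat_lit 114) (Steps.bwd (nat_lit 3) (Steps.fwd (nat_lit 1835008) (Steps.bwd (nat_lit 6) (Steps.fwd (nat_lit 786432) (Steps.fwd (nat_lit 1835008) Steps.nil))))) (nat_lit 63) (nat_lit 5),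
  Rule.mk (nat_lit 6) (nat_lit 274) (Steps.bwd (nat_lit 1) (Steps.bwd (nat_lit 3) (Steps.fwd (nat_lit 1310720) (Steps.bwd (nat_lit 6) (Steps.bwd (nat_lit 1) (Steps.fwd (nat_lit 1572864) (Steps.fwd (nat_lit 262144) (Steps.fwd (nat_lit 524288) (Steps.fwd (nat_lit 262144) (Steps.bwd (nat_lit 6) (Steps.fwd (nat_lit 262144) (Steps.fwd (nat_lit 524288) (Steps.fwd (nat_lit 262144) Steps.nil))))))))))))) (nat_lit 35) (nat_lit 12),
  Rule.mk (nat_lit 1) (nat_lit 274) (Steps.bwd (nat_lit 6) (Steps.bwd (nat_lit 1) (Steps.bwd (nat_lit 3) (Steps.fwd (nat_lit 262144) (Steps.bwd (nat_lit 6) (Steps.fwd (nat_lit 262144) (Steps.bwd (nat_lit 3) (Steps.fwd (nat_lit 1310720) (Steps.bwd (nat_lit 6) (Steps.bwd (nat_lit 1) (Steps.bwd (nat_lit 6) (Steps.bwd (nat_lit 1) (Steps.fwd (nat_lit 524288) Steps.nil))))))))))))) (nat_lit 35) (nat_lit 7),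
  Rule.mk (nat_lit 1) (nat_lit 274) (Steps.bwd (nat_lit 6) (Steps.fwd (nat_lit 1310720) (Steps.bwd (nat_lit 2) (Steps.bwd (nat_lit 1) (Steps.bwd (nat_lit 6) (Steps.fwd (nat_lit 262144) (Steps.fwd (nat_lit 786432) (Steps.bwd (nat_lit 1) (Steps.fwd (nat_lit 1572864) (Steps.fwd (nat_lit 262144) (Steps.bwd (nat_lit 2) (Steps.bwd (nat_lit 1) (Steps.bwd (nat_lit 6) Steps.nil))))))))))))) (nat_lit 34) (nat_lit 12),
  Rule.mk (nat_lit 6) (nat_lit 274) (Steps.bwd (nat_lit 1) (Steps.bwd (nat_lit 2) (Steps.bwd (nat_lit 1) (Steps.bwd (nat_lit 6) (Steps.fwd (nat_lit 262144) (Steps.bwd (nat_lit 2) (Steps.bwd (nat_lit 1) (Steps.fwd (nat_lit 1572864) (Steps.bwd (nat_lit 1) (Steps.fwd (nat_lit 1572864) (Steps.fwd (nat_lit 1310720) (Steps.bwd (nat_lit 2) (Steps.fwd (nat_lit 262144) Steps.nil))))))))))))) (nat_lit 34) (nat_lit 3),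
  Rule.mk (nat_lit 6) (nat_lit 114) (Steps.bwd (nat_lit 2) (Steps.bwd (nat_lit 4) (Steps.bwd (nat_lit 5) (Steps.bwd (nat_lit 2) (Steps.fwd (nat_lit 1048576) Steps.nil))))) (nat_lit 54) (nat_lit 0),
  Rule.mk (nat_lit 6) (nat_lit 274) (Steps.bwd (nat_lit 1) (Steps.fwd (nat_lit 786432) (Steps.fwd (nat_lit 262144) (Steps.bwd (nat_lit 6) (Steps.fwd (nat_lit 262144) (Steps.fwd (nat_lit 786432) (Steps.bwd (nat_lit 1) (Steps.bwd (nat_lit 6) (Steps.fwd (nat_lit 262144) (Steps.bwd (nat_lit 6) (Steps.bwd (nat_lit 5) (Steps.fwd (nat_lit 786432) (Steps.bwd (nat_lit 1) Steps.nil))))))))))))) (nat_lit 34) (nat_lit 3),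
  Rule.mk (nat_lit 6) (nat_lit 274) (Steps.bwd (nat_lit 1) (Steps.bwd (nat_lit 3) (Steps.fwd (nat_lit 1310720) (Steps.bwd (nat_lit 6) (Steps.bwd (nat_lit 1) (Steps.fwd (nat_lit 1572864) (Steps.fwd (nat_lit 262144) (Steps.fwd (nat_lit 524288) (Steps.fwd (nat_lit 262144) (Steps.bwd (nat_lit 6) (Steps.bwd (nat_lit 1) (Steps.fwd (nat_lit 524288) (Steps.fwd (nat_lit 262144) Steps.nil))))))))))))) (nat_lit 35) (nat_lit 12),
  Rule.mk (nat_lit 1) (nat_lit 274) (Steps.bwd (nat_lit 6) (Steps.bwd (nat_lit 1) (Steps.bwd (nat_lit 3) (Steps.fwd (nat_lit 262144) (Steps.fwd (nat_lit 1572864) (Steps.bwd (nat_lit 1) (Steps.bwd (nat_lit 3) (Steps.fwd (nat_lit 1310720) (Steps.bwd (nat_lit 6) (Steps.fwd (nat_lit 262144) (Steps.fwd (nat_lit 1572864) (Steps.fwd (nat_lit 262144) (Steps.fwd (nat_lit 524288) Steps.nil))))))))))))) (nat_lit 35) (nat_lit 7),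
  Rule.mk (nat_lit 1) (nat_lit 274) (Steps.bwd (nat_lit 6) (Steps.fwd (nat_lit 1310720) (Steps.bwd (nat_lit 2) (Steps.bwd (nat_lit 1) (Steps.bwd (nat_lit 6) (Steps.fwd (nat_lit 262144) (Steps.fwd (nat_lit 786432) (Steps.bwd (nat_lit 1) (Steps.bwd (nat_lit 6) (Steps.fwd (nat_lit 262144) (Steps.bwd (nat_lit 2) (Steps.bwd (nat_lit 1) (Steps.bwd (nat_lit 6) Steps.nil))))))))))))) (nat_lit 34) (nat_lit 12),
  Rule.mk (nat_lit 6) (nat_lit 274) (Steps.bwd (nat_lit 1) (Steps.bwd (nat_lit 2) (Steps.fwd (nat_lit 262144) (Steps.fwd (nat_lit 1572864) (Steps.fwd (nat_lit 262144) (Steps.bwd (nat_lit 2) (Steps.bwd (nat_lit 1) (Steps.fwd (nat_lit 1572864) (Steps.bwd (nat_lit 1) (Steps.bwd (nat_lit 6) (Steps.bwd (nat_lit 5) (Steps.bwd (nat_lit 2) (Steps.fwd (nat_lit 262144) Steps.nil))))))))))))) (nat_lit 34) (nat_lit 3),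
  Rule.mk (nat_lit 1) (nat_lit 274) (Steps.bwd (nat_lit 6) (Steps.bwd (nat_lit 1) (Steps.bwd (nat_lit 3) (Steps.fwd (nat_lit 262144) (Steps.bwd (nat_lit 6) (Steps.fwd (nat_lit 262144) (Steps.bwd (nat_lit 3) (Steps.fwd (nat_lit 1310720) (Steps.bwd (nat_lit 6) (Steps.bwd (nat_lit 1) (Steps.fwd (nat_lit 1572864) (Steps.bwd (nat_lit 1) (Steps.fwd (nat_lit 524288) Steps.nil))))))))))))) (nat_lit 35) (nat_lit 7),
  Rule.mk (nat_lit 6) (nat_lit 274) (Steps.bwd (nat_lit 1) (Steps.fwd (nat_lit 1572864) (Steps.fwd (nat_lit 1310720) (Steps.bwd (nat_lit 2) (Steps.fwd (nat_lit 262144) (Steps.fwd (nat_lit 1572864) (Steps.bwd (nat_lit 1) (Steps.bwd (nat_lit 2) (Steps.bwd (nat_lit 1) (Steps.bwd (nat_lit 6) (Steps.bwd (nat_lit 1) (Steps.fwd (nat_lit 786432) (Steps.fwd (nat_lit 262144) Steps.nil))))))))))))) (nat_lit 34) (nat_lit 11),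
  Rule.mk (nat_lit 6) (nat_lit 274) (Steps.bwd (nat_lit 1) (Steps.bwd (nat_lit 2) (Steps.fwd (nat_lit 262144) (Steps.bwd (nat_lit 6) (Steps.fwd (nat_lit 262144) (Steps.bwd (nat_lit 2) (Steps.bwd (nat_lit 1) (Steps.fwd (nat_lit 1572864) (Steps.bwd (nat_lit 1) (Steps.fwd (nat_lit 1572864) (Steps.bwd (nat_lit 5) (Steps.bwd (nat_lit 2) (Steps.fwd (nat_lit 262144) Steps.nil))))))))))))) (nat_lit 34) (nat_lit 3),
  Rule.mk (nat_lit 1) (nat_lit 274) (Steps.bwd (nat_lit 6) (Steps.bwd (nat_lit 1) (Steps.bwd (nat_lit 3) (Steps.fwd (nat_lit 262144) (Steps.bwd (nat_lit 6) (Steps.fwd (nat_lit 262144) (Steps.bwd (nat_lit 3) (Steps.bwd (nat_lit 5) (Steps.bwd (nat_lit 6) (Steps.fwd (nat_lit 262144) (Steps.bwd (nat_lit 6) (Steps.fwd (nat_lit 262144) (Steps.fwd (nat_lit 524288) Steps.nil))))))))))))) (nat_lit 35) (nat_lit 7),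
  Rule.mk (nat_lit 6) (nat_lit 274) (Steps.bwd (nat_lit 1) (Steps.fwd (nat_lit 1572864) (Steps.fwd (nat_lit 1310720) (Steps.fwd (nat_lit 786432) (Steps.fwd (nat_lit 262144) (Steps.bwd (nat_lit 6) (Steps.fwd (nat_lit 262144) (Steps.bwd (nat_lit 2) (Steps.bwd (nat_lit 1) (Steps.fwd (nat_lit 1572864) (Steps.fwd (nat_lit 262144) (Steps.fwd (nat_lit 786432) (Steps.bwd (nat_lit 1) Steps.nil))))))))))))) (nat_lit 34) (nat_lit 11),
  Rule.mk (nat_lit 6) (nat_lit 274) (Steps.bwd (nat_lit 1) (Steps.fwd (nat_lit 1572864) (Steps.bwd (nat_lit 5) (Steps.fwd (nat_lit 786432) (Steps.bwd (nat_lit 1) (Steps.bwd (nat_lit 6) (Steps.fwd (nat_lit 262144) (Steps.bwd (nat_lit 2) (Steps.bwd (nat_lit 1) (Steps.bwd (nat_lit 6) (Steps.bwd (nat_lit 1) (Steps.bwd (nat_lit 2) (Steps.fwd (nat_lit 262144) Steps.nil))))))))))))) (nat_lit 34) (nat_lit 11),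
  Rule.mk (nat_lit 6) (nat_lit 274) (Steps.bwd (nat_lit 1) (Steps.fwd (nat_lit 524288) (Steps.fwd (nat_lit 262144) (Steps.fwd (nat_lit 1572864) (Steps.fwd (nat_lit 262144) (Steps.fwd (nat_lit 524288) (Steps.bwd (nat_lit 5) (Steps.fwd (nat_lit 1572864) (Steps.bwd (nat_lit 1) (Steps.bwd (nat_lit 6) (Steps.fwd (nat_lit 262144) (Steps.fwd (nat_lit 524288) (Steps.bwd (nat_lit 1) Steps.nil))))))))))))) (nat_lit 35) (nat_lit 8),
  Rule.mk (nat_lit 6) (nat_lit 274) (Steps.bwd (nat_lit 1) (Steps.bwd (nat_lit 6) (Steps.bwd (nat_lit 5) (Steps.fwd (nat_lit 786432) (Steps.bwd (nat_lit 1) (Steps.fwd (nat_lit 1572864) (Steps.fwd (nat_lit 262144) (Steps.fwd (nat_lit 786432) (Steps.bwd (nat_lit 1) (Steps.bwd (nat_lit 6) (Steps.bwd (nat_lit 1) (Steps.fwd (nat_lit 786432) (Steps.fwd (nat_lit 262144) Steps.nil))))))))))))) (nat_lit 34) (nat_lit 11),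
  Rule.mk (nat_lit 1) (nat_lit 274) (Steps.bwd (nat_lit 6) (Steps.bwd (nat_lit 1) (Steps.bwd (nat_lit 6) (Steps.fwd (nat_lit 1310720) (Steps.bwd (nat_lit 2) (Steps.fwd (nat_lit 262144) (Steps.bwd (nat_lit 6) (Steps.fwd (nat_lit 262144) (Steps.fwd (nat_lit 786432) (Steps.fwd (nat_lit 262144) (Steps.bwd (nat_lit 6) (Steps.bwd (nat_lit 1) (Steps.bwd (nat_lit 2) Steps.nil))))))))))))) (nat_lit 34) (nat_lit 10),
  Rule.mk (nat_lit 6) (nat_lit 274) (Steps.bwd (nat_lit 1) (Steps.fwd (nat_lit 786432) (Steps.bwd (nat_lit 1) (Steps.fwd (nat_lit 1572864) (Steps.fwd (nat_lit 262144) (Steps.fwd (nat_lit 786432) (Steps.bwd (nat_lit 1) (Steps.fwd (nat_lit 1572864) (Steps.bwd (nat_lit 1) (Steps.bwd (nat_lit 6) (Steps.bwd (nat_lit 5) (Steps.bwd (nat_lit 2) (Steps.fwd (nat_lit 262144) Steps.nil))))))))))))) (nat_lit 34) (nat_lit 3),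
  Rule.mk (nat_lit 1) (nat_lit 274) (Steps.bwd (nat_lit 6) (Steps.bwd (nat_lit 1) (Steps.bwd (nat_lit 6) (Steps.fwd (nat_lit 1310720) (Steps.bwd (nat_lit 2) (Steps.bwd (nat_lit 1) (Steps.bwd (nat_lit 6) (Steps.bwd (nat_lit 1) (Steps.fwd (nat_lit 786432) (Steps.bwd (nat_lit 1) (Steps.fwd (nat_lit 1572864) (Steps.fwd (nat_lit 262144) (Steps.bwd (nat_lit 2) Steps.nil))))))))))))) (nat_lit 34) (nat_lit 10),
  Rule.mk (nat_lit 6) (nat_lit 274) (Steps.bwd (nat_lit 1) (Steps.bwd (nat_lit 3) (Steps.fwd (nat_lit 262144) (Steps.fwd (nat_lit 1572864) (Steps.fwd (nat_lit 262144) (Steps.fwd (nat_lit 524288) (Steps.bwd (nat_lit 5) (Steps.fwd (nat_lit 1572864) (Steps.bwd (nat_lit 1) (Steps.bwd (nat_lit 6) (Steps.fwd (nat_lit 262144) (Steps.fwd (nat_lit 524288) (Steps.bwd (nat_lit 1) Steps.nil))))))))))))) (nat_lit 35) (nat_lit 8),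
  Rule.mk (nat_lit 6) (nat_lit 114) (Steps.bwd (nat_lit 3) (Steps.bwd (nat_lit 7) (Steps.bwd (nat_lit 6) (Steps.fwd (nat_lit 786432) (Steps.bwd (nat_lit 7) Steps.nil))))) (nat_lit 63) (nat_lit 5),
  Rule.mk (nat_lit 1) (nat_lit 274) (Steps.bwd (nat_lit 6) (Steps.bwd (nat_lit 1) (Steps.bwd (nat_lit 2) (Steps.fwd (nat_lit 262144) (Steps.bwd (nat_lit 6) (Steps.bwd (nat_lit 1) (Steps.bwd (nat_lit 6) (Steps.bwd (nat_lit 5) (Steps.bwd (nat_lit 2) (Steps.fwd (nat_lit 262144) (Steps.fwd (nat_lit 1572864) (Steps.fwd (nat_lit 262144) (Steps.bwd (nat_lit 2) Steps.nil))))))))))))) (nat_lit 34) (nat_lit 6),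
  Rule.mk (nat_lit 8) (nat_lit 114) (Steps.fwd (nat_lit 786432) (Steps.fwd (nat_lit 262144) (Steps.fwd (nat_lit 524288) (Steps.bwd (nat_lit 9) (Steps.bwd (nat_lit 1) Steps.nil))))) (nat_lit 104) (nat_lit 1),
  Rule.mk (nat_lit 6) (nat_lit 274) (Steps.bwd (nat_lit 1) (Steps.fwd (nat_lit 524288) (Steps.fwd (nat_lit 262144) (Steps.fwd (nat_lit 1572864) (Steps.fwd (nat_lit 262144) (Steps.fwd (nat_lit 524288) (Steps.fwd (nat_lit 1310720) (Steps.fwd (nat_lit 1572864) (Steps.bwd (nat_lit 1) (Steps.bwd (nat_lit 6) (Steps.fwd (nat_lit 262144) (Steps.fwd (nat_lit 524288) (Steps.bwd (nat_lit 1) Steps.nil))))))))))))) (nat_lit 35) (nat_lit 8),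
  Rule.mk (nat_lit 1) (nat_lit 274) (Steps.bwd (nat_lit 6) (Steps.bwd (nat_lit 1) (Steps.bwd (nat_lit 2) (Steps.fwd (nat_lit 262144) (Steps.bwd (nat_lit 6) (Steps.fwd (nat_lit 262144) (Steps.bwd (nat_lit 6) (Steps.bwd (nat_lit 5) (Steps.bwd (nat_lit 2) (Steps.bwd (nat_lit 1) (Steps.bwd (nat_lit 6) (Steps.bwd (nat_lit 1) (Steps.fwd (nat_lit 786432) Steps.nil))))))))))))) (nat_lit 34) (nat_lit 6),
  Rule.mk (nat_lit 1) (nat_lit 274) (Steps.bwd (nat_lit 6) (Steps.bwd (nat_lit 1) (Steps.bwd (nat_lit 6) (Steps.fwd (nat_lit 1310720) (Steps.bwd (nat_lit 2) (Steps.bwd (nat_lit 1) (Steps.bwd (nat_lit 6) (Steps.fwd (nat_lit 262144) (Steps.bwd (nat_lit 2) (Steps.bwd (nat_lit 1) (Steps.bwd (nat_lit 6) (Steps.bwd (nat_lit 1) (Steps.bwd (nat_lit 2) Steps.nil))))))))))))) (nat_lit 34) (nat_lit 10),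
  Rule.mk (nat_lit 6) (nat_lit 274) (Steps.bwd (nat_lit 1) (Steps.fwd (nat_lit 786432) (Steps.bwd (nat_lit 1) (Steps.fwd (nat_lit 1572864) (Steps.fwd (nat_lit 262144) (Steps.fwd (nat_lit 786432) (Steps.fwd (nat_lit 262144) (Steps.bwd (nat_lit 6) (Steps.fwd (nat_lit 262144) (Steps.bwd (nat_lit 6) (Steps.fwd (nat_lit 1310720) (Steps.bwd (nat_lit 2) (Steps.fwd (nat_lit 262144) Steps.nil))))))))))))) (nat_lit 34) (nat_lit 3),
  Rule.mk (nat_lit 1) (nat_lit 274) (Steps.bwd (nat_lit 6) (Steps.bwd (nat_lit 1) (Steps.fwd (nat_lit 1572864) (Steps.fwd (nat_lit 1310720) (Steps.bwd (nat_lit 2) (Steps.bwd (nat_lit 1) (Steps.bwd (nat_lit 6) (Steps.fwd (nat_lit 262144) (Steps.bwd (nat_lit 2) (Steps.fwd (nat_lit 262144) (Steps.bwd (nat_lit 6) (Steps.bwd (nat_lit 1) (Steps.bwd (nat_lit 2) Steps.nil))))))))))))) (nat_lit 34) (nat_lit 10),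
  Rule.mk (nat_lit 6) (nat_lit 274) (Steps.bwd (nat_lit 1) (Steps.bwd (nat_lit 6) (Steps.fwd (nat_lit 1310720) (Steps.fwd (nat_lit 786432) (Steps.bwd (nat_lit 1) (Steps.fwd (nat_lit 1572864) (Steps.fwd (nat_lit 262144) (Steps.fwd (nat_lit 786432) (Steps.fwd (nat_lit 262144) (Steps.bwd (nat_lit 6) (Steps.fwd (nat_lit 262144) (Steps.bwd (nat_lit 2) (Steps.bwd (nat_lit 1) Steps.nil))))))))))))) (nat_lit 34) (nat_lit 11),
  Rule.mk (nat_lit 6) (nat_lit 274) (Steps.bwd (nat_lit 1) (Steps.bwd (nat_lit 6) (Steps.fwd (nat_lit 1310720) (Steps.fwd (nat_lit 786432) (Steps.bwd (nat_lit 1) (Steps.fwd (nat_lit 1572864) (Steps.fwd (nat_lit 262144) (Steps.fwd (nat_lit 786432) (Steps.bwd (nat_lit 1) (Steps.fwd (nat_lit 1572864) (Steps.bwd (nat_lit 1) (Steps.fwd (nat_lit 786432) (Steps.fwd (nat_lit 262144) Steps.nil))))))))))))) (nat_lit 34) (nat_lit 11),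
  Rule.mk (nat_lit 1) (nat_lit 274) (Steps.bwd (nat_lit 6) (Steps.bwd (nat_lit 5) (Steps.bwd (nat_lit 2) (Steps.fwd (nat_lit 262144) (Steps.fwd (nat_lit 1572864) (Steps.fwd (nat_lit 262144) (Steps.bwd (nat_lit 2) (Steps.fwd (nat_lit 262144) (Steps.bwd (nat_lit 6) (Steps.fwd (nat_lit 262144) (Steps.bwd (nat_lit 2) (Steps.fwd (nat_lit 262144) (Steps.bwd (nat_lit 6) Steps.nil))))))))))))) (nat_lit 34) (nat_lit 12),
  Rule.mk (nat_lit 1) (nat_lit 114) (Steps.bwd (nat_lit 7) (Steps.fwd (nat_lit 1310720) (Steps.fwd (nat_lit 262144) (Steps.fwd (nat_lit 1835008) (Steps.bwd (nat_lit 5) Steps.nil))))) (nat_lit 53) (nat_lit 0),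
  Rule.mk (nat_lit 6) (nat_lit 274) (Steps.bwd (nat_lit 1) (Steps.fwd (nat_lit 786432) (Steps.bwd (nat_lit 1) (Steps.fwd (nat_lit 1572864) (Steps.fwd (nat_lit 262144) (Steps.fwd (nat_lit 786432) (Steps.bwd (nat_lit 1) (Steps.bwd (nat_lit 6) (Steps.bwd (nat_lit 1) (Steps.bwd (nat_lit 6) (Steps.fwd (nat_lit 1310720) (Steps.bwd (nat_lit 2) (Steps.fwd (nat_lit 262144) Steps.nil))))))))))))) (nat_lit 34) (nat_lit 3),
  Rule.mk (nat_lit 1) (nat_lit 274) (Steps.bwd (nat_lit 6) (Steps.bwd (nat_lit 1) (Steps.fwd (nat_lit 1572864) (Steps.bwd (nat_lit 5) (Steps.bwd (nat_lit 2) (Steps.fwd (nat_lit 262144) (Steps.bwd (nat_lit 6) (Steps.fwd (nat_lit 262144) (Steps.fwd (nat_lit 786432) (Steps.fwd (nat_lit 262144) (Steps.bwd (nat_lit 6) (Steps.bwd (nat_lit 1) (Steps.bwd (nat_lit 2) Steps.nil))))))))))))) (nat_lit 34) (nat_lit 10),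
  Rule.mk (nat_lit 1) (nat_lit 274) (Steps.bwd (nat_lit 6) (Steps.fwd (nat_lit 1310720) (Steps.bwd (nat_lit 2) (Steps.fwd (nat_lit 262144) (Steps.fwd (nat_lit 1572864) (Steps.bwd (nat_lit 1) (Steps.bwd (nat_lit 2) (Steps.fwd (nat_lit 262144) (Steps.bwd (nat_lit 6) (Steps.bwd (nat_lit 1) (Steps.bwd (nat_lit 2) (Steps.fwd (nat_lit 262144) (Steps.fwd (nat_lit 1572864) Steps.nil))))))))))))) (nat_lit 34) (nat_lit 12),
  Rule.mk (nat_lit 1) (nat_lit 274) (Steps.bwd (nat_lit 6) (Steps.fwd (nat_lit 1310720) (Steps.fwd (nat_lit 786432) (Steps.bwd (nat_lit 1) (Steps.bwd (nat_lit 6) (Steps.bwd (nat_lit 1) (Steps.bwd (nat_lit 2) (Steps.fwd (nat_lit 262144) (Steps.bwd (nat_lit 6) (Steps.bwd (nat_lit 1) (Steps.bwd (nat_lit 2) (Steps.fwd (nat_lit 262144) (Steps.fwd (nat_lit 1572864) Steps.nil))))))))))))) (nat_lit 34) (nat_lit 12),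
  Rule.mk (nat_lit 6) (nat_lit 274) (Steps.bwd (nat_lit 1) (Steps.fwd (nat_lit 786432) (Steps.bwd (nat_lit 1) (Steps.fwd (nat_lit 1572864) (Steps.fwd (nat_lit 262144) (Steps.fwd (nat_lit 786432) (Steps.bwd (nat_lit 1) (Steps.fwd (nat_lit 1572864) (Steps.fwd (nat_lit 262144) (Steps.bwd (nat_lit 6) (Steps.bwd (nat_lit 5) (Steps.bwd (nat_lit 2) (Steps.fwd (nat_lit 262144) Steps.nil))))))))))))) (nat_lit 34) (nat_lit 3)]
noncomputable def R_35 : List (Rule) := [Rule.mk (nat_lit 6) (nat_lit 274) (Steps.bwd (nat_lit 1) (Steps.bwd (nat_lit 2) (Steps.fwd (nat_lit 262144) (Steps.fwd (nat_lit 1572864) (Steps.fwd (nat_lit 262144) (Steps.bwd (nat_lit 6) (Steps.fwd (nat_lit 1310720) (Steps.bwd (nat_lit 2) (Steps.bwd (nat_lit 1) (Steps.fwd (nat_lit 1572864) (Steps.fwd (nat_lit 262144) (Steps.bwd (nat_lit 2) (Steps.bwd (nat_lit 1) Steps.nil))))))))))))) (nat_lit 34) (nat_lit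 7),
  Rule.mk (nat_lit 6) (nat_lit 274) (Steps.bwd (nat_lit 1) (Steps.fwd (nat_lit 786432) (Steps.bwd (nat_lit 1) (Steps.fwd (nat_lit 1572864) (Steps.fwd (nat_lit 262144) (Steps.fwd (nat_lit 786432) (Steps.bwd (nat_lit 1) (Steps.fwd (nat_lit 1572864) (Steps.bwd (nat_lit 1) (Steps.bwd (nat_lit 6) (Steps.fwd (nat_lit 1310720) (Steps.fwd (nat_lit 786432) (Steps.fwd (nat_lit 262144) Steps.nil))))))))))))) (nat_lit 34) (nat_lit 3),
  Rule.mk (nat_lit 1) (nat_lit 274) (Steps.bwd (nat_lit 6) (Steps.bwd (nat_lit 1) (Steps.bwd (nat_lit 6) (Steps.fwd (nat_lit 1310720) (Steps.bwd (nat_lit 2) (Steps.bwd (nat_lit 1) (Steps.fwd (nat_lit 1572864) (Steps.bwd (nat_lit 1) (Steps.bwd (nat_lit 2) (Steps.bwd (nat_lit 1) (Steps.fwd (nat_lit 1572864) (Steps.fwd (nat_lit 262144) (Steps.bwd (nat_lit 2) Steps.nil))))))))))))) (nat_lit 34) (nat_lit 10),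
  Rule.mk (nat_lit 6) (nat_lit 274) (Steps.bwd (nat_lit 1) (Steps.bwd (nat_lit 6) (Steps.fwd (nat_lit 1310720) (Steps.bwd (nat_lit 2) (Steps.fwd (nat_lit 262144) (Steps.bwd (nat_lit 6) (Steps.bwd (nat_lit 1) (Steps.bwd (nat_lit 2) (Steps.bwd (nat_lit 1) (Steps.bwd (nat_lit 6) (Steps.fwd (nat_lit 262144) (Steps.bwd (nat_lit 2) (Steps.bwd (nat_lit 1) Steps.nil))))))))))))) (nat_lit 34) (nat_lit 11),
  Rule.mk (nat_lit 6) (nat_lit 274) (Steps.bwd (nat_lit 1) (Steps.fwd (nat_lit 1572864) (Steps.bwd (nat_lit 5) (Steps.fwd (nat_lit 786432) (Steps.bwd (nat_lit 1) (Steps.bwd (nat_lit 6) (Steps.fwd (nat_lit 262144) (Steps.bwd (nat_lit 2) (Steps.bwd (nat_lit 1) (Steps.bwd (nat_lit 6) (Steps.fwd (nat_lit 262144) (Steps.fwd (nat_lit 786432) (Steps.fwd (nat_lit 262144) Steps.nil))))))))))))) (nat_lit 34) (nat_lit 11),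
  Rule.mk (nat_lit 6) (nat_lit 274) (Steps.bwd (nat_lit 1) (Steps.bwd (nat_lit 2) (Steps.fwd (nat_lit 262144) (Steps.fwd (nat_lit 1572864) (Steps.fwd (nat_lit 262144) (Steps.bwd (nat_lit 6) (Steps.bwd (nat_lit 5) (Steps.bwd (nat_lit 2) (Steps.bwd (nat_lit 1) (Steps.fwd (nat_lit 1572864) (Steps.fwd (nat_lit 262144) (Steps.bwd (nat_lit 2) (Steps.bwd (nat_lit 1) Steps.nil))))))))))))) (nat_lit 34) (nat_lit 7),
  Rule.mk (nat_lit 1) (nat_lit 274) (Steps.bwd (nat_lit 6) (Steps.bwd (nat_lit 1) (Steps.bwd (nat_lit 2) (Steps.fwd (nat_lit 262144) (Steps.bwd (nat_lit 6) (Steps.bwd (nat_lit 1) (Steps.bwd (nat_lit 6) (Steps.bwd (nat_lit 5) (Steps.bwd (nat_lit 2) (Steps.fwd (nat_lit 262144) (Steps.bwd (nat_lit 6) (Steps.bwd (nat_lit 1) (Steps.fwd (nat_lit 786432) Steps.nil))))))))))))) (nat_lit 34) (nat_lit 6),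
  Rule.mk (nat_lit 1) (nat_lit 274) (Steps.bwd (nat_lit 6) (Steps.fwd (nat_lit 1310720) (Steps.bwd (nat_lit 2) (Steps.fwd (nat_lit 262144) (Steps.bwd (nat_lit 6) (Steps.bwd (nat_lit 1) (Steps.fwd (nat_lit 786432) (Steps.fwd (nat_lit 262144) (Steps.fwd (nat_lit 1572864) (Steps.bwd (nat_lit 1) (Steps.bwd (nat_lit 2) (Steps.fwd (nat_lit 262144) (Steps.fwd (nat_lit 1572864) Steps.nil))))))))))))) (nat_lit 34) (nat_lit 12),
  Rule.mk (nat_lit 1) (nat_lit 274) (Steps.bwd (nat_lit 6) (Steps.bwd (nat_lit 1) (Steps.bwd (nat_lit 6) (Steps.fwd (nat_lit 1310720) (Steps.bwd (nat_lit 2) (Steps.bwd (nat_lit 1) (Steps.fwd (nat_lit 1572864) (Steps.fwd (nat_lit 262144) (Steps.bwd (nat_lit 2) (Steps.bwd (nat_lit 1) (Steps.fwd (nat_lit 1572864) (Steps.bwd (nat_lit 1) (Steps.bwd (nat_lit 2) Steps.nil))))))))))))) (nat_lit 34) (nat_lit 10),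
  Rule.mk (nat_lit 6) (nat_lit 274) (Steps.bwd (nat_lit 1) (Steps.fwd (nat_lit 786432) (Steps.bwd (nat_lit 1) (Steps.fwd (nat_lit 1572864) (Steps.fwd (nat_lit 262144) (Steps.fwd (nat_lit 786432) (Steps.fwd (nat_lit 262144) (Steps.bwd (nat_lit 6) (Steps.fwd (nat_lit 262144) (Steps.bwd (nat_lit 6) (Steps.bwd (nat_lit 5) (Steps.bwd (nat_lit 2) (Steps.fwd (nat_lit 262144) Steps.nil))))))))))))) (nat_lit 34) (nat_lit 3),
  Rule.mk (nat_lit 1) (nat_lit 274) (Steps.bwd (nat_lit 6) (Steps.bwd (nat_lit 1) (Steps.fwd (nat_lit 1572864) (Steps.fwd (nat_lit 1310720) (Steps.bwd (nat_lit 2) (Steps.bwd (nat_lit 1) (Steps.fwd (nat_lit 1572864) (Steps.fwd (nat_lit 262144) (Steps.bwd (nat_lit 2) (Steps.fwd (nat_lit 262144) (Steps.bwd (nat_lit 6) (Steps.bwd (nat_lit 1) (Steps.bwd (nat_lit 2) Steps.nil))))))))))))) (nat_lit 34) (nat_lit 10),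
  Rule.mk (nat_lit 6) (nat_lit 274) (Steps.bwd (nat_lit 1) (Steps.bwd (nat_lit 6) (Steps.fwd (nat_lit 1310720) (Steps.fwd (nat_lit 786432) (Steps.bwd (nat_lit 1) (Steps.fwd (nat_lit 1572864) (Steps.fwd (nat_lit 262144) (Steps.fwd (nat_lit 786432) (Steps.fwd (nat_lit 262144) (Steps.bwd (nat_lit 6) (Steps.fwd (nat_lit 262144) (Steps.bwd (nat_lit 2) (Steps.fwd (nat_lit 262144) Steps.nil))))))))))))) (nat_lit 34) (nat_lit 11),
  Rule.mk (nat_lit 1) (nat_lit 274) (Steps.bwd (nat_lit 6) (Steps.bwd (nat_lit 5) (Steps.bwd (nat_lit 2) (Steps.fwd (nat_lit 262144) (Steps.bwd (nat_lit 6) (Steps.fwd (nat_lit 262144) (Steps.bwd (nat_lit 2) (Steps.fwd (nat_lit 262144) (Steps.bwd (nat_lit 6) (Steps.fwd (nat_lit 262144) (Steps.bwd (nat_lit 2) (Steps.fwd (nat_lit 262144) (Steps.fwd (nat_lit 1572864) Steps.nil))))))))))))) (nat_lit 34) (nat_lit 12),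
  Rule.mk (nat_lit 6) (nat_lit 274) (Steps.bwd (nat_lit 1) (Steps.fwd (nat_lit 786432) (Steps.bwd (nat_lit 1) (Steps.fwd (nat_lit 1572864) (Steps.fwd (nat_lit 262144) (Steps.fwd (nat_lit 786432) (Steps.bwd (nat_lit 1) (Steps.bwd (nat_lit 6) (Steps.bwd (nat_lit 1) (Steps.bwd (nat_lit 6) (Steps.bwd (nat_lit 5) (Steps.bwd (nat_lit 2) (Steps.fwd (nat_lit 262144) Steps.nil))))))))))))) (nat_lit 34) (nat_lit 3),
  Rule.mk (nat_lit 1) (nat_lit 274) (Steps.bwd (nat_lit 6) (Steps.bwd (nat_lit 1) (Steps.fwd (nat_lit 1572864) (Steps.bwd (nat_lit 5) (Steps.bwd (nat_lit 2) (Steps.fwd (nat_lit 262144) (Steps.bwd (nat_lit 6) (Steps.fwd (nat_lit 262144) (Steps.fwd (nat_lit 786432) (Steps.fwd (nat_lit 262144) (Steps.fwd (nat_lit 1572864) (Steps.bwd (nat_lit 1) (Steps.bwd (nat_lit 2) Steps.nil))))))))))))) (nat_lit 34) (nat_lit 10),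
  Rule.mk (nat_lit 6) (nat_lit 274) (Steps.bwd (nat_lit 1) (Steps.fwd (nat_lit 1572864) (Steps.bwd (nat_lit 5) (Steps.fwd (nat_lit 786432) (Steps.fwd (nat_lit 262144) (Steps.bwd (nat_lit 6) (Steps.fwd (nat_lit 262144) (Steps.fwd (nat_lit 786432) (Steps.fwd (nat_lit 262144) (Steps.fwd (nat_lit 1572864) (Steps.fwd (nat_lit 262144) (Steps.bwd (nat_lit 2) (Steps.fwd (nat_lit 262144) Steps.nil))))))))))))) (nat_lit 34) (nat_lit 11),
  Rule.mk (nat_lit 6) (nat_lit 274) (Steps.bwd (nat_lit 1) (Steps.fwd (nat_lit 786432) (Steps.fwd (nat_lit 262144) (Steps.bwd (nat_lit 6) (Steps.fwd (nat_lit 262144) (Steps.fwd (nat_lit 786432) (Steps.fwd (nat_lit 262144) (Steps.fwd (nat_lit 1572864) (Steps.fwd (nat_lit 262144) (Steps.bwd (nat_lit 6) (Steps.fwd (nat_lit 1310720) (Steps.bwd (nat_lit 2) (Steps.fwd (nat_lit 262144) Steps.nil))))))))))))) (nat_lit 34) (nat_lit 3),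
  Rule.mk (nat_lit 6) (nat_lit 274) (Steps.bwd (nat_lit 1) (Steps.fwd (nat_lit 1572864) (Steps.fwd (nat_lit 1310720) (Steps.bwd (nat_lit 2) (Steps.bwd (nat_lit 1) (Steps.fwd (nat_lit 1572864) (Steps.fwd (nat_lit 262144) (Steps.bwd (nat_lit 2) (Steps.fwd (nat_lit 262144) (Steps.fwd (nat_lit 1572864) (Steps.bwd (nat_lit 1) (Steps.bwd (nat_lit 2) (Steps.bwd (nat_lit 1) Steps.nil))))))))))))) (nat_lit 34) (nat_lit 11),
  Rule.mk (nat_lit 6) (nat_lit 274) (Steps.bwd (nat_lit 1) (Steps.fwd (nat_lit 1572864) (Steps.bwd (nat_lit 5) (Steps.bwd (nat_lit 2) (Steps.fwd (nat_lit 262144) (Steps.bwd (nat_lit 6) (Steps.fwd (nat_lit 262144) (Steps.fwd (nat_lit 786432) (Steps.bwd (nat_lit 1) (Steps.fwd (nat_lit 1572864) (Steps.bwd (nat_lit 1) (Steps.bwd (nat_lit 2) (Steps.bwd (nat_lit 1) Steps.nil))))))))))))) (nat_lit 34) (nat_lit 11),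
  Rule.mk (nat_lit 1) (nat_lit 274) (Steps.bwd (nat_lit 6) (Steps.bwd (nat_lit 1) (Steps.fwd (nat_lit 1572864) (Steps.fwd (nat_lit 1310720) (Steps.fwd (nat_lit 786432) (Steps.fwd (nat_lit 262144) (Steps.fwd (nat_lit 1572864) (Steps.fwd (nat_lit 262144) (Steps.bwd (nat_lit 2) (Steps.bwd (nat_lit 1) (Steps.bwd (nat_lit 6) (Steps.fwd (nat_lit 262144) (Steps.bwd (nat_lit 2) Steps.nil))))))))))))) (nat_lit 34) (nat_lit 10),
  Rule.mk (nat_lit 6) (nat_lit 274) (Steps.bwd (nat_lit 1) (Steps.fwd (nat_lit 1572864) (Steps.bwd (nat_lit 5) (Steps.bwd (nat_lit 2) (Steps.bwd (nat_lit 1) (Steps.fwd (nat_lit 1572864) (Steps.fwd (nat_lit 262144) (Steps.bwd (nat_lit 2) (Steps.fwd (nat_lit 262144) (Steps.fwd (nat_lit 1572864) (Steps.bwd (nat_lit 1) (Steps.bwd (nat_lit 2) (Steps.fwd (nat_lit 262144) Steps.nil))))))))))))) (nat_lit 34) (nat_lit 11),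
  Rule.mk (nat_lit 6) (nat_lit 274) (Steps.bwd (nat_lit 1) (Steps.fwd (nat_lit 1572864) (Steps.bwd (nat_lit 5) (Steps.bwd (nat_lit 2) (Steps.bwd (nat_lit 1) (Steps.bwd (nat_lit 6) (Steps.fwd (nat_lit 262144) (Steps.bwd (nat_lit 2) (Steps.fwd (nat_lit 262144) (Steps.fwd (nat_lit 1572864) (Steps.bwd (nat_lit 1) (Steps.bwd (nat_lit 2) (Steps.bwd (nat_lit 1) Steps.nil))))))))))))) (nat_lit 34) (nat_lit 11),
  Rule.mk (nat_lit 6) (nat_lit 274) (Steps.bwd (nat_lit 1) (Steps.fwd (nat_lit 1572864) (Steps.fwd (nat_lit 1310720) (Steps.bwd (nat_lit 2) (Steps.fwd (nat_lit 262144) (Steps.bwd (nat_lit 6) (Steps.fwd (nat_lit 262144) (Steps.fwd (nat_lit 786432) (Steps.bwd (nat_lit 1) (Steps.fwd (nat_lit 1572864) (Steps.bwd (nat_lit 1) (Steps.bwd (nat_lit 2) (Steps.fwd (nat_lit 262144) Steps.nil))))))))))))) (nat_lit 34) (nat_lit 11),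
  Rule.mk (nat_lit 6) (nat_lit 274) (Steps.bwd (nat_lit 1) (Steps.bwd (nat_lit 6) (Steps.fwd (nat_lit 1310720) (Steps.bwd (nat_lit 2) (Steps.fwd (nat_lit 262144) (Steps.bwd (nat_lit 6) (Steps.fwd (nat_lit 262144) (Steps.bwd (nat_lit 2) (Steps.bwd (nat_lit 1) (Steps.fwd (nat_lit 1572864) (Steps.bwd (nat_lit 1) (Steps.fwd (nat_lit 786432) (Steps.fwd (nat_lit 262144) Steps.nil))))))))))))) (nat_lit 34) (nat_lit 11),
  Rule.mk (nat_lit 6) (nat_lit 274) (Steps.bwd (nat_lit 1) (Steps.fwd (nat_lit 1572864) (Steps.fwd (nat_lit 1310720) (Steps.bwd (nat_lit 2) (Steps.bwd (nat_lit 1) (Steps.fwd (nat_lit 1572864) (Steps.fwd (nat_lit 262144) (Steps.bwd (nat_lit 2) (Steps.fwd (nat_lit 262144) (Steps.bwd (nat_lit 6) (Steps.fwd (nat_lit 262144) (Steps.fwd (nat_lit 786432) (Steps.fwd (nat_lit 262144) Steps.nil))))))))))))) (nat_lit 34) (nat_lit 11),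
  Rule.mk (nat_lit 6) (nat_lit 274) (Steps.bwd (nat_lit 1) (Steps.fwd (nat_lit 1572864) (Steps.bwd (nat_lit 5) (Steps.bwd (nat_lit 2) (Steps.bwd (nat_lit 1) (Steps.bwd (nat_lit 6) (Steps.fwd (nat_lit 262144) (Steps.bwd (nat_lit 2) (Steps.fwd (nat_lit 262144) (Steps.bwd (nat_lit 6) (Steps.fwd (nat_lit 262144) (Steps.fwd (nat_lit 786432) (Steps.fwd (nat_lit 262144) Steps.nil))))))))))))) (nat_lit 34) (nat_lit 11),
  Rule.mk (nat_lit 6) (nat_lit 274) (Steps.bwd (nat_lit 1) (Steps.bwd (nat_lit 6) (Steps.fwd (nat_lit 1310720) (Steps.bwd (nat_lit 2) (Steps.fwd (nat_lit 262144) (Steps.bwd (nat_lit 6) (Steps.bwd (nat_lit 1) (Steps.bwd (nat_lit 2) (Steps.bwd (nat_lit 1) (Steps.bwd (nat_lit 6) (Steps.fwd (nat_lit 262144) (Steps.fwd (nat_lit 786432) (Steps.fwd (nat_lit 262144) Steps.nil))))))))))))) (nat_lit 34) (nat_lit 11),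
  Rule.mk (nat_lit 1) (nat_lit 274) (Steps.bwd (nat_lit 6) (Steps.fwd (nat_lit 1310720) (Steps.bwd (nat_lit 2) (Steps.bwd (nat_lit 1) (Steps.fwd (nat_lit 1572864) (Steps.fwd (nat_lit 262144) (Steps.fwd (nat_lit 786432) (Steps.bwd (nat_lit 1) (Steps.fwd (nat_lit 1572864) (Steps.fwd (nat_lit 262144) (Steps.bwd (nat_lit 2) (Steps.bwd (nat_lit 1) (Steps.bwd (nat_lit 6) Steps.nil))))))))))))) (nat_lit 34) (nat_lit 12),
  Rule.mk (nat_lit 6) (nat_lit 274) (Steps.bwd (nat_lit 1) (Steps.fwd (nat_lit 1572864) (Steps.fwd (nat_lit 1310720) (Steps.bwd (nat_lit 2) (Steps.fwd (nat_lit 262144) (Steps.bwd (nat_lit 6) (Steps.fwd (nat_lit 262144) (Steps.fwd (nat_lit 786432) (Steps.bwd (nat_lit 1) (Steps.fwd (nat_lit 1572864) (Steps.bwd (nat_lit 1) (Steps.bwd (nat_lit 2) (Steps.bwd (nat_lit 1) Steps.nil))))))))))))) (nat_lit 34) (nat_lit 11),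
  Rule.mk (nat_lit 6) (nat_lit 274) (Steps.bwd (nat_lit 1) (Steps.fwd (nat_lit 1572864) (Steps.fwd (nat_lit 1310720) (Steps.bwd (nat_lit 2) (Steps.fwd (nat_lit 262144) (Steps.bwd (nat_lit 6) (Steps.bwd (nat_lit 1) (Steps.bwd (nat_lit 2) (Steps.bwd (nat_lit 1) (Steps.bwd (nat_lit 6) (Steps.bwd (nat_lit 1) (Steps.fwd (nat_lit 786432) (Steps.fwd (nat_lit 262144) Steps.nil))))))))))))) (nat_lit 34) (nat_lit 11),
  Rule.mk (nat_lit 6) (nat_lit 274) (Steps.bwd (nat_lit 1) (Steps.fwd (nat_lit 1572864) (Steps.fwd (nat_lit 1310720) (Steps.bwd (nat_lit 2) (Steps.fwd (nat_lit 262144) (Steps.bwd (nat_lit 6) (Steps.bwd (nat_lit 1) (Steps.bwd (nat_lit 2) (Steps.bwd (nat_lit 1) (Steps.bwd (nat_lit 6) (Steps.fwd (nat_lit 262144) (Steps.fwd (nat_lit 786432) (Steps.fwd (nat_lit 262144) Steps.nil))))))))))))) (nat_lit 34) (nat_lit 11),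
  Rule.mk (nat_lit 6) (nat_lit 274) (Steps.bwd (nat_lit 1) (Steps.bwd (nat_lit 6) (Steps.bwd (nat_lit 5) (Steps.fwd (nat_lit 786432) (Steps.fwd (nat_lit 262144) (Steps.bwd (nat_lit 6) (Steps.bwd (nat_lit 1) (Steps.bwd (nat_lit 2) (Steps.bwd (nat_lit 1) (Steps.fwd (nat_lit 1572864) (Steps.fwd (nat_lit 262144) (Steps.bwd (nat_lit 2) (Steps.bwd (nat_lit 1) Steps.nil))))))))))))) (nat_lit 34) (nat_lit 11),
  Rule.mk (nat_lit 6) (nat_lit 274) (Steps.bwd (nat_lit 1) (Steps.bwd (nat_lit 6) (Steps.fwd (nat_lit 1310720) (Steps.bwd (nat_lit 2) (Steps.fwd (nat_lit 262144) (Steps.bwd (nat_lit 6) (Steps.fwd (nat_lit 262144) (Steps.bwd (nat_lit 2) (Steps.bwd (nat_lit 1) (Steps.fwd (nat_lit 1572864) (Steps.fwd (nat_lit 262144) (Steps.bwd (nat_lit 2) (Steps.bwd (nat_lit 1) Steps.nil))))))))))))) (nat_lit 34) (nat_lit 11),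
  Rule.mk (nat_lit 6) (nat_lit 274) (Steps.bwd (nat_lit 1) (Steps.fwd (nat_lit 1572864) (Steps.fwd (nat_lit 1310720) (Steps.bwd (nat_lit 2) (Steps.fwd (nat_lit 262144) (Steps.fwd (nat_lit 1572864) (Steps.bwd (nat_lit 1) (Steps.bwd (nat_lit 2) (Steps.fwd (nat_lit 262144) (Steps.bwd (nat_lit 6) (Steps.fwd (nat_lit 262144) (Steps.bwd (nat_lit 2) (Steps.bwd (nat_lit 1) Steps.nil))))))))))))) (nat_lit 34) (nat_lit 11),
  Rule.mk (nat_lit 6) (nat_lit 274) (Steps.bwd (nat_lit 1) (Steps.bwd (nat_lit 3) (Steps.bwd (nat_lit 5) (Steps.bwd (nat_lit 6) (Steps.bwd (nat_lit 1) (Steps.fwd (nat_lit 1572864) (Steps.fwd (nat_lit 262144) (Steps.bwd (nat_lit 3) (Steps.fwd (nat_lit 262144) (Steps.bwd (nat_lit 6) (Steps.bwd (nat_lit 1) (Steps.fwd (nat_lit 524288) (Steps.fwd (nat_lit 262144) Steps.nil))))))))))))) (nat_lit 35) (nat_lit 12),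
  Rule.mk (nat_lit 6) (nat_lit 274) (Steps.bwd (nat_lit 1) (Steps.fwd (nat_lit 1572864) (Steps.fwd (nat_lit 1310720) (Steps.bwd (nat_lit 2) (Steps.bwd (nat_lit 1) (Steps.bwd (nat_lit 6) (Steps.fwd (nat_lit 262144) (Steps.fwd (nat_lit 786432) (Steps.bwd (nat_lit 1) (Steps.bwd (nat_lit 6) (Steps.bwd (nat_lit 1) (Steps.bwd (nat_lit 2) (Steps.bwd (nat_lit 1) Steps.nil))))))))))))) (nat_lit 34) (nat_lit 11),
  Rule.mk (nat_lit 6) (nat_lit 274) (Steps.bwd (nat_lit 1) (Steps.bwd (nat_lit 6) (Steps.fwd (nat_lit 1310720) (Steps.bwd (nat_lit 2) (Steps.fwd (nat_lit 262144) (Steps.fwd (nat_lit 1572864) (Steps.fwd (nat_lit 262144) (Steps.bwd (nat_lit 2) (Steps.bwd (nat_lit 1) (Steps.fwd (nat_lit 1572864) (Steps.fwd (nat_lit 262144) (Steps.bwd (nat_lit 2) (Steps.bwd (nat_lit 1) Steps.nil))))))))))))) (nat_lit 34) (nat_lit 11),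
  Rule.mk (nat_lit 6) (nat_lit 274) (Steps.bwd (nat_lit 1) (Steps.bwd (nat_lit 6) (Steps.fwd (nat_lit 1310720) (Steps.bwd (nat_lit 2) (Steps.fwd (nat_lit 262144) (Steps.fwd (nat_lit 1572864) (Steps.bwd (nat_lit 1) (Steps.bwd (nat_lit 2) (Steps.fwd (nat_lit 262144) (Steps.bwd (nat_lit 6) (Steps.fwd (nat_lit 262144) (Steps.bwd (nat_lit 2) (Steps.bwd (nat_lit 1) Steps.nil))))))))))))) (nat_lit 34) (nat_lit 11),
  Rule.mk (nat_lit 6) (nat_lit 274) (Steps.bwd (nat_lit 1) (Steps.bwd (nat_lit 2) (Steps.bwd (nat_lit 1) (Steps.fwd (nat_lit 1572864) (Steps.fwd (nat_lit 262144) (Steps.fwd (nat_lit 786432) (Steps.fwd (nat_lit 262144) (Steps.bwd (nat_lit 6) (Steps.bwd (nat_lit 1) (Steps.bwd (nat_lit 6) (Steps.bwd (nat_lit 5) (Steps.bwd (nat_lit 2) (Steps.fwd (nat_lit 262144) Steps.nil))))))))))))) (nat_lit 34) (nat_lit 3),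
  Rule.mk (nat_lit 6) (nat_lit 274) (Steps.bwd (nat_lit 1) (Steps.fwd (nat_lit 1572864) (Steps.bwd (nat_lit 5) (Steps.bwd (nat_lit 2) (Steps.bwd (nat_lit 1) (Steps.bwd (nat_lit 6) (Steps.fwd (nat_lit 262144) (Steps.fwd (nat_lit 786432) (Steps.bwd (nat_lit 1) (Steps.bwd (nat_lit 6) (Steps.bwd (nat_lit 1) (Steps.bwd (nat_lit 2) (Steps.bwd (nat_lit 1) Steps.nil))))))))))))) (nat_lit 34) (nat_lit 11),
  Rule.mk (nat_lit 6) (nat_lit 274) (Steps.bwd (nat_lit 1) (Steps.fwd (nat_lit 524288) (Steps.bwd (nat_lit 1) (Steps.fwd (nat_lit 1572864) (Steps.fwd (nat_lit 262144) (Steps.fwd (nat_lit 524288) (Steps.bwd (nat_lit 1) (Steps.bwd (nat_lit 6) (Steps.bwd (nat_lit 1) (Steps.fwd (nat_lit 524288) (Steps.bwd (nat_lit 5) (Steps.fwd (nat_lit 1572864) (Steps.fwd (nat_lit 262144) Steps.nil))))))))))))) (nat_lit 35) (nat_lit 4),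
  Rule.mk (nat_lit 6) (nat_lit 274) (Steps.bwd (nat_lit 1) (Steps.bwd (nat_lit 6) (Steps.fwd (nat_lit 1310720) (Steps.fwd (nat_lit 786432) (Steps.fwd (nat_lit 262144) (Steps.fwd (nat_lit 1572864) (Steps.bwd (nat_lit 1) (Steps.bwd (nat_lit 2) (Steps.fwd (nat_lit 262144) (Steps.bwd (nat_lit 6) (Steps.fwd (nat_lit 262144) (Steps.bwd (nat_lit 2) (Steps.bwd (nat_lit 1) Steps.nil))))))))))))) (nat_lit 34) (nat_lit 11),
  Rule.mk (nat_lit 6) (nat_lit 274) (Steps.bwd (nat_lit 1) (Steps.fwd (nat_lit 1572864) (Steps.fwd (nat_lit 1310720) (Steps.fwd (nat_lit 786432) (Steps.fwd (nat_lit 262144) (Steps.fwd (nat_lit 1572864) (Steps.bwd (nat_lit 1) (Steps.bwd (nat_lit 2) (Steps.bwd (nat_lit 1) (Steps.bwd (nat_lit 6) (Steps.fwd (nat_lit 262144) (Steps.bwd (nat_lit 2) (Steps.bwd (nat_lit 1) Steps.nil))))))))))))) (nat_lit 34) (nat_lit 11),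
  Rule.mk (nat_lit 6) (nat_lit 274) (Steps.bwd (nat_lit 1) (Steps.fwd (nat_lit 524288) (Steps.bwd (nat_lit 5) (Steps.fwd (nat_lit 1572864) (Steps.fwd (nat_lit 262144) (Steps.fwd (nat_lit 1572864) (Steps.fwd (nat_lit 262144) (Steps.fwd (nat_lit 524288) (Steps.bwd (nat_lit 1) (Steps.bwd (nat_lit 6) (Steps.fwd (nat_lit 262144) (Steps.fwd (nat_lit 524288) (Steps.fwd (nat_lit 262144) Steps.nil))))))))))))) (nat_lit 35) (nat_lit 12),
  Rule.mk (nat_lit 6) (nat_lit 274) (Steps.bwd (nat_lit 1) (Steps.fwd (nat_lit 1572864) (Steps.fwd (nat_lit 1310720) (Steps.bwd (nat_lit 2) (Steps.fwd (nat_lit 262144) (Steps.bwd (nat_lit 6) (Steps.fwd (nat_lit 262144) (Steps.bwd (nat_lit 2) (Steps.bwd (nat_lit 1) (Steps.fwd (nat_lit 1572864) (Steps.fwd (nat_lit 262144) (Steps.fwd (nat_lit 786432) (Steps.bwd (nat_lit 1) Steps.nil))))))))))))) (nat_lit 34) (nat_lit 11),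
  Rule.mk (nat_lit 6) (nat_lit 274) (Steps.bwd (nat_lit 1) (Steps.bwd (nat_lit 3) (Steps.bwd (nat_lit 1) (Steps.fwd (nat_lit 1572864) (Steps.fwd (nat_lit 262144) (Steps.fwd (nat_lit 524288) (Steps.bwd (nat_lit 1) (Steps.bwd (nat_lit 6) (Steps.bwd (nat_lit 1) (Steps.fwd (nat_lit 524288) (Steps.fwd (nat_lit 1310720) (Steps.bwd (nat_lit 6) (Steps.fwd (nat_lit 262144) Steps.nil))))))))))))) (nat_lit 35) (nat_lit 4),
  Rule.mk (nat_lit 6) (nat_lit 274) (Steps.bwd (nat_lit 1) (Steps.bwd (nat_lit 2) (Steps.bwd (nat_lit 1) (Steps.fwd (nat_lit 1572864) (Steps.fwd (nat_lit 262144) (Steps.fwd (nat_lit 786432) (Steps.fwd (nat_lit 262144) (Steps.bwd (nat_lit 6) (Steps.bwd (nat_lit 1) (Steps.fwd (nat_lit 1572864) (Steps.fwd (nat_lit 1310720) (Steps.bwd (nat_lit 2) (Steps.fwd (nat_lit 262144) Steps.nil))))))))))))) (nat_lit 34) (nat_lit 3),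
  Rule.mk (nat_lit 6) (nat_lit 274) (Steps.bwd (nat_lit 1) (Steps.fwd (nat_lit 524288) (Steps.fwd (nat_lit 1310720) (Steps.bwd (nat_lit 6) (Steps.fwd (nat_lit 262144) (Steps.fwd (nat_lit 1572864) (Steps.fwd (nat_lit 262144) (Steps.fwd (nat_lit 524288) (Steps.bwd (nat_lit 1) (Steps.fwd (nat_lit 1572864) (Steps.fwd (nat_lit 262144) (Steps.fwd (nat_lit 524288) (Steps.bwd (nat_lit 1) Steps.nil))))))))))))) (nat_lit 35) (nat_lit 12),
  Rule.mk (nat_lit 1) (nat_lit 274) (Steps.bwd (nat_lit 6) (Steps.fwd (nat_lit 1310720) (Steps.fwd (nat_lit 786432) (Steps.fwd (nat_lit 262144) (Steps.fwd (nat_lit 1572864) (Steps.bwd (nat_lit 1) (Steps.bwd (nat_lit 2) (Steps.bwd (nat_lit 1) (Steps.bwd (nat_lit 6) (Steps.fwd (nat_lit 262144) (Steps.fwd (nat_lit 786432) (Steps.fwd (nat_lit 262144) (Steps.bwd (nat_lit 6) Steps.nil))))))))))))) (nat_lit 34) (nat_lit 12),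
  Rule.mk (nat_lit 6) (nat_lit 274) (Steps.bwd (nat_lit 1) (Steps.fwd (nat_lit 1572864) (Steps.bwd (nat_lit 5) (Steps.fwd (nat_lit 786432) (Steps.bwd (nat_lit 1) (Steps.bwd (nat_lit 6) (Steps.fwd (nat_lit 262144) (Steps.bwd (nat_lit 2) (Steps.fwd (nat_lit 262144) (Steps.bwd (nat_lit 6) (Steps.bwd (nat_lit 1) (Steps.bwd (nat_lit 2) (Steps.bwd (nat_lit 1) Steps.nil))))))))))))) (nat_lit 34) (nat_lit 11),
  Rule.mk (nat_lit 6) (nat_lit 274) (Steps.bwd (nat_lit 1) (Steps.fwd (nat_lit 1572864) (Steps.bwd (nat_lit 5) (Steps.bwd (nat_lit 2) (Steps.bwd (nat_lit 1) (Steps.bwd (nat_lit 6) (Steps.fwd (nat_lit 262144) (Steps.fwd (nat_lit 786432) (Steps.bwd (nat_lit 1) (Steps.bwd (nat_lit 6) (Steps.bwd (nat_lit 1) (Steps.bwd (nat_lit 2) (Steps.fwd (nat_lit 262144) Steps.nil))))))))))))) (nat_lit 34) (nat_lit 11),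
  Rule.mk (nat_lit 6) (nat_lit 274) (Steps.bwd (nat_lit 1) (Steps.fwd (nat_lit 524288) (Steps.fwd (nat_lit 1310720) (Steps.bwd (nat_lit 6) (Steps.fwd (nat_lit 262144) (Steps.fwd (nat_lit 1572864) (Steps.bwd (nat_lit 1) (Steps.fwd (nat_lit 524288) (Steps.bwd (nat_lit 1) (Steps.bwd (nat_lit 6) (Steps.fwd (nat_lit 262144) (Steps.fwd (nat_lit 524288) (Steps.fwd (nat_lit 262144) Steps.nil))))))))))))) (nat_lit 35) (nat_lit 12),
  Rule.mk (nat_lit 6) (nat_lit 274) (Steps.bwd (nat_lit 1) (Steps.bwd (nat_lit 2) (Steps.bwd (nat_lit 1) (Steps.fwd (nat_lit 1572864) (Steps.fwd (nat_lit 262144) (Steps.fwd (nat_lit 786432) (Steps.bwd (nat_lit 1) (Steps.fwd (nat_lit 1572864) (Steps.bwd (nat_lit 1) (Steps.bwd (nat_lit 6) (Steps.bwd (nat_lit 5) (Steps.fwd (nat_lit 786432) (Steps.fwd (nat_lit 262144) Steps.nil))))))))))))) (nat_lit 34) (nat_lit 3),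
  Rule.mk (nat_lit 6) (nat_lit 274) (Steps.bwd (nat_lit 1) (Steps.bwd (nat_lit 6) (Steps.fwd (nat_lit 1310720) (Steps.bwd (nat_lit 2) (Steps.fwd (nat_lit 262144) (Steps.bwd (nat_lit 6) (Steps.fwd (nat_lit 262144) (Steps.bwd (nat_lit 2) (Steps.bwd (nat_lit 1) (Steps.fwd (nat_lit 1572864) (Steps.fwd (nat_lit 262144) (Steps.fwd (nat_lit 786432) (Steps.bwd (nat_lit 1) Steps.nil))))))))))))) (nat_lit 34) (nat_lit 11),
  Rule.mk (nat_lit 6) (nat_lit 274) (Steps.bwd (nat_lit 1) (Steps.bwd (nat_lit 6) (Steps.fwd (nat_lit 1310720) (Steps.bwd (nat_lit 2) (Steps.fwd (nat_lit 262144) (Steps.fwd (nat_lit 1572864) (Steps.fwd (nat_lit 262144) (Steps.bwd (nat_lit 2) (Steps.bwd (nat_lit 1) (Steps.fwd (nat_lit 1572864) (Steps.fwd (nat_lit 262144) (Steps.fwd (nat_lit 786432) (Steps.bwd (nat_lit 1) Steps.nil))))))))))))) (nat_lit 34) (nat_lit 11),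
  Rule.mk (nat_lit 1) (nat_lit 274) (Steps.fwd (nat_lit 1572864) (Steps.bwd (nat_lit 1) (Steps.fwd (nat_lit 524288) (Steps.fwd (nat_lit 262144) (Steps.bwd (nat_lit 6) (Steps.bwd (nat_lit 1) (Steps.fwd (nat_lit 524288) (Steps.fwd (nat_lit 262144) (Steps.fwd (nat_lit 1572864) (Steps.bwd (nat_lit 1) (Steps.fwd (nat_lit 524288) (Steps.bwd (nat_lit 5) (Steps.bwd (nat_lit 6) Steps.nil))))))))))))) (nat_lit 35) (nat_lit 3),
  Rule.mk (nat_lit 1) (nat_lit 274) (Steps.fwd (nat_lit 1572864) (Steps.bwd (nat_lit 1) (Steps.fwd (nat_lit 524288) (Steps.fwd (nat_lit 262144) (Steps.bwd (nat_lit 6) (Steps.bwd (nat_lit 1) (Steps.fwd (nat_lit 524288) (Steps.fwd (nat_lit 262144) (Steps.fwd (nat_lit 1572864) (Steps.bwd (nat_lit 1) (Steps.fwd (nat_lit 524288) (Steps.fwd (nat_lit 1310720) (Steps.bwd (nat_lit 6) Steps.nil))))))))))))) (nat_lit 35) (nat_lit 3),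
  Rule.mk (nat_lit 6) (nat_lit 274) (Steps.bwd (nat_lit 1) (Steps.bwd (nat_lit 3) (Steps.fwd (nat_lit 1310720) (Steps.bwd (nat_lit 6) (Steps.bwd (nat_lit 1) (Steps.fwd (nat_lit 1572864) (Steps.fwd (nat_lit 262144) (Steps.bwd (nat_lit 3) (Steps.fwd (nat_lit 262144) (Steps.fwd (nat_lit 1572864) (Steps.bwd (nat_lit 1) (Steps.bwd (nat_lit 3) (Steps.fwd (nat_lit 262144) Steps.nil))))))))))))) (nat_lit 35) (nat_lit 12),
  Rule.mk (nat_lit 6) (nat_lit 274) (Steps.bwd (nat_lit 1) (Steps.bwd (nat_lit 6) (Steps.fwd (nat_lit 1310720) (Steps.bwd (nat_lit 2) (Steps.fwd (nat_lit 262144) (Steps.fwd (nat_lit 1572864) (Steps.fwd (nat_lit 262144) (Steps.bwd (nat_lit 2) (Steps.bwd (nat_lit 1) (Steps.bwd (nat_lit 6) (Steps.fwd (nat_lit 262144) (Steps.bwd (nat_lit 2) (Steps.bwd (nat_lit 1) Steps.nil))))))))))))) (nat_lit 34) (nat_lit 11),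
  Rule.mk (nat_lit 6) (nat_lit 274) (Steps.bwd (nat_lit 1) (Steps.fwd (nat_lit 786432) (Steps.fwd (nat_lit 262144) (Steps.bwd (nat_lit 6) (Steps.fwd (nat_lit 262144) (Steps.fwd (nat_lit 786432) (Steps.bwd (nat_lit 1) (Steps.fwd (nat_lit 1572864) (Steps.fwd (nat_lit 262144) (Steps.fwd (nat_lit 1572864) (Steps.fwd (nat_lit 1310720) (Steps.fwd (nat_lit 786432) (Steps.fwd (nat_lit 262144) Steps.nil))))))))))))) (nat_lit 34) (nat_lit 3),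
  Rule.mk (nat_lit 6) (nat_lit 154) (Steps.bwd (nat_lit 3) (Steps.bwd (nat_lit 5) (Steps.bwd (nat_lit 3) (Steps.fwd (nat_lit 1835008) (Steps.fwd (nat_lit 1572864) (Steps.fwd (nat_lit 524288) (Steps.fwd (nat_lit 1310720) Steps.nil))))))) (nat_lit 83) (nat_lit 5),
  Rule.mk (nat_lit 6) (nat_lit 274) (Steps.bwd (nat_lit 1) (Steps.fwd (nat_lit 786432) (Steps.fwd (nat_lit 262144) (Steps.bwd (nat_lit 6) (Steps.fwd (nat_lit 262144) (Steps.bwd (nat_lit 2) (Steps.bwd (nat_lit 1) (Steps.fwd (nat_lit 1572864) (Steps.fwd (nat_lit 262144) (Steps.bwd (nat_lit 6) (Steps.fwd (nat_lit 1310720) (Steps.bwd (nat_lit 2) (Steps.bwd (nat_lit 1) Steps.nil))))))))))))) (nat_lit 34) (nat_lit 3),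
  Rule.mk (nat_lit 1) (nat_lit 274) (Steps.bwd (nat_lit 6) (Steps.bwd (nat_lit 1) (Steps.bwd (nat_lit 2) (Steps.fwd (nat_lit 262144) (Steps.fwd (nat_lit 1572864) (Steps.bwd (nat_lit 1) (Steps.bwd (nat_lit 6) (Steps.bwd (nat_lit 5) (Steps.bwd (nat_lit 2) (Steps.bwd (nat_lit 1) (Steps.fwd (nat_lit 1572864) (Steps.fwd (nat_lit 262144) (Steps.fwd (nat_lit 786432) Steps.nil))))))))))))) (nat_lit 34) (nat_lit 6),
  Rule.mk (nat_lit 1) (nat_lit 154) (Steps.fwd (nat_lit 786432) (Steps.bwd (nat_lit 1) (Steps.bwd (nat_lit 3) (Steps.fwd (nat_lit 262144) (Steps.fwd (nat_lit 786432) (Steps.fwd (nat_lit 262144) (Steps.bwd (nat_lit 3) Steps.nil))))))) (nat_lit 68) (nat_lit 1)]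
noncomputable def R_36 : List (Rule) := [Rule.mk (nat_lit 6) (nat_lit 274) (Steps.bwd (nat_lit 1) (Steps.bwd (nat_lit 2) (Steps.fwd (nat_lit 262144) (Steps.fwd (nat_lit 1572864) (Steps.fwd (nat_lit 262144) (Steps.bwd (nat_lit 6) (Steps.fwd (nat_lit 1310720) (Steps.bwd (nat_lit 2) (Steps.bwd (nat_lit 1) (Steps.fwd (nat_lit 1572864) (Steps.bwd (nat_lit 1) (Steps.fwd (nat_lit 786432) (Steps.bwd (nat_lit 1) Steps.nil))))))))))))) (nat_lit 34) (nat_lit 7),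
  Rule.mk (nat_lit 1) (nat_lit 274) (Steps.bwd (nat_lit 6) (Steps.bwd (nat_lit 1) (Steps.bwd (nat_lit 3) (Steps.fwd (nat_lit 262144) (Steps.fwd (nat_lit 1572864) (Steps.fwd (nat_lit 262144) (Steps.fwd (nat_lit 524288) (Steps.fwd (nat_lit 1310720) (Steps.fwd (nat_lit 1572864) (Steps.fwd (nat_lit 262144) (Steps.bwd (nat_lit 6) (Steps.fwd (nat_lit 262144) (Steps.fwd (nat_lit 524288) Steps.nil))))))))))))) (nat_lit 35) (nat_lit 7),
  Rule.mk (nat_lit 1) (nat_lit 274) (Steps.fwd (nat_lit 786432) (Steps.bwd (nat_lit 1) (Steps.fwd (nat_lit 1572864) (Steps.fwd (nat_lit 262144) (Steps.bwd (nat_lit 2) (Steps.bwd (nat_lit 1) (Steps.bwd (nat_lit 6) (Steps.bwd (nat_lit 1) (Steps.bwd (nat_lit 6) (Steps.bwd (nat_lit 5) (Steps.fwd (nat_lit 786432) (Steps.fwd (nat_lit 262144) (Steps.bwd (nat_lit 6) Steps.nil))))))))))))) (nat_lit 34) (nat_lit 4),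
  Rule.mk (nat_lit 6) (nat_lit 274) (Steps.bwd (nat_lit 1) (Steps.bwd (nat_lit 2) (Steps.fwd (nat_lit 262144) (Steps.fwd (nat_lit 1572864) (Steps.fwd (nat_lit 262144) (Steps.bwd (nat_lit 2) (Steps.bwd (nat_lit 1) (Steps.fwd (nat_lit 1572864) (Steps.bwd (nat_lit 1) (Steps.fwd (nat_lit 1572864) (Steps.bwd (nat_lit 5) (Steps.fwd (nat_lit 786432) (Steps.fwd (nat_lit 262144) Steps.nil))))))))))))) (nat_lit 34) (nat_lit 3),
  Rule.mk (nat_lit 6) (nat_lit 274) (Steps.bwd (nat_lit 1) (Steps.fwd (nat_lit 524288) (Steps.fwd (nat_lit 1310720) (Steps.fwd (nat_lit 1572864) (Steps.fwd (nat_lit 262144) (Steps.fwd (nat_lit 1572864) (Steps.bwd (nat_lit 1) (Steps.fwd (nat_lit 524288) (Steps.bwd (nat_lit 1) (Steps.fwd (nat_lit 1572864) (Steps.fwd (nat_lit 262144) (Steps.bwd (nat_lit 3) (Steps.fwd (nat_lit 262144) Steps.nil))))))))))))) (nat_lit 35) (nat_lit 12),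
  Rule.mk (nat_lit 6) (nat_lit 274) (Steps.bwd (nat_lit 1) (Steps.bwd (nat_lit 6) (Steps.bwd (nat_lit 5) (Steps.fwd (nat_lit 786432) (Steps.fwd (nat_lit 262144) (Steps.fwd (nat_lit 1572864) (Steps.bwd (nat_lit 1) (Steps.bwd (nat_lit 2) (Steps.bwd (nat_lit 1) (Steps.fwd (nat_lit 1572864) (Steps.bwd (nat_lit 1) (Steps.fwd (nat_lit 786432) (Steps.bwd (nat_lit 1) Steps.nil))))))))))))) (nat_lit 34) (nat_lit 11),
  Rule.mk (nat_lit 1) (nat_lit 274) (Steps.bwd (nat_lit 6) (Steps.bwd (nat_lit 1) (Steps.bwd (nat_lit 2) (Steps.fwd (nat_lit 262144) (Steps.fwd (nat_lit 1572864) (Steps.fwd (nat_lit 262144) (Steps.bwd (nat_lit 2) (Steps.bwd (nat_lit 1) (Steps.fwd (nat_lit 1572864) (Steps.fwd (nat_lit 262144) (Steps.bwd (nat_lit 6) (Steps.fwd (nat_lit 1310720) (Steps.bwd (nat_lit 2) Steps.nil))))))))))))) (nat_lit 34) (nat_lit 2),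
  Rule.mk (nat_lit 6) (nat_lit 274) (Steps.bwd (nat_lit 1) (Steps.fwd (nat_lit 786432) (Steps.fwd (nat_lit 262144) (Steps.bwd (nat_lit 6) (Steps.bwd (nat_lit 1) (Steps.fwd (nat_lit 786432) (Steps.bwd (nat_lit 1) (Steps.bwd (nat_lit 6) (Steps.fwd (nat_lit 262144) (Steps.bwd (nat_lit 6) (Steps.bwd (nat_lit 5) (Steps.fwd (nat_lit 786432) (Steps.fwd (nat_lit 262144) Steps.nil))))))))))))) (nat_lit 34) (nat_lit 3),
  Rule.mk (nat_lit 6) (nat_lit 274) (Steps.bwd (nat_lit 1) (Steps.fwd (nat_lit 524288) (Steps.fwd (nat_lit 262144) (Steps.fwd (nat_lit 1572864) (Steps.fwd (nat_lit 262144) (Steps.fwd (nat_lit 524288) (Steps.fwd (nat_lit 1310720) (Steps.fwd (nat_lit 1572864) (Steps.fwd (nat_lit 262144) (Steps.fwd (nat_lit 1572864) (Steps.fwd (nat_lit 262144) (Steps.fwd (nat_lit 524288) (Steps.bwd (nat_lit 1) Steps.nil))))))))))))) (nat_lit 35) (nat_lit 8),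
  Rule.mk (nat_lit 6) (nat_lit 274) (Steps.bwd (nat_lit 1) (Steps.bwd (nat_lit 2) (Steps.bwd (nat_lit 1) (Steps.fwd (nat_lit 1572864) (Steps.bwd (nat_lit 1) (Steps.fwd (nat_lit 786432) (Steps.bwd (nat_lit 1) (Steps.bwd (nat_lit 6) (Steps.bwd (nat_lit 1) (Steps.fwd (nat_lit 1572864) (Steps.fwd (nat_lit 1310720) (Steps.fwd (nat_lit 786432) (Steps.fwd (nat_lit 262144) Steps.nil))))))))))))) (nat_lit 34) (nat_lit 3),
  Rule.mk (nat_lit 1) (nat_lit 274) (Steps.bwd (nat_lit 6) (Steps.bwd (nat_lit 1) (Steps.bwd (nat_lit 3) (Steps.fwd (nat_lit 262144) (Steps.fwd (nat_lit 1572864) (Steps.fwd (nat_lit 262144) (Steps.fwd (nat_lit 524288) (Steps.bwd (nat_lit 1) (Steps.bwd (nat_lit 6) (Steps.fwd (nat_lit 262144) (Steps.bwd (nat_lit 3) (Steps.fwd (nat_lit 1310720) (Steps.bwd (nat_lit 6) Steps.nil))))))))))))) (nat_lit 35) (nat_lit 3),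
  Rule.mk (nat_lit 6) (nat_lit 274) (Steps.bwd (nat_lit 1) (Steps.bwd (nat_lit 6) (Steps.bwd (nat_lit 5) (Steps.fwd (nat_lit 786432) (Steps.fwd (nat_lit 262144) (Steps.bwd (nat_lit 6) (Steps.bwd (nat_lit 1) (Steps.bwd (nat_lit 2) (Steps.bwd (nat_lit 1) (Steps.bwd (nat_lit 6) (Steps.fwd (nat_lit 262144) (Steps.bwd (nat_lit 2) (Steps.bwd (nat_lit 1) Steps.nil))))))))))))) (nat_lit 34) (nat_lit 11),
  Rule.mk (nat_lit 1) (nat_lit 274) (Steps.bwd (nat_lit 6) (Steps.bwd (nat_lit 1) (Steps.bwd (nat_lit 2) (Steps.fwd (nat_lit 262144) (Steps.fwd (nat_lit 1572864) (Steps.bwd (nat_lit 1) (Steps.bwd (nat_lit 6) (Steps.bwd (nat_lit 5) (Steps.bwd (nat_lit 2) (Steps.bwd (nat_lit 1) (Steps.bwd (nat_lit 6) (Steps.bwd (nat_lit 1) (Steps.fwd (nat_lit 786432) Steps.nil))))))))))))) (nat_lit 34) (nat_lit 6),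
  Rule.mk (nat_lit 6) (nat_lit 274) (Steps.bwd (nat_lit 1) (Steps.bwd (nat_lit 3) (Steps.fwd (nat_lit 1310720) (Steps.bwd (nat_lit 6) (Steps.bwd (nat_lit 1) (Steps.bwd (nat_lit 6) (Steps.fwd (nat_lit 262144) (Steps.bwd (nat_lit 3) (Steps.fwd (nat_lit 262144) (Steps.fwd (nat_lit 1572864) (Steps.bwd (nat_lit 1) (Steps.bwd (nat_lit 3) (Steps.fwd (nat_lit 262144) Steps.nil))))))))))))) (nat_lit 35) (nat_lit 12),
  Rule.mk (nat_lit 6) (nat_lit 154) (Steps.bwd (nat_lit 2) (Steps.fwd (nat_lit 1310720) (Steps.fwd (nat_lit 1572864) (Steps.fwd (nat_lit 786432) (Steps.fwd (nat_lit 1310720) (Steps.fwd (nat_lit 786432) (Steps.fwd (nat_lit 1835008) Steps.nil))))))) (nat_lit 84) (nat_lit 5),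
  Rule.mk (nat_lit 1) (nat_lit 274) (Steps.bwd (nat_lit 6) (Steps.bwd (nat_lit 1) (Steps.bwd (nat_lit 3) (Steps.fwd (nat_lit 1310720) (Steps.bwd (nat_lit 6) (Steps.fwd (nat_lit 262144) (Steps.fwd (nat_lit 1572864) (Steps.fwd (nat_lit 262144) (Steps.fwd (nat_lit 524288) (Steps.bwd (nat_lit 1) (Steps.bwd (nat_lit 6) (Steps.fwd (nat_lit 262144) (Steps.bwd (nat_lit 3) Steps.nil))))))))))))) (nat_lit 35) (nat_lit 11),
  Rule.mk (nat_lit 6) (nat_lit 274) (Steps.bwd (nat_lit 1) (Steps.bwd (nat_lit 2) (Steps.bwd (nat_lit 1) (Steps.fwd (nat_lit 1572864) (Steps.fwd (nat_lit 262144) (Steps.fwd (nat_lit 786432) (Steps.bwd (nat_lit 1) (Steps.bwd (nat_lit 6) (Steps.bwd (nat_lit 1) (Steps.bwd (nat_lit 6) (Steps.bwd (nat_lit 5) (Steps.bwd (nat_lit 2) (Steps.fwd (nat_lit 262144) Steps.nil))))))))))))) (nat_lit 34) (nat_lit 3),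
  Rule.mk (nat_lit 6) (nat_lit 154) (Steps.bwd (nat_lit 2) (Steps.fwd (nat_lit 1310720) (Steps.bwd (nat_lit 6) (Steps.fwd (nat_lit 786432) (Steps.bwd (nat_lit 5) (Steps.fwd (nat_lit 786432) (Steps.fwd (nat_lit 1835008) Steps.nil))))))) (nat_lit 84) (nat_lit 5),
  Rule.mk (nat_lit 1) (nat_lit 274) (Steps.bwd (nat_lit 6) (Steps.fwd (nat_lit 1310720) (Steps.bwd (nat_lit 2) (Steps.bwd (nat_lit 1) (Steps.bwd (nat_lit 6) (Steps.bwd (nat_lit 1) (Steps.bwd (nat_lit 2) (Steps.fwd (nat_lit 262144) (Steps.fwd (nat_lit 1572864) (Steps.bwd (nat_lit 1) (Steps.bwd (nat_lit 2) (Steps.fwd (nat_lit 262144) (Steps.bwd (nat_lit 6) Steps.nil))))))))))))) (nat_lit 34) (nat_lit 12),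
  Rule.mk (nat_lit 6) (nat_lit 274) (Steps.bwd (nat_lit 1) (Steps.bwd (nat_lit 2) (Steps.fwd (nat_lit 262144) (Steps.fwd (nat_lit 1572864) (Steps.fwd (nat_lit 262144) (Steps.bwd (nat_lit 2) (Steps.bwd (nat_lit 1) (Steps.fwd (nat_lit 1572864) (Steps.bwd (nat_lit 1) (Steps.bwd (nat_lit 6) (Steps.bwd (nat_lit 5) (Steps.fwd (nat_lit 786432) (Steps.fwd (nat_lit 262144) Steps.nil))))))))))))) (nat_lit 34) (nat_lit 3),
  Rule.mk (nat_lit 1) (nat_lit 274) (Steps.bwd (nat_lit 6) (Steps.bwd (nat_lit 1) (Steps.bwd (nat_lit 3) (Steps.fwd (nat_lit 262144) (Steps.fwd (nat_lit 1572864) (Steps.fwd (nat_lit 262144) (Steps.fwd (nat_lit 524288) (Steps.bwd (nat_lit 5) (Steps.fwd (nat_lit 1572864) (Steps.bwd (nat_lit 1) (Steps.bwd (nat_lit 6) (Steps.fwd (nat_lit 262144) (Steps.fwd (nat_lit 524288) Steps.nil))))))))))))) (nat_lit 35) (nat_lit 7),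
  Rule.mk (nat_lit 1) (nat_lit 274) (Steps.bwd (nat_lit 6) (Steps.bwd (nat_lit 1) (Steps.fwd (nat_lit 524288) (Steps.bwd (nat_lit 5) (Steps.fwd (nat_lit 1572864) (Steps.fwd (nat_lit 262144) (Steps.fwd (nat_lit 1572864) (Steps.fwd (nat_lit 262144) (Steps.fwd (nat_lit 524288) (Steps.bwd (nat_lit 1) (Steps.bwd (nat_lit 6) (Steps.fwd (nat_lit 262144) (Steps.fwd (nat_lit 524288) Steps.nil))))))))))))) (nat_lit 35) (nat_lit 11),
  Rule.mk (nat_lit 1) (nat_lit 274) (Steps.bwd (nat_lit 6) (Steps.bwd (nat_lit 1) (Steps.fwd (nat_lit 524288) (Steps.bwd (nat_lit 5) (Steps.fwd (nat_lit 1572864) (Steps.fwd (nat_lit 262144) (Steps.fwd (nat_lit 1572864) (Steps.fwd (nat_lit 262144) (Steps.fwd (nat_lit 524288) (Steps.bwd (nat_lit 1) (Steps.fwd (nat_lit 1572864) (Steps.fwd (nat_lit 262144) (Steps.fwd (nat_lit 524288) Steps.nil))))))))))))) (nat_lit 35) (nat_lit 11),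
  Rule.mk (nat_lit 6) (nat_lit 154) (Steps.bwd (nat_lit 2) (Steps.fwd (nat_lit 1310720) (Steps.fwd (nat_lit 1572864) (Steps.fwd (nat_lit 786432) (Steps.fwd (nat_lit 1310720) (Steps.bwd (nat_lit 2) (Steps.fwd (nat_lit 1835008) Steps.nil))))))) (nat_lit 84) (nat_lit 5),
  Rule.mk (nat_lit 1) (nat_lit 274) (Steps.bwd (nat_lit 6) (Steps.bwd (nat_lit 1) (Steps.bwd (nat_lit 3) (Steps.fwd (nat_lit 1310720) (Steps.bwd (nat_lit 6) (Steps.fwd (nat_lit 262144) (Steps.fwd (nat_lit 1572864) (Steps.fwd (nat_lit 262144) (Steps.fwd (nat_lit 524288) (Steps.bwd (nat_lit 1) (Steps.fwd (nat_lit 1572864) (Steps.fwd (nat_lit 262144) (Steps.fwd (nat_lit 524288) Steps.nil))))))))))))) (nat_lit 35) (nat_lit 11),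
  Rule.mk (nat_lit 1) (nat_lit 274) (Steps.bwd (nat_lit 6) (Steps.bwd (nat_lit 1) (Steps.fwd (nat_lit 524288) (Steps.fwd (nat_lit 262144) (Steps.bwd (nat_lit 6) (Steps.bwd (nat_lit 1) (Steps.bwd (nat_lit 3) (Steps.bwd (nat_lit 5) (Steps.bwd (nat_lit 6) (Steps.bwd (nat_lit 1) (Steps.bwd (nat_lit 6) (Steps.fwd (nat_lit 262144) (Steps.fwd (nat_lit 524288) Steps.nil))))))))))))) (nat_lit 35) (nat_lit 7),
  Rule.mk (nat_lit 6) (nat_lit 274) (Steps.bwd (nat_lit 1) (Steps.fwd (nat_lit 1572864) (Steps.fwd (nat_lit 1310720) (Steps.bwd (nat_lit 2) (Steps.fwd (nat_lit 262144) (Steps.fwd (nat_lit 1572864) (Steps.fwd (nat_lit 262144) (Steps.bwd (nat_lit 2) (Steps.bwd (nat_lit 1) (Steps.fwd (nat_lit 1572864) (Steps.fwd (nat_lit 262144) (Steps.fwd (nat_lit 786432) (Steps.bwd (nat_lit 1) Steps.nil))))))))))))) (nat_lit 34) (nat_lit 11),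
  Rule.mk (nat_lit 6) (nat_lit 274) (Steps.bwd (nat_lit 1) (Steps.fwd (nat_lit 1572864) (Steps.bwd (nat_lit 5) (Steps.bwd (nat_lit 2) (Steps.bwd (nat_lit 1) (Steps.fwd (nat_lit 1572864) (Steps.fwd (nat_lit 262144) (Steps.bwd (nat_lit 2) (Steps.fwd (nat_lit 262144) (Steps.bwd (nat_lit 6) (Steps.bwd (nat_lit 1) (Steps.bwd (nat_lit 2) (Steps.fwd (nat_lit 262144) Steps.nil))))))))))))) (nat_lit 34) (nat_lit 11),
  Rule.mk (nat_lit 6) (nat_lit 274) (Steps.bwd (nat_lit 1) (Steps.fwd (nat_lit 786432) (Steps.fwd (nat_lit 262144) (Steps.bwd (nat_lit 6) (Steps.bwd (nat_lit 1) (Steps.bwd (nat_lit 6) (Steps.fwd (nat_lit 1310720) (Steps.bwd (nat_lit 2) (Steps.fwd (nat_lit 262144) (Steps.fwd (nat_lit 1572864) (Steps.fwd (nat_lit 262144) (Steps.fwd (nat_lit 786432) (Steps.fwd (nat_lit 262144) Steps.nil))))))))))))) (nat_lit 34) (nat_lit 7),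
  Rule.mk (nat_lit 6) (nat_lit 274) (Steps.bwd (nat_lit 1) (Steps.fwd (nat_lit 1572864) (Steps.fwd (nat_lit 1310720) (Steps.fwd (nat_lit 786432) (Steps.fwd (nat_lit 262144) (Steps.fwd (nat_lit 1572864) (Steps.fwd (nat_lit 262144) (Steps.fwd (nat_lit 786432) (Steps.bwd (nat_lit 1) (Steps.bwd (nat_lit 6) (Steps.fwd (nat_lit 262144) (Steps.bwd (nat_lit 2) (Steps.bwd (nat_lit 1) Steps.nil))))))))))))) (nat_lit 34) (nat_lit 11),
  Rule.mk (nat_lit 1) (nat_lit 274) (Steps.fwd (nat_lit 786432) (Steps.bwd (nat_lit 1) (Steps.bwd (nat_lit 6) (Steps.fwd (nat_lit 262144) (Steps.bwd (nat_lit 2) (Steps.bwd (nat_lit 1) (Steps.fwd (nat_lit 1572864) (Steps.bwd (nat_lit 1) (Steps.fwd (nat_lit 1572864) (Steps.bwd (nat_lit 5) (Steps.bwd (nat_lit 2) (Steps.fwd (nat_lit 262144) (Steps.bwd (nat_lit 6) Steps.nil))))))))))))) (nat_lit 34) (nat_lit 4),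
  Rule.mk (nat_lit 6) (nat_lit 274) (Steps.bwd (nat_lit 1) (Steps.fwd (nat_lit 1572864) (Steps.fwd (nat_lit 1310720) (Steps.bwd (nat_lit 2) (Steps.fwd (nat_lit 262144) (Steps.fwd (nat_lit 1572864) (Steps.fwd (nat_lit 262144) (Steps.fwd (nat_lit 786432) (Steps.bwd (nat_lit 1) (Steps.fwd (nat_lit 1572864) (Steps.bwd (nat_lit 1) (Steps.bwd (nat_lit 2) (Steps.fwd (nat_lit 262144) Steps.nil))))))))))))) (nat_lit 34) (nat_lit 11),
  Rule.mk (nat_lit 1) (nat_lit 274) (Steps.bwd (nat_lit 6) (Steps.bwd (nat_lit 5) (Steps.bwd (nat_lit 2) (Steps.bwd (nat_lit 1) (Steps.fwd (nat_lit 1572864) (Steps.bwd (nat_lit 1) (Steps.bwd (nat_lit 2) (Steps.fwd (nat_lit 262144) (Steps.fwd (nat_lit 1572864) (Steps.fwd (nat_lit 262144) (Steps.bwd (nat_lit 2) (Steps.fwd (nat_lit 262144) (Steps.bwd (nat_lit 6) Steps.nil))))))))))))) (nat_lit 34) (nat_lit 12),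
  Rule.mk (nat_lit 6) (nat_lit 274) (Steps.bwd (nat_lit 1) (Steps.fwd (nat_lit 1572864) (Steps.fwd (nat_lit 1310720) (Steps.bwd (nat_lit 2) (Steps.bwd (nat_lit 1) (Steps.bwd (nat_lit 6) (Steps.fwd (nat_lit 262144) (Steps.bwd (nat_lit 2) (Steps.fwd (nat_lit 262144) (Steps.fwd (nat_lit 1572864) (Steps.bwd (nat_lit 1) (Steps.bwd (nat_lit 2) (Steps.fwd (nat_lit 262144) Steps.nil))))))))))))) (nat_lit 34) (nat_lit 11),
  Rule.mk (nat_lit 6) (nat_lit 274) (Steps.bwd (nat_lit 1) (Steps.bwd (nat_lit 6) (Steps.fwd (nat_lit 1310720) (Steps.fwd (nat_lit 786432) (Steps.fwd (nat_lit 262144) (Steps.bwd (nat_lit 6) (Steps.bwd (nat_lit 1) (Steps.bwd (nat_lit 2) (Steps.bwd (nat_lit 1) (Steps.bwd (nat_lit 6) (Steps.fwd (nat_lit 262144) (Steps.fwd (nat_lit 786432) (Steps.bwd (nat_lit 1) Steps.nil))))))))))))) (nat_lit 34) (nat_lit 11),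
  Rule.mk (nat_lit 1) (nat_lit 274) (Steps.bwd (nat_lit 6) (Steps.bwd (nat_lit 1) (Steps.bwd (nat_lit 3) (Steps.fwd (nat_lit 262144) (Steps.fwd (nat_lit 1572864) (Steps.fwd (nat_lit 262144) (Steps.fwd (nat_lit 524288) (Steps.bwd (nat_lit 1) (Steps.fwd (nat_lit 1572864) (Steps.fwd (nat_lit 262144) (Steps.bwd (nat_lit 3) (Steps.fwd (nat_lit 1310720) (Steps.bwd (nat_lit 6) Steps.nil))))))))))))) (nat_lit 35) (nat_lit 3),
  Rule.mk (nat_lit 6) (nat_lit 274) (Steps.bwd (nat_lit 1) (Steps.fwd (nat_lit 1572864) (Steps.bwd (nat_lit 5) (Steps.fwd (nat_lit 786432) (Steps.bwd (nat_lit 1) (Steps.fwd (nat_lit 1572864) (Steps.fwd (nat_lit 262144) (Steps.bwd (nat_lit 2) (Steps.fwd (nat_lit 262144) (Steps.bwd (nat_lit 6) (Steps.bwd (nat_lit 1) (Steps.bwd (nat_lit 2) (Steps.fwd (nat_lit 262144) Steps.nil))))))))))))) (nat_lit 34) (nat_lit 11),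
  Rule.mk (nat_lit 6) (nat_lit 274) (Steps.bwd (nat_lit 1) (Steps.bwd (nat_lit 2) (Steps.bwd (nat_lit 1) (Steps.fwd (nat_lit 1572864) (Steps.fwd (nat_lit 262144) (Steps.fwd (nat_lit 786432) (Steps.bwd (nat_lit 1) (Steps.bwd (nat_lit 6) (Steps.bwd (nat_lit 1) (Steps.fwd (nat_lit 1572864) (Steps.bwd (nat_lit 5) (Steps.bwd (nat_lit 2) (Steps.fwd (nat_lit 262144) Steps.nil))))))))))))) (nat_lit 34) (nat_lit 3),
  Rule.mk (nat_lit 1) (nat_lit 274) (Steps.bwd (nat_lit 6) (Steps.fwd (nat_lit 1310720) (Steps.bwd (nat_lit 2) (Steps.fwd (nat_lit 262144) (Steps.bwd (nat_lit 6) (Steps.bwd (nat_lit 1) (Steps.bwd (nat_lit 2) (Steps.fwd (nat_lit 262144) (Steps.fwd (nat_lit 1572864) (Steps.fwd (nat_lit 262144) (Steps.bwd (nat_lit 2) (Steps.fwd (nat_lit 262144) (Steps.bwd (nat_lit 6) Steps.nil))))))))))))) (nat_lit 34) (nat_lit 12),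
  Rule.mk (nat_lit 1) (nat_lit 274) (Steps.bwd (nat_lit 6) (Steps.bwd (nat_lit 5) (Steps.fwd (nat_lit 786432) (Steps.bwd (nat_lit 1) (Steps.bwd (nat_lit 6) (Steps.fwd (nat_lit 262144) (Steps.bwd (nat_lit 2) (Steps.bwd (nat_lit 1) (Steps.fwd (nat_lit 1572864) (Steps.bwd (nat_lit 1) (Steps.fwd (nat_lit 786432) (Steps.fwd (nat_lit 262144) (Steps.fwd (nat_lit 1572864) Steps.nil))))))))))))) (nat_lit 34) (nat_lit 12),
  Rule.mk (nat_lit 6) (nat_lit 274) (Steps.bwd (nat_lit 1) (Steps.fwd (nat_lit 1572864) (Steps.fwd (nat_lit 1310720) (Steps.fwd (nat_lit 786432) (Steps.fwd (nat_lit 262144) (Steps.bwd (nat_lit 6) (Steps.bwd (nat_lit 1) (Steps.bwd (nat_lit 2) (Steps.bwd (nat_lit 1) (Steps.bwd (nat_lit 6) (Steps.fwd (nat_lit 262144) (Steps.fwd (nat_lit 786432) (Steps.bwd (nat_lit 1) Steps.nil))))))))))))) (nat_lit 34) (nat_lit 11),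
  Rule.mk (nat_lit 6) (nat_lit 274) (Steps.bwd (nat_lit 1) (Steps.bwd (nat_lit 6) (Steps.fwd (nat_lit 1310720) (Steps.fwd (nat_lit 786432) (Steps.fwd (nat_lit 262144) (Steps.bwd (nat_lit 6) (Steps.bwd (nat_lit 1) (Steps.fwd (nat_lit 786432) (Steps.fwd (nat_lit 262144) (Steps.bwd (nat_lit 6) (Steps.fwd (nat_lit 262144) (Steps.bwd (nat_lit 2) (Steps.fwd (nat_lit 262144) Steps.nil))))))))))))) (nat_lit 34) (nat_lit 11),
  Rule.mk (nat_lit 6) (nat_lit 274) (Steps.bwd (nat_lit 1) (Steps.bwd (nat_lit 6) (Steps.fwd (nat_lit 1310720) (Steps.bwd (nat_lit 2) (Steps.fwd (nat_lit 262144) (Steps.bwd (nat_lit 6) (Steps.bwd (nat_lit 1) (Steps.fwd (nat_lit 786432) (Steps.bwd (nat_lit 1) (Steps.fwd (nat_lit 1572864) (Steps.fwd (nat_lit 262144) (Steps.bwd (nat_lit 2) (Steps.bwd (nat_lit 1) Steps.nil))))))))))))) (nat_lit 34) (nat_lit 11),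
  Rule.mk (nat_lit 6) (nat_lit 274) (Steps.bwd (nat_lit 1) (Steps.bwd (nat_lit 6) (Steps.fwd (nat_lit 1310720) (Steps.fwd (nat_lit 786432) (Steps.fwd (nat_lit 262144) (Steps.bwd (nat_lit 6) (Steps.bwd (nat_lit 1) (Steps.fwd (nat_lit 786432) (Steps.bwd (nat_lit 1) (Steps.fwd (nat_lit 1572864) (Steps.fwd (nat_lit 262144) (Steps.bwd (nat_lit 2) (Steps.fwd (nat_lit 262144) Steps.nil))))))))))))) (nat_lit 34) (nat_lit 11),
  Rule.mk (nat_lit 6) (nat_lit 274) (Steps.bwd (nat_lit 1) (Steps.bwd (nat_lit 6) (Steps.fwd (nat_lit 1310720) (Steps.bwd (nat_lit 2) (Steps.fwd (nat_lit 262144) (Steps.fwd (nat_lit 1572864) (Steps.bwd (nat_lit 1) (Steps.bwd (nat_lit 2) (Steps.bwd (nat_lit 1) (Steps.bwd (nat_lit 6) (Steps.fwd (nat_lit 262144) (Steps.bwd (nat_lit 2) (Steps.fwd (nat_lit 262144) Steps.nil))))))))))))) (nat_lit 34) (nat_lit 11),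
  Rule.mk (nat_lit 6) (nat_lit 274) (Steps.bwd (nat_lit 1) (Steps.bwd (nat_lit 6) (Steps.fwd (nat_lit 1310720) (Steps.fwd (nat_lit 786432) (Steps.fwd (nat_lit 262144) (Steps.fwd (nat_lit 1572864) (Steps.bwd (nat_lit 1) (Steps.fwd (nat_lit 786432) (Steps.fwd (nat_lit 262144) (Steps.fwd (nat_lit 1572864) (Steps.fwd (nat_lit 262144) (Steps.bwd (nat_lit 2) (Steps.bwd (nat_lit 1) Steps.nil))))))))))))) (nat_lit 34) (nat_lit 11),
  Rule.mk (nat_lit 6) (nat_lit 274) (Steps.bwd (nat_lit 1) (Steps.fwd (nat_lit 1572864) (Steps.fwd (nat_lit 1310720) (Steps.bwd (nat_lit 2) (Steps.bwd (nat_lit 1) (Steps.fwd (nat_lit 1572864) (Steps.bwd (nat_lit 1) (Steps.bwd (nat_lit 2) (Steps.bwd (nat_lit 1) (Steps.bwd (nat_lit 6) (Steps.bwd (nat_lit 1) (Steps.bwd (nat_lit 2) (Steps.fwd (nat_lit 262144) Steps.nil))))))))))))) (nat_lit 34) (nat_lit 11),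
  Rule.mk (nat_lit 6) (nat_lit 274) (Steps.bwd (nat_lit 1) (Steps.fwd (nat_lit 1572864) (Steps.fwd (nat_lit 1310720) (Steps.bwd (nat_lit 2) (Steps.bwd (nat_lit 1) (Steps.fwd (nat_lit 1572864) (Steps.fwd (nat_lit 262144) (Steps.fwd (nat_lit 786432) (Steps.bwd (nat_lit 1) (Steps.fwd (nat_lit 1572864) (Steps.fwd (nat_lit 262144) (Steps.fwd (nat_lit 786432) (Steps.fwd (nat_lit 262144) Steps.nil))))))))))))) (nat_lit 34) (nat_lit 11),
  Rule.mk (nat_lit 6) (nat_lit 274) (Steps.bwd (nat_lit 1) (Steps.fwd (nat_lit 1572864) (Steps.fwd (nat_lit 1310720) (Steps.fwd (nat_lit 786432) (Steps.fwd (nat_lit 262144) (Steps.bwd (nat_lit 6) (Steps.bwd (nat_lit 1) (Steps.fwd (nat_lit 786432) (Steps.bwd (nat_lit 1) (Steps.fwd (nat_lit 1572864) (Steps.fwd (nat_lit 262144) (Steps.bwd (nat_lit 2) (Steps.fwd (nat_lit 262144) Steps.nil))))))))))))) (nat_lit 34) (nat_lit 11),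
  Rule.mk (nat_lit 6) (nat_lit 274) (Steps.bwd (nat_lit 1) (Steps.fwd (nat_lit 1572864) (Steps.bwd (nat_lit 5) (Steps.bwd (nat_lit 2) (Steps.fwd (nat_lit 262144) (Steps.bwd (nat_lit 6) (Steps.bwd (nat_lit 1) (Steps.fwd (nat_lit 786432) (Steps.fwd (nat_lit 262144) (Steps.fwd (nat_lit 1572864) (Steps.fwd (nat_lit 262144) (Steps.bwd (nat_lit 2) (Steps.bwd (nat_lit 1) Steps.nil))))))))))))) (nat_lit 34) (nat_lit 11),
  Rule.mk (nat_lit 6) (nat_lit 274) (Steps.bwd (nat_lit 1) (Steps.fwd (nat_lit 1572864) (Steps.fwd (nat_lit 1310720) (Steps.fwd (nat_lit 786432) (Steps.bwd (nat_lit 1) (Steps.fwd (nat_lit 1572864) (Steps.fwd (nat_lit 262144) (Steps.bwd (nat_lit 2) (Steps.bwd (nat_lit 1) (Steps.fwd (nat_lit 1572864) (Steps.bwd (nat_lit 1) (Steps.bwd (nat_lit 2) (Steps.bwd (nat_lit 1) Steps.nil))))))))))))) (nat_lit 34) (nat_lit 11),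
  Rule.mk (nat_lit 1) (nat_lit 154) (Steps.bwd (nat_lit 6) (Steps.bwd (nat_lit 1) (Steps.bwd (nat_lit 4) (Steps.fwd (nat_lit 262144) (Steps.fwd (nat_lit 1572864) (Steps.fwd (nat_lit 262144) (Steps.bwd (nat_lit 4) Steps.nil))))))) (nat_lit 74) (nat_lit 3),
  Rule.mk (nat_lit 6) (nat_lit 274) (Steps.bwd (nat_lit 1) (Steps.fwd (nat_lit 1572864) (Steps.bwd (nat_lit 5) (Steps.fwd (nat_lit 786432) (Steps.bwd (nat_lit 1) (Steps.fwd (nat_lit 1572864) (Steps.fwd (nat_lit 262144) (Steps.bwd (nat_lit 2) (Steps.fwd (nat_lit 262144) (Steps.fwd (nat_lit 1572864) (Steps.bwd (nat_lit 1) (Steps.bwd (nat_lit 2) (Steps.bwd (nat_lit 1) Steps.nil))))))))))))) (nat_lit 34) (nat_lit 11),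
  Rule.mk (nat_lit 4) (nat_lit 114) (Steps.bwd (nat_lit 3) (Steps.bwd (nat_lit 7) (Steps.fwd (nat_lit 1048576) (Steps.bwd (nat_lit 3) (Steps.bwd (nat_lit 7) Steps.nil))))) (nat_lit 57) (nat_lit 2),
  Rule.mk (nat_lit 1) (nat_lit 154) (Steps.bwd (nat_lit 4) (Steps.fwd (nat_lit 262144) (Steps.fwd (nat_lit 1572864) (Steps.fwd (nat_lit 262144) (Steps.fwd (nat_lit 1048576) (Steps.fwd (nat_lit 262144) (Steps.fwd (nat_lit 1572864) Steps.nil))))))) (nat_lit 74) (nat_lit 1),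
  Rule.mk (nat_lit 1) (nat_lit 154) (Steps.bwd (nat_lit 4) (Steps.fwd (nat_lit 262144) (Steps.fwd (nat_lit 1572864) (Steps.bwd (nat_lit 1) (Steps.fwd (nat_lit 1048576) (Steps.fwd (nat_lit 262144) (Steps.fwd (nat_lit 1572864) Steps.nil))))))) (nat_lit 74) (nat_lit 1),
  Rule.mk (nat_lit 1) (nat_lit 154) (Steps.bwd (nat_lit 4) (Steps.bwd (nat_lit 1) (Steps.fwd (nat_lit 1572864) (Steps.bwd (nat_lit 1) (Steps.fwd (nat_lit 1048576) (Steps.fwd (nat_lit 262144) (Steps.fwd (nat_lit 1572864) Steps.nil))))))) (nat_lit 74) (nat_lit 1),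
  Rule.mk (nat_lit 1) (nat_lit 154) (Steps.bwd (nat_lit 4) (Steps.bwd (nat_lit 1) (Steps.bwd (nat_lit 6) (Steps.bwd (nat_lit 1) (Steps.fwd (nat_lit 1048576) (Steps.fwd (nat_lit 262144) (Steps.fwd (nat_lit 1572864) Steps.nil))))))) (nat_lit 74) (nat_lit 1),
  Rule.mk (nat_lit 7) (nat_lit 114) (Steps.fwd (nat_lit 524288) (Steps.bwd (nat_lit 6) (Steps.bwd (nat_lit 7) (Steps.bwd (nat_lit 2) (Steps.bwd (nat_lit 6) Steps.nil))))) (nat_lit 62) (nat_lit 3),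
  Rule.mk (nat_lit 6) (nat_lit 114) (Steps.bwd (nat_lit 3) (Steps.fwd (nat_lit 1835008) (Steps.bwd (nat_lit 6) (Steps.bwd (nat_lit 2) (Steps.bwd (nat_lit 7) Steps.nil))))) (nat_lit 63) (nat_lit 5),
  Rule.mk (nat_lit 1) (nat_lit 274) (Steps.bwd (nat_lit 6) (Steps.bwd (nat_lit 1) (Steps.bwd (nat_lit 3) (Steps.fwd (nat_lit 262144) (Steps.bwd (nat_lit 6) (Steps.bwd (nat_lit 1) (Steps.bwd (nat_lit 3) (Steps.bwd (nat_lit 5) (Steps.bwd (nat_lit 6) (Steps.bwd (nat_lit 1) (Steps.fwd (nat_lit 1572864) (Steps.fwd (nat_lit 262144) (Steps.fwd (nat_lit 524288) Steps.nil))))))))))))) (nat_lit 35) (nat_lit 7),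
  Rule.mk (nat_lit 1) (nat_lit 274) (Steps.bwd (nat_lit 6) (Steps.fwd (nat_lit 1310720) (Steps.fwd (nat_lit 786432) (Steps.fwd (nat_lit 262144) (Steps.fwd (nat_lit 1572864) (Steps.fwd (nat_lit 262144) (Steps.fwd (nat_lit 786432) (Steps.bwd (nat_lit 1) (Steps.bwd (nat_lit 6) (Steps.fwd (nat_lit 262144) (Steps.bwd (nat_lit 2) (Steps.fwd (nat_lit 262144) (Steps.bwd (nat_lit 6) Steps.nil))))))))))))) (nat_lit 34) (nat_lit 12),
  Rule.mk (nat_lit 6) (nat_lit 274) (Steps.bwd (nat_lit 1) (Steps.fwd (nat_lit 786432) (Steps.fwd (nat_lit 262144) (Steps.bwd (nat_lit 6) (Steps.fwd (nat_lit 262144) (Steps.fwd (nat_lit 786432) (Steps.bwd (nat_lit 1) (Steps.bwd (nat_lit 6) (Steps.fwd (nat_lit 262144) (Steps.fwd (nat_lit 1572864) (Steps.fwd (nat_lit 1310720) (Steps.bwd (nat_lit 2) (Steps.bwd (nat_lit 1) Steps.nil))))))))))))) (nat_lit 34) (nat_lit 3),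
  Rule.mk (nat_lit 1) (nat_lit 274) (Steps.bwd (nat_lit 6) (Steps.fwd (nat_lit 1310720) (Steps.bwd (nat_lit 2) (Steps.fwd (nat_lit 262144) (Steps.fwd (nat_lit 1572864) (Steps.bwd (nat_lit 1) (Steps.bwd (nat_lit 2) (Steps.bwd (nat_lit 1) (Steps.fwd (nat_lit 1572864) (Steps.fwd (nat_lit 262144) (Steps.fwd (nat_lit 786432) (Steps.fwd (nat_lit 262144) (Steps.fwd (nat_lit 1572864) Steps.nil))))))))))))) (nat_lit 34) (nat_lit 12)]
noncomputable def R_37 : List (Rule) := [Rule.mk (nat_lit 1) (nat_lit 274) (Steps.bwd (nat_lit 6) (Steps.bwd (nat_lit 1) (Steps.bwd (nat_lit 3) (Steps.fwd (nat_lit 262144) (Steps.fwd (nat_lit 1572864) (Steps.bwd (nat_lit 1) (Steps.bwd (nat_lit 3) (Steps.fwd (nat_lit 1310720) (Steps.bwd (nat_lit 6) (Steps.bwd (nat_lit 1) (Steps.bwd (nat_lit 6) (Steps.fwd (nat_lit 262144) (Steps.fwd (nat_lit 524288) Steps.nil))))))))))))) (nat_lit 35) (nat_lit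 7),
  Rule.mk (nat_lit 1) (nat_lit 274) (Steps.bwd (nat_lit 6) (Steps.fwd (nat_lit 1310720) (Steps.fwd (nat_lit 786432) (Steps.fwd (nat_lit 262144) (Steps.fwd (nat_lit 1572864) (Steps.fwd (nat_lit 262144) (Steps.fwd (nat_lit 786432) (Steps.bwd (nat_lit 1) (Steps.bwd (nat_lit 6) (Steps.fwd (nat_lit 262144) (Steps.bwd (nat_lit 2) (Steps.bwd (nat_lit 1) (Steps.bwd (nat_lit 6) Steps.nil))))))))))))) (nat_lit 34) (nat_lit 12),
  Rule.mk (nat_lit 1) (nat_lit 274) (Steps.bwd (nat_lit 6) (Steps.bwd (nat_lit 5) (Steps.bwd (nat_lit 2) (Steps.fwd (nat_lit 262144) (Steps.bwd (nat_lit 6) (Steps.bwd (nat_lit 1) (Steps.bwd (nat_lit 2) (Steps.fwd (nat_lit 262144) (Steps.fwd (nat_lit 1572864) (Steps.fwd (nat_lit 262144) (Steps.bwd (nat_lit 2) (Steps.fwd (nat_lit 262144) (Steps.bwd (nat_lit 6) Steps.nil))))))))))))) (nat_lit 34) (nat_lit 12),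
  Rule.mk (nat_lit 6) (nat_lit 274) (Steps.bwd (nat_lit 1) (Steps.fwd (nat_lit 1572864) (Steps.bwd (nat_lit 5) (Steps.bwd (nat_lit 2) (Steps.bwd (nat_lit 1) (Steps.bwd (nat_lit 6) (Steps.fwd (nat_lit 262144) (Steps.bwd (nat_lit 2) (Steps.fwd (nat_lit 262144) (Steps.bwd (nat_lit 6) (Steps.bwd (nat_lit 1) (Steps.bwd (nat_lit 2) (Steps.fwd (nat_lit 262144) Steps.nil))))))))))))) (nat_lit 34) (nat_lit 11),
  Rule.mk (nat_lit 6) (nat_lit 274) (Steps.bwd (nat_lit 1) (Steps.bwd (nat_lit 2) (Steps.fwd (nat_lit 262144) (Steps.fwd (nat_lit 1572864) (Steps.bwd (nat_lit 1) (Steps.fwd (nat_lit 786432) (Steps.bwd (nat_lit 1) (Steps.fwd (nat_lit 1572864) (Steps.bwd (nat_lit 1) (Steps.fwd (nat_lit 1572864) (Steps.fwd (nat_lit 1310720) (Steps.bwd (nat_lit 2) (Steps.fwd (nat_lit 262144) Steps.nil))))))))))))) (nat_lit 34) (nat_lit 3),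
  Rule.mk (nat_lit 1) (nat_lit 274) (Steps.bwd (nat_lit 6) (Steps.bwd (nat_lit 1) (Steps.bwd (nat_lit 3) (Steps.fwd (nat_lit 262144) (Steps.bwd (nat_lit 6) (Steps.bwd (nat_lit 1) (Steps.bwd (nat_lit 3) (Steps.bwd (nat_lit 5) (Steps.bwd (nat_lit 6) (Steps.fwd (nat_lit 262144) (Steps.fwd (nat_lit 1572864) (Steps.bwd (nat_lit 1) (Steps.fwd (nat_lit 524288) Steps.nil))))))))))))) (nat_lit 35) (nat_lit 7),
  Rule.mk (nat_lit 1) (nat_lit 274) (Steps.bwd (nat_lit 6) (Steps.fwd (nat_lit 1310720) (Steps.bwd (nat_lit 2) (Steps.bwd (nat_lit 1) (Steps.fwd (nat_lit 1572864) (Steps.fwd (nat_lit 262144) (Steps.fwd (nat_lit 786432) (Steps.bwd (nat_lit 1) (Steps.fwd (nat_lit 1572864) (Steps.fwd (nat_lit 262144) (Steps.bwd (nat_lit 2) (Steps.fwd (nat_lit 262144) (Steps.bwd (nat_lit 6) Steps.nil))))))))))))) (nat_lit 34) (nat_lit 12),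
  Rule.mk (nat_lit 6) (nat_lit 274) (Steps.bwd (nat_lit 1) (Steps.bwd (nat_lit 2) (Steps.bwd (nat_lit 1) (Steps.bwd (nat_lit 6) (Steps.fwd (nat_lit 262144) (Steps.fwd (nat_lit 786432) (Steps.bwd (nat_lit 1) (Steps.fwd (nat_lit 1572864) (Steps.bwd (nat_lit 1) (Steps.bwd (nat_lit 6) (Steps.fwd (nat_lit 1310720) (Steps.bwd (nat_lit 2) (Steps.fwd (nat_lit 262144) Steps.nil))))))))))))) (nat_lit 34) (nat_lit 3),
  Rule.mk (nat_lit 1) (nat_lit 274) (Steps.bwd (nat_lit 6) (Steps.bwd (nat_lit 1) (Steps.bwd (nat_lit 3) (Steps.fwd (nat_lit 262144) (Steps.bwd (nat_lit 6) (Steps.bwd (nat_lit 1) (Steps.bwd (nat_lit 3) (Steps.bwd (nat_lit 5) (Steps.bwd (nat_lit 6) (Steps.fwd (nat_lit 262144) (Steps.bwd (nat_lit 6) (Steps.bwd (nat_lit 1) (Steps.fwd (nat_lit 524288) Steps.nil))))))))))))) (nat_lit 35) (nat_lit 7),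
  Rule.mk (nat_lit 1) (nat_lit 274) (Steps.bwd (nat_lit 6) (Steps.fwd (nat_lit 1310720) (Steps.fwd (nat_lit 786432) (Steps.fwd (nat_lit 262144) (Steps.fwd (nat_lit 1572864) (Steps.bwd (nat_lit 1) (Steps.bwd (nat_lit 2) (Steps.bwd (nat_lit 1) (Steps.fwd (nat_lit 1572864) (Steps.fwd (nat_lit 262144) (Steps.bwd (nat_lit 2) (Steps.bwd (nat_lit 1) (Steps.bwd (nat_lit 6) Steps.nil))))))))))))) (nat_lit 34) (nat_lit 12),
  Rule.mk (nat_lit 1) (nat_lit 274) (Steps.bwd (nat_lit 6) (Steps.bwd (nat_lit 5) (Steps.bwd (nat_lit 2) (Steps.bwd (nat_lit 1) (Steps.bwd (nat_lit 6) (Steps.bwd (nat_lit 1) (Steps.bwd (nat_lit 2) (Steps.fwd (nat_lit 262144) (Steps.fwd (nat_lit 1572864) (Steps.fwd (nat_lit 262144) (Steps.bwd (nat_lit 2) (Steps.fwd (nat_lit 262144) (Steps.bwd (nat_lit 6) Steps.nil))))))))))))) (nat_lit 34) (nat_lit 12),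
  Rule.mk (nat_lit 1) (nat_lit 274) (Steps.bwd (nat_lit 6) (Steps.bwd (nat_lit 5) (Steps.bwd (nat_lit 2) (Steps.bwd (nat_lit 1) (Steps.fwd (nat_lit 1572864) (Steps.bwd (nat_lit 1) (Steps.fwd (nat_lit 786432) (Steps.bwd (nat_lit 1) (Steps.bwd (nat_lit 6) (Steps.fwd (nat_lit 262144) (Steps.bwd (nat_lit 2) (Steps.bwd (nat_lit 1) (Steps.bwd (nat_lit 6) Steps.nil))))))))))))) (nat_lit 34) (nat_lit 12),
  Rule.mk (nat_lit 6) (nat_lit 274) (Steps.bwd (nat_lit 1) (Steps.fwd (nat_lit 1572864) (Steps.fwd (nat_lit 1310720) (Steps.fwd (nat_lit 786432) (Steps.fwd (nat_lit 262144) (Steps.bwd (nat_lit 6) (Steps.fwd (nat_lit 262144) (Steps.bwd (nat_lit 2) (Steps.bwd (nat_lit 1) (Steps.fwd (nat_lit 1572864) (Steps.fwd (nat_lit 262144) (Steps.bwd (nat_lit 2) (Steps.fwd (nat_lit 262144) Steps.nil))))))))))))) (nat_lit 34) (nat_lit 11),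
  Rule.mk (nat_lit 1) (nat_lit 274) (Steps.bwd (nat_lit 6) (Steps.bwd (nat_lit 5) (Steps.bwd (nat_lit 2) (Steps.bwd (nat_lit 1) (Steps.fwd (nat_lit 1572864) (Steps.fwd (nat_lit 262144) (Steps.fwd (nat_lit 786432) (Steps.bwd (nat_lit 1) (Steps.fwd (nat_lit 1572864) (Steps.fwd (nat_lit 262144) (Steps.bwd (nat_lit 2) (Steps.bwd (nat_lit 1) (Steps.bwd (nat_lit 6) Steps.nil))))))))))))) (nat_lit 34) (nat_lit 12),
  Rule.mk (nat_lit 9) (nat_lit 94) (Steps.bwd (nat_lit 5) (Steps.fwd (nat_lit 1835008) (Steps.fwd (nat_lit 2359296) (Steps.fwd (nat_lit 1310720) Steps.nil)))) (nat_lit 100) (nat_lit 3),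
  Rule.mk (nat_lit 1) (nat_lit 274) (Steps.bwd (nat_lit 6) (Steps.bwd (nat_lit 5) (Steps.bwd (nat_lit 2) (Steps.bwd (nat_lit 1) (Steps.fwd (nat_lit 1572864) (Steps.bwd (nat_lit 1) (Steps.fwd (nat_lit 786432) (Steps.bwd (nat_lit 1) (Steps.fwd (nat_lit 1572864) (Steps.fwd (nat_lit 262144) (Steps.bwd (nat_lit 2) (Steps.bwd (nat_lit 1) (Steps.bwd (nat_lit 6) Steps.nil))))))))))))) (nat_lit 34) (nat_lit 12),
  Rule.mk (nat_lit 6) (nat_lit 274) (Steps.bwd (nat_lit 1) (Steps.bwd (nat_lit 2) (Steps.bwd (nat_lit 1) (Steps.bwd (nat_lit 6) (Steps.fwd (nat_lit 262144) (Steps.bwd (nat_lit 2) (Steps.bwd (nat_lit 1) (Steps.bwd (nat_lit 6) (Steps.bwd (nat_lit 1) (Steps.bwd (nat_lit 6) (Steps.fwd (nat_lit 1310720) (Steps.bwd (nat_lit 2) (Steps.bwd (nat_lit 1) Steps.nil))))))))))))) (nat_lit 34) (nat_lit 3),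
  Rule.mk (nat_lit 6) (nat_lit 274) (Steps.bwd (nat_lit 1) (Steps.bwd (nat_lit 2) (Steps.bwd (nat_lit 1) (Steps.bwd (nat_lit 6) (Steps.fwd (nat_lit 262144) (Steps.bwd (nat_lit 2) (Steps.bwd (nat_lit 1) (Steps.bwd (nat_lit 6) (Steps.bwd (nat_lit 1) (Steps.fwd (nat_lit 1572864) (Steps.bwd (nat_lit 5) (Steps.bwd (nat_lit 2) (Steps.bwd (nat_lit 1) Steps.nil))))))))))))) (nat_lit 34) (nat_lit 3),
  Rule.mk (nat_lit 6) (nat_lit 274) (Steps.bwd (nat_lit 1) (Steps.bwd (nat_lit 6) (Steps.bwd (nat_lit 5) (Steps.fwd (nat_lit 786432) (Steps.fwd (nat_lit 262144) (Steps.bwd (nat_lit 6) (Steps.fwd (nat_lit 262144) (Steps.bwd (nat_lit 2) (Steps.bwd (nat_lit 1) (Steps.bwd (nat_lit 6) (Steps.fwd (nat_lit 262144) (Steps.bwd (nat_lit 2) (Steps.fwd (nat_lit 262144) Steps.nil))))))))))))) (nat_lit 34) (nat_lit 11),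
  Rule.mk (nat_lit 6) (nat_lit 274) (Steps.bwd (nat_lit 1) (Steps.fwd (nat_lit 1572864) (Steps.bwd (nat_lit 5) (Steps.bwd (nat_lit 2) (Steps.fwd (nat_lit 262144) (Steps.bwd (nat_lit 6) (Steps.fwd (nat_lit 262144) (Steps.bwd (nat_lit 2) (Steps.bwd (nat_lit 1) (Steps.bwd (nat_lit 6) (Steps.bwd (nat_lit 1) (Steps.fwd (nat_lit 786432) (Steps.fwd (nat_lit 262144) Steps.nil))))))))))))) (nat_lit 34) (nat_lit 11),
  Rule.mk (nat_lit 6) (nat_lit 274) (Steps.bwd (nat_lit 1) (Steps.fwd (nat_lit 786432) (Steps.fwd (nat_lit 262144) (Steps.fwd (nat_lit 1572864) (Steps.fwd (nat_lit 262144) (Steps.bwd (nat_lit 2) (Steps.bwd (nat_lit 1) (Steps.fwd (nat_lit 1572864) (Steps.fwd (nat_lit 262144) (Steps.fwd (nat_lit 1572864) (Steps.fwd (nat_lit 1310720) (Steps.bwd (nat_lit 2) (Steps.fwd (nat_lit 262144) Steps.nil))))))))))))) (nat_lit 34) (nat_lit 3),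
  Rule.mk (nat_lit 1) (nat_lit 154) (Steps.fwd (nat_lit 786432) (Steps.fwd (nat_lit 262144) (Steps.fwd (nat_lit 1310720) (Steps.bwd (nat_lit 2) (Steps.fwd (nat_lit 262144) (Steps.bwd (nat_lit 2) (Steps.bwd (nat_lit 5) Steps.nil))))))) (nat_lit 70) (nat_lit 1),
  Rule.mk (nat_lit 6) (nat_lit 274) (Steps.bwd (nat_lit 1) (Steps.fwd (nat_lit 786432) (Steps.fwd (nat_lit 262144) (Steps.bwd (nat_lit 6) (Steps.fwd (nat_lit 262144) (Steps.bwd (nat_lit 2) (Steps.bwd (nat_lit 1) (Steps.fwd (nat_lit 1572864) (Steps.fwd (nat_lit 262144) (Steps.fwd (nat_lit 1572864) (Steps.fwd (nat_lit 1310720) (Steps.bwd (nat_lit 2) (Steps.fwd (nat_lit 262144) Steps.nil))))))))))))) (nat_lit 34) (nat_lit 3),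
  Rule.mk (nat_lit 4) (nat_lit 154) (Steps.bwd (nat_lit 1) (Steps.fwd (nat_lit 1572864) (Steps.fwd (nat_lit 262144) (Steps.bwd (nat_lit 4) (Steps.fwd (nat_lit 262144) (Steps.bwd (nat_lit 6) (Steps.bwd (nat_lit 1) Steps.nil))))))) (nat_lit 74) (nat_lit 2),
  Rule.mk (nat_lit 1) (nat_lit 154) (Steps.fwd (nat_lit 786432) (Steps.fwd (nat_lit 262144) (Steps.fwd (nat_lit 1310720) (Steps.fwd (nat_lit 786432) (Steps.fwd (nat_lit 262144) (Steps.bwd (nat_lit 2) (Steps.bwd (nat_lit 5) Steps.nil))))))) (nat_lit 70) (nat_lit 1),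
  Rule.mk (nat_lit 6) (nat_lit 274) (Steps.bwd (nat_lit 1) (Steps.bwd (nat_lit 6) (Steps.fwd (nat_lit 1310720) (Steps.bwd (nat_lit 2) (Steps.fwd (nat_lit 262144) (Steps.fwd (nat_lit 1572864) (Steps.bwd (nat_lit 1) (Steps.bwd (nat_lit 2) (Steps.bwd (nat_lit 1) (Steps.bwd (nat_lit 6) (Steps.bwd (nat_lit 1) (Steps.bwd (nat_lit 2) (Steps.fwd (nat_lit 262144) Steps.nil))))))))))))) (nat_lit 34) (nat_lit 11),
  Rule.mk (nat_lit 6) (nat_lit 274) (Steps.bwd (nat_lit 1) (Steps.fwd (nat_lit 786432) (Steps.fwd (nat_lit 262144) (Steps.bwd (nat_lit 6) (Steps.fwd (nat_lit 262144) (Steps.bwd (nat_lit 2) (Steps.bwd (nat_lit 1) (Steps.fwd (nat_lit 1572864) (Steps.fwd (nat_lit 262144) (Steps.fwd (nat_lit 1572864) (Steps.bwd (nat_lit 5) (Steps.bwd (nat_lit 2) (Steps.fwd (nat_lit 262144) Steps.nil))))))))))))) (nat_lit 34) (nat_lit 3),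
  Rule.mk (nat_lit 1) (nat_lit 274) (Steps.fwd (nat_lit 1572864) (Steps.bwd (nat_lit 5) (Steps.bwd (nat_lit 2) (Steps.bwd (nat_lit 1) (Steps.fwd (nat_lit 1572864) (Steps.fwd (nat_lit 262144) (Steps.bwd (nat_lit 2) (Steps.bwd (nat_lit 1) (Steps.fwd (nat_lit 1572864) (Steps.fwd (nat_lit 262144) (Steps.fwd (nat_lit 786432) (Steps.fwd (nat_lit 262144) (Steps.bwd (nat_lit 6) Steps.nil))))))))))))) (nat_lit 34) (nat_lit 12),
  Rule.mk (nat_lit 6) (nat_lit 274) (Steps.bwd (nat_lit 1) (Steps.fwd (nat_lit 1572864) (Steps.bwd (nat_lit 5) (Steps.fwd (nat_lit 786432) (Steps.fwd (nat_lit 262144) (Steps.bwd (nat_lit 6) (Steps.bwd (nat_lit 1) (Steps.fwd (nat_lit 786432) (Steps.bwd (nat_lit 1) (Steps.fwd (nat_lit 1572864) (Steps.fwd (nat_lit 262144) (Steps.bwd (nat_lit 2) (Steps.fwd (nat_lit 262144) Steps.nil))))))))))))) (nat_lit 34) (nat_lit 11),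
  Rule.mk (nat_lit 4) (nat_lit 154) (Steps.bwd (nat_lit 1) (Steps.fwd (nat_lit 1572864) (Steps.fwd (nat_lit 262144) (Steps.fwd (nat_lit 1048576) (Steps.fwd (nat_lit 262144) (Steps.bwd (nat_lit 6) (Steps.bwd (nat_lit 1) Steps.nil))))))) (nat_lit 74) (nat_lit 2),
  Rule.mk (nat_lit 1) (nat_lit 114) (Steps.bwd (nat_lit 7) (Steps.bwd (nat_lit 5) (Steps.bwd (nat_lit 1) (Steps.fwd (nat_lit 1835008) (Steps.bwd (nat_lit 5) Steps.nil))))) (nat_lit 53) (nat_lit 0),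
  Rule.mk (nat_lit 6) (nat_lit 274) (Steps.bwd (nat_lit 1) (Steps.fwd (nat_lit 1572864) (Steps.fwd (nat_lit 1310720) (Steps.bwd (nat_lit 2) (Steps.fwd (nat_lit 262144) (Steps.fwd (nat_lit 1572864) (Steps.bwd (nat_lit 1) (Steps.bwd (nat_lit 2) (Steps.bwd (nat_lit 1) (Steps.bwd (nat_lit 6) (Steps.bwd (nat_lit 1) (Steps.bwd (nat_lit 2) (Steps.fwd (nat_lit 262144) Steps.nil))))))))))))) (nat_lit 34) (nat_lit 11),
  Rule.mk (nat_lit 6) (nat_lit 274) (Steps.bwd (nat_lit 1) (Steps.fwd (nat_lit 1572864) (Steps.fwd (nat_lit 1310720) (Steps.bwd (nat_lit 2) (Steps.bwd (nat_lit 1) (Steps.fwd (nat_lit 1572864) (Steps.fwd (nat_lit 262144) (Steps.bwd (nat_lit 2) (Steps.bwd (nat_lit 1) (Steps.bwd (nat_lit 6) (Steps.bwd (nat_lit 1) (Steps.bwd (nat_lit 2) (Steps.fwd (nat_lit 262144) Steps.nil))))))))))))) (nat_lit 34) (nat_lit 11),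
  Rule.mk (nat_lit 1) (nat_lit 114) (Steps.bwd (nat_lit 3) (Steps.bwd (nat_lit 9) (Steps.bwd (nat_lit 1) (Steps.fwd (nat_lit 2359296) (Steps.fwd (nat_lit 786432) Steps.nil))))) (nat_lit 104) (nat_lit 3),
  Rule.mk (nat_lit 1) (nat_lit 274) (Steps.bwd (nat_lit 6) (Steps.bwd (nat_lit 5) (Steps.bwd (nat_lit 2) (Steps.fwd (nat_lit 262144) (Steps.bwd (nat_lit 6) (Steps.bwd (nat_lit 1) (Steps.bwd (nat_lit 2) (Steps.fwd (nat_lit 262144) (Steps.fwd (nat_lit 1572864) (Steps.bwd (nat_lit 1) (Steps.bwd (nat_lit 2) (Steps.bwd (nat_lit 1) (Steps.bwd (nat_lit 6) Steps.nil))))))))))))) (nat_lit 34) (nat_lit 12),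
  Rule.mk (nat_lit 6) (nat_lit 274) (Steps.bwd (nat_lit 1) (Steps.fwd (nat_lit 1572864) (Steps.fwd (nat_lit 1310720) (Steps.bwd (nat_lit 2) (Steps.fwd (nat_lit 262144) (Steps.bwd (nat_lit 6) (Steps.fwd (nat_lit 262144) (Steps.bwd (nat_lit 2) (Steps.bwd (nat_lit 1) (Steps.bwd (nat_lit 6) (Steps.bwd (nat_lit 1) (Steps.bwd (nat_lit 2) (Steps.bwd (nat_lit 1) Steps.nil))))))))))))) (nat_lit 34) (nat_lit 11),
  Rule.mk (nat_lit 6) (nat_lit 274) (Steps.bwd (nat_lit 1) (Steps.fwd (nat_lit 1572864) (Steps.bwd (nat_lit 5) (Steps.bwd (nat_lit 2) (Steps.fwd (nat_lit 262144) (Steps.bwd (nat_lit 6) (Steps.fwd (nat_lit 262144) (Steps.bwd (nat_lit 2) (Steps.bwd (nat_lit 1) (Steps.bwd (nat_lit 6) (Steps.bwd (nat_lit 1) (Steps.bwd (nat_lit 2) (Steps.bwd (nat_lit 1) Steps.nil))))))))))))) (nat_lit 34) (nat_lit 11),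
  Rule.mk (nat_lit 1) (nat_lit 154) (Steps.bwd (nat_lit 4) (Steps.bwd (nat_lit 1) (Steps.fwd (nat_lit 1572864) (Steps.fwd (nat_lit 262144) (Steps.bwd (nat_lit 4) (Steps.fwd (nat_lit 262144) (Steps.fwd (nat_lit 1572864) Steps.nil))))))) (nat_lit 74) (nat_lit 1),
  Rule.mk (nat_lit 6) (nat_lit 274) (Steps.bwd (nat_lit 1) (Steps.fwd (nat_lit 1572864) (Steps.bwd (nat_lit 5) (Steps.bwd (nat_lit 2) (Steps.bwd (nat_lit 1) (Steps.fwd (nat_lit 1572864) (Steps.fwd (nat_lit 262144) (Steps.bwd (nat_lit 2) (Steps.fwd (nat_lit 262144) (Steps.fwd (nat_lit 1572864) (Steps.bwd (nat_lit 1) (Steps.bwd (nat_lit 2) (Steps.bwd (nat_lit 1) Steps.nil))))))))))))) (nat_lit 34) (nat_lit 11),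
  Rule.mk (nat_lit 4) (nat_lit 154) (Steps.bwd (nat_lit 1) (Steps.fwd (nat_lit 1572864) (Steps.bwd (nat_lit 1) (Steps.fwd (nat_lit 1048576) (Steps.fwd (nat_lit 262144) (Steps.fwd (nat_lit 1572864) (Steps.bwd (nat_lit 1) Steps.nil))))))) (nat_lit 74) (nat_lit 2),
  Rule.mk (nat_lit 6) (nat_lit 274) (Steps.bwd (nat_lit 1) (Steps.fwd (nat_lit 1572864) (Steps.bwd (nat_lit 5) (Steps.fwd (nat_lit 786432) (Steps.bwd (nat_lit 1) (Steps.bwd (nat_lit 6) (Steps.fwd (nat_lit 262144) (Steps.bwd (nat_lit 2) (Steps.fwd (nat_lit 262144) (Steps.fwd (nat_lit 1572864) (Steps.bwd (nat_lit 1) (Steps.fwd (nat_lit 786432) (Steps.fwd (nat_lit 262144) Steps.nil))))))))))))) (nat_lit 34) (nat_lit 11),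
  Rule.mk (nat_lit 6) (nat_lit 274) (Steps.bwd (nat_lit 1) (Steps.bwd (nat_lit 6) (Steps.bwd (nat_lit 5) (Steps.fwd (nat_lit 786432) (Steps.bwd (nat_lit 1) (Steps.fwd (nat_lit 1572864) (Steps.fwd (nat_lit 262144) (Steps.bwd (nat_lit 2) (Steps.fwd (nat_lit 262144) (Steps.bwd (nat_lit 6) (Steps.bwd (nat_lit 1) (Steps.fwd (nat_lit 786432) (Steps.fwd (nat_lit 262144) Steps.nil))))))))))))) (nat_lit 34) (nat_lit 11),
  Rule.mk (nat_lit 6) (nat_lit 274) (Steps.bwd (nat_lit 1) (Steps.fwd (nat_lit 1572864) (Steps.bwd (nat_lit 5) (Steps.bwd (nat_lit 2) (Steps.bwd (nat_lit 1) (Steps.bwd (nat_lit 6) (Steps.fwd (nat_lit 262144) (Steps.bwd (nat_lit 2) (Steps.bwd (nat_lit 1) (Steps.fwd (nat_lit 1572864) (Steps.bwd (nat_lit 1) (Steps.bwd (nat_lit 2) (Steps.bwd (nat_lit 1) Steps.nil))))))))))))) (nat_lit 34) (nat_lit 11),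
  Rule.mk (nat_lit 4) (nat_lit 154) (Steps.bwd (nat_lit 1) (Steps.fwd (nat_lit 1572864) (Steps.bwd (nat_lit 1) (Steps.fwd (nat_lit 1048576) (Steps.bwd (nat_lit 1) (Steps.fwd (nat_lit 1572864) (Steps.fwd (nat_lit 262144) Steps.nil))))))) (nat_lit 74) (nat_lit 2),
  Rule.mk (nat_lit 6) (nat_lit 274) (Steps.bwd (nat_lit 1) (Steps.fwd (nat_lit 1572864) (Steps.fwd (nat_lit 1310720) (Steps.bwd (nat_lit 2) (Steps.bwd (nat_lit 1) (Steps.bwd (nat_lit 6) (Steps.fwd (nat_lit 262144) (Steps.bwd (nat_lit 2) (Steps.fwd (nat_lit 262144) (Steps.fwd (nat_lit 1572864) (Steps.bwd (nat_lit 1) (Steps.bwd (nat_lit 2) (Steps.bwd (nat_lit 1) Steps.nil))))))))))))) (nat_lit 34) (nat_lit 11),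
  Rule.mk (nat_lit 4) (nat_lit 154) (Steps.bwd (nat_lit 1) (Steps.fwd (nat_lit 1572864) (Steps.bwd (nat_lit 1) (Steps.fwd (nat_lit 1048576) (Steps.fwd (nat_lit 262144) (Steps.bwd (nat_lit 6) (Steps.bwd (nat_lit 1) Steps.nil))))))) (nat_lit 74) (nat_lit 2),
  Rule.mk (nat_lit 4) (nat_lit 114) (Steps.fwd (nat_lit 1572864) (Steps.fwd (nat_lit 1835008) (Steps.fwd (nat_lit 1048576) (Steps.bwd (nat_lit 5) (Steps.bwd (nat_lit 7) Steps.nil))))) (nat_lit 66) (nat_lit 4),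
  Rule.mk (nat_lit 4) (nat_lit 114) (Steps.bwd (nat_lit 3) (Steps.bwd (nat_lit 5) (Steps.bwd (nat_lit 4) (Steps.fwd (nat_lit 524288) (Steps.fwd (nat_lit 1572864) Steps.nil))))) (nat_lit 55) (nat_lit 2),
  Rule.mk (nat_lit 4) (nat_lit 114) (Steps.bwd (nat_lit 5) (Steps.fwd (nat_lit 1835008) (Steps.bwd (nat_lit 4) (Steps.fwd (nat_lit 1572864) (Steps.fwd (nat_lit 1835008) Steps.nil))))) (nat_lit 66) (nat_lit 1),
  Rule.mk (nat_lit 4) (nat_lit 154) (Steps.bwd (nat_lit 7) (Steps.fwd (nat_lit 1572864) (Steps.bwd (nat_lit 2) (Steps.bwd (nat_lit 4) (Steps.bwd (nat_lit 7) (Steps.bwd (nat_lit 5) (Steps.fwd (nat_lit 786432) Steps.nil))))))) (nat_lit 80) (nat_lit 6),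
  Rule.mk (nat_lit 4) (nat_lit 114) (Steps.fwd (nat_lit 1572864) (Steps.bwd (nat_lit 2) (Steps.bwd (nat_lit 4) (Steps.fwd (nat_lit 1310720) (Steps.fwd (nat_lit 786432) Steps.nil))))) (nat_lit 54) (nat_lit 5),
  Rule.mk (nat_lit 4) (nat_lit 114) (Steps.bwd (nat_lit 6) (Steps.fwd (nat_lit 1835008) (Steps.bwd (nat_lit 4) (Steps.fwd (nat_lit 1310720) (Steps.bwd (nat_lit 7) Steps.nil))))) (nat_lit 66) (nat_lit 4),
  Rule.mk (nat_lit 4) (nat_lit 114) (Steps.bwd (nat_lit 2) (Steps.fwd (nat_lit 1310720) (Steps.bwd (nat_lit 4) (Steps.fwd (nat_lit 786432) (Steps.bwd (nat_lit 6) Steps.nil))))) (nat_lit 58) (nat_lit 0),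
  Rule.mk (nat_lit 4) (nat_lit 114) (Steps.fwd (nat_lit 1572864) (Steps.bwd (nat_lit 7) (Steps.fwd (nat_lit 1048576) (Steps.bwd (nat_lit 5) (Steps.bwd (nat_lit 7) Steps.nil))))) (nat_lit 66) (nat_lit 4),
  Rule.mk (nat_lit 4) (nat_lit 154) (Steps.fwd (nat_lit 1572864) (Steps.fwd (nat_lit 1835008) (Steps.bwd (nat_lit 2) (Steps.fwd (nat_lit 1048576) (Steps.bwd (nat_lit 5) (Steps.bwd (nat_lit 7) (Steps.fwd (nat_lit 786432) Steps.nil))))))) (nat_lit 78) (nat_lit 6),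
  Rule.mk (nat_lit 4) (nat_lit 154) (Steps.bwd (nat_lit 3) (Steps.fwd (nat_lit 1310720) (Steps.fwd (nat_lit 1835008) (Steps.bwd (nat_lit 4) (Steps.bwd (nat_lit 3) (Steps.fwd (nat_lit 1572864) (Steps.bwd (nat_lit 7) Steps.nil))))))) (nat_lit 81) (nat_lit 3),
  Rule.mk (nat_lit 4) (nat_lit 154) (Steps.bwd (nat_lit 3) (Steps.bwd (nat_lit 7) (Steps.fwd (nat_lit 1310720) (Steps.bwd (nat_lit 4) (Steps.fwd (nat_lit 524288) (Steps.fwd (nat_lit 1835008) (Steps.bwd (nat_lit 6) Steps.nil))))))) (nat_lit 79) (nat_lit 3),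
  Rule.mk (nat_lit 4) (nat_lit 114) (Steps.fwd (nat_lit 1572864) (Steps.fwd (nat_lit 1835008) (Steps.bwd (nat_lit 4) (Steps.fwd (nat_lit 1310720) (Steps.fwd (nat_lit 1835008) Steps.nil))))) (nat_lit 66) (nat_lit 4),
  Rule.mk (nat_lit 4) (nat_lit 154) (Steps.bwd (nat_lit 6) (Steps.bwd (nat_lit 2) (Steps.bwd (nat_lit 7) (Steps.bwd (nat_lit 4) (Steps.bwd (nat_lit 5) (Steps.fwd (nat_lit 786432) (Steps.fwd (nat_lit 1835008) Steps.nil))))))) (nat_lit 90) (nat_lit 7),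
  Rule.mk (nat_lit 7) (nat_lit 114) (Steps.bwd (nat_lit 3) (Steps.bwd (nat_lit 6) (Steps.fwd (nat_lit 1835008) (Steps.bwd (nat_lit 2) (Steps.bwd (nat_lit 6) Steps.nil))))) (nat_lit 62) (nat_lit 3),
  Rule.mk (nat_lit 7) (nat_lit 114) (Steps.bwd (nat_lit 3) (Steps.bwd (nat_lit 6) (Steps.bwd (nat_lit 7) (Steps.bwd (nat_lit 2) (Steps.bwd (nat_lit 6) Steps.nil))))) (nat_lit 62) (nat_lit 3),
  Rule.mk (nat_lit 4) (nat_lit 114) (Steps.bwd (nat_lit 3) (Steps.bwd (nat_lit 5) (Steps.fwd (nat_lit 1048576) (Steps.bwd (nat_lit 3) (Steps.bwd (nat_lit 6) Steps.nil))))) (nat_lit 55) (nat_lit 2),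
  Rule.mk (nat_lit 3) (nat_lit 114) (Steps.bwd (nat_lit 4) (Steps.bwd (nat_lit 5) (Steps.fwd (nat_lit 524288) (Steps.fwd (nat_lit 1048576) (Steps.bwd (nat_lit 6) Steps.nil))))) (nat_lit 59) (nat_lit 3),
  Rule.mk (nat_lit 4) (nat_lit 114) (Steps.bwd (nat_lit 2) (Steps.fwd (nat_lit 1310720) (Steps.fwd (nat_lit 1048576) (Steps.bwd (nat_lit 2) (Steps.bwd (nat_lit 6) Steps.nil))))) (nat_lit 58) (nat_lit 0)]
noncomputable def R_38 : List (Rule) := [Rule.mk (nat_lit 4) (nat_lit 314) (Steps.bwd (nat_lit 8) (Steps.bwd (nat_lit 4) (Steps.bwd (nat_lit 9) (Steps.bwd (nat_lit 4) (Steps.bwd (nat_lit 8) (Steps.bwd (nat_lit 4) (Steps.bwd (nat_lit 9) (Steps.fwd (nat_lit 1048576) (Steps.bwd (nat_lit 8) (Steps.fwd (nat_lit 1048576) (Steps.bwd (nat_lit 9) (Steps.fwd (nat_lit 1048576) (Steps.fwd (nat_lit 2359296) (Steps.fwd (nat_lit 1048576) (Steps.fwd (nat_lit 2097152) Steps.nil)))))))))))))))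 (nat_lit 106) (nat_lit 0),
  Rule.mk (nat_lit 7) (nat_lit 114) (Steps.fwd (nat_lit 524288) (Steps.fwd (nat_lit 1048576) (Steps.bwd (nat_lit 7) (Steps.bwd (nat_lit 3) (Steps.bwd (nat_lit 4) Steps.nil))))) (nat_lit 65) (nat_lit 2),
  Rule.mk (nat_lit 4) (nat_lit 114) (Steps.fwd (nat_lit 786432) (Steps.bwd (nat_lit 6) (Steps.bwd (nat_lit 4) (Steps.bwd (nat_lit 2) (Steps.bwd (nat_lit 5) Steps.nil))))) (nat_lit 58) (nat_lit 3),
  Rule.mk (nat_lit 4) (nat_lit 314) (Steps.bwd (nat_lit 9) (Steps.bwd (nat_lit 4) (Steps.bwd (nat_lit 8) (Steps.bwd (nat_lit 4) (Steps.fwd (nat_lit 2097152) (Steps.fwd (nat_lit 1048576) (Steps.fwd (nat_lit 2359296) (Steps.fwd (nat_lit 1048576) (Steps.fwd (nat_lit 2097152) (Steps.bwd (nat_lit 4) (Steps.bwd (nat_lit 8) (Steps.bwd (nat_lit 4) (Steps.bwd (nat_lit 9) (Steps.fwd (nat_lit 1048576) (Steps.fwd (nat_lit 2359296) Steps.nil)))))))))))))))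 (nat_lit 106) (nat_lit 2),
  Rule.mk (nat_lit 8) (nat_lit 314) (Steps.bwd (nat_lit 4) (Steps.bwd (nat_lit 9) (Steps.bwd (nat_lit 4) (Steps.bwd (nat_lit 8) (Steps.bwd (nat_lit 4) (Steps.bwd (nat_lit 9) (Steps.fwd (nat_lit 1048576) (Steps.fwd (nat_lit 2359296) (Steps.bwd (nat_lit 4) (Steps.bwd (nat_lit 9) (Steps.fwd (nat_lit 1048576) (Steps.fwd (nat_lit 2359296) (Steps.fwd (nat_lit 1048576) (Steps.fwd (nat_lit 2097152) (Steps.fwd (nat_lit 1048576) Steps.nil))))))))))))))) (nat_lit 106) (nat_lit 1),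
  Rule.mk (nat_lit 8) (nat_lit 314) (Steps.bwd (nat_lit 4) (Steps.bwd (nat_lit 9) (Steps.bwd (nat_lit 4) (Steps.bwd (nat_lit 8) (Steps.bwd (nat_lit 4) (Steps.bwd (nat_lit 9) (Steps.bwd (nat_lit 4) (Steps.bwd (nat_lit 8) (Steps.fwd (nat_lit 1048576) (Steps.fwd (nat_lit 2097152) (Steps.fwd (nat_lit 1048576) (Steps.fwd (nat_lit 2359296) (Steps.fwd (nat_lit 1048576) (Steps.fwd (nat_lit 2097152) (Steps.fwd (nat_lit 1048576) Steps.nil))))))))))))))) (nat_lit 106) (nat_lit 1),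
  Rule.mk (nat_lit 9) (nat_lit 314) (Steps.bwd (nat_lit 4) (Steps.bwd (nat_lit 8) (Steps.bwd (nat_lit 4) (Steps.bwd (nat_lit 9) (Steps.bwd (nat_lit 4) (Steps.bwd (nat_lit 8) (Steps.fwd (nat_lit 1048576) (Steps.fwd (nat_lit 2097152) (Steps.fwd (nat_lit 1048576) (Steps.fwd (nat_lit 2359296) (Steps.fwd (nat_lit 1048576) (Steps.fwd (nat_lit 2097152) (Steps.fwd (nat_lit 1048576) (Steps.fwd (nat_lit 2359296) (Steps.fwd (nat_lit 1048576) Steps.nil))))))))))))))) (nat_lit 106) (nat_lit 3),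
  Rule.mk (nat_lit 4) (nat_lit 314) (Steps.bwd (nat_lit 9) (Steps.bwd (nat_lit 4) (Steps.bwd (nat_lit 8) (Steps.bwd (nat_lit 4) (Steps.fwd (nat_lit 2097152) (Steps.fwd (nat_lit 1048576) (Steps.fwd (nat_lit 2359296) (Steps.fwd (nat_lit 1048576) (Steps.fwd (nat_lit 2097152) (Steps.fwd (nat_lit 1048576) (Steps.bwd (nat_lit 8) (Steps.bwd (nat_lit 4) (Steps.bwd (nat_lit 9) (Steps.fwd (nat_lit 1048576) (Steps.fwd (nat_lit 2359296) Steps.nil))))))))))))))) (nat_lit 106) (nat_lit 2),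
  Rule.mk (nat_lit 4) (nat_lit 114) (Steps.bwd (nat_lit 3) (Steps.fwd (nat_lit 1310720) (Steps.fwd (nat_lit 1048576) (Steps.fwd (nat_lit 524288) (Steps.bwd (nat_lit 6) Steps.nil))))) (nat_lit 55) (nat_lit 2),
  Rule.mk (nat_lit 9) (nat_lit 314) (Steps.bwd (nat_lit 4) (Steps.fwd (nat_lit 2359296) (Steps.bwd (nat_lit 4) (Steps.bwd (nat_lit 9) (Steps.bwd (nat_lit 4) (Steps.bwd (nat_lit 8) (Steps.bwd (nat_lit 4) (Steps.bwd (nat_lit 9) (Steps.bwd (nat_lit 4) (Steps.fwd (nat_lit 2359296) (Steps.fwd (nat_lit 1048576) (Steps.fwd (nat_lit 2097152) (Steps.fwd (nat_lit 1048576) (Steps.fwd (nat_lit 2359296) (Steps.fwd (nat_lit 1048576) Steps.nil))))))))))))))) (nat_lit 106) (nat_lit 3),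
  Rule.mk (nat_lit 8) (nat_lit 74) (Steps.fwd (nat_lit 1572864) (Steps.bwd (nat_lit 8) (Steps.fwd (nat_lit 1572864) Steps.nil))) (nat_lit 102) (nat_lit 0),
  Rule.mk (nat_lit 8) (nat_lit 314) (Steps.bwd (nat_lit 4) (Steps.bwd (nat_lit 9) (Steps.fwd (nat_lit 1048576) (Steps.bwd (nat_lit 8) (Steps.bwd (nat_lit 4) (Steps.bwd (nat_lit 9) (Steps.bwd (nat_lit 4) (Steps.bwd (nat_lit 8) (Steps.bwd (nat_lit 4) (Steps.bwd (nat_lit 9) (Steps.fwd (nat_lit 1048576) (Steps.fwd (nat_lit 2359296) (Steps.fwd (nat_lit 1048576) (Steps.fwd (nat_lit 2097152) (Steps.fwd (nat_lit 1048576) Steps.nil))))))))))))))) (nat_lit 106) (nat_lit 1),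
  Rule.mk (nat_lit 8) (nat_lit 314) (Steps.bwd (nat_lit 4) (Steps.bwd (nat_lit 9) (Steps.bwd (nat_lit 4) (Steps.fwd (nat_lit 2359296) (Steps.fwd (nat_lit 1048576) (Steps.fwd (nat_lit 2097152) (Steps.fwd (nat_lit 1048576) (Steps.bwd (nat_lit 8) (Steps.bwd (nat_lit 4) (Steps.bwd (nat_lit 9) (Steps.bwd (nat_lit 4) (Steps.fwd (nat_lit 2359296) (Steps.fwd (nat_lit 1048576) (Steps.fwd (nat_lit 2097152) (Steps.fwd (nat_lit 1048576) Steps.nil))))))))))))))) (nat_lit 106) (nat_lit 1),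
  Rule.mk (nat_lit 9) (nat_lit 314) (Steps.bwd (nat_lit 4) (Steps.fwd (nat_lit 2359296) (Steps.bwd (nat_lit 4) (Steps.bwd (nat_lit 9) (Steps.bwd (nat_lit 4) (Steps.fwd (nat_lit 2359296) (Steps.fwd (nat_lit 1048576) (Steps.fwd (nat_lit 2097152) (Steps.bwd (nat_lit 4) (Steps.fwd (nat_lit 2359296) (Steps.fwd (nat_lit 1048576) (Steps.fwd (nat_lit 2097152) (Steps.bwd (nat_lit 4) (Steps.fwd (nat_lit 2359296) (Steps.fwd (nat_lit 1048576) Steps.nil))))))))))))))) (nat_lit 106) (nat_lit 3),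
  Rule.mk (nat_lit 9) (nat_lit 314) (Steps.bwd (nat_lit 4) (Steps.bwd (nat_lit 8) (Steps.bwd (nat_lit 4) (Steps.bwd (nat_lit 9) (Steps.bwd (nat_lit 4) (Steps.fwd (nat_lit 2359296) (Steps.fwd (nat_lit 1048576) (Steps.bwd (nat_lit 9) (Steps.fwd (nat_lit 1048576) (Steps.fwd (nat_lit 2359296) (Steps.fwd (nat_lit 1048576) (Steps.fwd (nat_lit 2097152) (Steps.fwd (nat_lit 1048576) (Steps.fwd (nat_lit 2359296) (Steps.fwd (nat_lit 1048576) Steps.nil))))))))))))))) (nat_lit 106) (nat_lit 3),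
  Rule.mk (nat_lit 8) (nat_lit 314) (Steps.bwd (nat_lit 4) (Steps.bwd (nat_lit 9) (Steps.bwd (nat_lit 4) (Steps.bwd (nat_lit 8) (Steps.bwd (nat_lit 4) (Steps.bwd (nat_lit 9) (Steps.fwd (nat_lit 1048576) (Steps.fwd (nat_lit 2359296) (Steps.bwd (nat_lit 4) (Steps.bwd (nat_lit 9) (Steps.fwd (nat_lit 1048576) (Steps.bwd (nat_lit 8) (Steps.bwd (nat_lit 4) (Steps.bwd (nat_lit 9) (Steps.fwd (nat_lit 1048576) Steps.nil))))))))))))))) (nat_lit 106) (nat_lit 1),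
  Rule.mk (nat_lit 5) (nat_lit 94) (Steps.bwd (nat_lit 6) (Steps.bwd (nat_lit 5) (Steps.bwd (nat_lit 6) (Steps.fwd (nat_lit 1835008) Steps.nil)))) (nat_lit 25) (nat_lit 2),
  Rule.mk (nat_lit 7) (nat_lit 114) (Steps.bwd (nat_lit 2) (Steps.bwd (nat_lit 6) (Steps.bwd (nat_lit 7) (Steps.bwd (nat_lit 3) (Steps.bwd (nat_lit 6) Steps.nil))))) (nat_lit 62) (nat_lit 0),
  Rule.mk (nat_lit 5) (nat_lit 94) (Steps.bwd (nat_lit 6) (Steps.bwd (nat_lit 5) (Steps.bwd (nat_lit 6) (Steps.bwd (nat_lit 7) Steps.nil)))) (nat_lit 25) (nat_lit 2),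
  Rule.mk (nat_lit 1) (nat_lit 274) (Steps.bwd (nat_lit 6) (Steps.bwd (nat_lit 5) (Steps.fwd (nat_lit 786432) (Steps.fwd (nat_lit 262144) (Steps.fwd (nat_lit 1572864) (Steps.bwd (nat_lit 1) (Steps.bwd (nat_lit 2) (Steps.fwd (nat_lit 262144) (Steps.bwd (nat_lit 6) (Steps.bwd (nat_lit 1) (Steps.bwd (nat_lit 2) (Steps.fwd (nat_lit 262144) (Steps.fwd (nat_lit 1572864) Steps.nil))))))))))))) (nat_lit 34) (nat_lit 12),
  Rule.mk (nat_lit 1) (nat_lit 274) (Steps.bwd (nat_lit 6) (Steps.fwd (nat_lit 1310720) (Steps.fwd (nat_lit 786432) (Steps.fwd (nat_lit 262144) (Steps.bwd (nat_lit 6) (Steps.bwd (nat_lit 1) (Steps.bwd (nat_lit 2) (Steps.fwd (nat_lit 262144) (Steps.bwd (nat_lit 6) (Steps.bwd (nat_lit 1) (Steps.bwd (nat_lit 2) (Steps.fwd (nat_lit 262144) (Steps.fwd (nat_lit 1572864) Steps.nil))))))))))))) (nat_lit 34) (nat_lit 12),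
  Rule.mk (nat_lit 4) (nat_lit 314) (Steps.bwd (nat_lit 9) (Steps.bwd (nat_lit 4) (Steps.bwd (nat_lit 8) (Steps.fwd (nat_lit 1048576) (Steps.bwd (nat_lit 9) (Steps.fwd (nat_lit 1048576) (Steps.fwd (nat_lit 2359296) (Steps.fwd (nat_lit 1048576) (Steps.fwd (nat_lit 2097152) (Steps.bwd (nat_lit 4) (Steps.bwd (nat_lit 8) (Steps.bwd (nat_lit 4) (Steps.bwd (nat_lit 9) (Steps.fwd (nat_lit 1048576) (Steps.fwd (nat_lit 2359296) Steps.nil))))))))))))))) (nat_lit 106) (nat_lit 2),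
  Rule.mk (nat_lit 4) (nat_lit 114) (Steps.fwd (nat_lit 786432) (Steps.fwd (nat_lit 1310720) (Steps.fwd (nat_lit 1048576) (Steps.fwd (nat_lit 786432) (Steps.bwd (nat_lit 6) Steps.nil))))) (nat_lit 58) (nat_lit 0),
  Rule.mk (nat_lit 4) (nat_lit 314) (Steps.bwd (nat_lit 9) (Steps.bwd (nat_lit 4) (Steps.bwd (nat_lit 8) (Steps.bwd (nat_lit 4) (Steps.bwd (nat_lit 9) (Steps.fwd (nat_lit 1048576) (Steps.fwd (nat_lit 2359296) (Steps.fwd (nat_lit 1048576) (Steps.fwd (nat_lit 2097152) (Steps.fwd (nat_lit 1048576) (Steps.bwd (nat_lit 8) (Steps.bwd (nat_lit 4) (Steps.bwd (nat_lit 9) (Steps.fwd (nat_lit 1048576) (Steps.fwd (nat_lit 2359296) Steps.nil))))))))))))))) (nat_lit 106) (nat_lit 2),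
  Rule.mk (nat_lit 4) (nat_lit 114) (Steps.bwd (nat_lit 2) (Steps.bwd (nat_lit 5) (Steps.fwd (nat_lit 1048576) (Steps.bwd (nat_lit 2) (Steps.bwd (nat_lit 6) Steps.nil))))) (nat_lit 58) (nat_lit 0),
  Rule.mk (nat_lit 4) (nat_lit 114) (Steps.fwd (nat_lit 524288) (Steps.fwd (nat_lit 1835008) (Steps.bwd (nat_lit 4) (Steps.bwd (nat_lit 3) (Steps.bwd (nat_lit 7) Steps.nil))))) (nat_lit 57) (nat_lit 2),
  Rule.mk (nat_lit 4) (nat_lit 114) (Steps.fwd (nat_lit 786432) (Steps.fwd (nat_lit 1572864) (Steps.fwd (nat_lit 1048576) (Steps.fwd (nat_lit 786432) (Steps.bwd (nat_lit 5) Steps.nil))))) (nat_lit 58) (nat_lit 3),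
  Rule.mk (nat_lit 4) (nat_lit 314) (Steps.bwd (nat_lit 9) (Steps.bwd (nat_lit 4) (Steps.bwd (nat_lit 8) (Steps.bwd (nat_lit 4) (Steps.fwd (nat_lit 2097152) (Steps.bwd (nat_lit 4) (Steps.fwd (nat_lit 2359296) (Steps.bwd (nat_lit 4) (Steps.bwd (nat_lit 9) (Steps.fwd (nat_lit 1048576) (Steps.bwd (nat_lit 8) (Steps.fwd (nat_lit 1048576) (Steps.fwd (nat_lit 2097152) (Steps.fwd (nat_lit 1048576) (Steps.fwd (nat_lit 2359296) Steps.nil))))))))))))))) (nat_lit 106) (nat_lit 2),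
  Rule.mk (nat_lit 4) (nat_lit 314) (Steps.bwd (nat_lit 9) (Steps.bwd (nat_lit 4) (Steps.bwd (nat_lit 8) (Steps.fwd (nat_lit 1048576) (Steps.fwd (nat_lit 2097152) (Steps.fwd (nat_lit 1048576) (Steps.fwd (nat_lit 2359296) (Steps.fwd (nat_lit 1048576) (Steps.bwd (nat_lit 9) (Steps.bwd (nat_lit 4) (Steps.fwd (nat_lit 2359296) (Steps.fwd (nat_lit 1048576) (Steps.fwd (nat_lit 2097152) (Steps.fwd (nat_lit 1048576) (Steps.fwd (nat_lit 2359296) Steps.nil))))))))))))))) (nat_lit 106) (nat_lit 2),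
  Rule.mk (nat_lit 8) (nat_lit 314) (Steps.bwd (nat_lit 4) (Steps.bwd (nat_lit 9) (Steps.bwd (nat_lit 4) (Steps.bwd (nat_lit 8) (Steps.bwd (nat_lit 4) (Steps.bwd (nat_lit 9) (Steps.fwd (nat_lit 1048576) (Steps.fwd (nat_lit 2359296) (Steps.fwd (nat_lit 1048576) (Steps.fwd (nat_lit 2097152) (Steps.fwd (nat_lit 1048576) (Steps.fwd (nat_lit 2359296) (Steps.fwd (nat_lit 1048576) (Steps.bwd (nat_lit 9) (Steps.fwd (nat_lit 1048576) Steps.nil))))))))))))))) (nat_lit 106) (nat_lit 1),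
  Rule.mk (nat_lit 8) (nat_lit 314) (Steps.bwd (nat_lit 4) (Steps.bwd (nat_lit 9) (Steps.bwd (nat_lit 4) (Steps.bwd (nat_lit 8) (Steps.bwd (nat_lit 4) (Steps.bwd (nat_lit 9) (Steps.fwd (nat_lit 1048576) (Steps.bwd (nat_lit 8) (Steps.fwd (nat_lit 1048576) (Steps.fwd (nat_lit 2097152) (Steps.fwd (nat_lit 1048576) (Steps.fwd (nat_lit 2359296) (Steps.fwd (nat_lit 1048576) (Steps.fwd (nat_lit 2097152) (Steps.fwd (nat_lit 1048576) Steps.nil))))))))))))))) (nat_lit 106) (nat_lit 1),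
  Rule.mk (nat_lit 8) (nat_lit 314) (Steps.bwd (nat_lit 4) (Steps.bwd (nat_lit 9) (Steps.bwd (nat_lit 4) (Steps.bwd (nat_lit 8) (Steps.bwd (nat_lit 4) (Steps.bwd (nat_lit 9) (Steps.bwd (nat_lit 4) (Steps.fwd (nat_lit 2359296) (Steps.fwd (nat_lit 1048576) (Steps.bwd (nat_lit 9) (Steps.fwd (nat_lit 1048576) (Steps.fwd (nat_lit 2359296) (Steps.fwd (nat_lit 1048576) (Steps.fwd (nat_lit 2097152) (Steps.fwd (nat_lit 1048576) Steps.nil))))))))))))))) (nat_lit 106) (nat_lit 1),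
  Rule.mk (nat_lit 9) (nat_lit 94) (Steps.fwd (nat_lit 1835008) (Steps.bwd (nat_lit 5) (Steps.bwd (nat_lit 8) (Steps.fwd (nat_lit 1310720) Steps.nil)))) (nat_lit 101) (nat_lit 0),
  Rule.mk (nat_lit 9) (nat_lit 314) (Steps.bwd (nat_lit 4) (Steps.bwd (nat_lit 8) (Steps.bwd (nat_lit 4) (Steps.bwd (nat_lit 9) (Steps.fwd (nat_lit 1048576) (Steps.fwd (nat_lit 2359296) (Steps.fwd (nat_lit 1048576) (Steps.bwd (nat_lit 9) (Steps.bwd (nat_lit 4) (Steps.bwd (nat_lit 8) (Steps.bwd (nat_lit 4) (Steps.bwd (nat_lit 9) (Steps.fwd (nat_lit 1048576) (Steps.fwd (nat_lit 2359296) (Steps.fwd (nat_lit 1048576) Steps.nil))))))))))))))) (nat_lit 106) (nat_lit 3),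
  Rule.mk (nat_lit 8) (nat_lit 94) (Steps.bwd (nat_lit 5) (Steps.bwd (nat_lit 9) (Steps.bwd (nat_lit 7) (Steps.fwd (nat_lit 1310720) Steps.nil)))) (nat_lit 101) (nat_lit 3),
  Rule.mk (nat_lit 8) (nat_lit 314) (Steps.bwd (nat_lit 4) (Steps.bwd (nat_lit 9) (Steps.bwd (nat_lit 4) (Steps.bwd (nat_lit 8) (Steps.bwd (nat_lit 4) (Steps.bwd (nat_lit 9) (Steps.bwd (nat_lit 4) (Steps.bwd (nat_lit 8) (Steps.bwd (nat_lit 4) (Steps.fwd (nat_lit 2097152) (Steps.fwd (nat_lit 1048576) (Steps.fwd (nat_lit 2359296) (Steps.fwd (nat_lit 1048576) (Steps.fwd (nat_lit 2097152) (Steps.fwd (nat_lit 1048576) Steps.nil))))))))))))))) (nat_lit 106) (nat_lit 1),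
  Rule.mk (nat_lit 8) (nat_lit 314) (Steps.bwd (nat_lit 4) (Steps.bwd (nat_lit 9) (Steps.fwd (nat_lit 1048576) (Steps.bwd (nat_lit 8) (Steps.bwd (nat_lit 4) (Steps.bwd (nat_lit 9) (Steps.fwd (nat_lit 1048576) (Steps.fwd (nat_lit 2359296) (Steps.bwd (nat_lit 4) (Steps.bwd (nat_lit 9) (Steps.fwd (nat_lit 1048576) (Steps.fwd (nat_lit 2359296) (Steps.bwd (nat_lit 4) (Steps.bwd (nat_lit 9) (Steps.fwd (nat_lit 1048576) Steps.nil))))))))))))))) (nat_lit 106) (nat_lit 1),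
  Rule.mk (nat_lit 9) (nat_lit 314) (Steps.bwd (nat_lit 4) (Steps.fwd (nat_lit 2359296) (Steps.bwd (nat_lit 4) (Steps.bwd (nat_lit 9) (Steps.bwd (nat_lit 4) (Steps.bwd (nat_lit 8) (Steps.bwd (nat_lit 4) (Steps.bwd (nat_lit 9) (Steps.fwd (nat_lit 1048576) (Steps.fwd (nat_lit 2359296) (Steps.fwd (nat_lit 1048576) (Steps.fwd (nat_lit 2097152) (Steps.fwd (nat_lit 1048576) (Steps.fwd (nat_lit 2359296) (Steps.fwd (nat_lit 1048576) Steps.nil))))))))))))))) (nat_lit 106) (nat_lit 3),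
  Rule.mk (nat_lit 9) (nat_lit 314) (Steps.bwd (nat_lit 4) (Steps.bwd (nat_lit 8) (Steps.bwd (nat_lit 4) (Steps.bwd (nat_lit 9) (Steps.bwd (nat_lit 4) (Steps.bwd (nat_lit 8) (Steps.fwd (nat_lit 1048576) (Steps.fwd (nat_lit 2097152) (Steps.bwd (nat_lit 4) (Steps.fwd (nat_lit 2359296) (Steps.fwd (nat_lit 1048576) (Steps.fwd (nat_lit 2097152) (Steps.fwd (nat_lit 1048576) (Steps.fwd (nat_lit 2359296) (Steps.fwd (nat_lit 1048576) Steps.nil))))))))))))))) (nat_lit 106) (nat_lit 3),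
  Rule.mk (nat_lit 9) (nat_lit 314) (Steps.bwd (nat_lit 4) (Steps.bwd (nat_lit 8) (Steps.bwd (nat_lit 4) (Steps.bwd (nat_lit 9) (Steps.bwd (nat_lit 4) (Steps.fwd (nat_lit 2359296) (Steps.bwd (nat_lit 4) (Steps.bwd (nat_lit 9) (Steps.fwd (nat_lit 1048576) (Steps.fwd (nat_lit 2359296) (Steps.fwd (nat_lit 1048576) (Steps.fwd (nat_lit 2097152) (Steps.fwd (nat_lit 1048576) (Steps.fwd (nat_lit 2359296) (Steps.fwd (nat_lit 1048576) Steps.nil))))))))))))))) (nat_lit 106) (nat_lit 3),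
  Rule.mk (nat_lit 4) (nat_lit 314) (Steps.bwd (nat_lit 8) (Steps.bwd (nat_lit 4) (Steps.bwd (nat_lit 9) (Steps.bwd (nat_lit 4) (Steps.fwd (nat_lit 2359296) (Steps.fwd (nat_lit 1048576) (Steps.fwd (nat_lit 2097152) (Steps.fwd (nat_lit 1048576) (Steps.fwd (nat_lit 2359296) (Steps.fwd (nat_lit 1048576) (Steps.fwd (nat_lit 2097152) (Steps.fwd (nat_lit 1048576) (Steps.fwd (nat_lit 2359296) (Steps.fwd (nat_lit 1048576) (Steps.fwd (nat_lit 2097152) Steps.nil))))))))))))))) (nat_lit 106) (nat_lit 0),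
  Rule.mk (nat_lit 4) (nat_lit 114) (Steps.bwd (nat_lit 2) (Steps.fwd (nat_lit 1572864) (Steps.fwd (nat_lit 1048576) (Steps.fwd (nat_lit 786432) (Steps.bwd (nat_lit 5) Steps.nil))))) (nat_lit 58) (nat_lit 3),
  Rule.mk (nat_lit 4) (nat_lit 314) (Steps.bwd (nat_lit 8) (Steps.bwd (nat_lit 4) (Steps.bwd (nat_lit 9) (Steps.bwd (nat_lit 4) (Steps.fwd (nat_lit 2359296) (Steps.fwd (nat_lit 1048576) (Steps.fwd (nat_lit 2097152) (Steps.bwd (nat_lit 4) (Steps.fwd (nat_lit 2359296) (Steps.bwd (nat_lit 4) (Steps.bwd (nat_lit 9) (Steps.fwd (nat_lit 1048576) (Steps.fwd (nat_lit 2359296) (Steps.fwd (nat_lit 1048576) (Steps.fwd (nat_lit 2097152) Steps.nil))))))))))))))) (nat_lit 106) (nat_lit 0),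
  Rule.mk (nat_lit 6) (nat_lit 114) (Steps.bwd (nat_lit 2) (Steps.fwd (nat_lit 1048576) (Steps.bwd (nat_lit 5) (Steps.fwd (nat_lit 786432) (Steps.fwd (nat_lit 1048576) Steps.nil))))) (nat_lit 54) (nat_lit 0),
  Rule.mk (nat_lit 1) (nat_lit 114) (Steps.bwd (nat_lit 5) (Steps.fwd (nat_lit 1835008) (Steps.bwd (nat_lit 1) (Steps.bwd (nat_lit 5) (Steps.bwd (nat_lit 7) Steps.nil))))) (nat_lit 52) (nat_lit 1),
  Rule.mk (nat_lit 4) (nat_lit 314) (Steps.bwd (nat_lit 8) (Steps.bwd (nat_lit 4) (Steps.bwd (nat_lit 9) (Steps.bwd (nat_lit 4) (Steps.fwd (nat_lit 2359296) (Steps.bwd (nat_lit 4) (Steps.bwd (nat_lit 9) (Steps.bwd (nat_lit 4) (Steps.fwd (nat_lit 2359296) (Steps.bwd (nat_lit 4) (Steps.fwd (nat_lit 2097152) (Steps.fwd (nat_lit 1048576) (Steps.fwd (nat_lit 2359296) (Steps.fwd (nat_lit 1048576) (Steps.fwd (nat_lit 2097152) Steps.nil))))))))))))))) (nat_lit 106) (nat_lit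 0),
  Rule.mk (nat_lit 4) (nat_lit 314) (Steps.bwd (nat_lit 9) (Steps.bwd (nat_lit 4) (Steps.bwd (nat_lit 8) (Steps.bwd (nat_lit 4) (Steps.bwd (nat_lit 9) (Steps.bwd (nat_lit 4) (Steps.fwd (nat_lit 2359296) (Steps.fwd (nat_lit 1048576) (Steps.bwd (nat_lit 9) (Steps.fwd (nat_lit 1048576) (Steps.bwd (nat_lit 8) (Steps.fwd (nat_lit 1048576) (Steps.fwd (nat_lit 2097152) (Steps.fwd (nat_lit 1048576) (Steps.fwd (nat_lit 2359296) Steps.nil))))))))))))))) (nat_lit 106) (nat_lit 2),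
  Rule.mk (nat_lit 7) (nat_lit 114) (Steps.bwd (nat_lit 2) (Steps.bwd (nat_lit 6) (Steps.fwd (nat_lit 1835008) (Steps.bwd (nat_lit 3) (Steps.bwd (nat_lit 6) Steps.nil))))) (nat_lit 62) (nat_lit 0),
  Rule.mk (nat_lit 7) (nat_lit 114) (Steps.bwd (nat_lit 3) (Steps.fwd (nat_lit 1572864) (Steps.fwd (nat_lit 1835008) (Steps.bwd (nat_lit 2) (Steps.bwd (nat_lit 6) Steps.nil))))) (nat_lit 62) (nat_lit 3),
  Rule.mk (nat_lit 4) (nat_lit 314) (Steps.bwd (nat_lit 9) (Steps.fwd (nat_lit 1048576) (Steps.fwd (nat_lit 2359296) (Steps.fwd (nat_lit 1048576) (Steps.bwd (nat_lit 9) (Steps.fwd (nat_lit 1048576) (Steps.fwd (nat_lit 2359296) (Steps.fwd (nat_lit 1048576) (Steps.fwd (nat_lit 2097152) (Steps.bwd (nat_lit 4) (Steps.bwd (nat_lit 8) (Steps.bwd (nat_lit 4) (Steps.bwd (nat_lit 9) (Steps.fwd (nat_lit 1048576) (Steps.fwd (nat_lit 2359296) Steps.nil))))))))))))))) (nat_lit 106)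 (nat_lit 2),
  Rule.mk (nat_lit 4) (nat_lit 314) (Steps.bwd (nat_lit 8) (Steps.bwd (nat_lit 4) (Steps.bwd (nat_lit 9) (Steps.bwd (nat_lit 4) (Steps.fwd (nat_lit 2359296) (Steps.bwd (nat_lit 4) (Steps.bwd (nat_lit 9) (Steps.bwd (nat_lit 4) (Steps.fwd (nat_lit 2359296) (Steps.fwd (nat_lit 1048576) (Steps.bwd (nat_lit 9) (Steps.fwd (nat_lit 1048576) (Steps.fwd (nat_lit 2359296) (Steps.fwd (nat_lit 1048576) (Steps.fwd (nat_lit 2097152) Steps.nil))))))))))))))) (nat_lit 106) (nat_lit 0),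
  Rule.mk (nat_lit 4) (nat_lit 314) (Steps.bwd (nat_lit 8) (Steps.bwd (nat_lit 4) (Steps.bwd (nat_lit 9) (Steps.fwd (nat_lit 1048576) (Steps.bwd (nat_lit 8) (Steps.fwd (nat_lit 1048576) (Steps.bwd (nat_lit 9) (Steps.bwd (nat_lit 4) (Steps.bwd (nat_lit 8) (Steps.bwd (nat_lit 4) (Steps.bwd (nat_lit 9) (Steps.fwd (nat_lit 1048576) (Steps.fwd (nat_lit 2359296) (Steps.fwd (nat_lit 1048576) (Steps.fwd (nat_lit 2097152) Steps.nil))))))))))))))) (nat_lit 106) (nat_lit 0),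
  Rule.mk (nat_lit 4) (nat_lit 314) (Steps.bwd (nat_lit 8) (Steps.fwd (nat_lit 1048576) (Steps.fwd (nat_lit 2097152) (Steps.fwd (nat_lit 1048576) (Steps.fwd (nat_lit 2359296) (Steps.fwd (nat_lit 1048576) (Steps.bwd (nat_lit 9) (Steps.bwd (nat_lit 4) (Steps.fwd (nat_lit 2359296) (Steps.bwd (nat_lit 4) (Steps.fwd (nat_lit 2097152) (Steps.fwd (nat_lit 1048576) (Steps.fwd (nat_lit 2359296) (Steps.fwd (nat_lit 1048576) (Steps.fwd (nat_lit 2097152) Steps.nil))))))))))))))) (nat_lit 106) (nat_lit 0),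
  Rule.mk (nat_lit 1) (nat_lit 274) (Steps.bwd (nat_lit 6) (Steps.bwd (nat_lit 5) (Steps.fwd (nat_lit 786432) (Steps.fwd (nat_lit 262144) (Steps.fwd (nat_lit 1572864) (Steps.bwd (nat_lit 1) (Steps.bwd (nat_lit 2) (Steps.fwd (nat_lit 262144) (Steps.bwd (nat_lit 6) (Steps.bwd (nat_lit 1) (Steps.fwd (nat_lit 786432) (Steps.fwd (nat_lit 262144) (Steps.fwd (nat_lit 1572864) Steps.nil))))))))))))) (nat_lit 34) (nat_lit 12),
  Rule.mk (nat_lit 7) (nat_lit 114) (Steps.fwd (nat_lit 524288) (Steps.fwd (nat_lit 1572864) (Steps.bwd (nat_lit 7) (Steps.bwd (nat_lit 2) (Steps.bwd (nat_lit 6) Steps.nil))))) (nat_lit 62) (nat_lit 3),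
  Rule.mk (nat_lit 4) (nat_lit 314) (Steps.bwd (nat_lit 8) (Steps.bwd (nat_lit 4) (Steps.bwd (nat_lit 9) (Steps.bwd (nat_lit 4) (Steps.bwd (nat_lit 8) (Steps.fwd (nat_lit 1048576) (Steps.fwd (nat_lit 2097152) (Steps.fwd (nat_lit 1048576) (Steps.fwd (nat_lit 2359296) (Steps.fwd (nat_lit 1048576) (Steps.bwd (nat_lit 9) (Steps.bwd (nat_lit 4) (Steps.fwd (nat_lit 2359296) (Steps.fwd (nat_lit 1048576) (Steps.fwd (nat_lit 2097152) Steps.nil))))))))))))))) (nat_lit 106) (nat_lit 0),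
  Rule.mk (nat_lit 9) (nat_lit 314) (Steps.bwd (nat_lit 4) (Steps.bwd (nat_lit 8) (Steps.bwd (nat_lit 4) (Steps.bwd (nat_lit 9) (Steps.bwd (nat_lit 4) (Steps.bwd (nat_lit 8) (Steps.bwd (nat_lit 4) (Steps.bwd (nat_lit 9) (Steps.fwd (nat_lit 1048576) (Steps.bwd (nat_lit 8) (Steps.fwd (nat_lit 1048576) (Steps.bwd (nat_lit 9) (Steps.fwd (nat_lit 1048576) (Steps.fwd (nat_lit 2359296) (Steps.fwd (nat_lit 1048576) Steps.nil))))))))))))))) (nat_lit 106) (nat_lit 3),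
  Rule.mk (nat_lit 7) (nat_lit 114) (Steps.bwd (nat_lit 2) (Steps.fwd (nat_lit 1572864) (Steps.fwd (nat_lit 1835008) (Steps.bwd (nat_lit 3) (Steps.bwd (nat_lit 6) Steps.nil))))) (nat_lit 62) (nat_lit 0),
  Rule.mk (nat_lit 4) (nat_lit 114) (Steps.bwd (nat_lit 3) (Steps.fwd (nat_lit 1572864) (Steps.fwd (nat_lit 1048576) (Steps.fwd (nat_lit 524288) (Steps.bwd (nat_lit 5) Steps.nil))))) (nat_lit 55) (nat_lit 5),
  Rule.mk (nat_lit 8) (nat_lit 314) (Steps.bwd (nat_lit 4) (Steps.bwd (nat_lit 9) (Steps.bwd (nat_lit 4) (Steps.bwd (nat_lit 8) (Steps.bwd (nat_lit 4) (Steps.fwd (nat_lit 2097152) (Steps.bwd (nat_lit 4) (Steps.fwd (nat_lit 2359296) (Steps.bwd (nat_lit 4) (Steps.bwd (nat_lit 9) (Steps.fwd (nat_lit 1048576) (Steps.bwd (nat_lit 8) (Steps.fwd (nat_lit 1048576) (Steps.fwd (nat_lit 2097152) (Steps.fwd (nat_lit 1048576) Steps.nil))))))))))))))) (nat_lit 106) (nat_lit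 1),
  Rule.mk (nat_lit 4) (nat_lit 314) (Steps.bwd (nat_lit 8) (Steps.fwd (nat_lit 1048576) (Steps.fwd (nat_lit 2097152) (Steps.fwd (nat_lit 1048576) (Steps.fwd (nat_lit 2359296) (Steps.fwd (nat_lit 1048576) (Steps.bwd (nat_lit 9) (Steps.bwd (nat_lit 4) (Steps.fwd (nat_lit 2359296) (Steps.fwd (nat_lit 1048576) (Steps.bwd (nat_lit 9) (Steps.fwd (nat_lit 1048576) (Steps.fwd (nat_lit 2359296) (Steps.fwd (nat_lit 1048576) (Steps.fwd (nat_lit 2097152) Steps.nil))))))))))))))) (nat_lit 106) (nat_lit 0),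
  Rule.mk (nat_lit 7) (nat_lit 114) (Steps.bwd (nat_lit 3) (Steps.fwd (nat_lit 1048576) (Steps.bwd (nat_lit 7) (Steps.bwd (nat_lit 3) (Steps.bwd (nat_lit 4) Steps.nil))))) (nat_lit 65) (nat_lit 2),
  Rule.mk (nat_lit 6) (nat_lit 114) (Steps.bwd (nat_lit 4) (Steps.bwd (nat_lit 3) (Steps.fwd (nat_lit 1310720) (Steps.fwd (nat_lit 1048576) (Steps.bwd (nat_lit 3) Steps.nil))))) (nat_lit 55) (nat_lit 1),
  Rule.mk (nat_lit 0) (nat_lit 134) (Steps.bwd (nat_lit 1) (Steps.fwd (nat_lit 2359296) (Steps.bwd (nat_lit 2) (Steps.fwd (nat_lit 262144) (Steps.bwd (nat_lit 3) (Steps.bwd (nat_lit 9) Steps.nil)))))) (nat_lit 104) (nat_lit 5)]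
noncomputable def R_39 : List (Rule) := [Rule.mk (nat_lit 1) (nat_lit 154) (Steps.bwd (nat_lit 6) (Steps.bwd (nat_lit 1) (Steps.bwd (nat_lit 4) (Steps.fwd (nat_lit 262144) (Steps.bwd (nat_lit 6) (Steps.fwd (nat_lit 262144) (Steps.bwd (nat_lit 4) Steps.nil))))))) (nat_lit 74) (nat_lit 3),
  Rule.mk (nat_lit 4) (nat_lit 314) (Steps.bwd (nat_lit 8) (Steps.bwd (nat_lit 4) (Steps.bwd (nat_lit 9) (Steps.bwd (nat_lit 4) (Steps.fwd (nat_lit 2359296) (Steps.bwd (nat_lit 4) (Steps.fwd (nat_lit 2097152) (Steps.fwd (nat_lit 1048576) (Steps.fwd (nat_lit 2359296) (Steps.bwd (nat_lit 4) (Steps.bwd (nat_lit 9) (Steps.fwd (nat_lit 1048576) (Steps.fwd (nat_lit 2359296) (Steps.fwd (nat_lit 1048576) (Steps.fwd (nat_lit 2097152) Steps.nil))))))))))))))) (nat_lit 106) (nat_lit 0),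
  Rule.mk (nat_lit 7) (nat_lit 114) (Steps.fwd (nat_lit 524288) (Steps.fwd (nat_lit 1572864) (Steps.fwd (nat_lit 1835008) (Steps.bwd (nat_lit 2) (Steps.bwd (nat_lit 6) Steps.nil))))) (nat_lit 62) (nat_lit 3),
  Rule.mk (nat_lit 1) (nat_lit 114) (Steps.fwd (nat_lit 786432) (Steps.bwd (nat_lit 1) (Steps.bwd (nat_lit 2) (Steps.bwd (nat_lit 1) (Steps.bwd (nat_lit 2) Steps.nil))))) (nat_lit 12) (nat_lit 1),
  Rule.mk (nat_lit 7) (nat_lit 114) (Steps.bwd (nat_lit 2) (Steps.fwd (nat_lit 1572864) (Steps.bwd (nat_lit 7) (Steps.bwd (nat_lit 3) (Steps.bwd (nat_lit 6) Steps.nil))))) (nat_lit 62) (nat_lit 0),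
  Rule.mk (nat_lit 9) (nat_lit 314) (Steps.bwd (nat_lit 4) (Steps.bwd (nat_lit 8) (Steps.bwd (nat_lit 4) (Steps.bwd (nat_lit 9) (Steps.bwd (nat_lit 4) (Steps.bwd (nat_lit 8) (Steps.bwd (nat_lit 4) (Steps.fwd (nat_lit 2097152) (Steps.bwd (nat_lit 4) (Steps.fwd (nat_lit 2359296) (Steps.fwd (nat_lit 1048576) (Steps.fwd (nat_lit 2097152) (Steps.fwd (nat_lit 1048576) (Steps.fwd (nat_lit 2359296) (Steps.fwd (nat_lit 1048576) Steps.nil))))))))))))))) (nat_lit 106) (nat_lit 3),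
  Rule.mk (nat_lit 9) (nat_lit 314) (Steps.bwd (nat_lit 4) (Steps.bwd (nat_lit 8) (Steps.bwd (nat_lit 4) (Steps.bwd (nat_lit 9) (Steps.bwd (nat_lit 4) (Steps.fwd (nat_lit 2359296) (Steps.fwd (nat_lit 1048576) (Steps.fwd (nat_lit 2097152) (Steps.fwd (nat_lit 1048576) (Steps.fwd (nat_lit 2359296) (Steps.fwd (nat_lit 1048576) (Steps.bwd (nat_lit 9) (Steps.bwd (nat_lit 4) (Steps.fwd (nat_lit 2359296) (Steps.fwd (nat_lit 1048576) Steps.nil))))))))))))))) (nat_lit 106) (nat_lit 3),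
  Rule.mk (nat_lit 1) (nat_lit 114) (Steps.fwd (nat_lit 524288) (Steps.fwd (nat_lit 262144) (Steps.fwd (nat_lit 524288) (Steps.fwd (nat_lit 262144) (Steps.fwd (nat_lit 524288) Steps.nil))))) (nat_lit 13) (nat_lit 0),
  Rule.mk (nat_lit 0) (nat_lit 134) (Steps.fwd (nat_lit 2359296) (Steps.fwd (nat_lit 786432) (Steps.bwd (nat_lit 1) (Steps.fwd (nat_lit 524288) (Steps.bwd (nat_lit 9) (Steps.fwd (nat_lit 262144) Steps.nil)))))) (nat_lit 104) (nat_lit 0),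
  Rule.mk (nat_lit 9) (nat_lit 94) (Steps.fwd (nat_lit 1835008) (Steps.bwd (nat_lit 5) (Steps.bwd (nat_lit 8) (Steps.bwd (nat_lit 5) Steps.nil)))) (nat_lit 101) (nat_lit 0),
  Rule.mk (nat_lit 4) (nat_lit 314) (Steps.bwd (nat_lit 8) (Steps.bwd (nat_lit 4) (Steps.bwd (nat_lit 9) (Steps.fwd (nat_lit 1048576) (Steps.fwd (nat_lit 2359296) (Steps.bwd (nat_lit 4) (Steps.bwd (nat_lit 9) (Steps.bwd (nat_lit 4) (Steps.bwd (nat_lit 8) (Steps.bwd (nat_lit 4) (Steps.fwd (nat_lit 2097152) (Steps.fwd (nat_lit 1048576) (Steps.fwd (nat_lit 2359296) (Steps.fwd (nat_lit 1048576) (Steps.fwd (nat_lit 2097152) Steps.nil))))))))))))))) (nat_lit 106) (nat_lit 0),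
  Rule.mk (nat_lit 9) (nat_lit 94) (Steps.bwd (nat_lit 5) (Steps.bwd (nat_lit 7) (Steps.bwd (nat_lit 8) (Steps.fwd (nat_lit 1310720) Steps.nil)))) (nat_lit 100) (nat_lit 3),
  Rule.mk (nat_lit 1) (nat_lit 154) (Steps.bwd (nat_lit 4) (Steps.bwd (nat_lit 1) (Steps.fwd (nat_lit 1572864) (Steps.fwd (nat_lit 262144) (Steps.fwd (nat_lit 1048576) (Steps.fwd (nat_lit 262144) (Steps.fwd (nat_lit 1572864) Steps.nil))))))) (nat_lit 74) (nat_lit 1),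
  Rule.mk (nat_lit 1) (nat_lit 154) (Steps.bwd (nat_lit 6) (Steps.bwd (nat_lit 1) (Steps.bwd (nat_lit 4) (Steps.bwd (nat_lit 1) (Steps.fwd (nat_lit 1572864) (Steps.bwd (nat_lit 1) (Steps.fwd (nat_lit 1048576) Steps.nil))))))) (nat_lit 74) (nat_lit 3),
  Rule.mk (nat_lit 8) (nat_lit 314) (Steps.bwd (nat_lit 4) (Steps.bwd (nat_lit 9) (Steps.bwd (nat_lit 4) (Steps.bwd (nat_lit 8) (Steps.bwd (nat_lit 4) (Steps.fwd (nat_lit 2097152) (Steps.bwd (nat_lit 4) (Steps.bwd (nat_lit 8) (Steps.fwd (nat_lit 1048576) (Steps.fwd (nat_lit 2097152) (Steps.fwd (nat_lit 1048576) (Steps.fwd (nat_lit 2359296) (Steps.fwd (nat_lit 1048576) (Steps.fwd (nat_lit 2097152) (Steps.fwd (nat_lit 1048576) Steps.nil))))))))))))))) (nat_lit 106) (nat_lit 1),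
  Rule.mk (nat_lit 9) (nat_lit 314) (Steps.bwd (nat_lit 4) (Steps.bwd (nat_lit 8) (Steps.bwd (nat_lit 4) (Steps.bwd (nat_lit 9) (Steps.bwd (nat_lit 4) (Steps.bwd (nat_lit 8) (Steps.bwd (nat_lit 4) (Steps.bwd (nat_lit 9) (Steps.fwd (nat_lit 1048576) (Steps.fwd (nat_lit 2359296) (Steps.fwd (nat_lit 1048576) (Steps.fwd (nat_lit 2097152) (Steps.fwd (nat_lit 1048576) (Steps.fwd (nat_lit 2359296) (Steps.fwd (nat_lit 1048576) Steps.nil))))))))))))))) (nat_lit 106) (nat_lit 3),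
  Rule.mk (nat_lit 8) (nat_lit 314) (Steps.bwd (nat_lit 4) (Steps.bwd (nat_lit 9) (Steps.bwd (nat_lit 4) (Steps.bwd (nat_lit 8) (Steps.bwd (nat_lit 4) (Steps.bwd (nat_lit 9) (Steps.fwd (nat_lit 1048576) (Steps.fwd (nat_lit 2359296) (Steps.fwd (nat_lit 1048576) (Steps.bwd (nat_lit 9) (Steps.fwd (nat_lit 1048576) (Steps.fwd (nat_lit 2359296) (Steps.fwd (nat_lit 1048576) (Steps.fwd (nat_lit 2097152) (Steps.fwd (nat_lit 1048576) Steps.nil))))))))))))))) (nat_lit 106) (nat_lit 1),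
  Rule.mk (nat_lit 9) (nat_lit 314) (Steps.bwd (nat_lit 4) (Steps.bwd (nat_lit 8) (Steps.bwd (nat_lit 4) (Steps.bwd (nat_lit 9) (Steps.bwd (nat_lit 4) (Steps.bwd (nat_lit 8) (Steps.bwd (nat_lit 4) (Steps.fwd (nat_lit 2097152) (Steps.fwd (nat_lit 1048576) (Steps.bwd (nat_lit 8) (Steps.fwd (nat_lit 1048576) (Steps.fwd (nat_lit 2097152) (Steps.fwd (nat_lit 1048576) (Steps.fwd (nat_lit 2359296) (Steps.fwd (nat_lit 1048576) Steps.nil))))))))))))))) (nat_lit 106) (nat_lit 3),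
  Rule.mk (nat_lit 8) (nat_lit 94) (Steps.fwd (nat_lit 1310720) (Steps.bwd (nat_lit 9) (Steps.fwd (nat_lit 1310720) (Steps.fwd (nat_lit 1835008) Steps.nil)))) (nat_lit 100) (nat_lit 1),
  Rule.mk (nat_lit 8) (nat_lit 94) (Steps.bwd (nat_lit 5) (Steps.fwd (nat_lit 2097152) (Steps.bwd (nat_lit 7) (Steps.bwd (nat_lit 5) Steps.nil)))) (nat_lit 101) (nat_lit 3),
  Rule.mk (nat_lit 8) (nat_lit 74) (Steps.fwd (nat_lit 524288) (Steps.fwd (nat_lit 2097152) (Steps.bwd (nat_lit 2) Steps.nil))) (nat_lit 97) (nat_lit 2),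
  Rule.mk (nat_lit 9) (nat_lit 314) (Steps.bwd (nat_lit 4) (Steps.bwd (nat_lit 8) (Steps.bwd (nat_lit 4) (Steps.bwd (nat_lit 9) (Steps.bwd (nat_lit 4) (Steps.fwd (nat_lit 2359296) (Steps.fwd (nat_lit 1048576) (Steps.bwd (nat_lit 9) (Steps.fwd (nat_lit 1048576) (Steps.bwd (nat_lit 8) (Steps.fwd (nat_lit 1048576) (Steps.fwd (nat_lit 2097152) (Steps.fwd (nat_lit 1048576) (Steps.fwd (nat_lit 2359296) (Steps.fwd (nat_lit 1048576) Steps.nil))))))))))))))) (nat_lit 106) (nat_lit 3),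
  Rule.mk (nat_lit 8) (nat_lit 314) (Steps.bwd (nat_lit 4) (Steps.bwd (nat_lit 9) (Steps.bwd (nat_lit 4) (Steps.bwd (nat_lit 8) (Steps.bwd (nat_lit 4) (Steps.bwd (nat_lit 9) (Steps.fwd (nat_lit 1048576) (Steps.fwd (nat_lit 2359296) (Steps.fwd (nat_lit 1048576) (Steps.fwd (nat_lit 2097152) (Steps.fwd (nat_lit 1048576) (Steps.fwd (nat_lit 2359296) (Steps.bwd (nat_lit 4) (Steps.bwd (nat_lit 9) (Steps.fwd (nat_lit 1048576) Steps.nil))))))))))))))) (nat_lit 106) (nat_lit 1),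
  Rule.mk (nat_lit 9) (nat_lit 314) (Steps.bwd (nat_lit 4) (Steps.bwd (nat_lit 8) (Steps.bwd (nat_lit 4) (Steps.bwd (nat_lit 9) (Steps.bwd (nat_lit 4) (Steps.fwd (nat_lit 2359296) (Steps.fwd (nat_lit 1048576) (Steps.bwd (nat_lit 9) (Steps.bwd (nat_lit 4) (Steps.bwd (nat_lit 8) (Steps.bwd (nat_lit 4) (Steps.fwd (nat_lit 2097152) (Steps.bwd (nat_lit 4) (Steps.fwd (nat_lit 2359296) (Steps.fwd (nat_lit 1048576) Steps.nil))))))))))))))) (nat_lit 106) (nat_lit 3),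
  Rule.mk (nat_lit 8) (nat_lit 314) (Steps.bwd (nat_lit 4) (Steps.bwd (nat_lit 9) (Steps.bwd (nat_lit 4) (Steps.bwd (nat_lit 8) (Steps.bwd (nat_lit 4) (Steps.bwd (nat_lit 9) (Steps.bwd (nat_lit 4) (Steps.fwd (nat_lit 2359296) (Steps.fwd (nat_lit 1048576) (Steps.fwd (nat_lit 2097152) (Steps.fwd (nat_lit 1048576) (Steps.fwd (nat_lit 2359296) (Steps.bwd (nat_lit 4) (Steps.bwd (nat_lit 9) (Steps.fwd (nat_lit 1048576) Steps.nil))))))))))))))) (nat_lit 106) (nat_lit 1),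
  Rule.mk (nat_lit 9) (nat_lit 94) (Steps.fwd (nat_lit 1310720) (Steps.fwd (nat_lit 1835008) (Steps.bwd (nat_lit 8) (Steps.fwd (nat_lit 1310720) Steps.nil)))) (nat_lit 100) (nat_lit 3),
  Rule.mk (nat_lit 9) (nat_lit 314) (Steps.bwd (nat_lit 4) (Steps.fwd (nat_lit 2359296) (Steps.fwd (nat_lit 1048576) (Steps.bwd (nat_lit 9) (Steps.bwd (nat_lit 4) (Steps.bwd (nat_lit 8) (Steps.bwd (nat_lit 4) (Steps.bwd (nat_lit 9) (Steps.bwd (nat_lit 4) (Steps.fwd (nat_lit 2359296) (Steps.fwd (nat_lit 1048576) (Steps.fwd (nat_lit 2097152) (Steps.fwd (nat_lit 1048576) (Steps.fwd (nat_lit 2359296) (Steps.fwd (nat_lit 1048576) Steps.nil))))))))))))))) (nat_lit 106) (nat_lit 3),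
  Rule.mk (nat_lit 9) (nat_lit 314) (Steps.bwd (nat_lit 4) (Steps.bwd (nat_lit 8) (Steps.bwd (nat_lit 4) (Steps.bwd (nat_lit 9) (Steps.bwd (nat_lit 4) (Steps.fwd (nat_lit 2359296) (Steps.bwd (nat_lit 4) (Steps.bwd (nat_lit 9) (Steps.bwd (nat_lit 4) (Steps.fwd (nat_lit 2359296) (Steps.fwd (nat_lit 1048576) (Steps.fwd (nat_lit 2097152) (Steps.fwd (nat_lit 1048576) (Steps.fwd (nat_lit 2359296) (Steps.fwd (nat_lit 1048576) Steps.nil))))))))))))))) (nat_lit 106) (nat_lit 3),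
  Rule.mk (nat_lit 9) (nat_lit 314) (Steps.bwd (nat_lit 4) (Steps.bwd (nat_lit 8) (Steps.bwd (nat_lit 4) (Steps.bwd (nat_lit 9) (Steps.bwd (nat_lit 4) (Steps.fwd (nat_lit 2359296) (Steps.fwd (nat_lit 1048576) (Steps.bwd (nat_lit 9) (Steps.fwd (nat_lit 1048576) (Steps.fwd (nat_lit 2359296) (Steps.fwd (nat_lit 1048576) (Steps.fwd (nat_lit 2097152) (Steps.bwd (nat_lit 4) (Steps.fwd (nat_lit 2359296) (Steps.fwd (nat_lit 1048576) Steps.nil))))))))))))))) (nat_lit 106) (nat_lit 3),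
  Rule.mk (nat_lit 8) (nat_lit 74) (Steps.fwd (nat_lit 786432) (Steps.fwd (nat_lit 2097152) (Steps.bwd (nat_lit 3) Steps.nil))) (nat_lit 96) (nat_lit 1),
  Rule.mk (nat_lit 8) (nat_lit 314) (Steps.bwd (nat_lit 4) (Steps.bwd (nat_lit 9) (Steps.bwd (nat_lit 4) (Steps.bwd (nat_lit 8) (Steps.bwd (nat_lit 4) (Steps.bwd (nat_lit 9) (Steps.fwd (nat_lit 1048576) (Steps.fwd (nat_lit 2359296) (Steps.fwd (nat_lit 1048576) (Steps.bwd (nat_lit 9) (Steps.fwd (nat_lit 1048576) (Steps.fwd (nat_lit 2359296) (Steps.bwd (nat_lit 4) (Steps.bwd (nat_lit 9) (Steps.fwd (nat_lit 1048576) Steps.nil))))))))))))))) (nat_lit 106) (nat_lit 1),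
  Rule.mk (nat_lit 9) (nat_lit 94) (Steps.bwd (nat_lit 5) (Steps.fwd (nat_lit 1835008) (Steps.bwd (nat_lit 8) (Steps.bwd (nat_lit 5) Steps.nil)))) (nat_lit 100) (nat_lit 3),
  Rule.mk (nat_lit 9) (nat_lit 314) (Steps.bwd (nat_lit 4) (Steps.fwd (nat_lit 2359296) (Steps.fwd (nat_lit 1048576) (Steps.bwd (nat_lit 9) (Steps.bwd (nat_lit 4) (Steps.fwd (nat_lit 2359296) (Steps.fwd (nat_lit 1048576) (Steps.fwd (nat_lit 2097152) (Steps.bwd (nat_lit 4) (Steps.fwd (nat_lit 2359296) (Steps.fwd (nat_lit 1048576) (Steps.bwd (nat_lit 9) (Steps.bwd (nat_lit 4) (Steps.fwd (nat_lit 2359296) (Steps.fwd (nat_lit 1048576) Steps.nil))))))))))))))) (nat_lit 106) (nat_lit 3),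
  Rule.mk (nat_lit 8) (nat_lit 74) (Steps.fwd (nat_lit 786432) (Steps.bwd (nat_lit 9) (Steps.fwd (nat_lit 524288) Steps.nil))) (nat_lit 96) (nat_lit 1),
  Rule.mk (nat_lit 8) (nat_lit 314) (Steps.bwd (nat_lit 4) (Steps.bwd (nat_lit 9) (Steps.fwd (nat_lit 1048576) (Steps.bwd (nat_lit 8) (Steps.bwd (nat_lit 4) (Steps.bwd (nat_lit 9) (Steps.fwd (nat_lit 1048576) (Steps.fwd (nat_lit 2359296) (Steps.fwd (nat_lit 1048576) (Steps.bwd (nat_lit 9) (Steps.fwd (nat_lit 1048576) (Steps.fwd (nat_lit 2359296) (Steps.fwd (nat_lit 1048576) (Steps.fwd (nat_lit 2097152) (Steps.fwd (nat_lit 1048576) Steps.nil))))))))))))))) (nat_lit 106) (nat_lit 1),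
  Rule.mk (nat_lit 9) (nat_lit 314) (Steps.bwd (nat_lit 4) (Steps.bwd (nat_lit 8) (Steps.bwd (nat_lit 4) (Steps.bwd (nat_lit 9) (Steps.bwd (nat_lit 4) (Steps.bwd (nat_lit 8) (Steps.bwd (nat_lit 4) (Steps.bwd (nat_lit 9) (Steps.bwd (nat_lit 4) (Steps.fwd (nat_lit 2359296) (Steps.fwd (nat_lit 1048576) (Steps.fwd (nat_lit 2097152) (Steps.fwd (nat_lit 1048576) (Steps.fwd (nat_lit 2359296) (Steps.fwd (nat_lit 1048576) Steps.nil))))))))))))))) (nat_lit 106) (nat_lit 3),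
  Rule.mk (nat_lit 8) (nat_lit 74) (Steps.fwd (nat_lit 524288) (Steps.bwd (nat_lit 9) (Steps.fwd (nat_lit 786432) Steps.nil))) (nat_lit 97) (nat_lit 2),
  Rule.mk (nat_lit 6) (nat_lit 154) (Steps.bwd (nat_lit 2) (Steps.bwd (nat_lit 5) (Steps.bwd (nat_lit 2) (Steps.bwd (nat_lit 7) (Steps.bwd (nat_lit 6) (Steps.fwd (nat_lit 786432) (Steps.bwd (nat_lit 5) Steps.nil))))))) (nat_lit 84) (nat_lit 0),
  Rule.mk (nat_lit 6) (nat_lit 154) (Steps.bwd (nat_lit 2) (Steps.fwd (nat_lit 1310720) (Steps.bwd (nat_lit 2) (Steps.fwd (nat_lit 1835008) (Steps.bwd (nat_lit 6) (Steps.fwd (nat_lit 786432) (Steps.bwd (nat_lit 5) Steps.nil))))))) (nat_lit 84) (nat_lit 0),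
  Rule.mk (nat_lit 8) (nat_lit 314) (Steps.bwd (nat_lit 4) (Steps.bwd (nat_lit 9) (Steps.bwd (nat_lit 4) (Steps.bwd (nat_lit 8) (Steps.bwd (nat_lit 4) (Steps.bwd (nat_lit 9) (Steps.fwd (nat_lit 1048576) (Steps.bwd (nat_lit 8) (Steps.fwd (nat_lit 1048576) (Steps.bwd (nat_lit 9) (Steps.fwd (nat_lit 1048576) (Steps.fwd (nat_lit 2359296) (Steps.fwd (nat_lit 1048576) (Steps.fwd (nat_lit 2097152) (Steps.fwd (nat_lit 1048576) Steps.nil))))))))))))))) (nat_lit 106) (nat_lit 1),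
  Rule.mk (nat_lit 6) (nat_lit 274) (Steps.bwd (nat_lit 1) (Steps.bwd (nat_lit 6) (Steps.bwd (nat_lit 5) (Steps.fwd (nat_lit 786432) (Steps.fwd (nat_lit 262144) (Steps.fwd (nat_lit 1572864) (Steps.bwd (nat_lit 1) (Steps.bwd (nat_lit 2) (Steps.bwd (nat_lit 1) (Steps.fwd (nat_lit 1572864) (Steps.fwd (nat_lit 262144) (Steps.bwd (nat_lit 2) (Steps.bwd (nat_lit 1) Steps.nil))))))))))))) (nat_lit 34) (nat_lit 11),
  Rule.mk (nat_lit 9) (nat_lit 314) (Steps.bwd (nat_lit 4) (Steps.bwd (nat_lit 8) (Steps.bwd (nat_lit 4) (Steps.bwd (nat_lit 9) (Steps.bwd (nat_lit 4) (Steps.fwd (nat_lit 2359296) (Steps.bwd (nat_lit 4) (Steps.bwd (nat_lit 9) (Steps.fwd (nat_lit 1048576) (Steps.bwd (nat_lit 8) (Steps.fwd (nat_lit 1048576) (Steps.fwd (nat_lit 2097152) (Steps.fwd (nat_lit 1048576) (Steps.fwd (nat_lit 2359296) (Steps.fwd (nat_lit 1048576) Steps.nil))))))))))))))) (nat_lit 106)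 (nat_lit 3),
  Rule.mk (nat_lit 6) (nat_lit 274) (Steps.bwd (nat_lit 1) (Steps.bwd (nat_lit 6) (Steps.bwd (nat_lit 5) (Steps.fwd (nat_lit 786432) (Steps.fwd (nat_lit 262144) (Steps.fwd (nat_lit 1572864) (Steps.bwd (nat_lit 1) (Steps.bwd (nat_lit 2) (Steps.bwd (nat_lit 1) (Steps.bwd (nat_lit 6) (Steps.fwd (nat_lit 262144) (Steps.bwd (nat_lit 2) (Steps.bwd (nat_lit 1) Steps.nil))))))))))))) (nat_lit 34) (nat_lit 11),
  Rule.mk (nat_lit 2) (nat_lit 114) (Steps.bwd (nat_lit 6) (Steps.bwd (nat_lit 7) (Steps.fwd (nat_lit 524288) (Steps.bwd (nat_lit 6) (Steps.fwd (nat_lit 1835008) Steps.nil))))) (nat_lit 62) (nat_lit 1),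
  Rule.mk (nat_lit 9) (nat_lit 314) (Steps.bwd (nat_lit 4) (Steps.bwd (nat_lit 8) (Steps.bwd (nat_lit 4) (Steps.bwd (nat_lit 9) (Steps.bwd (nat_lit 4) (Steps.fwd (nat_lit 2359296) (Steps.bwd (nat_lit 4) (Steps.fwd (nat_lit 2097152) (Steps.fwd (nat_lit 1048576) (Steps.bwd (nat_lit 8) (Steps.fwd (nat_lit 1048576) (Steps.fwd (nat_lit 2097152) (Steps.fwd (nat_lit 1048576) (Steps.fwd (nat_lit 2359296) (Steps.fwd (nat_lit 1048576) Steps.nil))))))))))))))) (nat_lit 106) (nat_lit 3),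
  Rule.mk (nat_lit 2) (nat_lit 154) (Steps.bwd (nat_lit 1) (Steps.bwd (nat_lit 2) (Steps.fwd (nat_lit 1310720) (Steps.fwd (nat_lit 262144) (Steps.bwd (nat_lit 2) (Steps.fwd (nat_lit 262144) (Steps.bwd (nat_lit 5) Steps.nil))))))) (nat_lit 70) (nat_lit 5),
  Rule.mk (nat_lit 8) (nat_lit 314) (Steps.bwd (nat_lit 4) (Steps.bwd (nat_lit 9) (Steps.bwd (nat_lit 4) (Steps.bwd (nat_lit 8) (Steps.bwd (nat_lit 4) (Steps.bwd (nat_lit 9) (Steps.bwd (nat_lit 4) (Steps.bwd (nat_lit 8) (Steps.bwd (nat_lit 4) (Steps.bwd (nat_lit 9) (Steps.fwd (nat_lit 1048576) (Steps.fwd (nat_lit 2359296) (Steps.fwd (nat_lit 1048576) (Steps.fwd (nat_lit 2097152) (Steps.fwd (nat_lit 1048576) Steps.nil))))))))))))))) (nat_lit 106) (nat_lit 1),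
  Rule.mk (nat_lit 9) (nat_lit 314) (Steps.bwd (nat_lit 4) (Steps.bwd (nat_lit 8) (Steps.bwd (nat_lit 4) (Steps.bwd (nat_lit 9) (Steps.bwd (nat_lit 4) (Steps.fwd (nat_lit 2359296) (Steps.fwd (nat_lit 1048576) (Steps.fwd (nat_lit 2097152) (Steps.fwd (nat_lit 1048576) (Steps.fwd (nat_lit 2359296) (Steps.fwd (nat_lit 1048576) (Steps.fwd (nat_lit 2097152) (Steps.bwd (nat_lit 4) (Steps.fwd (nat_lit 2359296) (Steps.fwd (nat_lit 1048576) Steps.nil))))))))))))))) (nat_lit 106) (nat_lit 3),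
  Rule.mk (nat_lit 2) (nat_lit 154) (Steps.bwd (nat_lit 1) (Steps.bwd (nat_lit 2) (Steps.fwd (nat_lit 1310720) (Steps.fwd (nat_lit 262144) (Steps.bwd (nat_lit 2) (Steps.fwd (nat_lit 262144) (Steps.fwd (nat_lit 1310720) Steps.nil))))))) (nat_lit 70) (nat_lit 5),
  Rule.mk (nat_lit 1) (nat_lit 154) (Steps.bwd (nat_lit 3) (Steps.bwd (nat_lit 1) (Steps.bwd (nat_lit 7) (Steps.fwd (nat_lit 524288) (Steps.fwd (nat_lit 262144) (Steps.fwd (nat_lit 524288) (Steps.bwd (nat_lit 7) Steps.nil))))))) (nat_lit 73) (nat_lit 6),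
  Rule.mk (nat_lit 6) (nat_lit 114) (Steps.bwd (nat_lit 7) (Steps.bwd (nat_lit 3) (Steps.fwd (nat_lit 1572864) (Steps.fwd (nat_lit 1835008) (Steps.bwd (nat_lit 2) Steps.nil))))) (nat_lit 62) (nat_lit 2),
  Rule.mk (nat_lit 1) (nat_lit 154) (Steps.fwd (nat_lit 1310720) (Steps.bwd (nat_lit 3) (Steps.bwd (nat_lit 1) (Steps.bwd (nat_lit 3) (Steps.fwd (nat_lit 1310720) (Steps.fwd (nat_lit 262144) (Steps.fwd (nat_lit 524288) Steps.nil))))))) (nat_lit 71) (nat_lit 0),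
  Rule.mk (nat_lit 1) (nat_lit 114) (Steps.fwd (nat_lit 1835008) (Steps.fwd (nat_lit 1310720) (Steps.fwd (nat_lit 262144) (Steps.fwd (nat_lit 1835008) (Steps.bwd (nat_lit 5) Steps.nil))))) (nat_lit 53) (nat_lit 0),
  Rule.mk (nat_lit 1) (nat_lit 154) (Steps.bwd (nat_lit 6) (Steps.fwd (nat_lit 262144) (Steps.bwd (nat_lit 4) (Steps.bwd (nat_lit 1) (Steps.fwd (nat_lit 1572864) (Steps.bwd (nat_lit 1) (Steps.fwd (nat_lit 1048576) Steps.nil))))))) (nat_lit 74) (nat_lit 3),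
  Rule.mk (nat_lit 1) (nat_lit 154) (Steps.fwd (nat_lit 786432) (Steps.bwd (nat_lit 1) (Steps.fwd (nat_lit 1835008) (Steps.fwd (nat_lit 786432) (Steps.bwd (nat_lit 1) (Steps.fwd (nat_lit 786432) (Steps.bwd (nat_lit 7) Steps.nil))))))) (nat_lit 72) (nat_lit 1),
  Rule.mk (nat_lit 1) (nat_lit 154) (Steps.bwd (nat_lit 6) (Steps.fwd (nat_lit 262144) (Steps.bwd (nat_lit 4) (Steps.bwd (nat_lit 1) (Steps.fwd (nat_lit 1572864) (Steps.fwd (nat_lit 262144) (Steps.bwd (nat_lit 4) Steps.nil))))))) (nat_lit 74) (nat_lit 3),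
  Rule.mk (nat_lit 6) (nat_lit 274) (Steps.bwd (nat_lit 1) (Steps.fwd (nat_lit 524288) (Steps.bwd (nat_lit 1) (Steps.bwd (nat_lit 6) (Steps.fwd (nat_lit 262144) (Steps.fwd (nat_lit 524288) (Steps.fwd (nat_lit 262144) (Steps.fwd (nat_lit 1572864) (Steps.bwd (nat_lit 1) (Steps.fwd (nat_lit 524288) (Steps.fwd (nat_lit 1310720) (Steps.bwd (nat_lit 6) (Steps.fwd (nat_lit 262144) Steps.nil))))))))))))) (nat_lit 35) (nat_lit 4),
  Rule.mk (nat_lit 6) (nat_lit 274) (Steps.bwd (nat_lit 1) (Steps.fwd (nat_lit 524288) (Steps.fwd (nat_lit 1310720) (Steps.bwd (nat_lit 6) (Steps.fwd (nat_lit 262144) (Steps.bwd (nat_lit 6) (Steps.fwd (nat_lit 262144) (Steps.fwd (nat_lit 524288) (Steps.bwd (nat_lit 1) (Steps.fwd (nat_lit 1572864) (Steps.fwd (nat_lit 262144) (Steps.fwd (nat_lit 524288) (Steps.bwd (nat_lit 1) Steps.nil))))))))))))) (nat_lit 35) (nat_lit 12),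
  Rule.mk (nat_lit 6) (nat_lit 274) (Steps.bwd (nat_lit 1) (Steps.fwd (nat_lit 1572864) (Steps.bwd (nat_lit 5) (Steps.fwd (nat_lit 786432) (Steps.fwd (nat_lit 262144) (Steps.bwd (nat_lit 6) (Steps.bwd (nat_lit 1) (Steps.bwd (nat_lit 2) (Steps.bwd (nat_lit 1) (Steps.bwd (nat_lit 6) (Steps.fwd (nat_lit 262144) (Steps.bwd (nat_lit 2) (Steps.fwd (nat_lit 262144) Steps.nil))))))))))))) (nat_lit 34) (nat_lit 11),
  Rule.mk (nat_lit 8) (nat_lit 94) (Steps.bwd (nat_lit 5) (Steps.bwd (nat_lit 9) (Steps.bwd (nat_lit 7) (Steps.bwd (nat_lit 5) Steps.nil)))) (nat_lit 101) (nat_lit 3),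
  Rule.mk (nat_lit 9) (nat_lit 74) (Steps.fwd (nat_lit 786432) (Steps.bwd (nat_lit 8) (Steps.fwd (nat_lit 524288) Steps.nil))) (nat_lit 97) (nat_lit 0),
  Rule.mk (nat_lit 8) (nat_lit 94) (Steps.fwd (nat_lit 1310720) (Steps.bwd (nat_lit 9) (Steps.bwd (nat_lit 5) (Steps.fwd (nat_lit 1835008) Steps.nil)))) (nat_lit 100) (nat_lit 1),
  Rule.mk (nat_lit 6) (nat_lit 94) (Steps.fwd (nat_lit 1310720) (Steps.bwd (nat_lit 7) (Steps.bwd (nat_lit 6) (Steps.fwd (nat_lit 1310720) Steps.nil)))) (nat_lit 24) (nat_lit 3),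
  Rule.mk (nat_lit 9) (nat_lit 314) (Steps.bwd (nat_lit 4) (Steps.fwd (nat_lit 2359296) (Steps.fwd (nat_lit 1048576) (Steps.bwd (nat_lit 9) (Steps.bwd (nat_lit 4) (Steps.fwd (nat_lit 2359296) (Steps.fwd (nat_lit 1048576) (Steps.fwd (nat_lit 2097152) (Steps.bwd (nat_lit 4) (Steps.fwd (nat_lit 2359296) (Steps.fwd (nat_lit 1048576) (Steps.fwd (nat_lit 2097152) (Steps.bwd (nat_lit 4) (Steps.fwd (nat_lit 2359296) (Steps.fwd (nat_lit 1048576) Steps.nil))))))))))))))) (nat_lit 106) (nat_lit 3)]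
noncomputable def R_40 : List (Rule) := [Rule.mk (nat_lit 6) (nat_lit 94) (Steps.fwd (nat_lit 1310720) (Steps.bwd (nat_lit 7) (Steps.bwd (nat_lit 6) (Steps.bwd (nat_lit 5) Steps.nil)))) (nat_lit 24) (nat_lit 3),
  Rule.mk (nat_lit 6) (nat_lit 74) (Steps.fwd (nat_lit 2359296) (Steps.bwd (nat_lit 6) (Steps.fwd (nat_lit 2359296) Steps.nil))) (nat_lit 102) (nat_lit 1),
  Rule.mk (nat_lit 9) (nat_lit 314) (Steps.bwd (nat_lit 4) (Steps.fwd (nat_lit 2359296) (Steps.fwd (nat_lit 1048576) (Steps.bwd (nat_lit 9) (Steps.bwd (nat_lit 4) (Steps.fwd (nat_lit 2359296) (Steps.fwd (nat_lit 1048576) (Steps.bwd (nat_lit 9) (Steps.bwd (nat_lit 4) (Steps.fwd (nat_lit 2359296) (Steps.fwd (nat_lit 1048576) (Steps.bwd (nat_lit 9) (Steps.bwd (nat_lit 4) (Steps.fwd (nat_lit 2359296) (Steps.fwd (nat_lit 1048576) Steps.nil))))))))))))))) (nat_lit 106) (nat_lit 3),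
  Rule.mk (nat_lit 7) (nat_lit 114) (Steps.fwd (nat_lit 786432) (Steps.fwd (nat_lit 1572864) (Steps.fwd (nat_lit 1835008) (Steps.bwd (nat_lit 3) (Steps.bwd (nat_lit 6) Steps.nil))))) (nat_lit 62) (nat_lit 0),
  Rule.mk (nat_lit 9) (nat_lit 314) (Steps.bwd (nat_lit 4) (Steps.fwd (nat_lit 2359296) (Steps.fwd (nat_lit 1048576) (Steps.bwd (nat_lit 9) (Steps.bwd (nat_lit 4) (Steps.fwd (nat_lit 2359296) (Steps.fwd (nat_lit 1048576) (Steps.bwd (nat_lit 9) (Steps.bwd (nat_lit 4) (Steps.fwd (nat_lit 2359296) (Steps.fwd (nat_lit 1048576) (Steps.fwd (nat_lit 2097152) (Steps.bwd (nat_lit 4) (Steps.fwd (nat_lit 2359296) (Steps.fwd (nat_lit 1048576) Steps.nil))))))))))))))) (nat_lit 106) (nat_lit 3),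
  Rule.mk (nat_lit 8) (nat_lit 314) (Steps.bwd (nat_lit 4) (Steps.bwd (nat_lit 9) (Steps.fwd (nat_lit 1048576) (Steps.fwd (nat_lit 2359296) (Steps.bwd (nat_lit 4) (Steps.bwd (nat_lit 9) (Steps.fwd (nat_lit 1048576) (Steps.bwd (nat_lit 8) (Steps.bwd (nat_lit 4) (Steps.bwd (nat_lit 9) (Steps.fwd (nat_lit 1048576) (Steps.bwd (nat_lit 8) (Steps.bwd (nat_lit 4) (Steps.bwd (nat_lit 9) (Steps.fwd (nat_lit 1048576) Steps.nil))))))))))))))) (nat_lit 106) (nat_lit 1),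
  Rule.mk (nat_lit 8) (nat_lit 314) (Steps.bwd (nat_lit 4) (Steps.bwd (nat_lit 9) (Steps.fwd (nat_lit 1048576) (Steps.bwd (nat_lit 8) (Steps.bwd (nat_lit 4) (Steps.bwd (nat_lit 9) (Steps.fwd (nat_lit 1048576) (Steps.bwd (nat_lit 8) (Steps.bwd (nat_lit 4) (Steps.bwd (nat_lit 9) (Steps.fwd (nat_lit 1048576) (Steps.bwd (nat_lit 8) (Steps.bwd (nat_lit 4) (Steps.bwd (nat_lit 9) (Steps.fwd (nat_lit 1048576) Steps.nil))))))))))))))) (nat_lit 106) (nat_lit 1),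
  Rule.mk (nat_lit 9) (nat_lit 74) (Steps.fwd (nat_lit 524288) (Steps.bwd (nat_lit 8) (Steps.fwd (nat_lit 786432) Steps.nil))) (nat_lit 96) (nat_lit 3),
  Rule.mk (nat_lit 3) (nat_lit 154) (Steps.bwd (nat_lit 1) (Steps.bwd (nat_lit 5) (Steps.fwd (nat_lit 524288) (Steps.bwd (nat_lit 1) (Steps.bwd (nat_lit 3) (Steps.fwd (nat_lit 1310720) (Steps.bwd (nat_lit 1) Steps.nil))))))) (nat_lit 71) (nat_lit 7),
  Rule.mk (nat_lit 1) (nat_lit 154) (Steps.fwd (nat_lit 786432) (Steps.bwd (nat_lit 1) (Steps.fwd (nat_lit 1310720) (Steps.bwd (nat_lit 2) (Steps.fwd (nat_lit 262144) (Steps.fwd (nat_lit 786432) (Steps.bwd (nat_lit 5) Steps.nil))))))) (nat_lit 70) (nat_lit 1),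
  Rule.mk (nat_lit 7) (nat_lit 154) (Steps.bwd (nat_lit 2) (Steps.fwd (nat_lit 262144) (Steps.bwd (nat_lit 2) (Steps.fwd (nat_lit 1835008) (Steps.fwd (nat_lit 262144) (Steps.bwd (nat_lit 2) (Steps.bwd (nat_lit 1) Steps.nil))))))) (nat_lit 72) (nat_lit 4),
  Rule.mk (nat_lit 1) (nat_lit 154) (Steps.fwd (nat_lit 1835008) (Steps.bwd (nat_lit 2) (Steps.bwd (nat_lit 1) (Steps.bwd (nat_lit 2) (Steps.bwd (nat_lit 7) (Steps.bwd (nat_lit 1) (Steps.fwd (nat_lit 786432) Steps.nil))))))) (nat_lit 72) (nat_lit 3),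
  Rule.mk (nat_lit 6) (nat_lit 154) (Steps.bwd (nat_lit 1) (Steps.bwd (nat_lit 4) (Steps.bwd (nat_lit 1) (Steps.fwd (nat_lit 1572864) (Steps.fwd (nat_lit 262144) (Steps.bwd (nat_lit 4) (Steps.fwd (nat_lit 262144) Steps.nil))))))) (nat_lit 74) (nat_lit 0),
  Rule.mk (nat_lit 1) (nat_lit 114) (Steps.fwd (nat_lit 524288) (Steps.fwd (nat_lit 2097152) (Steps.bwd (nat_lit 1) (Steps.bwd (nat_lit 8) (Steps.bwd (nat_lit 2) Steps.nil))))) (nat_lit 104) (nat_lit 3),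
  Rule.mk (nat_lit 6) (nat_lit 94) (Steps.fwd (nat_lit 1835008) (Steps.bwd (nat_lit 5) (Steps.bwd (nat_lit 6) (Steps.fwd (nat_lit 1310720) Steps.nil)))) (nat_lit 25) (nat_lit 0),
  Rule.mk (nat_lit 1) (nat_lit 114) (Steps.fwd (nat_lit 524288) (Steps.fwd (nat_lit 2097152) (Steps.fwd (nat_lit 262144) (Steps.fwd (nat_lit 2359296) (Steps.bwd (nat_lit 2) Steps.nil))))) (nat_lit 104) (nat_lit 3),
  Rule.mk (nat_lit 8) (nat_lit 314) (Steps.bwd (nat_lit 4) (Steps.bwd (nat_lit 9) (Steps.bwd (nat_lit 4) (Steps.bwd (nat_lit 8) (Steps.bwd (nat_lit 4) (Steps.fwd (nat_lit 2097152) (Steps.bwd (nat_lit 4) (Steps.fwd (nat_lit 2359296) (Steps.fwd (nat_lit 1048576) (Steps.bwd (nat_lit 9) (Steps.fwd (nat_lit 1048576) (Steps.fwd (nat_lit 2359296) (Steps.fwd (nat_lit 1048576) (Steps.fwd (nat_lit 2097152) (Steps.fwd (nat_lit 1048576) Steps.nil))))))))))))))) (nat_lit 106) (nat_lit 1),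
  Rule.mk (nat_lit 9) (nat_lit 314) (Steps.bwd (nat_lit 4) (Steps.bwd (nat_lit 8) (Steps.bwd (nat_lit 4) (Steps.bwd (nat_lit 9) (Steps.bwd (nat_lit 4) (Steps.bwd (nat_lit 8) (Steps.fwd (nat_lit 1048576) (Steps.bwd (nat_lit 9) (Steps.fwd (nat_lit 1048576) (Steps.fwd (nat_lit 2359296) (Steps.fwd (nat_lit 1048576) (Steps.fwd (nat_lit 2097152) (Steps.fwd (nat_lit 1048576) (Steps.fwd (nat_lit 2359296) (Steps.fwd (nat_lit 1048576) Steps.nil))))))))))))))) (nat_lit 106) (nat_lit 3),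
  Rule.mk (nat_lit 8) (nat_lit 314) (Steps.bwd (nat_lit 4) (Steps.bwd (nat_lit 9) (Steps.fwd (nat_lit 1048576) (Steps.bwd (nat_lit 8) (Steps.fwd (nat_lit 1048576) (Steps.fwd (nat_lit 2097152) (Steps.fwd (nat_lit 1048576) (Steps.fwd (nat_lit 2359296) (Steps.bwd (nat_lit 4) (Steps.bwd (nat_lit 9) (Steps.fwd (nat_lit 1048576) (Steps.fwd (nat_lit 2359296) (Steps.fwd (nat_lit 1048576) (Steps.fwd (nat_lit 2097152) (Steps.fwd (nat_lit 1048576) Steps.nil))))))))))))))) (nat_lit 106) (nat_lit 1),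
  Rule.mk (nat_lit 8) (nat_lit 314) (Steps.bwd (nat_lit 4) (Steps.bwd (nat_lit 9) (Steps.bwd (nat_lit 4) (Steps.bwd (nat_lit 8) (Steps.bwd (nat_lit 4) (Steps.bwd (nat_lit 9) (Steps.fwd (nat_lit 1048576) (Steps.fwd (nat_lit 2359296) (Steps.fwd (nat_lit 1048576) (Steps.fwd (nat_lit 2097152) (Steps.fwd (nat_lit 1048576) (Steps.bwd (nat_lit 8) (Steps.bwd (nat_lit 4) (Steps.bwd (nat_lit 9) (Steps.fwd (nat_lit 1048576) Steps.nil))))))))))))))) (nat_lit 106) (nat_lit 1),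
  Rule.mk (nat_lit 9) (nat_lit 314) (Steps.bwd (nat_lit 4) (Steps.fwd (nat_lit 2359296) (Steps.bwd (nat_lit 4) (Steps.bwd (nat_lit 9) (Steps.bwd (nat_lit 4) (Steps.fwd (nat_lit 2359296) (Steps.fwd (nat_lit 1048576) (Steps.fwd (nat_lit 2097152) (Steps.fwd (nat_lit 1048576) (Steps.fwd (nat_lit 2359296) (Steps.fwd (nat_lit 1048576) (Steps.bwd (nat_lit 9) (Steps.bwd (nat_lit 4) (Steps.fwd (nat_lit 2359296) (Steps.fwd (nat_lit 1048576) Steps.nil))))))))))))))) (nat_lit 106) (nat_lit 3),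
  Rule.mk (nat_lit 8) (nat_lit 314) (Steps.bwd (nat_lit 4) (Steps.bwd (nat_lit 9) (Steps.bwd (nat_lit 4) (Steps.bwd (nat_lit 8) (Steps.bwd (nat_lit 4) (Steps.bwd (nat_lit 9) (Steps.fwd (nat_lit 1048576) (Steps.fwd (nat_lit 2359296) (Steps.fwd (nat_lit 1048576) (Steps.bwd (nat_lit 9) (Steps.fwd (nat_lit 1048576) (Steps.bwd (nat_lit 8) (Steps.bwd (nat_lit 4) (Steps.bwd (nat_lit 9) (Steps.fwd (nat_lit 1048576) Steps.nil))))))))))))))) (nat_lit 106) (nat_lit 1),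
  Rule.mk (nat_lit 9) (nat_lit 314) (Steps.bwd (nat_lit 4) (Steps.fwd (nat_lit 2359296) (Steps.bwd (nat_lit 4) (Steps.bwd (nat_lit 9) (Steps.bwd (nat_lit 4) (Steps.fwd (nat_lit 2359296) (Steps.fwd (nat_lit 1048576) (Steps.fwd (nat_lit 2097152) (Steps.fwd (nat_lit 1048576) (Steps.fwd (nat_lit 2359296) (Steps.fwd (nat_lit 1048576) (Steps.fwd (nat_lit 2097152) (Steps.bwd (nat_lit 4) (Steps.fwd (nat_lit 2359296) (Steps.fwd (nat_lit 1048576) Steps.nil))))))))))))))) (nat_lit 106) (nat_lit 3),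
  Rule.mk (nat_lit 9) (nat_lit 94) (Steps.bwd (nat_lit 5) (Steps.bwd (nat_lit 7) (Steps.bwd (nat_lit 8) (Steps.bwd (nat_lit 5) Steps.nil)))) (nat_lit 100) (nat_lit 3),
  Rule.mk (nat_lit 9) (nat_lit 314) (Steps.bwd (nat_lit 4) (Steps.fwd (nat_lit 2359296) (Steps.fwd (nat_lit 1048576) (Steps.bwd (nat_lit 9) (Steps.bwd (nat_lit 4) (Steps.fwd (nat_lit 2359296) (Steps.fwd (nat_lit 1048576) (Steps.fwd (nat_lit 2097152) (Steps.fwd (nat_lit 1048576) (Steps.fwd (nat_lit 2359296) (Steps.fwd (nat_lit 1048576) (Steps.bwd (nat_lit 9) (Steps.bwd (nat_lit 4) (Steps.fwd (nat_lit 2359296) (Steps.fwd (nat_lit 1048576) Steps.nil))))))))))))))) (nat_lit 106) (nat_lit 3),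
  Rule.mk (nat_lit 8) (nat_lit 314) (Steps.bwd (nat_lit 4) (Steps.bwd (nat_lit 9) (Steps.fwd (nat_lit 1048576) (Steps.bwd (nat_lit 8) (Steps.bwd (nat_lit 4) (Steps.bwd (nat_lit 9) (Steps.bwd (nat_lit 4) (Steps.fwd (nat_lit 2359296) (Steps.bwd (nat_lit 4) (Steps.bwd (nat_lit 9) (Steps.fwd (nat_lit 1048576) (Steps.fwd (nat_lit 2359296) (Steps.fwd (nat_lit 1048576) (Steps.fwd (nat_lit 2097152) (Steps.fwd (nat_lit 1048576) Steps.nil))))))))))))))) (nat_lit 106) (nat_lit 1),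
  Rule.mk (nat_lit 8) (nat_lit 94) (Steps.fwd (nat_lit 1310720) (Steps.bwd (nat_lit 9) (Steps.fwd (nat_lit 1835008) (Steps.fwd (nat_lit 1310720) Steps.nil)))) (nat_lit 101) (nat_lit 3),
  Rule.mk (nat_lit 8) (nat_lit 314) (Steps.bwd (nat_lit 4) (Steps.bwd (nat_lit 9) (Steps.bwd (nat_lit 4) (Steps.bwd (nat_lit 8) (Steps.bwd (nat_lit 4) (Steps.bwd (nat_lit 9) (Steps.fwd (nat_lit 1048576) (Steps.bwd (nat_lit 8) (Steps.bwd (nat_lit 4) (Steps.fwd (nat_lit 2097152) (Steps.fwd (nat_lit 1048576) (Steps.fwd (nat_lit 2359296) (Steps.fwd (nat_lit 1048576) (Steps.fwd (nat_lit 2097152) (Steps.fwd (nat_lit 1048576) Steps.nil))))))))))))))) (nat_lit 106) (nat_lit 1),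
  Rule.mk (nat_lit 9) (nat_lit 314) (Steps.bwd (nat_lit 4) (Steps.bwd (nat_lit 8) (Steps.bwd (nat_lit 4) (Steps.bwd (nat_lit 9) (Steps.bwd (nat_lit 4) (Steps.bwd (nat_lit 8) (Steps.fwd (nat_lit 1048576) (Steps.fwd (nat_lit 2097152) (Steps.fwd (nat_lit 1048576) (Steps.fwd (nat_lit 2359296) (Steps.fwd (nat_lit 1048576) (Steps.fwd (nat_lit 2097152) (Steps.bwd (nat_lit 4) (Steps.fwd (nat_lit 2359296) (Steps.fwd (nat_lit 1048576) Steps.nil))))))))))))))) (nat_lit 106) (nat_lit 3),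
  Rule.mk (nat_lit 1) (nat_lit 154) (Steps.fwd (nat_lit 786432) (Steps.bwd (nat_lit 1) (Steps.bwd (nat_lit 5) (Steps.fwd (nat_lit 786432) (Steps.fwd (nat_lit 262144) (Steps.bwd (nat_lit 2) (Steps.fwd (nat_lit 1310720) Steps.nil))))))) (nat_lit 70) (nat_lit 1),
  Rule.mk (nat_lit 6) (nat_lit 274) (Steps.bwd (nat_lit 1) (Steps.bwd (nat_lit 6) (Steps.bwd (nat_lit 5) (Steps.fwd (nat_lit 786432) (Steps.fwd (nat_lit 262144) (Steps.bwd (nat_lit 6) (Steps.bwd (nat_lit 1) (Steps.fwd (nat_lit 786432) (Steps.bwd (nat_lit 1) (Steps.bwd (nat_lit 6) (Steps.fwd (nat_lit 262144) (Steps.bwd (nat_lit 2) (Steps.bwd (nat_lit 1) Steps.nil))))))))))))) (nat_lit 34) (nat_lit 11),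
  Rule.mk (nat_lit 6) (nat_lit 114) (Steps.fwd (nat_lit 1835008) (Steps.bwd (nat_lit 2) (Steps.fwd (nat_lit 1572864) (Steps.bwd (nat_lit 7) (Steps.bwd (nat_lit 3) Steps.nil))))) (nat_lit 62) (nat_lit 5),
  Rule.mk (nat_lit 6) (nat_lit 114) (Steps.bwd (nat_lit 2) (Steps.bwd (nat_lit 7) (Steps.bwd (nat_lit 6) (Steps.fwd (nat_lit 524288) (Steps.bwd (nat_lit 7) Steps.nil))))) (nat_lit 63) (nat_lit 2),
  Rule.mk (nat_lit 1) (nat_lit 154) (Steps.fwd (nat_lit 1310720) (Steps.fwd (nat_lit 786432) (Steps.bwd (nat_lit 1) (Steps.bwd (nat_lit 2) (Steps.fwd (nat_lit 1310720) (Steps.fwd (nat_lit 262144) (Steps.bwd (nat_lit 2) Steps.nil))))))) (nat_lit 70) (nat_lit 3),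
  Rule.mk (nat_lit 6) (nat_lit 114) (Steps.fwd (nat_lit 1835008) (Steps.bwd (nat_lit 2) (Steps.fwd (nat_lit 1572864) (Steps.fwd (nat_lit 1835008) (Steps.bwd (nat_lit 3) Steps.nil))))) (nat_lit 62) (nat_lit 5),
  Rule.mk (nat_lit 6) (nat_lit 274) (Steps.fwd (nat_lit 262144) (Steps.fwd (nat_lit 524288) (Steps.bwd (nat_lit 1) (Steps.fwd (nat_lit 1572864) (Steps.fwd (nat_lit 262144) (Steps.fwd (nat_lit 524288) (Steps.fwd (nat_lit 262144) (Steps.bwd (nat_lit 6) (Steps.bwd (nat_lit 1) (Steps.bwd (nat_lit 3) (Steps.fwd (nat_lit 1310720) (Steps.bwd (nat_lit 6) (Steps.fwd (nat_lit 262144) Steps.nil))))))))))))) (nat_lit 35) (nat_lit 4),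
  Rule.mk (nat_lit 1) (nat_lit 154) (Steps.bwd (nat_lit 3) (Steps.bwd (nat_lit 1) (Steps.bwd (nat_lit 5) (Steps.fwd (nat_lit 524288) (Steps.fwd (nat_lit 262144) (Steps.bwd (nat_lit 3) (Steps.bwd (nat_lit 5) Steps.nil))))))) (nat_lit 71) (nat_lit 6),
  Rule.mk (nat_lit 9) (nat_lit 94) (Steps.fwd (nat_lit 1835008) (Steps.fwd (nat_lit 1310720) (Steps.fwd (nat_lit 2359296) (Steps.bwd (nat_lit 5) Steps.nil)))) (nat_lit 101) (nat_lit 0),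
  Rule.mk (nat_lit 6) (nat_lit 274) (Steps.bwd (nat_lit 1) (Steps.bwd (nat_lit 2) (Steps.bwd (nat_lit 1) (Steps.fwd (nat_lit 1572864) (Steps.fwd (nat_lit 262144) (Steps.bwd (nat_lit 2) (Steps.bwd (nat_lit 1) (Steps.fwd (nat_lit 1572864) (Steps.bwd (nat_lit 1) (Steps.bwd (nat_lit 6) (Steps.fwd (nat_lit 1310720) (Steps.fwd (nat_lit 786432) (Steps.fwd (nat_lit 262144) Steps.nil))))))))))))) (nat_lit 34) (nat_lit 3),
  Rule.mk (nat_lit 6) (nat_lit 114) (Steps.bwd (nat_lit 2) (Steps.fwd (nat_lit 1835008) (Steps.fwd (nat_lit 1572864) (Steps.bwd (nat_lit 3) (Steps.bwd (nat_lit 7) Steps.nil))))) (nat_lit 63) (nat_lit 2),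
  Rule.mk (nat_lit 8) (nat_lit 314) (Steps.bwd (nat_lit 4) (Steps.bwd (nat_lit 9) (Steps.bwd (nat_lit 4) (Steps.bwd (nat_lit 8) (Steps.bwd (nat_lit 4) (Steps.bwd (nat_lit 9) (Steps.fwd (nat_lit 1048576) (Steps.fwd (nat_lit 2359296) (Steps.bwd (nat_lit 4) (Steps.fwd (nat_lit 2097152) (Steps.fwd (nat_lit 1048576) (Steps.fwd (nat_lit 2359296) (Steps.fwd (nat_lit 1048576) (Steps.fwd (nat_lit 2097152) (Steps.fwd (nat_lit 1048576) Steps.nil))))))))))))))) (nat_lit 106) (nat_lit 1),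
  Rule.mk (nat_lit 6) (nat_lit 274) (Steps.fwd (nat_lit 262144) (Steps.fwd (nat_lit 524288) (Steps.bwd (nat_lit 1) (Steps.bwd (nat_lit 6) (Steps.fwd (nat_lit 262144) (Steps.fwd (nat_lit 524288) (Steps.fwd (nat_lit 262144) (Steps.bwd (nat_lit 6) (Steps.bwd (nat_lit 1) (Steps.bwd (nat_lit 3) (Steps.fwd (nat_lit 1310720) (Steps.fwd (nat_lit 1572864) (Steps.fwd (nat_lit 262144) Steps.nil))))))))))))) (nat_lit 35) (nat_lit 4),
  Rule.mk (nat_lit 6) (nat_lit 74) (Steps.fwd (nat_lit 1835008) (Steps.bwd (nat_lit 6) (Steps.fwd (nat_lit 1835008) Steps.nil))) (nat_lit 48) (nat_lit 1),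
  Rule.mk (nat_lit 3) (nat_lit 114) (Steps.fwd (nat_lit 1835008) (Steps.bwd (nat_lit 6) (Steps.bwd (nat_lit 2) (Steps.fwd (nat_lit 1835008) (Steps.fwd (nat_lit 1572864) Steps.nil))))) (nat_lit 63) (nat_lit 0),
  Rule.mk (nat_lit 1) (nat_lit 154) (Steps.bwd (nat_lit 3) (Steps.bwd (nat_lit 1) (Steps.bwd (nat_lit 5) (Steps.fwd (nat_lit 524288) (Steps.fwd (nat_lit 262144) (Steps.fwd (nat_lit 524288) (Steps.bwd (nat_lit 5) Steps.nil))))))) (nat_lit 71) (nat_lit 6),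
  Rule.mk (nat_lit 1) (nat_lit 114) (Steps.fwd (nat_lit 1835008) (Steps.bwd (nat_lit 5) (Steps.bwd (nat_lit 1) (Steps.bwd (nat_lit 7) (Steps.bwd (nat_lit 5) Steps.nil))))) (nat_lit 53) (nat_lit 0),
  Rule.mk (nat_lit 2) (nat_lit 154) (Steps.bwd (nat_lit 1) (Steps.bwd (nat_lit 2) (Steps.bwd (nat_lit 7) (Steps.fwd (nat_lit 262144) (Steps.bwd (nat_lit 2) (Steps.fwd (nat_lit 262144) (Steps.bwd (nat_lit 7) Steps.nil))))))) (nat_lit 72) (nat_lit 5),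
  Rule.mk (nat_lit 1) (nat_lit 154) (Steps.fwd (nat_lit 524288) (Steps.bwd (nat_lit 1) (Steps.bwd (nat_lit 5) (Steps.fwd (nat_lit 524288) (Steps.fwd (nat_lit 262144) (Steps.fwd (nat_lit 524288) (Steps.bwd (nat_lit 5) Steps.nil))))))) (nat_lit 71) (nat_lit 6),
  Rule.mk (nat_lit 9) (nat_lit 314) (Steps.bwd (nat_lit 4) (Steps.bwd (nat_lit 8) (Steps.bwd (nat_lit 4) (Steps.bwd (nat_lit 9) (Steps.bwd (nat_lit 4) (Steps.bwd (nat_lit 8) (Steps.bwd (nat_lit 4) (Steps.bwd (nat_lit 9) (Steps.fwd (nat_lit 1048576) (Steps.bwd (nat_lit 8) (Steps.fwd (nat_lit 1048576) (Steps.fwd (nat_lit 2097152) (Steps.fwd (nat_lit 1048576) (Steps.fwd (nat_lit 2359296) (Steps.fwd (nat_lit 1048576) Steps.nil))))))))))))))) (nat_lit 106) (nat_lit 3),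
  Rule.mk (nat_lit 6) (nat_lit 274) (Steps.bwd (nat_lit 1) (Steps.bwd (nat_lit 3) (Steps.fwd (nat_lit 1310720) (Steps.fwd (nat_lit 1572864) (Steps.fwd (nat_lit 262144) (Steps.fwd (nat_lit 1572864) (Steps.fwd (nat_lit 262144) (Steps.fwd (nat_lit 524288) (Steps.bwd (nat_lit 1) (Steps.bwd (nat_lit 6) (Steps.fwd (nat_lit 262144) (Steps.fwd (nat_lit 524288) (Steps.fwd (nat_lit 262144) Steps.nil))))))))))))) (nat_lit 35) (nat_lit 12),
  Rule.mk (nat_lit 2) (nat_lit 74) (Steps.fwd (nat_lit 1310720) (Steps.fwd (nat_lit 524288) (Steps.bwd (nat_lit 5) Steps.nil))) (nat_lit 20) (nat_lit 1),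
  Rule.mk (nat_lit 6) (nat_lit 94) (Steps.fwd (nat_lit 1310720) (Steps.fwd (nat_lit 1835008) (Steps.bwd (nat_lit 6) (Steps.bwd (nat_lit 5) Steps.nil)))) (nat_lit 24) (nat_lit 3),
  Rule.mk (nat_lit 1) (nat_lit 154) (Steps.fwd (nat_lit 786432) (Steps.fwd (nat_lit 262144) (Steps.fwd (nat_lit 1835008) (Steps.fwd (nat_lit 786432) (Steps.fwd (nat_lit 262144) (Steps.fwd (nat_lit 786432) (Steps.bwd (nat_lit 7) Steps.nil))))))) (nat_lit 72) (nat_lit 1),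
  Rule.mk (nat_lit 6) (nat_lit 274) (Steps.bwd (nat_lit 1) (Steps.bwd (nat_lit 3) (Steps.fwd (nat_lit 1310720) (Steps.bwd (nat_lit 6) (Steps.fwd (nat_lit 262144) (Steps.bwd (nat_lit 6) (Steps.fwd (nat_lit 262144) (Steps.fwd (nat_lit 524288) (Steps.bwd (nat_lit 1) (Steps.bwd (nat_lit 6) (Steps.fwd (nat_lit 262144) (Steps.fwd (nat_lit 524288) (Steps.fwd (nat_lit 262144) Steps.nil))))))))))))) (nat_lit 35) (nat_lit 12),
  Rule.mk (nat_lit 1) (nat_lit 154) (Steps.bwd (nat_lit 6) (Steps.bwd (nat_lit 1) (Steps.bwd (nat_lit 4) (Steps.bwd (nat_lit 1) (Steps.fwd (nat_lit 1572864) (Steps.fwd (nat_lit 262144) (Steps.bwd (nat_lit 4) Steps.nil))))))) (nat_lit 74) (nat_lit 3),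
  Rule.mk (nat_lit 1) (nat_lit 274) (Steps.bwd (nat_lit 6) (Steps.fwd (nat_lit 262144) (Steps.bwd (nat_lit 2) (Steps.bwd (nat_lit 1) (Steps.fwd (nat_lit 1572864) (Steps.fwd (nat_lit 262144) (Steps.fwd (nat_lit 786432) (Steps.bwd (nat_lit 1) (Steps.bwd (nat_lit 6) (Steps.fwd (nat_lit 262144) (Steps.bwd (nat_lit 6) (Steps.fwd (nat_lit 1310720) (Steps.fwd (nat_lit 786432) Steps.nil))))))))))))) (nat_lit 34) (nat_lit 2),
  Rule.mk (nat_lit 6) (nat_lit 154) (Steps.bwd (nat_lit 3) (Steps.fwd (nat_lit 1310720) (Steps.fwd (nat_lit 524288) (Steps.fwd (nat_lit 1835008) (Steps.bwd (nat_lit 6) (Steps.fwd (nat_lit 524288) (Steps.fwd (nat_lit 1310720) Steps.nil))))))) (nat_lit 83) (nat_lit 5),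
  Rule.mk (nat_lit 6) (nat_lit 274) (Steps.bwd (nat_lit 1) (Steps.bwd (nat_lit 3) (Steps.fwd (nat_lit 1310720) (Steps.bwd (nat_lit 6) (Steps.fwd (nat_lit 262144) (Steps.fwd (nat_lit 1572864) (Steps.fwd (nat_lit 262144) (Steps.fwd (nat_lit 524288) (Steps.bwd (nat_lit 1) (Steps.bwd (nat_lit 6) (Steps.fwd (nat_lit 262144) (Steps.fwd (nat_lit 524288) (Steps.bwd (nat_lit 1) Steps.nil))))))))))))) (nat_lit 35) (nat_lit 12),
  Rule.mk (nat_lit 1) (nat_lit 154) (Steps.bwd (nat_lit 6) (Steps.bwd (nat_lit 1) (Steps.fwd (nat_lit 1048576) (Steps.fwd (nat_lit 262144) (Steps.fwd (nat_lit 1572864) (Steps.bwd (nat_lit 1) (Steps.fwd (nat_lit 1048576) Steps.nil))))))) (nat_lit 74) (nat_lit 3),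
  Rule.mk (nat_lit 2) (nat_lit 154) (Steps.bwd (nat_lit 1) (Steps.bwd (nat_lit 2) (Steps.bwd (nat_lit 7) (Steps.fwd (nat_lit 262144) (Steps.bwd (nat_lit 2) (Steps.fwd (nat_lit 262144) (Steps.fwd (nat_lit 1835008) Steps.nil))))))) (nat_lit 72) (nat_lit 5),
  Rule.mk (nat_lit 6) (nat_lit 274) (Steps.bwd (nat_lit 1) (Steps.fwd (nat_lit 524288) (Steps.bwd (nat_lit 1) (Steps.bwd (nat_lit 6) (Steps.fwd (nat_lit 262144) (Steps.fwd (nat_lit 524288) (Steps.fwd (nat_lit 262144) (Steps.fwd (nat_lit 1572864) (Steps.bwd (nat_lit 1) (Steps.bwd (nat_lit 3) (Steps.bwd (nat_lit 5) (Steps.fwd (nat_lit 1572864) (Steps.fwd (nat_lit 262144) Steps.nil))))))))))))) (nat_lit 35) (nat_lit 4),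
  Rule.mk (nat_lit 6) (nat_lit 274) (Steps.bwd (nat_lit 1) (Steps.fwd (nat_lit 524288) (Steps.bwd (nat_lit 1) (Steps.fwd (nat_lit 1572864) (Steps.fwd (nat_lit 262144) (Steps.fwd (nat_lit 524288) (Steps.fwd (nat_lit 262144) (Steps.fwd (nat_lit 1572864) (Steps.bwd (nat_lit 1) (Steps.bwd (nat_lit 3) (Steps.fwd (nat_lit 1310720) (Steps.bwd (nat_lit 6) (Steps.fwd (nat_lit 262144) Steps.nil))))))))))))) (nat_lit 35) (nat_lit 4),
  Rule.mk (nat_lit 6) (nat_lit 154) (Steps.bwd (nat_lit 7) (Steps.fwd (nat_lit 786432) (Steps.fwd (nat_lit 1310720) (Steps.bwd (nat_lit 2) (Steps.fwd (nat_lit 1572864) (Steps.bwd (nat_lit 5) (Steps.bwd (nat_lit 2) Steps.nil))))))) (nat_lit 82) (nat_lit 7),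
  Rule.mk (nat_lit 6) (nat_lit 154) (Steps.fwd (nat_lit 1835008) (Steps.fwd (nat_lit 786432) (Steps.fwd (nat_lit 1310720) (Steps.fwd (nat_lit 786432) (Steps.fwd (nat_lit 1572864) (Steps.bwd (nat_lit 5) (Steps.bwd (nat_lit 2) Steps.nil))))))) (nat_lit 82) (nat_lit 7)]
noncomputable def R_41 : List (Rule) := [Rule.mk (nat_lit 1) (nat_lit 114) (Steps.fwd (nat_lit 1835008) (Steps.bwd (nat_lit 5) (Steps.fwd (nat_lit 262144) (Steps.bwd (nat_lit 7) (Steps.bwd (nat_lit 5) Steps.nil))))) (nat_lit 53) (nat_lit 0),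
  Rule.mk (nat_lit 1) (nat_lit 154) (Steps.bwd (nat_lit 6) (Steps.fwd (nat_lit 262144) (Steps.bwd (nat_lit 4) (Steps.bwd (nat_lit 1) (Steps.fwd (nat_lit 1572864) (Steps.bwd (nat_lit 1) (Steps.bwd (nat_lit 4) Steps.nil))))))) (nat_lit 74) (nat_lit 3),
  Rule.mk (nat_lit 1) (nat_lit 154) (Steps.bwd (nat_lit 6) (Steps.fwd (nat_lit 262144) (Steps.bwd (nat_lit 4) (Steps.bwd (nat_lit 1) (Steps.fwd (nat_lit 1572864) (Steps.fwd (nat_lit 262144) (Steps.fwd (nat_lit 1048576) Steps.nil))))))) (nat_lit 74) (nat_lit 3),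
  Rule.mk (nat_lit 9) (nat_lit 114) (Steps.fwd (nat_lit 262144) (Steps.fwd (nat_lit 2359296) (Steps.fwd (nat_lit 786432) (Steps.fwd (nat_lit 262144) (Steps.bwd (nat_lit 3) Steps.nil))))) (nat_lit 104) (nat_lit 5),
  Rule.mk (nat_lit 6) (nat_lit 154) (Steps.bwd (nat_lit 3) (Steps.fwd (nat_lit 1310720) (Steps.fwd (nat_lit 524288) (Steps.bwd (nat_lit 7) (Steps.fwd (nat_lit 1572864) (Steps.fwd (nat_lit 524288) (Steps.bwd (nat_lit 5) Steps.nil))))))) (nat_lit 83) (nat_lit 5),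
  Rule.mk (nat_lit 6) (nat_lit 94) (Steps.fwd (nat_lit 1835008) (Steps.bwd (nat_lit 5) (Steps.bwd (nat_lit 6) (Steps.bwd (nat_lit 5) Steps.nil)))) (nat_lit 25) (nat_lit 0),
  Rule.mk (nat_lit 8) (nat_lit 314) (Steps.bwd (nat_lit 4) (Steps.bwd (nat_lit 9) (Steps.bwd (nat_lit 4) (Steps.bwd (nat_lit 8) (Steps.bwd (nat_lit 4) (Steps.bwd (nat_lit 9) (Steps.fwd (nat_lit 1048576) (Steps.fwd (nat_lit 2359296) (Steps.bwd (nat_lit 4) (Steps.bwd (nat_lit 9) (Steps.fwd (nat_lit 1048576) (Steps.fwd (nat_lit 2359296) (Steps.bwd (nat_lit 4) (Steps.bwd (nat_lit 9) (Steps.fwd (nat_lit 1048576) Steps.nil))))))))))))))) (nat_lit 106) (nat_lit 1),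
  Rule.mk (nat_lit 8) (nat_lit 314) (Steps.bwd (nat_lit 4) (Steps.bwd (nat_lit 9) (Steps.bwd (nat_lit 4) (Steps.bwd (nat_lit 8) (Steps.bwd (nat_lit 4) (Steps.bwd (nat_lit 9) (Steps.bwd (nat_lit 4) (Steps.fwd (nat_lit 2359296) (Steps.bwd (nat_lit 4) (Steps.bwd (nat_lit 9) (Steps.fwd (nat_lit 1048576) (Steps.fwd (nat_lit 2359296) (Steps.fwd (nat_lit 1048576) (Steps.fwd (nat_lit 2097152) (Steps.fwd (nat_lit 1048576) Steps.nil))))))))))))))) (nat_lit 106) (nat_lit 1),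
  Rule.mk (nat_lit 4) (nat_lit 314) (Steps.fwd (nat_lit 2359296) (Steps.bwd (nat_lit 4) (Steps.bwd (nat_lit 9) (Steps.bwd (nat_lit 4) (Steps.bwd (nat_lit 8) (Steps.bwd (nat_lit 4) (Steps.bwd (nat_lit 9) (Steps.fwd (nat_lit 1048576) (Steps.fwd (nat_lit 2359296) (Steps.fwd (nat_lit 1048576) (Steps.fwd (nat_lit 2097152) (Steps.bwd (nat_lit 4) (Steps.fwd (nat_lit 2359296) (Steps.fwd (nat_lit 1048576) (Steps.bwd (nat_lit 9) Steps.nil))))))))))))))) (nat_lit 106) (nat_lit 0),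
  Rule.mk (nat_lit 1) (nat_lit 274) (Steps.bwd (nat_lit 6) (Steps.bwd (nat_lit 1) (Steps.fwd (nat_lit 786432) (Steps.fwd (nat_lit 262144) (Steps.fwd (nat_lit 1572864) (Steps.bwd (nat_lit 1) (Steps.bwd (nat_lit 6) (Steps.bwd (nat_lit 5) (Steps.bwd (nat_lit 2) (Steps.bwd (nat_lit 1) (Steps.bwd (nat_lit 6) (Steps.fwd (nat_lit 262144) (Steps.fwd (nat_lit 786432) Steps.nil))))))))))))) (nat_lit 34) (nat_lit 6),
  Rule.mk (nat_lit 4) (nat_lit 314) (Steps.bwd (nat_lit 8) (Steps.bwd (nat_lit 4) (Steps.bwd (nat_lit 9) (Steps.bwd (nat_lit 4) (Steps.bwd (nat_lit 8) (Steps.bwd (nat_lit 4) (Steps.bwd (nat_lit 9) (Steps.fwd (nat_lit 1048576) (Steps.fwd (nat_lit 2359296) (Steps.fwd (nat_lit 1048576) (Steps.fwd (nat_lit 2097152) (Steps.bwd (nat_lit 4) (Steps.fwd (nat_lit 2359296) (Steps.fwd (nat_lit 1048576) (Steps.bwd (nat_lit 9) Steps.nil))))))))))))))) (nat_lit 106) (nat_lit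 0),
  Rule.mk (nat_lit 4) (nat_lit 314) (Steps.bwd (nat_lit 9) (Steps.bwd (nat_lit 4) (Steps.fwd (nat_lit 2359296) (Steps.bwd (nat_lit 4) (Steps.bwd (nat_lit 9) (Steps.bwd (nat_lit 4) (Steps.fwd (nat_lit 2359296) (Steps.fwd (nat_lit 1048576) (Steps.fwd (nat_lit 2097152) (Steps.fwd (nat_lit 1048576) (Steps.fwd (nat_lit 2359296) (Steps.bwd (nat_lit 4) (Steps.bwd (nat_lit 9) (Steps.fwd (nat_lit 1048576) (Steps.fwd (nat_lit 2359296) Steps.nil))))))))))))))) (nat_lit 106) (nat_lit 2),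
  Rule.mk (nat_lit 4) (nat_lit 314) (Steps.bwd (nat_lit 8) (Steps.bwd (nat_lit 4) (Steps.bwd (nat_lit 9) (Steps.fwd (nat_lit 1048576) (Steps.bwd (nat_lit 8) (Steps.bwd (nat_lit 4) (Steps.bwd (nat_lit 9) (Steps.bwd (nat_lit 4) (Steps.fwd (nat_lit 2359296) (Steps.fwd (nat_lit 1048576) (Steps.fwd (nat_lit 2097152) (Steps.fwd (nat_lit 1048576) (Steps.fwd (nat_lit 2359296) (Steps.fwd (nat_lit 1048576) (Steps.fwd (nat_lit 2097152) Steps.nil))))))))))))))) (nat_lit 106) (nat_lit 0),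
  Rule.mk (nat_lit 1) (nat_lit 274) (Steps.bwd (nat_lit 6) (Steps.bwd (nat_lit 5) (Steps.bwd (nat_lit 2) (Steps.bwd (nat_lit 1) (Steps.bwd (nat_lit 6) (Steps.fwd (nat_lit 262144) (Steps.fwd (nat_lit 786432) (Steps.bwd (nat_lit 1) (Steps.fwd (nat_lit 1572864) (Steps.fwd (nat_lit 262144) (Steps.fwd (nat_lit 786432) (Steps.bwd (nat_lit 1) (Steps.bwd (nat_lit 6) Steps.nil))))))))))))) (nat_lit 34) (nat_lit 12),
  Rule.mk (nat_lit 1) (nat_lit 274) (Steps.bwd (nat_lit 6) (Steps.bwd (nat_lit 1) (Steps.fwd (nat_lit 524288) (Steps.fwd (nat_lit 1310720) (Steps.fwd (nat_lit 1572864) (Steps.fwd (nat_lit 262144) (Steps.fwd (nat_lit 1572864) (Steps.bwd (nat_lit 1) (Steps.fwd (nat_lit 524288) (Steps.bwd (nat_lit 1) (Steps.bwd (nat_lit 6) (Steps.fwd (nat_lit 262144) (Steps.fwd (nat_lit 524288) Steps.nil))))))))))))) (nat_lit 35) (nat_lit 11),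
  Rule.mk (nat_lit 6) (nat_lit 274) (Steps.bwd (nat_lit 1) (Steps.fwd (nat_lit 524288) (Steps.bwd (nat_lit 5) (Steps.fwd (nat_lit 1572864) (Steps.fwd (nat_lit 262144) (Steps.fwd (nat_lit 1572864) (Steps.bwd (nat_lit 1) (Steps.fwd (nat_lit 524288) (Steps.bwd (nat_lit 1) (Steps.bwd (nat_lit 6) (Steps.fwd (nat_lit 262144) (Steps.fwd (nat_lit 524288) (Steps.fwd (nat_lit 262144) Steps.nil))))))))))))) (nat_lit 35) (nat_lit 12),
  Rule.mk (nat_lit 1) (nat_lit 154) (Steps.bwd (nat_lit 7) (Steps.bwd (nat_lit 2) (Steps.bwd (nat_lit 1) (Steps.fwd (nat_lit 786432) (Steps.fwd (nat_lit 1835008) (Steps.fwd (nat_lit 262144) (Steps.bwd (nat_lit 2) Steps.nil))))))) (nat_lit 72) (nat_lit 3),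
  Rule.mk (nat_lit 6) (nat_lit 274) (Steps.bwd (nat_lit 1) (Steps.fwd (nat_lit 1572864) (Steps.bwd (nat_lit 5) (Steps.fwd (nat_lit 786432) (Steps.fwd (nat_lit 262144) (Steps.bwd (nat_lit 6) (Steps.fwd (nat_lit 262144) (Steps.fwd (nat_lit 786432) (Steps.bwd (nat_lit 1) (Steps.bwd (nat_lit 6) (Steps.fwd (nat_lit 262144) (Steps.bwd (nat_lit 2) (Steps.bwd (nat_lit 1) Steps.nil))))))))))))) (nat_lit 34) (nat_lit 11),
  Rule.mk (nat_lit 6) (nat_lit 274) (Steps.bwd (nat_lit 1) (Steps.fwd (nat_lit 524288) (Steps.bwd (nat_lit 5) (Steps.fwd (nat_lit 1572864) (Steps.fwd (nat_lit 262144) (Steps.fwd (nat_lit 1572864) (Steps.fwd (nat_lit 262144) (Steps.fwd (nat_lit 524288) (Steps.bwd (nat_lit 1) (Steps.fwd (nat_lit 1572864) (Steps.fwd (nat_lit 262144) (Steps.fwd (nat_lit 524288) (Steps.bwd (nat_lit 1) Steps.nil))))))))))))) (nat_lit 35) (nat_lit 12),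
  Rule.mk (nat_lit 4) (nat_lit 314) (Steps.bwd (nat_lit 8) (Steps.bwd (nat_lit 4) (Steps.bwd (nat_lit 9) (Steps.bwd (nat_lit 4) (Steps.fwd (nat_lit 2359296) (Steps.fwd (nat_lit 1048576) (Steps.bwd (nat_lit 9) (Steps.bwd (nat_lit 4) (Steps.bwd (nat_lit 8) (Steps.bwd (nat_lit 4) (Steps.bwd (nat_lit 9) (Steps.fwd (nat_lit 1048576) (Steps.fwd (nat_lit 2359296) (Steps.fwd (nat_lit 1048576) (Steps.fwd (nat_lit 2097152) Steps.nil))))))))))))))) (nat_lit 106) (nat_lit 0),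
  Rule.mk (nat_lit 9) (nat_lit 94) (Steps.fwd (nat_lit 1835008) (Steps.bwd (nat_lit 5) (Steps.fwd (nat_lit 2359296) (Steps.bwd (nat_lit 5) Steps.nil)))) (nat_lit 101) (nat_lit 0),
  Rule.mk (nat_lit 8) (nat_lit 314) (Steps.bwd (nat_lit 4) (Steps.bwd (nat_lit 9) (Steps.bwd (nat_lit 4) (Steps.bwd (nat_lit 8) (Steps.bwd (nat_lit 4) (Steps.fwd (nat_lit 2097152) (Steps.fwd (nat_lit 1048576) (Steps.fwd (nat_lit 2359296) (Steps.fwd (nat_lit 1048576) (Steps.fwd (nat_lit 2097152) (Steps.fwd (nat_lit 1048576) (Steps.bwd (nat_lit 8) (Steps.bwd (nat_lit 4) (Steps.bwd (nat_lit 9) (Steps.fwd (nat_lit 1048576) Steps.nil))))))))))))))) (nat_lit 106) (nat_lit 1),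
  Rule.mk (nat_lit 9) (nat_lit 314) (Steps.bwd (nat_lit 4) (Steps.bwd (nat_lit 8) (Steps.bwd (nat_lit 4) (Steps.bwd (nat_lit 9) (Steps.bwd (nat_lit 4) (Steps.fwd (nat_lit 2359296) (Steps.fwd (nat_lit 1048576) (Steps.bwd (nat_lit 9) (Steps.bwd (nat_lit 4) (Steps.fwd (nat_lit 2359296) (Steps.fwd (nat_lit 1048576) (Steps.fwd (nat_lit 2097152) (Steps.fwd (nat_lit 1048576) (Steps.fwd (nat_lit 2359296) (Steps.fwd (nat_lit 1048576) Steps.nil))))))))))))))) (nat_lit 106) (nat_lit 3),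
  Rule.mk (nat_lit 8) (nat_lit 314) (Steps.bwd (nat_lit 4) (Steps.bwd (nat_lit 9) (Steps.bwd (nat_lit 4) (Steps.bwd (nat_lit 8) (Steps.bwd (nat_lit 4) (Steps.bwd (nat_lit 9) (Steps.bwd (nat_lit 4) (Steps.fwd (nat_lit 2359296) (Steps.bwd (nat_lit 4) (Steps.fwd (nat_lit 2097152) (Steps.fwd (nat_lit 1048576) (Steps.fwd (nat_lit 2359296) (Steps.fwd (nat_lit 1048576) (Steps.fwd (nat_lit 2097152) (Steps.fwd (nat_lit 1048576) Steps.nil))))))))))))))) (nat_lit 106) (nat_lit 1),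
  Rule.mk (nat_lit 4) (nat_lit 114) (Steps.fwd (nat_lit 524288) (Steps.bwd (nat_lit 6) (Steps.bwd (nat_lit 4) (Steps.fwd (nat_lit 524288) (Steps.fwd (nat_lit 1310720) Steps.nil))))) (nat_lit 55) (nat_lit 5),
  Rule.mk (nat_lit 6) (nat_lit 274) (Steps.bwd (nat_lit 1) (Steps.fwd (nat_lit 524288) (Steps.bwd (nat_lit 1) (Steps.fwd (nat_lit 1572864) (Steps.fwd (nat_lit 262144) (Steps.bwd (nat_lit 3) (Steps.bwd (nat_lit 1) (Steps.bwd (nat_lit 6) (Steps.bwd (nat_lit 1) (Steps.fwd (nat_lit 524288) (Steps.bwd (nat_lit 5) (Steps.fwd (nat_lit 1572864) (Steps.fwd (nat_lit 262144) Steps.nil))))))))))))) (nat_lit 35) (nat_lit 4),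
  Rule.mk (nat_lit 7) (nat_lit 94) (Steps.bwd (nat_lit 6) (Steps.bwd (nat_lit 5) (Steps.fwd (nat_lit 1572864) (Steps.bwd (nat_lit 5) Steps.nil)))) (nat_lit 24) (nat_lit 0),
  Rule.mk (nat_lit 8) (nat_lit 94) (Steps.bwd (nat_lit 5) (Steps.fwd (nat_lit 2097152) (Steps.fwd (nat_lit 1835008) (Steps.bwd (nat_lit 5) Steps.nil)))) (nat_lit 101) (nat_lit 3),
  Rule.mk (nat_lit 8) (nat_lit 94) (Steps.bwd (nat_lit 5) (Steps.fwd (nat_lit 2097152) (Steps.fwd (nat_lit 1835008) (Steps.fwd (nat_lit 1310720) Steps.nil)))) (nat_lit 101) (nat_lit 3),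
  Rule.mk (nat_lit 6) (nat_lit 154) (Steps.bwd (nat_lit 1) (Steps.fwd (nat_lit 1048576) (Steps.fwd (nat_lit 262144) (Steps.fwd (nat_lit 1572864) (Steps.bwd (nat_lit 1) (Steps.bwd (nat_lit 4) (Steps.bwd (nat_lit 1) Steps.nil))))))) (nat_lit 74) (nat_lit 0),
  Rule.mk (nat_lit 7) (nat_lit 114) (Steps.fwd (nat_lit 524288) (Steps.bwd (nat_lit 6) (Steps.bwd (nat_lit 7) (Steps.fwd (nat_lit 786432) (Steps.bwd (nat_lit 6) Steps.nil))))) (nat_lit 62) (nat_lit 3),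
  Rule.mk (nat_lit 9) (nat_lit 314) (Steps.bwd (nat_lit 4) (Steps.fwd (nat_lit 2359296) (Steps.bwd (nat_lit 4) (Steps.fwd (nat_lit 2097152) (Steps.fwd (nat_lit 1048576) (Steps.fwd (nat_lit 2359296) (Steps.fwd (nat_lit 1048576) (Steps.fwd (nat_lit 2097152) (Steps.bwd (nat_lit 4) (Steps.fwd (nat_lit 2359296) (Steps.fwd (nat_lit 1048576) (Steps.bwd (nat_lit 9) (Steps.fwd (nat_lit 1048576) (Steps.fwd (nat_lit 2359296) (Steps.fwd (nat_lit 1048576) Steps.nil))))))))))))))) (nat_lit 106) (nat_lit 3),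
  Rule.mk (nat_lit 9) (nat_lit 314) (Steps.bwd (nat_lit 4) (Steps.fwd (nat_lit 2359296) (Steps.fwd (nat_lit 1048576) (Steps.bwd (nat_lit 9) (Steps.bwd (nat_lit 4) (Steps.bwd (nat_lit 8) (Steps.bwd (nat_lit 4) (Steps.fwd (nat_lit 2097152) (Steps.fwd (nat_lit 1048576) (Steps.fwd (nat_lit 2359296) (Steps.fwd (nat_lit 1048576) (Steps.fwd (nat_lit 2097152) (Steps.fwd (nat_lit 1048576) (Steps.fwd (nat_lit 2359296) (Steps.fwd (nat_lit 1048576) Steps.nil))))))))))))))) (nat_lit 106) (nat_lit 3),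
  Rule.mk (nat_lit 6) (nat_lit 154) (Steps.bwd (nat_lit 3) (Steps.bwd (nat_lit 5) (Steps.fwd (nat_lit 524288) (Steps.fwd (nat_lit 1835008) (Steps.fwd (nat_lit 1572864) (Steps.fwd (nat_lit 524288) (Steps.bwd (nat_lit 5) Steps.nil))))))) (nat_lit 83) (nat_lit 5),
  Rule.mk (nat_lit 4) (nat_lit 314) (Steps.bwd (nat_lit 9) (Steps.bwd (nat_lit 4) (Steps.fwd (nat_lit 2359296) (Steps.fwd (nat_lit 1048576) (Steps.bwd (nat_lit 9) (Steps.bwd (nat_lit 4) (Steps.fwd (nat_lit 2359296) (Steps.fwd (nat_lit 1048576) (Steps.fwd (nat_lit 2097152) (Steps.fwd (nat_lit 1048576) (Steps.bwd (nat_lit 8) (Steps.bwd (nat_lit 4) (Steps.bwd (nat_lit 9) (Steps.fwd (nat_lit 1048576) (Steps.bwd (nat_lit 8) Steps.nil))))))))))))))) (nat_lit 106) (nat_lit 2),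
  Rule.mk (nat_lit 8) (nat_lit 314) (Steps.bwd (nat_lit 4) (Steps.bwd (nat_lit 9) (Steps.bwd (nat_lit 4) (Steps.bwd (nat_lit 8) (Steps.fwd (nat_lit 1048576) (Steps.fwd (nat_lit 2097152) (Steps.fwd (nat_lit 1048576) (Steps.fwd (nat_lit 2359296) (Steps.bwd (nat_lit 4) (Steps.bwd (nat_lit 9) (Steps.fwd (nat_lit 1048576) (Steps.fwd (nat_lit 2359296) (Steps.fwd (nat_lit 1048576) (Steps.fwd (nat_lit 2097152) (Steps.fwd (nat_lit 1048576) Steps.nil))))))))))))))) (nat_lit 106) (nat_lit 1),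
  Rule.mk (nat_lit 4) (nat_lit 314) (Steps.bwd (nat_lit 9) (Steps.bwd (nat_lit 4) (Steps.fwd (nat_lit 2359296) (Steps.fwd (nat_lit 1048576) (Steps.bwd (nat_lit 9) (Steps.bwd (nat_lit 4) (Steps.bwd (nat_lit 8) (Steps.bwd (nat_lit 4) (Steps.bwd (nat_lit 9) (Steps.fwd (nat_lit 1048576) (Steps.fwd (nat_lit 2359296) (Steps.fwd (nat_lit 1048576) (Steps.fwd (nat_lit 2097152) (Steps.fwd (nat_lit 1048576) (Steps.fwd (nat_lit 2359296) Steps.nil))))))))))))))) (nat_lit 106) (nat_lit 2),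
  Rule.mk (nat_lit 4) (nat_lit 314) (Steps.bwd (nat_lit 9) (Steps.bwd (nat_lit 4) (Steps.fwd (nat_lit 2359296) (Steps.bwd (nat_lit 4) (Steps.bwd (nat_lit 9) (Steps.bwd (nat_lit 4) (Steps.bwd (nat_lit 8) (Steps.bwd (nat_lit 4) (Steps.fwd (nat_lit 2097152) (Steps.fwd (nat_lit 1048576) (Steps.fwd (nat_lit 2359296) (Steps.fwd (nat_lit 1048576) (Steps.fwd (nat_lit 2097152) (Steps.fwd (nat_lit 1048576) (Steps.fwd (nat_lit 2359296) Steps.nil))))))))))))))) (nat_lit 106) (nat_lit 2),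
  Rule.mk (nat_lit 8) (nat_lit 314) (Steps.bwd (nat_lit 4) (Steps.bwd (nat_lit 9) (Steps.fwd (nat_lit 1048576) (Steps.bwd (nat_lit 8) (Steps.bwd (nat_lit 4) (Steps.bwd (nat_lit 9) (Steps.bwd (nat_lit 4) (Steps.bwd (nat_lit 8) (Steps.bwd (nat_lit 4) (Steps.fwd (nat_lit 2097152) (Steps.fwd (nat_lit 1048576) (Steps.fwd (nat_lit 2359296) (Steps.fwd (nat_lit 1048576) (Steps.fwd (nat_lit 2097152) (Steps.fwd (nat_lit 1048576) Steps.nil))))))))))))))) (nat_lit 106) (nat_lit 1),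
  Rule.mk (nat_lit 6) (nat_lit 274) (Steps.bwd (nat_lit 1) (Steps.bwd (nat_lit 6) (Steps.fwd (nat_lit 1310720) (Steps.fwd (nat_lit 786432) (Steps.fwd (nat_lit 262144) (Steps.bwd (nat_lit 6) (Steps.fwd (nat_lit 262144) (Steps.fwd (nat_lit 786432) (Steps.bwd (nat_lit 1) (Steps.bwd (nat_lit 6) (Steps.fwd (nat_lit 262144) (Steps.bwd (nat_lit 2) (Steps.bwd (nat_lit 1) Steps.nil))))))))))))) (nat_lit 34) (nat_lit 11),
  Rule.mk (nat_lit 4) (nat_lit 74) (Steps.fwd (nat_lit 1310720) (Steps.fwd (nat_lit 1048576) (Steps.fwd (nat_lit 1572864) Steps.nil))) (nat_lit 22) (nat_lit 1),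
  Rule.mk (nat_lit 4) (nat_lit 114) (Steps.bwd (nat_lit 5) (Steps.bwd (nat_lit 2) (Steps.fwd (nat_lit 1048576) (Steps.fwd (nat_lit 1572864) (Steps.bwd (nat_lit 2) Steps.nil))))) (nat_lit 54) (nat_lit 2),
  Rule.mk (nat_lit 4) (nat_lit 314) (Steps.bwd (nat_lit 9) (Steps.bwd (nat_lit 4) (Steps.bwd (nat_lit 8) (Steps.bwd (nat_lit 4) (Steps.bwd (nat_lit 9) (Steps.bwd (nat_lit 4) (Steps.bwd (nat_lit 8) (Steps.fwd (nat_lit 1048576) (Steps.fwd (nat_lit 2097152) (Steps.fwd (nat_lit 1048576) (Steps.fwd (nat_lit 2359296) (Steps.fwd (nat_lit 1048576) (Steps.fwd (nat_lit 2097152) (Steps.fwd (nat_lit 1048576) (Steps.bwd (nat_lit 8) Steps.nil))))))))))))))) (nat_lit 106) (nat_lit 2),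
  Rule.mk (nat_lit 4) (nat_lit 154) (Steps.bwd (nat_lit 6) (Steps.fwd (nat_lit 1835008) (Steps.fwd (nat_lit 786432) (Steps.bwd (nat_lit 4) (Steps.fwd (nat_lit 1310720) (Steps.bwd (nat_lit 7) (Steps.bwd (nat_lit 2) Steps.nil))))))) (nat_lit 78) (nat_lit 6),
  Rule.mk (nat_lit 6) (nat_lit 114) (Steps.fwd (nat_lit 524288) (Steps.fwd (nat_lit 1835008) (Steps.bwd (nat_lit 6) (Steps.bwd (nat_lit 2) (Steps.fwd (nat_lit 1835008) Steps.nil))))) (nat_lit 63) (nat_lit 5),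
  Rule.mk (nat_lit 3) (nat_lit 154) (Steps.bwd (nat_lit 7) (Steps.bwd (nat_lit 1) (Steps.fwd (nat_lit 524288) (Steps.bwd (nat_lit 1) (Steps.bwd (nat_lit 7) (Steps.fwd (nat_lit 524288) (Steps.fwd (nat_lit 262144) Steps.nil))))))) (nat_lit 73) (nat_lit 4),
  Rule.mk (nat_lit 1) (nat_lit 274) (Steps.bwd (nat_lit 6) (Steps.bwd (nat_lit 1) (Steps.fwd (nat_lit 524288) (Steps.bwd (nat_lit 5) (Steps.fwd (nat_lit 1572864) (Steps.fwd (nat_lit 262144) (Steps.fwd (nat_lit 1572864) (Steps.bwd (nat_lit 1) (Steps.fwd (nat_lit 524288) (Steps.bwd (nat_lit 1) (Steps.fwd (nat_lit 1572864) (Steps.fwd (nat_lit 262144) (Steps.bwd (nat_lit 3) Steps.nil))))))))))))) (nat_lit 35) (nat_lit 11),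
  Rule.mk (nat_lit 1) (nat_lit 154) (Steps.bwd (nat_lit 7) (Steps.bwd (nat_lit 2) (Steps.bwd (nat_lit 1) (Steps.fwd (nat_lit 786432) (Steps.bwd (nat_lit 7) (Steps.fwd (nat_lit 262144) (Steps.bwd (nat_lit 2) Steps.nil))))))) (nat_lit 72) (nat_lit 3),
  Rule.mk (nat_lit 8) (nat_lit 314) (Steps.bwd (nat_lit 4) (Steps.bwd (nat_lit 9) (Steps.bwd (nat_lit 4) (Steps.bwd (nat_lit 8) (Steps.bwd (nat_lit 4) (Steps.fwd (nat_lit 2097152) (Steps.bwd (nat_lit 4) (Steps.fwd (nat_lit 2359296) (Steps.fwd (nat_lit 1048576) (Steps.bwd (nat_lit 9) (Steps.bwd (nat_lit 4) (Steps.bwd (nat_lit 8) (Steps.bwd (nat_lit 4) (Steps.fwd (nat_lit 2097152) (Steps.fwd (nat_lit 1048576) Steps.nil))))))))))))))) (nat_lit 106) (nat_lit 1),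
  Rule.mk (nat_lit 4) (nat_lit 314) (Steps.bwd (nat_lit 9) (Steps.bwd (nat_lit 4) (Steps.fwd (nat_lit 2359296) (Steps.fwd (nat_lit 1048576) (Steps.bwd (nat_lit 9) (Steps.fwd (nat_lit 1048576) (Steps.bwd (nat_lit 8) (Steps.bwd (nat_lit 4) (Steps.bwd (nat_lit 9) (Steps.bwd (nat_lit 4) (Steps.fwd (nat_lit 2359296) (Steps.fwd (nat_lit 1048576) (Steps.fwd (nat_lit 2097152) (Steps.fwd (nat_lit 1048576) (Steps.fwd (nat_lit 2359296) Steps.nil))))))))))))))) (nat_lit 106) (nat_lit 2),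
  Rule.mk (nat_lit 1) (nat_lit 154) (Steps.fwd (nat_lit 1835008) (Steps.bwd (nat_lit 2) (Steps.bwd (nat_lit 1) (Steps.fwd (nat_lit 786432) (Steps.fwd (nat_lit 1835008) (Steps.fwd (nat_lit 262144) (Steps.bwd (nat_lit 2) Steps.nil))))))) (nat_lit 72) (nat_lit 3),
  Rule.mk (nat_lit 3) (nat_lit 154) (Steps.bwd (nat_lit 1) (Steps.fwd (nat_lit 524288) (Steps.bwd (nat_lit 7) (Steps.fwd (nat_lit 262144) (Steps.fwd (nat_lit 524288) (Steps.fwd (nat_lit 262144) (Steps.bwd (nat_lit 7) Steps.nil))))))) (nat_lit 73) (nat_lit 2),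
  Rule.mk (nat_lit 4) (nat_lit 114) (Steps.fwd (nat_lit 1310720) (Steps.bwd (nat_lit 2) (Steps.fwd (nat_lit 1048576) (Steps.bwd (nat_lit 6) (Steps.fwd (nat_lit 786432) Steps.nil))))) (nat_lit 54) (nat_lit 2),
  Rule.mk (nat_lit 6) (nat_lit 274) (Steps.bwd (nat_lit 1) (Steps.bwd (nat_lit 2) (Steps.bwd (nat_lit 1) (Steps.bwd (nat_lit 6) (Steps.fwd (nat_lit 262144) (Steps.bwd (nat_lit 2) (Steps.bwd (nat_lit 1) (Steps.bwd (nat_lit 6) (Steps.bwd (nat_lit 1) (Steps.bwd (nat_lit 6) (Steps.fwd (nat_lit 1310720) (Steps.fwd (nat_lit 786432) (Steps.fwd (nat_lit 262144) Steps.nil))))))))))))) (nat_lit 34) (nat_lit 3),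
  Rule.mk (nat_lit 3) (nat_lit 154) (Steps.bwd (nat_lit 1) (Steps.bwd (nat_lit 3) (Steps.fwd (nat_lit 1835008) (Steps.fwd (nat_lit 262144) (Steps.bwd (nat_lit 3) (Steps.bwd (nat_lit 1) (Steps.fwd (nat_lit 1835008) Steps.nil))))))) (nat_lit 73) (nat_lit 2),
  Rule.mk (nat_lit 1) (nat_lit 154) (Steps.bwd (nat_lit 5) (Steps.bwd (nat_lit 3) (Steps.bwd (nat_lit 1) (Steps.bwd (nat_lit 3) (Steps.fwd (nat_lit 1310720) (Steps.fwd (nat_lit 262144) (Steps.bwd (nat_lit 3) Steps.nil))))))) (nat_lit 71) (nat_lit 0),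
  Rule.mk (nat_lit 1) (nat_lit 154) (Steps.fwd (nat_lit 524288) (Steps.bwd (nat_lit 1) (Steps.bwd (nat_lit 5) (Steps.fwd (nat_lit 524288) (Steps.fwd (nat_lit 262144) (Steps.bwd (nat_lit 3) (Steps.bwd (nat_lit 5) Steps.nil))))))) (nat_lit 71) (nat_lit 6),
  Rule.mk (nat_lit 4) (nat_lit 314) (Steps.bwd (nat_lit 8) (Steps.bwd (nat_lit 4) (Steps.bwd (nat_lit 9) (Steps.bwd (nat_lit 4) (Steps.bwd (nat_lit 8) (Steps.bwd (nat_lit 4) (Steps.bwd (nat_lit 9) (Steps.fwd (nat_lit 1048576) (Steps.fwd (nat_lit 2359296) (Steps.fwd (nat_lit 1048576) (Steps.fwd (nat_lit 2097152) (Steps.fwd (nat_lit 1048576) (Steps.fwd (nat_lit 2359296) (Steps.fwd (nat_lit 1048576) (Steps.fwd (nat_lit 2097152) Steps.nil))))))))))))))) (nat_lit 106) (nat_lit 0),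
  Rule.mk (nat_lit 1) (nat_lit 74) (Steps.fwd (nat_lit 1835008) (Steps.fwd (nat_lit 262144) (Steps.fwd (nat_lit 1835008) Steps.nil))) (nat_lit 26) (nat_lit 0),
  Rule.mk (nat_lit 4) (nat_lit 314) (Steps.fwd (nat_lit 2359296) (Steps.bwd (nat_lit 4) (Steps.bwd (nat_lit 9) (Steps.bwd (nat_lit 4) (Steps.bwd (nat_lit 8) (Steps.bwd (nat_lit 4) (Steps.bwd (nat_lit 9) (Steps.bwd (nat_lit 4) (Steps.fwd (nat_lit 2359296) (Steps.fwd (nat_lit 1048576) (Steps.fwd (nat_lit 2097152) (Steps.fwd (nat_lit 1048576) (Steps.fwd (nat_lit 2359296) (Steps.fwd (nat_lit 1048576) (Steps.fwd (nat_lit 2097152) Steps.nil))))))))))))))) (nat_lit 106) (nat_lit 0),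
  Rule.mk (nat_lit 4) (nat_lit 114) (Steps.bwd (nat_lit 6) (Steps.bwd (nat_lit 7) (Steps.fwd (nat_lit 1048576) (Steps.bwd (nat_lit 5) (Steps.bwd (nat_lit 7) Steps.nil))))) (nat_lit 66) (nat_lit 4),
  Rule.mk (nat_lit 4) (nat_lit 114) (Steps.bwd (nat_lit 7) (Steps.bwd (nat_lit 5) (Steps.bwd (nat_lit 4) (Steps.bwd (nat_lit 7) (Steps.bwd (nat_lit 6) Steps.nil))))) (nat_lit 67) (nat_lit 3),
  Rule.mk (nat_lit 4) (nat_lit 314) (Steps.bwd (nat_lit 8) (Steps.bwd (nat_lit 4) (Steps.bwd (nat_lit 9) (Steps.bwd (nat_lit 4) (Steps.bwd (nat_lit 8) (Steps.bwd (nat_lit 4) (Steps.bwd (nat_lit 9) (Steps.fwd (nat_lit 1048576) (Steps.fwd (nat_lit 2359296) (Steps.fwd (nat_lit 1048576) (Steps.fwd (nat_lit 2097152) (Steps.fwd (nat_lit 1048576) (Steps.fwd (nat_lit 2359296) (Steps.bwd (nat_lit 4) (Steps.bwd (nat_lit 9) Steps.nil))))))))))))))) (nat_lit 106) (nat_lit 0),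
  Rule.mk (nat_lit 4) (nat_lit 114) (Steps.fwd (nat_lit 1835008) (Steps.bwd (nat_lit 5) (Steps.bwd (nat_lit 4) (Steps.bwd (nat_lit 7) (Steps.bwd (nat_lit 6) Steps.nil))))) (nat_lit 67) (nat_lit 3)]
noncomputable def R_42 : List (Rule) := [Rule.mk (nat_lit 4) (nat_lit 314) (Steps.bwd (nat_lit 9) (Steps.bwd (nat_lit 4) (Steps.bwd (nat_lit 8) (Steps.bwd (nat_lit 4) (Steps.bwd (nat_lit 9) (Steps.bwd (nat_lit 4) (Steps.fwd (nat_lit 2359296) (Steps.fwd (nat_lit 1048576) (Steps.fwd (nat_lit 2097152) (Steps.fwd (nat_lit 1048576) (Steps.fwd (nat_lit 2359296) (Steps.fwd (nat_lit 1048576) (Steps.bwd (nat_lit 9) (Steps.fwd (nat_lit 1048576) (Steps.fwd (nat_lit 2359296) Steps.nil))))))))))))))) (nat_lit 106) (nat_lit 2),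
  Rule.mk (nat_lit 4) (nat_lit 114) (Steps.fwd (nat_lit 1835008) (Steps.bwd (nat_lit 6) (Steps.bwd (nat_lit 4) (Steps.fwd (nat_lit 1835008) (Steps.bwd (nat_lit 5) Steps.nil))))) (nat_lit 67) (nat_lit 0),
  Rule.mk (nat_lit 4) (nat_lit 314) (Steps.bwd (nat_lit 9) (Steps.bwd (nat_lit 4) (Steps.bwd (nat_lit 8) (Steps.bwd (nat_lit 4) (Steps.bwd (nat_lit 9) (Steps.bwd (nat_lit 4) (Steps.fwd (nat_lit 2359296) (Steps.fwd (nat_lit 1048576) (Steps.fwd (nat_lit 2097152) (Steps.fwd (nat_lit 1048576) (Steps.fwd (nat_lit 2359296) (Steps.fwd (nat_lit 1048576) (Steps.fwd (nat_lit 2097152) (Steps.bwd (nat_lit 4) (Steps.fwd (nat_lit 2359296) Steps.nil))))))))))))))) (nat_lit 106) (nat_lit 2),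
  Rule.mk (nat_lit 4) (nat_lit 114) (Steps.fwd (nat_lit 1835008) (Steps.bwd (nat_lit 5) (Steps.fwd (nat_lit 1048576) (Steps.bwd (nat_lit 7) (Steps.bwd (nat_lit 6) Steps.nil))))) (nat_lit 67) (nat_lit 3),
  Rule.mk (nat_lit 7) (nat_lit 114) (Steps.bwd (nat_lit 6) (Steps.fwd (nat_lit 1048576) (Steps.bwd (nat_lit 7) (Steps.bwd (nat_lit 5) (Steps.bwd (nat_lit 4) Steps.nil))))) (nat_lit 67) (nat_lit 1),
  Rule.mk (nat_lit 4) (nat_lit 114) (Steps.bwd (nat_lit 7) (Steps.fwd (nat_lit 1310720) (Steps.bwd (nat_lit 4) (Steps.fwd (nat_lit 1835008) (Steps.bwd (nat_lit 6) Steps.nil))))) (nat_lit 67) (nat_lit 3),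
  Rule.mk (nat_lit 9) (nat_lit 314) (Steps.bwd (nat_lit 4) (Steps.fwd (nat_lit 2359296) (Steps.fwd (nat_lit 1048576) (Steps.bwd (nat_lit 9) (Steps.bwd (nat_lit 4) (Steps.bwd (nat_lit 8) (Steps.bwd (nat_lit 4) (Steps.bwd (nat_lit 9) (Steps.fwd (nat_lit 1048576) (Steps.fwd (nat_lit 2359296) (Steps.fwd (nat_lit 1048576) (Steps.fwd (nat_lit 2097152) (Steps.fwd (nat_lit 1048576) (Steps.fwd (nat_lit 2359296) (Steps.fwd (nat_lit 1048576) Steps.nil))))))))))))))) (nat_lit 106) (nat_lit 3),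
  Rule.mk (nat_lit 1) (nat_lit 154) (Steps.bwd (nat_lit 2) (Steps.bwd (nat_lit 5) (Steps.bwd (nat_lit 1) (Steps.bwd (nat_lit 2) (Steps.fwd (nat_lit 262144) (Steps.bwd (nat_lit 5) (Steps.fwd (nat_lit 786432) Steps.nil))))))) (nat_lit 70) (nat_lit 6),
  Rule.mk (nat_lit 4) (nat_lit 114) (Steps.bwd (nat_lit 7) (Steps.bwd (nat_lit 6) (Steps.bwd (nat_lit 4) (Steps.fwd (nat_lit 1835008) (Steps.bwd (nat_lit 5) Steps.nil))))) (nat_lit 67) (nat_lit 0),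
  Rule.mk (nat_lit 4) (nat_lit 114) (Steps.bwd (nat_lit 5) (Steps.fwd (nat_lit 1835008) (Steps.bwd (nat_lit 4) (Steps.bwd (nat_lit 6) (Steps.bwd (nat_lit 7) Steps.nil))))) (nat_lit 66) (nat_lit 1),
  Rule.mk (nat_lit 4) (nat_lit 114) (Steps.fwd (nat_lit 1310720) (Steps.bwd (nat_lit 7) (Steps.bwd (nat_lit 4) (Steps.bwd (nat_lit 6) (Steps.bwd (nat_lit 7) Steps.nil))))) (nat_lit 66) (nat_lit 1),
  Rule.mk (nat_lit 4) (nat_lit 114) (Steps.fwd (nat_lit 1835008) (Steps.bwd (nat_lit 6) (Steps.fwd (nat_lit 1048576) (Steps.bwd (nat_lit 7) (Steps.bwd (nat_lit 5) Steps.nil))))) (nat_lit 67) (nat_lit 0),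
  Rule.mk (nat_lit 6) (nat_lit 114) (Steps.fwd (nat_lit 524288) (Steps.fwd (nat_lit 1835008) (Steps.bwd (nat_lit 6) (Steps.bwd (nat_lit 2) (Steps.bwd (nat_lit 7) Steps.nil))))) (nat_lit 63) (nat_lit 5),
  Rule.mk (nat_lit 4) (nat_lit 314) (Steps.fwd (nat_lit 2359296) (Steps.bwd (nat_lit 4) (Steps.bwd (nat_lit 9) (Steps.bwd (nat_lit 4) (Steps.bwd (nat_lit 8) (Steps.bwd (nat_lit 4) (Steps.bwd (nat_lit 9) (Steps.fwd (nat_lit 1048576) (Steps.fwd (nat_lit 2359296) (Steps.bwd (nat_lit 4) (Steps.bwd (nat_lit 9) (Steps.bwd (nat_lit 4) (Steps.fwd (nat_lit 2359296) (Steps.fwd (nat_lit 1048576) (Steps.fwd (nat_lit 2097152) Steps.nil))))))))))))))) (nat_lit 106) (nat_lit 0),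
  Rule.mk (nat_lit 9) (nat_lit 314) (Steps.bwd (nat_lit 4) (Steps.bwd (nat_lit 8) (Steps.bwd (nat_lit 4) (Steps.bwd (nat_lit 9) (Steps.bwd (nat_lit 4) (Steps.fwd (nat_lit 2359296) (Steps.fwd (nat_lit 1048576) (Steps.fwd (nat_lit 2097152) (Steps.bwd (nat_lit 4) (Steps.bwd (nat_lit 8) (Steps.fwd (nat_lit 1048576) (Steps.bwd (nat_lit 9) (Steps.fwd (nat_lit 1048576) (Steps.fwd (nat_lit 2359296) (Steps.fwd (nat_lit 1048576) Steps.nil))))))))))))))) (nat_lit 106) (nat_lit 3),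
  Rule.mk (nat_lit 7) (nat_lit 154) (Steps.bwd (nat_lit 2) (Steps.bwd (nat_lit 1) (Steps.bwd (nat_lit 2) (Steps.fwd (nat_lit 1835008) (Steps.fwd (nat_lit 262144) (Steps.bwd (nat_lit 2) (Steps.bwd (nat_lit 1) Steps.nil))))))) (nat_lit 72) (nat_lit 4),
  Rule.mk (nat_lit 6) (nat_lit 274) (Steps.bwd (nat_lit 1) (Steps.bwd (nat_lit 2) (Steps.bwd (nat_lit 1) (Steps.fwd (nat_lit 1572864) (Steps.bwd (nat_lit 1) (Steps.bwd (nat_lit 2) (Steps.fwd (nat_lit 262144) (Steps.fwd (nat_lit 1572864) (Steps.bwd (nat_lit 1) (Steps.fwd (nat_lit 1572864) (Steps.fwd (nat_lit 1310720) (Steps.fwd (nat_lit 786432) (Steps.fwd (nat_lit 262144) Steps.nil))))))))))))) (nat_lit 34) (nat_lit 3),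
  Rule.mk (nat_lit 7) (nat_lit 94) (Steps.fwd (nat_lit 2359296) (Steps.bwd (nat_lit 5) (Steps.bwd (nat_lit 9) (Steps.bwd (nat_lit 5) Steps.nil)))) (nat_lit 100) (nat_lit 0),
  Rule.mk (nat_lit 6) (nat_lit 94) (Steps.fwd (nat_lit 1835008) (Steps.fwd (nat_lit 1310720) (Steps.bwd (nat_lit 6) (Steps.bwd (nat_lit 5) Steps.nil)))) (nat_lit 25) (nat_lit 0),
  Rule.mk (nat_lit 6) (nat_lit 274) (Steps.bwd (nat_lit 1) (Steps.bwd (nat_lit 2) (Steps.bwd (nat_lit 1) (Steps.fwd (nat_lit 1572864) (Steps.bwd (nat_lit 1) (Steps.fwd (nat_lit 786432) (Steps.bwd (nat_lit 1) (Steps.fwd (nat_lit 1572864) (Steps.bwd (nat_lit 1) (Steps.fwd (nat_lit 1572864) (Steps.bwd (nat_lit 5) (Steps.fwd (nat_lit 786432) (Steps.fwd (nat_lit 262144) Steps.nil))))))))))))) (nat_lit 34) (nat_lit 3),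
  Rule.mk (nat_lit 6) (nat_lit 114) (Steps.bwd (nat_lit 2) (Steps.fwd (nat_lit 1835008) (Steps.bwd (nat_lit 6) (Steps.bwd (nat_lit 3) (Steps.bwd (nat_lit 7) Steps.nil))))) (nat_lit 63) (nat_lit 2),
  Rule.mk (nat_lit 2) (nat_lit 114) (Steps.bwd (nat_lit 1) (Steps.bwd (nat_lit 3) (Steps.fwd (nat_lit 2097152) (Steps.fwd (nat_lit 262144) (Steps.bwd (nat_lit 8) Steps.nil))))) (nat_lit 104) (nat_lit 2),
  Rule.mk (nat_lit 1) (nat_lit 274) (Steps.fwd (nat_lit 786432) (Steps.bwd (nat_lit 1) (Steps.bwd (nat_lit 6) (Steps.fwd (nat_lit 262144) (Steps.bwd (nat_lit 2) (Steps.bwd (nat_lit 1) (Steps.fwd (nat_lit 1572864) (Steps.fwd (nat_lit 262144) (Steps.bwd (nat_lit 6) (Steps.fwd (nat_lit 1310720) (Steps.bwd (nat_lit 2) (Steps.fwd (nat_lit 262144) (Steps.bwd (nat_lit 6) Steps.nil))))))))))))) (nat_lit 34) (nat_lit 4),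
  Rule.mk (nat_lit 5) (nat_lit 274) (Steps.bwd (nat_lit 6) (Steps.bwd (nat_lit 1) (Steps.bwd (nat_lit 6) (Steps.fwd (nat_lit 262144) (Steps.bwd (nat_lit 3) (Steps.bwd (nat_lit 1) (Steps.fwd (nat_lit 1572864) (Steps.fwd (nat_lit 262144) (Steps.bwd (nat_lit 3) (Steps.bwd (nat_lit 1) (Steps.fwd (nat_lit 1572864) (Steps.bwd (nat_lit 1) (Steps.fwd (nat_lit 524288) Steps.nil))))))))))))) (nat_lit 35) (nat_lit 1),
  Rule.mk (nat_lit 1) (nat_lit 154) (Steps.fwd (nat_lit 1310720) (Steps.bwd (nat_lit 3) (Steps.bwd (nat_lit 1) (Steps.bwd (nat_lit 3) (Steps.fwd (nat_lit 1310720) (Steps.fwd (nat_lit 262144) (Steps.bwd (nat_lit 3) Steps.nil))))))) (nat_lit 71) (nat_lit 0),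
  Rule.mk (nat_lit 1) (nat_lit 154) (Steps.fwd (nat_lit 786432) (Steps.bwd (nat_lit 5) (Steps.bwd (nat_lit 1) (Steps.bwd (nat_lit 2) (Steps.fwd (nat_lit 262144) (Steps.bwd (nat_lit 5) (Steps.fwd (nat_lit 786432) Steps.nil))))))) (nat_lit 70) (nat_lit 6),
  Rule.mk (nat_lit 6) (nat_lit 274) (Steps.bwd (nat_lit 1) (Steps.bwd (nat_lit 3) (Steps.bwd (nat_lit 1) (Steps.fwd (nat_lit 1572864) (Steps.fwd (nat_lit 262144) (Steps.bwd (nat_lit 3) (Steps.fwd (nat_lit 1310720) (Steps.fwd (nat_lit 1572864) (Steps.bwd (nat_lit 1) (Steps.fwd (nat_lit 1572864) (Steps.bwd (nat_lit 1) (Steps.fwd (nat_lit 524288) (Steps.fwd (nat_lit 262144) Steps.nil))))))))))))) (nat_lit 35) (nat_lit 8),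
  Rule.mk (nat_lit 6) (nat_lit 154) (Steps.bwd (nat_lit 1) (Steps.bwd (nat_lit 4) (Steps.bwd (nat_lit 1) (Steps.bwd (nat_lit 6) (Steps.fwd (nat_lit 262144) (Steps.bwd (nat_lit 4) (Steps.bwd (nat_lit 1) Steps.nil))))))) (nat_lit 74) (nat_lit 0),
  Rule.mk (nat_lit 6) (nat_lit 274) (Steps.bwd (nat_lit 1) (Steps.bwd (nat_lit 3) (Steps.fwd (nat_lit 262144) (Steps.fwd (nat_lit 1572864) (Steps.fwd (nat_lit 262144) (Steps.bwd (nat_lit 3) (Steps.fwd (nat_lit 1310720) (Steps.fwd (nat_lit 1572864) (Steps.fwd (nat_lit 262144) (Steps.bwd (nat_lit 6) (Steps.fwd (nat_lit 262144) (Steps.fwd (nat_lit 524288) (Steps.fwd (nat_lit 262144) Steps.nil))))))))))))) (nat_lit 35) (nat_lit 8),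
  Rule.mk (nat_lit 6) (nat_lit 274) (Steps.bwd (nat_lit 1) (Steps.bwd (nat_lit 3) (Steps.fwd (nat_lit 1310720) (Steps.fwd (nat_lit 1572864) (Steps.bwd (nat_lit 1) (Steps.bwd (nat_lit 6) (Steps.bwd (nat_lit 1) (Steps.fwd (nat_lit 524288) (Steps.bwd (nat_lit 1) (Steps.fwd (nat_lit 1572864) (Steps.fwd (nat_lit 262144) (Steps.fwd (nat_lit 524288) (Steps.fwd (nat_lit 262144) Steps.nil))))))))))))) (nat_lit 35) (nat_lit 12),
  Rule.mk (nat_lit 3) (nat_lit 154) (Steps.bwd (nat_lit 1) (Steps.bwd (nat_lit 3) (Steps.bwd (nat_lit 5) (Steps.bwd (nat_lit 1) (Steps.bwd (nat_lit 3) (Steps.fwd (nat_lit 262144) (Steps.bwd (nat_lit 5) Steps.nil))))))) (nat_lit 71) (nat_lit 2),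
  Rule.mk (nat_lit 9) (nat_lit 314) (Steps.bwd (nat_lit 4) (Steps.fwd (nat_lit 2359296) (Steps.fwd (nat_lit 1048576) (Steps.bwd (nat_lit 9) (Steps.bwd (nat_lit 4) (Steps.bwd (nat_lit 8) (Steps.bwd (nat_lit 4) (Steps.fwd (nat_lit 2097152) (Steps.bwd (nat_lit 4) (Steps.bwd (nat_lit 8) (Steps.fwd (nat_lit 1048576) (Steps.fwd (nat_lit 2097152) (Steps.fwd (nat_lit 1048576) (Steps.fwd (nat_lit 2359296) (Steps.fwd (nat_lit 1048576) Steps.nil))))))))))))))) (nat_lit 106) (nat_lit 3),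
  Rule.mk (nat_lit 9) (nat_lit 314) (Steps.bwd (nat_lit 4) (Steps.bwd (nat_lit 8) (Steps.bwd (nat_lit 4) (Steps.bwd (nat_lit 9) (Steps.bwd (nat_lit 4) (Steps.fwd (nat_lit 2359296) (Steps.fwd (nat_lit 1048576) (Steps.bwd (nat_lit 9) (Steps.fwd (nat_lit 1048576) (Steps.bwd (nat_lit 8) (Steps.bwd (nat_lit 4) (Steps.bwd (nat_lit 9) (Steps.fwd (nat_lit 1048576) (Steps.fwd (nat_lit 2359296) (Steps.fwd (nat_lit 1048576) Steps.nil))))))))))))))) (nat_lit 106) (nat_lit 3),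
  Rule.mk (nat_lit 6) (nat_lit 274) (Steps.bwd (nat_lit 1) (Steps.bwd (nat_lit 2) (Steps.bwd (nat_lit 1) (Steps.bwd (nat_lit 6) (Steps.bwd (nat_lit 1) (Steps.fwd (nat_lit 786432) (Steps.bwd (nat_lit 1) (Steps.fwd (nat_lit 1572864) (Steps.bwd (nat_lit 1) (Steps.bwd (nat_lit 6) (Steps.fwd (nat_lit 1310720) (Steps.fwd (nat_lit 786432) (Steps.fwd (nat_lit 262144) Steps.nil))))))))))))) (nat_lit 34) (nat_lit 3),
  Rule.mk (nat_lit 8) (nat_lit 314) (Steps.bwd (nat_lit 4) (Steps.bwd (nat_lit 9) (Steps.bwd (nat_lit 4) (Steps.bwd (nat_lit 8) (Steps.bwd (nat_lit 4) (Steps.bwd (nat_lit 9) (Steps.fwd (nat_lit 1048576) (Steps.fwd (nat_lit 2359296) (Steps.fwd (nat_lit 1048576) (Steps.fwd (nat_lit 2097152) (Steps.bwd (nat_lit 4) (Steps.bwd (nat_lit 8) (Steps.fwd (nat_lit 1048576) (Steps.fwd (nat_lit 2097152) (Steps.fwd (nat_lit 1048576) Steps.nil))))))))))))))) (nat_lit 106)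 (nat_lit 1),
  Rule.mk (nat_lit 9) (nat_lit 94) (Steps.fwd (nat_lit 1835008) (Steps.fwd (nat_lit 1310720) (Steps.bwd (nat_lit 8) (Steps.bwd (nat_lit 5) Steps.nil)))) (nat_lit 101) (nat_lit 0),
  Rule.mk (nat_lit 6) (nat_lit 274) (Steps.bwd (nat_lit 1) (Steps.bwd (nat_lit 2) (Steps.bwd (nat_lit 1) (Steps.fwd (nat_lit 1572864) (Steps.fwd (nat_lit 262144) (Steps.bwd (nat_lit 2) (Steps.fwd (nat_lit 262144) (Steps.fwd (nat_lit 1572864) (Steps.fwd (nat_lit 262144) (Steps.bwd (nat_lit 6) (Steps.bwd (nat_lit 5) (Steps.fwd (nat_lit 786432) (Steps.fwd (nat_lit 262144) Steps.nil))))))))))))) (nat_lit 34) (nat_lit 3),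
  Rule.mk (nat_lit 6) (nat_lit 274) (Steps.bwd (nat_lit 1) (Steps.bwd (nat_lit 3) (Steps.fwd (nat_lit 262144) (Steps.fwd (nat_lit 1572864) (Steps.fwd (nat_lit 262144) (Steps.bwd (nat_lit 3) (Steps.fwd (nat_lit 1310720) (Steps.fwd (nat_lit 1572864) (Steps.fwd (nat_lit 262144) (Steps.fwd (nat_lit 1572864) (Steps.fwd (nat_lit 262144) (Steps.fwd (nat_lit 524288) (Steps.fwd (nat_lit 262144) Steps.nil))))))))))))) (nat_lit 35) (nat_lit 8),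
  Rule.mk (nat_lit 9) (nat_lit 314) (Steps.bwd (nat_lit 4) (Steps.bwd (nat_lit 8) (Steps.bwd (nat_lit 4) (Steps.bwd (nat_lit 9) (Steps.bwd (nat_lit 4) (Steps.fwd (nat_lit 2359296) (Steps.bwd (nat_lit 4) (Steps.bwd (nat_lit 9) (Steps.fwd (nat_lit 1048576) (Steps.fwd (nat_lit 2359296) (Steps.bwd (nat_lit 4) (Steps.fwd (nat_lit 2097152) (Steps.fwd (nat_lit 1048576) (Steps.fwd (nat_lit 2359296) (Steps.fwd (nat_lit 1048576) Steps.nil))))))))))))))) (nat_lit 106) (nat_lit 3),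
  Rule.mk (nat_lit 8) (nat_lit 314) (Steps.bwd (nat_lit 4) (Steps.bwd (nat_lit 9) (Steps.fwd (nat_lit 1048576) (Steps.fwd (nat_lit 2359296) (Steps.fwd (nat_lit 1048576) (Steps.fwd (nat_lit 2097152) (Steps.fwd (nat_lit 1048576) (Steps.fwd (nat_lit 2359296) (Steps.fwd (nat_lit 1048576) (Steps.fwd (nat_lit 2097152) (Steps.fwd (nat_lit 1048576) (Steps.bwd (nat_lit 8) (Steps.fwd (nat_lit 1048576) (Steps.fwd (nat_lit 2097152) (Steps.fwd (nat_lit 1048576) Steps.nil))))))))))))))) (nat_lit 106) (nat_lit 1),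
  Rule.mk (nat_lit 0) (nat_lit 334) (Steps.bwd (nat_lit 8) (Steps.bwd (nat_lit 4) (Steps.bwd (nat_lit 9) (Steps.fwd (nat_lit 1048576) (Steps.fwd (nat_lit 2359296) (Steps.bwd (nat_lit 4) (Steps.bwd (nat_lit 9) (Steps.fwd (nat_lit 1048576) (Steps.fwd (nat_lit 2359296) (Steps.fwd (nat_lit 1048576) (Steps.bwd (nat_lit 9) (Steps.bwd (nat_lit 4) (Steps.bwd (nat_lit 8) (Steps.fwd (nat_lit 1048576) (Steps.fwd (nat_lit 2097152) (Steps.fwd (nat_lit 1048576) Steps.nil)))))))))))))))) (nat_lit 106) (nat_lit 0),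
  Rule.mk (nat_lit 4) (nat_lit 314) (Steps.bwd (nat_lit 9) (Steps.bwd (nat_lit 4) (Steps.bwd (nat_lit 8) (Steps.bwd (nat_lit 4) (Steps.bwd (nat_lit 9) (Steps.bwd (nat_lit 4) (Steps.bwd (nat_lit 8) (Steps.bwd (nat_lit 4) (Steps.fwd (nat_lit 2097152) (Steps.fwd (nat_lit 1048576) (Steps.fwd (nat_lit 2359296) (Steps.bwd (nat_lit 4) (Steps.bwd (nat_lit 9) (Steps.fwd (nat_lit 1048576) (Steps.fwd (nat_lit 2359296) Steps.nil))))))))))))))) (nat_lit 106) (nat_lit 2),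
  Rule.mk (nat_lit 6) (nat_lit 274) (Steps.bwd (nat_lit 1) (Steps.fwd (nat_lit 786432) (Steps.bwd (nat_lit 1) (Steps.fwd (nat_lit 1572864) (Steps.fwd (nat_lit 262144) (Steps.bwd (nat_lit 2) (Steps.bwd (nat_lit 1) (Steps.fwd (nat_lit 1572864) (Steps.fwd (nat_lit 262144) (Steps.fwd (nat_lit 1572864) (Steps.bwd (nat_lit 5) (Steps.fwd (nat_lit 786432) (Steps.bwd (nat_lit 1) Steps.nil))))))))))))) (nat_lit 34) (nat_lit 3),
  Rule.mk (nat_lit 6) (nat_lit 274) (Steps.bwd (nat_lit 1) (Steps.bwd (nat_lit 3) (Steps.bwd (nat_lit 5) (Steps.fwd (nat_lit 1572864) (Steps.fwd (nat_lit 262144) (Steps.fwd (nat_lit 1572864) (Steps.bwd (nat_lit 1) (Steps.bwd (nat_lit 3) (Steps.fwd (nat_lit 262144) (Steps.fwd (nat_lit 1572864) (Steps.fwd (nat_lit 262144) (Steps.bwd (nat_lit 3) (Steps.bwd (nat_lit 1) Steps.nil))))))))))))) (nat_lit 35) (nat_lit 12),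
  Rule.mk (nat_lit 1) (nat_lit 274) (Steps.bwd (nat_lit 6) (Steps.bwd (nat_lit 1) (Steps.bwd (nat_lit 6) (Steps.fwd (nat_lit 1310720) (Steps.bwd (nat_lit 2) (Steps.bwd (nat_lit 1) (Steps.bwd (nat_lit 6) (Steps.fwd (nat_lit 262144) (Steps.fwd (nat_lit 786432) (Steps.bwd (nat_lit 1) (Steps.bwd (nat_lit 6) (Steps.bwd (nat_lit 1) (Steps.fwd (nat_lit 786432) Steps.nil))))))))))))) (nat_lit 34) (nat_lit 10),
  Rule.mk (nat_lit 9) (nat_lit 314) (Steps.bwd (nat_lit 4) (Steps.bwd (nat_lit 8) (Steps.bwd (nat_lit 4) (Steps.bwd (nat_lit 9) (Steps.fwd (nat_lit 1048576) (Steps.fwd (nat_lit 2359296) (Steps.bwd (nat_lit 4) (Steps.bwd (nat_lit 9) (Steps.fwd (nat_lit 1048576) (Steps.bwd (nat_lit 8) (Steps.bwd (nat_lit 4) (Steps.bwd (nat_lit 9) (Steps.fwd (nat_lit 1048576) (Steps.fwd (nat_lit 2359296) (Steps.fwd (nat_lit 1048576) Steps.nil))))))))))))))) (nat_lit 106) (nat_lit 3),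
  Rule.mk (nat_lit 8) (nat_lit 314) (Steps.bwd (nat_lit 4) (Steps.bwd (nat_lit 9) (Steps.fwd (nat_lit 1048576) (Steps.fwd (nat_lit 2359296) (Steps.bwd (nat_lit 4) (Steps.fwd (nat_lit 2097152) (Steps.fwd (nat_lit 1048576) (Steps.bwd (nat_lit 8) (Steps.bwd (nat_lit 4) (Steps.bwd (nat_lit 9) (Steps.bwd (nat_lit 4) (Steps.fwd (nat_lit 2359296) (Steps.fwd (nat_lit 1048576) (Steps.fwd (nat_lit 2097152) (Steps.fwd (nat_lit 1048576) Steps.nil))))))))))))))) (nat_lit 106) (nat_lit 1),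
  Rule.mk (nat_lit 1) (nat_lit 274) (Steps.fwd (nat_lit 1572864) (Steps.bwd (nat_lit 5) (Steps.bwd (nat_lit 2) (Steps.fwd (nat_lit 262144) (Steps.fwd (nat_lit 1572864) (Steps.bwd (nat_lit 1) (Steps.bwd (nat_lit 2) (Steps.bwd (nat_lit 1) (Steps.bwd (nat_lit 6) (Steps.fwd (nat_lit 262144) (Steps.bwd (nat_lit 2) (Steps.bwd (nat_lit 1) (Steps.bwd (nat_lit 6) Steps.nil))))))))))))) (nat_lit 34) (nat_lit 12),
  Rule.mk (nat_lit 6) (nat_lit 274) (Steps.bwd (nat_lit 1) (Steps.bwd (nat_lit 6) (Steps.bwd (nat_lit 5) (Steps.fwd (nat_lit 786432) (Steps.fwd (nat_lit 262144) (Steps.bwd (nat_lit 6) (Steps.bwd (nat_lit 1) (Steps.bwd (nat_lit 2) (Steps.fwd (nat_lit 262144) (Steps.bwd (nat_lit 6) (Steps.fwd (nat_lit 262144) (Steps.fwd (nat_lit 786432) (Steps.bwd (nat_lit 1) Steps.nil))))))))))))) (nat_lit 34) (nat_lit 11),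
  Rule.mk (nat_lit 6) (nat_lit 274) (Steps.bwd (nat_lit 1) (Steps.bwd (nat_lit 3) (Steps.bwd (nat_lit 5) (Steps.fwd (nat_lit 1572864) (Steps.bwd (nat_lit 1) (Steps.fwd (nat_lit 1572864) (Steps.fwd (nat_lit 262144) (Steps.bwd (nat_lit 3) (Steps.bwd (nat_lit 1) (Steps.bwd (nat_lit 6) (Steps.fwd (nat_lit 262144) (Steps.fwd (nat_lit 524288) (Steps.fwd (nat_lit 262144) Steps.nil))))))))))))) (nat_lit 35) (nat_lit 12),
  Rule.mk (nat_lit 8) (nat_lit 314) (Steps.bwd (nat_lit 4) (Steps.bwd (nat_lit 9) (Steps.bwd (nat_lit 4) (Steps.bwd (nat_lit 8) (Steps.fwd (nat_lit 1048576) (Steps.bwd (nat_lit 9) (Steps.fwd (nat_lit 1048576) (Steps.fwd (nat_lit 2359296) (Steps.fwd (nat_lit 1048576) (Steps.fwd (nat_lit 2097152) (Steps.fwd (nat_lit 1048576) (Steps.bwd (nat_lit 8) (Steps.bwd (nat_lit 4) (Steps.bwd (nat_lit 9) (Steps.fwd (nat_lit 1048576) Steps.nil))))))))))))))) (nat_lit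 106) (nat_lit 1),
  Rule.mk (nat_lit 1) (nat_lit 274) (Steps.bwd (nat_lit 6) (Steps.bwd (nat_lit 5) (Steps.fwd (nat_lit 786432) (Steps.fwd (nat_lit 262144) (Steps.fwd (nat_lit 1572864) (Steps.bwd (nat_lit 1) (Steps.fwd (nat_lit 786432) (Steps.fwd (nat_lit 262144) (Steps.fwd (nat_lit 1572864) (Steps.fwd (nat_lit 262144) (Steps.bwd (nat_lit 2) (Steps.bwd (nat_lit 1) (Steps.bwd (nat_lit 6) Steps.nil))))))))))))) (nat_lit 34) (nat_lit 12),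
  Rule.mk (nat_lit 6) (nat_lit 274) (Steps.bwd (nat_lit 1) (Steps.bwd (nat_lit 6) (Steps.bwd (nat_lit 5) (Steps.bwd (nat_lit 2) (Steps.bwd (nat_lit 1) (Steps.bwd (nat_lit 6) (Steps.bwd (nat_lit 1) (Steps.bwd (nat_lit 2) (Steps.bwd (nat_lit 1) (Steps.fwd (nat_lit 1572864) (Steps.fwd (nat_lit 262144) (Steps.fwd (nat_lit 786432) (Steps.fwd (nat_lit 262144) Steps.nil))))))))))))) (nat_lit 34) (nat_lit 11),
  Rule.mk (nat_lit 6) (nat_lit 274) (Steps.bwd (nat_lit 1) (Steps.bwd (nat_lit 3) (Steps.fwd (nat_lit 1310720) (Steps.bwd (nat_lit 6) (Steps.fwd (nat_lit 262144) (Steps.fwd (nat_lit 1572864) (Steps.fwd (nat_lit 262144) (Steps.bwd (nat_lit 3) (Steps.bwd (nat_lit 1) (Steps.bwd (nat_lit 6) (Steps.bwd (nat_lit 1) (Steps.bwd (nat_lit 3) (Steps.fwd (nat_lit 262144) Steps.nil))))))))))))) (nat_lit 35) (nat_lit 12),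
  Rule.mk (nat_lit 1) (nat_lit 274) (Steps.bwd (nat_lit 6) (Steps.bwd (nat_lit 1) (Steps.bwd (nat_lit 3) (Steps.fwd (nat_lit 262144) (Steps.bwd (nat_lit 6) (Steps.fwd (nat_lit 262144) (Steps.bwd (nat_lit 3) (Steps.bwd (nat_lit 5) (Steps.fwd (nat_lit 1572864) (Steps.fwd (nat_lit 262144) (Steps.bwd (nat_lit 6) (Steps.bwd (nat_lit 1) (Steps.bwd (nat_lit 3) Steps.nil))))))))))))) (nat_lit 35) (nat_lit 7),
  Rule.mk (nat_lit 8) (nat_lit 314) (Steps.bwd (nat_lit 4) (Steps.bwd (nat_lit 9) (Steps.bwd (nat_lit 4) (Steps.bwd (nat_lit 8) (Steps.bwd (nat_lit 4) (Steps.fwd (nat_lit 2097152) (Steps.fwd (nat_lit 1048576) (Steps.fwd (nat_lit 2359296) (Steps.fwd (nat_lit 1048576) (Steps.fwd (nat_lit 2097152) (Steps.fwd (nat_lit 1048576) (Steps.fwd (nat_lit 2359296) (Steps.bwd (nat_lit 4) (Steps.bwd (nat_lit 9) (Steps.fwd (nat_lit 1048576) Steps.nil))))))))))))))) (nat_lit 106)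 (nat_lit 1),
  Rule.mk (nat_lit 6) (nat_lit 274) (Steps.bwd (nat_lit 1) (Steps.bwd (nat_lit 3) (Steps.bwd (nat_lit 5) (Steps.fwd (nat_lit 1572864) (Steps.fwd (nat_lit 262144) (Steps.bwd (nat_lit 6) (Steps.bwd (nat_lit 1) (Steps.fwd (nat_lit 524288) (Steps.bwd (nat_lit 1) (Steps.bwd (nat_lit 6) (Steps.fwd (nat_lit 262144) (Steps.bwd (nat_lit 3) (Steps.bwd (nat_lit 1) Steps.nil))))))))))))) (nat_lit 35) (nat_lit 12),
  Rule.mk (nat_lit 1) (nat_lit 274) (Steps.bwd (nat_lit 6) (Steps.bwd (nat_lit 1) (Steps.bwd (nat_lit 3) (Steps.fwd (nat_lit 262144) (Steps.bwd (nat_lit 6) (Steps.fwd (nat_lit 262144) (Steps.bwd (nat_lit 3) (Steps.bwd (nat_lit 5) (Steps.fwd (nat_lit 1572864) (Steps.bwd (nat_lit 1) (Steps.fwd (nat_lit 1572864) (Steps.fwd (nat_lit 262144) (Steps.bwd (nat_lit 3) Steps.nil))))))))))))) (nat_lit 35) (nat_lit 7),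
  Rule.mk (nat_lit 4) (nat_lit 314) (Steps.bwd (nat_lit 8) (Steps.bwd (nat_lit 4) (Steps.bwd (nat_lit 9) (Steps.fwd (nat_lit 1048576) (Steps.fwd (nat_lit 2359296) (Steps.bwd (nat_lit 4) (Steps.bwd (nat_lit 9) (Steps.bwd (nat_lit 4) (Steps.fwd (nat_lit 2359296) (Steps.fwd (nat_lit 1048576) (Steps.bwd (nat_lit 9) (Steps.bwd (nat_lit 4) (Steps.fwd (nat_lit 2359296) (Steps.fwd (nat_lit 1048576) (Steps.fwd (nat_lit 2097152) Steps.nil))))))))))))))) (nat_lit 106) (nat_lit 0),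
  Rule.mk (nat_lit 4) (nat_lit 314) (Steps.bwd (nat_lit 9) (Steps.bwd (nat_lit 4) (Steps.bwd (nat_lit 8) (Steps.bwd (nat_lit 4) (Steps.bwd (nat_lit 9) (Steps.bwd (nat_lit 4) (Steps.bwd (nat_lit 8) (Steps.fwd (nat_lit 1048576) (Steps.fwd (nat_lit 2097152) (Steps.fwd (nat_lit 1048576) (Steps.fwd (nat_lit 2359296) (Steps.bwd (nat_lit 4) (Steps.bwd (nat_lit 9) (Steps.bwd (nat_lit 4) (Steps.fwd (nat_lit 2359296) Steps.nil))))))))))))))) (nat_lit 106) (nat_lit 2),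
  Rule.mk (nat_lit 6) (nat_lit 274) (Steps.bwd (nat_lit 1) (Steps.fwd (nat_lit 1572864) (Steps.bwd (nat_lit 5) (Steps.bwd (nat_lit 2) (Steps.fwd (nat_lit 262144) (Steps.bwd (nat_lit 6) (Steps.fwd (nat_lit 262144) (Steps.bwd (nat_lit 2) (Steps.fwd (nat_lit 262144) (Steps.bwd (nat_lit 6) (Steps.bwd (nat_lit 1) (Steps.fwd (nat_lit 786432) (Steps.fwd (nat_lit 262144) Steps.nil))))))))))))) (nat_lit 34) (nat_lit 11),
  Rule.mk (nat_lit 6) (nat_lit 154) (Steps.bwd (nat_lit 3) (Steps.bwd (nat_lit 5) (Steps.fwd (nat_lit 524288) (Steps.fwd (nat_lit 1835008) (Steps.bwd (nat_lit 6) (Steps.fwd (nat_lit 524288) (Steps.fwd (nat_lit 1310720) Steps.nil))))))) (nat_lit 83) (nat_lit 5),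
  Rule.mk (nat_lit 4) (nat_lit 314) (Steps.bwd (nat_lit 8) (Steps.bwd (nat_lit 4) (Steps.bwd (nat_lit 9) (Steps.bwd (nat_lit 4) (Steps.fwd (nat_lit 2359296) (Steps.fwd (nat_lit 1048576) (Steps.fwd (nat_lit 2097152) (Steps.fwd (nat_lit 1048576) (Steps.bwd (nat_lit 8) (Steps.bwd (nat_lit 4) (Steps.bwd (nat_lit 9) (Steps.bwd (nat_lit 4) (Steps.bwd (nat_lit 8) (Steps.fwd (nat_lit 1048576) (Steps.fwd (nat_lit 2097152) Steps.nil))))))))))))))) (nat_lit 106) (nat_lit 0),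
  Rule.mk (nat_lit 1) (nat_lit 274) (Steps.bwd (nat_lit 6) (Steps.bwd (nat_lit 1) (Steps.fwd (nat_lit 1572864) (Steps.bwd (nat_lit 5) (Steps.bwd (nat_lit 2) (Steps.bwd (nat_lit 1) (Steps.bwd (nat_lit 6) (Steps.bwd (nat_lit 1) (Steps.bwd (nat_lit 2) (Steps.bwd (nat_lit 1) (Steps.fwd (nat_lit 1572864) (Steps.fwd (nat_lit 262144) (Steps.bwd (nat_lit 2) Steps.nil))))))))))))) (nat_lit 34) (nat_lit 10)]
noncomputable def R_43 : List (Rule) := [Rule.mk (nat_lit 8) (nat_lit 314) (Steps.bwd (nat_lit 4) (Steps.bwd (nat_lit 9) (Steps.fwd (nat_lit 1048576) (Steps.fwd (nat_lit 2359296) (Steps.fwd (nat_lit 1048576) (Steps.bwd (nat_lit 9) (Steps.fwd (nat_lit 1048576) (Steps.fwd (nat_lit 2359296) (Steps.fwd (nat_lit 1048576) (Steps.fwd (nat_lit 2097152) (Steps.fwd (nat_lit 1048576) (Steps.bwd (nat_lit 8) (Steps.bwd (nat_lit 4) (Steps.bwd (nat_lit 9) (Steps.fwd (nat_lit 1048576)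 Steps.nil))))))))))))))) (nat_lit 106) (nat_lit 1),
  Rule.mk (nat_lit 3) (nat_lit 154) (Steps.bwd (nat_lit 1) (Steps.fwd (nat_lit 1310720) (Steps.bwd (nat_lit 3) (Steps.fwd (nat_lit 262144) (Steps.fwd (nat_lit 524288) (Steps.bwd (nat_lit 5) (Steps.bwd (nat_lit 1) Steps.nil))))))) (nat_lit 71) (nat_lit 7),
  Rule.mk (nat_lit 6) (nat_lit 274) (Steps.bwd (nat_lit 1) (Steps.bwd (nat_lit 3) (Steps.fwd (nat_lit 1310720) (Steps.bwd (nat_lit 6) (Steps.fwd (nat_lit 262144) (Steps.fwd (nat_lit 1572864) (Steps.fwd (nat_lit 262144) (Steps.bwd (nat_lit 3) (Steps.fwd (nat_lit 262144) (Steps.fwd (nat_lit 1572864) (Steps.bwd (nat_lit 1) (Steps.bwd (nat_lit 3) (Steps.fwd (nat_lit 262144) Steps.nil))))))))))))) (nat_lit 35) (nat_lit 12),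
  Rule.mk (nat_lit 7) (nat_lit 154) (Steps.fwd (nat_lit 786432) (Steps.bwd (nat_lit 1) (Steps.fwd (nat_lit 786432) (Steps.bwd (nat_lit 7) (Steps.bwd (nat_lit 1) (Steps.bwd (nat_lit 2) (Steps.bwd (nat_lit 1) Steps.nil))))))) (nat_lit 72) (nat_lit 4),
  Rule.mk (nat_lit 8) (nat_lit 314) (Steps.bwd (nat_lit 4) (Steps.bwd (nat_lit 9) (Steps.bwd (nat_lit 4) (Steps.bwd (nat_lit 8) (Steps.bwd (nat_lit 4) (Steps.fwd (nat_lit 2097152) (Steps.fwd (nat_lit 1048576) (Steps.fwd (nat_lit 2359296) (Steps.fwd (nat_lit 1048576) (Steps.fwd (nat_lit 2097152) (Steps.bwd (nat_lit 4) (Steps.fwd (nat_lit 2359296) (Steps.fwd (nat_lit 1048576) (Steps.fwd (nat_lit 2097152) (Steps.fwd (nat_lit 1048576) Steps.nil))))))))))))))) (nat_lit 106) (nat_lit 1),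
  Rule.mk (nat_lit 4) (nat_lit 314) (Steps.bwd (nat_lit 8) (Steps.bwd (nat_lit 4) (Steps.bwd (nat_lit 9) (Steps.bwd (nat_lit 4) (Steps.bwd (nat_lit 8) (Steps.bwd (nat_lit 4) (Steps.fwd (nat_lit 2097152) (Steps.fwd (nat_lit 1048576) (Steps.fwd (nat_lit 2359296) (Steps.fwd (nat_lit 1048576) (Steps.fwd (nat_lit 2097152) (Steps.bwd (nat_lit 4) (Steps.fwd (nat_lit 2359296) (Steps.fwd (nat_lit 1048576) (Steps.fwd (nat_lit 2097152) Steps.nil))))))))))))))) (nat_lit 106) (nat_lit 0),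
  Rule.mk (nat_lit 1) (nat_lit 274) (Steps.bwd (nat_lit 6) (Steps.bwd (nat_lit 1) (Steps.fwd (nat_lit 786432) (Steps.fwd (nat_lit 262144) (Steps.bwd (nat_lit 6) (Steps.bwd (nat_lit 1) (Steps.fwd (nat_lit 786432) (Steps.fwd (nat_lit 262144) (Steps.bwd (nat_lit 6) (Steps.fwd (nat_lit 262144) (Steps.fwd (nat_lit 1572864) (Steps.bwd (nat_lit 5) (Steps.fwd (nat_lit 786432) Steps.nil))))))))))))) (nat_lit 34) (nat_lit 2),
  Rule.mk (nat_lit 7) (nat_lit 114) (Steps.bwd (nat_lit 3) (Steps.bwd (nat_lit 6) (Steps.bwd (nat_lit 7) (Steps.fwd (nat_lit 786432) (Steps.bwd (nat_lit 6) Steps.nil))))) (nat_lit 62) (nat_lit 3),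
  Rule.mk (nat_lit 4) (nat_lit 314) (Steps.bwd (nat_lit 8) (Steps.bwd (nat_lit 4) (Steps.bwd (nat_lit 9) (Steps.bwd (nat_lit 4) (Steps.bwd (nat_lit 8) (Steps.bwd (nat_lit 4) (Steps.fwd (nat_lit 2097152) (Steps.fwd (nat_lit 1048576) (Steps.fwd (nat_lit 2359296) (Steps.fwd (nat_lit 1048576) (Steps.fwd (nat_lit 2097152) (Steps.bwd (nat_lit 4) (Steps.bwd (nat_lit 8) (Steps.bwd (nat_lit 4) (Steps.fwd (nat_lit 2097152) Steps.nil))))))))))))))) (nat_lit 106) (nat_lit 0),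
  Rule.mk (nat_lit 1) (nat_lit 274) (Steps.bwd (nat_lit 6) (Steps.bwd (nat_lit 1) (Steps.bwd (nat_lit 3) (Steps.fwd (nat_lit 262144) (Steps.bwd (nat_lit 6) (Steps.fwd (nat_lit 262144) (Steps.fwd (nat_lit 524288) (Steps.bwd (nat_lit 5) (Steps.fwd (nat_lit 1572864) (Steps.bwd (nat_lit 1) (Steps.fwd (nat_lit 1572864) (Steps.bwd (nat_lit 1) (Steps.bwd (nat_lit 3) Steps.nil))))))))))))) (nat_lit 35) (nat_lit 7),
  Rule.mk (nat_lit 4) (nat_lit 314) (Steps.bwd (nat_lit 8) (Steps.bwd (nat_lit 4) (Steps.bwd (nat_lit 9) (Steps.bwd (nat_lit 4) (Steps.fwd (nat_lit 2359296) (Steps.fwd (nat_lit 1048576) (Steps.fwd (nat_lit 2097152) (Steps.fwd (nat_lit 1048576) (Steps.fwd (nat_lit 2359296) (Steps.bwd (nat_lit 4) (Steps.bwd (nat_lit 9) (Steps.bwd (nat_lit 4) (Steps.bwd (nat_lit 8) (Steps.fwd (nat_lit 1048576) (Steps.fwd (nat_lit 2097152) Steps.nil))))))))))))))) (nat_lit 106)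 (nat_lit 0),
  Rule.mk (nat_lit 1) (nat_lit 274) (Steps.bwd (nat_lit 6) (Steps.fwd (nat_lit 1310720) (Steps.fwd (nat_lit 786432) (Steps.bwd (nat_lit 1) (Steps.fwd (nat_lit 1572864) (Steps.bwd (nat_lit 1) (Steps.bwd (nat_lit 2) (Steps.fwd (nat_lit 262144) (Steps.fwd (nat_lit 1572864) (Steps.fwd (nat_lit 262144) (Steps.bwd (nat_lit 2) (Steps.bwd (nat_lit 1) (Steps.bwd (nat_lit 6) Steps.nil))))))))))))) (nat_lit 34) (nat_lit 12),
  Rule.mk (nat_lit 4) (nat_lit 314) (Steps.bwd (nat_lit 9) (Steps.bwd (nat_lit 4) (Steps.fwd (nat_lit 2359296) (Steps.fwd (nat_lit 1048576) (Steps.bwd (nat_lit 9) (Steps.bwd (nat_lit 4) (Steps.bwd (nat_lit 8) (Steps.bwd (nat_lit 4) (Steps.fwd (nat_lit 2097152) (Steps.bwd (nat_lit 4) (Steps.fwd (nat_lit 2359296) (Steps.fwd (nat_lit 1048576) (Steps.fwd (nat_lit 2097152) (Steps.fwd (nat_lit 1048576) (Steps.fwd (nat_lit 2359296) Steps.nil)))))))))))))))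 (nat_lit 106) (nat_lit 2),
  Rule.mk (nat_lit 1) (nat_lit 274) (Steps.fwd (nat_lit 786432) (Steps.fwd (nat_lit 262144) (Steps.fwd (nat_lit 1572864) (Steps.bwd (nat_lit 1) (Steps.fwd (nat_lit 786432) (Steps.fwd (nat_lit 262144) (Steps.fwd (nat_lit 1572864) (Steps.bwd (nat_lit 1) (Steps.fwd (nat_lit 1572864) (Steps.bwd (nat_lit 5) (Steps.bwd (nat_lit 2) (Steps.fwd (nat_lit 262144) (Steps.bwd (nat_lit 6) Steps.nil))))))))))))) (nat_lit 34) (nat_lit 4),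
  Rule.mk (nat_lit 6) (nat_lit 154) (Steps.bwd (nat_lit 3) (Steps.bwd (nat_lit 5) (Steps.fwd (nat_lit 524288) (Steps.fwd (nat_lit 1835008) (Steps.fwd (nat_lit 1572864) (Steps.fwd (nat_lit 524288) (Steps.fwd (nat_lit 1310720) Steps.nil))))))) (nat_lit 83) (nat_lit 5),
  Rule.mk (nat_lit 4) (nat_lit 314) (Steps.bwd (nat_lit 9) (Steps.bwd (nat_lit 4) (Steps.fwd (nat_lit 2359296) (Steps.fwd (nat_lit 1048576) (Steps.bwd (nat_lit 9) (Steps.bwd (nat_lit 4) (Steps.bwd (nat_lit 8) (Steps.bwd (nat_lit 4) (Steps.fwd (nat_lit 2097152) (Steps.fwd (nat_lit 1048576) (Steps.fwd (nat_lit 2359296) (Steps.fwd (nat_lit 1048576) (Steps.fwd (nat_lit 2097152) (Steps.fwd (nat_lit 1048576) (Steps.fwd (nat_lit 2359296) Steps.nil))))))))))))))) (nat_lit 106) (nat_lit 2),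
  Rule.mk (nat_lit 6) (nat_lit 274) (Steps.bwd (nat_lit 1) (Steps.fwd (nat_lit 524288) (Steps.bwd (nat_lit 5) (Steps.fwd (nat_lit 1572864) (Steps.fwd (nat_lit 262144) (Steps.bwd (nat_lit 6) (Steps.bwd (nat_lit 1) (Steps.fwd (nat_lit 524288) (Steps.bwd (nat_lit 1) (Steps.bwd (nat_lit 6) (Steps.bwd (nat_lit 1) (Steps.fwd (nat_lit 524288) (Steps.fwd (nat_lit 262144) Steps.nil))))))))))))) (nat_lit 35) (nat_lit 12),
  Rule.mk (nat_lit 1) (nat_lit 274) (Steps.fwd (nat_lit 1572864) (Steps.bwd (nat_lit 5) (Steps.bwd (nat_lit 2) (Steps.fwd (nat_lit 262144) (Steps.fwd (nat_lit 1572864) (Steps.bwd (nat_lit 1) (Steps.bwd (nat_lit 2) (Steps.bwd (nat_lit 1) (Steps.bwd (nat_lit 6) (Steps.fwd (nat_lit 262144) (Steps.fwd (nat_lit 786432) (Steps.bwd (nat_lit 1) (Steps.bwd (nat_lit 6) Steps.nil))))))))))))) (nat_lit 34) (nat_lit 12),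
  Rule.mk (nat_lit 6) (nat_lit 274) (Steps.bwd (nat_lit 1) (Steps.bwd (nat_lit 6) (Steps.bwd (nat_lit 5) (Steps.bwd (nat_lit 2) (Steps.fwd (nat_lit 262144) (Steps.fwd (nat_lit 1572864) (Steps.fwd (nat_lit 262144) (Steps.fwd (nat_lit 786432) (Steps.bwd (nat_lit 1) (Steps.bwd (nat_lit 6) (Steps.bwd (nat_lit 1) (Steps.fwd (nat_lit 786432) (Steps.fwd (nat_lit 262144) Steps.nil))))))))))))) (nat_lit 34) (nat_lit 11),
  Rule.mk (nat_lit 7) (nat_lit 74) (Steps.fwd (nat_lit 786432) (Steps.bwd (nat_lit 7) (Steps.bwd (nat_lit 3) Steps.nil))) (nat_lit 28) (nat_lit 1),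
  Rule.mk (nat_lit 1) (nat_lit 274) (Steps.fwd (nat_lit 1572864) (Steps.fwd (nat_lit 1310720) (Steps.bwd (nat_lit 2) (Steps.fwd (nat_lit 262144) (Steps.bwd (nat_lit 6) (Steps.bwd (nat_lit 1) (Steps.bwd (nat_lit 2) (Steps.fwd (nat_lit 262144) (Steps.fwd (nat_lit 1572864) (Steps.fwd (nat_lit 262144) (Steps.bwd (nat_lit 2) (Steps.bwd (nat_lit 1) (Steps.bwd (nat_lit 6) Steps.nil))))))))))))) (nat_lit 34) (nat_lit 12),
  Rule.mk (nat_lit 1) (nat_lit 274) (Steps.fwd (nat_lit 1572864) (Steps.bwd (nat_lit 5) (Steps.bwd (nat_lit 2) (Steps.fwd (nat_lit 262144) (Steps.fwd (nat_lit 1572864) (Steps.bwd (nat_lit 1) (Steps.bwd (nat_lit 2) (Steps.bwd (nat_lit 1) (Steps.fwd (nat_lit 1572864) (Steps.fwd (nat_lit 262144) (Steps.bwd (nat_lit 2) (Steps.bwd (nat_lit 1) (Steps.bwd (nat_lit 6) Steps.nil))))))))))))) (nat_lit 34) (nat_lit 12),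
  Rule.mk (nat_lit 6) (nat_lit 274) (Steps.bwd (nat_lit 1) (Steps.bwd (nat_lit 6) (Steps.fwd (nat_lit 1310720) (Steps.bwd (nat_lit 2) (Steps.fwd (nat_lit 262144) (Steps.bwd (nat_lit 6) (Steps.fwd (nat_lit 262144) (Steps.fwd (nat_lit 786432) (Steps.bwd (nat_lit 1) (Steps.fwd (nat_lit 1572864) (Steps.fwd (nat_lit 262144) (Steps.fwd (nat_lit 786432) (Steps.fwd (nat_lit 262144) Steps.nil))))))))))))) (nat_lit 34) (nat_lit 11),
  Rule.mk (nat_lit 1) (nat_lit 274) (Steps.bwd (nat_lit 6) (Steps.bwd (nat_lit 1) (Steps.fwd (nat_lit 524288) (Steps.fwd (nat_lit 262144) (Steps.bwd (nat_lit 6) (Steps.fwd (nat_lit 262144) (Steps.fwd (nat_lit 524288) (Steps.fwd (nat_lit 262144) (Steps.bwd (nat_lit 6) (Steps.bwd (nat_lit 1) (Steps.fwd (nat_lit 524288) (Steps.fwd (nat_lit 1310720) (Steps.fwd (nat_lit 1572864) Steps.nil))))))))))))) (nat_lit 35) (nat_lit 3),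
  Rule.mk (nat_lit 1) (nat_lit 274) (Steps.fwd (nat_lit 786432) (Steps.bwd (nat_lit 1) (Steps.fwd (nat_lit 1572864) (Steps.fwd (nat_lit 262144) (Steps.bwd (nat_lit 2) (Steps.fwd (nat_lit 262144) (Steps.bwd (nat_lit 6) (Steps.bwd (nat_lit 1) (Steps.bwd (nat_lit 6) (Steps.fwd (nat_lit 1310720) (Steps.fwd (nat_lit 786432) (Steps.fwd (nat_lit 262144) (Steps.bwd (nat_lit 6) Steps.nil))))))))))))) (nat_lit 34) (nat_lit 4),
  Rule.mk (nat_lit 9) (nat_lit 314) (Steps.bwd (nat_lit 4) (Steps.bwd (nat_lit 8) (Steps.bwd (nat_lit 4) (Steps.bwd (nat_lit 9) (Steps.fwd (nat_lit 1048576) (Steps.fwd (nat_lit 2359296) (Steps.bwd (nat_lit 4) (Steps.bwd (nat_lit 9) (Steps.fwd (nat_lit 1048576) (Steps.fwd (nat_lit 2359296) (Steps.fwd (nat_lit 1048576) (Steps.fwd (nat_lit 2097152) (Steps.fwd (nat_lit 1048576) (Steps.fwd (nat_lit 2359296) (Steps.fwd (nat_lit 1048576) Steps.nil)))))))))))))))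 (nat_lit 106) (nat_lit 3),
  Rule.mk (nat_lit 4) (nat_lit 314) (Steps.bwd (nat_lit 8) (Steps.bwd (nat_lit 4) (Steps.bwd (nat_lit 9) (Steps.bwd (nat_lit 4) (Steps.bwd (nat_lit 8) (Steps.bwd (nat_lit 4) (Steps.fwd (nat_lit 2097152) (Steps.fwd (nat_lit 1048576) (Steps.fwd (nat_lit 2359296) (Steps.fwd (nat_lit 1048576) (Steps.fwd (nat_lit 2097152) (Steps.bwd (nat_lit 4) (Steps.bwd (nat_lit 8) (Steps.bwd (nat_lit 4) (Steps.bwd (nat_lit 9) Steps.nil))))))))))))))) (nat_lit 106) (nat_lit 0),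
  Rule.mk (nat_lit 8) (nat_lit 314) (Steps.bwd (nat_lit 4) (Steps.bwd (nat_lit 9) (Steps.bwd (nat_lit 4) (Steps.bwd (nat_lit 8) (Steps.fwd (nat_lit 1048576) (Steps.fwd (nat_lit 2097152) (Steps.fwd (nat_lit 1048576) (Steps.fwd (nat_lit 2359296) (Steps.fwd (nat_lit 1048576) (Steps.fwd (nat_lit 2097152) (Steps.fwd (nat_lit 1048576) (Steps.bwd (nat_lit 8) (Steps.bwd (nat_lit 4) (Steps.bwd (nat_lit 9) (Steps.fwd (nat_lit 1048576) Steps.nil))))))))))))))) (nat_lit 106) (nat_lit 1),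
  Rule.mk (nat_lit 6) (nat_lit 274) (Steps.bwd (nat_lit 1) (Steps.fwd (nat_lit 786432) (Steps.bwd (nat_lit 1) (Steps.fwd (nat_lit 1572864) (Steps.bwd (nat_lit 1) (Steps.bwd (nat_lit 2) (Steps.fwd (nat_lit 262144) (Steps.fwd (nat_lit 1572864) (Steps.fwd (nat_lit 262144) (Steps.bwd (nat_lit 6) (Steps.bwd (nat_lit 5) (Steps.bwd (nat_lit 2) (Steps.fwd (nat_lit 262144) Steps.nil))))))))))))) (nat_lit 34) (nat_lit 3),
  Rule.mk (nat_lit 6) (nat_lit 274) (Steps.bwd (nat_lit 1) (Steps.bwd (nat_lit 6) (Steps.fwd (nat_lit 1310720) (Steps.bwd (nat_lit 2) (Steps.bwd (nat_lit 1) (Steps.bwd (nat_lit 6) (Steps.bwd (nat_lit 1) (Steps.bwd (nat_lit 2) (Steps.fwd (nat_lit 262144) (Steps.fwd (nat_lit 1572864) (Steps.bwd (nat_lit 1) (Steps.fwd (nat_lit 786432) (Steps.fwd (nat_lit 262144) Steps.nil))))))))))))) (nat_lit 34) (nat_lit 11),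
  Rule.mk (nat_lit 1) (nat_lit 274) (Steps.bwd (nat_lit 6) (Steps.bwd (nat_lit 1) (Steps.fwd (nat_lit 786432) (Steps.fwd (nat_lit 262144) (Steps.fwd (nat_lit 1572864) (Steps.bwd (nat_lit 1) (Steps.fwd (nat_lit 786432) (Steps.fwd (nat_lit 262144) (Steps.bwd (nat_lit 6) (Steps.fwd (nat_lit 262144) (Steps.fwd (nat_lit 1572864) (Steps.bwd (nat_lit 5) (Steps.fwd (nat_lit 786432) Steps.nil))))))))))))) (nat_lit 34) (nat_lit 2),
  Rule.mk (nat_lit 6) (nat_lit 154) (Steps.bwd (nat_lit 1) (Steps.bwd (nat_lit 4) (Steps.bwd (nat_lit 1) (Steps.fwd (nat_lit 1572864) (Steps.bwd (nat_lit 1) (Steps.bwd (nat_lit 4) (Steps.bwd (nat_lit 1) Steps.nil))))))) (nat_lit 74) (nat_lit 0),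
  Rule.mk (nat_lit 8) (nat_lit 314) (Steps.bwd (nat_lit 4) (Steps.bwd (nat_lit 9) (Steps.fwd (nat_lit 1048576) (Steps.fwd (nat_lit 2359296) (Steps.bwd (nat_lit 4) (Steps.bwd (nat_lit 9) (Steps.bwd (nat_lit 4) (Steps.bwd (nat_lit 8) (Steps.bwd (nat_lit 4) (Steps.bwd (nat_lit 9) (Steps.bwd (nat_lit 4) (Steps.fwd (nat_lit 2359296) (Steps.fwd (nat_lit 1048576) (Steps.fwd (nat_lit 2097152) (Steps.fwd (nat_lit 1048576) Steps.nil))))))))))))))) (nat_lit 106) (nat_lit 1),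
  Rule.mk (nat_lit 6) (nat_lit 274) (Steps.bwd (nat_lit 1) (Steps.bwd (nat_lit 2) (Steps.bwd (nat_lit 1) (Steps.bwd (nat_lit 6) (Steps.bwd (nat_lit 1) (Steps.fwd (nat_lit 1572864) (Steps.bwd (nat_lit 5) (Steps.fwd (nat_lit 786432) (Steps.bwd (nat_lit 1) (Steps.bwd (nat_lit 6) (Steps.bwd (nat_lit 1) (Steps.fwd (nat_lit 786432) (Steps.fwd (nat_lit 262144) Steps.nil))))))))))))) (nat_lit 34) (nat_lit 7),
  Rule.mk (nat_lit 1) (nat_lit 274) (Steps.bwd (nat_lit 6) (Steps.bwd (nat_lit 1) (Steps.fwd (nat_lit 786432) (Steps.fwd (nat_lit 262144) (Steps.bwd (nat_lit 6) (Steps.bwd (nat_lit 1) (Steps.fwd (nat_lit 786432) (Steps.fwd (nat_lit 262144) (Steps.bwd (nat_lit 6) (Steps.bwd (nat_lit 1) (Steps.bwd (nat_lit 6) (Steps.fwd (nat_lit 1310720) (Steps.bwd (nat_lit 2) Steps.nil))))))))))))) (nat_lit 34) (nat_lit 2),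
  Rule.mk (nat_lit 1) (nat_lit 274) (Steps.bwd (nat_lit 6) (Steps.bwd (nat_lit 1) (Steps.bwd (nat_lit 6) (Steps.bwd (nat_lit 5) (Steps.bwd (nat_lit 2) (Steps.bwd (nat_lit 1) (Steps.bwd (nat_lit 6) (Steps.fwd (nat_lit 262144) (Steps.fwd (nat_lit 786432) (Steps.fwd (nat_lit 262144) (Steps.bwd (nat_lit 6) (Steps.bwd (nat_lit 1) (Steps.fwd (nat_lit 786432) Steps.nil))))))))))))) (nat_lit 34) (nat_lit 10),
  Rule.mk (nat_lit 4) (nat_lit 314) (Steps.bwd (nat_lit 8) (Steps.bwd (nat_lit 4) (Steps.bwd (nat_lit 9) (Steps.bwd (nat_lit 4) (Steps.fwd (nat_lit 2359296) (Steps.fwd (nat_lit 1048576) (Steps.fwd (nat_lit 2097152) (Steps.fwd (nat_lit 1048576) (Steps.fwd (nat_lit 2359296) (Steps.bwd (nat_lit 4) (Steps.bwd (nat_lit 9) (Steps.bwd (nat_lit 4) (Steps.bwd (nat_lit 8) (Steps.bwd (nat_lit 4) (Steps.bwd (nat_lit 9) Steps.nil))))))))))))))) (nat_lit 106) (nat_lit 0),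
  Rule.mk (nat_lit 7) (nat_lit 114) (Steps.bwd (nat_lit 4) (Steps.fwd (nat_lit 1572864) (Steps.fwd (nat_lit 1835008) (Steps.bwd (nat_lit 4) (Steps.fwd (nat_lit 1310720) Steps.nil))))) (nat_lit 66) (nat_lit 3),
  Rule.mk (nat_lit 8) (nat_lit 94) (Steps.fwd (nat_lit 1310720) (Steps.fwd (nat_lit 2097152) (Steps.bwd (nat_lit 7) (Steps.fwd (nat_lit 1310720) Steps.nil)))) (nat_lit 101) (nat_lit 3),
  Rule.mk (nat_lit 1) (nat_lit 274) (Steps.bwd (nat_lit 6) (Steps.bwd (nat_lit 1) (Steps.fwd (nat_lit 524288) (Steps.bwd (nat_lit 1) (Steps.fwd (nat_lit 1572864) (Steps.fwd (nat_lit 262144) (Steps.fwd (nat_lit 524288) (Steps.bwd (nat_lit 5) (Steps.fwd (nat_lit 1572864) (Steps.bwd (nat_lit 1) (Steps.fwd (nat_lit 1572864) (Steps.bwd (nat_lit 1) (Steps.fwd (nat_lit 524288) Steps.nil))))))))))))) (nat_lit 35) (nat_lit 7),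
  Rule.mk (nat_lit 6) (nat_lit 274) (Steps.bwd (nat_lit 1) (Steps.bwd (nat_lit 3) (Steps.fwd (nat_lit 1310720) (Steps.bwd (nat_lit 6) (Steps.fwd (nat_lit 262144) (Steps.bwd (nat_lit 6) (Steps.bwd (nat_lit 1) (Steps.bwd (nat_lit 3) (Steps.fwd (nat_lit 262144) (Steps.fwd (nat_lit 1572864) (Steps.bwd (nat_lit 1) (Steps.fwd (nat_lit 524288) (Steps.fwd (nat_lit 262144) Steps.nil))))))))))))) (nat_lit 35) (nat_lit 12),
  Rule.mk (nat_lit 4) (nat_lit 314) (Steps.bwd (nat_lit 9) (Steps.bwd (nat_lit 4) (Steps.bwd (nat_lit 8) (Steps.bwd (nat_lit 4) (Steps.bwd (nat_lit 9) (Steps.bwd (nat_lit 4) (Steps.bwd (nat_lit 8) (Steps.fwd (nat_lit 1048576) (Steps.fwd (nat_lit 2097152) (Steps.fwd (nat_lit 1048576) (Steps.fwd (nat_lit 2359296) (Steps.bwd (nat_lit 4) (Steps.bwd (nat_lit 9) (Steps.fwd (nat_lit 1048576) (Steps.fwd (nat_lit 2359296) Steps.nil))))))))))))))) (nat_lit 106)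 (nat_lit 2),
  Rule.mk (nat_lit 9) (nat_lit 314) (Steps.bwd (nat_lit 4) (Steps.bwd (nat_lit 8) (Steps.bwd (nat_lit 4) (Steps.bwd (nat_lit 9) (Steps.bwd (nat_lit 4) (Steps.fwd (nat_lit 2359296) (Steps.fwd (nat_lit 1048576) (Steps.fwd (nat_lit 2097152) (Steps.fwd (nat_lit 1048576) (Steps.fwd (nat_lit 2359296) (Steps.fwd (nat_lit 1048576) (Steps.bwd (nat_lit 9) (Steps.fwd (nat_lit 1048576) (Steps.fwd (nat_lit 2359296) (Steps.fwd (nat_lit 1048576) Steps.nil))))))))))))))) (nat_lit 106) (nat_lit 3),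
  Rule.mk (nat_lit 6) (nat_lit 274) (Steps.bwd (nat_lit 1) (Steps.bwd (nat_lit 2) (Steps.bwd (nat_lit 1) (Steps.fwd (nat_lit 1572864) (Steps.bwd (nat_lit 1) (Steps.fwd (nat_lit 786432) (Steps.fwd (nat_lit 262144) (Steps.fwd (nat_lit 1572864) (Steps.fwd (nat_lit 262144) (Steps.bwd (nat_lit 6) (Steps.bwd (nat_lit 5) (Steps.fwd (nat_lit 786432) (Steps.fwd (nat_lit 262144) Steps.nil))))))))))))) (nat_lit 34) (nat_lit 3),
  Rule.mk (nat_lit 1) (nat_lit 274) (Steps.bwd (nat_lit 6) (Steps.bwd (nat_lit 1) (Steps.bwd (nat_lit 3) (Steps.fwd (nat_lit 1310720) (Steps.bwd (nat_lit 6) (Steps.bwd (nat_lit 1) (Steps.bwd (nat_lit 6) (Steps.fwd (nat_lit 262144) (Steps.fwd (nat_lit 524288) (Steps.bwd (nat_lit 1) (Steps.bwd (nat_lit 6) (Steps.bwd (nat_lit 1) (Steps.bwd (nat_lit 3) Steps.nil))))))))))))) (nat_lit 35) (nat_lit 11),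
  Rule.mk (nat_lit 9) (nat_lit 314) (Steps.bwd (nat_lit 4) (Steps.bwd (nat_lit 8) (Steps.bwd (nat_lit 4) (Steps.fwd (nat_lit 2097152) (Steps.fwd (nat_lit 1048576) (Steps.fwd (nat_lit 2359296) (Steps.fwd (nat_lit 1048576) (Steps.bwd (nat_lit 9) (Steps.bwd (nat_lit 4) (Steps.bwd (nat_lit 8) (Steps.bwd (nat_lit 4) (Steps.bwd (nat_lit 9) (Steps.fwd (nat_lit 1048576) (Steps.fwd (nat_lit 2359296) (Steps.fwd (nat_lit 1048576) Steps.nil))))))))))))))) (nat_lit 106) (nat_lit 3),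
  Rule.mk (nat_lit 6) (nat_lit 274) (Steps.bwd (nat_lit 1) (Steps.fwd (nat_lit 524288) (Steps.bwd (nat_lit 5) (Steps.bwd (nat_lit 6) (Steps.fwd (nat_lit 262144) (Steps.fwd (nat_lit 1572864) (Steps.bwd (nat_lit 1) (Steps.fwd (nat_lit 524288) (Steps.bwd (nat_lit 1) (Steps.fwd (nat_lit 1572864) (Steps.fwd (nat_lit 262144) (Steps.bwd (nat_lit 3) (Steps.bwd (nat_lit 1) Steps.nil))))))))))))) (nat_lit 35) (nat_lit 12),
  Rule.mk (nat_lit 4) (nat_lit 314) (Steps.bwd (nat_lit 9) (Steps.bwd (nat_lit 4) (Steps.fwd (nat_lit 2359296) (Steps.fwd (nat_lit 1048576) (Steps.bwd (nat_lit 9) (Steps.bwd (nat_lit 4) (Steps.bwd (nat_lit 8) (Steps.bwd (nat_lit 4) (Steps.bwd (nat_lit 9) (Steps.fwd (nat_lit 1048576) (Steps.fwd (nat_lit 2359296) (Steps.bwd (nat_lit 4) (Steps.bwd (nat_lit 9) (Steps.fwd (nat_lit 1048576) (Steps.fwd (nat_lit 2359296) Steps.nil))))))))))))))) (nat_lit 106)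 (nat_lit 2),
  Rule.mk (nat_lit 4) (nat_lit 314) (Steps.bwd (nat_lit 9) (Steps.bwd (nat_lit 4) (Steps.bwd (nat_lit 8) (Steps.bwd (nat_lit 4) (Steps.bwd (nat_lit 9) (Steps.bwd (nat_lit 4) (Steps.fwd (nat_lit 2359296) (Steps.bwd (nat_lit 4) (Steps.bwd (nat_lit 9) (Steps.fwd (nat_lit 1048576) (Steps.fwd (nat_lit 2359296) (Steps.fwd (nat_lit 1048576) (Steps.fwd (nat_lit 2097152) (Steps.fwd (nat_lit 1048576) (Steps.bwd (nat_lit 8) Steps.nil))))))))))))))) (nat_lit 106) (nat_lit 2),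
  Rule.mk (nat_lit 4) (nat_lit 314) (Steps.bwd (nat_lit 9) (Steps.bwd (nat_lit 4) (Steps.fwd (nat_lit 2359296) (Steps.fwd (nat_lit 1048576) (Steps.bwd (nat_lit 9) (Steps.bwd (nat_lit 4) (Steps.bwd (nat_lit 8) (Steps.bwd (nat_lit 4) (Steps.bwd (nat_lit 9) (Steps.fwd (nat_lit 1048576) (Steps.fwd (nat_lit 2359296) (Steps.fwd (nat_lit 1048576) (Steps.fwd (nat_lit 2097152) (Steps.fwd (nat_lit 1048576) (Steps.bwd (nat_lit 8) Steps.nil))))))))))))))) (nat_lit 106) (nat_lit 2),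
  Rule.mk (nat_lit 1) (nat_lit 154) (Steps.bwd (nat_lit 3) (Steps.bwd (nat_lit 1) (Steps.fwd (nat_lit 1310720) (Steps.bwd (nat_lit 3) (Steps.fwd (nat_lit 262144) (Steps.bwd (nat_lit 3) (Steps.bwd (nat_lit 5) Steps.nil))))))) (nat_lit 71) (nat_lit 6),
  Rule.mk (nat_lit 4) (nat_lit 154) (Steps.fwd (nat_lit 1835008) (Steps.bwd (nat_lit 3) (Steps.bwd (nat_lit 6) (Steps.bwd (nat_lit 4) (Steps.fwd (nat_lit 1835008) (Steps.bwd (nat_lit 3) (Steps.fwd (nat_lit 1310720) Steps.nil))))))) (nat_lit 91) (nat_lit 6),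
  Rule.mk (nat_lit 4) (nat_lit 314) (Steps.bwd (nat_lit 8) (Steps.bwd (nat_lit 4) (Steps.bwd (nat_lit 9) (Steps.fwd (nat_lit 1048576) (Steps.bwd (nat_lit 8) (Steps.bwd (nat_lit 4) (Steps.bwd (nat_lit 9) (Steps.bwd (nat_lit 4) (Steps.fwd (nat_lit 2359296) (Steps.fwd (nat_lit 1048576) (Steps.fwd (nat_lit 2097152) (Steps.fwd (nat_lit 1048576) (Steps.fwd (nat_lit 2359296) (Steps.fwd (nat_lit 1048576) (Steps.bwd (nat_lit 9) Steps.nil))))))))))))))) (nat_lit 106) (nat_lit 0),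
  Rule.mk (nat_lit 8) (nat_lit 314) (Steps.bwd (nat_lit 4) (Steps.bwd (nat_lit 9) (Steps.bwd (nat_lit 4) (Steps.bwd (nat_lit 8) (Steps.bwd (nat_lit 4) (Steps.fwd (nat_lit 2097152) (Steps.fwd (nat_lit 1048576) (Steps.bwd (nat_lit 8) (Steps.bwd (nat_lit 4) (Steps.bwd (nat_lit 9) (Steps.fwd (nat_lit 1048576) (Steps.fwd (nat_lit 2359296) (Steps.fwd (nat_lit 1048576) (Steps.fwd (nat_lit 2097152) (Steps.fwd (nat_lit 1048576) Steps.nil))))))))))))))) (nat_lit 106) (nat_lit 1),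
  Rule.mk (nat_lit 1) (nat_lit 274) (Steps.bwd (nat_lit 6) (Steps.bwd (nat_lit 1) (Steps.bwd (nat_lit 2) (Steps.bwd (nat_lit 1) (Steps.fwd (nat_lit 1572864) (Steps.fwd (nat_lit 262144) (Steps.bwd (nat_lit 6) (Steps.fwd (nat_lit 1310720) (Steps.fwd (nat_lit 786432) (Steps.bwd (nat_lit 1) (Steps.fwd (nat_lit 1572864) (Steps.fwd (nat_lit 262144) (Steps.fwd (nat_lit 786432) Steps.nil))))))))))))) (nat_lit 34) (nat_lit 6),
  Rule.mk (nat_lit 4) (nat_lit 314) (Steps.fwd (nat_lit 2097152) (Steps.bwd (nat_lit 4) (Steps.bwd (nat_lit 8) (Steps.bwd (nat_lit 4) (Steps.bwd (nat_lit 9) (Steps.bwd (nat_lit 4) (Steps.bwd (nat_lit 8) (Steps.fwd (nat_lit 1048576) (Steps.fwd (nat_lit 2097152) (Steps.fwd (nat_lit 1048576) (Steps.fwd (nat_lit 2359296) (Steps.fwd (nat_lit 1048576) (Steps.fwd (nat_lit 2097152) (Steps.fwd (nat_lit 1048576) (Steps.bwd (nat_lit 8) Steps.nil)))))))))))))))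 (nat_lit 106) (nat_lit 2),
  Rule.mk (nat_lit 4) (nat_lit 314) (Steps.bwd (nat_lit 8) (Steps.bwd (nat_lit 4) (Steps.bwd (nat_lit 9) (Steps.fwd (nat_lit 1048576) (Steps.fwd (nat_lit 2359296) (Steps.bwd (nat_lit 4) (Steps.bwd (nat_lit 9) (Steps.bwd (nat_lit 4) (Steps.fwd (nat_lit 2359296) (Steps.fwd (nat_lit 1048576) (Steps.fwd (nat_lit 2097152) (Steps.bwd (nat_lit 4) (Steps.fwd (nat_lit 2359296) (Steps.fwd (nat_lit 1048576) (Steps.fwd (nat_lit 2097152) Steps.nil))))))))))))))) (nat_lit 106) (nat_lit 0),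
  Rule.mk (nat_lit 4) (nat_lit 314) (Steps.bwd (nat_lit 8) (Steps.bwd (nat_lit 4) (Steps.bwd (nat_lit 9) (Steps.bwd (nat_lit 4) (Steps.fwd (nat_lit 2359296) (Steps.fwd (nat_lit 1048576) (Steps.fwd (nat_lit 2097152) (Steps.fwd (nat_lit 1048576) (Steps.bwd (nat_lit 8) (Steps.bwd (nat_lit 4) (Steps.bwd (nat_lit 9) (Steps.bwd (nat_lit 4) (Steps.fwd (nat_lit 2359296) (Steps.fwd (nat_lit 1048576) (Steps.fwd (nat_lit 2097152) Steps.nil))))))))))))))) (nat_lit 106) (nat_lit 0),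
  Rule.mk (nat_lit 1) (nat_lit 274) (Steps.bwd (nat_lit 6) (Steps.bwd (nat_lit 1) (Steps.bwd (nat_lit 3) (Steps.fwd (nat_lit 1310720) (Steps.bwd (nat_lit 6) (Steps.fwd (nat_lit 262144) (Steps.fwd (nat_lit 1572864) (Steps.bwd (nat_lit 1) (Steps.fwd (nat_lit 524288) (Steps.bwd (nat_lit 1) (Steps.fwd (nat_lit 1572864) (Steps.fwd (nat_lit 262144) (Steps.bwd (nat_lit 3) Steps.nil))))))))))))) (nat_lit 35) (nat_lit 11),
  Rule.mk (nat_lit 1) (nat_lit 274) (Steps.bwd (nat_lit 6) (Steps.bwd (nat_lit 1) (Steps.bwd (nat_lit 2) (Steps.bwd (nat_lit 1) (Steps.bwd (nat_lit 6) (Steps.fwd (nat_lit 262144) (Steps.fwd (nat_lit 786432) (Steps.bwd (nat_lit 1) (Steps.bwd (nat_lit 6) (Steps.fwd (nat_lit 262144) (Steps.bwd (nat_lit 6) (Steps.fwd (nat_lit 1310720) (Steps.fwd (nat_lit 786432) Steps.nil))))))))))))) (nat_lit 34) (nat_lit 2),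
  Rule.mk (nat_lit 4) (nat_lit 314) (Steps.bwd (nat_lit 9) (Steps.bwd (nat_lit 4) (Steps.fwd (nat_lit 2359296) (Steps.fwd (nat_lit 1048576) (Steps.bwd (nat_lit 9) (Steps.bwd (nat_lit 4) (Steps.fwd (nat_lit 2359296) (Steps.fwd (nat_lit 1048576) (Steps.bwd (nat_lit 9) (Steps.fwd (nat_lit 1048576) (Steps.fwd (nat_lit 2359296) (Steps.bwd (nat_lit 4) (Steps.bwd (nat_lit 9) (Steps.fwd (nat_lit 1048576) (Steps.bwd (nat_lit 8) Steps.nil))))))))))))))) (nat_lit 106) (nat_lit 2),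
  Rule.mk (nat_lit 4) (nat_lit 314) (Steps.bwd (nat_lit 8) (Steps.bwd (nat_lit 4) (Steps.bwd (nat_lit 9) (Steps.fwd (nat_lit 1048576) (Steps.fwd (nat_lit 2359296) (Steps.bwd (nat_lit 4) (Steps.bwd (nat_lit 9) (Steps.bwd (nat_lit 4) (Steps.fwd (nat_lit 2359296) (Steps.fwd (nat_lit 1048576) (Steps.bwd (nat_lit 9) (Steps.bwd (nat_lit 4) (Steps.fwd (nat_lit 2359296) (Steps.fwd (nat_lit 1048576) (Steps.bwd (nat_lit 9) Steps.nil))))))))))))))) (nat_lit 106) (nat_lit 0),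
  Rule.mk (nat_lit 4) (nat_lit 314) (Steps.bwd (nat_lit 8) (Steps.bwd (nat_lit 4) (Steps.bwd (nat_lit 9) (Steps.bwd (nat_lit 4) (Steps.fwd (nat_lit 2359296) (Steps.fwd (nat_lit 1048576) (Steps.fwd (nat_lit 2097152) (Steps.fwd (nat_lit 1048576) (Steps.fwd (nat_lit 2359296) (Steps.bwd (nat_lit 4) (Steps.fwd (nat_lit 2097152) (Steps.bwd (nat_lit 4) (Steps.fwd (nat_lit 2359296) (Steps.fwd (nat_lit 1048576) (Steps.bwd (nat_lit 9) Steps.nil))))))))))))))) (nat_lit 106) (nat_lit 0),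
  Rule.mk (nat_lit 4) (nat_lit 314) (Steps.bwd (nat_lit 8) (Steps.bwd (nat_lit 4) (Steps.bwd (nat_lit 9) (Steps.bwd (nat_lit 4) (Steps.bwd (nat_lit 8) (Steps.bwd (nat_lit 4) (Steps.bwd (nat_lit 9) (Steps.fwd (nat_lit 1048576) (Steps.fwd (nat_lit 2359296) (Steps.fwd (nat_lit 1048576) (Steps.fwd (nat_lit 2097152) (Steps.fwd (nat_lit 1048576) (Steps.fwd (nat_lit 2359296) (Steps.fwd (nat_lit 1048576) (Steps.bwd (nat_lit 9) Steps.nil))))))))))))))) (nat_lit 106) (nat_lit 0)]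
noncomputable def R_44 : List (Rule) := [Rule.mk (nat_lit 8) (nat_lit 314) (Steps.bwd (nat_lit 4) (Steps.bwd (nat_lit 9) (Steps.bwd (nat_lit 4) (Steps.bwd (nat_lit 8) (Steps.bwd (nat_lit 4) (Steps.bwd (nat_lit 9) (Steps.fwd (nat_lit 1048576) (Steps.bwd (nat_lit 8) (Steps.fwd (nat_lit 1048576) (Steps.fwd (nat_lit 2097152) (Steps.fwd (nat_lit 1048576) (Steps.fwd (nat_lit 2359296) (Steps.fwd (nat_lit 1048576) (Steps.bwd (nat_lit 9) (Steps.fwd (nat_lit 1048576) Steps.nil))))))))))))))) (nat_lit 106) (nat_lit 1),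
  Rule.mk (nat_lit 4) (nat_lit 314) (Steps.bwd (nat_lit 9) (Steps.bwd (nat_lit 4) (Steps.fwd (nat_lit 2359296) (Steps.fwd (nat_lit 1048576) (Steps.fwd (nat_lit 2097152) (Steps.bwd (nat_lit 4) (Steps.fwd (nat_lit 2359296) (Steps.bwd (nat_lit 4) (Steps.bwd (nat_lit 9) (Steps.bwd (nat_lit 4) (Steps.fwd (nat_lit 2359296) (Steps.fwd (nat_lit 1048576) (Steps.fwd (nat_lit 2097152) (Steps.fwd (nat_lit 1048576) (Steps.bwd (nat_lit 8) Steps.nil))))))))))))))) (nat_lit 106) (nat_lit 2),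
  Rule.mk (nat_lit 1) (nat_lit 274) (Steps.bwd (nat_lit 6) (Steps.bwd (nat_lit 1) (Steps.bwd (nat_lit 3) (Steps.bwd (nat_lit 5) (Steps.bwd (nat_lit 6) (Steps.bwd (nat_lit 1) (Steps.bwd (nat_lit 6) (Steps.fwd (nat_lit 262144) (Steps.fwd (nat_lit 524288) (Steps.fwd (nat_lit 262144) (Steps.bwd (nat_lit 6) (Steps.bwd (nat_lit 1) (Steps.bwd (nat_lit 3) Steps.nil))))))))))))) (nat_lit 35) (nat_lit 11),
  Rule.mk (nat_lit 1) (nat_lit 274) (Steps.bwd (nat_lit 6) (Steps.fwd (nat_lit 1310720) (Steps.fwd (nat_lit 786432) (Steps.bwd (nat_lit 1) (Steps.bwd (nat_lit 6) (Steps.bwd (nat_lit 1) (Steps.bwd (nat_lit 2) (Steps.bwd (nat_lit 1) (Steps.bwd (nat_lit 6) (Steps.fwd (nat_lit 262144) (Steps.fwd (nat_lit 786432) (Steps.fwd (nat_lit 262144) (Steps.bwd (nat_lit 6) Steps.nil))))))))))))) (nat_lit 34) (nat_lit 12),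
  Rule.mk (nat_lit 1) (nat_lit 274) (Steps.bwd (nat_lit 6) (Steps.bwd (nat_lit 1) (Steps.bwd (nat_lit 2) (Steps.bwd (nat_lit 1) (Steps.bwd (nat_lit 6) (Steps.fwd (nat_lit 262144) (Steps.bwd (nat_lit 6) (Steps.fwd (nat_lit 1310720) (Steps.fwd (nat_lit 786432) (Steps.bwd (nat_lit 1) (Steps.fwd (nat_lit 1572864) (Steps.bwd (nat_lit 1) (Steps.fwd (nat_lit 786432) Steps.nil))))))))))))) (nat_lit 34) (nat_lit 6),
  Rule.mk (nat_lit 4) (nat_lit 314) (Steps.bwd (nat_lit 8) (Steps.bwd (nat_lit 4) (Steps.bwd (nat_lit 9) (Steps.bwd (nat_lit 4) (Steps.bwd (nat_lit 8) (Steps.bwd (nat_lit 4) (Steps.bwd (nat_lit 9) (Steps.bwd (nat_lit 4) (Steps.fwd (nat_lit 2359296) (Steps.fwd (nat_lit 1048576) (Steps.fwd (nat_lit 2097152) (Steps.fwd (nat_lit 1048576) (Steps.fwd (nat_lit 2359296) (Steps.fwd (nat_lit 1048576) (Steps.bwd (nat_lit 9) Steps.nil))))))))))))))) (nat_lit 106) (nat_lit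 0),
  Rule.mk (nat_lit 1) (nat_lit 274) (Steps.bwd (nat_lit 6) (Steps.bwd (nat_lit 1) (Steps.bwd (nat_lit 2) (Steps.bwd (nat_lit 1) (Steps.fwd (nat_lit 1572864) (Steps.fwd (nat_lit 262144) (Steps.fwd (nat_lit 786432) (Steps.bwd (nat_lit 1) (Steps.fwd (nat_lit 1572864) (Steps.bwd (nat_lit 1) (Steps.bwd (nat_lit 6) (Steps.fwd (nat_lit 1310720) (Steps.fwd (nat_lit 786432) Steps.nil))))))))))))) (nat_lit 34) (nat_lit 2),
  Rule.mk (nat_lit 6) (nat_lit 274) (Steps.bwd (nat_lit 1) (Steps.fwd (nat_lit 1572864) (Steps.bwd (nat_lit 5) (Steps.bwd (nat_lit 2) (Steps.fwd (nat_lit 262144) (Steps.fwd (nat_lit 1572864) (Steps.bwd (nat_lit 1) (Steps.bwd (nat_lit 2) (Steps.bwd (nat_lit 1) (Steps.fwd (nat_lit 1572864) (Steps.fwd (nat_lit 262144) (Steps.bwd (nat_lit 2) (Steps.bwd (nat_lit 1) Steps.nil))))))))))))) (nat_lit 34) (nat_lit 11),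
  Rule.mk (nat_lit 4) (nat_lit 314) (Steps.bwd (nat_lit 8) (Steps.bwd (nat_lit 4) (Steps.bwd (nat_lit 9) (Steps.bwd (nat_lit 4) (Steps.fwd (nat_lit 2359296) (Steps.fwd (nat_lit 1048576) (Steps.fwd (nat_lit 2097152) (Steps.fwd (nat_lit 1048576) (Steps.fwd (nat_lit 2359296) (Steps.bwd (nat_lit 4) (Steps.bwd (nat_lit 9) (Steps.fwd (nat_lit 1048576) (Steps.fwd (nat_lit 2359296) (Steps.fwd (nat_lit 1048576) (Steps.fwd (nat_lit 2097152) Steps.nil))))))))))))))) (nat_lit 106) (nat_lit 0),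
  Rule.mk (nat_lit 8) (nat_lit 314) (Steps.bwd (nat_lit 4) (Steps.bwd (nat_lit 9) (Steps.bwd (nat_lit 4) (Steps.bwd (nat_lit 8) (Steps.bwd (nat_lit 4) (Steps.bwd (nat_lit 9) (Steps.fwd (nat_lit 1048576) (Steps.bwd (nat_lit 8) (Steps.fwd (nat_lit 1048576) (Steps.fwd (nat_lit 2097152) (Steps.bwd (nat_lit 4) (Steps.fwd (nat_lit 2359296) (Steps.fwd (nat_lit 1048576) (Steps.fwd (nat_lit 2097152) (Steps.fwd (nat_lit 1048576) Steps.nil))))))))))))))) (nat_lit 106) (nat_lit 1),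
  Rule.mk (nat_lit 1) (nat_lit 274) (Steps.bwd (nat_lit 6) (Steps.bwd (nat_lit 1) (Steps.bwd (nat_lit 3) (Steps.fwd (nat_lit 1310720) (Steps.bwd (nat_lit 6) (Steps.bwd (nat_lit 1) (Steps.fwd (nat_lit 1572864) (Steps.fwd (nat_lit 262144) (Steps.fwd (nat_lit 524288) (Steps.fwd (nat_lit 262144) (Steps.bwd (nat_lit 6) (Steps.fwd (nat_lit 262144) (Steps.bwd (nat_lit 3) Steps.nil))))))))))))) (nat_lit 35) (nat_lit 11),
  Rule.mk (nat_lit 9) (nat_lit 314) (Steps.bwd (nat_lit 4) (Steps.bwd (nat_lit 8) (Steps.bwd (nat_lit 4) (Steps.fwd (nat_lit 2097152) (Steps.fwd (nat_lit 1048576) (Steps.fwd (nat_lit 2359296) (Steps.fwd (nat_lit 1048576) (Steps.fwd (nat_lit 2097152) (Steps.bwd (nat_lit 4) (Steps.bwd (nat_lit 8) (Steps.bwd (nat_lit 4) (Steps.bwd (nat_lit 9) (Steps.fwd (nat_lit 1048576) (Steps.fwd (nat_lit 2359296) (Steps.fwd (nat_lit 1048576) Steps.nil))))))))))))))) (nat_lit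 106) (nat_lit 3),
  Rule.mk (nat_lit 7) (nat_lit 74) (Steps.fwd (nat_lit 2097152) (Steps.bwd (nat_lit 5) (Steps.bwd (nat_lit 8) Steps.nil))) (nat_lit 98) (nat_lit 2),
  Rule.mk (nat_lit 4) (nat_lit 314) (Steps.bwd (nat_lit 9) (Steps.bwd (nat_lit 4) (Steps.bwd (nat_lit 8) (Steps.bwd (nat_lit 4) (Steps.bwd (nat_lit 9) (Steps.bwd (nat_lit 4) (Steps.fwd (nat_lit 2359296) (Steps.fwd (nat_lit 1048576) (Steps.fwd (nat_lit 2097152) (Steps.fwd (nat_lit 1048576) (Steps.fwd (nat_lit 2359296) (Steps.fwd (nat_lit 1048576) (Steps.bwd (nat_lit 9) (Steps.fwd (nat_lit 1048576) (Steps.bwd (nat_lit 8) Steps.nil))))))))))))))) (nat_lit 106) (nat_lit 2),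
  Rule.mk (nat_lit 6) (nat_lit 274) (Steps.bwd (nat_lit 1) (Steps.fwd (nat_lit 524288) (Steps.fwd (nat_lit 1310720) (Steps.bwd (nat_lit 6) (Steps.fwd (nat_lit 262144) (Steps.fwd (nat_lit 1572864) (Steps.bwd (nat_lit 1) (Steps.fwd (nat_lit 524288) (Steps.bwd (nat_lit 1) (Steps.fwd (nat_lit 1572864) (Steps.fwd (nat_lit 262144) (Steps.bwd (nat_lit 3) (Steps.bwd (nat_lit 1) Steps.nil))))))))))))) (nat_lit 35) (nat_lit 12),
  Rule.mk (nat_lit 1) (nat_lit 154) (Steps.bwd (nat_lit 3) (Steps.bwd (nat_lit 1) (Steps.fwd (nat_lit 1310720) (Steps.bwd (nat_lit 3) (Steps.bwd (nat_lit 1) (Steps.bwd (nat_lit 3) (Steps.bwd (nat_lit 5) Steps.nil))))))) (nat_lit 71) (nat_lit 6),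
  Rule.mk (nat_lit 1) (nat_lit 274) (Steps.bwd (nat_lit 6) (Steps.bwd (nat_lit 1) (Steps.bwd (nat_lit 2) (Steps.bwd (nat_lit 1) (Steps.fwd (nat_lit 1572864) (Steps.fwd (nat_lit 262144) (Steps.fwd (nat_lit 786432) (Steps.bwd (nat_lit 1) (Steps.fwd (nat_lit 1572864) (Steps.fwd (nat_lit 262144) (Steps.bwd (nat_lit 6) (Steps.bwd (nat_lit 5) (Steps.fwd (nat_lit 786432) Steps.nil))))))))))))) (nat_lit 34) (nat_lit 2),
  Rule.mk (nat_lit 4) (nat_lit 314) (Steps.bwd (nat_lit 9) (Steps.bwd (nat_lit 4) (Steps.bwd (nat_lit 8) (Steps.bwd (nat_lit 4) (Steps.bwd (nat_lit 9) (Steps.fwd (nat_lit 1048576) (Steps.fwd (nat_lit 2359296) (Steps.fwd (nat_lit 1048576) (Steps.fwd (nat_lit 2097152) (Steps.bwd (nat_lit 4) (Steps.fwd (nat_lit 2359296) (Steps.fwd (nat_lit 1048576) (Steps.bwd (nat_lit 9) (Steps.fwd (nat_lit 1048576) (Steps.fwd (nat_lit 2359296) Steps.nil))))))))))))))) (nat_lit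 106) (nat_lit 2),
  Rule.mk (nat_lit 6) (nat_lit 274) (Steps.bwd (nat_lit 1) (Steps.fwd (nat_lit 524288) (Steps.bwd (nat_lit 5) (Steps.fwd (nat_lit 1572864) (Steps.fwd (nat_lit 262144) (Steps.fwd (nat_lit 1572864) (Steps.bwd (nat_lit 1) (Steps.fwd (nat_lit 524288) (Steps.bwd (nat_lit 1) (Steps.fwd (nat_lit 1572864) (Steps.fwd (nat_lit 262144) (Steps.bwd (nat_lit 3) (Steps.bwd (nat_lit 1) Steps.nil))))))))))))) (nat_lit 35) (nat_lit 12),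
  Rule.mk (nat_lit 6) (nat_lit 274) (Steps.bwd (nat_lit 1) (Steps.fwd (nat_lit 524288) (Steps.bwd (nat_lit 1) (Steps.bwd (nat_lit 6) (Steps.fwd (nat_lit 262144) (Steps.fwd (nat_lit 524288) (Steps.bwd (nat_lit 1) (Steps.fwd (nat_lit 1572864) (Steps.bwd (nat_lit 1) (Steps.bwd (nat_lit 3) (Steps.fwd (nat_lit 1310720) (Steps.fwd (nat_lit 1572864) (Steps.fwd (nat_lit 262144) Steps.nil))))))))))))) (nat_lit 35) (nat_lit 4),
  Rule.mk (nat_lit 4) (nat_lit 314) (Steps.bwd (nat_lit 9) (Steps.bwd (nat_lit 4) (Steps.fwd (nat_lit 2359296) (Steps.fwd (nat_lit 1048576) (Steps.fwd (nat_lit 2097152) (Steps.bwd (nat_lit 4) (Steps.fwd (nat_lit 2359296) (Steps.fwd (nat_lit 1048576) (Steps.bwd (nat_lit 9) (Steps.fwd (nat_lit 1048576) (Steps.fwd (nat_lit 2359296) (Steps.bwd (nat_lit 4) (Steps.bwd (nat_lit 9) (Steps.fwd (nat_lit 1048576) (Steps.bwd (nat_lit 8) Steps.nil)))))))))))))))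 (nat_lit 106) (nat_lit 2),
  Rule.mk (nat_lit 6) (nat_lit 274) (Steps.bwd (nat_lit 1) (Steps.bwd (nat_lit 2) (Steps.bwd (nat_lit 1) (Steps.bwd (nat_lit 6) (Steps.fwd (nat_lit 262144) (Steps.bwd (nat_lit 2) (Steps.bwd (nat_lit 1) (Steps.bwd (nat_lit 6) (Steps.bwd (nat_lit 1) (Steps.bwd (nat_lit 6) (Steps.bwd (nat_lit 5) (Steps.bwd (nat_lit 2) (Steps.fwd (nat_lit 262144) Steps.nil))))))))))))) (nat_lit 34) (nat_lit 3),
  Rule.mk (nat_lit 1) (nat_lit 274) (Steps.bwd (nat_lit 6) (Steps.bwd (nat_lit 1) (Steps.fwd (nat_lit 786432) (Steps.bwd (nat_lit 1) (Steps.bwd (nat_lit 6) (Steps.fwd (nat_lit 262144) (Steps.fwd (nat_lit 1572864) (Steps.fwd (nat_lit 1310720) (Steps.bwd (nat_lit 2) (Steps.bwd (nat_lit 1) (Steps.bwd (nat_lit 6) (Steps.fwd (nat_lit 262144) (Steps.fwd (nat_lit 786432) Steps.nil))))))))))))) (nat_lit 34) (nat_lit 6),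
  Rule.mk (nat_lit 4) (nat_lit 114) (Steps.fwd (nat_lit 524288) (Steps.fwd (nat_lit 1835008) (Steps.fwd (nat_lit 1048576) (Steps.bwd (nat_lit 3) (Steps.fwd (nat_lit 1835008) Steps.nil))))) (nat_lit 57) (nat_lit 2),
  Rule.mk (nat_lit 1) (nat_lit 274) (Steps.bwd (nat_lit 6) (Steps.bwd (nat_lit 1) (Steps.bwd (nat_lit 3) (Steps.bwd (nat_lit 5) (Steps.fwd (nat_lit 1572864) (Steps.bwd (nat_lit 1) (Steps.bwd (nat_lit 6) (Steps.fwd (nat_lit 262144) (Steps.fwd (nat_lit 524288) (Steps.fwd (nat_lit 262144) (Steps.bwd (nat_lit 6) (Steps.bwd (nat_lit 1) (Steps.bwd (nat_lit 3) Steps.nil))))))))))))) (nat_lit 35) (nat_lit 11),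
  Rule.mk (nat_lit 1) (nat_lit 274) (Steps.bwd (nat_lit 6) (Steps.bwd (nat_lit 1) (Steps.bwd (nat_lit 2) (Steps.bwd (nat_lit 1) (Steps.bwd (nat_lit 6) (Steps.fwd (nat_lit 262144) (Steps.bwd (nat_lit 6) (Steps.fwd (nat_lit 1310720) (Steps.fwd (nat_lit 786432) (Steps.fwd (nat_lit 262144) (Steps.fwd (nat_lit 1572864) (Steps.fwd (nat_lit 262144) (Steps.fwd (nat_lit 786432) Steps.nil))))))))))))) (nat_lit 34) (nat_lit 6),
  Rule.mk (nat_lit 6) (nat_lit 274) (Steps.bwd (nat_lit 1) (Steps.fwd (nat_lit 1572864) (Steps.fwd (nat_lit 1310720) (Steps.bwd (nat_lit 2) (Steps.fwd (nat_lit 262144) (Steps.fwd (nat_lit 1572864) (Steps.bwd (nat_lit 1) (Steps.bwd (nat_lit 2) (Steps.bwd (nat_lit 1) (Steps.bwd (nat_lit 6) (Steps.fwd (nat_lit 262144) (Steps.bwd (nat_lit 2) (Steps.bwd (nat_lit 1) Steps.nil))))))))))))) (nat_lit 34) (nat_lit 11),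
  Rule.mk (nat_lit 6) (nat_lit 274) (Steps.bwd (nat_lit 1) (Steps.fwd (nat_lit 524288) (Steps.bwd (nat_lit 1) (Steps.bwd (nat_lit 6) (Steps.fwd (nat_lit 262144) (Steps.fwd (nat_lit 524288) (Steps.bwd (nat_lit 1) (Steps.fwd (nat_lit 1572864) (Steps.bwd (nat_lit 1) (Steps.bwd (nat_lit 3) (Steps.fwd (nat_lit 1310720) (Steps.bwd (nat_lit 6) (Steps.fwd (nat_lit 262144) Steps.nil))))))))))))) (nat_lit 35) (nat_lit 4),
  Rule.mk (nat_lit 6) (nat_lit 154) (Steps.bwd (nat_lit 3) (Steps.fwd (nat_lit 1310720) (Steps.bwd (nat_lit 3) (Steps.fwd (nat_lit 1835008) (Steps.fwd (nat_lit 1572864) (Steps.fwd (nat_lit 524288) (Steps.bwd (nat_lit 5) Steps.nil))))))) (nat_lit 83) (nat_lit 5),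
  Rule.mk (nat_lit 8) (nat_lit 314) (Steps.bwd (nat_lit 4) (Steps.bwd (nat_lit 9) (Steps.bwd (nat_lit 4) (Steps.bwd (nat_lit 8) (Steps.fwd (nat_lit 1048576) (Steps.bwd (nat_lit 9) (Steps.bwd (nat_lit 4) (Steps.bwd (nat_lit 8) (Steps.fwd (nat_lit 1048576) (Steps.fwd (nat_lit 2097152) (Steps.fwd (nat_lit 1048576) (Steps.fwd (nat_lit 2359296) (Steps.fwd (nat_lit 1048576) (Steps.fwd (nat_lit 2097152) (Steps.fwd (nat_lit 1048576) Steps.nil))))))))))))))) (nat_lit 106) (nat_lit 1),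
  Rule.mk (nat_lit 4) (nat_lit 314) (Steps.bwd (nat_lit 8) (Steps.bwd (nat_lit 4) (Steps.bwd (nat_lit 9) (Steps.bwd (nat_lit 4) (Steps.bwd (nat_lit 8) (Steps.bwd (nat_lit 4) (Steps.bwd (nat_lit 9) (Steps.fwd (nat_lit 1048576) (Steps.fwd (nat_lit 2359296) (Steps.bwd (nat_lit 4) (Steps.fwd (nat_lit 2097152) (Steps.fwd (nat_lit 1048576) (Steps.fwd (nat_lit 2359296) (Steps.fwd (nat_lit 1048576) (Steps.bwd (nat_lit 9) Steps.nil))))))))))))))) (nat_lit 106) (nat_lit 0),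
  Rule.mk (nat_lit 4) (nat_lit 314) (Steps.bwd (nat_lit 8) (Steps.bwd (nat_lit 4) (Steps.bwd (nat_lit 9) (Steps.bwd (nat_lit 4) (Steps.bwd (nat_lit 8) (Steps.bwd (nat_lit 4) (Steps.bwd (nat_lit 9) (Steps.bwd (nat_lit 4) (Steps.fwd (nat_lit 2359296) (Steps.fwd (nat_lit 1048576) (Steps.fwd (nat_lit 2097152) (Steps.bwd (nat_lit 4) (Steps.fwd (nat_lit 2359296) (Steps.fwd (nat_lit 1048576) (Steps.fwd (nat_lit 2097152) Steps.nil))))))))))))))) (nat_lit 106) (nat_lit 0),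
  Rule.mk (nat_lit 8) (nat_lit 314) (Steps.bwd (nat_lit 4) (Steps.bwd (nat_lit 9) (Steps.bwd (nat_lit 4) (Steps.bwd (nat_lit 8) (Steps.bwd (nat_lit 4) (Steps.bwd (nat_lit 9) (Steps.bwd (nat_lit 4) (Steps.fwd (nat_lit 2359296) (Steps.fwd (nat_lit 1048576) (Steps.fwd (nat_lit 2097152) (Steps.fwd (nat_lit 1048576) (Steps.fwd (nat_lit 2359296) (Steps.fwd (nat_lit 1048576) (Steps.fwd (nat_lit 2097152) (Steps.fwd (nat_lit 1048576) Steps.nil))))))))))))))) (nat_lit 106) (nat_lit 1),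
  Rule.mk (nat_lit 0) (nat_lit 94) (Steps.fwd (nat_lit 2359296) (Steps.bwd (nat_lit 7) (Steps.fwd (nat_lit 2097152) (Steps.bwd (nat_lit 5) Steps.nil)))) (nat_lit 98) (nat_lit 0),
  Rule.mk (nat_lit 7) (nat_lit 94) (Steps.fwd (nat_lit 2359296) (Steps.bwd (nat_lit 5) (Steps.bwd (nat_lit 9) (Steps.fwd (nat_lit 1310720) Steps.nil)))) (nat_lit 100) (nat_lit 0),
  Rule.mk (nat_lit 4) (nat_lit 154) (Steps.bwd (nat_lit 2) (Steps.fwd (nat_lit 1310720) (Steps.bwd (nat_lit 7) (Steps.bwd (nat_lit 4) (Steps.bwd (nat_lit 2) (Steps.bwd (nat_lit 6) (Steps.fwd (nat_lit 1835008) Steps.nil))))))) (nat_lit 88) (nat_lit 0),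
  Rule.mk (nat_lit 3) (nat_lit 114) (Steps.bwd (nat_lit 4) (Steps.bwd (nat_lit 6) (Steps.bwd (nat_lit 3) (Steps.bwd (nat_lit 4) (Steps.bwd (nat_lit 5) Steps.nil))))) (nat_lit 59) (nat_lit 0),
  Rule.mk (nat_lit 3) (nat_lit 154) (Steps.bwd (nat_lit 1) (Steps.fwd (nat_lit 524288) (Steps.bwd (nat_lit 7) (Steps.fwd (nat_lit 262144) (Steps.bwd (nat_lit 3) (Steps.fwd (nat_lit 262144) (Steps.fwd (nat_lit 1835008) Steps.nil))))))) (nat_lit 73) (nat_lit 2),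
  Rule.mk (nat_lit 4) (nat_lit 314) (Steps.bwd (nat_lit 8) (Steps.bwd (nat_lit 4) (Steps.bwd (nat_lit 9) (Steps.fwd (nat_lit 1048576) (Steps.bwd (nat_lit 8) (Steps.bwd (nat_lit 4) (Steps.bwd (nat_lit 9) (Steps.bwd (nat_lit 4) (Steps.bwd (nat_lit 8) (Steps.bwd (nat_lit 4) (Steps.bwd (nat_lit 9) (Steps.fwd (nat_lit 1048576) (Steps.fwd (nat_lit 2359296) (Steps.fwd (nat_lit 1048576) (Steps.bwd (nat_lit 9) Steps.nil))))))))))))))) (nat_lit 106) (nat_lit 0),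
  Rule.mk (nat_lit 4) (nat_lit 314) (Steps.bwd (nat_lit 9) (Steps.bwd (nat_lit 4) (Steps.bwd (nat_lit 8) (Steps.bwd (nat_lit 4) (Steps.bwd (nat_lit 9) (Steps.bwd (nat_lit 4) (Steps.bwd (nat_lit 8) (Steps.bwd (nat_lit 4) (Steps.fwd (nat_lit 2097152) (Steps.fwd (nat_lit 1048576) (Steps.fwd (nat_lit 2359296) (Steps.bwd (nat_lit 4) (Steps.fwd (nat_lit 2097152) (Steps.fwd (nat_lit 1048576) (Steps.fwd (nat_lit 2359296) Steps.nil))))))))))))))) (nat_lit 106) (nat_lit 2),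
  Rule.mk (nat_lit 4) (nat_lit 314) (Steps.fwd (nat_lit 2359296) (Steps.bwd (nat_lit 4) (Steps.bwd (nat_lit 9) (Steps.fwd (nat_lit 1048576) (Steps.bwd (nat_lit 8) (Steps.bwd (nat_lit 4) (Steps.bwd (nat_lit 9) (Steps.bwd (nat_lit 4) (Steps.fwd (nat_lit 2359296) (Steps.fwd (nat_lit 1048576) (Steps.fwd (nat_lit 2097152) (Steps.fwd (nat_lit 1048576) (Steps.fwd (nat_lit 2359296) (Steps.bwd (nat_lit 4) (Steps.bwd (nat_lit 9) Steps.nil))))))))))))))) (nat_lit 106) (nat_lit 0),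
  Rule.mk (nat_lit 4) (nat_lit 314) (Steps.bwd (nat_lit 8) (Steps.bwd (nat_lit 4) (Steps.bwd (nat_lit 9) (Steps.fwd (nat_lit 1048576) (Steps.fwd (nat_lit 2359296) (Steps.bwd (nat_lit 4) (Steps.bwd (nat_lit 9) (Steps.bwd (nat_lit 4) (Steps.bwd (nat_lit 8) (Steps.bwd (nat_lit 4) (Steps.bwd (nat_lit 9) (Steps.bwd (nat_lit 4) (Steps.fwd (nat_lit 2359296) (Steps.fwd (nat_lit 1048576) (Steps.fwd (nat_lit 2097152) Steps.nil))))))))))))))) (nat_lit 106) (nat_lit 0),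
  Rule.mk (nat_lit 7) (nat_lit 74) (Steps.fwd (nat_lit 2097152) (Steps.fwd (nat_lit 1310720) (Steps.bwd (nat_lit 8) Steps.nil))) (nat_lit 98) (nat_lit 2),
  Rule.mk (nat_lit 4) (nat_lit 314) (Steps.bwd (nat_lit 9) (Steps.bwd (nat_lit 4) (Steps.fwd (nat_lit 2359296) (Steps.fwd (nat_lit 1048576) (Steps.fwd (nat_lit 2097152) (Steps.fwd (nat_lit 1048576) (Steps.fwd (nat_lit 2359296) (Steps.bwd (nat_lit 4) (Steps.bwd (nat_lit 9) (Steps.bwd (nat_lit 4) (Steps.fwd (nat_lit 2359296) (Steps.fwd (nat_lit 1048576) (Steps.fwd (nat_lit 2097152) (Steps.bwd (nat_lit 4) (Steps.fwd (nat_lit 2359296) Steps.nil))))))))))))))) (nat_lit 106) (nat_lit 2),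
  Rule.mk (nat_lit 4) (nat_lit 314) (Steps.bwd (nat_lit 9) (Steps.bwd (nat_lit 4) (Steps.fwd (nat_lit 2359296) (Steps.fwd (nat_lit 1048576) (Steps.fwd (nat_lit 2097152) (Steps.bwd (nat_lit 4) (Steps.fwd (nat_lit 2359296) (Steps.bwd (nat_lit 4) (Steps.bwd (nat_lit 9) (Steps.fwd (nat_lit 1048576) (Steps.fwd (nat_lit 2359296) (Steps.bwd (nat_lit 4) (Steps.bwd (nat_lit 9) (Steps.fwd (nat_lit 1048576) (Steps.fwd (nat_lit 2359296) Steps.nil))))))))))))))) (nat_lit 106) (nat_lit 2),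
  Rule.mk (nat_lit 4) (nat_lit 314) (Steps.bwd (nat_lit 8) (Steps.bwd (nat_lit 4) (Steps.bwd (nat_lit 9) (Steps.bwd (nat_lit 4) (Steps.bwd (nat_lit 8) (Steps.bwd (nat_lit 4) (Steps.bwd (nat_lit 9) (Steps.fwd (nat_lit 1048576) (Steps.fwd (nat_lit 2359296) (Steps.fwd (nat_lit 1048576) (Steps.fwd (nat_lit 2097152) (Steps.fwd (nat_lit 1048576) (Steps.bwd (nat_lit 8) (Steps.fwd (nat_lit 1048576) (Steps.bwd (nat_lit 9) Steps.nil))))))))))))))) (nat_lit 106) (nat_lit 0),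
  Rule.mk (nat_lit 4) (nat_lit 314) (Steps.bwd (nat_lit 8) (Steps.bwd (nat_lit 4) (Steps.bwd (nat_lit 9) (Steps.bwd (nat_lit 4) (Steps.fwd (nat_lit 2359296) (Steps.fwd (nat_lit 1048576) (Steps.fwd (nat_lit 2097152) (Steps.fwd (nat_lit 1048576) (Steps.bwd (nat_lit 8) (Steps.bwd (nat_lit 4) (Steps.bwd (nat_lit 9) (Steps.fwd (nat_lit 1048576) (Steps.bwd (nat_lit 8) (Steps.bwd (nat_lit 4) (Steps.bwd (nat_lit 9) Steps.nil))))))))))))))) (nat_lit 106) (nat_lit 0),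
  Rule.mk (nat_lit 4) (nat_lit 314) (Steps.bwd (nat_lit 9) (Steps.bwd (nat_lit 4) (Steps.fwd (nat_lit 2359296) (Steps.fwd (nat_lit 1048576) (Steps.fwd (nat_lit 2097152) (Steps.bwd (nat_lit 4) (Steps.fwd (nat_lit 2359296) (Steps.fwd (nat_lit 1048576) (Steps.bwd (nat_lit 9) (Steps.bwd (nat_lit 4) (Steps.fwd (nat_lit 2359296) (Steps.bwd (nat_lit 4) (Steps.bwd (nat_lit 9) (Steps.fwd (nat_lit 1048576) (Steps.fwd (nat_lit 2359296) Steps.nil))))))))))))))) (nat_lit 106) (nat_lit 2),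
  Rule.mk (nat_lit 1) (nat_lit 154) (Steps.fwd (nat_lit 1835008) (Steps.bwd (nat_lit 3) (Steps.bwd (nat_lit 1) (Steps.bwd (nat_lit 3) (Steps.fwd (nat_lit 1835008) (Steps.fwd (nat_lit 262144) (Steps.fwd (nat_lit 524288) Steps.nil))))))) (nat_lit 73) (nat_lit 0),
  Rule.mk (nat_lit 4) (nat_lit 114) (Steps.bwd (nat_lit 2) (Steps.fwd (nat_lit 1835008) (Steps.bwd (nat_lit 4) (Steps.fwd (nat_lit 786432) (Steps.bwd (nat_lit 7) Steps.nil))))) (nat_lit 64) (nat_lit 0),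
  Rule.mk (nat_lit 9) (nat_lit 314) (Steps.bwd (nat_lit 4) (Steps.bwd (nat_lit 8) (Steps.bwd (nat_lit 4) (Steps.bwd (nat_lit 9) (Steps.bwd (nat_lit 4) (Steps.fwd (nat_lit 2359296) (Steps.bwd (nat_lit 4) (Steps.fwd (nat_lit 2097152) (Steps.fwd (nat_lit 1048576) (Steps.fwd (nat_lit 2359296) (Steps.fwd (nat_lit 1048576) (Steps.bwd (nat_lit 9) (Steps.bwd (nat_lit 4) (Steps.fwd (nat_lit 2359296) (Steps.fwd (nat_lit 1048576) Steps.nil))))))))))))))) (nat_lit 106) (nat_lit 3),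
  Rule.mk (nat_lit 4) (nat_lit 74) (Steps.fwd (nat_lit 524288) (Steps.bwd (nat_lit 4) (Steps.fwd (nat_lit 524288) Steps.nil))) (nat_lit 15) (nat_lit 0),
  Rule.mk (nat_lit 0) (nat_lit 334) (Steps.fwd (nat_lit 2359296) (Steps.bwd (nat_lit 4) (Steps.bwd (nat_lit 9) (Steps.bwd (nat_lit 4) (Steps.bwd (nat_lit 8) (Steps.bwd (nat_lit 4) (Steps.bwd (nat_lit 9) (Steps.bwd (nat_lit 4) (Steps.fwd (nat_lit 2359296) (Steps.fwd (nat_lit 1048576) (Steps.fwd (nat_lit 2097152) (Steps.fwd (nat_lit 1048576) (Steps.fwd (nat_lit 2359296) (Steps.fwd (nat_lit 1048576) (Steps.fwd (nat_lit 2097152) (Steps.fwd (nat_lit 1048576) Steps.nil)))))))))))))))) (nat_lit 106) (nat_lit 0),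
  Rule.mk (nat_lit 0) (nat_lit 74) (Steps.fwd (nat_lit 1310720) (Steps.fwd (nat_lit 0) (Steps.bwd (nat_lit 5) Steps.nil))) (nat_lit 108) (nat_lit 0),
  Rule.mk (nat_lit 0) (nat_lit 94) (Steps.bwd (nat_lit 8) (Steps.bwd (nat_lit 2) (Steps.bwd (nat_lit 9) (Steps.bwd (nat_lit 3) Steps.nil)))) (nat_lit 96) (nat_lit 0),
  Rule.mk (nat_lit 4) (nat_lit 314) (Steps.bwd (nat_lit 9) (Steps.bwd (nat_lit 4) (Steps.fwd (nat_lit 2359296) (Steps.fwd (nat_lit 1048576) (Steps.bwd (nat_lit 9) (Steps.bwd (nat_lit 4) (Steps.bwd (nat_lit 8) (Steps.bwd (nat_lit 4) (Steps.bwd (nat_lit 9) (Steps.bwd (nat_lit 4) (Steps.fwd (nat_lit 2359296) (Steps.fwd (nat_lit 1048576) (Steps.fwd (nat_lit 2097152) (Steps.fwd (nat_lit 1048576) (Steps.fwd (nat_lit 2359296) Steps.nil))))))))))))))) (nat_lit 106) (nat_lit 2),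
  Rule.mk (nat_lit 4) (nat_lit 314) (Steps.bwd (nat_lit 9) (Steps.bwd (nat_lit 4) (Steps.fwd (nat_lit 2359296) (Steps.fwd (nat_lit 1048576) (Steps.fwd (nat_lit 2097152) (Steps.fwd (nat_lit 1048576) (Steps.bwd (nat_lit 8) (Steps.bwd (nat_lit 4) (Steps.bwd (nat_lit 9) (Steps.bwd (nat_lit 4) (Steps.fwd (nat_lit 2359296) (Steps.fwd (nat_lit 1048576) (Steps.fwd (nat_lit 2097152) (Steps.fwd (nat_lit 1048576) (Steps.bwd (nat_lit 8) Steps.nil))))))))))))))) (nat_lit 106) (nat_lit 2),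
  Rule.mk (nat_lit 9) (nat_lit 314) (Steps.bwd (nat_lit 4) (Steps.bwd (nat_lit 8) (Steps.bwd (nat_lit 4) (Steps.bwd (nat_lit 9) (Steps.fwd (nat_lit 1048576) (Steps.bwd (nat_lit 8) (Steps.bwd (nat_lit 4) (Steps.bwd (nat_lit 9) (Steps.fwd (nat_lit 1048576) (Steps.fwd (nat_lit 2359296) (Steps.fwd (nat_lit 1048576) (Steps.fwd (nat_lit 2097152) (Steps.fwd (nat_lit 1048576) (Steps.fwd (nat_lit 2359296) (Steps.fwd (nat_lit 1048576) Steps.nil))))))))))))))) (nat_lit 106) (nat_lit 3),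
  Rule.mk (nat_lit 1) (nat_lit 154) (Steps.bwd (nat_lit 4) (Steps.bwd (nat_lit 7) (Steps.fwd (nat_lit 262144) (Steps.fwd (nat_lit 1048576) (Steps.bwd (nat_lit 1) (Steps.bwd (nat_lit 7) (Steps.bwd (nat_lit 4) Steps.nil))))))) (nat_lit 76) (nat_lit 6),
  Rule.mk (nat_lit 8) (nat_lit 314) (Steps.bwd (nat_lit 4) (Steps.fwd (nat_lit 2097152) (Steps.bwd (nat_lit 4) (Steps.bwd (nat_lit 8) (Steps.bwd (nat_lit 4) (Steps.bwd (nat_lit 9) (Steps.bwd (nat_lit 4) (Steps.bwd (nat_lit 8) (Steps.bwd (nat_lit 4) (Steps.fwd (nat_lit 2097152) (Steps.fwd (nat_lit 1048576) (Steps.fwd (nat_lit 2359296) (Steps.fwd (nat_lit 1048576) (Steps.fwd (nat_lit 2097152) (Steps.fwd (nat_lit 1048576) Steps.nil))))))))))))))) (nat_lit 106) (nat_lit 1),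
  Rule.mk (nat_lit 4) (nat_lit 314) (Steps.bwd (nat_lit 8) (Steps.bwd (nat_lit 4) (Steps.bwd (nat_lit 9) (Steps.fwd (nat_lit 1048576) (Steps.fwd (nat_lit 2359296) (Steps.bwd (nat_lit 4) (Steps.bwd (nat_lit 9) (Steps.bwd (nat_lit 4) (Steps.bwd (nat_lit 8) (Steps.bwd (nat_lit 4) (Steps.bwd (nat_lit 9) (Steps.bwd (nat_lit 4) (Steps.fwd (nat_lit 2359296) (Steps.fwd (nat_lit 1048576) (Steps.bwd (nat_lit 9) Steps.nil))))))))))))))) (nat_lit 106) (nat_lit 0),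
  Rule.mk (nat_lit 9) (nat_lit 314) (Steps.bwd (nat_lit 4) (Steps.bwd (nat_lit 8) (Steps.bwd (nat_lit 4) (Steps.bwd (nat_lit 9) (Steps.fwd (nat_lit 1048576) (Steps.bwd (nat_lit 8) (Steps.fwd (nat_lit 1048576) (Steps.fwd (nat_lit 2097152) (Steps.fwd (nat_lit 1048576) (Steps.fwd (nat_lit 2359296) (Steps.fwd (nat_lit 1048576) (Steps.fwd (nat_lit 2097152) (Steps.bwd (nat_lit 4) (Steps.fwd (nat_lit 2359296) (Steps.fwd (nat_lit 1048576) Steps.nil))))))))))))))) (nat_lit 106) (nat_lit 3),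
  Rule.mk (nat_lit 8) (nat_lit 314) (Steps.bwd (nat_lit 4) (Steps.bwd (nat_lit 9) (Steps.bwd (nat_lit 4) (Steps.bwd (nat_lit 8) (Steps.bwd (nat_lit 4) (Steps.bwd (nat_lit 9) (Steps.fwd (nat_lit 1048576) (Steps.fwd (nat_lit 2359296) (Steps.fwd (nat_lit 1048576) (Steps.fwd (nat_lit 2097152) (Steps.bwd (nat_lit 4) (Steps.fwd (nat_lit 2359296) (Steps.fwd (nat_lit 1048576) (Steps.fwd (nat_lit 2097152) (Steps.fwd (nat_lit 1048576) Steps.nil))))))))))))))) (nat_lit 106) (nat_lit 1),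
  Rule.mk (nat_lit 4) (nat_lit 314) (Steps.bwd (nat_lit 9) (Steps.bwd (nat_lit 4) (Steps.bwd (nat_lit 8) (Steps.bwd (nat_lit 4) (Steps.bwd (nat_lit 9) (Steps.bwd (nat_lit 4) (Steps.fwd (nat_lit 2359296) (Steps.fwd (nat_lit 1048576) (Steps.fwd (nat_lit 2097152) (Steps.fwd (nat_lit 1048576) (Steps.fwd (nat_lit 2359296) (Steps.fwd (nat_lit 1048576) (Steps.fwd (nat_lit 2097152) (Steps.fwd (nat_lit 1048576) (Steps.bwd (nat_lit 8) Steps.nil))))))))))))))) (nat_lit 106) (nat_lit 2)]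
noncomputable def R_45 : List (Rule) := [Rule.mk (nat_lit 9) (nat_lit 314) (Steps.bwd (nat_lit 4) (Steps.fwd (nat_lit 2359296) (Steps.bwd (nat_lit 4) (Steps.bwd (nat_lit 9) (Steps.bwd (nat_lit 4) (Steps.bwd (nat_lit 8) (Steps.bwd (nat_lit 4) (Steps.fwd (nat_lit 2097152) (Steps.bwd (nat_lit 4) (Steps.fwd (nat_lit 2359296) (Steps.fwd (nat_lit 1048576) (Steps.fwd (nat_lit 2097152) (Steps.fwd (nat_lit 1048576) (Steps.fwd (nat_lit 2359296) (Steps.fwd (nat_lit 1048576) Steps.nil))))))))))))))) (nat_lit 106) (nat_lit 3),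
  Rule.mk (nat_lit 9) (nat_lit 314) (Steps.bwd (nat_lit 4) (Steps.bwd (nat_lit 8) (Steps.bwd (nat_lit 4) (Steps.bwd (nat_lit 9) (Steps.bwd (nat_lit 4) (Steps.fwd (nat_lit 2359296) (Steps.bwd (nat_lit 4) (Steps.fwd (nat_lit 2097152) (Steps.bwd (nat_lit 4) (Steps.bwd (nat_lit 8) (Steps.fwd (nat_lit 1048576) (Steps.bwd (nat_lit 9) (Steps.fwd (nat_lit 1048576) (Steps.fwd (nat_lit 2359296) (Steps.fwd (nat_lit 1048576) Steps.nil))))))))))))))) (nat_lit 106) (nat_lit 3),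
  Rule.mk (nat_lit 4) (nat_lit 314) (Steps.bwd (nat_lit 9) (Steps.bwd (nat_lit 4) (Steps.fwd (nat_lit 2359296) (Steps.fwd (nat_lit 1048576) (Steps.fwd (nat_lit 2097152) (Steps.fwd (nat_lit 1048576) (Steps.fwd (nat_lit 2359296) (Steps.bwd (nat_lit 4) (Steps.bwd (nat_lit 9) (Steps.bwd (nat_lit 4) (Steps.fwd (nat_lit 2359296) (Steps.fwd (nat_lit 1048576) (Steps.fwd (nat_lit 2097152) (Steps.fwd (nat_lit 1048576) (Steps.bwd (nat_lit 8) Steps.nil))))))))))))))) (nat_lit 106) (nat_lit 2),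
  Rule.mk (nat_lit 4) (nat_lit 314) (Steps.bwd (nat_lit 9) (Steps.bwd (nat_lit 4) (Steps.fwd (nat_lit 2359296) (Steps.fwd (nat_lit 1048576) (Steps.fwd (nat_lit 2097152) (Steps.bwd (nat_lit 4) (Steps.bwd (nat_lit 8) (Steps.bwd (nat_lit 4) (Steps.bwd (nat_lit 9) (Steps.fwd (nat_lit 1048576) (Steps.fwd (nat_lit 2359296) (Steps.bwd (nat_lit 4) (Steps.bwd (nat_lit 9) (Steps.fwd (nat_lit 1048576) (Steps.bwd (nat_lit 8) Steps.nil))))))))))))))) (nat_lit 106) (nat_lit 2),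
  Rule.mk (nat_lit 1) (nat_lit 274) (Steps.bwd (nat_lit 6) (Steps.bwd (nat_lit 1) (Steps.bwd (nat_lit 3) (Steps.bwd (nat_lit 1) (Steps.bwd (nat_lit 6) (Steps.bwd (nat_lit 1) (Steps.fwd (nat_lit 524288) (Steps.bwd (nat_lit 1) (Steps.fwd (nat_lit 1572864) (Steps.fwd (nat_lit 262144) (Steps.fwd (nat_lit 524288) (Steps.fwd (nat_lit 1310720) (Steps.bwd (nat_lit 6) Steps.nil))))))))))))) (nat_lit 35) (nat_lit 3),
  Rule.mk (nat_lit 9) (nat_lit 314) (Steps.bwd (nat_lit 4) (Steps.fwd (nat_lit 2359296) (Steps.bwd (nat_lit 4) (Steps.bwd (nat_lit 9) (Steps.bwd (nat_lit 4) (Steps.fwd (nat_lit 2359296) (Steps.fwd (nat_lit 1048576) (Steps.fwd (nat_lit 2097152) (Steps.bwd (nat_lit 4) (Steps.fwd (nat_lit 2359296) (Steps.fwd (nat_lit 1048576) (Steps.bwd (nat_lit 9) (Steps.bwd (nat_lit 4) (Steps.fwd (nat_lit 2359296) (Steps.fwd (nat_lit 1048576) Steps.nil))))))))))))))) (nat_lit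 106) (nat_lit 3),
  Rule.mk (nat_lit 9) (nat_lit 314) (Steps.bwd (nat_lit 4) (Steps.bwd (nat_lit 8) (Steps.bwd (nat_lit 4) (Steps.bwd (nat_lit 9) (Steps.bwd (nat_lit 4) (Steps.fwd (nat_lit 2359296) (Steps.bwd (nat_lit 4) (Steps.fwd (nat_lit 2097152) (Steps.bwd (nat_lit 4) (Steps.bwd (nat_lit 8) (Steps.fwd (nat_lit 1048576) (Steps.fwd (nat_lit 2097152) (Steps.fwd (nat_lit 1048576) (Steps.fwd (nat_lit 2359296) (Steps.fwd (nat_lit 1048576) Steps.nil))))))))))))))) (nat_lit 106) (nat_lit 3),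
  Rule.mk (nat_lit 1) (nat_lit 274) (Steps.fwd (nat_lit 786432) (Steps.fwd (nat_lit 262144) (Steps.bwd (nat_lit 6) (Steps.bwd (nat_lit 1) (Steps.bwd (nat_lit 6) (Steps.bwd (nat_lit 5) (Steps.fwd (nat_lit 786432) (Steps.fwd (nat_lit 262144) (Steps.bwd (nat_lit 6) (Steps.bwd (nat_lit 1) (Steps.bwd (nat_lit 2) (Steps.fwd (nat_lit 262144) (Steps.bwd (nat_lit 6) Steps.nil))))))))))))) (nat_lit 34) (nat_lit 8),
  Rule.mk (nat_lit 8) (nat_lit 314) (Steps.bwd (nat_lit 4) (Steps.bwd (nat_lit 9) (Steps.bwd (nat_lit 4) (Steps.bwd (nat_lit 8) (Steps.bwd (nat_lit 4) (Steps.fwd (nat_lit 2097152) (Steps.bwd (nat_lit 4) (Steps.fwd (nat_lit 2359296) (Steps.bwd (nat_lit 4) (Steps.bwd (nat_lit 9) (Steps.fwd (nat_lit 1048576) (Steps.fwd (nat_lit 2359296) (Steps.fwd (nat_lit 1048576) (Steps.fwd (nat_lit 2097152) (Steps.fwd (nat_lit 1048576) Steps.nil))))))))))))))) (nat_lit 106) (nat_lit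 1),
  Rule.mk (nat_lit 6) (nat_lit 274) (Steps.bwd (nat_lit 1) (Steps.bwd (nat_lit 6) (Steps.bwd (nat_lit 5) (Steps.bwd (nat_lit 2) (Steps.bwd (nat_lit 1) (Steps.fwd (nat_lit 1572864) (Steps.fwd (nat_lit 262144) (Steps.bwd (nat_lit 2) (Steps.bwd (nat_lit 1) (Steps.bwd (nat_lit 6) (Steps.fwd (nat_lit 262144) (Steps.fwd (nat_lit 786432) (Steps.fwd (nat_lit 262144) Steps.nil))))))))))))) (nat_lit 34) (nat_lit 11),
  Rule.mk (nat_lit 6) (nat_lit 154) (Steps.bwd (nat_lit 3) (Steps.bwd (nat_lit 5) (Steps.fwd (nat_lit 524288) (Steps.bwd (nat_lit 7) (Steps.fwd (nat_lit 1572864) (Steps.fwd (nat_lit 524288) (Steps.bwd (nat_lit 5) Steps.nil))))))) (nat_lit 83) (nat_lit 5),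
  Rule.mk (nat_lit 1) (nat_lit 274) (Steps.fwd (nat_lit 1572864) (Steps.bwd (nat_lit 5) (Steps.fwd (nat_lit 786432) (Steps.fwd (nat_lit 262144) (Steps.bwd (nat_lit 6) (Steps.bwd (nat_lit 1) (Steps.bwd (nat_lit 2) (Steps.fwd (nat_lit 262144) (Steps.bwd (nat_lit 6) (Steps.fwd (nat_lit 262144) (Steps.fwd (nat_lit 786432) (Steps.bwd (nat_lit 1) (Steps.bwd (nat_lit 6) Steps.nil))))))))))))) (nat_lit 34) (nat_lit 12),
  Rule.mk (nat_lit 9) (nat_lit 314) (Steps.bwd (nat_lit 4) (Steps.fwd (nat_lit 2359296) (Steps.bwd (nat_lit 4) (Steps.fwd (nat_lit 2097152) (Steps.bwd (nat_lit 4) (Steps.fwd (nat_lit 2359296) (Steps.fwd (nat_lit 1048576) (Steps.fwd (nat_lit 2097152) (Steps.fwd (nat_lit 1048576) (Steps.fwd (nat_lit 2359296) (Steps.fwd (nat_lit 1048576) (Steps.bwd (nat_lit 9) (Steps.bwd (nat_lit 4) (Steps.fwd (nat_lit 2359296) (Steps.fwd (nat_lit 1048576) Steps.nil)))))))))))))))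 (nat_lit 106) (nat_lit 3),
  Rule.mk (nat_lit 4) (nat_lit 314) (Steps.bwd (nat_lit 9) (Steps.bwd (nat_lit 4) (Steps.bwd (nat_lit 8) (Steps.bwd (nat_lit 4) (Steps.bwd (nat_lit 9) (Steps.bwd (nat_lit 4) (Steps.bwd (nat_lit 8) (Steps.bwd (nat_lit 4) (Steps.fwd (nat_lit 2097152) (Steps.fwd (nat_lit 1048576) (Steps.fwd (nat_lit 2359296) (Steps.bwd (nat_lit 4) (Steps.fwd (nat_lit 2097152) (Steps.fwd (nat_lit 1048576) (Steps.bwd (nat_lit 8) Steps.nil))))))))))))))) (nat_lit 106) (nat_lit 2),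
  Rule.mk (nat_lit 4) (nat_lit 314) (Steps.bwd (nat_lit 9) (Steps.bwd (nat_lit 4) (Steps.bwd (nat_lit 8) (Steps.bwd (nat_lit 4) (Steps.bwd (nat_lit 9) (Steps.bwd (nat_lit 4) (Steps.fwd (nat_lit 2359296) (Steps.fwd (nat_lit 1048576) (Steps.fwd (nat_lit 2097152) (Steps.fwd (nat_lit 1048576) (Steps.fwd (nat_lit 2359296) (Steps.bwd (nat_lit 4) (Steps.bwd (nat_lit 9) (Steps.fwd (nat_lit 1048576) (Steps.fwd (nat_lit 2359296) Steps.nil))))))))))))))) (nat_lit 106) (nat_lit 2),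
  Rule.mk (nat_lit 1) (nat_lit 274) (Steps.bwd (nat_lit 6) (Steps.fwd (nat_lit 1310720) (Steps.fwd (nat_lit 786432) (Steps.bwd (nat_lit 1) (Steps.bwd (nat_lit 6) (Steps.fwd (nat_lit 262144) (Steps.fwd (nat_lit 786432) (Steps.bwd (nat_lit 1) (Steps.fwd (nat_lit 1572864) (Steps.fwd (nat_lit 262144) (Steps.bwd (nat_lit 2) (Steps.bwd (nat_lit 1) (Steps.bwd (nat_lit 6) Steps.nil))))))))))))) (nat_lit 34) (nat_lit 12),
  Rule.mk (nat_lit 3) (nat_lit 154) (Steps.bwd (nat_lit 1) (Steps.fwd (nat_lit 786432) (Steps.fwd (nat_lit 262144) (Steps.bwd (nat_lit 3) (Steps.fwd (nat_lit 262144) (Steps.fwd (nat_lit 786432) (Steps.fwd (nat_lit 262144) Steps.nil))))))) (nat_lit 68) (nat_lit 0),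
  Rule.mk (nat_lit 1) (nat_lit 274) (Steps.bwd (nat_lit 6) (Steps.bwd (nat_lit 1) (Steps.bwd (nat_lit 3) (Steps.bwd (nat_lit 5) (Steps.fwd (nat_lit 1572864) (Steps.bwd (nat_lit 1) (Steps.bwd (nat_lit 6) (Steps.bwd (nat_lit 1) (Steps.bwd (nat_lit 3) (Steps.bwd (nat_lit 1) (Steps.fwd (nat_lit 1572864) (Steps.fwd (nat_lit 262144) (Steps.fwd (nat_lit 524288) Steps.nil))))))))))))) (nat_lit 35) (nat_lit 11),
  Rule.mk (nat_lit 1) (nat_lit 274) (Steps.fwd (nat_lit 1572864) (Steps.fwd (nat_lit 1310720) (Steps.fwd (nat_lit 786432) (Steps.fwd (nat_lit 262144) (Steps.fwd (nat_lit 1572864) (Steps.bwd (nat_lit 1) (Steps.fwd (nat_lit 786432) (Steps.fwd (nat_lit 262144) (Steps.fwd (nat_lit 1572864) (Steps.fwd (nat_lit 262144) (Steps.bwd (nat_lit 2) (Steps.bwd (nat_lit 1) (Steps.bwd (nat_lit 6) Steps.nil))))))))))))) (nat_lit 34) (nat_lit 12),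
  Rule.mk (nat_lit 1) (nat_lit 274) (Steps.fwd (nat_lit 1572864) (Steps.fwd (nat_lit 1310720) (Steps.fwd (nat_lit 786432) (Steps.fwd (nat_lit 262144) (Steps.fwd (nat_lit 1572864) (Steps.bwd (nat_lit 1) (Steps.bwd (nat_lit 2) (Steps.fwd (nat_lit 262144) (Steps.fwd (nat_lit 1572864) (Steps.fwd (nat_lit 262144) (Steps.bwd (nat_lit 2) (Steps.bwd (nat_lit 1) (Steps.bwd (nat_lit 6) Steps.nil))))))))))))) (nat_lit 34) (nat_lit 12),
  Rule.mk (nat_lit 4) (nat_lit 114) (Steps.bwd (nat_lit 5) (Steps.bwd (nat_lit 2) (Steps.bwd (nat_lit 4) (Steps.fwd (nat_lit 1572864) (Steps.bwd (nat_lit 2) Steps.nil))))) (nat_lit 54) (nat_lit 2),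
  Rule.mk (nat_lit 4) (nat_lit 314) (Steps.bwd (nat_lit 9) (Steps.bwd (nat_lit 4) (Steps.bwd (nat_lit 8) (Steps.bwd (nat_lit 4) (Steps.bwd (nat_lit 9) (Steps.bwd (nat_lit 4) (Steps.fwd (nat_lit 2359296) (Steps.bwd (nat_lit 4) (Steps.fwd (nat_lit 2097152) (Steps.fwd (nat_lit 1048576) (Steps.fwd (nat_lit 2359296) (Steps.bwd (nat_lit 4) (Steps.bwd (nat_lit 9) (Steps.bwd (nat_lit 4) (Steps.fwd (nat_lit 2359296) Steps.nil))))))))))))))) (nat_lit 106) (nat_lit 2),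
  Rule.mk (nat_lit 1) (nat_lit 274) (Steps.fwd (nat_lit 1572864) (Steps.fwd (nat_lit 1310720) (Steps.bwd (nat_lit 2) (Steps.bwd (nat_lit 1) (Steps.fwd (nat_lit 1572864) (Steps.fwd (nat_lit 262144) (Steps.fwd (nat_lit 786432) (Steps.bwd (nat_lit 1) (Steps.bwd (nat_lit 6) (Steps.fwd (nat_lit 262144) (Steps.bwd (nat_lit 2) (Steps.bwd (nat_lit 1) (Steps.bwd (nat_lit 6) Steps.nil))))))))))))) (nat_lit 34) (nat_lit 12),
  Rule.mk (nat_lit 9) (nat_lit 314) (Steps.bwd (nat_lit 4) (Steps.bwd (nat_lit 8) (Steps.bwd (nat_lit 4) (Steps.bwd (nat_lit 9) (Steps.bwd (nat_lit 4) (Steps.bwd (nat_lit 8) (Steps.bwd (nat_lit 4) (Steps.bwd (nat_lit 9) (Steps.fwd (nat_lit 1048576) (Steps.fwd (nat_lit 2359296) (Steps.bwd (nat_lit 4) (Steps.fwd (nat_lit 2097152) (Steps.fwd (nat_lit 1048576) (Steps.fwd (nat_lit 2359296) (Steps.fwd (nat_lit 1048576) Steps.nil))))))))))))))) (nat_lit 106)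 (nat_lit 3),
  Rule.mk (nat_lit 4) (nat_lit 314) (Steps.bwd (nat_lit 9) (Steps.bwd (nat_lit 4) (Steps.bwd (nat_lit 8) (Steps.bwd (nat_lit 4) (Steps.bwd (nat_lit 9) (Steps.bwd (nat_lit 4) (Steps.fwd (nat_lit 2359296) (Steps.bwd (nat_lit 4) (Steps.fwd (nat_lit 2097152) (Steps.fwd (nat_lit 1048576) (Steps.fwd (nat_lit 2359296) (Steps.bwd (nat_lit 4) (Steps.bwd (nat_lit 9) (Steps.bwd (nat_lit 4) (Steps.bwd (nat_lit 8) Steps.nil))))))))))))))) (nat_lit 106) (nat_lit 2),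
  Rule.mk (nat_lit 8) (nat_lit 314) (Steps.bwd (nat_lit 4) (Steps.bwd (nat_lit 9) (Steps.bwd (nat_lit 4) (Steps.bwd (nat_lit 8) (Steps.bwd (nat_lit 4) (Steps.bwd (nat_lit 9) (Steps.bwd (nat_lit 4) (Steps.bwd (nat_lit 8) (Steps.fwd (nat_lit 1048576) (Steps.fwd (nat_lit 2097152) (Steps.bwd (nat_lit 4) (Steps.fwd (nat_lit 2359296) (Steps.fwd (nat_lit 1048576) (Steps.fwd (nat_lit 2097152) (Steps.fwd (nat_lit 1048576) Steps.nil))))))))))))))) (nat_lit 106) (nat_lit 1),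
  Rule.mk (nat_lit 1) (nat_lit 274) (Steps.fwd (nat_lit 1572864) (Steps.bwd (nat_lit 5) (Steps.fwd (nat_lit 786432) (Steps.fwd (nat_lit 262144) (Steps.fwd (nat_lit 1572864) (Steps.bwd (nat_lit 1) (Steps.bwd (nat_lit 2) (Steps.bwd (nat_lit 1) (Steps.fwd (nat_lit 1572864) (Steps.fwd (nat_lit 262144) (Steps.bwd (nat_lit 2) (Steps.bwd (nat_lit 1) (Steps.bwd (nat_lit 6) Steps.nil))))))))))))) (nat_lit 34) (nat_lit 12),
  Rule.mk (nat_lit 1) (nat_lit 274) (Steps.fwd (nat_lit 1572864) (Steps.bwd (nat_lit 5) (Steps.bwd (nat_lit 2) (Steps.fwd (nat_lit 262144) (Steps.bwd (nat_lit 6) (Steps.bwd (nat_lit 1) (Steps.bwd (nat_lit 2) (Steps.bwd (nat_lit 1) (Steps.bwd (nat_lit 6) (Steps.fwd (nat_lit 262144) (Steps.bwd (nat_lit 2) (Steps.bwd (nat_lit 1) (Steps.bwd (nat_lit 6) Steps.nil))))))))))))) (nat_lit 34) (nat_lit 12),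
  Rule.mk (nat_lit 1) (nat_lit 274) (Steps.bwd (nat_lit 6) (Steps.bwd (nat_lit 1) (Steps.fwd (nat_lit 786432) (Steps.fwd (nat_lit 262144) (Steps.bwd (nat_lit 6) (Steps.fwd (nat_lit 262144) (Steps.fwd (nat_lit 786432) (Steps.bwd (nat_lit 1) (Steps.bwd (nat_lit 6) (Steps.fwd (nat_lit 262144) (Steps.fwd (nat_lit 1572864) (Steps.bwd (nat_lit 5) (Steps.fwd (nat_lit 786432) Steps.nil))))))))))))) (nat_lit 34) (nat_lit 2),
  Rule.mk (nat_lit 1) (nat_lit 154) (Steps.bwd (nat_lit 7) (Steps.bwd (nat_lit 4) (Steps.fwd (nat_lit 262144) (Steps.bwd (nat_lit 4) (Steps.fwd (nat_lit 1835008) (Steps.bwd (nat_lit 1) (Steps.fwd (nat_lit 1048576) Steps.nil))))))) (nat_lit 76) (nat_lit 3),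
  Rule.mk (nat_lit 1) (nat_lit 114) (Steps.bwd (nat_lit 5) (Steps.bwd (nat_lit 7) (Steps.bwd (nat_lit 1) (Steps.bwd (nat_lit 5) (Steps.fwd (nat_lit 1835008) Steps.nil))))) (nat_lit 52) (nat_lit 1),
  Rule.mk (nat_lit 1) (nat_lit 274) (Steps.bwd (nat_lit 6) (Steps.bwd (nat_lit 5) (Steps.fwd (nat_lit 786432) (Steps.bwd (nat_lit 1) (Steps.fwd (nat_lit 1572864) (Steps.bwd (nat_lit 1) (Steps.bwd (nat_lit 2) (Steps.fwd (nat_lit 262144) (Steps.fwd (nat_lit 1572864) (Steps.fwd (nat_lit 262144) (Steps.bwd (nat_lit 2) (Steps.bwd (nat_lit 1) (Steps.bwd (nat_lit 6) Steps.nil))))))))))))) (nat_lit 34) (nat_lit 12),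
  Rule.mk (nat_lit 6) (nat_lit 274) (Steps.bwd (nat_lit 1) (Steps.bwd (nat_lit 6) (Steps.fwd (nat_lit 1310720) (Steps.fwd (nat_lit 786432) (Steps.fwd (nat_lit 262144) (Steps.fwd (nat_lit 1572864) (Steps.fwd (nat_lit 262144) (Steps.bwd (nat_lit 2) (Steps.fwd (nat_lit 262144) (Steps.bwd (nat_lit 6) (Steps.fwd (nat_lit 262144) (Steps.fwd (nat_lit 786432) (Steps.fwd (nat_lit 262144) Steps.nil))))))))))))) (nat_lit 34) (nat_lit 11),
  Rule.mk (nat_lit 6) (nat_lit 274) (Steps.bwd (nat_lit 1) (Steps.bwd (nat_lit 6) (Steps.fwd (nat_lit 1310720) (Steps.bwd (nat_lit 2) (Steps.bwd (nat_lit 1) (Steps.fwd (nat_lit 1572864) (Steps.fwd (nat_lit 262144) (Steps.bwd (nat_lit 2) (Steps.bwd (nat_lit 1) (Steps.bwd (nat_lit 6) (Steps.fwd (nat_lit 262144) (Steps.bwd (nat_lit 2) (Steps.fwd (nat_lit 262144) Steps.nil))))))))))))) (nat_lit 34) (nat_lit 11),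
  Rule.mk (nat_lit 1) (nat_lit 154) (Steps.bwd (nat_lit 5) (Steps.bwd (nat_lit 3) (Steps.bwd (nat_lit 1) (Steps.bwd (nat_lit 3) (Steps.fwd (nat_lit 1310720) (Steps.fwd (nat_lit 262144) (Steps.fwd (nat_lit 524288) Steps.nil))))))) (nat_lit 71) (nat_lit 0),
  Rule.mk (nat_lit 1) (nat_lit 274) (Steps.bwd (nat_lit 6) (Steps.bwd (nat_lit 5) (Steps.fwd (nat_lit 786432) (Steps.bwd (nat_lit 1) (Steps.bwd (nat_lit 6) (Steps.fwd (nat_lit 262144) (Steps.bwd (nat_lit 2) (Steps.fwd (nat_lit 262144) (Steps.fwd (nat_lit 1572864) (Steps.fwd (nat_lit 262144) (Steps.bwd (nat_lit 2) (Steps.bwd (nat_lit 1) (Steps.bwd (nat_lit 6) Steps.nil))))))))))))) (nat_lit 34) (nat_lit 12),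
  Rule.mk (nat_lit 3) (nat_lit 154) (Steps.bwd (nat_lit 1) (Steps.bwd (nat_lit 3) (Steps.fwd (nat_lit 1835008) (Steps.fwd (nat_lit 262144) (Steps.fwd (nat_lit 524288) (Steps.bwd (nat_lit 1) (Steps.bwd (nat_lit 7) Steps.nil))))))) (nat_lit 73) (nat_lit 2),
  Rule.mk (nat_lit 6) (nat_lit 154) (Steps.bwd (nat_lit 3) (Steps.bwd (nat_lit 5) (Steps.fwd (nat_lit 524288) (Steps.bwd (nat_lit 7) (Steps.fwd (nat_lit 1572864) (Steps.fwd (nat_lit 524288) (Steps.fwd (nat_lit 1310720) Steps.nil))))))) (nat_lit 83) (nat_lit 5),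
  Rule.mk (nat_lit 1) (nat_lit 274) (Steps.bwd (nat_lit 6) (Steps.bwd (nat_lit 1) (Steps.bwd (nat_lit 6) (Steps.fwd (nat_lit 1310720) (Steps.fwd (nat_lit 786432) (Steps.fwd (nat_lit 262144) (Steps.bwd (nat_lit 6) (Steps.bwd (nat_lit 1) (Steps.fwd (nat_lit 786432) (Steps.fwd (nat_lit 262144) (Steps.bwd (nat_lit 6) (Steps.fwd (nat_lit 262144) (Steps.bwd (nat_lit 2) Steps.nil))))))))))))) (nat_lit 34) (nat_lit 10),
  Rule.mk (nat_lit 4) (nat_lit 314) (Steps.bwd (nat_lit 8) (Steps.bwd (nat_lit 4) (Steps.bwd (nat_lit 9) (Steps.bwd (nat_lit 4) (Steps.bwd (nat_lit 8) (Steps.bwd (nat_lit 4) (Steps.bwd (nat_lit 9) (Steps.fwd (nat_lit 1048576) (Steps.fwd (nat_lit 2359296) (Steps.fwd (nat_lit 1048576) (Steps.fwd (nat_lit 2097152) (Steps.bwd (nat_lit 4) (Steps.bwd (nat_lit 8) (Steps.bwd (nat_lit 4) (Steps.bwd (nat_lit 9) Steps.nil))))))))))))))) (nat_lit 106) (nat_lit 0),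
  Rule.mk (nat_lit 6) (nat_lit 274) (Steps.bwd (nat_lit 1) (Steps.fwd (nat_lit 1572864) (Steps.fwd (nat_lit 1310720) (Steps.fwd (nat_lit 786432) (Steps.fwd (nat_lit 262144) (Steps.bwd (nat_lit 6) (Steps.fwd (nat_lit 262144) (Steps.fwd (nat_lit 786432) (Steps.bwd (nat_lit 1) (Steps.bwd (nat_lit 6) (Steps.bwd (nat_lit 1) (Steps.fwd (nat_lit 786432) (Steps.fwd (nat_lit 262144) Steps.nil))))))))))))) (nat_lit 34) (nat_lit 11),
  Rule.mk (nat_lit 4) (nat_lit 114) (Steps.bwd (nat_lit 2) (Steps.fwd (nat_lit 1835008) (Steps.bwd (nat_lit 4) (Steps.bwd (nat_lit 2) (Steps.bwd (nat_lit 7) Steps.nil))))) (nat_lit 64) (nat_lit 0),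
  Rule.mk (nat_lit 6) (nat_lit 274) (Steps.bwd (nat_lit 1) (Steps.fwd (nat_lit 524288) (Steps.fwd (nat_lit 1310720) (Steps.bwd (nat_lit 6) (Steps.bwd (nat_lit 1) (Steps.bwd (nat_lit 6) (Steps.fwd (nat_lit 262144) (Steps.fwd (nat_lit 524288) (Steps.bwd (nat_lit 1) (Steps.bwd (nat_lit 6) (Steps.fwd (nat_lit 262144) (Steps.fwd (nat_lit 524288) (Steps.fwd (nat_lit 262144) Steps.nil))))))))))))) (nat_lit 35) (nat_lit 12),
  Rule.mk (nat_lit 4) (nat_lit 314) (Steps.bwd (nat_lit 8) (Steps.bwd (nat_lit 4) (Steps.bwd (nat_lit 9) (Steps.bwd (nat_lit 4) (Steps.bwd (nat_lit 8) (Steps.bwd (nat_lit 4) (Steps.bwd (nat_lit 9) (Steps.fwd (nat_lit 1048576) (Steps.fwd (nat_lit 2359296) (Steps.fwd (nat_lit 1048576) (Steps.fwd (nat_lit 2097152) (Steps.bwd (nat_lit 4) (Steps.fwd (nat_lit 2359296) (Steps.fwd (nat_lit 1048576) (Steps.fwd (nat_lit 2097152) Steps.nil))))))))))))))) (nat_lit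 106) (nat_lit 0),
  Rule.mk (nat_lit 8) (nat_lit 314) (Steps.bwd (nat_lit 4) (Steps.fwd (nat_lit 2097152) (Steps.bwd (nat_lit 4) (Steps.fwd (nat_lit 2359296) (Steps.fwd (nat_lit 1048576) (Steps.fwd (nat_lit 2097152) (Steps.fwd (nat_lit 1048576) (Steps.fwd (nat_lit 2359296) (Steps.bwd (nat_lit 4) (Steps.bwd (nat_lit 9) (Steps.bwd (nat_lit 4) (Steps.fwd (nat_lit 2359296) (Steps.fwd (nat_lit 1048576) (Steps.fwd (nat_lit 2097152) (Steps.fwd (nat_lit 1048576) Steps.nil))))))))))))))) (nat_lit 106) (nat_lit 1),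
  Rule.mk (nat_lit 7) (nat_lit 114) (Steps.bwd (nat_lit 3) (Steps.fwd (nat_lit 1572864) (Steps.bwd (nat_lit 7) (Steps.fwd (nat_lit 786432) (Steps.bwd (nat_lit 6) Steps.nil))))) (nat_lit 62) (nat_lit 3),
  Rule.mk (nat_lit 7) (nat_lit 114) (Steps.fwd (nat_lit 524288) (Steps.fwd (nat_lit 1572864) (Steps.bwd (nat_lit 7) (Steps.fwd (nat_lit 786432) (Steps.bwd (nat_lit 6) Steps.nil))))) (nat_lit 62) (nat_lit 3),
  Rule.mk (nat_lit 4) (nat_lit 314) (Steps.bwd (nat_lit 8) (Steps.bwd (nat_lit 4) (Steps.bwd (nat_lit 9) (Steps.fwd (nat_lit 1048576) (Steps.bwd (nat_lit 8) (Steps.bwd (nat_lit 4) (Steps.bwd (nat_lit 9) (Steps.bwd (nat_lit 4) (Steps.bwd (nat_lit 8) (Steps.fwd (nat_lit 1048576) (Steps.fwd (nat_lit 2097152) (Steps.fwd (nat_lit 1048576) (Steps.fwd (nat_lit 2359296) (Steps.fwd (nat_lit 1048576) (Steps.fwd (nat_lit 2097152) Steps.nil))))))))))))))) (nat_lit 106)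 (nat_lit 0),
  Rule.mk (nat_lit 4) (nat_lit 154) (Steps.bwd (nat_lit 1) (Steps.bwd (nat_lit 6) (Steps.fwd (nat_lit 262144) (Steps.fwd (nat_lit 1048576) (Steps.bwd (nat_lit 1) (Steps.bwd (nat_lit 6) (Steps.fwd (nat_lit 262144) Steps.nil))))))) (nat_lit 74) (nat_lit 2),
  Rule.mk (nat_lit 1) (nat_lit 274) (Steps.bwd (nat_lit 6) (Steps.bwd (nat_lit 1) (Steps.bwd (nat_lit 3) (Steps.fwd (nat_lit 1310720) (Steps.bwd (nat_lit 6) (Steps.bwd (nat_lit 1) (Steps.bwd (nat_lit 6) (Steps.bwd (nat_lit 1) (Steps.fwd (nat_lit 524288) (Steps.bwd (nat_lit 1) (Steps.bwd (nat_lit 6) (Steps.fwd (nat_lit 262144) (Steps.bwd (nat_lit 3) Steps.nil))))))))))))) (nat_lit 35) (nat_lit 11),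
  Rule.mk (nat_lit 1) (nat_lit 274) (Steps.bwd (nat_lit 6) (Steps.bwd (nat_lit 1) (Steps.fwd (nat_lit 1572864) (Steps.bwd (nat_lit 5) (Steps.bwd (nat_lit 2) (Steps.fwd (nat_lit 262144) (Steps.bwd (nat_lit 6) (Steps.bwd (nat_lit 1) (Steps.fwd (nat_lit 786432) (Steps.fwd (nat_lit 262144) (Steps.bwd (nat_lit 6) (Steps.bwd (nat_lit 1) (Steps.fwd (nat_lit 786432) Steps.nil))))))))))))) (nat_lit 34) (nat_lit 10),
  Rule.mk (nat_lit 3) (nat_lit 154) (Steps.bwd (nat_lit 1) (Steps.bwd (nat_lit 7) (Steps.fwd (nat_lit 524288) (Steps.fwd (nat_lit 262144) (Steps.bwd (nat_lit 3) (Steps.bwd (nat_lit 7) (Steps.bwd (nat_lit 1) Steps.nil))))))) (nat_lit 73) (nat_lit 7),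
  Rule.mk (nat_lit 4) (nat_lit 114) (Steps.bwd (nat_lit 2) (Steps.bwd (nat_lit 7) (Steps.bwd (nat_lit 4) (Steps.bwd (nat_lit 2) (Steps.fwd (nat_lit 1835008) Steps.nil))))) (nat_lit 64) (nat_lit 0),
  Rule.mk (nat_lit 4) (nat_lit 314) (Steps.bwd (nat_lit 8) (Steps.bwd (nat_lit 4) (Steps.bwd (nat_lit 9) (Steps.fwd (nat_lit 1048576) (Steps.fwd (nat_lit 2359296) (Steps.fwd (nat_lit 1048576) (Steps.bwd (nat_lit 9) (Steps.bwd (nat_lit 4) (Steps.bwd (nat_lit 8) (Steps.bwd (nat_lit 4) (Steps.bwd (nat_lit 9) (Steps.bwd (nat_lit 4) (Steps.bwd (nat_lit 8) (Steps.fwd (nat_lit 1048576) (Steps.bwd (nat_lit 9) Steps.nil))))))))))))))) (nat_lit 106) (nat_lit 0),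
  Rule.mk (nat_lit 7) (nat_lit 114) (Steps.fwd (nat_lit 524288) (Steps.fwd (nat_lit 1048576) (Steps.bwd (nat_lit 7) (Steps.fwd (nat_lit 524288) (Steps.bwd (nat_lit 4) Steps.nil))))) (nat_lit 65) (nat_lit 2),
  Rule.mk (nat_lit 8) (nat_lit 114) (Steps.fwd (nat_lit 786432) (Steps.fwd (nat_lit 262144) (Steps.bwd (nat_lit 3) (Steps.bwd (nat_lit 9) (Steps.fwd (nat_lit 262144) Steps.nil))))) (nat_lit 104) (nat_lit 1),
  Rule.mk (nat_lit 1) (nat_lit 274) (Steps.bwd (nat_lit 6) (Steps.fwd (nat_lit 1310720) (Steps.fwd (nat_lit 786432) (Steps.bwd (nat_lit 1) (Steps.bwd (nat_lit 6) (Steps.fwd (nat_lit 262144) (Steps.bwd (nat_lit 2) (Steps.fwd (nat_lit 262144) (Steps.fwd (nat_lit 1572864) (Steps.fwd (nat_lit 262144) (Steps.bwd (nat_lit 2) (Steps.bwd (nat_lit 1) (Steps.bwd (nat_lit 6) Steps.nil))))))))))))) (nat_lit 34) (nat_lit 12),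
  Rule.mk (nat_lit 4) (nat_lit 314) (Steps.bwd (nat_lit 8) (Steps.bwd (nat_lit 4) (Steps.bwd (nat_lit 9) (Steps.bwd (nat_lit 4) (Steps.bwd (nat_lit 8) (Steps.bwd (nat_lit 4) (Steps.bwd (nat_lit 9) (Steps.bwd (nat_lit 4) (Steps.fwd (nat_lit 2359296) (Steps.fwd (nat_lit 1048576) (Steps.fwd (nat_lit 2097152) (Steps.bwd (nat_lit 4) (Steps.bwd (nat_lit 8) (Steps.bwd (nat_lit 4) (Steps.bwd (nat_lit 9) Steps.nil))))))))))))))) (nat_lit 106) (nat_lit 0),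
  Rule.mk (nat_lit 1) (nat_lit 274) (Steps.bwd (nat_lit 6) (Steps.fwd (nat_lit 1310720) (Steps.bwd (nat_lit 2) (Steps.bwd (nat_lit 1) (Steps.bwd (nat_lit 6) (Steps.fwd (nat_lit 262144) (Steps.bwd (nat_lit 2) (Steps.fwd (nat_lit 262144) (Steps.fwd (nat_lit 1572864) (Steps.fwd (nat_lit 262144) (Steps.bwd (nat_lit 2) (Steps.bwd (nat_lit 1) (Steps.bwd (nat_lit 6) Steps.nil))))))))))))) (nat_lit 34) (nat_lit 12),
  Rule.mk (nat_lit 3) (nat_lit 154) (Steps.bwd (nat_lit 1) (Steps.bwd (nat_lit 7) (Steps.fwd (nat_lit 524288) (Steps.fwd (nat_lit 262144) (Steps.bwd (nat_lit 3) (Steps.fwd (nat_lit 1835008) (Steps.bwd (nat_lit 1) Steps.nil))))))) (nat_lit 73) (nat_lit 7),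
  Rule.mk (nat_lit 1) (nat_lit 114) (Steps.fwd (nat_lit 1310720) (Steps.fwd (nat_lit 1835008) (Steps.bwd (nat_lit 1) (Steps.fwd (nat_lit 1310720) (Steps.bwd (nat_lit 7) Steps.nil))))) (nat_lit 52) (nat_lit 1),
  Rule.mk (nat_lit 4) (nat_lit 114) (Steps.fwd (nat_lit 1572864) (Steps.fwd (nat_lit 786432) (Steps.bwd (nat_lit 4) (Steps.bwd (nat_lit 5) (Steps.bwd (nat_lit 2) Steps.nil))))) (nat_lit 54) (nat_lit 5),
  Rule.mk (nat_lit 1) (nat_lit 274) (Steps.bwd (nat_lit 6) (Steps.bwd (nat_lit 1) (Steps.fwd (nat_lit 1572864) (Steps.bwd (nat_lit 5) (Steps.fwd (nat_lit 786432) (Steps.bwd (nat_lit 1) (Steps.bwd (nat_lit 6) (Steps.bwd (nat_lit 1) (Steps.fwd (nat_lit 786432) (Steps.bwd (nat_lit 1) (Steps.fwd (nat_lit 1572864) (Steps.bwd (nat_lit 1) (Steps.fwd (nat_lit 786432) Steps.nil))))))))))))) (nat_lit 34) (nat_lit 10),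
  Rule.mk (nat_lit 1) (nat_lit 154) (Steps.bwd (nat_lit 2) (Steps.bwd (nat_lit 1) (Steps.fwd (nat_lit 1835008) (Steps.fwd (nat_lit 786432) (Steps.fwd (nat_lit 262144) (Steps.bwd (nat_lit 2) (Steps.bwd (nat_lit 7) Steps.nil))))))) (nat_lit 72) (nat_lit 1)]
noncomputable def R_46 : List (Rule) := [Rule.mk (nat_lit 1) (nat_lit 274) (Steps.bwd (nat_lit 6) (Steps.bwd (nat_lit 5) (Steps.bwd (nat_lit 2) (Steps.bwd (nat_lit 1) (Steps.bwd (nat_lit 6) (Steps.fwd (nat_lit 262144) (Steps.fwd (nat_lit 786432) (Steps.fwd (nat_lit 262144) (Steps.bwd (nat_lit 6) (Steps.bwd (nat_lit 1) (Steps.fwd (nat_lit 786432) (Steps.fwd (nat_lit 262144) (Steps.fwd (nat_lit 1572864) Steps.nil))))))))))))) (nat_lit 34) (nat_lit 12),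
  Rule.mk (nat_lit 6) (nat_lit 274) (Steps.bwd (nat_lit 1) (Steps.fwd (nat_lit 524288) (Steps.fwd (nat_lit 262144) (Steps.fwd (nat_lit 1572864) (Steps.bwd (nat_lit 1) (Steps.fwd (nat_lit 524288) (Steps.bwd (nat_lit 1) (Steps.fwd (nat_lit 1572864) (Steps.fwd (nat_lit 262144) (Steps.fwd (nat_lit 524288) (Steps.fwd (nat_lit 1310720) (Steps.bwd (nat_lit 6) (Steps.bwd (nat_lit 1) Steps.nil))))))))))))) (nat_lit 35) (nat_lit 4),
  Rule.mk (nat_lit 1) (nat_lit 274) (Steps.bwd (nat_lit 6) (Steps.bwd (nat_lit 5) (Steps.bwd (nat_lit 2) (Steps.fwd (nat_lit 262144) (Steps.bwd (nat_lit 6) (Steps.bwd (nat_lit 1) (Steps.bwd (nat_lit 2) (Steps.fwd (nat_lit 262144) (Steps.fwd (nat_lit 1572864) (Steps.fwd (nat_lit 262144) (Steps.bwd (nat_lit 2) (Steps.bwd (nat_lit 1) (Steps.bwd (nat_lit 6) Steps.nil))))))))))))) (nat_lit 34) (nat_lit 12),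
  Rule.mk (nat_lit 1) (nat_lit 274) (Steps.bwd (nat_lit 6) (Steps.bwd (nat_lit 1) (Steps.fwd (nat_lit 1572864) (Steps.bwd (nat_lit 5) (Steps.bwd (nat_lit 2) (Steps.bwd (nat_lit 1) (Steps.fwd (nat_lit 1572864) (Steps.fwd (nat_lit 262144) (Steps.fwd (nat_lit 786432) (Steps.bwd (nat_lit 1) (Steps.fwd (nat_lit 1572864) (Steps.fwd (nat_lit 262144) (Steps.fwd (nat_lit 786432) Steps.nil))))))))))))) (nat_lit 34) (nat_lit 10),
  Rule.mk (nat_lit 1) (nat_lit 274) (Steps.bwd (nat_lit 6) (Steps.bwd (nat_lit 5) (Steps.bwd (nat_lit 2) (Steps.bwd (nat_lit 1) (Steps.bwd (nat_lit 6) (Steps.fwd (nat_lit 262144) (Steps.fwd (nat_lit 786432) (Steps.fwd (nat_lit 262144) (Steps.bwd (nat_lit 6) (Steps.fwd (nat_lit 262144) (Steps.fwd (nat_lit 786432) (Steps.bwd (nat_lit 1) (Steps.bwd (nat_lit 6) Steps.nil))))))))))))) (nat_lit 34) (nat_lit 12),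
  Rule.mk (nat_lit 1) (nat_lit 274) (Steps.bwd (nat_lit 6) (Steps.bwd (nat_lit 5) (Steps.fwd (nat_lit 786432) (Steps.bwd (nat_lit 1) (Steps.fwd (nat_lit 1572864) (Steps.fwd (nat_lit 262144) (Steps.bwd (nat_lit 2) (Steps.bwd (nat_lit 1) (Steps.bwd (nat_lit 6) (Steps.fwd (nat_lit 262144) (Steps.fwd (nat_lit 786432) (Steps.bwd (nat_lit 1) (Steps.fwd (nat_lit 1572864) Steps.nil))))))))))))) (nat_lit 34) (nat_lit 12),
  Rule.mk (nat_lit 1) (nat_lit 274) (Steps.bwd (nat_lit 6) (Steps.bwd (nat_lit 1) (Steps.bwd (nat_lit 3) (Steps.fwd (nat_lit 262144) (Steps.fwd (nat_lit 1572864) (Steps.fwd (nat_lit 262144) (Steps.fwd (nat_lit 524288) (Steps.bwd (nat_lit 1) (Steps.bwd (nat_lit 6) (Steps.fwd (nat_lit 262144) (Steps.fwd (nat_lit 524288) (Steps.bwd (nat_lit 5) (Steps.bwd (nat_lit 6) Steps.nil))))))))))))) (nat_lit 35) (nat_lit 3),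
  Rule.mk (nat_lit 6) (nat_lit 274) (Steps.bwd (nat_lit 1) (Steps.fwd (nat_lit 1572864) (Steps.fwd (nat_lit 1310720) (Steps.fwd (nat_lit 786432) (Steps.bwd (nat_lit 1) (Steps.bwd (nat_lit 6) (Steps.fwd (nat_lit 262144) (Steps.bwd (nat_lit 2) (Steps.fwd (nat_lit 262144) (Steps.bwd (nat_lit 6) (Steps.bwd (nat_lit 1) (Steps.bwd (nat_lit 2) (Steps.fwd (nat_lit 262144) Steps.nil))))))))))))) (nat_lit 34) (nat_lit 11),
  Rule.mk (nat_lit 6) (nat_lit 274) (Steps.bwd (nat_lit 1) (Steps.bwd (nat_lit 2) (Steps.fwd (nat_lit 262144) (Steps.fwd (nat_lit 1572864) (Steps.bwd (nat_lit 1) (Steps.bwd (nat_lit 6) (Steps.bwd (nat_lit 5) (Steps.fwd (nat_lit 786432) (Steps.bwd (nat_lit 1) (Steps.fwd (nat_lit 1572864) (Steps.fwd (nat_lit 262144) (Steps.bwd (nat_lit 2) (Steps.bwd (nat_lit 1) Steps.nil))))))))))))) (nat_lit 34) (nat_lit 7),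
  Rule.mk (nat_lit 6) (nat_lit 274) (Steps.bwd (nat_lit 1) (Steps.fwd (nat_lit 1572864) (Steps.bwd (nat_lit 5) (Steps.fwd (nat_lit 786432) (Steps.fwd (nat_lit 262144) (Steps.bwd (nat_lit 6) (Steps.fwd (nat_lit 262144) (Steps.bwd (nat_lit 2) (Steps.bwd (nat_lit 1) (Steps.fwd (nat_lit 1572864) (Steps.fwd (nat_lit 262144) (Steps.bwd (nat_lit 2) (Steps.bwd (nat_lit 1) Steps.nil))))))))))))) (nat_lit 34) (nat_lit 11),
  Rule.mk (nat_lit 4) (nat_lit 154) (Steps.bwd (nat_lit 1) (Steps.fwd (nat_lit 1572864) (Steps.fwd (nat_lit 262144) (Steps.bwd (nat_lit 4) (Steps.fwd (nat_lit 262144) (Steps.fwd (nat_lit 1572864) (Steps.fwd (nat_lit 262144) Steps.nil))))))) (nat_lit 74) (nat_lit 2),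
  Rule.mk (nat_lit 6) (nat_lit 274) (Steps.bwd (nat_lit 1) (Steps.bwd (nat_lit 3) (Steps.fwd (nat_lit 262144) (Steps.bwd (nat_lit 6) (Steps.bwd (nat_lit 1) (Steps.bwd (nat_lit 3) (Steps.bwd (nat_lit 5) (Steps.fwd (nat_lit 1572864) (Steps.bwd (nat_lit 1) (Steps.fwd (nat_lit 1572864) (Steps.fwd (nat_lit 262144) (Steps.bwd (nat_lit 3) (Steps.bwd (nat_lit 1) Steps.nil))))))))))))) (nat_lit 35) (nat_lit 8),
  Rule.mk (nat_lit 6) (nat_lit 274) (Steps.bwd (nat_lit 1) (Steps.fwd (nat_lit 524288) (Steps.bwd (nat_lit 5) (Steps.fwd (nat_lit 1572864) (Steps.fwd (nat_lit 262144) (Steps.fwd (nat_lit 1572864) (Steps.bwd (nat_lit 1) (Steps.fwd (nat_lit 524288) (Steps.bwd (nat_lit 1) (Steps.fwd (nat_lit 1572864) (Steps.fwd (nat_lit 262144) (Steps.fwd (nat_lit 524288) (Steps.fwd (nat_lit 262144) Steps.nil))))))))))))) (nat_lit 35) (nat_lit 12),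
  Rule.mk (nat_lit 1) (nat_lit 274) (Steps.bwd (nat_lit 6) (Steps.bwd (nat_lit 1) (Steps.bwd (nat_lit 2) (Steps.fwd (nat_lit 262144) (Steps.fwd (nat_lit 1572864) (Steps.bwd (nat_lit 1) (Steps.fwd (nat_lit 1572864) (Steps.fwd (nat_lit 1310720) (Steps.bwd (nat_lit 2) (Steps.bwd (nat_lit 1) (Steps.bwd (nat_lit 6) (Steps.fwd (nat_lit 262144) (Steps.fwd (nat_lit 786432) Steps.nil))))))))))))) (nat_lit 34) (nat_lit 6),
  Rule.mk (nat_lit 1) (nat_lit 114) (Steps.bwd (nat_lit 5) (Steps.fwd (nat_lit 1835008) (Steps.fwd (nat_lit 262144) (Steps.fwd (nat_lit 1310720) (Steps.fwd (nat_lit 1835008) Steps.nil))))) (nat_lit 52) (nat_lit 1),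
  Rule.mk (nat_lit 6) (nat_lit 274) (Steps.bwd (nat_lit 1) (Steps.bwd (nat_lit 2) (Steps.fwd (nat_lit 262144) (Steps.bwd (nat_lit 6) (Steps.bwd (nat_lit 1) (Steps.bwd (nat_lit 6) (Steps.bwd (nat_lit 5) (Steps.fwd (nat_lit 786432) (Steps.bwd (nat_lit 1) (Steps.bwd (nat_lit 6) (Steps.fwd (nat_lit 262144) (Steps.bwd (nat_lit 2) (Steps.bwd (nat_lit 1) Steps.nil))))))))))))) (nat_lit 34) (nat_lit 7),
  Rule.mk (nat_lit 1) (nat_lit 274) (Steps.bwd (nat_lit 6) (Steps.bwd (nat_lit 1) (Steps.bwd (nat_lit 3) (Steps.fwd (nat_lit 262144) (Steps.bwd (nat_lit 6) (Steps.bwd (nat_lit 1) (Steps.bwd (nat_lit 3) (Steps.bwd (nat_lit 5) (Steps.fwd (nat_lit 1572864) (Steps.bwd (nat_lit 1) (Steps.bwd (nat_lit 6) (Steps.fwd (nat_lit 262144) (Steps.bwd (nat_lit 3) Steps.nil))))))))))))) (nat_lit 35) (nat_lit 7),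
  Rule.mk (nat_lit 4) (nat_lit 114) (Steps.bwd (nat_lit 2) (Steps.fwd (nat_lit 1835008) (Steps.bwd (nat_lit 4) (Steps.fwd (nat_lit 786432) (Steps.fwd (nat_lit 1835008) Steps.nil))))) (nat_lit 64) (nat_lit 0),
  Rule.mk (nat_lit 1) (nat_lit 274) (Steps.bwd (nat_lit 6) (Steps.bwd (nat_lit 1) (Steps.bwd (nat_lit 2) (Steps.fwd (nat_lit 262144) (Steps.fwd (nat_lit 1572864) (Steps.bwd (nat_lit 1) (Steps.fwd (nat_lit 786432) (Steps.bwd (nat_lit 1) (Steps.fwd (nat_lit 1572864) (Steps.fwd (nat_lit 262144) (Steps.fwd (nat_lit 1572864) (Steps.bwd (nat_lit 5) (Steps.bwd (nat_lit 2) Steps.nil))))))))))))) (nat_lit 34) (nat_lit 2),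
  Rule.mk (nat_lit 6) (nat_lit 274) (Steps.bwd (nat_lit 1) (Steps.fwd (nat_lit 1572864) (Steps.fwd (nat_lit 1310720) (Steps.bwd (nat_lit 2) (Steps.fwd (nat_lit 262144) (Steps.bwd (nat_lit 6) (Steps.bwd (nat_lit 1) (Steps.bwd (nat_lit 2) (Steps.bwd (nat_lit 1) (Steps.fwd (nat_lit 1572864) (Steps.fwd (nat_lit 262144) (Steps.bwd (nat_lit 2) (Steps.bwd (nat_lit 1) Steps.nil))))))))))))) (nat_lit 34) (nat_lit 11),
  Rule.mk (nat_lit 1) (nat_lit 154) (Steps.fwd (nat_lit 786432) (Steps.bwd (nat_lit 1) (Steps.bwd (nat_lit 3) (Steps.fwd (nat_lit 262144) (Steps.fwd (nat_lit 786432) (Steps.bwd (nat_lit 1) (Steps.bwd (nat_lit 3) Steps.nil))))))) (nat_lit 68) (nat_lit 1),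
  Rule.mk (nat_lit 1) (nat_lit 274) (Steps.bwd (nat_lit 6) (Steps.bwd (nat_lit 1) (Steps.bwd (nat_lit 3) (Steps.fwd (nat_lit 262144) (Steps.fwd (nat_lit 1572864) (Steps.fwd (nat_lit 262144) (Steps.fwd (nat_lit 524288) (Steps.bwd (nat_lit 1) (Steps.bwd (nat_lit 6) (Steps.fwd (nat_lit 262144) (Steps.fwd (nat_lit 524288) (Steps.fwd (nat_lit 1310720) (Steps.bwd (nat_lit 6) Steps.nil))))))))))))) (nat_lit 35) (nat_lit 3),
  Rule.mk (nat_lit 6) (nat_lit 274) (Steps.bwd (nat_lit 1) (Steps.fwd (nat_lit 524288) (Steps.fwd (nat_lit 262144) (Steps.bwd (nat_lit 6) (Steps.bwd (nat_lit 1) (Steps.fwd (nat_lit 524288) (Steps.fwd (nat_lit 1310720) (Steps.fwd (nat_lit 1572864) (Steps.fwd (nat_lit 262144) (Steps.bwd (nat_lit 6) (Steps.fwd (nat_lit 262144) (Steps.fwd (nat_lit 524288) (Steps.fwd (nat_lit 262144) Steps.nil))))))))))))) (nat_lit 35) (nat_lit 8),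
  Rule.mk (nat_lit 6) (nat_lit 114) (Steps.fwd (nat_lit 1835008) (Steps.fwd (nat_lit 524288) (Steps.bwd (nat_lit 6) (Steps.fwd (nat_lit 1835008) (Steps.bwd (nat_lit 2) Steps.nil))))) (nat_lit 62) (nat_lit 2),
  Rule.mk (nat_lit 7) (nat_lit 114) (Steps.bwd (nat_lit 4) (Steps.bwd (nat_lit 2) (Steps.fwd (nat_lit 1835008) (Steps.fwd (nat_lit 1048576) (Steps.bwd (nat_lit 2) Steps.nil))))) (nat_lit 64) (nat_lit 2),
  Rule.mk (nat_lit 7) (nat_lit 154) (Steps.bwd (nat_lit 1) (Steps.bwd (nat_lit 4) (Steps.fwd (nat_lit 262144) (Steps.fwd (nat_lit 1835008) (Steps.fwd (nat_lit 1048576) (Steps.bwd (nat_lit 1) (Steps.fwd (nat_lit 1048576) Steps.nil))))))) (nat_lit 76) (nat_lit 0),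
  Rule.mk (nat_lit 1) (nat_lit 154) (Steps.bwd (nat_lit 4) (Steps.bwd (nat_lit 1) (Steps.bwd (nat_lit 6) (Steps.fwd (nat_lit 262144) (Steps.fwd (nat_lit 1048576) (Steps.bwd (nat_lit 1) (Steps.bwd (nat_lit 6) Steps.nil))))))) (nat_lit 74) (nat_lit 1),
  Rule.mk (nat_lit 6) (nat_lit 274) (Steps.bwd (nat_lit 1) (Steps.bwd (nat_lit 6) (Steps.fwd (nat_lit 1310720) (Steps.bwd (nat_lit 2) (Steps.fwd (nat_lit 262144) (Steps.fwd (nat_lit 1572864) (Steps.bwd (nat_lit 1) (Steps.bwd (nat_lit 2) (Steps.bwd (nat_lit 1) (Steps.bwd (nat_lit 6) (Steps.fwd (nat_lit 262144) (Steps.bwd (nat_lit 2) (Steps.bwd (nat_lit 1) Steps.nil))))))))))))) (nat_lit 34) (nat_lit 11),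
  Rule.mk (nat_lit 6) (nat_lit 114) (Steps.fwd (nat_lit 524288) (Steps.bwd (nat_lit 7) (Steps.fwd (nat_lit 1572864) (Steps.bwd (nat_lit 2) (Steps.bwd (nat_lit 7) Steps.nil))))) (nat_lit 63) (nat_lit 5),
  Rule.mk (nat_lit 4) (nat_lit 114) (Steps.bwd (nat_lit 7) (Steps.fwd (nat_lit 786432) (Steps.fwd (nat_lit 1048576) (Steps.bwd (nat_lit 7) (Steps.bwd (nat_lit 2) Steps.nil))))) (nat_lit 56) (nat_lit 2),
  Rule.mk (nat_lit 1) (nat_lit 274) (Steps.bwd (nat_lit 6) (Steps.bwd (nat_lit 1) (Steps.bwd (nat_lit 3) (Steps.fwd (nat_lit 262144) (Steps.bwd (nat_lit 6) (Steps.bwd (nat_lit 1) (Steps.bwd (nat_lit 3) (Steps.bwd (nat_lit 5) (Steps.fwd (nat_lit 1572864) (Steps.bwd (nat_lit 1) (Steps.fwd (nat_lit 1572864) (Steps.fwd (nat_lit 262144) (Steps.bwd (nat_lit 3) Steps.nil))))))))))))) (nat_lit 35) (nat_lit 7),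
  Rule.mk (nat_lit 8) (nat_lit 314) (Steps.bwd (nat_lit 4) (Steps.bwd (nat_lit 9) (Steps.bwd (nat_lit 4) (Steps.fwd (nat_lit 2359296) (Steps.bwd (nat_lit 4) (Steps.bwd (nat_lit 9) (Steps.bwd (nat_lit 4) (Steps.bwd (nat_lit 8) (Steps.fwd (nat_lit 1048576) (Steps.fwd (nat_lit 2097152) (Steps.bwd (nat_lit 4) (Steps.bwd (nat_lit 8) (Steps.fwd (nat_lit 1048576) (Steps.fwd (nat_lit 2097152) (Steps.fwd (nat_lit 1048576) Steps.nil))))))))))))))) (nat_lit 106) (nat_lit 1),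
  Rule.mk (nat_lit 6) (nat_lit 274) (Steps.bwd (nat_lit 1) (Steps.bwd (nat_lit 3) (Steps.bwd (nat_lit 5) (Steps.fwd (nat_lit 1572864) (Steps.fwd (nat_lit 262144) (Steps.bwd (nat_lit 6) (Steps.fwd (nat_lit 262144) (Steps.fwd (nat_lit 524288) (Steps.bwd (nat_lit 1) (Steps.bwd (nat_lit 6) (Steps.fwd (nat_lit 262144) (Steps.bwd (nat_lit 3) (Steps.fwd (nat_lit 262144) Steps.nil))))))))))))) (nat_lit 35) (nat_lit 12),
  Rule.mk (nat_lit 1) (nat_lit 274) (Steps.bwd (nat_lit 6) (Steps.bwd (nat_lit 1) (Steps.bwd (nat_lit 2) (Steps.fwd (nat_lit 262144) (Steps.fwd (nat_lit 1572864) (Steps.bwd (nat_lit 1) (Steps.bwd (nat_lit 2) (Steps.bwd (nat_lit 1) (Steps.bwd (nat_lit 6) (Steps.fwd (nat_lit 262144) (Steps.fwd (nat_lit 1572864) (Steps.fwd (nat_lit 1310720) (Steps.fwd (nat_lit 786432) Steps.nil))))))))))))) (nat_lit 34) (nat_lit 2),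
  Rule.mk (nat_lit 3) (nat_lit 154) (Steps.bwd (nat_lit 1) (Steps.bwd (nat_lit 3) (Steps.fwd (nat_lit 1835008) (Steps.fwd (nat_lit 262144) (Steps.bwd (nat_lit 3) (Steps.bwd (nat_lit 1) (Steps.bwd (nat_lit 7) Steps.nil))))))) (nat_lit 73) (nat_lit 2),
  Rule.mk (nat_lit 3) (nat_lit 154) (Steps.bwd (nat_lit 1) (Steps.fwd (nat_lit 1310720) (Steps.fwd (nat_lit 524288) (Steps.fwd (nat_lit 262144) (Steps.bwd (nat_lit 3) (Steps.bwd (nat_lit 5) (Steps.bwd (nat_lit 1) Steps.nil))))))) (nat_lit 71) (nat_lit 7),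
  Rule.mk (nat_lit 6) (nat_lit 114) (Steps.fwd (nat_lit 524288) (Steps.bwd (nat_lit 7) (Steps.bwd (nat_lit 6) (Steps.fwd (nat_lit 786432) (Steps.bwd (nat_lit 7) Steps.nil))))) (nat_lit 63) (nat_lit 5),
  Rule.mk (nat_lit 1) (nat_lit 274) (Steps.bwd (nat_lit 6) (Steps.bwd (nat_lit 5) (Steps.fwd (nat_lit 786432) (Steps.fwd (nat_lit 262144) (Steps.fwd (nat_lit 1572864) (Steps.fwd (nat_lit 262144) (Steps.bwd (nat_lit 2) (Steps.bwd (nat_lit 1) (Steps.fwd (nat_lit 1572864) (Steps.fwd (nat_lit 262144) (Steps.fwd (nat_lit 786432) (Steps.bwd (nat_lit 1) (Steps.fwd (nat_lit 1572864) Steps.nil))))))))))))) (nat_lit 34) (nat_lit 12),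
  Rule.mk (nat_lit 6) (nat_lit 274) (Steps.bwd (nat_lit 1) (Steps.fwd (nat_lit 524288) (Steps.bwd (nat_lit 5) (Steps.fwd (nat_lit 1572864) (Steps.fwd (nat_lit 262144) (Steps.bwd (nat_lit 6) (Steps.fwd (nat_lit 262144) (Steps.fwd (nat_lit 524288) (Steps.bwd (nat_lit 1) (Steps.bwd (nat_lit 6) (Steps.fwd (nat_lit 262144) (Steps.fwd (nat_lit 524288) (Steps.bwd (nat_lit 1) Steps.nil))))))))))))) (nat_lit 35) (nat_lit 12),
  Rule.mk (nat_lit 6) (nat_lit 274) (Steps.bwd (nat_lit 1) (Steps.fwd (nat_lit 1572864) (Steps.fwd (nat_lit 1310720) (Steps.fwd (nat_lit 786432) (Steps.fwd (nat_lit 262144) (Steps.fwd (nat_lit 1572864) (Steps.fwd (nat_lit 262144) (Steps.bwd (nat_lit 2) (Steps.bwd (nat_lit 1) (Steps.bwd (nat_lit 6) (Steps.fwd (nat_lit 262144) (Steps.fwd (nat_lit 786432) (Steps.fwd (nat_lit 262144) Steps.nil))))))))))))) (nat_lit 34) (nat_lit 11),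
  Rule.mk (nat_lit 6) (nat_lit 274) (Steps.bwd (nat_lit 1) (Steps.bwd (nat_lit 3) (Steps.bwd (nat_lit 5) (Steps.fwd (nat_lit 1572864) (Steps.fwd (nat_lit 262144) (Steps.bwd (nat_lit 6) (Steps.bwd (nat_lit 1) (Steps.fwd (nat_lit 524288) (Steps.bwd (nat_lit 1) (Steps.fwd (nat_lit 1572864) (Steps.fwd (nat_lit 262144) (Steps.bwd (nat_lit 3) (Steps.bwd (nat_lit 1) Steps.nil))))))))))))) (nat_lit 35) (nat_lit 12),
  Rule.mk (nat_lit 6) (nat_lit 274) (Steps.bwd (nat_lit 1) (Steps.fwd (nat_lit 524288) (Steps.bwd (nat_lit 1) (Steps.fwd (nat_lit 1572864) (Steps.fwd (nat_lit 262144) (Steps.bwd (nat_lit 3) (Steps.bwd (nat_lit 1) (Steps.fwd (nat_lit 1572864) (Steps.bwd (nat_lit 1) (Steps.bwd (nat_lit 3) (Steps.fwd (nat_lit 1310720) (Steps.bwd (nat_lit 6) (Steps.fwd (nat_lit 262144) Steps.nil))))))))))))) (nat_lit 35) (nat_lit 4),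
  Rule.mk (nat_lit 1) (nat_lit 274) (Steps.bwd (nat_lit 6) (Steps.bwd (nat_lit 1) (Steps.bwd (nat_lit 2) (Steps.fwd (nat_lit 262144) (Steps.fwd (nat_lit 1572864) (Steps.bwd (nat_lit 1) (Steps.fwd (nat_lit 1572864) (Steps.bwd (nat_lit 5) (Steps.bwd (nat_lit 2) (Steps.bwd (nat_lit 1) (Steps.bwd (nat_lit 6) (Steps.fwd (nat_lit 262144) (Steps.fwd (nat_lit 786432) Steps.nil))))))))))))) (nat_lit 34) (nat_lit 6),
  Rule.mk (nat_lit 6) (nat_lit 274) (Steps.bwd (nat_lit 1) (Steps.fwd (nat_lit 786432) (Steps.fwd (nat_lit 262144) (Steps.bwd (nat_lit 6) (Steps.bwd (nat_lit 1) (Steps.bwd (nat_lit 6) (Steps.fwd (nat_lit 1310720) (Steps.bwd (nat_lit 2) (Steps.bwd (nat_lit 1) (Steps.bwd (nat_lit 6) (Steps.fwd (nat_lit 262144) (Steps.bwd (nat_lit 2) (Steps.bwd (nat_lit 1) Steps.nil))))))))))))) (nat_lit 34) (nat_lit 7),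
  Rule.mk (nat_lit 6) (nat_lit 274) (Steps.bwd (nat_lit 1) (Steps.fwd (nat_lit 786432) (Steps.fwd (nat_lit 262144) (Steps.fwd (nat_lit 1572864) (Steps.bwd (nat_lit 1) (Steps.fwd (nat_lit 1572864) (Steps.fwd (nat_lit 1310720) (Steps.fwd (nat_lit 786432) (Steps.bwd (nat_lit 1) (Steps.bwd (nat_lit 6) (Steps.fwd (nat_lit 262144) (Steps.bwd (nat_lit 2) (Steps.fwd (nat_lit 262144) Steps.nil))))))))))))) (nat_lit 34) (nat_lit 7),
  Rule.mk (nat_lit 1) (nat_lit 274) (Steps.fwd (nat_lit 786432) (Steps.bwd (nat_lit 1) (Steps.fwd (nat_lit 1572864) (Steps.fwd (nat_lit 262144) (Steps.bwd (nat_lit 2) (Steps.bwd (nat_lit 1) (Steps.bwd (nat_lit 6) (Steps.bwd (nat_lit 1) (Steps.bwd (nat_lit 6) (Steps.fwd (nat_lit 1310720) (Steps.bwd (nat_lit 2) (Steps.fwd (nat_lit 262144) (Steps.bwd (nat_lit 6) Steps.nil))))))))))))) (nat_lit 34) (nat_lit 4),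
  Rule.mk (nat_lit 1) (nat_lit 274) (Steps.bwd (nat_lit 6) (Steps.fwd (nat_lit 1310720) (Steps.fwd (nat_lit 786432) (Steps.bwd (nat_lit 1) (Steps.fwd (nat_lit 1572864) (Steps.fwd (nat_lit 262144) (Steps.bwd (nat_lit 2) (Steps.bwd (nat_lit 1) (Steps.fwd (nat_lit 1572864) (Steps.fwd (nat_lit 262144) (Steps.fwd (nat_lit 786432) (Steps.bwd (nat_lit 1) (Steps.fwd (nat_lit 1572864) Steps.nil))))))))))))) (nat_lit 34) (nat_lit 12),
  Rule.mk (nat_lit 1) (nat_lit 154) (Steps.bwd (nat_lit 4) (Steps.bwd (nat_lit 1) (Steps.bwd (nat_lit 6) (Steps.bwd (nat_lit 1) (Steps.bwd (nat_lit 4) (Steps.fwd (nat_lit 262144) (Steps.fwd (nat_lit 1572864) Steps.nil))))))) (nat_lit 74) (nat_lit 1),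
  Rule.mk (nat_lit 6) (nat_lit 154) (Steps.fwd (nat_lit 786432) (Steps.fwd (nat_lit 1310720) (Steps.bwd (nat_lit 2) (Steps.fwd (nat_lit 1835008) (Steps.bwd (nat_lit 6) (Steps.bwd (nat_lit 2) (Steps.fwd (nat_lit 1310720) Steps.nil))))))) (nat_lit 84) (nat_lit 0),
  Rule.mk (nat_lit 1) (nat_lit 274) (Steps.fwd (nat_lit 786432) (Steps.bwd (nat_lit 1) (Steps.fwd (nat_lit 1572864) (Steps.fwd (nat_lit 262144) (Steps.bwd (nat_lit 2) (Steps.bwd (nat_lit 1) (Steps.fwd (nat_lit 1572864) (Steps.bwd (nat_lit 1) (Steps.fwd (nat_lit 1572864) (Steps.bwd (nat_lit 5) (Steps.fwd (nat_lit 786432) (Steps.fwd (nat_lit 262144) (Steps.bwd (nat_lit 6) Steps.nil))))))))))))) (nat_lit 34) (nat_lit 4),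
  Rule.mk (nat_lit 6) (nat_lit 274) (Steps.bwd (nat_lit 1) (Steps.fwd (nat_lit 1572864) (Steps.bwd (nat_lit 5) (Steps.fwd (nat_lit 786432) (Steps.fwd (nat_lit 262144) (Steps.fwd (nat_lit 1572864) (Steps.bwd (nat_lit 1) (Steps.bwd (nat_lit 2) (Steps.bwd (nat_lit 1) (Steps.bwd (nat_lit 6) (Steps.fwd (nat_lit 262144) (Steps.bwd (nat_lit 2) (Steps.fwd (nat_lit 262144) Steps.nil))))))))))))) (nat_lit 34) (nat_lit 11),
  Rule.mk (nat_lit 6) (nat_lit 274) (Steps.bwd (nat_lit 1) (Steps.fwd (nat_lit 524288) (Steps.bwd (nat_lit 1) (Steps.fwd (nat_lit 1572864) (Steps.fwd (nat_lit 262144) (Steps.bwd (nat_lit 3) (Steps.bwd (nat_lit 1) (Steps.bwd (nat_lit 6) (Steps.bwd (nat_lit 1) (Steps.bwd (nat_lit 3) (Steps.fwd (nat_lit 1310720) (Steps.bwd (nat_lit 6) (Steps.fwd (nat_lit 262144) Steps.nil))))))))))))) (nat_lit 35) (nat_lit 4),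
  Rule.mk (nat_lit 6) (nat_lit 274) (Steps.bwd (nat_lit 1) (Steps.bwd (nat_lit 3) (Steps.fwd (nat_lit 1310720) (Steps.bwd (nat_lit 6) (Steps.fwd (nat_lit 262144) (Steps.bwd (nat_lit 6) (Steps.bwd (nat_lit 1) (Steps.fwd (nat_lit 524288) (Steps.bwd (nat_lit 1) (Steps.bwd (nat_lit 6) (Steps.fwd (nat_lit 262144) (Steps.bwd (nat_lit 3) (Steps.bwd (nat_lit 1) Steps.nil))))))))))))) (nat_lit 35) (nat_lit 12),
  Rule.mk (nat_lit 4) (nat_lit 314) (Steps.bwd (nat_lit 8) (Steps.bwd (nat_lit 4) (Steps.bwd (nat_lit 9) (Steps.bwd (nat_lit 4) (Steps.bwd (nat_lit 8) (Steps.bwd (nat_lit 4) (Steps.fwd (nat_lit 2097152) (Steps.bwd (nat_lit 4) (Steps.fwd (nat_lit 2359296) (Steps.fwd (nat_lit 1048576) (Steps.fwd (nat_lit 2097152) (Steps.bwd (nat_lit 4) (Steps.fwd (nat_lit 2359296) (Steps.fwd (nat_lit 1048576) (Steps.fwd (nat_lit 2097152) Steps.nil))))))))))))))) (nat_lit 106) (nat_lit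 0),
  Rule.mk (nat_lit 6) (nat_lit 274) (Steps.bwd (nat_lit 1) (Steps.bwd (nat_lit 2) (Steps.fwd (nat_lit 262144) (Steps.fwd (nat_lit 1572864) (Steps.fwd (nat_lit 262144) (Steps.bwd (nat_lit 6) (Steps.bwd (nat_lit 5) (Steps.fwd (nat_lit 786432) (Steps.bwd (nat_lit 1) (Steps.bwd (nat_lit 6) (Steps.fwd (nat_lit 262144) (Steps.bwd (nat_lit 2) (Steps.bwd (nat_lit 1) Steps.nil))))))))))))) (nat_lit 34) (nat_lit 7),
  Rule.mk (nat_lit 5) (nat_lit 114) (Steps.bwd (nat_lit 4) (Steps.bwd (nat_lit 2) (Steps.fwd (nat_lit 1572864) (Steps.bwd (nat_lit 4) (Steps.fwd (nat_lit 786432) Steps.nil))))) (nat_lit 58) (nat_lit 2),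
  Rule.mk (nat_lit 1) (nat_lit 274) (Steps.bwd (nat_lit 6) (Steps.bwd (nat_lit 1) (Steps.bwd (nat_lit 3) (Steps.fwd (nat_lit 262144) (Steps.bwd (nat_lit 6) (Steps.fwd (nat_lit 262144) (Steps.bwd (nat_lit 3) (Steps.fwd (nat_lit 1310720) (Steps.fwd (nat_lit 1572864) (Steps.bwd (nat_lit 1) (Steps.fwd (nat_lit 1572864) (Steps.fwd (nat_lit 262144) (Steps.bwd (nat_lit 3) Steps.nil))))))))))))) (nat_lit 35) (nat_lit 7),
  Rule.mk (nat_lit 6) (nat_lit 274) (Steps.bwd (nat_lit 1) (Steps.fwd (nat_lit 1572864) (Steps.fwd (nat_lit 1310720) (Steps.bwd (nat_lit 2) (Steps.fwd (nat_lit 262144) (Steps.bwd (nat_lit 6) (Steps.bwd (nat_lit 1) (Steps.bwd (nat_lit 2) (Steps.bwd (nat_lit 1) (Steps.bwd (nat_lit 6) (Steps.fwd (nat_lit 262144) (Steps.bwd (nat_lit 2) (Steps.bwd (nat_lit 1) Steps.nil))))))))))))) (nat_lit 34) (nat_lit 11),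
  Rule.mk (nat_lit 6) (nat_lit 274) (Steps.bwd (nat_lit 1) (Steps.fwd (nat_lit 786432) (Steps.fwd (nat_lit 262144) (Steps.fwd (nat_lit 1572864) (Steps.bwd (nat_lit 1) (Steps.bwd (nat_lit 6) (Steps.bwd (nat_lit 5) (Steps.fwd (nat_lit 786432) (Steps.bwd (nat_lit 1) (Steps.fwd (nat_lit 1572864) (Steps.fwd (nat_lit 262144) (Steps.bwd (nat_lit 2) (Steps.bwd (nat_lit 1) Steps.nil))))))))))))) (nat_lit 34) (nat_lit 7),
  Rule.mk (nat_lit 6) (nat_lit 274) (Steps.bwd (nat_lit 1) (Steps.bwd (nat_lit 3) (Steps.bwd (nat_lit 1) (Steps.fwd (nat_lit 1572864) (Steps.fwd (nat_lit 262144) (Steps.fwd (nat_lit 524288) (Steps.bwd (nat_lit 1) (Steps.bwd (nat_lit 6) (Steps.bwd (nat_lit 1) (Steps.bwd (nat_lit 3) (Steps.bwd (nat_lit 5) (Steps.fwd (nat_lit 1572864) (Steps.fwd (nat_lit 262144) Steps.nil))))))))))))) (nat_lit 35) (nat_lit 4),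
  Rule.mk (nat_lit 6) (nat_lit 274) (Steps.bwd (nat_lit 1) (Steps.fwd (nat_lit 524288) (Steps.bwd (nat_lit 5) (Steps.bwd (nat_lit 6) (Steps.fwd (nat_lit 262144) (Steps.bwd (nat_lit 6) (Steps.fwd (nat_lit 262144) (Steps.fwd (nat_lit 524288) (Steps.bwd (nat_lit 1) (Steps.bwd (nat_lit 6) (Steps.fwd (nat_lit 262144) (Steps.fwd (nat_lit 524288) (Steps.bwd (nat_lit 1) Steps.nil))))))))))))) (nat_lit 35) (nat_lit 12),
  Rule.mk (nat_lit 4) (nat_lit 114) (Steps.bwd (nat_lit 5) (Steps.fwd (nat_lit 786432) (Steps.bwd (nat_lit 4) (Steps.bwd (nat_lit 6) (Steps.fwd (nat_lit 786432) Steps.nil))))) (nat_lit 54) (nat_lit 2),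
  Rule.mk (nat_lit 1) (nat_lit 274) (Steps.bwd (nat_lit 6) (Steps.bwd (nat_lit 1) (Steps.bwd (nat_lit 2) (Steps.fwd (nat_lit 262144) (Steps.bwd (nat_lit 6) (Steps.bwd (nat_lit 1) (Steps.bwd (nat_lit 6) (Steps.fwd (nat_lit 1310720) (Steps.fwd (nat_lit 786432) (Steps.bwd (nat_lit 1) (Steps.fwd (nat_lit 1572864) (Steps.fwd (nat_lit 262144) (Steps.bwd (nat_lit 2) Steps.nil))))))))))))) (nat_lit 34) (nat_lit 6),
  Rule.mk (nat_lit 6) (nat_lit 274) (Steps.bwd (nat_lit 1) (Steps.fwd (nat_lit 1572864) (Steps.fwd (nat_lit 1310720) (Steps.fwd (nat_lit 786432) (Steps.fwd (nat_lit 262144) (Steps.fwd (nat_lit 1572864) (Steps.bwd (nat_lit 1) (Steps.bwd (nat_lit 2) (Steps.bwd (nat_lit 1) (Steps.fwd (nat_lit 1572864) (Steps.fwd (nat_lit 262144) (Steps.bwd (nat_lit 2) (Steps.bwd (nat_lit 1) Steps.nil))))))))))))) (nat_lit 34) (nat_lit 11)]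
noncomputable def R_47 : List (Rule) := [Rule.mk (nat_lit 6) (nat_lit 154) (Steps.bwd (nat_lit 5) (Steps.fwd (nat_lit 524288) (Steps.fwd (nat_lit 1572864) (Steps.bwd (nat_lit 7) (Steps.fwd (nat_lit 524288) (Steps.bwd (nat_lit 5) (Steps.bwd (nat_lit 3) Steps.nil))))))) (nat_lit 85) (nat_lit 1),
  Rule.mk (nat_lit 4) (nat_lit 314) (Steps.bwd (nat_lit 8) (Steps.bwd (nat_lit 4) (Steps.bwd (nat_lit 9) (Steps.bwd (nat_lit 4) (Steps.bwd (nat_lit 8) (Steps.bwd (nat_lit 4) (Steps.fwd (nat_lit 2097152) (Steps.bwd (nat_lit 4) (Steps.fwd (nat_lit 2359296) (Steps.fwd (nat_lit 1048576) (Steps.fwd (nat_lit 2097152) (Steps.bwd (nat_lit 4) (Steps.bwd (nat_lit 8) (Steps.bwd (nat_lit 4) (Steps.fwd (nat_lit 2097152) Steps.nil))))))))))))))) (nat_lit 106) (nat_lit 0),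
  Rule.mk (nat_lit 1) (nat_lit 274) (Steps.bwd (nat_lit 6) (Steps.bwd (nat_lit 1) (Steps.bwd (nat_lit 3) (Steps.bwd (nat_lit 5) (Steps.fwd (nat_lit 1572864) (Steps.fwd (nat_lit 262144) (Steps.fwd (nat_lit 1572864) (Steps.fwd (nat_lit 262144) (Steps.fwd (nat_lit 524288) (Steps.bwd (nat_lit 1) (Steps.fwd (nat_lit 1572864) (Steps.fwd (nat_lit 262144) (Steps.bwd (nat_lit 3) Steps.nil))))))))))))) (nat_lit 35) (nat_lit 11),
  Rule.mk (nat_lit 1) (nat_lit 114) (Steps.bwd (nat_lit 5) (Steps.fwd (nat_lit 1835008) (Steps.fwd (nat_lit 262144) (Steps.bwd (nat_lit 5) (Steps.fwd (nat_lit 1835008) Steps.nil))))) (nat_lit 52) (nat_lit 1),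
  Rule.mk (nat_lit 1) (nat_lit 274) (Steps.bwd (nat_lit 6) (Steps.bwd (nat_lit 1) (Steps.bwd (nat_lit 2) (Steps.fwd (nat_lit 262144) (Steps.fwd (nat_lit 1572864) (Steps.bwd (nat_lit 1) (Steps.bwd (nat_lit 2) (Steps.bwd (nat_lit 1) (Steps.bwd (nat_lit 6) (Steps.fwd (nat_lit 262144) (Steps.fwd (nat_lit 1572864) (Steps.bwd (nat_lit 5) (Steps.fwd (nat_lit 786432) Steps.nil))))))))))))) (nat_lit 34) (nat_lit 2),
  Rule.mk (nat_lit 1) (nat_lit 274) (Steps.bwd (nat_lit 6) (Steps.bwd (nat_lit 5) (Steps.fwd (nat_lit 786432) (Steps.fwd (nat_lit 262144) (Steps.fwd (nat_lit 1572864) (Steps.bwd (nat_lit 1) (Steps.bwd (nat_lit 2) (Steps.bwd (nat_lit 1) (Steps.fwd (nat_lit 1572864) (Steps.fwd (nat_lit 262144) (Steps.fwd (nat_lit 786432) (Steps.fwd (nat_lit 262144) (Steps.bwd (nat_lit 6) Steps.nil))))))))))))) (nat_lit 34) (nat_lit 12),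
  Rule.mk (nat_lit 5) (nat_lit 94) (Steps.fwd (nat_lit 1572864) (Steps.bwd (nat_lit 5) (Steps.bwd (nat_lit 6) (Steps.bwd (nat_lit 7) Steps.nil)))) (nat_lit 25) (nat_lit 2),
  Rule.mk (nat_lit 1) (nat_lit 114) (Steps.bwd (nat_lit 7) (Steps.bwd (nat_lit 5) (Steps.bwd (nat_lit 1) (Steps.bwd (nat_lit 7) (Steps.bwd (nat_lit 5) Steps.nil))))) (nat_lit 53) (nat_lit 0),
  Rule.mk (nat_lit 4) (nat_lit 154) (Steps.fwd (nat_lit 786432) (Steps.bwd (nat_lit 7) (Steps.bwd (nat_lit 6) (Steps.fwd (nat_lit 1048576) (Steps.fwd (nat_lit 786432) (Steps.bwd (nat_lit 7) (Steps.bwd (nat_lit 5) Steps.nil))))))) (nat_lit 92) (nat_lit 4),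
  Rule.mk (nat_lit 1) (nat_lit 274) (Steps.bwd (nat_lit 6) (Steps.bwd (nat_lit 1) (Steps.bwd (nat_lit 6) (Steps.fwd (nat_lit 1310720) (Steps.fwd (nat_lit 786432) (Steps.fwd (nat_lit 262144) (Steps.fwd (nat_lit 1572864) (Steps.fwd (nat_lit 262144) (Steps.fwd (nat_lit 786432) (Steps.bwd (nat_lit 1) (Steps.bwd (nat_lit 6) (Steps.fwd (nat_lit 262144) (Steps.bwd (nat_lit 2) Steps.nil))))))))))))) (nat_lit 34) (nat_lit 10),
  Rule.mk (nat_lit 1) (nat_lit 274) (Steps.bwd (nat_lit 6) (Steps.fwd (nat_lit 262144) (Steps.fwd (nat_lit 524288) (Steps.bwd (nat_lit 1) (Steps.bwd (nat_lit 6) (Steps.bwd (nat_lit 1) (Steps.bwd (nat_lit 3) (Steps.fwd (nat_lit 262144) (Steps.fwd (nat_lit 1572864) (Steps.fwd (nat_lit 262144) (Steps.fwd (nat_lit 524288) (Steps.fwd (nat_lit 1310720) (Steps.fwd (nat_lit 1572864) Steps.nil))))))))))))) (nat_lit 35) (nat_lit 3),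
  Rule.mk (nat_lit 3) (nat_lit 154) (Steps.bwd (nat_lit 1) (Steps.fwd (nat_lit 1310720) (Steps.fwd (nat_lit 524288) (Steps.fwd (nat_lit 262144) (Steps.fwd (nat_lit 524288) (Steps.bwd (nat_lit 5) (Steps.bwd (nat_lit 1) Steps.nil))))))) (nat_lit 71) (nat_lit 7),
  Rule.mk (nat_lit 6) (nat_lit 274) (Steps.bwd (nat_lit 1) (Steps.bwd (nat_lit 2) (Steps.fwd (nat_lit 262144) (Steps.fwd (nat_lit 1572864) (Steps.fwd (nat_lit 262144) (Steps.bwd (nat_lit 6) (Steps.bwd (nat_lit 5) (Steps.bwd (nat_lit 2) (Steps.bwd (nat_lit 1) (Steps.bwd (nat_lit 6) (Steps.fwd (nat_lit 262144) (Steps.bwd (nat_lit 2) (Steps.bwd (nat_lit 1) Steps.nil))))))))))))) (nat_lit 34) (nat_lit 7),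
  Rule.mk (nat_lit 6) (nat_lit 274) (Steps.bwd (nat_lit 5) (Steps.fwd (nat_lit 786432) (Steps.fwd (nat_lit 262144) (Steps.fwd (nat_lit 1572864) (Steps.bwd (nat_lit 1) (Steps.fwd (nat_lit 786432) (Steps.bwd (nat_lit 1) (Steps.bwd (nat_lit 6) (Steps.fwd (nat_lit 262144) (Steps.bwd (nat_lit 2) (Steps.bwd (nat_lit 1) (Steps.bwd (nat_lit 6) (Steps.bwd (nat_lit 1) Steps.nil))))))))))))) (nat_lit 34) (nat_lit 13),
  Rule.mk (nat_lit 1) (nat_lit 274) (Steps.bwd (nat_lit 6) (Steps.bwd (nat_lit 1) (Steps.bwd (nat_lit 2) (Steps.fwd (nat_lit 262144) (Steps.fwd (nat_lit 1572864) (Steps.bwd (nat_lit 1) (Steps.bwd (nat_lit 6) (Steps.fwd (nat_lit 1310720) (Steps.fwd (nat_lit 786432) (Steps.bwd (nat_lit 1) (Steps.bwd (nat_lit 6) (Steps.bwd (nat_lit 1) (Steps.bwd (nat_lit 2) Steps.nil))))))))))))) (nat_lit 34) (nat_lit 6),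
  Rule.mk (nat_lit 6) (nat_lit 154) (Steps.fwd (nat_lit 524288) (Steps.bwd (nat_lit 5) (Steps.bwd (nat_lit 3) (Steps.bwd (nat_lit 7) (Steps.fwd (nat_lit 1572864) (Steps.fwd (nat_lit 524288) (Steps.bwd (nat_lit 5) Steps.nil))))))) (nat_lit 83) (nat_lit 5),
  Rule.mk (nat_lit 1) (nat_lit 274) (Steps.bwd (nat_lit 6) (Steps.bwd (nat_lit 5) (Steps.bwd (nat_lit 2) (Steps.bwd (nat_lit 1) (Steps.bwd (nat_lit 6) (Steps.fwd (nat_lit 262144) (Steps.fwd (nat_lit 786432) (Steps.fwd (nat_lit 262144) (Steps.bwd (nat_lit 6) (Steps.fwd (nat_lit 262144) (Steps.fwd (nat_lit 786432) (Steps.bwd (nat_lit 1) (Steps.fwd (nat_lit 1572864) Steps.nil))))))))))))) (nat_lit 34) (nat_lit 12),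
  Rule.mk (nat_lit 1) (nat_lit 274) (Steps.bwd (nat_lit 6) (Steps.bwd (nat_lit 1) (Steps.fwd (nat_lit 1572864) (Steps.fwd (nat_lit 1310720) (Steps.bwd (nat_lit 2) (Steps.bwd (nat_lit 1) (Steps.fwd (nat_lit 1572864) (Steps.fwd (nat_lit 262144) (Steps.fwd (nat_lit 786432) (Steps.fwd (nat_lit 262144) (Steps.fwd (nat_lit 1572864) (Steps.fwd (nat_lit 262144) (Steps.fwd (nat_lit 786432) Steps.nil))))))))))))) (nat_lit 34) (nat_lit 10),
  Rule.mk (nat_lit 1) (nat_lit 274) (Steps.bwd (nat_lit 6) (Steps.bwd (nat_lit 5) (Steps.bwd (nat_lit 2) (Steps.bwd (nat_lit 1) (Steps.bwd (nat_lit 6) (Steps.bwd (nat_lit 1) (Steps.fwd (nat_lit 786432) (Steps.fwd (nat_lit 262144) (Steps.fwd (nat_lit 1572864) (Steps.fwd (nat_lit 262144) (Steps.fwd (nat_lit 786432) (Steps.bwd (nat_lit 1) (Steps.bwd (nat_lit 6) Steps.nil))))))))))))) (nat_lit 34) (nat_lit 12),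
  Rule.mk (nat_lit 1) (nat_lit 274) (Steps.bwd (nat_lit 6) (Steps.fwd (nat_lit 1310720) (Steps.bwd (nat_lit 2) (Steps.bwd (nat_lit 1) (Steps.bwd (nat_lit 6) (Steps.bwd (nat_lit 1) (Steps.fwd (nat_lit 786432) (Steps.fwd (nat_lit 262144) (Steps.fwd (nat_lit 1572864) (Steps.fwd (nat_lit 262144) (Steps.bwd (nat_lit 2) (Steps.bwd (nat_lit 1) (Steps.fwd (nat_lit 1572864) Steps.nil))))))))))))) (nat_lit 34) (nat_lit 12),
  Rule.mk (nat_lit 2) (nat_lit 154) (Steps.bwd (nat_lit 1) (Steps.fwd (nat_lit 1835008) (Steps.fwd (nat_lit 786432) (Steps.fwd (nat_lit 262144) (Steps.bwd (nat_lit 2) (Steps.bwd (nat_lit 7) (Steps.bwd (nat_lit 1) Steps.nil))))))) (nat_lit 72) (nat_lit 2),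
  Rule.mk (nat_lit 6) (nat_lit 274) (Steps.bwd (nat_lit 1) (Steps.fwd (nat_lit 524288) (Steps.fwd (nat_lit 262144) (Steps.bwd (nat_lit 6) (Steps.bwd (nat_lit 1) (Steps.fwd (nat_lit 524288) (Steps.bwd (nat_lit 1) (Steps.fwd (nat_lit 1572864) (Steps.fwd (nat_lit 262144) (Steps.bwd (nat_lit 3) (Steps.fwd (nat_lit 1310720) (Steps.bwd (nat_lit 6) (Steps.fwd (nat_lit 262144) Steps.nil))))))))))))) (nat_lit 35) (nat_lit 4),
  Rule.mk (nat_lit 8) (nat_lit 314) (Steps.bwd (nat_lit 4) (Steps.bwd (nat_lit 9) (Steps.fwd (nat_lit 1048576) (Steps.fwd (nat_lit 2359296) (Steps.fwd (nat_lit 1048576) (Steps.fwd (nat_lit 2097152) (Steps.fwd (nat_lit 1048576) (Steps.fwd (nat_lit 2359296) (Steps.fwd (nat_lit 1048576) (Steps.fwd (nat_lit 2097152) (Steps.fwd (nat_lit 1048576) (Steps.bwd (nat_lit 8) (Steps.bwd (nat_lit 4) (Steps.bwd (nat_lit 9) (Steps.fwd (nat_lit 1048576) Steps.nil)))))))))))))))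 (nat_lit 106) (nat_lit 1),
  Rule.mk (nat_lit 3) (nat_lit 154) (Steps.bwd (nat_lit 1) (Steps.fwd (nat_lit 1835008) (Steps.fwd (nat_lit 524288) (Steps.fwd (nat_lit 262144) (Steps.bwd (nat_lit 3) (Steps.fwd (nat_lit 1835008) (Steps.fwd (nat_lit 262144) Steps.nil))))))) (nat_lit 73) (nat_lit 7),
  Rule.mk (nat_lit 4) (nat_lit 114) (Steps.fwd (nat_lit 1835008) (Steps.fwd (nat_lit 1310720) (Steps.fwd (nat_lit 1048576) (Steps.fwd (nat_lit 1835008) (Steps.bwd (nat_lit 6) Steps.nil))))) (nat_lit 67) (nat_lit 3),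
  Rule.mk (nat_lit 1) (nat_lit 274) (Steps.bwd (nat_lit 6) (Steps.fwd (nat_lit 1310720) (Steps.bwd (nat_lit 2) (Steps.fwd (nat_lit 262144) (Steps.bwd (nat_lit 6) (Steps.bwd (nat_lit 1) (Steps.bwd (nat_lit 2) (Steps.fwd (nat_lit 262144) (Steps.bwd (nat_lit 6) (Steps.bwd (nat_lit 1) (Steps.bwd (nat_lit 2) (Steps.bwd (nat_lit 1) (Steps.bwd (nat_lit 6) Steps.nil))))))))))))) (nat_lit 34) (nat_lit 12),
  Rule.mk (nat_lit 1) (nat_lit 274) (Steps.bwd (nat_lit 6) (Steps.bwd (nat_lit 1) (Steps.bwd (nat_lit 2) (Steps.fwd (nat_lit 262144) (Steps.fwd (nat_lit 1572864) (Steps.bwd (nat_lit 1) (Steps.bwd (nat_lit 2) (Steps.bwd (nat_lit 1) (Steps.fwd (nat_lit 1572864) (Steps.fwd (nat_lit 262144) (Steps.fwd (nat_lit 1572864) (Steps.bwd (nat_lit 5) (Steps.fwd (nat_lit 786432) Steps.nil))))))))))))) (nat_lit 34) (nat_lit 2),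
  Rule.mk (nat_lit 3) (nat_lit 154) (Steps.bwd (nat_lit 1) (Steps.fwd (nat_lit 1310720) (Steps.bwd (nat_lit 3) (Steps.fwd (nat_lit 262144) (Steps.bwd (nat_lit 3) (Steps.bwd (nat_lit 5) (Steps.bwd (nat_lit 1) Steps.nil))))))) (nat_lit 71) (nat_lit 7),
  Rule.mk (nat_lit 6) (nat_lit 274) (Steps.bwd (nat_lit 1) (Steps.fwd (nat_lit 786432) (Steps.fwd (nat_lit 262144) (Steps.bwd (nat_lit 6) (Steps.bwd (nat_lit 1) (Steps.fwd (nat_lit 1572864) (Steps.bwd (nat_lit 5) (Steps.bwd (nat_lit 2) (Steps.bwd (nat_lit 1) (Steps.fwd (nat_lit 1572864) (Steps.fwd (nat_lit 262144) (Steps.bwd (nat_lit 2) (Steps.bwd (nat_lit 1) Steps.nil))))))))))))) (nat_lit 34) (nat_lit 7),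
  Rule.mk (nat_lit 1) (nat_lit 274) (Steps.bwd (nat_lit 6) (Steps.bwd (nat_lit 5) (Steps.bwd (nat_lit 2) (Steps.bwd (nat_lit 1) (Steps.bwd (nat_lit 6) (Steps.fwd (nat_lit 262144) (Steps.fwd (nat_lit 786432) (Steps.bwd (nat_lit 1) (Steps.bwd (nat_lit 6) (Steps.fwd (nat_lit 262144) (Steps.fwd (nat_lit 786432) (Steps.bwd (nat_lit 1) (Steps.bwd (nat_lit 6) Steps.nil))))))))))))) (nat_lit 34) (nat_lit 12),
  Rule.mk (nat_lit 1) (nat_lit 274) (Steps.bwd (nat_lit 6) (Steps.bwd (nat_lit 5) (Steps.fwd (nat_lit 786432) (Steps.fwd (nat_lit 262144) (Steps.fwd (nat_lit 1572864) (Steps.fwd (nat_lit 262144) (Steps.bwd (nat_lit 2) (Steps.bwd (nat_lit 1) (Steps.bwd (nat_lit 6) (Steps.fwd (nat_lit 262144) (Steps.fwd (nat_lit 786432) (Steps.bwd (nat_lit 1) (Steps.fwd (nat_lit 1572864) Steps.nil))))))))))))) (nat_lit 34) (nat_lit 12),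
  Rule.mk (nat_lit 1) (nat_lit 274) (Steps.bwd (nat_lit 6) (Steps.fwd (nat_lit 262144) (Steps.fwd (nat_lit 1572864) (Steps.fwd (nat_lit 1310720) (Steps.fwd (nat_lit 786432) (Steps.bwd (nat_lit 1) (Steps.bwd (nat_lit 6) (Steps.fwd (nat_lit 262144) (Steps.bwd (nat_lit 2) (Steps.bwd (nat_lit 1) (Steps.fwd (nat_lit 1572864) (Steps.fwd (nat_lit 262144) (Steps.fwd (nat_lit 786432) Steps.nil))))))))))))) (nat_lit 34) (nat_lit 10),
  Rule.mk (nat_lit 1) (nat_lit 274) (Steps.bwd (nat_lit 6) (Steps.bwd (nat_lit 1) (Steps.fwd (nat_lit 786432) (Steps.fwd (nat_lit 262144) (Steps.fwd (nat_lit 1572864) (Steps.fwd (nat_lit 262144) (Steps.bwd (nat_lit 6) (Steps.fwd (nat_lit 1310720) (Steps.fwd (nat_lit 786432) (Steps.bwd (nat_lit 1) (Steps.fwd (nat_lit 1572864) (Steps.fwd (nat_lit 262144) (Steps.bwd (nat_lit 2) Steps.nil))))))))))))) (nat_lit 34) (nat_lit 6),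
  Rule.mk (nat_lit 1) (nat_lit 274) (Steps.fwd (nat_lit 1572864) (Steps.fwd (nat_lit 262144) (Steps.fwd (nat_lit 524288) (Steps.bwd (nat_lit 1) (Steps.bwd (nat_lit 6) (Steps.bwd (nat_lit 1) (Steps.bwd (nat_lit 3) (Steps.fwd (nat_lit 262144) (Steps.fwd (nat_lit 1572864) (Steps.fwd (nat_lit 262144) (Steps.fwd (nat_lit 524288) (Steps.bwd (nat_lit 5) (Steps.fwd (nat_lit 1572864) Steps.nil))))))))))))) (nat_lit 35) (nat_lit 3),
  Rule.mk (nat_lit 1) (nat_lit 114) (Steps.bwd (nat_lit 7) (Steps.fwd (nat_lit 1310720) (Steps.bwd (nat_lit 1) (Steps.bwd (nat_lit 7) (Steps.fwd (nat_lit 1310720) Steps.nil))))) (nat_lit 53) (nat_lit 0),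
  Rule.mk (nat_lit 6) (nat_lit 274) (Steps.bwd (nat_lit 1) (Steps.fwd (nat_lit 786432) (Steps.fwd (nat_lit 262144) (Steps.fwd (nat_lit 1572864) (Steps.bwd (nat_lit 1) (Steps.bwd (nat_lit 2) (Steps.bwd (nat_lit 1) (Steps.fwd (nat_lit 1572864) (Steps.fwd (nat_lit 262144) (Steps.bwd (nat_lit 6) (Steps.fwd (nat_lit 1310720) (Steps.fwd (nat_lit 786432) (Steps.fwd (nat_lit 262144) Steps.nil))))))))))))) (nat_lit 34) (nat_lit 3),
  Rule.mk (nat_lit 3) (nat_lit 154) (Steps.bwd (nat_lit 1) (Steps.fwd (nat_lit 786432) (Steps.fwd (nat_lit 262144) (Steps.bwd (nat_lit 3) (Steps.bwd (nat_lit 1) (Steps.bwd (nat_lit 2) (Steps.bwd (nat_lit 1) Steps.nil))))))) (nat_lit 68) (nat_lit 0),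
  Rule.mk (nat_lit 6) (nat_lit 274) (Steps.bwd (nat_lit 1) (Steps.bwd (nat_lit 3) (Steps.bwd (nat_lit 5) (Steps.bwd (nat_lit 6) (Steps.bwd (nat_lit 1) (Steps.fwd (nat_lit 1572864) (Steps.fwd (nat_lit 262144) (Steps.bwd (nat_lit 3) (Steps.bwd (nat_lit 1) (Steps.fwd (nat_lit 1572864) (Steps.bwd (nat_lit 1) (Steps.bwd (nat_lit 3) (Steps.fwd (nat_lit 262144) Steps.nil))))))))))))) (nat_lit 35) (nat_lit 12),
  Rule.mk (nat_lit 6) (nat_lit 274) (Steps.bwd (nat_lit 1) (Steps.fwd (nat_lit 786432) (Steps.fwd (nat_lit 262144) (Steps.fwd (nat_lit 1572864) (Steps.bwd (nat_lit 1) (Steps.bwd (nat_lit 6) (Steps.bwd (nat_lit 5) (Steps.fwd (nat_lit 786432) (Steps.bwd (nat_lit 1) (Steps.bwd (nat_lit 6) (Steps.fwd (nat_lit 262144) (Steps.bwd (nat_lit 2) (Steps.bwd (nat_lit 1) Steps.nil))))))))))))) (nat_lit 34) (nat_lit 7),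
  Rule.mk (nat_lit 1) (nat_lit 274) (Steps.bwd (nat_lit 6) (Steps.bwd (nat_lit 1) (Steps.bwd (nat_lit 3) (Steps.fwd (nat_lit 262144) (Steps.bwd (nat_lit 6) (Steps.bwd (nat_lit 1) (Steps.bwd (nat_lit 3) (Steps.bwd (nat_lit 5) (Steps.fwd (nat_lit 1572864) (Steps.bwd (nat_lit 1) (Steps.bwd (nat_lit 6) (Steps.fwd (nat_lit 262144) (Steps.fwd (nat_lit 524288) Steps.nil))))))))))))) (nat_lit 35) (nat_lit 7),
  Rule.mk (nat_lit 6) (nat_lit 274) (Steps.bwd (nat_lit 1) (Steps.bwd (nat_lit 3) (Steps.bwd (nat_lit 5) (Steps.fwd (nat_lit 1572864) (Steps.fwd (nat_lit 262144) (Steps.bwd (nat_lit 6) (Steps.fwd (nat_lit 262144) (Steps.fwd (nat_lit 524288) (Steps.bwd (nat_lit 1) (Steps.fwd (nat_lit 1572864) (Steps.fwd (nat_lit 262144) (Steps.bwd (nat_lit 3) (Steps.bwd (nat_lit 1) Steps.nil))))))))))))) (nat_lit 35) (nat_lit 12),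
  Rule.mk (nat_lit 1) (nat_lit 274) (Steps.bwd (nat_lit 6) (Steps.bwd (nat_lit 1) (Steps.fwd (nat_lit 1572864) (Steps.bwd (nat_lit 5) (Steps.bwd (nat_lit 2) (Steps.bwd (nat_lit 1) (Steps.bwd (nat_lit 6) (Steps.fwd (nat_lit 262144) (Steps.fwd (nat_lit 786432) (Steps.bwd (nat_lit 1) (Steps.fwd (nat_lit 1572864) (Steps.bwd (nat_lit 1) (Steps.fwd (nat_lit 786432) Steps.nil))))))))))))) (nat_lit 34) (nat_lit 10),
  Rule.mk (nat_lit 1) (nat_lit 274) (Steps.bwd (nat_lit 6) (Steps.bwd (nat_lit 1) (Steps.bwd (nat_lit 2) (Steps.fwd (nat_lit 262144) (Steps.fwd (nat_lit 1572864) (Steps.bwd (nat_lit 1) (Steps.fwd (nat_lit 786432) (Steps.bwd (nat_lit 1) (Steps.bwd (nat_lit 6) (Steps.fwd (nat_lit 262144) (Steps.fwd (nat_lit 1572864) (Steps.fwd (nat_lit 1310720) (Steps.bwd (nat_lit 2) Steps.nil))))))))))))) (nat_lit 34) (nat_lit 2),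
  Rule.mk (nat_lit 6) (nat_lit 274) (Steps.bwd (nat_lit 1) (Steps.fwd (nat_lit 1572864) (Steps.fwd (nat_lit 1310720) (Steps.bwd (nat_lit 2) (Steps.fwd (nat_lit 262144) (Steps.bwd (nat_lit 6) (Steps.bwd (nat_lit 1) (Steps.fwd (nat_lit 786432) (Steps.bwd (nat_lit 1) (Steps.bwd (nat_lit 6) (Steps.fwd (nat_lit 262144) (Steps.bwd (nat_lit 2) (Steps.bwd (nat_lit 1) Steps.nil))))))))))))) (nat_lit 34) (nat_lit 11),
  Rule.mk (nat_lit 6) (nat_lit 154) (Steps.fwd (nat_lit 524288) (Steps.bwd (nat_lit 5) (Steps.fwd (nat_lit 524288) (Steps.fwd (nat_lit 1835008) (Steps.fwd (nat_lit 1572864) (Steps.fwd (nat_lit 524288) (Steps.bwd (nat_lit 5) Steps.nil))))))) (nat_lit 83) (nat_lit 5),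
  Rule.mk (nat_lit 1) (nat_lit 274) (Steps.bwd (nat_lit 6) (Steps.fwd (nat_lit 1310720) (Steps.bwd (nat_lit 2) (Steps.bwd (nat_lit 1) (Steps.bwd (nat_lit 6) (Steps.fwd (nat_lit 262144) (Steps.fwd (nat_lit 786432) (Steps.fwd (nat_lit 262144) (Steps.bwd (nat_lit 6) (Steps.fwd (nat_lit 262144) (Steps.fwd (nat_lit 786432) (Steps.bwd (nat_lit 1) (Steps.bwd (nat_lit 6) Steps.nil))))))))))))) (nat_lit 34) (nat_lit 12),
  Rule.mk (nat_lit 1) (nat_lit 274) (Steps.fwd (nat_lit 786432) (Steps.bwd (nat_lit 1) (Steps.fwd (nat_lit 1572864) (Steps.fwd (nat_lit 262144) (Steps.bwd (nat_lit 2) (Steps.bwd (nat_lit 1) (Steps.bwd (nat_lit 6) (Steps.bwd (nat_lit 1) (Steps.fwd (nat_lit 1572864) (Steps.bwd (nat_lit 5) (Steps.fwd (nat_lit 786432) (Steps.fwd (nat_lit 262144) (Steps.bwd (nat_lit 6) Steps.nil))))))))))))) (nat_lit 34) (nat_lit 4),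
  Rule.mk (nat_lit 6) (nat_lit 114) (Steps.fwd (nat_lit 1835008) (Steps.bwd (nat_lit 3) (Steps.fwd (nat_lit 1572864) (Steps.bwd (nat_lit 7) (Steps.bwd (nat_lit 2) Steps.nil))))) (nat_lit 62) (nat_lit 2),
  Rule.mk (nat_lit 5) (nat_lit 94) (Steps.fwd (nat_lit 1572864) (Steps.bwd (nat_lit 5) (Steps.fwd (nat_lit 1572864) (Steps.bwd (nat_lit 7) Steps.nil)))) (nat_lit 25) (nat_lit 2),
  Rule.mk (nat_lit 1) (nat_lit 274) (Steps.bwd (nat_lit 6) (Steps.bwd (nat_lit 1) (Steps.bwd (nat_lit 3) (Steps.fwd (nat_lit 262144) (Steps.fwd (nat_lit 1572864) (Steps.fwd (nat_lit 262144) (Steps.fwd (nat_lit 524288) (Steps.bwd (nat_lit 1) (Steps.fwd (nat_lit 1572864) (Steps.fwd (nat_lit 262144) (Steps.fwd (nat_lit 524288) (Steps.fwd (nat_lit 1310720) (Steps.bwd (nat_lit 6) Steps.nil))))))))))))) (nat_lit 35) (nat_lit 3),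
  Rule.mk (nat_lit 6) (nat_lit 274) (Steps.bwd (nat_lit 1) (Steps.bwd (nat_lit 2) (Steps.fwd (nat_lit 262144) (Steps.bwd (nat_lit 6) (Steps.bwd (nat_lit 1) (Steps.bwd (nat_lit 6) (Steps.fwd (nat_lit 1310720) (Steps.bwd (nat_lit 2) (Steps.bwd (nat_lit 1) (Steps.fwd (nat_lit 1572864) (Steps.fwd (nat_lit 262144) (Steps.bwd (nat_lit 2) (Steps.bwd (nat_lit 1) Steps.nil))))))))))))) (nat_lit 34) (nat_lit 7),
  Rule.mk (nat_lit 6) (nat_lit 274) (Steps.bwd (nat_lit 1) (Steps.fwd (nat_lit 524288) (Steps.fwd (nat_lit 262144) (Steps.fwd (nat_lit 1572864) (Steps.fwd (nat_lit 262144) (Steps.fwd (nat_lit 524288) (Steps.bwd (nat_lit 1) (Steps.fwd (nat_lit 1572864) (Steps.fwd (nat_lit 262144) (Steps.fwd (nat_lit 524288) (Steps.bwd (nat_lit 5) (Steps.fwd (nat_lit 1572864) (Steps.fwd (nat_lit 262144) Steps.nil))))))))))))) (nat_lit 35) (nat_lit 4),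
  Rule.mk (nat_lit 1) (nat_lit 274) (Steps.bwd (nat_lit 6) (Steps.bwd (nat_lit 1) (Steps.bwd (nat_lit 2) (Steps.fwd (nat_lit 262144) (Steps.bwd (nat_lit 6) (Steps.fwd (nat_lit 262144) (Steps.bwd (nat_lit 6) (Steps.bwd (nat_lit 5) (Steps.bwd (nat_lit 2) (Steps.bwd (nat_lit 1) (Steps.fwd (nat_lit 1572864) (Steps.fwd (nat_lit 262144) (Steps.bwd (nat_lit 2) Steps.nil))))))))))))) (nat_lit 34) (nat_lit 6),
  Rule.mk (nat_lit 1) (nat_lit 154) (Steps.fwd (nat_lit 1048576) (Steps.bwd (nat_lit 1) (Steps.fwd (nat_lit 1572864) (Steps.fwd (nat_lit 262144) (Steps.fwd (nat_lit 1048576) (Steps.bwd (nat_lit 1) (Steps.fwd (nat_lit 1572864) Steps.nil))))))) (nat_lit 74) (nat_lit 1),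
  Rule.mk (nat_lit 6) (nat_lit 274) (Steps.bwd (nat_lit 1) (Steps.fwd (nat_lit 524288) (Steps.fwd (nat_lit 262144) (Steps.bwd (nat_lit 6) (Steps.bwd (nat_lit 1) (Steps.fwd (nat_lit 524288) (Steps.bwd (nat_lit 1) (Steps.bwd (nat_lit 6) (Steps.fwd (nat_lit 262144) (Steps.bwd (nat_lit 3) (Steps.fwd (nat_lit 1310720) (Steps.bwd (nat_lit 6) (Steps.fwd (nat_lit 262144) Steps.nil))))))))))))) (nat_lit 35) (nat_lit 4),
  Rule.mk (nat_lit 6) (nat_lit 114) (Steps.fwd (nat_lit 1835008) (Steps.bwd (nat_lit 2) (Steps.bwd (nat_lit 6) (Steps.bwd (nat_lit 7) (Steps.bwd (nat_lit 3) Steps.nil))))) (nat_lit 62) (nat_lit 5),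
  Rule.mk (nat_lit 6) (nat_lit 154) (Steps.bwd (nat_lit 2) (Steps.bwd (nat_lit 5) (Steps.fwd (nat_lit 786432) (Steps.fwd (nat_lit 1835008) (Steps.fwd (nat_lit 1572864) (Steps.bwd (nat_lit 2) (Steps.bwd (nat_lit 5) Steps.nil))))))) (nat_lit 84) (nat_lit 0),
  Rule.mk (nat_lit 6) (nat_lit 274) (Steps.bwd (nat_lit 1) (Steps.fwd (nat_lit 524288) (Steps.fwd (nat_lit 262144) (Steps.bwd (nat_lit 6) (Steps.fwd (nat_lit 262144) (Steps.fwd (nat_lit 524288) (Steps.bwd (nat_lit 1) (Steps.fwd (nat_lit 1572864) (Steps.fwd (nat_lit 262144) (Steps.fwd (nat_lit 524288) (Steps.bwd (nat_lit 5) (Steps.fwd (nat_lit 1572864) (Steps.fwd (nat_lit 262144) Steps.nil))))))))))))) (nat_lit 35) (nat_lit 4),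
  Rule.mk (nat_lit 6) (nat_lit 274) (Steps.bwd (nat_lit 1) (Steps.bwd (nat_lit 3) (Steps.bwd (nat_lit 5) (Steps.bwd (nat_lit 6) (Steps.bwd (nat_lit 1) (Steps.bwd (nat_lit 6) (Steps.fwd (nat_lit 262144) (Steps.bwd (nat_lit 3) (Steps.fwd (nat_lit 262144) (Steps.fwd (nat_lit 1572864) (Steps.bwd (nat_lit 1) (Steps.bwd (nat_lit 3) (Steps.fwd (nat_lit 262144) Steps.nil))))))))))))) (nat_lit 35) (nat_lit 12),
  Rule.mk (nat_lit 1) (nat_lit 274) (Steps.bwd (nat_lit 6) (Steps.bwd (nat_lit 5) (Steps.bwd (nat_lit 2) (Steps.bwd (nat_lit 1) (Steps.bwd (nat_lit 6) (Steps.fwd (nat_lit 262144) (Steps.fwd (nat_lit 786432) (Steps.fwd (nat_lit 262144) (Steps.bwd (nat_lit 6) (Steps.fwd (nat_lit 262144) (Steps.fwd (nat_lit 786432) (Steps.fwd (nat_lit 262144) (Steps.fwd (nat_lit 1572864) Steps.nil))))))))))))) (nat_lit 34) (nat_lit 12),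
  Rule.mk (nat_lit 1) (nat_lit 274) (Steps.bwd (nat_lit 6) (Steps.bwd (nat_lit 5) (Steps.fwd (nat_lit 786432) (Steps.bwd (nat_lit 1) (Steps.fwd (nat_lit 1572864) (Steps.fwd (nat_lit 262144) (Steps.bwd (nat_lit 2) (Steps.bwd (nat_lit 1) (Steps.fwd (nat_lit 1572864) (Steps.fwd (nat_lit 262144) (Steps.fwd (nat_lit 786432) (Steps.bwd (nat_lit 1) (Steps.bwd (nat_lit 6) Steps.nil))))))))))))) (nat_lit 34) (nat_lit 12),
  Rule.mk (nat_lit 6) (nat_lit 114) (Steps.fwd (nat_lit 524288) (Steps.fwd (nat_lit 1835008) (Steps.bwd (nat_lit 6) (Steps.fwd (nat_lit 786432) (Steps.bwd (nat_lit 7) Steps.nil))))) (nat_lit 63) (nat_lit 5),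
  Rule.mk (nat_lit 1) (nat_lit 274) (Steps.bwd (nat_lit 6) (Steps.fwd (nat_lit 1310720) (Steps.bwd (nat_lit 2) (Steps.bwd (nat_lit 1) (Steps.bwd (nat_lit 6) (Steps.fwd (nat_lit 262144) (Steps.fwd (nat_lit 786432) (Steps.bwd (nat_lit 1) (Steps.bwd (nat_lit 6) (Steps.fwd (nat_lit 262144) (Steps.fwd (nat_lit 786432) (Steps.bwd (nat_lit 1) (Steps.bwd (nat_lit 6) Steps.nil))))))))))))) (nat_lit 34) (nat_lit 12),
  Rule.mk (nat_lit 1) (nat_lit 274) (Steps.bwd (nat_lit 6) (Steps.fwd (nat_lit 1310720) (Steps.fwd (nat_lit 786432) (Steps.fwd (nat_lit 262144) (Steps.fwd (nat_lit 1572864) (Steps.fwd (nat_lit 262144) (Steps.bwd (nat_lit 2) (Steps.bwd (nat_lit 1) (Steps.bwd (nat_lit 6) (Steps.fwd (nat_lit 262144) (Steps.fwd (nat_lit 786432) (Steps.fwd (nat_lit 262144) (Steps.fwd (nat_lit 1572864) Steps.nil))))))))))))) (nat_lit 34) (nat_lit 12)]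
noncomputable def R_48 : List (Rule) := [Rule.mk (nat_lit 6) (nat_lit 274) (Steps.bwd (nat_lit 1) (Steps.fwd (nat_lit 786432) (Steps.fwd (nat_lit 262144) (Steps.bwd (nat_lit 6) (Steps.fwd (nat_lit 262144) (Steps.fwd (nat_lit 1572864) (Steps.bwd (nat_lit 5) (Steps.bwd (nat_lit 2) (Steps.bwd (nat_lit 1) (Steps.fwd (nat_lit 1572864) (Steps.fwd (nat_lit 262144) (Steps.bwd (nat_lit 2) (Steps.bwd (nat_lit 1) Steps.nil))))))))))))) (nat_lit 34) (nat_lit 7),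
  Rule.mk (nat_lit 6) (nat_lit 274) (Steps.bwd (nat_lit 1) (Steps.fwd (nat_lit 786432) (Steps.fwd (nat_lit 262144) (Steps.bwd (nat_lit 6) (Steps.bwd (nat_lit 1) (Steps.bwd (nat_lit 6) (Steps.bwd (nat_lit 5) (Steps.fwd (nat_lit 786432) (Steps.bwd (nat_lit 1) (Steps.fwd (nat_lit 1572864) (Steps.fwd (nat_lit 262144) (Steps.fwd (nat_lit 786432) (Steps.bwd (nat_lit 1) Steps.nil))))))))))))) (nat_lit 34) (nat_lit 7),
  Rule.mk (nat_lit 4) (nat_lit 314) (Steps.bwd (nat_lit 9) (Steps.bwd (nat_lit 4) (Steps.bwd (nat_lit 8) (Steps.bwd (nat_lit 4) (Steps.bwd (nat_lit 9) (Steps.bwd (nat_lit 4) (Steps.fwd (nat_lit 2359296) (Steps.bwd (nat_lit 4) (Steps.bwd (nat_lit 9) (Steps.fwd (nat_lit 1048576) (Steps.fwd (nat_lit 2359296) (Steps.bwd (nat_lit 4) (Steps.bwd (nat_lit 9) (Steps.fwd (nat_lit 1048576) (Steps.fwd (nat_lit 2359296) Steps.nil))))))))))))))) (nat_lit 106) (nat_lit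 2),
  Rule.mk (nat_lit 6) (nat_lit 274) (Steps.bwd (nat_lit 1) (Steps.fwd (nat_lit 524288) (Steps.fwd (nat_lit 262144) (Steps.bwd (nat_lit 6) (Steps.bwd (nat_lit 1) (Steps.fwd (nat_lit 524288) (Steps.bwd (nat_lit 5) (Steps.fwd (nat_lit 1572864) (Steps.fwd (nat_lit 262144) (Steps.fwd (nat_lit 1572864) (Steps.fwd (nat_lit 262144) (Steps.fwd (nat_lit 524288) (Steps.bwd (nat_lit 1) Steps.nil))))))))))))) (nat_lit 35) (nat_lit 8),
  Rule.mk (nat_lit 1) (nat_lit 274) (Steps.bwd (nat_lit 6) (Steps.fwd (nat_lit 1310720) (Steps.bwd (nat_lit 2) (Steps.bwd (nat_lit 1) (Steps.bwd (nat_lit 6) (Steps.fwd (nat_lit 262144) (Steps.fwd (nat_lit 786432) (Steps.fwd (nat_lit 262144) (Steps.bwd (nat_lit 6) (Steps.bwd (nat_lit 1) (Steps.fwd (nat_lit 786432) (Steps.fwd (nat_lit 262144) (Steps.bwd (nat_lit 6) Steps.nil))))))))))))) (nat_lit 34) (nat_lit 12),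
  Rule.mk (nat_lit 1) (nat_lit 274) (Steps.bwd (nat_lit 6) (Steps.fwd (nat_lit 262144) (Steps.fwd (nat_lit 1572864) (Steps.bwd (nat_lit 5) (Steps.bwd (nat_lit 2) (Steps.bwd (nat_lit 1) (Steps.fwd (nat_lit 1572864) (Steps.fwd (nat_lit 262144) (Steps.fwd (nat_lit 786432) (Steps.bwd (nat_lit 1) (Steps.bwd (nat_lit 6) (Steps.bwd (nat_lit 1) (Steps.fwd (nat_lit 786432) Steps.nil))))))))))))) (nat_lit 34) (nat_lit 10),
  Rule.mk (nat_lit 1) (nat_lit 274) (Steps.bwd (nat_lit 6) (Steps.fwd (nat_lit 1310720) (Steps.bwd (nat_lit 2) (Steps.bwd (nat_lit 1) (Steps.bwd (nat_lit 6) (Steps.fwd (nat_lit 262144) (Steps.fwd (nat_lit 786432) (Steps.fwd (nat_lit 262144) (Steps.fwd (nat_lit 1572864) (Steps.fwd (nat_lit 262144) (Steps.fwd (nat_lit 786432) (Steps.bwd (nat_lit 1) (Steps.fwd (nat_lit 1572864) Steps.nil))))))))))))) (nat_lit 34) (nat_lit 12),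
  Rule.mk (nat_lit 1) (nat_lit 274) (Steps.bwd (nat_lit 6) (Steps.fwd (nat_lit 1310720) (Steps.fwd (nat_lit 786432) (Steps.bwd (nat_lit 1) (Steps.fwd (nat_lit 1572864) (Steps.bwd (nat_lit 1) (Steps.bwd (nat_lit 2) (Steps.bwd (nat_lit 1) (Steps.fwd (nat_lit 1572864) (Steps.fwd (nat_lit 262144) (Steps.fwd (nat_lit 786432) (Steps.bwd (nat_lit 1) (Steps.fwd (nat_lit 1572864) Steps.nil))))))))))))) (nat_lit 34) (nat_lit 12),
  Rule.mk (nat_lit 1) (nat_lit 274) (Steps.bwd (nat_lit 6) (Steps.fwd (nat_lit 1310720) (Steps.bwd (nat_lit 2) (Steps.bwd (nat_lit 1) (Steps.bwd (nat_lit 6) (Steps.bwd (nat_lit 1) (Steps.fwd (nat_lit 786432) (Steps.fwd (nat_lit 262144) (Steps.fwd (nat_lit 1572864) (Steps.fwd (nat_lit 262144) (Steps.bwd (nat_lit 2) (Steps.bwd (nat_lit 1) (Steps.bwd (nat_lit 6) Steps.nil))))))))))))) (nat_lit 34) (nat_lit 12),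
  Rule.mk (nat_lit 1) (nat_lit 274) (Steps.bwd (nat_lit 3) (Steps.bwd (nat_lit 5) (Steps.bwd (nat_lit 6) (Steps.bwd (nat_lit 1) (Steps.bwd (nat_lit 6) (Steps.fwd (nat_lit 262144) (Steps.fwd (nat_lit 524288) (Steps.fwd (nat_lit 262144) (Steps.bwd (nat_lit 6) (Steps.bwd (nat_lit 1) (Steps.bwd (nat_lit 3) (Steps.fwd (nat_lit 262144) (Steps.fwd (nat_lit 1572864) Steps.nil))))))))))))) (nat_lit 35) (nat_lit 13),
  Rule.mk (nat_lit 4) (nat_lit 314) (Steps.bwd (nat_lit 9) (Steps.bwd (nat_lit 4) (Steps.bwd (nat_lit 8) (Steps.bwd (nat_lit 4) (Steps.bwd (nat_lit 9) (Steps.bwd (nat_lit 4) (Steps.fwd (nat_lit 2359296) (Steps.bwd (nat_lit 4) (Steps.bwd (nat_lit 9) (Steps.fwd (nat_lit 1048576) (Steps.fwd (nat_lit 2359296) (Steps.bwd (nat_lit 4) (Steps.bwd (nat_lit 9) (Steps.bwd (nat_lit 4) (Steps.bwd (nat_lit 8) Steps.nil))))))))))))))) (nat_lit 106) (nat_lit 2),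
  Rule.mk (nat_lit 1) (nat_lit 274) (Steps.bwd (nat_lit 6) (Steps.bwd (nat_lit 1) (Steps.fwd (nat_lit 524288) (Steps.bwd (nat_lit 5) (Steps.fwd (nat_lit 1572864) (Steps.fwd (nat_lit 262144) (Steps.fwd (nat_lit 1572864) (Steps.bwd (nat_lit 1) (Steps.fwd (nat_lit 524288) (Steps.bwd (nat_lit 1) (Steps.bwd (nat_lit 6) (Steps.fwd (nat_lit 262144) (Steps.fwd (nat_lit 524288) Steps.nil))))))))))))) (nat_lit 35) (nat_lit 11),
  Rule.mk (nat_lit 1) (nat_lit 274) (Steps.bwd (nat_lit 6) (Steps.fwd (nat_lit 262144) (Steps.bwd (nat_lit 3) (Steps.bwd (nat_lit 1) (Steps.bwd (nat_lit 6) (Steps.bwd (nat_lit 1) (Steps.bwd (nat_lit 3) (Steps.fwd (nat_lit 262144) (Steps.fwd (nat_lit 1572864) (Steps.fwd (nat_lit 262144) (Steps.fwd (nat_lit 524288) (Steps.bwd (nat_lit 5) (Steps.fwd (nat_lit 1572864) Steps.nil))))))))))))) (nat_lit 35) (nat_lit 3),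
  Rule.mk (nat_lit 6) (nat_lit 274) (Steps.bwd (nat_lit 1) (Steps.fwd (nat_lit 524288) (Steps.fwd (nat_lit 262144) (Steps.bwd (nat_lit 6) (Steps.fwd (nat_lit 262144) (Steps.fwd (nat_lit 524288) (Steps.fwd (nat_lit 1310720) (Steps.fwd (nat_lit 1572864) (Steps.bwd (nat_lit 1) (Steps.bwd (nat_lit 6) (Steps.fwd (nat_lit 262144) (Steps.fwd (nat_lit 524288) (Steps.bwd (nat_lit 1) Steps.nil))))))))))))) (nat_lit 35) (nat_lit 8),
  Rule.mk (nat_lit 5) (nat_lit 114) (Steps.bwd (nat_lit 4) (Steps.bwd (nat_lit 2) (Steps.bwd (nat_lit 6) (Steps.bwd (nat_lit 4) (Steps.bwd (nat_lit 2) Steps.nil))))) (nat_lit 58) (nat_lit 2),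
  Rule.mk (nat_lit 1) (nat_lit 274) (Steps.fwd (nat_lit 786432) (Steps.bwd (nat_lit 1) (Steps.bwd (nat_lit 6) (Steps.bwd (nat_lit 1) (Steps.bwd (nat_lit 2) (Steps.fwd (nat_lit 262144) (Steps.fwd (nat_lit 1572864) (Steps.bwd (nat_lit 1) (Steps.bwd (nat_lit 6) (Steps.fwd (nat_lit 1310720) (Steps.bwd (nat_lit 2) (Steps.bwd (nat_lit 1) (Steps.fwd (nat_lit 1572864) Steps.nil))))))))))))) (nat_lit 34) (nat_lit 4),
  Rule.mk (nat_lit 6) (nat_lit 274) (Steps.bwd (nat_lit 1) (Steps.fwd (nat_lit 524288) (Steps.fwd (nat_lit 262144) (Steps.bwd (nat_lit 6) (Steps.bwd (nat_lit 1) (Steps.bwd (nat_lit 3) (Steps.bwd (nat_lit 5) (Steps.bwd (nat_lit 6) (Steps.bwd (nat_lit 1) (Steps.fwd (nat_lit 1572864) (Steps.fwd (nat_lit 262144) (Steps.bwd (nat_lit 3) (Steps.fwd (nat_lit 262144) Steps.nil))))))))))))) (nat_lit 35) (nat_lit 8),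
  Rule.mk (nat_lit 1) (nat_lit 274) (Steps.bwd (nat_lit 6) (Steps.bwd (nat_lit 1) (Steps.bwd (nat_lit 2) (Steps.fwd (nat_lit 262144) (Steps.fwd (nat_lit 1572864) (Steps.fwd (nat_lit 262144) (Steps.bwd (nat_lit 2) (Steps.bwd (nat_lit 1) (Steps.fwd (nat_lit 1572864) (Steps.fwd (nat_lit 262144) (Steps.fwd (nat_lit 1572864) (Steps.bwd (nat_lit 5) (Steps.fwd (nat_lit 786432) Steps.nil))))))))))))) (nat_lit 34) (nat_lit 2),
  Rule.mk (nat_lit 6) (nat_lit 274) (Steps.bwd (nat_lit 1) (Steps.fwd (nat_lit 524288) (Steps.fwd (nat_lit 262144) (Steps.bwd (nat_lit 6) (Steps.fwd (nat_lit 262144) (Steps.fwd (nat_lit 524288) (Steps.bwd (nat_lit 5) (Steps.fwd (nat_lit 1572864) (Steps.bwd (nat_lit 1) (Steps.fwd (nat_lit 1572864) (Steps.fwd (nat_lit 262144) (Steps.fwd (nat_lit 524288) (Steps.bwd (nat_lit 1) Steps.nil))))))))))))) (nat_lit 35) (nat_lit 8),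
  Rule.mk (nat_lit 1) (nat_lit 274) (Steps.bwd (nat_lit 6) (Steps.bwd (nat_lit 5) (Steps.fwd (nat_lit 786432) (Steps.bwd (nat_lit 1) (Steps.fwd (nat_lit 1572864) (Steps.fwd (nat_lit 262144) (Steps.fwd (nat_lit 786432) (Steps.bwd (nat_lit 1) (Steps.fwd (nat_lit 1572864) (Steps.fwd (nat_lit 262144) (Steps.bwd (nat_lit 2) (Steps.bwd (nat_lit 1) (Steps.bwd (nat_lit 6) Steps.nil))))))))))))) (nat_lit 34) (nat_lit 12),
  Rule.mk (nat_lit 6) (nat_lit 274) (Steps.bwd (nat_lit 1) (Steps.bwd (nat_lit 3) (Steps.bwd (nat_lit 5) (Steps.fwd (nat_lit 1572864) (Steps.fwd (nat_lit 262144) (Steps.bwd (nat_lit 6) (Steps.fwd (nat_lit 262144) (Steps.fwd (nat_lit 524288) (Steps.bwd (nat_lit 1) (Steps.fwd (nat_lit 1572864) (Steps.fwd (nat_lit 262144) (Steps.bwd (nat_lit 3) (Steps.fwd (nat_lit 262144) Steps.nil))))))))))))) (nat_lit 35) (nat_lit 12),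
  Rule.mk (nat_lit 6) (nat_lit 154) (Steps.bwd (nat_lit 2) (Steps.bwd (nat_lit 5) (Steps.bwd (nat_lit 2) (Steps.fwd (nat_lit 1835008) (Steps.fwd (nat_lit 1572864) (Steps.fwd (nat_lit 786432) (Steps.bwd (nat_lit 5) Steps.nil))))))) (nat_lit 84) (nat_lit 0),
  Rule.mk (nat_lit 6) (nat_lit 274) (Steps.bwd (nat_lit 1) (Steps.bwd (nat_lit 6) (Steps.fwd (nat_lit 1310720) (Steps.bwd (nat_lit 2) (Steps.fwd (nat_lit 262144) (Steps.bwd (nat_lit 6) (Steps.fwd (nat_lit 262144) (Steps.bwd (nat_lit 2) (Steps.bwd (nat_lit 1) (Steps.fwd (nat_lit 1572864) (Steps.fwd (nat_lit 262144) (Steps.bwd (nat_lit 2) (Steps.fwd (nat_lit 262144) Steps.nil))))))))))))) (nat_lit 34) (nat_lit 11),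
  Rule.mk (nat_lit 6) (nat_lit 274) (Steps.bwd (nat_lit 1) (Steps.fwd (nat_lit 786432) (Steps.fwd (nat_lit 262144) (Steps.bwd (nat_lit 6) (Steps.fwd (nat_lit 262144) (Steps.fwd (nat_lit 1572864) (Steps.fwd (nat_lit 1310720) (Steps.fwd (nat_lit 786432) (Steps.bwd (nat_lit 1) (Steps.bwd (nat_lit 6) (Steps.fwd (nat_lit 262144) (Steps.bwd (nat_lit 2) (Steps.fwd (nat_lit 262144) Steps.nil))))))))))))) (nat_lit 34) (nat_lit 7),
  Rule.mk (nat_lit 1) (nat_lit 274) (Steps.bwd (nat_lit 6) (Steps.bwd (nat_lit 5) (Steps.bwd (nat_lit 2) (Steps.bwd (nat_lit 1) (Steps.bwd (nat_lit 6) (Steps.fwd (nat_lit 262144) (Steps.fwd (nat_lit 786432) (Steps.bwd (nat_lit 1) (Steps.bwd (nat_lit 6) (Steps.fwd (nat_lit 262144) (Steps.fwd (nat_lit 786432) (Steps.bwd (nat_lit 1) (Steps.fwd (nat_lit 1572864) Steps.nil))))))))))))) (nat_lit 34) (nat_lit 12),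
  Rule.mk (nat_lit 6) (nat_lit 154) (Steps.fwd (nat_lit 1310720) (Steps.bwd (nat_lit 3) (Steps.fwd (nat_lit 1572864) (Steps.fwd (nat_lit 1835008) (Steps.fwd (nat_lit 524288) (Steps.bwd (nat_lit 5) (Steps.bwd (nat_lit 3) Steps.nil))))))) (nat_lit 85) (nat_lit 1),
  Rule.mk (nat_lit 6) (nat_lit 274) (Steps.bwd (nat_lit 1) (Steps.bwd (nat_lit 2) (Steps.fwd (nat_lit 262144) (Steps.fwd (nat_lit 1572864) (Steps.bwd (nat_lit 1) (Steps.bwd (nat_lit 6) (Steps.fwd (nat_lit 1310720) (Steps.fwd (nat_lit 786432) (Steps.bwd (nat_lit 1) (Steps.fwd (nat_lit 1572864) (Steps.fwd (nat_lit 262144) (Steps.fwd (nat_lit 786432) (Steps.bwd (nat_lit 1) Steps.nil))))))))))))) (nat_lit 34) (nat_lit 7),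
  Rule.mk (nat_lit 1) (nat_lit 274) (Steps.bwd (nat_lit 6) (Steps.bwd (nat_lit 1) (Steps.bwd (nat_lit 3) (Steps.fwd (nat_lit 262144) (Steps.fwd (nat_lit 1572864) (Steps.fwd (nat_lit 262144) (Steps.fwd (nat_lit 524288) (Steps.bwd (nat_lit 1) (Steps.fwd (nat_lit 1572864) (Steps.fwd (nat_lit 262144) (Steps.fwd (nat_lit 524288) (Steps.bwd (nat_lit 5) (Steps.bwd (nat_lit 6) Steps.nil))))))))))))) (nat_lit 35) (nat_lit 3),
  Rule.mk (nat_lit 1) (nat_lit 274) (Steps.bwd (nat_lit 6) (Steps.bwd (nat_lit 5) (Steps.bwd (nat_lit 2) (Steps.bwd (nat_lit 1) (Steps.bwd (nat_lit 6) (Steps.bwd (nat_lit 1) (Steps.fwd (nat_lit 786432) (Steps.fwd (nat_lit 262144) (Steps.fwd (nat_lit 1572864) (Steps.fwd (nat_lit 262144) (Steps.bwd (nat_lit 2) (Steps.bwd (nat_lit 1) (Steps.fwd (nat_lit 1572864) Steps.nil))))))))))))) (nat_lit 34) (nat_lit 12),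
  Rule.mk (nat_lit 1) (nat_lit 274) (Steps.fwd (nat_lit 786432) (Steps.bwd (nat_lit 1) (Steps.bwd (nat_lit 6) (Steps.fwd (nat_lit 262144) (Steps.bwd (nat_lit 6) (Steps.fwd (nat_lit 1310720) (Steps.fwd (nat_lit 786432) (Steps.fwd (nat_lit 262144) (Steps.fwd (nat_lit 1572864) (Steps.bwd (nat_lit 1) (Steps.bwd (nat_lit 2) (Steps.fwd (nat_lit 262144) (Steps.bwd (nat_lit 6) Steps.nil))))))))))))) (nat_lit 34) (nat_lit 8),
  Rule.mk (nat_lit 6) (nat_lit 274) (Steps.bwd (nat_lit 1) (Steps.bwd (nat_lit 3) (Steps.fwd (nat_lit 1310720) (Steps.bwd (nat_lit 6) (Steps.bwd (nat_lit 1) (Steps.fwd (nat_lit 1572864) (Steps.fwd (nat_lit 262144) (Steps.bwd (nat_lit 3) (Steps.bwd (nat_lit 1) (Steps.bwd (nat_lit 6) (Steps.bwd (nat_lit 1) (Steps.bwd (nat_lit 3) (Steps.fwd (nat_lit 262144) Steps.nil))))))))))))) (nat_lit 35) (nat_lit 12),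
  Rule.mk (nat_lit 1) (nat_lit 274) (Steps.bwd (nat_lit 6) (Steps.bwd (nat_lit 5) (Steps.fwd (nat_lit 786432) (Steps.fwd (nat_lit 262144) (Steps.bwd (nat_lit 6) (Steps.bwd (nat_lit 1) (Steps.fwd (nat_lit 786432) (Steps.fwd (nat_lit 262144) (Steps.fwd (nat_lit 1572864) (Steps.bwd (nat_lit 1) (Steps.fwd (nat_lit 786432) (Steps.fwd (nat_lit 262144) (Steps.bwd (nat_lit 6) Steps.nil))))))))))))) (nat_lit 34) (nat_lit 12),
  Rule.mk (nat_lit 1) (nat_lit 274) (Steps.bwd (nat_lit 6) (Steps.bwd (nat_lit 1) (Steps.bwd (nat_lit 2) (Steps.fwd (nat_lit 262144) (Steps.bwd (nat_lit 6) (Steps.fwd (nat_lit 262144) (Steps.bwd (nat_lit 6) (Steps.fwd (nat_lit 1310720) (Steps.bwd (nat_lit 2) (Steps.bwd (nat_lit 1) (Steps.bwd (nat_lit 6) (Steps.fwd (nat_lit 262144) (Steps.bwd (nat_lit 2) Steps.nil))))))))))))) (nat_lit 34) (nat_lit 6),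
  Rule.mk (nat_lit 6) (nat_lit 274) (Steps.bwd (nat_lit 1) (Steps.bwd (nat_lit 3) (Steps.fwd (nat_lit 1310720) (Steps.bwd (nat_lit 6) (Steps.bwd (nat_lit 1) (Steps.bwd (nat_lit 6) (Steps.fwd (nat_lit 262144) (Steps.fwd (nat_lit 524288) (Steps.bwd (nat_lit 1) (Steps.fwd (nat_lit 1572864) (Steps.bwd (nat_lit 1) (Steps.bwd (nat_lit 3) (Steps.fwd (nat_lit 262144) Steps.nil))))))))))))) (nat_lit 35) (nat_lit 12),
  Rule.mk (nat_lit 6) (nat_lit 274) (Steps.bwd (nat_lit 1) (Steps.bwd (nat_lit 3) (Steps.fwd (nat_lit 262144) (Steps.bwd (nat_lit 6) (Steps.bwd (nat_lit 1) (Steps.bwd (nat_lit 3) (Steps.fwd (nat_lit 1310720) (Steps.fwd (nat_lit 1572864) (Steps.bwd (nat_lit 1) (Steps.fwd (nat_lit 1572864) (Steps.fwd (nat_lit 262144) (Steps.bwd (nat_lit 3) (Steps.bwd (nat_lit 1) Steps.nil))))))))))))) (nat_lit 35) (nat_lit 8),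
  Rule.mk (nat_lit 1) (nat_lit 274) (Steps.bwd (nat_lit 6) (Steps.bwd (nat_lit 1) (Steps.bwd (nat_lit 2) (Steps.fwd (nat_lit 262144) (Steps.fwd (nat_lit 1572864) (Steps.bwd (nat_lit 1) (Steps.bwd (nat_lit 6) (Steps.fwd (nat_lit 1310720) (Steps.fwd (nat_lit 786432) (Steps.bwd (nat_lit 1) (Steps.fwd (nat_lit 1572864) (Steps.bwd (nat_lit 1) (Steps.bwd (nat_lit 2) Steps.nil))))))))))))) (nat_lit 34) (nat_lit 6),
  Rule.mk (nat_lit 3) (nat_lit 154) (Steps.bwd (nat_lit 1) (Steps.fwd (nat_lit 786432) (Steps.fwd (nat_lit 262144) (Steps.bwd (nat_lit 3) (Steps.bwd (nat_lit 1) (Steps.fwd (nat_lit 786432) (Steps.bwd (nat_lit 1) Steps.nil))))))) (nat_lit 68) (nat_lit 0),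
  Rule.mk (nat_lit 6) (nat_lit 274) (Steps.bwd (nat_lit 1) (Steps.fwd (nat_lit 786432) (Steps.fwd (nat_lit 262144) (Steps.fwd (nat_lit 1572864) (Steps.bwd (nat_lit 1) (Steps.fwd (nat_lit 1572864) (Steps.bwd (nat_lit 5) (Steps.fwd (nat_lit 786432) (Steps.bwd (nat_lit 1) (Steps.fwd (nat_lit 1572864) (Steps.fwd (nat_lit 262144) (Steps.bwd (nat_lit 2) (Steps.fwd (nat_lit 262144) Steps.nil))))))))))))) (nat_lit 34) (nat_lit 7),
  Rule.mk (nat_lit 6) (nat_lit 274) (Steps.bwd (nat_lit 1) (Steps.fwd (nat_lit 1572864) (Steps.bwd (nat_lit 5) (Steps.fwd (nat_lit 786432) (Steps.bwd (nat_lit 1) (Steps.bwd (nat_lit 6) (Steps.fwd (nat_lit 262144) (Steps.bwd (nat_lit 2) (Steps.fwd (nat_lit 262144) (Steps.bwd (nat_lit 6) (Steps.bwd (nat_lit 1) (Steps.bwd (nat_lit 2) (Steps.fwd (nat_lit 262144) Steps.nil))))))))))))) (nat_lit 34) (nat_lit 11),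
  Rule.mk (nat_lit 1) (nat_lit 274) (Steps.bwd (nat_lit 6) (Steps.bwd (nat_lit 1) (Steps.bwd (nat_lit 2) (Steps.fwd (nat_lit 262144) (Steps.fwd (nat_lit 1572864) (Steps.fwd (nat_lit 262144) (Steps.bwd (nat_lit 6) (Steps.fwd (nat_lit 1310720) (Steps.fwd (nat_lit 786432) (Steps.bwd (nat_lit 1) (Steps.bwd (nat_lit 6) (Steps.fwd (nat_lit 262144) (Steps.bwd (nat_lit 2) Steps.nil))))))))))))) (nat_lit 34) (nat_lit 6),
  Rule.mk (nat_lit 6) (nat_lit 274) (Steps.bwd (nat_lit 1) (Steps.fwd (nat_lit 786432) (Steps.fwd (nat_lit 262144) (Steps.bwd (nat_lit 6) (Steps.fwd (nat_lit 262144) (Steps.bwd (nat_lit 2) (Steps.bwd (nat_lit 1) (Steps.fwd (nat_lit 1572864) (Steps.fwd (nat_lit 262144) (Steps.bwd (nat_lit 6) (Steps.fwd (nat_lit 1310720) (Steps.fwd (nat_lit 786432) (Steps.fwd (nat_lit 262144) Steps.nil))))))))))))) (nat_lit 34) (nat_lit 3),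
  Rule.mk (nat_lit 1) (nat_lit 274) (Steps.bwd (nat_lit 6) (Steps.bwd (nat_lit 5) (Steps.fwd (nat_lit 786432) (Steps.fwd (nat_lit 262144) (Steps.bwd (nat_lit 6) (Steps.bwd (nat_lit 1) (Steps.fwd (nat_lit 786432) (Steps.fwd (nat_lit 262144) (Steps.fwd (nat_lit 1572864) (Steps.bwd (nat_lit 1) (Steps.fwd (nat_lit 786432) (Steps.bwd (nat_lit 1) (Steps.bwd (nat_lit 6) Steps.nil))))))))))))) (nat_lit 34) (nat_lit 12),
  Rule.mk (nat_lit 6) (nat_lit 274) (Steps.bwd (nat_lit 1) (Steps.bwd (nat_lit 6) (Steps.fwd (nat_lit 1310720) (Steps.bwd (nat_lit 2) (Steps.fwd (nat_lit 262144) (Steps.fwd (nat_lit 1572864) (Steps.bwd (nat_lit 1) (Steps.fwd (nat_lit 786432) (Steps.bwd (nat_lit 1) (Steps.bwd (nat_lit 6) (Steps.fwd (nat_lit 262144) (Steps.bwd (nat_lit 2) (Steps.bwd (nat_lit 1) Steps.nil))))))))))))) (nat_lit 34) (nat_lit 11),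
  Rule.mk (nat_lit 1) (nat_lit 274) (Steps.bwd (nat_lit 6) (Steps.bwd (nat_lit 1) (Steps.fwd (nat_lit 524288) (Steps.fwd (nat_lit 262144) (Steps.fwd (nat_lit 1572864) (Steps.fwd (nat_lit 262144) (Steps.fwd (nat_lit 524288) (Steps.bwd (nat_lit 1) (Steps.fwd (nat_lit 1572864) (Steps.fwd (nat_lit 262144) (Steps.bwd (nat_lit 3) (Steps.bwd (nat_lit 5) (Steps.bwd (nat_lit 6) Steps.nil))))))))))))) (nat_lit 35) (nat_lit 3),
  Rule.mk (nat_lit 6) (nat_lit 274) (Steps.bwd (nat_lit 1) (Steps.fwd (nat_lit 524288) (Steps.fwd (nat_lit 262144) (Steps.bwd (nat_lit 6) (Steps.bwd (nat_lit 1) (Steps.bwd (nat_lit 3) (Steps.bwd (nat_lit 5) (Steps.fwd (nat_lit 1572864) (Steps.bwd (nat_lit 1) (Steps.fwd (nat_lit 1572864) (Steps.fwd (nat_lit 262144) (Steps.bwd (nat_lit 3) (Steps.bwd (nat_lit 1) Steps.nil))))))))))))) (nat_lit 35) (nat_lit 8),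
  Rule.mk (nat_lit 1) (nat_lit 154) (Steps.bwd (nat_lit 6) (Steps.bwd (nat_lit 1) (Steps.fwd (nat_lit 1048576) (Steps.bwd (nat_lit 1) (Steps.fwd (nat_lit 1572864) (Steps.fwd (nat_lit 262144) (Steps.fwd (nat_lit 1048576) Steps.nil))))))) (nat_lit 74) (nat_lit 3),
  Rule.mk (nat_lit 1) (nat_lit 274) (Steps.bwd (nat_lit 6) (Steps.fwd (nat_lit 1310720) (Steps.fwd (nat_lit 786432) (Steps.bwd (nat_lit 1) (Steps.fwd (nat_lit 1572864) (Steps.fwd (nat_lit 262144) (Steps.fwd (nat_lit 786432) (Steps.bwd (nat_lit 1) (Steps.bwd (nat_lit 6) (Steps.fwd (nat_lit 262144) (Steps.bwd (nat_lit 2) (Steps.bwd (nat_lit 1) (Steps.fwd (nat_lit 1572864) Steps.nil))))))))))))) (nat_lit 34) (nat_lit 12),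
  Rule.mk (nat_lit 1) (nat_lit 274) (Steps.bwd (nat_lit 6) (Steps.bwd (nat_lit 1) (Steps.bwd (nat_lit 2) (Steps.fwd (nat_lit 262144) (Steps.fwd (nat_lit 1572864) (Steps.bwd (nat_lit 1) (Steps.bwd (nat_lit 2) (Steps.bwd (nat_lit 1) (Steps.fwd (nat_lit 1572864) (Steps.fwd (nat_lit 262144) (Steps.fwd (nat_lit 1572864) (Steps.fwd (nat_lit 1310720) (Steps.fwd (nat_lit 786432) Steps.nil))))))))))))) (nat_lit 34) (nat_lit 2),
  Rule.mk (nat_lit 6) (nat_lit 154) (Steps.bwd (nat_lit 5) (Steps.fwd (nat_lit 524288) (Steps.fwd (nat_lit 1572864) (Steps.bwd (nat_lit 7) (Steps.fwd (nat_lit 524288) (Steps.fwd (nat_lit 1310720) (Steps.bwd (nat_lit 3) Steps.nil))))))) (nat_lit 85) (nat_lit 1),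
  Rule.mk (nat_lit 1) (nat_lit 274) (Steps.bwd (nat_lit 6) (Steps.fwd (nat_lit 1310720) (Steps.fwd (nat_lit 786432) (Steps.bwd (nat_lit 1) (Steps.fwd (nat_lit 1572864) (Steps.bwd (nat_lit 1) (Steps.bwd (nat_lit 2) (Steps.bwd (nat_lit 1) (Steps.bwd (nat_lit 6) (Steps.fwd (nat_lit 262144) (Steps.fwd (nat_lit 786432) (Steps.fwd (nat_lit 262144) (Steps.bwd (nat_lit 6) Steps.nil))))))))))))) (nat_lit 34) (nat_lit 12),
  Rule.mk (nat_lit 1) (nat_lit 274) (Steps.bwd (nat_lit 6) (Steps.bwd (nat_lit 1) (Steps.fwd (nat_lit 786432) (Steps.fwd (nat_lit 262144) (Steps.bwd (nat_lit 6) (Steps.fwd (nat_lit 262144) (Steps.bwd (nat_lit 6) (Steps.fwd (nat_lit 1310720) (Steps.fwd (nat_lit 786432) (Steps.bwd (nat_lit 1) (Steps.bwd (nat_lit 6) (Steps.fwd (nat_lit 262144) (Steps.bwd (nat_lit 2) Steps.nil))))))))))))) (nat_lit 34) (nat_lit 6),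
  Rule.mk (nat_lit 6) (nat_lit 274) (Steps.bwd (nat_lit 1) (Steps.bwd (nat_lit 2) (Steps.fwd (nat_lit 262144) (Steps.fwd (nat_lit 1572864) (Steps.bwd (nat_lit 1) (Steps.bwd (nat_lit 6) (Steps.bwd (nat_lit 5) (Steps.bwd (nat_lit 2) (Steps.bwd (nat_lit 1) (Steps.bwd (nat_lit 6) (Steps.fwd (nat_lit 262144) (Steps.bwd (nat_lit 2) (Steps.bwd (nat_lit 1) Steps.nil))))))))))))) (nat_lit 34) (nat_lit 7),
  Rule.mk (nat_lit 5) (nat_lit 114) (Steps.bwd (nat_lit 4) (Steps.bwd (nat_lit 2) (Steps.fwd (nat_lit 1572864) (Steps.fwd (nat_lit 1048576) (Steps.bwd (nat_lit 2) Steps.nil))))) (nat_lit 58) (nat_lit 2),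
  Rule.mk (nat_lit 1) (nat_lit 274) (Steps.bwd (nat_lit 6) (Steps.bwd (nat_lit 1) (Steps.bwd (nat_lit 3) (Steps.fwd (nat_lit 262144) (Steps.bwd (nat_lit 6) (Steps.bwd (nat_lit 1) (Steps.bwd (nat_lit 3) (Steps.fwd (nat_lit 1310720) (Steps.fwd (nat_lit 1572864) (Steps.bwd (nat_lit 1) (Steps.fwd (nat_lit 1572864) (Steps.fwd (nat_lit 262144) (Steps.bwd (nat_lit 3) Steps.nil))))))))))))) (nat_lit 35) (nat_lit 7),
  Rule.mk (nat_lit 3) (nat_lit 154) (Steps.bwd (nat_lit 1) (Steps.fwd (nat_lit 1835008) (Steps.fwd (nat_lit 524288) (Steps.fwd (nat_lit 262144) (Steps.bwd (nat_lit 3) (Steps.bwd (nat_lit 7) (Steps.fwd (nat_lit 262144) Steps.nil))))))) (nat_lit 73) (nat_lit 7),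
  Rule.mk (nat_lit 1) (nat_lit 274) (Steps.bwd (nat_lit 6) (Steps.bwd (nat_lit 5) (Steps.bwd (nat_lit 2) (Steps.fwd (nat_lit 262144) (Steps.bwd (nat_lit 6) (Steps.bwd (nat_lit 1) (Steps.bwd (nat_lit 2) (Steps.fwd (nat_lit 262144) (Steps.bwd (nat_lit 6) (Steps.bwd (nat_lit 1) (Steps.bwd (nat_lit 2) (Steps.bwd (nat_lit 1) (Steps.bwd (nat_lit 6) Steps.nil))))))))))))) (nat_lit 34) (nat_lit 12),
  Rule.mk (nat_lit 1) (nat_lit 274) (Steps.bwd (nat_lit 6) (Steps.bwd (nat_lit 1) (Steps.bwd (nat_lit 2) (Steps.fwd (nat_lit 262144) (Steps.fwd (nat_lit 1572864) (Steps.bwd (nat_lit 1) (Steps.bwd (nat_lit 2) (Steps.bwd (nat_lit 1) (Steps.bwd (nat_lit 6) (Steps.fwd (nat_lit 262144) (Steps.fwd (nat_lit 1572864) (Steps.fwd (nat_lit 1310720) (Steps.bwd (nat_lit 2) Steps.nil))))))))))))) (nat_lit 34) (nat_lit 2),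
  Rule.mk (nat_lit 1) (nat_lit 274) (Steps.fwd (nat_lit 1572864) (Steps.fwd (nat_lit 262144) (Steps.fwd (nat_lit 524288) (Steps.fwd (nat_lit 1310720) (Steps.fwd (nat_lit 1572864) (Steps.fwd (nat_lit 262144) (Steps.bwd (nat_lit 6) (Steps.bwd (nat_lit 1) (Steps.fwd (nat_lit 524288) (Steps.fwd (nat_lit 262144) (Steps.fwd (nat_lit 1572864) (Steps.fwd (nat_lit 262144) (Steps.fwd (nat_lit 524288) Steps.nil))))))))))))) (nat_lit 35) (nat_lit 11),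
  Rule.mk (nat_lit 1) (nat_lit 274) (Steps.bwd (nat_lit 6) (Steps.bwd (nat_lit 1) (Steps.bwd (nat_lit 6) (Steps.fwd (nat_lit 1310720) (Steps.fwd (nat_lit 786432) (Steps.fwd (nat_lit 262144) (Steps.fwd (nat_lit 1572864) (Steps.fwd (nat_lit 262144) (Steps.bwd (nat_lit 2) (Steps.bwd (nat_lit 1) (Steps.bwd (nat_lit 6) (Steps.fwd (nat_lit 262144) (Steps.bwd (nat_lit 2) Steps.nil))))))))))))) (nat_lit 34) (nat_lit 10),
  Rule.mk (nat_lit 1) (nat_lit 274) (Steps.bwd (nat_lit 6) (Steps.bwd (nat_lit 1) (Steps.bwd (nat_lit 3) (Steps.fwd (nat_lit 262144) (Steps.bwd (nat_lit 6) (Steps.bwd (nat_lit 1) (Steps.bwd (nat_lit 3) (Steps.fwd (nat_lit 1310720) (Steps.fwd (nat_lit 1572864) (Steps.bwd (nat_lit 1) (Steps.bwd (nat_lit 6) (Steps.fwd (nat_lit 262144) (Steps.bwd (nat_lit 3) Steps.nil))))))))))))) (nat_lit 35) (nat_lit 7),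
  Rule.mk (nat_lit 1) (nat_lit 274) (Steps.bwd (nat_lit 6) (Steps.bwd (nat_lit 1) (Steps.bwd (nat_lit 2) (Steps.fwd (nat_lit 262144) (Steps.fwd (nat_lit 1572864) (Steps.bwd (nat_lit 1) (Steps.bwd (nat_lit 6) (Steps.bwd (nat_lit 5) (Steps.bwd (nat_lit 2) (Steps.bwd (nat_lit 1) (Steps.fwd (nat_lit 1572864) (Steps.bwd (nat_lit 1) (Steps.fwd (nat_lit 786432) Steps.nil))))))))))))) (nat_lit 34) (nat_lit 6),
  Rule.mk (nat_lit 6) (nat_lit 154) (Steps.bwd (nat_lit 5) (Steps.bwd (nat_lit 3) (Steps.fwd (nat_lit 1572864) (Steps.fwd (nat_lit 1835008) (Steps.fwd (nat_lit 524288) (Steps.bwd (nat_lit 5) (Steps.bwd (nat_lit 3) Steps.nil))))))) (nat_lit 85) (nat_lit 1),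
  Rule.mk (nat_lit 1) (nat_lit 274) (Steps.fwd (nat_lit 1572864) (Steps.fwd (nat_lit 262144) (Steps.bwd (nat_lit 3) (Steps.bwd (nat_lit 1) (Steps.bwd (nat_lit 6) (Steps.bwd (nat_lit 1) (Steps.bwd (nat_lit 3) (Steps.fwd (nat_lit 262144) (Steps.fwd (nat_lit 1572864) (Steps.fwd (nat_lit 262144) (Steps.fwd (nat_lit 524288) (Steps.fwd (nat_lit 1310720) (Steps.fwd (nat_lit 1572864) Steps.nil))))))))))))) (nat_lit 35) (nat_lit 3),
  Rule.mk (nat_lit 1) (nat_lit 114) (Steps.fwd (nat_lit 1835008) (Steps.fwd (nat_lit 1310720) (Steps.bwd (nat_lit 1) (Steps.bwd (nat_lit 7) (Steps.fwd (nat_lit 1310720) Steps.nil))))) (nat_lit 53) (nat_lit 0)]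
noncomputable def R_49 : List (Rule) := [Rule.mk (nat_lit 6) (nat_lit 274) (Steps.bwd (nat_lit 1) (Steps.fwd (nat_lit 786432) (Steps.fwd (nat_lit 262144) (Steps.bwd (nat_lit 6) (Steps.bwd (nat_lit 1) (Steps.bwd (nat_lit 6) (Steps.fwd (nat_lit 1310720) (Steps.fwd (nat_lit 786432) (Steps.bwd (nat_lit 1) (Steps.fwd (nat_lit 1572864) (Steps.fwd (nat_lit 262144) (Steps.fwd (nat_lit 786432) (Steps.bwd (nat_lit 1) Steps.nil))))))))))))) (nat_lit 34) (nat_lit 7),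
  Rule.mk (nat_lit 6) (nat_lit 274) (Steps.bwd (nat_lit 1) (Steps.fwd (nat_lit 524288) (Steps.fwd (nat_lit 262144) (Steps.bwd (nat_lit 6) (Steps.bwd (nat_lit 1) (Steps.fwd (nat_lit 524288) (Steps.fwd (nat_lit 1310720) (Steps.fwd (nat_lit 1572864) (Steps.fwd (nat_lit 262144) (Steps.fwd (nat_lit 1572864) (Steps.fwd (nat_lit 262144) (Steps.fwd (nat_lit 524288) (Steps.bwd (nat_lit 1) Steps.nil))))))))))))) (nat_lit 35) (nat_lit 8),
  Rule.mk (nat_lit 5) (nat_lit 114) (Steps.bwd (nat_lit 4) (Steps.bwd (nat_lit 2) (Steps.fwd (nat_lit 1572864) (Steps.fwd (nat_lit 1048576) (Steps.fwd (nat_lit 786432) Steps.nil))))) (nat_lit 58) (nat_lit 2),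
  Rule.mk (nat_lit 6) (nat_lit 274) (Steps.bwd (nat_lit 1) (Steps.fwd (nat_lit 524288) (Steps.bwd (nat_lit 5) (Steps.fwd (nat_lit 1572864) (Steps.fwd (nat_lit 262144) (Steps.bwd (nat_lit 6) (Steps.bwd (nat_lit 1) (Steps.fwd (nat_lit 524288) (Steps.bwd (nat_lit 1) (Steps.fwd (nat_lit 1572864) (Steps.fwd (nat_lit 262144) (Steps.bwd (nat_lit 3) (Steps.bwd (nat_lit 1) Steps.nil))))))))))))) (nat_lit 35) (nat_lit 12),
  Rule.mk (nat_lit 6) (nat_lit 154) (Steps.bwd (nat_lit 5) (Steps.bwd (nat_lit 3) (Steps.fwd (nat_lit 1572864) (Steps.bwd (nat_lit 7) (Steps.fwd (nat_lit 524288) (Steps.bwd (nat_lit 5) (Steps.bwd (nat_lit 3) Steps.nil))))))) (nat_lit 85) (nat_lit 1),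
  Rule.mk (nat_lit 6) (nat_lit 274) (Steps.bwd (nat_lit 1) (Steps.fwd (nat_lit 524288) (Steps.fwd (nat_lit 262144) (Steps.bwd (nat_lit 6) (Steps.bwd (nat_lit 1) (Steps.fwd (nat_lit 524288) (Steps.bwd (nat_lit 5) (Steps.fwd (nat_lit 1572864) (Steps.fwd (nat_lit 262144) (Steps.bwd (nat_lit 6) (Steps.fwd (nat_lit 262144) (Steps.fwd (nat_lit 524288) (Steps.bwd (nat_lit 1) Steps.nil))))))))))))) (nat_lit 35) (nat_lit 8),
  Rule.mk (nat_lit 1) (nat_lit 154) (Steps.fwd (nat_lit 524288) (Steps.bwd (nat_lit 1) (Steps.fwd (nat_lit 1835008) (Steps.bwd (nat_lit 3) (Steps.fwd (nat_lit 262144) (Steps.bwd (nat_lit 3) (Steps.bwd (nat_lit 7) Steps.nil))))))) (nat_lit 73) (nat_lit 6),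
  Rule.mk (nat_lit 1) (nat_lit 274) (Steps.bwd (nat_lit 6) (Steps.bwd (nat_lit 1) (Steps.fwd (nat_lit 524288) (Steps.fwd (nat_lit 262144) (Steps.bwd (nat_lit 6) (Steps.bwd (nat_lit 1) (Steps.bwd (nat_lit 3) (Steps.fwd (nat_lit 1310720) (Steps.bwd (nat_lit 6) (Steps.fwd (nat_lit 262144) (Steps.fwd (nat_lit 1572864) (Steps.fwd (nat_lit 262144) (Steps.bwd (nat_lit 3) Steps.nil))))))))))))) (nat_lit 35) (nat_lit 7),
  Rule.mk (nat_lit 6) (nat_lit 274) (Steps.bwd (nat_lit 1) (Steps.fwd (nat_lit 786432) (Steps.fwd (nat_lit 262144) (Steps.bwd (nat_lit 6) (Steps.fwd (nat_lit 262144) (Steps.fwd (nat_lit 1572864) (Steps.fwd (nat_lit 1310720) (Steps.bwd (nat_lit 2) (Steps.bwd (nat_lit 1) (Steps.fwd (nat_lit 1572864) (Steps.fwd (nat_lit 262144) (Steps.bwd (nat_lit 2) (Steps.bwd (nat_lit 1) Steps.nil))))))))))))) (nat_lit 34) (nat_lit 7),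
  Rule.mk (nat_lit 1) (nat_lit 274) (Steps.bwd (nat_lit 6) (Steps.bwd (nat_lit 5) (Steps.bwd (nat_lit 2) (Steps.bwd (nat_lit 1) (Steps.bwd (nat_lit 6) (Steps.bwd (nat_lit 1) (Steps.fwd (nat_lit 786432) (Steps.fwd (nat_lit 262144) (Steps.fwd (nat_lit 1572864) (Steps.bwd (nat_lit 1) (Steps.fwd (nat_lit 786432) (Steps.fwd (nat_lit 262144) (Steps.bwd (nat_lit 6) Steps.nil))))))))))))) (nat_lit 34) (nat_lit 12),
  Rule.mk (nat_lit 6) (nat_lit 274) (Steps.bwd (nat_lit 1) (Steps.fwd (nat_lit 786432) (Steps.fwd (nat_lit 262144) (Steps.fwd (nat_lit 1572864) (Steps.bwd (nat_lit 1) (Steps.fwd (nat_lit 1572864) (Steps.fwd (nat_lit 1310720) (Steps.bwd (nat_lit 2) (Steps.bwd (nat_lit 1) (Steps.bwd (nat_lit 6) (Steps.fwd (nat_lit 262144) (Steps.bwd (nat_lit 2) (Steps.bwd (nat_lit 1) Steps.nil))))))))))))) (nat_lit 34) (nat_lit 7),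
  Rule.mk (nat_lit 1) (nat_lit 154) (Steps.bwd (nat_lit 6) (Steps.bwd (nat_lit 1) (Steps.fwd (nat_lit 1048576) (Steps.bwd (nat_lit 1) (Steps.fwd (nat_lit 1572864) (Steps.bwd (nat_lit 1) (Steps.fwd (nat_lit 1048576) Steps.nil))))))) (nat_lit 74) (nat_lit 3),
  Rule.mk (nat_lit 1) (nat_lit 274) (Steps.bwd (nat_lit 6) (Steps.bwd (nat_lit 1) (Steps.bwd (nat_lit 3) (Steps.fwd (nat_lit 262144) (Steps.fwd (nat_lit 1572864) (Steps.fwd (nat_lit 262144) (Steps.fwd (nat_lit 524288) (Steps.bwd (nat_lit 5) (Steps.fwd (nat_lit 1572864) (Steps.fwd (nat_lit 262144) (Steps.fwd (nat_lit 1572864) (Steps.fwd (nat_lit 262144) (Steps.bwd (nat_lit 3) Steps.nil))))))))))))) (nat_lit 35) (nat_lit 7),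
  Rule.mk (nat_lit 6) (nat_lit 274) (Steps.bwd (nat_lit 1) (Steps.fwd (nat_lit 786432) (Steps.fwd (nat_lit 262144) (Steps.bwd (nat_lit 6) (Steps.bwd (nat_lit 1) (Steps.bwd (nat_lit 6) (Steps.bwd (nat_lit 5) (Steps.fwd (nat_lit 786432) (Steps.bwd (nat_lit 1) (Steps.bwd (nat_lit 6) (Steps.bwd (nat_lit 1) (Steps.fwd (nat_lit 786432) (Steps.fwd (nat_lit 262144) Steps.nil))))))))))))) (nat_lit 34) (nat_lit 7),
  Rule.mk (nat_lit 1) (nat_lit 274) (Steps.bwd (nat_lit 6) (Steps.bwd (nat_lit 1) (Steps.fwd (nat_lit 524288) (Steps.fwd (nat_lit 262144) (Steps.fwd (nat_lit 1572864) (Steps.bwd (nat_lit 1) (Steps.fwd (nat_lit 524288) (Steps.bwd (nat_lit 1) (Steps.bwd (nat_lit 6) (Steps.fwd (nat_lit 262144) (Steps.fwd (nat_lit 524288) (Steps.bwd (nat_lit 5) (Steps.bwd (nat_lit 6) Steps.nil))))))))))))) (nat_lit 35) (nat_lit 3),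
  Rule.mk (nat_lit 6) (nat_lit 274) (Steps.bwd (nat_lit 1) (Steps.fwd (nat_lit 524288) (Steps.bwd (nat_lit 5) (Steps.fwd (nat_lit 1572864) (Steps.fwd (nat_lit 262144) (Steps.fwd (nat_lit 1572864) (Steps.bwd (nat_lit 1) (Steps.fwd (nat_lit 524288) (Steps.bwd (nat_lit 1) (Steps.bwd (nat_lit 6) (Steps.fwd (nat_lit 262144) (Steps.bwd (nat_lit 3) (Steps.bwd (nat_lit 1) Steps.nil))))))))))))) (nat_lit 35) (nat_lit 12),
  Rule.mk (nat_lit 1) (nat_lit 274) (Steps.bwd (nat_lit 6) (Steps.fwd (nat_lit 1310720) (Steps.bwd (nat_lit 2) (Steps.bwd (nat_lit 1) (Steps.bwd (nat_lit 6) (Steps.fwd (nat_lit 262144) (Steps.fwd (nat_lit 786432) (Steps.fwd (nat_lit 262144) (Steps.fwd (nat_lit 1572864) (Steps.fwd (nat_lit 262144) (Steps.fwd (nat_lit 786432) (Steps.fwd (nat_lit 262144) (Steps.fwd (nat_lit 1572864) Steps.nil))))))))))))) (nat_lit 34) (nat_lit 12),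
  Rule.mk (nat_lit 1) (nat_lit 274) (Steps.bwd (nat_lit 6) (Steps.fwd (nat_lit 1310720) (Steps.bwd (nat_lit 2) (Steps.bwd (nat_lit 1) (Steps.bwd (nat_lit 6) (Steps.bwd (nat_lit 1) (Steps.fwd (nat_lit 786432) (Steps.fwd (nat_lit 262144) (Steps.fwd (nat_lit 1572864) (Steps.bwd (nat_lit 1) (Steps.fwd (nat_lit 786432) (Steps.fwd (nat_lit 262144) (Steps.fwd (nat_lit 1572864) Steps.nil))))))))))))) (nat_lit 34) (nat_lit 12),
  Rule.mk (nat_lit 6) (nat_lit 274) (Steps.bwd (nat_lit 1) (Steps.fwd (nat_lit 786432) (Steps.fwd (nat_lit 262144) (Steps.fwd (nat_lit 1572864) (Steps.bwd (nat_lit 1) (Steps.fwd (nat_lit 1572864) (Steps.fwd (nat_lit 1310720) (Steps.bwd (nat_lit 2) (Steps.bwd (nat_lit 1) (Steps.bwd (nat_lit 6) (Steps.fwd (nat_lit 262144) (Steps.bwd (nat_lit 2) (Steps.fwd (nat_lit 262144) Steps.nil))))))))))))) (nat_lit 34) (nat_lit 7),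
  Rule.mk (nat_lit 1) (nat_lit 274) (Steps.bwd (nat_lit 6) (Steps.bwd (nat_lit 1) (Steps.bwd (nat_lit 3) (Steps.fwd (nat_lit 262144) (Steps.fwd (nat_lit 1572864) (Steps.fwd (nat_lit 262144) (Steps.fwd (nat_lit 524288) (Steps.bwd (nat_lit 5) (Steps.fwd (nat_lit 1572864) (Steps.bwd (nat_lit 1) (Steps.bwd (nat_lit 6) (Steps.fwd (nat_lit 262144) (Steps.bwd (nat_lit 3) Steps.nil))))))))))))) (nat_lit 35) (nat_lit 7),
  Rule.mk (nat_lit 4) (nat_lit 314) (Steps.bwd (nat_lit 9) (Steps.bwd (nat_lit 4) (Steps.fwd (nat_lit 2359296) (Steps.fwd (nat_lit 1048576) (Steps.fwd (nat_lit 2097152) (Steps.bwd (nat_lit 4) (Steps.bwd (nat_lit 8) (Steps.bwd (nat_lit 4) (Steps.fwd (nat_lit 2097152) (Steps.fwd (nat_lit 1048576) (Steps.fwd (nat_lit 2359296) (Steps.bwd (nat_lit 4) (Steps.bwd (nat_lit 9) (Steps.bwd (nat_lit 4) (Steps.bwd (nat_lit 8) Steps.nil))))))))))))))) (nat_lit 106)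 (nat_lit 2),
  Rule.mk (nat_lit 5) (nat_lit 114) (Steps.bwd (nat_lit 4) (Steps.bwd (nat_lit 2) (Steps.bwd (nat_lit 6) (Steps.fwd (nat_lit 1048576) (Steps.bwd (nat_lit 2) Steps.nil))))) (nat_lit 58) (nat_lit 2),
  Rule.mk (nat_lit 1) (nat_lit 274) (Steps.bwd (nat_lit 6) (Steps.bwd (nat_lit 5) (Steps.fwd (nat_lit 786432) (Steps.bwd (nat_lit 1) (Steps.bwd (nat_lit 6) (Steps.bwd (nat_lit 1) (Steps.fwd (nat_lit 786432) (Steps.fwd (nat_lit 262144) (Steps.fwd (nat_lit 1572864) (Steps.bwd (nat_lit 1) (Steps.bwd (nat_lit 2) (Steps.fwd (nat_lit 262144) (Steps.fwd (nat_lit 1572864) Steps.nil))))))))))))) (nat_lit 34) (nat_lit 12),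
  Rule.mk (nat_lit 1) (nat_lit 274) (Steps.bwd (nat_lit 6) (Steps.bwd (nat_lit 5) (Steps.fwd (nat_lit 786432) (Steps.fwd (nat_lit 262144) (Steps.bwd (nat_lit 6) (Steps.bwd (nat_lit 1) (Steps.fwd (nat_lit 786432) (Steps.fwd (nat_lit 262144) (Steps.fwd (nat_lit 1572864) (Steps.bwd (nat_lit 1) (Steps.bwd (nat_lit 2) (Steps.bwd (nat_lit 1) (Steps.bwd (nat_lit 6) Steps.nil))))))))))))) (nat_lit 34) (nat_lit 12),
  Rule.mk (nat_lit 6) (nat_lit 274) (Steps.bwd (nat_lit 1) (Steps.fwd (nat_lit 786432) (Steps.fwd (nat_lit 262144) (Steps.bwd (nat_lit 6) (Steps.bwd (nat_lit 1) (Steps.bwd (nat_lit 6) (Steps.bwd (nat_lit 5) (Steps.bwd (nat_lit 2) (Steps.bwd (nat_lit 1) (Steps.bwd (nat_lit 6) (Steps.bwd (nat_lit 1) (Steps.fwd (nat_lit 786432) (Steps.fwd (nat_lit 262144) Steps.nil))))))))))))) (nat_lit 34) (nat_lit 7),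
  Rule.mk (nat_lit 3) (nat_lit 154) (Steps.bwd (nat_lit 1) (Steps.fwd (nat_lit 786432) (Steps.fwd (nat_lit 262144) (Steps.bwd (nat_lit 3) (Steps.bwd (nat_lit 1) (Steps.fwd (nat_lit 786432) (Steps.fwd (nat_lit 262144) Steps.nil))))))) (nat_lit 68) (nat_lit 0),
  Rule.mk (nat_lit 4) (nat_lit 114) (Steps.bwd (nat_lit 2) (Steps.fwd (nat_lit 1572864) (Steps.bwd (nat_lit 4) (Steps.fwd (nat_lit 786432) (Steps.bwd (nat_lit 5) Steps.nil))))) (nat_lit 58) (nat_lit 3),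
  Rule.mk (nat_lit 4) (nat_lit 114) (Steps.fwd (nat_lit 1310720) (Steps.bwd (nat_lit 3) (Steps.bwd (nat_lit 4) (Steps.fwd (nat_lit 1572864) (Steps.fwd (nat_lit 524288) Steps.nil))))) (nat_lit 59) (nat_lit 4),
  Rule.mk (nat_lit 1) (nat_lit 114) (Steps.fwd (nat_lit 1310720) (Steps.fwd (nat_lit 1835008) (Steps.bwd (nat_lit 1) (Steps.fwd (nat_lit 1310720) (Steps.fwd (nat_lit 1835008) Steps.nil))))) (nat_lit 52) (nat_lit 1),
  Rule.mk (nat_lit 0) (nat_lit 134) (Steps.fwd (nat_lit 1310720) (Steps.fwd (nat_lit 1835008) (Steps.fwd (nat_lit 262144) (Steps.bwd (nat_lit 5) (Steps.fwd (nat_lit 1835008) (Steps.fwd (nat_lit 262144) Steps.nil)))))) (nat_lit 52) (nat_lit 1),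
  Rule.mk (nat_lit 1) (nat_lit 274) (Steps.bwd (nat_lit 2) (Steps.bwd (nat_lit 1) (Steps.fwd (nat_lit 1572864) (Steps.fwd (nat_lit 262144) (Steps.bwd (nat_lit 2) (Steps.bwd (nat_lit 1) (Steps.fwd (nat_lit 1572864) (Steps.bwd (nat_lit 1) (Steps.fwd (nat_lit 1572864) (Steps.fwd (nat_lit 1310720) (Steps.fwd (nat_lit 786432) (Steps.fwd (nat_lit 262144) (Steps.fwd (nat_lit 1572864) Steps.nil))))))))))))) (nat_lit 34) (nat_lit 4),
  Rule.mk (nat_lit 1) (nat_lit 274) (Steps.bwd (nat_lit 6) (Steps.fwd (nat_lit 262144) (Steps.fwd (nat_lit 524288) (Steps.bwd (nat_lit 1) (Steps.bwd (nat_lit 6) (Steps.fwd (nat_lit 262144) (Steps.fwd (nat_lit 524288) (Steps.fwd (nat_lit 262144) (Steps.fwd (nat_lit 1572864) (Steps.bwd (nat_lit 1) (Steps.bwd (nat_lit 3) (Steps.fwd (nat_lit 1310720) (Steps.bwd (nat_lit 6) Steps.nil))))))))))))) (nat_lit 35) (nat_lit 3),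
  Rule.mk (nat_lit 8) (nat_lit 314) (Steps.bwd (nat_lit 4) (Steps.bwd (nat_lit 9) (Steps.bwd (nat_lit 4) (Steps.fwd (nat_lit 2359296) (Steps.fwd (nat_lit 1048576) (Steps.fwd (nat_lit 2097152) (Steps.fwd (nat_lit 1048576) (Steps.fwd (nat_lit 2359296) (Steps.bwd (nat_lit 4) (Steps.bwd (nat_lit 9) (Steps.bwd (nat_lit 4) (Steps.fwd (nat_lit 2359296) (Steps.fwd (nat_lit 1048576) (Steps.fwd (nat_lit 2097152) (Steps.fwd (nat_lit 1048576) Steps.nil))))))))))))))) (nat_lit 106) (nat_lit 1),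
  Rule.mk (nat_lit 6) (nat_lit 274) (Steps.bwd (nat_lit 1) (Steps.fwd (nat_lit 524288) (Steps.bwd (nat_lit 5) (Steps.fwd (nat_lit 1572864) (Steps.fwd (nat_lit 262144) (Steps.fwd (nat_lit 1572864) (Steps.bwd (nat_lit 1) (Steps.bwd (nat_lit 3) (Steps.fwd (nat_lit 262144) (Steps.fwd (nat_lit 1572864) (Steps.fwd (nat_lit 262144) (Steps.bwd (nat_lit 3) (Steps.fwd (nat_lit 262144) Steps.nil))))))))))))) (nat_lit 35) (nat_lit 12),
  Rule.mk (nat_lit 1) (nat_lit 274) (Steps.bwd (nat_lit 6) (Steps.fwd (nat_lit 262144) (Steps.fwd (nat_lit 786432) (Steps.bwd (nat_lit 1) (Steps.bwd (nat_lit 6) (Steps.fwd (nat_lit 262144) (Steps.bwd (nat_lit 2) (Steps.fwd (nat_lit 262144) (Steps.fwd (nat_lit 1572864) (Steps.bwd (nat_lit 1) (Steps.bwd (nat_lit 6) (Steps.fwd (nat_lit 1310720) (Steps.bwd (nat_lit 2) Steps.nil))))))))))))) (nat_lit 34) (nat_lit 2),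
  Rule.mk (nat_lit 9) (nat_lit 314) (Steps.bwd (nat_lit 4) (Steps.bwd (nat_lit 8) (Steps.bwd (nat_lit 4) (Steps.fwd (nat_lit 2097152) (Steps.fwd (nat_lit 1048576) (Steps.bwd (nat_lit 8) (Steps.bwd (nat_lit 4) (Steps.bwd (nat_lit 9) (Steps.bwd (nat_lit 4) (Steps.fwd (nat_lit 2359296) (Steps.fwd (nat_lit 1048576) (Steps.fwd (nat_lit 2097152) (Steps.fwd (nat_lit 1048576) (Steps.fwd (nat_lit 2359296) (Steps.fwd (nat_lit 1048576) Steps.nil))))))))))))))) (nat_lit 106) (nat_lit 3),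
  Rule.mk (nat_lit 6) (nat_lit 274) (Steps.bwd (nat_lit 1) (Steps.fwd (nat_lit 524288) (Steps.fwd (nat_lit 262144) (Steps.fwd (nat_lit 1572864) (Steps.bwd (nat_lit 1) (Steps.fwd (nat_lit 524288) (Steps.bwd (nat_lit 1) (Steps.fwd (nat_lit 1572864) (Steps.fwd (nat_lit 262144) (Steps.bwd (nat_lit 3) (Steps.fwd (nat_lit 1310720) (Steps.fwd (nat_lit 1572864) (Steps.fwd (nat_lit 262144) Steps.nil))))))))))))) (nat_lit 35) (nat_lit 4),
  Rule.mk (nat_lit 6) (nat_lit 274) (Steps.bwd (nat_lit 1) (Steps.bwd (nat_lit 3) (Steps.bwd (nat_lit 5) (Steps.bwd (nat_lit 6) (Steps.bwd (nat_lit 1) (Steps.fwd (nat_lit 1572864) (Steps.fwd (nat_lit 262144) (Steps.bwd (nat_lit 3) (Steps.fwd (nat_lit 262144) (Steps.fwd (nat_lit 1572864) (Steps.bwd (nat_lit 1) (Steps.bwd (nat_lit 3) (Steps.fwd (nat_lit 262144) Steps.nil))))))))))))) (nat_lit 35) (nat_lit 12),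
  Rule.mk (nat_lit 1) (nat_lit 274) (Steps.fwd (nat_lit 786432) (Steps.bwd (nat_lit 1) (Steps.fwd (nat_lit 1572864) (Steps.fwd (nat_lit 262144) (Steps.bwd (nat_lit 2) (Steps.bwd (nat_lit 1) (Steps.fwd (nat_lit 1572864) (Steps.bwd (nat_lit 1) (Steps.fwd (nat_lit 1572864) (Steps.fwd (nat_lit 1310720) (Steps.fwd (nat_lit 786432) (Steps.fwd (nat_lit 262144) (Steps.fwd (nat_lit 1572864) Steps.nil))))))))))))) (nat_lit 34) (nat_lit 4),
  Rule.mk (nat_lit 6) (nat_lit 274) (Steps.bwd (nat_lit 1) (Steps.bwd (nat_lit 3) (Steps.fwd (nat_lit 262144) (Steps.fwd (nat_lit 1572864) (Steps.fwd (nat_lit 262144) (Steps.bwd (nat_lit 3) (Steps.bwd (nat_lit 5) (Steps.bwd (nat_lit 6) (Steps.bwd (nat_lit 1) (Steps.fwd (nat_lit 1572864) (Steps.fwd (nat_lit 262144) (Steps.bwd (nat_lit 3) (Steps.bwd (nat_lit 1) Steps.nil))))))))))))) (nat_lit 35) (nat_lit 8),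
  Rule.mk (nat_lit 1) (nat_lit 274) (Steps.bwd (nat_lit 6) (Steps.bwd (nat_lit 1) (Steps.bwd (nat_lit 2) (Steps.fwd (nat_lit 262144) (Steps.fwd (nat_lit 1572864) (Steps.fwd (nat_lit 262144) (Steps.bwd (nat_lit 6) (Steps.fwd (nat_lit 1310720) (Steps.fwd (nat_lit 786432) (Steps.bwd (nat_lit 1) (Steps.fwd (nat_lit 1572864) (Steps.fwd (nat_lit 262144) (Steps.bwd (nat_lit 2) Steps.nil))))))))))))) (nat_lit 34) (nat_lit 6),
  Rule.mk (nat_lit 1) (nat_lit 274) (Steps.bwd (nat_lit 6) (Steps.bwd (nat_lit 1) (Steps.bwd (nat_lit 2) (Steps.bwd (nat_lit 1) (Steps.bwd (nat_lit 6) (Steps.fwd (nat_lit 262144) (Steps.bwd (nat_lit 2) (Steps.bwd (nat_lit 1) (Steps.fwd (nat_lit 1572864) (Steps.bwd (nat_lit 1) (Steps.fwd (nat_lit 1572864) (Steps.bwd (nat_lit 5) (Steps.bwd (nat_lit 2) Steps.nil))))))))))))) (nat_lit 34) (nat_lit 2),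
  Rule.mk (nat_lit 0) (nat_lit 114) (Steps.bwd (nat_lit 5) (Steps.fwd (nat_lit 1835008) (Steps.fwd (nat_lit 1572864) (Steps.bwd (nat_lit 5) (Steps.bwd (nat_lit 6) Steps.nil))))) (nat_lit 24) (nat_lit 3),
  Rule.mk (nat_lit 1) (nat_lit 274) (Steps.bwd (nat_lit 6) (Steps.fwd (nat_lit 262144) (Steps.fwd (nat_lit 786432) (Steps.bwd (nat_lit 1) (Steps.bwd (nat_lit 6) (Steps.fwd (nat_lit 262144) (Steps.bwd (nat_lit 2) (Steps.fwd (nat_lit 262144) (Steps.fwd (nat_lit 1572864) (Steps.bwd (nat_lit 1) (Steps.bwd (nat_lit 6) (Steps.bwd (nat_lit 5) (Steps.bwd (nat_lit 2) Steps.nil))))))))))))) (nat_lit 34) (nat_lit 2),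
  Rule.mk (nat_lit 1) (nat_lit 274) (Steps.bwd (nat_lit 6) (Steps.bwd (nat_lit 1) (Steps.fwd (nat_lit 524288) (Steps.bwd (nat_lit 1) (Steps.bwd (nat_lit 6) (Steps.fwd (nat_lit 262144) (Steps.bwd (nat_lit 3) (Steps.bwd (nat_lit 1) (Steps.fwd (nat_lit 1572864) (Steps.bwd (nat_lit 1) (Steps.bwd (nat_lit 3) (Steps.fwd (nat_lit 1310720) (Steps.bwd (nat_lit 6) Steps.nil))))))))))))) (nat_lit 35) (nat_lit 3),
  Rule.mk (nat_lit 6) (nat_lit 274) (Steps.bwd (nat_lit 1) (Steps.bwd (nat_lit 6) (Steps.fwd (nat_lit 1310720) (Steps.fwd (nat_lit 786432) (Steps.fwd (nat_lit 262144) (Steps.fwd (nat_lit 1572864) (Steps.fwd (nat_lit 262144) (Steps.bwd (nat_lit 2) (Steps.bwd (nat_lit 1) (Steps.fwd (nat_lit 1572864) (Steps.fwd (nat_lit 262144) (Steps.bwd (nat_lit 2) (Steps.fwd (nat_lit 262144) Steps.nil))))))))))))) (nat_lit 34) (nat_lit 11),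
  Rule.mk (nat_lit 1) (nat_lit 274) (Steps.bwd (nat_lit 6) (Steps.bwd (nat_lit 1) (Steps.bwd (nat_lit 2) (Steps.bwd (nat_lit 1) (Steps.bwd (nat_lit 6) (Steps.fwd (nat_lit 262144) (Steps.bwd (nat_lit 2) (Steps.fwd (nat_lit 262144) (Steps.fwd (nat_lit 1572864) (Steps.bwd (nat_lit 1) (Steps.bwd (nat_lit 6) (Steps.fwd (nat_lit 1310720) (Steps.bwd (nat_lit 2) Steps.nil))))))))))))) (nat_lit 34) (nat_lit 2),
  Rule.mk (nat_lit 1) (nat_lit 274) (Steps.bwd (nat_lit 6) (Steps.bwd (nat_lit 1) (Steps.fwd (nat_lit 524288) (Steps.bwd (nat_lit 1) (Steps.bwd (nat_lit 6) (Steps.fwd (nat_lit 262144) (Steps.bwd (nat_lit 3) (Steps.bwd (nat_lit 1) (Steps.fwd (nat_lit 1572864) (Steps.bwd (nat_lit 1) (Steps.bwd (nat_lit 3) (Steps.bwd (nat_lit 5) (Steps.fwd (nat_lit 1572864) Steps.nil))))))))))))) (nat_lit 35) (nat_lit 3),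
  Rule.mk (nat_lit 1) (nat_lit 274) (Steps.bwd (nat_lit 6) (Steps.fwd (nat_lit 262144) (Steps.fwd (nat_lit 524288) (Steps.bwd (nat_lit 1) (Steps.fwd (nat_lit 1572864) (Steps.fwd (nat_lit 262144) (Steps.fwd (nat_lit 524288) (Steps.fwd (nat_lit 262144) (Steps.fwd (nat_lit 1572864) (Steps.bwd (nat_lit 1) (Steps.bwd (nat_lit 3) (Steps.fwd (nat_lit 1310720) (Steps.bwd (nat_lit 6) Steps.nil))))))))))))) (nat_lit 35) (nat_lit 3),
  Rule.mk (nat_lit 6) (nat_lit 274) (Steps.bwd (nat_lit 1) (Steps.bwd (nat_lit 3) (Steps.bwd (nat_lit 5) (Steps.bwd (nat_lit 6) (Steps.bwd (nat_lit 1) (Steps.fwd (nat_lit 1572864) (Steps.fwd (nat_lit 262144) (Steps.bwd (nat_lit 3) (Steps.bwd (nat_lit 1) (Steps.fwd (nat_lit 1572864) (Steps.fwd (nat_lit 262144) (Steps.fwd (nat_lit 524288) (Steps.fwd (nat_lit 262144) Steps.nil))))))))))))) (nat_lit 35) (nat_lit 12),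
  Rule.mk (nat_lit 6) (nat_lit 274) (Steps.bwd (nat_lit 1) (Steps.fwd (nat_lit 524288) (Steps.fwd (nat_lit 1310720) (Steps.fwd (nat_lit 1572864) (Steps.fwd (nat_lit 262144) (Steps.fwd (nat_lit 1572864) (Steps.fwd (nat_lit 262144) (Steps.fwd (nat_lit 524288) (Steps.bwd (nat_lit 1) (Steps.fwd (nat_lit 1572864) (Steps.fwd (nat_lit 262144) (Steps.bwd (nat_lit 3) (Steps.bwd (nat_lit 1) Steps.nil))))))))))))) (nat_lit 35) (nat_lit 12),
  Rule.mk (nat_lit 6) (nat_lit 274) (Steps.bwd (nat_lit 1) (Steps.bwd (nat_lit 6) (Steps.bwd (nat_lit 5) (Steps.fwd (nat_lit 786432) (Steps.fwd (nat_lit 262144) (Steps.fwd (nat_lit 1572864) (Steps.bwd (nat_lit 1) (Steps.bwd (nat_lit 2) (Steps.bwd (nat_lit 1) (Steps.bwd (nat_lit 6) (Steps.fwd (nat_lit 262144) (Steps.fwd (nat_lit 786432) (Steps.bwd (nat_lit 1) Steps.nil))))))))))))) (nat_lit 34) (nat_lit 11),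
  Rule.mk (nat_lit 1) (nat_lit 274) (Steps.fwd (nat_lit 786432) (Steps.bwd (nat_lit 1) (Steps.fwd (nat_lit 1572864) (Steps.fwd (nat_lit 262144) (Steps.bwd (nat_lit 2) (Steps.bwd (nat_lit 1) (Steps.fwd (nat_lit 1572864) (Steps.bwd (nat_lit 1) (Steps.bwd (nat_lit 6) (Steps.bwd (nat_lit 5) (Steps.fwd (nat_lit 786432) (Steps.fwd (nat_lit 262144) (Steps.fwd (nat_lit 1572864) Steps.nil))))))))))))) (nat_lit 34) (nat_lit 4),
  Rule.mk (nat_lit 1) (nat_lit 274) (Steps.bwd (nat_lit 6) (Steps.bwd (nat_lit 1) (Steps.fwd (nat_lit 524288) (Steps.bwd (nat_lit 1) (Steps.bwd (nat_lit 6) (Steps.fwd (nat_lit 262144) (Steps.bwd (nat_lit 3) (Steps.fwd (nat_lit 262144) (Steps.fwd (nat_lit 1572864) (Steps.bwd (nat_lit 1) (Steps.bwd (nat_lit 3) (Steps.fwd (nat_lit 1310720) (Steps.bwd (nat_lit 6) Steps.nil))))))))))))) (nat_lit 35) (nat_lit 3),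
  Rule.mk (nat_lit 1) (nat_lit 274) (Steps.bwd (nat_lit 6) (Steps.fwd (nat_lit 262144) (Steps.fwd (nat_lit 524288) (Steps.bwd (nat_lit 1) (Steps.fwd (nat_lit 1572864) (Steps.fwd (nat_lit 262144) (Steps.fwd (nat_lit 524288) (Steps.bwd (nat_lit 1) (Steps.fwd (nat_lit 1572864) (Steps.bwd (nat_lit 1) (Steps.bwd (nat_lit 3) (Steps.bwd (nat_lit 5) (Steps.fwd (nat_lit 1572864) Steps.nil))))))))))))) (nat_lit 35) (nat_lit 3),
  Rule.mk (nat_lit 1) (nat_lit 274) (Steps.bwd (nat_lit 6) (Steps.fwd (nat_lit 1310720) (Steps.bwd (nat_lit 2) (Steps.bwd (nat_lit 1) (Steps.bwd (nat_lit 6) (Steps.bwd (nat_lit 1) (Steps.fwd (nat_lit 786432) (Steps.fwd (nat_lit 262144) (Steps.bwd (nat_lit 6) (Steps.bwd (nat_lit 1) (Steps.fwd (nat_lit 786432) (Steps.bwd (nat_lit 1) (Steps.fwd (nat_lit 1572864) Steps.nil))))))))))))) (nat_lit 34) (nat_lit 12),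
  Rule.mk (nat_lit 4) (nat_lit 314) (Steps.bwd (nat_lit 8) (Steps.bwd (nat_lit 4) (Steps.bwd (nat_lit 9) (Steps.bwd (nat_lit 4) (Steps.bwd (nat_lit 8) (Steps.bwd (nat_lit 4) (Steps.bwd (nat_lit 9) (Steps.fwd (nat_lit 1048576) (Steps.fwd (nat_lit 2359296) (Steps.bwd (nat_lit 4) (Steps.bwd (nat_lit 9) (Steps.fwd (nat_lit 1048576) (Steps.fwd (nat_lit 2359296) (Steps.fwd (nat_lit 1048576) (Steps.bwd (nat_lit 9) Steps.nil))))))))))))))) (nat_lit 106) (nat_lit 0),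
  Rule.mk (nat_lit 6) (nat_lit 274) (Steps.bwd (nat_lit 1) (Steps.fwd (nat_lit 524288) (Steps.bwd (nat_lit 5) (Steps.bwd (nat_lit 6) (Steps.fwd (nat_lit 262144) (Steps.fwd (nat_lit 1572864) (Steps.bwd (nat_lit 1) (Steps.fwd (nat_lit 524288) (Steps.bwd (nat_lit 1) (Steps.bwd (nat_lit 6) (Steps.fwd (nat_lit 262144) (Steps.fwd (nat_lit 524288) (Steps.bwd (nat_lit 1) Steps.nil))))))))))))) (nat_lit 35) (nat_lit 12),
  Rule.mk (nat_lit 1) (nat_lit 274) (Steps.bwd (nat_lit 6) (Steps.bwd (nat_lit 1) (Steps.bwd (nat_lit 2) (Steps.fwd (nat_lit 262144) (Steps.fwd (nat_lit 1572864) (Steps.fwd (nat_lit 262144) (Steps.bwd (nat_lit 2) (Steps.bwd (nat_lit 1) (Steps.fwd (nat_lit 1572864) (Steps.fwd (nat_lit 262144) (Steps.fwd (nat_lit 1572864) (Steps.fwd (nat_lit 1310720) (Steps.bwd (nat_lit 2) Steps.nil))))))))))))) (nat_lit 34) (nat_lit 2),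
  Rule.mk (nat_lit 1) (nat_lit 274) (Steps.fwd (nat_lit 1572864) (Steps.fwd (nat_lit 262144) (Steps.bwd (nat_lit 3) (Steps.bwd (nat_lit 5) (Steps.fwd (nat_lit 1572864) (Steps.bwd (nat_lit 1) (Steps.bwd (nat_lit 6) (Steps.bwd (nat_lit 1) (Steps.fwd (nat_lit 524288) (Steps.fwd (nat_lit 262144) (Steps.fwd (nat_lit 1572864) (Steps.fwd (nat_lit 262144) (Steps.fwd (nat_lit 524288) Steps.nil))))))))))))) (nat_lit 35) (nat_lit 11),
  Rule.mk (nat_lit 6) (nat_lit 274) (Steps.bwd (nat_lit 1) (Steps.fwd (nat_lit 1572864) (Steps.fwd (nat_lit 1310720) (Steps.bwd (nat_lit 2) (Steps.bwd (nat_lit 1) (Steps.bwd (nat_lit 6) (Steps.fwd (nat_lit 262144) (Steps.bwd (nat_lit 2) (Steps.bwd (nat_lit 1) (Steps.fwd (nat_lit 1572864) (Steps.fwd (nat_lit 262144) (Steps.fwd (nat_lit 786432) (Steps.fwd (nat_lit 262144) Steps.nil))))))))))))) (nat_lit 34) (nat_lit 11),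
  Rule.mk (nat_lit 1) (nat_lit 274) (Steps.bwd (nat_lit 6) (Steps.fwd (nat_lit 1310720) (Steps.bwd (nat_lit 2) (Steps.bwd (nat_lit 1) (Steps.fwd (nat_lit 1572864) (Steps.fwd (nat_lit 262144) (Steps.fwd (nat_lit 786432) (Steps.fwd (nat_lit 262144) (Steps.bwd (nat_lit 6) (Steps.bwd (nat_lit 1) (Steps.bwd (nat_lit 2) (Steps.bwd (nat_lit 1) (Steps.fwd (nat_lit 1572864) Steps.nil))))))))))))) (nat_lit 34) (nat_lit 12),
  Rule.mk (nat_lit 1) (nat_lit 274) (Steps.bwd (nat_lit 6) (Steps.bwd (nat_lit 1) (Steps.bwd (nat_lit 2) (Steps.bwd (nat_lit 1) (Steps.bwd (nat_lit 6) (Steps.fwd (nat_lit 262144) (Steps.bwd (nat_lit 2) (Steps.bwd (nat_lit 1) (Steps.fwd (nat_lit 1572864) (Steps.bwd (nat_lit 1) (Steps.bwd (nat_lit 6) (Steps.fwd (nat_lit 1310720) (Steps.bwd (nat_lit 2) Steps.nil))))))))))))) (nat_lit 34) (nat_lit 2),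
  Rule.mk (nat_lit 0) (nat_lit 114) (Steps.bwd (nat_lit 7) (Steps.fwd (nat_lit 1310720) (Steps.bwd (nat_lit 6) (Steps.fwd (nat_lit 1310720) (Steps.fwd (nat_lit 1572864) Steps.nil))))) (nat_lit 25) (nat_lit 0)]
noncomputable def R_50 : List (Rule) := [Rule.mk (nat_lit 9) (nat_lit 314) (Steps.bwd (nat_lit 4) (Steps.bwd (nat_lit 8) (Steps.bwd (nat_lit 4) (Steps.bwd (nat_lit 9) (Steps.fwd (nat_lit 1048576) (Steps.bwd (nat_lit 8) (Steps.bwd (nat_lit 4) (Steps.bwd (nat_lit 9) (Steps.bwd (nat_lit 4) (Steps.fwd (nat_lit 2359296) (Steps.fwd (nat_lit 1048576) (Steps.fwd (nat_lit 2097152) (Steps.fwd (nat_lit 1048576) (Steps.fwd (nat_lit 2359296) (Steps.fwd (nat_lit 1048576) Steps.nil))))))))))))))) (nat_lit 106) (nat_lit 3),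
  Rule.mk (nat_lit 1) (nat_lit 274) (Steps.fwd (nat_lit 1572864) (Steps.bwd (nat_lit 5) (Steps.bwd (nat_lit 2) (Steps.fwd (nat_lit 262144) (Steps.fwd (nat_lit 1572864) (Steps.fwd (nat_lit 262144) (Steps.bwd (nat_lit 2) (Steps.bwd (nat_lit 1) (Steps.fwd (nat_lit 1572864) (Steps.bwd (nat_lit 1) (Steps.fwd (nat_lit 786432) (Steps.fwd (nat_lit 262144) (Steps.fwd (nat_lit 1572864) Steps.nil))))))))))))) (nat_lit 34) (nat_lit 12),
  Rule.mk (nat_lit 1) (nat_lit 274) (Steps.bwd (nat_lit 6) (Steps.fwd (nat_lit 262144) (Steps.fwd (nat_lit 524288) (Steps.bwd (nat_lit 1) (Steps.fwd (nat_lit 1572864) (Steps.fwd (nat_lit 262144) (Steps.fwd (nat_lit 524288) (Steps.fwd (nat_lit 262144) (Steps.fwd (nat_lit 1572864) (Steps.bwd (nat_lit 1) (Steps.bwd (nat_lit 3) (Steps.bwd (nat_lit 5) (Steps.fwd (nat_lit 1572864) Steps.nil))))))))))))) (nat_lit 35) (nat_lit 3),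
  Rule.mk (nat_lit 4) (nat_lit 114) (Steps.fwd (nat_lit 1835008) (Steps.bwd (nat_lit 3) (Steps.bwd (nat_lit 4) (Steps.fwd (nat_lit 1835008) (Steps.fwd (nat_lit 524288) Steps.nil))))) (nat_lit 65) (nat_lit 1),
  Rule.mk (nat_lit 6) (nat_lit 274) (Steps.bwd (nat_lit 1) (Steps.fwd (nat_lit 786432) (Steps.fwd (nat_lit 262144) (Steps.fwd (nat_lit 1572864) (Steps.fwd (nat_lit 262144) (Steps.fwd (nat_lit 786432) (Steps.bwd (nat_lit 1) (Steps.bwd (nat_lit 6) (Steps.fwd (nat_lit 262144) (Steps.fwd (nat_lit 1572864) (Steps.fwd (nat_lit 1310720) (Steps.bwd (nat_lit 2) (Steps.bwd (nat_lit 1) Steps.nil))))))))))))) (nat_lit 34) (nat_lit 3),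
  Rule.mk (nat_lit 1) (nat_lit 274) (Steps.bwd (nat_lit 6) (Steps.bwd (nat_lit 1) (Steps.bwd (nat_lit 3) (Steps.fwd (nat_lit 262144) (Steps.fwd (nat_lit 1572864) (Steps.bwd (nat_lit 1) (Steps.bwd (nat_lit 3) (Steps.bwd (nat_lit 5) (Steps.bwd (nat_lit 6) (Steps.bwd (nat_lit 1) (Steps.fwd (nat_lit 1572864) (Steps.fwd (nat_lit 262144) (Steps.bwd (nat_lit 3) Steps.nil))))))))))))) (nat_lit 35) (nat_lit 7),
  Rule.mk (nat_lit 6) (nat_lit 274) (Steps.bwd (nat_lit 1) (Steps.fwd (nat_lit 786432) (Steps.fwd (nat_lit 262144) (Steps.bwd (nat_lit 6) (Steps.bwd (nat_lit 1) (Steps.fwd (nat_lit 786432) (Steps.bwd (nat_lit 1) (Steps.fwd (nat_lit 1572864) (Steps.fwd (nat_lit 262144) (Steps.fwd (nat_lit 1572864) (Steps.bwd (nat_lit 5) (Steps.fwd (nat_lit 786432) (Steps.fwd (nat_lit 262144) Steps.nil))))))))))))) (nat_lit 34) (nat_lit 3),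
  Rule.mk (nat_lit 6) (nat_lit 274) (Steps.bwd (nat_lit 1) (Steps.fwd (nat_lit 1572864) (Steps.bwd (nat_lit 5) (Steps.bwd (nat_lit 2) (Steps.bwd (nat_lit 1) (Steps.fwd (nat_lit 1572864) (Steps.bwd (nat_lit 1) (Steps.bwd (nat_lit 2) (Steps.fwd (nat_lit 262144) (Steps.fwd (nat_lit 1572864) (Steps.fwd (nat_lit 262144) (Steps.bwd (nat_lit 2) (Steps.bwd (nat_lit 1) Steps.nil))))))))))))) (nat_lit 34) (nat_lit 11),
  Rule.mk (nat_lit 1) (nat_lit 274) (Steps.bwd (nat_lit 6) (Steps.bwd (nat_lit 1) (Steps.fwd (nat_lit 1572864) (Steps.fwd (nat_lit 1310720) (Steps.bwd (nat_lit 2) (Steps.fwd (nat_lit 262144) (Steps.bwd (nat_lit 6) (Steps.bwd (nat_lit 1) (Steps.fwd (nat_lit 786432) (Steps.bwd (nat_lit 1) (Steps.bwd (nat_lit 6) (Steps.fwd (nat_lit 262144) (Steps.bwd (nat_lit 2) Steps.nil))))))))))))) (nat_lit 34) (nat_lit 10),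
  Rule.mk (nat_lit 6) (nat_lit 94) (Steps.bwd (nat_lit 5) (Steps.bwd (nat_lit 6) (Steps.bwd (nat_lit 7) (Steps.bwd (nat_lit 5) Steps.nil)))) (nat_lit 25) (nat_lit 3),
  Rule.mk (nat_lit 1) (nat_lit 274) (Steps.bwd (nat_lit 6) (Steps.bwd (nat_lit 1) (Steps.fwd (nat_lit 524288) (Steps.bwd (nat_lit 1) (Steps.fwd (nat_lit 1572864) (Steps.fwd (nat_lit 262144) (Steps.bwd (nat_lit 3) (Steps.bwd (nat_lit 1) (Steps.fwd (nat_lit 1572864) (Steps.bwd (nat_lit 1) (Steps.bwd (nat_lit 3) (Steps.bwd (nat_lit 5) (Steps.fwd (nat_lit 1572864) Steps.nil))))))))))))) (nat_lit 35) (nat_lit 3),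
  Rule.mk (nat_lit 4) (nat_lit 114) (Steps.bwd (nat_lit 7) (Steps.fwd (nat_lit 524288) (Steps.bwd (nat_lit 4) (Steps.fwd (nat_lit 1835008) (Steps.fwd (nat_lit 524288) Steps.nil))))) (nat_lit 65) (nat_lit 1),
  Rule.mk (nat_lit 1) (nat_lit 274) (Steps.fwd (nat_lit 1572864) (Steps.fwd (nat_lit 1310720) (Steps.bwd (nat_lit 2) (Steps.fwd (nat_lit 262144) (Steps.fwd (nat_lit 1572864) (Steps.bwd (nat_lit 1) (Steps.fwd (nat_lit 786432) (Steps.fwd (nat_lit 262144) (Steps.fwd (nat_lit 1572864) (Steps.bwd (nat_lit 1) (Steps.fwd (nat_lit 786432) (Steps.fwd (nat_lit 262144) (Steps.fwd (nat_lit 1572864) Steps.nil))))))))))))) (nat_lit 34) (nat_lit 12),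
  Rule.mk (nat_lit 6) (nat_lit 274) (Steps.bwd (nat_lit 1) (Steps.fwd (nat_lit 1572864) (Steps.bwd (nat_lit 5) (Steps.bwd (nat_lit 2) (Steps.bwd (nat_lit 1) (Steps.bwd (nat_lit 6) (Steps.fwd (nat_lit 262144) (Steps.bwd (nat_lit 2) (Steps.bwd (nat_lit 1) (Steps.fwd (nat_lit 1572864) (Steps.fwd (nat_lit 262144) (Steps.fwd (nat_lit 786432) (Steps.fwd (nat_lit 262144) Steps.nil))))))))))))) (nat_lit 34) (nat_lit 11),
  Rule.mk (nat_lit 6) (nat_lit 74) (Steps.fwd (nat_lit 1048576) (Steps.bwd (nat_lit 5) (Steps.bwd (nat_lit 4) Steps.nil))) (nat_lit 22) (nat_lit 0),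
  Rule.mk (nat_lit 0) (nat_lit 114) (Steps.bwd (nat_lit 5) (Steps.bwd (nat_lit 6) (Steps.bwd (nat_lit 5) (Steps.fwd (nat_lit 1835008) (Steps.bwd (nat_lit 6) Steps.nil))))) (nat_lit 24) (nat_lit 1),
  Rule.mk (nat_lit 1) (nat_lit 114) (Steps.bwd (nat_lit 7) (Steps.bwd (nat_lit 5) (Steps.fwd (nat_lit 262144) (Steps.bwd (nat_lit 7) (Steps.fwd (nat_lit 1310720) Steps.nil))))) (nat_lit 53) (nat_lit 0),
  Rule.mk (nat_lit 1) (nat_lit 274) (Steps.fwd (nat_lit 786432) (Steps.bwd (nat_lit 1) (Steps.bwd (nat_lit 6) (Steps.fwd (nat_lit 262144) (Steps.bwd (nat_lit 2) (Steps.fwd (nat_lit 262144) (Steps.bwd (nat_lit 6) (Steps.bwd (nat_lit 1) (Steps.bwd (nat_lit 6) (Steps.fwd (nat_lit 1310720) (Steps.bwd (nat_lit 2) (Steps.fwd (nat_lit 262144) (Steps.bwd (nat_lit 6) Steps.nil))))))))))))) (nat_lit 34) (nat_lit 4),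
  Rule.mk (nat_lit 1) (nat_lit 274) (Steps.bwd (nat_lit 6) (Steps.bwd (nat_lit 1) (Steps.bwd (nat_lit 3) (Steps.fwd (nat_lit 262144) (Steps.fwd (nat_lit 1572864) (Steps.fwd (nat_lit 262144) (Steps.fwd (nat_lit 524288) (Steps.bwd (nat_lit 1) (Steps.bwd (nat_lit 6) (Steps.bwd (nat_lit 1) (Steps.fwd (nat_lit 524288) (Steps.fwd (nat_lit 1310720) (Steps.bwd (nat_lit 6) Steps.nil))))))))))))) (nat_lit 35) (nat_lit 3),
  Rule.mk (nat_lit 4) (nat_lit 74) (Steps.fwd (nat_lit 786432) (Steps.fwd (nat_lit 1048576) (Steps.fwd (nat_lit 786432) Steps.nil))) (nat_lit 14) (nat_lit 1),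
  Rule.mk (nat_lit 0) (nat_lit 134) (Steps.bwd (nat_lit 4) (Steps.bwd (nat_lit 2) (Steps.fwd (nat_lit 1572864) (Steps.fwd (nat_lit 1048576) (Steps.fwd (nat_lit 786432) (Steps.bwd (nat_lit 5) Steps.nil)))))) (nat_lit 58) (nat_lit 2),
  Rule.mk (nat_lit 6) (nat_lit 54) (Steps.bwd (nat_lit 0) (Steps.bwd (nat_lit 6) Steps.nil)) (nat_lit 108) (nat_lit 0),
  Rule.mk (nat_lit 0) (nat_lit 134) (Steps.bwd (nat_lit 4) (Steps.bwd (nat_lit 7) (Steps.fwd (nat_lit 1572864) (Steps.bwd (nat_lit 4) (Steps.bwd (nat_lit 7) (Steps.fwd (nat_lit 1310720) Steps.nil)))))) (nat_lit 67) (nat_lit 5),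
  Rule.mk (nat_lit 0) (nat_lit 174) (Steps.bwd (nat_lit 1) (Steps.bwd (nat_lit 4) (Steps.fwd (nat_lit 262144) (Steps.bwd (nat_lit 7) (Steps.fwd (nat_lit 1048576) (Steps.bwd (nat_lit 1) (Steps.fwd (nat_lit 1048576) (Steps.bwd (nat_lit 7) Steps.nil)))))))) (nat_lit 76) (nat_lit 0),
  Rule.mk (nat_lit 0) (nat_lit 134) (Steps.bwd (nat_lit 9) (Steps.bwd (nat_lit 1) (Steps.fwd (nat_lit 2359296) (Steps.bwd (nat_lit 2) (Steps.fwd (nat_lit 262144) (Steps.bwd (nat_lit 3) Steps.nil)))))) (nat_lit 104) (nat_lit 4),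
  Rule.mk (nat_lit 1) (nat_lit 274) (Steps.bwd (nat_lit 6) (Steps.bwd (nat_lit 1) (Steps.bwd (nat_lit 2) (Steps.fwd (nat_lit 262144) (Steps.fwd (nat_lit 1572864) (Steps.fwd (nat_lit 262144) (Steps.fwd (nat_lit 1572864) (Steps.fwd (nat_lit 1310720) (Steps.fwd (nat_lit 786432) (Steps.bwd (nat_lit 1) (Steps.fwd (nat_lit 1572864) (Steps.fwd (nat_lit 262144) (Steps.bwd (nat_lit 2) Steps.nil))))))))))))) (nat_lit 34) (nat_lit 6),
  Rule.mk (nat_lit 4) (nat_lit 314) (Steps.bwd (nat_lit 8) (Steps.bwd (nat_lit 4) (Steps.bwd (nat_lit 9) (Steps.bwd (nat_lit 4) (Steps.bwd (nat_lit 8) (Steps.fwd (nat_lit 1048576) (Steps.bwd (nat_lit 9) (Steps.bwd (nat_lit 4) (Steps.fwd (nat_lit 2359296) (Steps.fwd (nat_lit 1048576) (Steps.fwd (nat_lit 2097152) (Steps.fwd (nat_lit 1048576) (Steps.fwd (nat_lit 2359296) (Steps.fwd (nat_lit 1048576) (Steps.fwd (nat_lit 2097152) Steps.nil)))))))))))))))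 (nat_lit 106) (nat_lit 0),
  Rule.mk (nat_lit 6) (nat_lit 274) (Steps.bwd (nat_lit 1) (Steps.fwd (nat_lit 786432) (Steps.bwd (nat_lit 1) (Steps.bwd (nat_lit 6) (Steps.fwd (nat_lit 262144) (Steps.bwd (nat_lit 2) (Steps.bwd (nat_lit 1) (Steps.fwd (nat_lit 1572864) (Steps.bwd (nat_lit 1) (Steps.fwd (nat_lit 1572864) (Steps.fwd (nat_lit 1310720) (Steps.bwd (nat_lit 2) (Steps.fwd (nat_lit 262144) Steps.nil))))))))))))) (nat_lit 34) (nat_lit 3),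
  Rule.mk (nat_lit 0) (nat_lit 114) (Steps.bwd (nat_lit 5) (Steps.bwd (nat_lit 6) (Steps.fwd (nat_lit 1310720) (Steps.fwd (nat_lit 1835008) (Steps.fwd (nat_lit 1572864) Steps.nil))))) (nat_lit 24) (nat_lit 1),
  Rule.mk (nat_lit 1) (nat_lit 274) (Steps.bwd (nat_lit 6) (Steps.bwd (nat_lit 1) (Steps.bwd (nat_lit 2) (Steps.bwd (nat_lit 1) (Steps.fwd (nat_lit 1572864) (Steps.fwd (nat_lit 262144) (Steps.bwd (nat_lit 2) (Steps.bwd (nat_lit 1) (Steps.fwd (nat_lit 1572864) (Steps.bwd (nat_lit 1) (Steps.fwd (nat_lit 1572864) (Steps.bwd (nat_lit 5) (Steps.bwd (nat_lit 2) Steps.nil))))))))))))) (nat_lit 34) (nat_lit 2),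
  Rule.mk (nat_lit 6) (nat_lit 274) (Steps.bwd (nat_lit 1) (Steps.bwd (nat_lit 3) (Steps.bwd (nat_lit 5) (Steps.bwd (nat_lit 6) (Steps.bwd (nat_lit 1) (Steps.bwd (nat_lit 6) (Steps.fwd (nat_lit 262144) (Steps.fwd (nat_lit 524288) (Steps.fwd (nat_lit 262144) (Steps.fwd (nat_lit 1572864) (Steps.fwd (nat_lit 262144) (Steps.fwd (nat_lit 524288) (Steps.fwd (nat_lit 262144) Steps.nil))))))))))))) (nat_lit 35) (nat_lit 12),
  Rule.mk (nat_lit 6) (nat_lit 274) (Steps.bwd (nat_lit 1) (Steps.bwd (nat_lit 3) (Steps.fwd (nat_lit 1310720) (Steps.bwd (nat_lit 6) (Steps.fwd (nat_lit 262144) (Steps.bwd (nat_lit 6) (Steps.bwd (nat_lit 1) (Steps.bwd (nat_lit 3) (Steps.fwd (nat_lit 262144) (Steps.fwd (nat_lit 1572864) (Steps.fwd (nat_lit 262144) (Steps.fwd (nat_lit 524288) (Steps.fwd (nat_lit 262144) Steps.nil))))))))))))) (nat_lit 35) (nat_lit 12),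
  Rule.mk (nat_lit 6) (nat_lit 274) (Steps.bwd (nat_lit 1) (Steps.fwd (nat_lit 524288) (Steps.fwd (nat_lit 1310720) (Steps.fwd (nat_lit 1572864) (Steps.fwd (nat_lit 262144) (Steps.fwd (nat_lit 1572864) (Steps.bwd (nat_lit 1) (Steps.fwd (nat_lit 524288) (Steps.bwd (nat_lit 1) (Steps.fwd (nat_lit 1572864) (Steps.fwd (nat_lit 262144) (Steps.bwd (nat_lit 3) (Steps.bwd (nat_lit 1) Steps.nil))))))))))))) (nat_lit 35) (nat_lit 12),
  Rule.mk (nat_lit 1) (nat_lit 274) (Steps.fwd (nat_lit 786432) (Steps.bwd (nat_lit 1) (Steps.bwd (nat_lit 6) (Steps.fwd (nat_lit 262144) (Steps.bwd (nat_lit 2) (Steps.fwd (nat_lit 262144) (Steps.bwd (nat_lit 6) (Steps.bwd (nat_lit 1) (Steps.fwd (nat_lit 1572864) (Steps.bwd (nat_lit 5) (Steps.bwd (nat_lit 2) (Steps.bwd (nat_lit 1) (Steps.bwd (nat_lit 6) Steps.nil))))))))))))) (nat_lit 34) (nat_lit 4),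
  Rule.mk (nat_lit 0) (nat_lit 294) (Steps.bwd (nat_lit 1) (Steps.bwd (nat_lit 6) (Steps.bwd (nat_lit 5) (Steps.bwd (nat_lit 2) (Steps.bwd (nat_lit 1) (Steps.bwd (nat_lit 6) (Steps.bwd (nat_lit 1) (Steps.fwd (nat_lit 786432) (Steps.fwd (nat_lit 262144) (Steps.bwd (nat_lit 6) (Steps.bwd (nat_lit 1) (Steps.fwd (nat_lit 786432) (Steps.bwd (nat_lit 1) (Steps.fwd (nat_lit 1572864) Steps.nil)))))))))))))) (nat_lit 34) (nat_lit 11),
  Rule.mk (nat_lit 7) (nat_lit 94) (Steps.bwd (nat_lit 5) (Steps.bwd (nat_lit 6) (Steps.fwd (nat_lit 1310720) (Steps.bwd (nat_lit 6) Steps.nil)))) (nat_lit 25) (nat_lit 1),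
  Rule.mk (nat_lit 1) (nat_lit 274) (Steps.bwd (nat_lit 6) (Steps.bwd (nat_lit 1) (Steps.bwd (nat_lit 2) (Steps.bwd (nat_lit 1) (Steps.fwd (nat_lit 1572864) (Steps.fwd (nat_lit 262144) (Steps.bwd (nat_lit 2) (Steps.bwd (nat_lit 1) (Steps.fwd (nat_lit 1572864) (Steps.bwd (nat_lit 1) (Steps.bwd (nat_lit 6) (Steps.fwd (nat_lit 1310720) (Steps.bwd (nat_lit 2) Steps.nil))))))))))))) (nat_lit 34) (nat_lit 2),
  Rule.mk (nat_lit 6) (nat_lit 274) (Steps.bwd (nat_lit 1) (Steps.fwd (nat_lit 524288) (Steps.fwd (nat_lit 1310720) (Steps.fwd (nat_lit 1572864) (Steps.fwd (nat_lit 262144) (Steps.fwd (nat_lit 1572864) (Steps.fwd (nat_lit 262144) (Steps.fwd (nat_lit 524288) (Steps.bwd (nat_lit 1) (Steps.bwd (nat_lit 6) (Steps.bwd (nat_lit 1) (Steps.fwd (nat_lit 524288) (Steps.fwd (nat_lit 262144) Steps.nil))))))))))))) (nat_lit 35) (nat_lit 12),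
  Rule.mk (nat_lit 0) (nat_lit 334) (Steps.bwd (nat_lit 4) (Steps.bwd (nat_lit 8) (Steps.bwd (nat_lit 4) (Steps.bwd (nat_lit 9) (Steps.fwd (nat_lit 1048576) (Steps.fwd (nat_lit 2359296) (Steps.fwd (nat_lit 1048576) (Steps.bwd (nat_lit 9) (Steps.bwd (nat_lit 4) (Steps.bwd (nat_lit 8) (Steps.bwd (nat_lit 4) (Steps.fwd (nat_lit 2097152) (Steps.bwd (nat_lit 4) (Steps.fwd (nat_lit 2359296) (Steps.fwd (nat_lit 1048576) (Steps.fwd (nat_lit 2097152) Steps.nil)))))))))))))))) (nat_lit 106) (nat_lit 3),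
  Rule.mk (nat_lit 4) (nat_lit 114) (Steps.bwd (nat_lit 3) (Steps.fwd (nat_lit 1310720) (Steps.bwd (nat_lit 4) (Steps.bwd (nat_lit 3) (Steps.fwd (nat_lit 1572864) Steps.nil))))) (nat_lit 55) (nat_lit 2),
  Rule.mk (nat_lit 0) (nat_lit 334) (Steps.bwd (nat_lit 4) (Steps.bwd (nat_lit 9) (Steps.bwd (nat_lit 4) (Steps.bwd (nat_lit 8) (Steps.bwd (nat_lit 4) (Steps.fwd (nat_lit 2097152) (Steps.fwd (nat_lit 1048576) (Steps.fwd (nat_lit 2359296) (Steps.bwd (nat_lit 4) (Steps.bwd (nat_lit 9) (Steps.bwd (nat_lit 4) (Steps.bwd (nat_lit 8) (Steps.fwd (nat_lit 1048576) (Steps.bwd (nat_lit 9) (Steps.bwd (nat_lit 4) (Steps.fwd (nat_lit 2359296) Steps.nil)))))))))))))))) (nat_lit 106) (nat_lit 1),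
  Rule.mk (nat_lit 0) (nat_lit 74) (Steps.bwd (nat_lit 4) (Steps.bwd (nat_lit 0) (Steps.bwd (nat_lit 4) Steps.nil))) (nat_lit 108) (nat_lit 0),
  Rule.mk (nat_lit 0) (nat_lit 74) (Steps.bwd (nat_lit 2) (Steps.fwd (nat_lit 0) (Steps.bwd (nat_lit 3) Steps.nil))) (nat_lit 108) (nat_lit 0),
  Rule.mk (nat_lit 0) (nat_lit 74) (Steps.bwd (nat_lit 6) (Steps.bwd (nat_lit 0) (Steps.fwd (nat_lit 1572864) Steps.nil))) (nat_lit 108) (nat_lit 0),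
  Rule.mk (nat_lit 0) (nat_lit 74) (Steps.fwd (nat_lit 524288) (Steps.fwd (nat_lit 0) (Steps.bwd (nat_lit 2) Steps.nil))) (nat_lit 108) (nat_lit 0),
  Rule.mk (nat_lit 0) (nat_lit 74) (Steps.fwd (nat_lit 262144) (Steps.fwd (nat_lit 0) (Steps.fwd (nat_lit 262144) Steps.nil))) (nat_lit 108) (nat_lit 0),
  Rule.mk (nat_lit 0) (nat_lit 74) (Steps.bwd (nat_lit 9) (Steps.bwd (nat_lit 0) (Steps.fwd (nat_lit 2359296) Steps.nil))) (nat_lit 108) (nat_lit 0),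
  Rule.mk (nat_lit 0) (nat_lit 74) (Steps.bwd (nat_lit 5) (Steps.fwd (nat_lit 0) (Steps.fwd (nat_lit 1310720) Steps.nil))) (nat_lit 108) (nat_lit 0),
  Rule.mk (nat_lit 7) (nat_lit 114) (Steps.bwd (nat_lit 6) (Steps.bwd (nat_lit 4) (Steps.bwd (nat_lit 7) (Steps.bwd (nat_lit 5) (Steps.fwd (nat_lit 1048576) Steps.nil))))) (nat_lit 67) (nat_lit 1),
  Rule.mk (nat_lit 0) (nat_lit 134) (Steps.bwd (nat_lit 4) (Steps.fwd (nat_lit 262144) (Steps.bwd (nat_lit 4) (Steps.bwd (nat_lit 1) (Steps.bwd (nat_lit 4) (Steps.fwd (nat_lit 262144) Steps.nil)))))) (nat_lit 16) (nat_lit 1),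
  Rule.mk (nat_lit 4) (nat_lit 154) (Steps.bwd (nat_lit 5) (Steps.bwd (nat_lit 7) (Steps.fwd (nat_lit 786432) (Steps.bwd (nat_lit 4) (Steps.fwd (nat_lit 1572864) (Steps.bwd (nat_lit 7) (Steps.bwd (nat_lit 2) Steps.nil))))))) (nat_lit 78) (nat_lit 2),
  Rule.mk (nat_lit 0) (nat_lit 174) (Steps.bwd (nat_lit 1) (Steps.bwd (nat_lit 4) (Steps.fwd (nat_lit 262144) (Steps.bwd (nat_lit 7) (Steps.fwd (nat_lit 1048576) (Steps.bwd (nat_lit 1) (Steps.fwd (nat_lit 1048576) (Steps.fwd (nat_lit 1835008) Steps.nil)))))))) (nat_lit 76) (nat_lit 0),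
  Rule.mk (nat_lit 4) (nat_lit 114) (Steps.bwd (nat_lit 3) (Steps.bwd (nat_lit 7) (Steps.bwd (nat_lit 4) (Steps.bwd (nat_lit 3) (Steps.bwd (nat_lit 7) Steps.nil))))) (nat_lit 57) (nat_lit 2),
  Rule.mk (nat_lit 4) (nat_lit 154) (Steps.fwd (nat_lit 524288) (Steps.bwd (nat_lit 7) (Steps.fwd (nat_lit 1572864) (Steps.bwd (nat_lit 4) (Steps.bwd (nat_lit 3) (Steps.bwd (nat_lit 7) (Steps.fwd (nat_lit 1310720) Steps.nil))))))) (nat_lit 79) (nat_lit 7),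
  Rule.mk (nat_lit 1) (nat_lit 154) (Steps.fwd (nat_lit 1572864) (Steps.fwd (nat_lit 262144) (Steps.bwd (nat_lit 4) (Steps.bwd (nat_lit 1) (Steps.bwd (nat_lit 6) (Steps.bwd (nat_lit 1) (Steps.fwd (nat_lit 1048576) Steps.nil))))))) (nat_lit 74) (nat_lit 3),
  Rule.mk (nat_lit 0) (nat_lit 94) (Steps.bwd (nat_lit 1) (Steps.bwd (nat_lit 5) (Steps.fwd (nat_lit 262144) (Steps.bwd (nat_lit 5) Steps.nil)))) (nat_lit 18) (nat_lit 0),
  Rule.mk (nat_lit 0) (nat_lit 74) (Steps.bwd (nat_lit 6) (Steps.bwd (nat_lit 0) (Steps.bwd (nat_lit 6) Steps.nil))) (nat_lit 108) (nat_lit 0),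
  Rule.mk (nat_lit 0) (nat_lit 74) (Steps.fwd (nat_lit 524288) (Steps.bwd (nat_lit 0) (Steps.bwd (nat_lit 2) Steps.nil))) (nat_lit 108) (nat_lit 0),
  Rule.mk (nat_lit 0) (nat_lit 74) (Steps.bwd (nat_lit 7) (Steps.bwd (nat_lit 0) (Steps.bwd (nat_lit 7) Steps.nil))) (nat_lit 108) (nat_lit 0),
  Rule.mk (nat_lit 0) (nat_lit 74) (Steps.fwd (nat_lit 1835008) (Steps.bwd (nat_lit 0) (Steps.bwd (nat_lit 7) Steps.nil))) (nat_lit 108) (nat_lit 0),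
  Rule.mk (nat_lit 1) (nat_lit 54) (Steps.bwd (nat_lit 0) (Steps.fwd (nat_lit 262144) Steps.nil)) (nat_lit 108) (nat_lit 0),
  Rule.mk (nat_lit 4) (nat_lit 154) (Steps.bwd (nat_lit 2) (Steps.bwd (nat_lit 5) (Steps.bwd (nat_lit 7) (Steps.bwd (nat_lit 4) (Steps.fwd (nat_lit 786432) (Steps.bwd (nat_lit 6) (Steps.fwd (nat_lit 1835008) Steps.nil))))))) (nat_lit 88) (nat_lit 0),
  Rule.mk (nat_lit 0) (nat_lit 334) (Steps.bwd (nat_lit 4) (Steps.bwd (nat_lit 8) (Steps.bwd (nat_lit 4) (Steps.bwd (nat_lit 9) (Steps.bwd (nat_lit 4) (Steps.bwd (nat_lit 8) (Steps.bwd (nat_lit 4) (Steps.fwd (nat_lit 2097152) (Steps.fwd (nat_lit 1048576) (Steps.fwd (nat_lit 2359296) (Steps.fwd (nat_lit 1048576) (Steps.fwd (nat_lit 2097152) (Steps.fwd (nat_lit 1048576) (Steps.bwd (nat_lit 8) (Steps.fwd (nat_lit 1048576) (Steps.fwd (nat_lit 2097152) Steps.nil)))))))))))))))) (nat_lit 106) (nat_lit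 3),
  Rule.mk (nat_lit 0) (nat_lit 74) (Steps.fwd (nat_lit 786432) (Steps.fwd (nat_lit 0) (Steps.bwd (nat_lit 3) Steps.nil))) (nat_lit 108) (nat_lit 0)]
noncomputable def R_51 : List (Rule) := [Rule.mk (nat_lit 0) (nat_lit 74) (Steps.fwd (nat_lit 1310720) (Steps.bwd (nat_lit 0) (Steps.fwd (nat_lit 1310720) Steps.nil))) (nat_lit 108) (nat_lit 0),
  Rule.mk (nat_lit 0) (nat_lit 74) (Steps.fwd (nat_lit 1572864) (Steps.bwd (nat_lit 0) (Steps.bwd (nat_lit 6) Steps.nil))) (nat_lit 108) (nat_lit 0),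
  Rule.mk (nat_lit 0) (nat_lit 74) (Steps.bwd (nat_lit 9) (Steps.bwd (nat_lit 0) (Steps.bwd (nat_lit 8) Steps.nil))) (nat_lit 108) (nat_lit 0),
  Rule.mk (nat_lit 0) (nat_lit 74) (Steps.bwd (nat_lit 8) (Steps.bwd (nat_lit 0) (Steps.bwd (nat_lit 9) Steps.nil))) (nat_lit 108) (nat_lit 0),
  Rule.mk (nat_lit 0) (nat_lit 74) (Steps.bwd (nat_lit 1) (Steps.bwd (nat_lit 0) (Steps.bwd (nat_lit 1) Steps.nil))) (nat_lit 108) (nat_lit 0),
  Rule.mk (nat_lit 0) (nat_lit 74) (Steps.bwd (nat_lit 1) (Steps.fwd (nat_lit 0) (Steps.bwd (nat_lit 1) Steps.nil))) (nat_lit 108) (nat_lit 0),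
  Rule.mk (nat_lit 0) (nat_lit 174) (Steps.bwd (nat_lit 4) (Steps.bwd (nat_lit 1) (Steps.fwd (nat_lit 1572864) (Steps.fwd (nat_lit 262144) (Steps.fwd (nat_lit 1048576) (Steps.fwd (nat_lit 262144) (Steps.fwd (nat_lit 1572864) (Steps.fwd (nat_lit 262144) Steps.nil)))))))) (nat_lit 74) (nat_lit 1),
  Rule.mk (nat_lit 0) (nat_lit 134) (Steps.fwd (nat_lit 262144) (Steps.fwd (nat_lit 1048576) (Steps.bwd (nat_lit 1) (Steps.bwd (nat_lit 4) (Steps.fwd (nat_lit 262144) (Steps.fwd (nat_lit 1048576) Steps.nil)))))) (nat_lit 16) (nat_lit 0),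
  Rule.mk (nat_lit 0) (nat_lit 74) (Steps.fwd (nat_lit 524288) (Steps.fwd (nat_lit 0) (Steps.fwd (nat_lit 786432) Steps.nil))) (nat_lit 108) (nat_lit 0),
  Rule.mk (nat_lit 4) (nat_lit 154) (Steps.bwd (nat_lit 6) (Steps.fwd (nat_lit 786432) (Steps.bwd (nat_lit 7) (Steps.fwd (nat_lit 1048576) (Steps.bwd (nat_lit 5) (Steps.bwd (nat_lit 2) (Steps.fwd (nat_lit 1835008) Steps.nil))))))) (nat_lit 90) (nat_lit 7),
  Rule.mk (nat_lit 1) (nat_lit 154) (Steps.fwd (nat_lit 1572864) (Steps.bwd (nat_lit 1) (Steps.bwd (nat_lit 4) (Steps.fwd (nat_lit 262144) (Steps.fwd (nat_lit 1572864) (Steps.bwd (nat_lit 1) (Steps.fwd (nat_lit 1048576) Steps.nil))))))) (nat_lit 74) (nat_lit 3),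
  Rule.mk (nat_lit 1) (nat_lit 274) (Steps.fwd (nat_lit 524288) (Steps.fwd (nat_lit 1310720) (Steps.bwd (nat_lit 6) (Steps.bwd (nat_lit 1) (Steps.fwd (nat_lit 1572864) (Steps.bwd (nat_lit 1) (Steps.bwd (nat_lit 3) (Steps.fwd (nat_lit 262144) (Steps.bwd (nat_lit 6) (Steps.bwd (nat_lit 1) (Steps.bwd (nat_lit 3) (Steps.fwd (nat_lit 262144) (Steps.fwd (nat_lit 1572864) Steps.nil))))))))))))) (nat_lit 35) (nat_lit 13),
  Rule.mk (nat_lit 0) (nat_lit 134) (Steps.fwd (nat_lit 2097152) (Steps.bwd (nat_lit 1) (Steps.bwd (nat_lit 8) (Steps.fwd (nat_lit 786432) (Steps.fwd (nat_lit 262144) (Steps.bwd (nat_lit 3) Steps.nil)))))) (nat_lit 104) (nat_lit 4),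
  Rule.mk (nat_lit 8) (nat_lit 54) (Steps.bwd (nat_lit 0) (Steps.fwd (nat_lit 2097152) Steps.nil)) (nat_lit 108) (nat_lit 0),
  Rule.mk (nat_lit 0) (nat_lit 74) (Steps.bwd (nat_lit 9) (Steps.fwd (nat_lit 0) (Steps.fwd (nat_lit 2359296) Steps.nil))) (nat_lit 108) (nat_lit 0),
  Rule.mk (nat_lit 0) (nat_lit 74) (Steps.fwd (nat_lit 786432) (Steps.bwd (nat_lit 0) (Steps.fwd (nat_lit 524288) Steps.nil))) (nat_lit 108) (nat_lit 0),
  Rule.mk (nat_lit 0) (nat_lit 74) (Steps.fwd (nat_lit 2359296) (Steps.fwd (nat_lit 0) (Steps.bwd (nat_lit 9) Steps.nil))) (nat_lit 108) (nat_lit 0),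
  Rule.mk (nat_lit 0) (nat_lit 74) (Steps.fwd (nat_lit 1310720) (Steps.bwd (nat_lit 0) (Steps.bwd (nat_lit 5) Steps.nil))) (nat_lit 108) (nat_lit 0),
  Rule.mk (nat_lit 0) (nat_lit 294) (Steps.bwd (nat_lit 1) (Steps.bwd (nat_lit 6) (Steps.bwd (nat_lit 1) (Steps.fwd (nat_lit 1572864) (Steps.bwd (nat_lit 5) (Steps.fwd (nat_lit 786432) (Steps.bwd (nat_lit 1) (Steps.bwd (nat_lit 6) (Steps.fwd (nat_lit 262144) (Steps.bwd (nat_lit 2) (Steps.fwd (nat_lit 262144) (Steps.bwd (nat_lit 6) (Steps.bwd (nat_lit 1) (Steps.bwd (nat_lit 2) Steps.nil)))))))))))))) (nat_lit 34) (nat_lit 9),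
  Rule.mk (nat_lit 0) (nat_lit 294) (Steps.bwd (nat_lit 1) (Steps.bwd (nat_lit 3) (Steps.fwd (nat_lit 1310720) (Steps.bwd (nat_lit 6) (Steps.bwd (nat_lit 1) (Steps.fwd (nat_lit 1572864) (Steps.fwd (nat_lit 262144) (Steps.fwd (nat_lit 524288) (Steps.bwd (nat_lit 1) (Steps.fwd (nat_lit 1572864) (Steps.fwd (nat_lit 262144) (Steps.bwd (nat_lit 3) (Steps.fwd (nat_lit 262144) (Steps.bwd (nat_lit 6) Steps.nil)))))))))))))) (nat_lit 35) (nat_lit 12),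
  Rule.mk (nat_lit 0) (nat_lit 74) (Steps.fwd (nat_lit 1310720) (Steps.fwd (nat_lit 0) (Steps.fwd (nat_lit 1310720) Steps.nil))) (nat_lit 108) (nat_lit 0),
  Rule.mk (nat_lit 1) (nat_lit 114) (Steps.bwd (nat_lit 5) (Steps.bwd (nat_lit 7) (Steps.fwd (nat_lit 262144) (Steps.fwd (nat_lit 1310720) (Steps.bwd (nat_lit 7) Steps.nil))))) (nat_lit 52) (nat_lit 1),
  Rule.mk (nat_lit 2) (nat_lit 154) (Steps.bwd (nat_lit 5) (Steps.bwd (nat_lit 2) (Steps.bwd (nat_lit 7) (Steps.fwd (nat_lit 1572864) (Steps.bwd (nat_lit 2) (Steps.bwd (nat_lit 5) (Steps.bwd (nat_lit 6) Steps.nil))))))) (nat_lit 84) (nat_lit 1),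
  Rule.mk (nat_lit 7) (nat_lit 114) (Steps.bwd (nat_lit 4) (Steps.bwd (nat_lit 5) (Steps.bwd (nat_lit 7) (Steps.bwd (nat_lit 4) (Steps.fwd (nat_lit 1572864) Steps.nil))))) (nat_lit 66) (nat_lit 0),
  Rule.mk (nat_lit 1) (nat_lit 114) (Steps.bwd (nat_lit 3) (Steps.bwd (nat_lit 9) (Steps.fwd (nat_lit 262144) (Steps.bwd (nat_lit 8) (Steps.fwd (nat_lit 786432) Steps.nil))))) (nat_lit 104) (nat_lit 3),
  Rule.mk (nat_lit 1) (nat_lit 154) (Steps.bwd (nat_lit 2) (Steps.bwd (nat_lit 1) (Steps.bwd (nat_lit 7) (Steps.bwd (nat_lit 2) (Steps.bwd (nat_lit 1) (Steps.bwd (nat_lit 2) (Steps.bwd (nat_lit 7) Steps.nil))))))) (nat_lit 72) (nat_lit 1),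
  Rule.mk (nat_lit 5) (nat_lit 154) (Steps.bwd (nat_lit 2) (Steps.bwd (nat_lit 1) (Steps.bwd (nat_lit 2) (Steps.fwd (nat_lit 1310720) (Steps.fwd (nat_lit 262144) (Steps.fwd (nat_lit 786432) (Steps.bwd (nat_lit 1) Steps.nil))))))) (nat_lit 70) (nat_lit 4),
  Rule.mk (nat_lit 0) (nat_lit 334) (Steps.fwd (nat_lit 2359296) (Steps.fwd (nat_lit 1048576) (Steps.fwd (nat_lit 2097152) (Steps.bwd (nat_lit 4) (Steps.bwd (nat_lit 8) (Steps.bwd (nat_lit 4) (Steps.bwd (nat_lit 9) (Steps.fwd (nat_lit 1048576) (Steps.fwd (nat_lit 2359296) (Steps.fwd (nat_lit 1048576) (Steps.fwd (nat_lit 2097152) (Steps.bwd (nat_lit 4) (Steps.fwd (nat_lit 2359296) (Steps.fwd (nat_lit 1048576) (Steps.bwd (nat_lit 9) (Steps.fwd (nat_lit 1048576) Steps.nil)))))))))))))))) (nat_lit 106) (nat_lit 0),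
  Rule.mk (nat_lit 0) (nat_lit 74) (Steps.fwd (nat_lit 786432) (Steps.bwd (nat_lit 0) (Steps.bwd (nat_lit 3) Steps.nil))) (nat_lit 108) (nat_lit 0),
  Rule.mk (nat_lit 0) (nat_lit 74) (Steps.bwd (nat_lit 1) (Steps.fwd (nat_lit 0) (Steps.fwd (nat_lit 262144) Steps.nil))) (nat_lit 108) (nat_lit 0),
  Rule.mk (nat_lit 3) (nat_lit 54) (Steps.bwd (nat_lit 0) (Steps.fwd (nat_lit 786432) Steps.nil)) (nat_lit 108) (nat_lit 0),
  Rule.mk (nat_lit 0) (nat_lit 74) (Steps.bwd (nat_lit 3) (Steps.bwd (nat_lit 0) (Steps.bwd (nat_lit 2) Steps.nil))) (nat_lit 108) (nat_lit 0),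
  Rule.mk (nat_lit 0) (nat_lit 74) (Steps.bwd (nat_lit 8) (Steps.bwd (nat_lit 0) (Steps.fwd (nat_lit 2097152) Steps.nil))) (nat_lit 108) (nat_lit 0),
  Rule.mk (nat_lit 0) (nat_lit 74) (Steps.bwd (nat_lit 2) (Steps.bwd (nat_lit 0) (Steps.bwd (nat_lit 3) Steps.nil))) (nat_lit 108) (nat_lit 0),
  Rule.mk (nat_lit 0) (nat_lit 174) (Steps.bwd (nat_lit 2) (Steps.fwd (nat_lit 1310720) (Steps.fwd (nat_lit 786432) (Steps.bwd (nat_lit 7) (Steps.fwd (nat_lit 1572864) (Steps.fwd (nat_lit 786432) (Steps.fwd (nat_lit 1310720) (Steps.bwd (nat_lit 6) Steps.nil)))))))) (nat_lit 84) (nat_lit 0),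
  Rule.mk (nat_lit 1) (nat_lit 154) (Steps.bwd (nat_lit 4) (Steps.fwd (nat_lit 262144) (Steps.bwd (nat_lit 6) (Steps.bwd (nat_lit 1) (Steps.fwd (nat_lit 1048576) (Steps.bwd (nat_lit 1) (Steps.bwd (nat_lit 6) Steps.nil))))))) (nat_lit 74) (nat_lit 1),
  Rule.mk (nat_lit 1) (nat_lit 154) (Steps.fwd (nat_lit 1310720) (Steps.fwd (nat_lit 524288) (Steps.fwd (nat_lit 262144) (Steps.fwd (nat_lit 524288) (Steps.bwd (nat_lit 5) (Steps.bwd (nat_lit 1) (Steps.bwd (nat_lit 3) Steps.nil))))))) (nat_lit 71) (nat_lit 0),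
  Rule.mk (nat_lit 1) (nat_lit 154) (Steps.bwd (nat_lit 4) (Steps.fwd (nat_lit 262144) (Steps.bwd (nat_lit 6) (Steps.bwd (nat_lit 1) (Steps.fwd (nat_lit 1048576) (Steps.bwd (nat_lit 1) (Steps.fwd (nat_lit 1572864) Steps.nil))))))) (nat_lit 74) (nat_lit 1),
  Rule.mk (nat_lit 0) (nat_lit 174) (Steps.fwd (nat_lit 262144) (Steps.bwd (nat_lit 2) (Steps.fwd (nat_lit 1835008) (Steps.fwd (nat_lit 262144) (Steps.fwd (nat_lit 786432) (Steps.fwd (nat_lit 262144) (Steps.fwd (nat_lit 1835008) (Steps.bwd (nat_lit 2) Steps.nil)))))))) (nat_lit 72) (nat_lit 5),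
  Rule.mk (nat_lit 0) (nat_lit 74) (Steps.bwd (nat_lit 3) (Steps.fwd (nat_lit 0) (Steps.fwd (nat_lit 786432) Steps.nil))) (nat_lit 108) (nat_lit 0),
  Rule.mk (nat_lit 1) (nat_lit 154) (Steps.fwd (nat_lit 1835008) (Steps.fwd (nat_lit 786432) (Steps.bwd (nat_lit 1) (Steps.fwd (nat_lit 786432) (Steps.bwd (nat_lit 7) (Steps.fwd (nat_lit 262144) (Steps.bwd (nat_lit 2) Steps.nil))))))) (nat_lit 72) (nat_lit 3),
  Rule.mk (nat_lit 1) (nat_lit 154) (Steps.fwd (nat_lit 524288) (Steps.fwd (nat_lit 262144) (Steps.bwd (nat_lit 7) (Steps.fwd (nat_lit 524288) (Steps.fwd (nat_lit 262144) (Steps.bwd (nat_lit 3) (Steps.fwd (nat_lit 1835008) Steps.nil))))))) (nat_lit 73) (nat_lit 6),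
  Rule.mk (nat_lit 4) (nat_lit 154) (Steps.bwd (nat_lit 7) (Steps.bwd (nat_lit 6) (Steps.fwd (nat_lit 524288) (Steps.bwd (nat_lit 4) (Steps.bwd (nat_lit 7) (Steps.fwd (nat_lit 1310720) (Steps.bwd (nat_lit 3) Steps.nil))))))) (nat_lit 89) (nat_lit 1),
  Rule.mk (nat_lit 5) (nat_lit 154) (Steps.bwd (nat_lit 4) (Steps.bwd (nat_lit 7) (Steps.fwd (nat_lit 524288) (Steps.fwd (nat_lit 1572864) (Steps.bwd (nat_lit 4) (Steps.bwd (nat_lit 7) (Steps.fwd (nat_lit 524288) Steps.nil))))))) (nat_lit 91) (nat_lit 5),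
  Rule.mk (nat_lit 3) (nat_lit 154) (Steps.fwd (nat_lit 1835008) (Steps.fwd (nat_lit 1572864) (Steps.fwd (nat_lit 524288) (Steps.bwd (nat_lit 5) (Steps.fwd (nat_lit 1572864) (Steps.fwd (nat_lit 524288) (Steps.bwd (nat_lit 5) Steps.nil))))))) (nat_lit 83) (nat_lit 0),
  Rule.mk (nat_lit 2) (nat_lit 74) (Steps.fwd (nat_lit 1835008) (Steps.bwd (nat_lit 3) (Steps.fwd (nat_lit 1835008) Steps.nil))) (nat_lit 28) (nat_lit 2),
  Rule.mk (nat_lit 4) (nat_lit 154) (Steps.bwd (nat_lit 6) (Steps.bwd (nat_lit 7) (Steps.bwd (nat_lit 2) (Steps.bwd (nat_lit 4) (Steps.fwd (nat_lit 1310720) (Steps.fwd (nat_lit 1835008) (Steps.bwd (nat_lit 2) Steps.nil))))))) (nat_lit 78) (nat_lit 6),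
  Rule.mk (nat_lit 4) (nat_lit 114) (Steps.fwd (nat_lit 1310720) (Steps.bwd (nat_lit 2) (Steps.bwd (nat_lit 4) (Steps.bwd (nat_lit 6) (Steps.fwd (nat_lit 786432) Steps.nil))))) (nat_lit 54) (nat_lit 2),
  Rule.mk (nat_lit 4) (nat_lit 154) (Steps.bwd (nat_lit 5) (Steps.fwd (nat_lit 1835008) (Steps.bwd (nat_lit 2) (Steps.bwd (nat_lit 4) (Steps.bwd (nat_lit 6) (Steps.bwd (nat_lit 7) (Steps.fwd (nat_lit 786432) Steps.nil))))))) (nat_lit 78) (nat_lit 2),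
  Rule.mk (nat_lit 4) (nat_lit 114) (Steps.bwd (nat_lit 7) (Steps.fwd (nat_lit 524288) (Steps.bwd (nat_lit 4) (Steps.bwd (nat_lit 7) (Steps.bwd (nat_lit 3) Steps.nil))))) (nat_lit 65) (nat_lit 1),
  Rule.mk (nat_lit 0) (nat_lit 174) (Steps.bwd (nat_lit 4) (Steps.bwd (nat_lit 7) (Steps.bwd (nat_lit 2) (Steps.fwd (nat_lit 1572864) (Steps.fwd (nat_lit 1048576) (Steps.bwd (nat_lit 7) (Steps.bwd (nat_lit 2) (Steps.fwd (nat_lit 1310720) Steps.nil)))))))) (nat_lit 86) (nat_lit 2),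
  Rule.mk (nat_lit 4) (nat_lit 154) (Steps.bwd (nat_lit 3) (Steps.fwd (nat_lit 1835008) (Steps.fwd (nat_lit 1572864) (Steps.bwd (nat_lit 4) (Steps.fwd (nat_lit 524288) (Steps.bwd (nat_lit 7) (Steps.bwd (nat_lit 5) Steps.nil))))))) (nat_lit 79) (nat_lit 7),
  Rule.mk (nat_lit 2) (nat_lit 114) (Steps.bwd (nat_lit 6) (Steps.bwd (nat_lit 4) (Steps.fwd (nat_lit 786432) (Steps.bwd (nat_lit 5) (Steps.fwd (nat_lit 1048576) Steps.nil))))) (nat_lit 58) (nat_lit 4),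
  Rule.mk (nat_lit 8) (nat_lit 114) (Steps.fwd (nat_lit 786432) (Steps.bwd (nat_lit 1) (Steps.fwd (nat_lit 524288) (Steps.bwd (nat_lit 9) (Steps.fwd (nat_lit 262144) Steps.nil))))) (nat_lit 104) (nat_lit 1),
  Rule.mk (nat_lit 1) (nat_lit 154) (Steps.fwd (nat_lit 786432) (Steps.bwd (nat_lit 1) (Steps.fwd (nat_lit 1835008) (Steps.fwd (nat_lit 786432) (Steps.fwd (nat_lit 262144) (Steps.bwd (nat_lit 2) (Steps.bwd (nat_lit 7) Steps.nil))))))) (nat_lit 72) (nat_lit 1),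
  Rule.mk (nat_lit 3) (nat_lit 154) (Steps.bwd (nat_lit 5) (Steps.bwd (nat_lit 4) (Steps.bwd (nat_lit 7) (Steps.fwd (nat_lit 524288) (Steps.bwd (nat_lit 6) (Steps.fwd (nat_lit 1048576) (Steps.fwd (nat_lit 1835008) Steps.nil))))))) (nat_lit 91) (nat_lit 4),
  Rule.mk (nat_lit 9) (nat_lit 314) (Steps.fwd (nat_lit 1048576) (Steps.fwd (nat_lit 2359296) (Steps.fwd (nat_lit 1048576) (Steps.bwd (nat_lit 9) (Steps.bwd (nat_lit 4) (Steps.fwd (nat_lit 2359296) (Steps.fwd (nat_lit 1048576) (Steps.fwd (nat_lit 2097152) (Steps.bwd (nat_lit 4) (Steps.bwd (nat_lit 8) (Steps.bwd (nat_lit 4) (Steps.fwd (nat_lit 2097152) (Steps.fwd (nat_lit 1048576) (Steps.fwd (nat_lit 2359296) (Steps.fwd (nat_lit 1048576) Steps.nil))))))))))))))) (nat_lit 106) (nat_lit 3),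
  Rule.mk (nat_lit 4) (nat_lit 314) (Steps.bwd (nat_lit 9) (Steps.fwd (nat_lit 1048576) (Steps.bwd (nat_lit 8) (Steps.bwd (nat_lit 4) (Steps.bwd (nat_lit 9) (Steps.fwd (nat_lit 1048576) (Steps.fwd (nat_lit 2359296) (Steps.fwd (nat_lit 1048576) (Steps.bwd (nat_lit 9) (Steps.bwd (nat_lit 4) (Steps.fwd (nat_lit 2359296) (Steps.bwd (nat_lit 4) (Steps.bwd (nat_lit 9) (Steps.fwd (nat_lit 1048576) (Steps.fwd (nat_lit 2359296) Steps.nil))))))))))))))) (nat_lit 106) (nat_lit 2),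
  Rule.mk (nat_lit 4) (nat_lit 114) (Steps.bwd (nat_lit 5) (Steps.bwd (nat_lit 2) (Steps.bwd (nat_lit 4) (Steps.bwd (nat_lit 6) (Steps.fwd (nat_lit 786432) Steps.nil))))) (nat_lit 54) (nat_lit 2),
  Rule.mk (nat_lit 3) (nat_lit 114) (Steps.bwd (nat_lit 5) (Steps.bwd (nat_lit 4) (Steps.fwd (nat_lit 524288) (Steps.bwd (nat_lit 6) (Steps.fwd (nat_lit 1048576) Steps.nil))))) (nat_lit 55) (nat_lit 3),
  Rule.mk (nat_lit 0) (nat_lit 174) (Steps.bwd (nat_lit 4) (Steps.bwd (nat_lit 1) (Steps.bwd (nat_lit 7) (Steps.fwd (nat_lit 1048576) (Steps.bwd (nat_lit 1) (Steps.bwd (nat_lit 4) (Steps.fwd (nat_lit 1835008) (Steps.fwd (nat_lit 262144) Steps.nil)))))))) (nat_lit 76) (nat_lit 1),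
  Rule.mk (nat_lit 2) (nat_lit 54) (Steps.bwd (nat_lit 0) (Steps.bwd (nat_lit 3) Steps.nil)) (nat_lit 108) (nat_lit 0),
  Rule.mk (nat_lit 6) (nat_lit 114) (Steps.bwd (nat_lit 4) (Steps.bwd (nat_lit 7) (Steps.fwd (nat_lit 1310720) (Steps.bwd (nat_lit 4) (Steps.bwd (nat_lit 7) Steps.nil))))) (nat_lit 67) (nat_lit 2),
  Rule.mk (nat_lit 1) (nat_lit 154) (Steps.bwd (nat_lit 4) (Steps.fwd (nat_lit 262144) (Steps.bwd (nat_lit 6) (Steps.fwd (nat_lit 262144) (Steps.bwd (nat_lit 4) (Steps.fwd (nat_lit 262144) (Steps.fwd (nat_lit 1572864) Steps.nil))))))) (nat_lit 74) (nat_lit 1)]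
noncomputable def R_52 : List (Rule) := [Rule.mk (nat_lit 4) (nat_lit 154) (Steps.bwd (nat_lit 1) (Steps.bwd (nat_lit 6) (Steps.bwd (nat_lit 1) (Steps.fwd (nat_lit 1048576) (Steps.bwd (nat_lit 1) (Steps.bwd (nat_lit 6) (Steps.fwd (nat_lit 262144) Steps.nil))))))) (nat_lit 74) (nat_lit 2),
  Rule.mk (nat_lit 1) (nat_lit 274) (Steps.bwd (nat_lit 6) (Steps.fwd (nat_lit 262144) (Steps.fwd (nat_lit 524288) (Steps.fwd (nat_lit 1310720) (Steps.fwd (nat_lit 1572864) (Steps.fwd (nat_lit 262144) (Steps.fwd (nat_lit 1572864) (Steps.fwd (nat_lit 262144) (Steps.fwd (nat_lit 524288) (Steps.fwd (nat_lit 262144) (Steps.bwd (nat_lit 6) (Steps.bwd (nat_lit 1) (Steps.bwd (nat_lit 3) Steps.nil))))))))))))) (nat_lit 35) (nat_lit 11),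
  Rule.mk (nat_lit 6) (nat_lit 274) (Steps.bwd (nat_lit 1) (Steps.fwd (nat_lit 786432) (Steps.fwd (nat_lit 262144) (Steps.fwd (nat_lit 1572864) (Steps.fwd (nat_lit 262144) (Steps.fwd (nat_lit 786432) (Steps.bwd (nat_lit 1) (Steps.bwd (nat_lit 6) (Steps.fwd (nat_lit 262144) (Steps.bwd (nat_lit 6) (Steps.bwd (nat_lit 5) (Steps.fwd (nat_lit 786432) (Steps.bwd (nat_lit 1) Steps.nil))))))))))))) (nat_lit 34) (nat_lit 3),
  Rule.mk (nat_lit 6) (nat_lit 274) (Steps.bwd (nat_lit 1) (Steps.fwd (nat_lit 1572864) (Steps.bwd (nat_lit 5) (Steps.fwd (nat_lit 786432) (Steps.fwd (nat_lit 262144) (Steps.fwd (nat_lit 1572864) (Steps.bwd (nat_lit 1) (Steps.bwd (nat_lit 2) (Steps.bwd (nat_lit 1) (Steps.fwd (nat_lit 1572864) (Steps.bwd (nat_lit 1) (Steps.fwd (nat_lit 786432) (Steps.bwd (nat_lit 1) Steps.nil))))))))))))) (nat_lit 34) (nat_lit 11),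
  Rule.mk (nat_lit 6) (nat_lit 274) (Steps.bwd (nat_lit 1) (Steps.bwd (nat_lit 6) (Steps.fwd (nat_lit 1310720) (Steps.bwd (nat_lit 2) (Steps.bwd (nat_lit 1) (Steps.fwd (nat_lit 1572864) (Steps.fwd (nat_lit 262144) (Steps.bwd (nat_lit 2) (Steps.fwd (nat_lit 262144) (Steps.bwd (nat_lit 6) (Steps.bwd (nat_lit 1) (Steps.bwd (nat_lit 2) (Steps.fwd (nat_lit 262144) Steps.nil))))))))))))) (nat_lit 34) (nat_lit 11),
  Rule.mk (nat_lit 1) (nat_lit 274) (Steps.bwd (nat_lit 6) (Steps.bwd (nat_lit 1) (Steps.fwd (nat_lit 524288) (Steps.bwd (nat_lit 1) (Steps.fwd (nat_lit 1572864) (Steps.fwd (nat_lit 262144) (Steps.bwd (nat_lit 3) (Steps.bwd (nat_lit 1) (Steps.fwd (nat_lit 1572864) (Steps.bwd (nat_lit 1) (Steps.bwd (nat_lit 3) (Steps.fwd (nat_lit 1310720) (Steps.bwd (nat_lit 6) Steps.nil))))))))))))) (nat_lit 35) (nat_lit 3),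
  Rule.mk (nat_lit 6) (nat_lit 274) (Steps.bwd (nat_lit 1) (Steps.fwd (nat_lit 1572864) (Steps.fwd (nat_lit 1310720) (Steps.bwd (nat_lit 2) (Steps.bwd (nat_lit 1) (Steps.fwd (nat_lit 1572864) (Steps.fwd (nat_lit 262144) (Steps.bwd (nat_lit 2) (Steps.bwd (nat_lit 1) (Steps.fwd (nat_lit 1572864) (Steps.fwd (nat_lit 262144) (Steps.fwd (nat_lit 786432) (Steps.fwd (nat_lit 262144) Steps.nil))))))))))))) (nat_lit 34) (nat_lit 11),
  Rule.mk (nat_lit 6) (nat_lit 274) (Steps.bwd (nat_lit 1) (Steps.bwd (nat_lit 3) (Steps.fwd (nat_lit 1310720) (Steps.bwd (nat_lit 6) (Steps.fwd (nat_lit 262144) (Steps.bwd (nat_lit 6) (Steps.bwd (nat_lit 1) (Steps.bwd (nat_lit 3) (Steps.bwd (nat_lit 1) (Steps.fwd (nat_lit 1572864) (Steps.fwd (nat_lit 262144) (Steps.fwd (nat_lit 524288) (Steps.fwd (nat_lit 262144) Steps.nil))))))))))))) (nat_lit 35) (nat_lit 12),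
  Rule.mk (nat_lit 1) (nat_lit 274) (Steps.bwd (nat_lit 6) (Steps.fwd (nat_lit 262144) (Steps.fwd (nat_lit 786432) (Steps.bwd (nat_lit 1) (Steps.fwd (nat_lit 1572864) (Steps.fwd (nat_lit 262144) (Steps.bwd (nat_lit 2) (Steps.fwd (nat_lit 262144) (Steps.fwd (nat_lit 1572864) (Steps.bwd (nat_lit 1) (Steps.fwd (nat_lit 1572864) (Steps.fwd (nat_lit 1310720) (Steps.bwd (nat_lit 2) Steps.nil))))))))))))) (nat_lit 34) (nat_lit 2),
  Rule.mk (nat_lit 6) (nat_lit 274) (Steps.bwd (nat_lit 1) (Steps.bwd (nat_lit 3) (Steps.fwd (nat_lit 1310720) (Steps.bwd (nat_lit 6) (Steps.bwd (nat_lit 1) (Steps.bwd (nat_lit 6) (Steps.fwd (nat_lit 262144) (Steps.bwd (nat_lit 3) (Steps.bwd (nat_lit 1) (Steps.fwd (nat_lit 1572864) (Steps.fwd (nat_lit 262144) (Steps.fwd (nat_lit 524288) (Steps.fwd (nat_lit 262144) Steps.nil))))))))))))) (nat_lit 35) (nat_lit 12),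
  Rule.mk (nat_lit 6) (nat_lit 274) (Steps.bwd (nat_lit 1) (Steps.bwd (nat_lit 3) (Steps.fwd (nat_lit 1310720) (Steps.bwd (nat_lit 6) (Steps.bwd (nat_lit 1) (Steps.bwd (nat_lit 6) (Steps.fwd (nat_lit 262144) (Steps.fwd (nat_lit 524288) (Steps.fwd (nat_lit 262144) (Steps.fwd (nat_lit 1572864) (Steps.fwd (nat_lit 262144) (Steps.fwd (nat_lit 524288) (Steps.fwd (nat_lit 262144) Steps.nil))))))))))))) (nat_lit 35) (nat_lit 12),
  Rule.mk (nat_lit 4) (nat_lit 154) (Steps.fwd (nat_lit 262144) (Steps.bwd (nat_lit 6) (Steps.fwd (nat_lit 262144) (Steps.fwd (nat_lit 1048576) (Steps.bwd (nat_lit 1) (Steps.bwd (nat_lit 6) (Steps.fwd (nat_lit 262144) Steps.nil))))))) (nat_lit 74) (nat_lit 2),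
  Rule.mk (nat_lit 0) (nat_lit 94) (Steps.bwd (nat_lit 4) (Steps.bwd (nat_lit 5) (Steps.bwd (nat_lit 4) (Steps.bwd (nat_lit 6) Steps.nil)))) (nat_lit 22) (nat_lit 0),
  Rule.mk (nat_lit 4) (nat_lit 114) (Steps.fwd (nat_lit 524288) (Steps.bwd (nat_lit 5) (Steps.bwd (nat_lit 4) (Steps.bwd (nat_lit 3) (Steps.fwd (nat_lit 1572864) Steps.nil))))) (nat_lit 55) (nat_lit 2),
  Rule.mk (nat_lit 4) (nat_lit 114) (Steps.fwd (nat_lit 524288) (Steps.bwd (nat_lit 7) (Steps.bwd (nat_lit 4) (Steps.bwd (nat_lit 3) (Steps.fwd (nat_lit 1835008) Steps.nil))))) (nat_lit 57) (nat_lit 2),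
  Rule.mk (nat_lit 0) (nat_lit 174) (Steps.bwd (nat_lit 4) (Steps.bwd (nat_lit 6) (Steps.bwd (nat_lit 7) (Steps.fwd (nat_lit 786432) (Steps.fwd (nat_lit 1048576) (Steps.fwd (nat_lit 1310720) (Steps.bwd (nat_lit 7) (Steps.bwd (nat_lit 2) Steps.nil)))))))) (nat_lit 78) (nat_lit 5),
  Rule.mk (nat_lit 0) (nat_lit 174) (Steps.bwd (nat_lit 4) (Steps.bwd (nat_lit 7) (Steps.bwd (nat_lit 5) (Steps.fwd (nat_lit 786432) (Steps.fwd (nat_lit 1048576) (Steps.fwd (nat_lit 1835008) (Steps.fwd (nat_lit 1572864) (Steps.fwd (nat_lit 786432) Steps.nil)))))))) (nat_lit 80) (nat_lit 1),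
  Rule.mk (nat_lit 7) (nat_lit 54) (Steps.bwd (nat_lit 0) (Steps.bwd (nat_lit 7) Steps.nil)) (nat_lit 108) (nat_lit 0),
  Rule.mk (nat_lit 4) (nat_lit 114) (Steps.fwd (nat_lit 1835008) (Steps.bwd (nat_lit 2) (Steps.bwd (nat_lit 4) (Steps.bwd (nat_lit 7) (Steps.fwd (nat_lit 786432) Steps.nil))))) (nat_lit 56) (nat_lit 2),
  Rule.mk (nat_lit 4) (nat_lit 114) (Steps.fwd (nat_lit 1835008) (Steps.fwd (nat_lit 524288) (Steps.bwd (nat_lit 4) (Steps.bwd (nat_lit 7) (Steps.fwd (nat_lit 524288) Steps.nil))))) (nat_lit 65) (nat_lit 1),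
  Rule.mk (nat_lit 1) (nat_lit 274) (Steps.bwd (nat_lit 6) (Steps.bwd (nat_lit 1) (Steps.fwd (nat_lit 524288) (Steps.fwd (nat_lit 262144) (Steps.fwd (nat_lit 1572864) (Steps.fwd (nat_lit 262144) (Steps.bwd (nat_lit 3) (Steps.bwd (nat_lit 1) (Steps.fwd (nat_lit 1572864) (Steps.fwd (nat_lit 262144) (Steps.fwd (nat_lit 524288) (Steps.bwd (nat_lit 5) (Steps.bwd (nat_lit 6) Steps.nil))))))))))))) (nat_lit 35) (nat_lit 3),
  Rule.mk (nat_lit 6) (nat_lit 274) (Steps.bwd (nat_lit 1) (Steps.fwd (nat_lit 524288) (Steps.bwd (nat_lit 5) (Steps.bwd (nat_lit 6) (Steps.bwd (nat_lit 1) (Steps.bwd (nat_lit 6) (Steps.fwd (nat_lit 262144) (Steps.bwd (nat_lit 3) (Steps.fwd (nat_lit 262144) (Steps.bwd (nat_lit 6) (Steps.fwd (nat_lit 262144) (Steps.fwd (nat_lit 524288) (Steps.fwd (nat_lit 262144) Steps.nil))))))))))))) (nat_lit 35) (nat_lit 12),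
  Rule.mk (nat_lit 6) (nat_lit 274) (Steps.bwd (nat_lit 1) (Steps.bwd (nat_lit 6) (Steps.fwd (nat_lit 1310720) (Steps.fwd (nat_lit 786432) (Steps.fwd (nat_lit 262144) (Steps.fwd (nat_lit 1572864) (Steps.fwd (nat_lit 262144) (Steps.bwd (nat_lit 2) (Steps.bwd (nat_lit 1) (Steps.bwd (nat_lit 6) (Steps.fwd (nat_lit 262144) (Steps.fwd (nat_lit 786432) (Steps.fwd (nat_lit 262144) Steps.nil))))))))))))) (nat_lit 34) (nat_lit 11),
  Rule.mk (nat_lit 7) (nat_lit 94) (Steps.bwd (nat_lit 5) (Steps.fwd (nat_lit 2359296) (Steps.fwd (nat_lit 1310720) (Steps.bwd (nat_lit 9) Steps.nil)))) (nat_lit 101) (nat_lit 1),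
  Rule.mk (nat_lit 0) (nat_lit 174) (Steps.fwd (nat_lit 262144) (Steps.bwd (nat_lit 4) (Steps.bwd (nat_lit 7) (Steps.fwd (nat_lit 262144) (Steps.fwd (nat_lit 1048576) (Steps.bwd (nat_lit 1) (Steps.bwd (nat_lit 7) (Steps.fwd (nat_lit 1048576) Steps.nil)))))))) (nat_lit 76) (nat_lit 5),
  Rule.mk (nat_lit 0) (nat_lit 114) (Steps.bwd (nat_lit 8) (Steps.bwd (nat_lit 5) (Steps.fwd (nat_lit 2097152) (Steps.fwd (nat_lit 1310720) (Steps.bwd (nat_lit 7) Steps.nil))))) (nat_lit 100) (nat_lit 0),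
  Rule.mk (nat_lit 2) (nat_lit 114) (Steps.fwd (nat_lit 1572864) (Steps.bwd (nat_lit 7) (Steps.fwd (nat_lit 524288) (Steps.bwd (nat_lit 6) (Steps.fwd (nat_lit 1835008) Steps.nil))))) (nat_lit 62) (nat_lit 1),
  Rule.mk (nat_lit 4) (nat_lit 114) (Steps.bwd (nat_lit 7) (Steps.bwd (nat_lit 6) (Steps.bwd (nat_lit 4) (Steps.fwd (nat_lit 1835008) (Steps.fwd (nat_lit 1310720) Steps.nil))))) (nat_lit 67) (nat_lit 0),
  Rule.mk (nat_lit 4) (nat_lit 154) (Steps.bwd (nat_lit 5) (Steps.bwd (nat_lit 7) (Steps.fwd (nat_lit 786432) (Steps.bwd (nat_lit 4) (Steps.bwd (nat_lit 6) (Steps.fwd (nat_lit 1835008) (Steps.bwd (nat_lit 2) Steps.nil))))))) (nat_lit 78) (nat_lit 2),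
  Rule.mk (nat_lit 4) (nat_lit 154) (Steps.fwd (nat_lit 524288) (Steps.bwd (nat_lit 7) (Steps.bwd (nat_lit 6) (Steps.bwd (nat_lit 4) (Steps.bwd (nat_lit 3) (Steps.fwd (nat_lit 1835008) (Steps.bwd (nat_lit 5) Steps.nil))))))) (nat_lit 79) (nat_lit 7),
  Rule.mk (nat_lit 4) (nat_lit 154) (Steps.fwd (nat_lit 1310720) (Steps.bwd (nat_lit 3) (Steps.fwd (nat_lit 1835008) (Steps.bwd (nat_lit 4) (Steps.bwd (nat_lit 6) (Steps.fwd (nat_lit 524288) (Steps.bwd (nat_lit 7) Steps.nil))))))) (nat_lit 87) (nat_lit 6),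
  Rule.mk (nat_lit 1) (nat_lit 154) (Steps.fwd (nat_lit 1835008) (Steps.bwd (nat_lit 4) (Steps.fwd (nat_lit 262144) (Steps.fwd (nat_lit 1048576) (Steps.bwd (nat_lit 7) (Steps.bwd (nat_lit 1) (Steps.fwd (nat_lit 1048576) Steps.nil))))))) (nat_lit 76) (nat_lit 3),
  Rule.mk (nat_lit 0) (nat_lit 174) (Steps.bwd (nat_lit 4) (Steps.fwd (nat_lit 262144) (Steps.fwd (nat_lit 1572864) (Steps.fwd (nat_lit 262144) (Steps.bwd (nat_lit 4) (Steps.bwd (nat_lit 1) (Steps.bwd (nat_lit 6) (Steps.fwd (nat_lit 262144) Steps.nil)))))))) (nat_lit 74) (nat_lit 1),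
  Rule.mk (nat_lit 0) (nat_lit 74) (Steps.bwd (nat_lit 3) (Steps.fwd (nat_lit 0) (Steps.bwd (nat_lit 2) Steps.nil))) (nat_lit 108) (nat_lit 0),
  Rule.mk (nat_lit 0) (nat_lit 74) (Steps.bwd (nat_lit 9) (Steps.fwd (nat_lit 0) (Steps.bwd (nat_lit 8) Steps.nil))) (nat_lit 108) (nat_lit 0),
  Rule.mk (nat_lit 1) (nat_lit 154) (Steps.bwd (nat_lit 4) (Steps.bwd (nat_lit 7) (Steps.bwd (nat_lit 1) (Steps.fwd (nat_lit 1048576) (Steps.bwd (nat_lit 1) (Steps.fwd (nat_lit 1835008) (Steps.fwd (nat_lit 1048576) Steps.nil))))))) (nat_lit 76) (nat_lit 6),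
  Rule.mk (nat_lit 0) (nat_lit 334) (Steps.bwd (nat_lit 4) (Steps.bwd (nat_lit 8) (Steps.bwd (nat_lit 4) (Steps.fwd (nat_lit 2097152) (Steps.bwd (nat_lit 4) (Steps.bwd (nat_lit 8) (Steps.fwd (nat_lit 1048576) (Steps.fwd (nat_lit 2097152) (Steps.bwd (nat_lit 4) (Steps.bwd (nat_lit 8) (Steps.fwd (nat_lit 1048576) (Steps.fwd (nat_lit 2097152) (Steps.bwd (nat_lit 4) (Steps.bwd (nat_lit 8) (Steps.fwd (nat_lit 1048576) (Steps.fwd (nat_lit 2097152) Steps.nil)))))))))))))))) (nat_lit 106) (nat_lit 3),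
  Rule.mk (nat_lit 0) (nat_lit 74) (Steps.fwd (nat_lit 524288) (Steps.bwd (nat_lit 0) (Steps.fwd (nat_lit 786432) Steps.nil))) (nat_lit 108) (nat_lit 0),
  Rule.mk (nat_lit 0) (nat_lit 74) (Steps.bwd (nat_lit 3) (Steps.bwd (nat_lit 0) (Steps.fwd (nat_lit 786432) Steps.nil))) (nat_lit 108) (nat_lit 0),
  Rule.mk (nat_lit 4) (nat_lit 114) (Steps.bwd (nat_lit 3) (Steps.fwd (nat_lit 1572864) (Steps.bwd (nat_lit 4) (Steps.bwd (nat_lit 3) (Steps.fwd (nat_lit 1310720) Steps.nil))))) (nat_lit 55) (nat_lit 5),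
  Rule.mk (nat_lit 4) (nat_lit 154) (Steps.bwd (nat_lit 7) (Steps.bwd (nat_lit 5) (Steps.fwd (nat_lit 786432) (Steps.bwd (nat_lit 4) (Steps.fwd (nat_lit 1835008) (Steps.fwd (nat_lit 1572864) (Steps.bwd (nat_lit 2) Steps.nil))))))) (nat_lit 80) (nat_lit 2),
  Rule.mk (nat_lit 0) (nat_lit 134) (Steps.bwd (nat_lit 4) (Steps.bwd (nat_lit 3) (Steps.fwd (nat_lit 1572864) (Steps.fwd (nat_lit 1048576) (Steps.fwd (nat_lit 524288) (Steps.fwd (nat_lit 1310720) Steps.nil)))))) (nat_lit 55) (nat_lit 4),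
  Rule.mk (nat_lit 3) (nat_lit 114) (Steps.fwd (nat_lit 1835008) (Steps.bwd (nat_lit 4) (Steps.bwd (nat_lit 3) (Steps.fwd (nat_lit 1835008) (Steps.fwd (nat_lit 1048576) Steps.nil))))) (nat_lit 57) (nat_lit 0),
  Rule.mk (nat_lit 3) (nat_lit 154) (Steps.fwd (nat_lit 1835008) (Steps.fwd (nat_lit 1310720) (Steps.bwd (nat_lit 4) (Steps.bwd (nat_lit 3) (Steps.fwd (nat_lit 1835008) (Steps.fwd (nat_lit 1572864) (Steps.fwd (nat_lit 1048576) Steps.nil))))))) (nat_lit 79) (nat_lit 4),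
  Rule.mk (nat_lit 1) (nat_lit 274) (Steps.bwd (nat_lit 6) (Steps.bwd (nat_lit 1) (Steps.bwd (nat_lit 6) (Steps.bwd (nat_lit 5) (Steps.fwd (nat_lit 786432) (Steps.fwd (nat_lit 262144) (Steps.fwd (nat_lit 1572864) (Steps.fwd (nat_lit 262144) (Steps.fwd (nat_lit 786432) (Steps.bwd (nat_lit 1) (Steps.fwd (nat_lit 1572864) (Steps.bwd (nat_lit 1) (Steps.bwd (nat_lit 2) Steps.nil))))))))))))) (nat_lit 34) (nat_lit 10),
  Rule.mk (nat_lit 0) (nat_lit 174) (Steps.bwd (nat_lit 4) (Steps.bwd (nat_lit 1) (Steps.fwd (nat_lit 1572864) (Steps.fwd (nat_lit 262144) (Steps.fwd (nat_lit 1048576) (Steps.bwd (nat_lit 1) (Steps.bwd (nat_lit 6) (Steps.bwd (nat_lit 1) Steps.nil)))))))) (nat_lit 74) (nat_lit 1),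
  Rule.mk (nat_lit 0) (nat_lit 74) (Steps.fwd (nat_lit 2097152) (Steps.fwd (nat_lit 0) (Steps.fwd (nat_lit 2359296) Steps.nil))) (nat_lit 108) (nat_lit 0),
  Rule.mk (nat_lit 0) (nat_lit 74) (Steps.fwd (nat_lit 2097152) (Steps.bwd (nat_lit 0) (Steps.fwd (nat_lit 2359296) Steps.nil))) (nat_lit 108) (nat_lit 0),
  Rule.mk (nat_lit 0) (nat_lit 74) (Steps.bwd (nat_lit 5) (Steps.fwd (nat_lit 0) (Steps.bwd (nat_lit 5) Steps.nil))) (nat_lit 108) (nat_lit 0),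
  Rule.mk (nat_lit 1) (nat_lit 154) (Steps.fwd (nat_lit 524288) (Steps.bwd (nat_lit 1) (Steps.bwd (nat_lit 2) (Steps.bwd (nat_lit 1) (Steps.fwd (nat_lit 524288) (Steps.fwd (nat_lit 262144) (Steps.bwd (nat_lit 2) Steps.nil))))))) (nat_lit 68) (nat_lit 3),
  Rule.mk (nat_lit 0) (nat_lit 174) (Steps.bwd (nat_lit 4) (Steps.bwd (nat_lit 1) (Steps.fwd (nat_lit 1572864) (Steps.fwd (nat_lit 262144) (Steps.fwd (nat_lit 1048576) (Steps.bwd (nat_lit 1) (Steps.fwd (nat_lit 1572864) (Steps.bwd (nat_lit 1) Steps.nil)))))))) (nat_lit 74) (nat_lit 1),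
  Rule.mk (nat_lit 0) (nat_lit 94) (Steps.fwd (nat_lit 786432) (Steps.bwd (nat_lit 4) (Steps.fwd (nat_lit 786432) (Steps.fwd (nat_lit 1048576) Steps.nil)))) (nat_lit 14) (nat_lit 1),
  Rule.mk (nat_lit 0) (nat_lit 74) (Steps.fwd (nat_lit 786432) (Steps.fwd (nat_lit 0) (Steps.fwd (nat_lit 524288) Steps.nil))) (nat_lit 108) (nat_lit 0),
  Rule.mk (nat_lit 4) (nat_lit 154) (Steps.bwd (nat_lit 1) (Steps.bwd (nat_lit 7) (Steps.fwd (nat_lit 1048576) (Steps.bwd (nat_lit 1) (Steps.fwd (nat_lit 1048576) (Steps.fwd (nat_lit 1835008) (Steps.fwd (nat_lit 262144) Steps.nil))))))) (nat_lit 76) (nat_lit 2),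
  Rule.mk (nat_lit 4) (nat_lit 154) (Steps.fwd (nat_lit 262144) (Steps.bwd (nat_lit 6) (Steps.bwd (nat_lit 1) (Steps.fwd (nat_lit 1048576) (Steps.bwd (nat_lit 1) (Steps.bwd (nat_lit 6) (Steps.fwd (nat_lit 262144) Steps.nil))))))) (nat_lit 74) (nat_lit 2),
  Rule.mk (nat_lit 0) (nat_lit 134) (Steps.bwd (nat_lit 4) (Steps.bwd (nat_lit 1) (Steps.fwd (nat_lit 1048576) (Steps.bwd (nat_lit 1) (Steps.fwd (nat_lit 1048576) (Steps.fwd (nat_lit 262144) Steps.nil)))))) (nat_lit 16) (nat_lit 1),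
  Rule.mk (nat_lit 3) (nat_lit 154) (Steps.bwd (nat_lit 7) (Steps.fwd (nat_lit 1310720) (Steps.bwd (nat_lit 4) (Steps.bwd (nat_lit 3) (Steps.fwd (nat_lit 1835008) (Steps.fwd (nat_lit 1572864) (Steps.bwd (nat_lit 4) Steps.nil))))))) (nat_lit 79) (nat_lit 4),
  Rule.mk (nat_lit 3) (nat_lit 154) (Steps.fwd (nat_lit 1835008) (Steps.bwd (nat_lit 6) (Steps.bwd (nat_lit 4) (Steps.bwd (nat_lit 3) (Steps.fwd (nat_lit 1835008) (Steps.fwd (nat_lit 1310720) (Steps.bwd (nat_lit 4) Steps.nil))))))) (nat_lit 79) (nat_lit 0),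
  Rule.mk (nat_lit 0) (nat_lit 134) (Steps.fwd (nat_lit 2359296) (Steps.fwd (nat_lit 786432) (Steps.bwd (nat_lit 1) (Steps.fwd (nat_lit 524288) (Steps.fwd (nat_lit 2097152) (Steps.fwd (nat_lit 262144) Steps.nil)))))) (nat_lit 104) (nat_lit 0),
  Rule.mk (nat_lit 1) (nat_lit 114) (Steps.bwd (nat_lit 5) (Steps.bwd (nat_lit 7) (Steps.bwd (nat_lit 1) (Steps.bwd (nat_lit 5) (Steps.bwd (nat_lit 7) Steps.nil))))) (nat_lit 52) (nat_lit 1),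
  Rule.mk (nat_lit 0) (nat_lit 134) (Steps.bwd (nat_lit 1) (Steps.bwd (nat_lit 8) (Steps.bwd (nat_lit 2) (Steps.fwd (nat_lit 262144) (Steps.bwd (nat_lit 3) (Steps.bwd (nat_lit 9) Steps.nil)))))) (nat_lit 104) (nat_lit 5),
  Rule.mk (nat_lit 1) (nat_lit 274) (Steps.bwd (nat_lit 6) (Steps.bwd (nat_lit 1) (Steps.bwd (nat_lit 3) (Steps.fwd (nat_lit 262144) (Steps.fwd (nat_lit 1572864) (Steps.fwd (nat_lit 262144) (Steps.fwd (nat_lit 524288) (Steps.bwd (nat_lit 1) (Steps.bwd (nat_lit 6) (Steps.fwd (nat_lit 262144) (Steps.bwd (nat_lit 3) (Steps.bwd (nat_lit 5) (Steps.bwd (nat_lit 6) Steps.nil))))))))))))) (nat_lit 35) (nat_lit 3),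
  Rule.mk (nat_lit 1) (nat_lit 114) (Steps.fwd (nat_lit 524288) (Steps.bwd (nat_lit 9) (Steps.fwd (nat_lit 262144) (Steps.bwd (nat_lit 8) (Steps.bwd (nat_lit 2) Steps.nil))))) (nat_lit 104) (nat_lit 3),
  Rule.mk (nat_lit 6) (nat_lit 274) (Steps.bwd (nat_lit 1) (Steps.fwd (nat_lit 786432) (Steps.bwd (nat_lit 1) (Steps.fwd (nat_lit 1572864) (Steps.bwd (nat_lit 1) (Steps.fwd (nat_lit 786432) (Steps.fwd (nat_lit 262144) (Steps.fwd (nat_lit 1572864) (Steps.bwd (nat_lit 1) (Steps.fwd (nat_lit 1572864) (Steps.bwd (nat_lit 5) (Steps.fwd (nat_lit 786432) (Steps.fwd (nat_lit 262144) Steps.nil))))))))))))) (nat_lit 34) (nat_lit 3)]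
noncomputable def R_53 : List (Rule) := [Rule.mk (nat_lit 1) (nat_lit 274) (Steps.bwd (nat_lit 6) (Steps.bwd (nat_lit 1) (Steps.bwd (nat_lit 3) (Steps.fwd (nat_lit 262144) (Steps.fwd (nat_lit 1572864) (Steps.fwd (nat_lit 262144) (Steps.fwd (nat_lit 524288) (Steps.bwd (nat_lit 1) (Steps.fwd (nat_lit 1572864) (Steps.fwd (nat_lit 262144) (Steps.bwd (nat_lit 3) (Steps.bwd (nat_lit 5) (Steps.bwd (nat_lit 6) Steps.nil))))))))))))) (nat_lit 35) (nat_lit 3),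
  Rule.mk (nat_lit 9) (nat_lit 314) (Steps.bwd (nat_lit 4) (Steps.bwd (nat_lit 8) (Steps.fwd (nat_lit 1048576) (Steps.bwd (nat_lit 9) (Steps.bwd (nat_lit 4) (Steps.bwd (nat_lit 8) (Steps.bwd (nat_lit 4) (Steps.fwd (nat_lit 2097152) (Steps.bwd (nat_lit 4) (Steps.fwd (nat_lit 2359296) (Steps.fwd (nat_lit 1048576) (Steps.fwd (nat_lit 2097152) (Steps.fwd (nat_lit 1048576) (Steps.fwd (nat_lit 2359296) (Steps.fwd (nat_lit 1048576) Steps.nil))))))))))))))) (nat_lit 106) (nat_lit 3),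
  Rule.mk (nat_lit 6) (nat_lit 274) (Steps.bwd (nat_lit 1) (Steps.fwd (nat_lit 524288) (Steps.bwd (nat_lit 5) (Steps.bwd (nat_lit 6) (Steps.bwd (nat_lit 1) (Steps.fwd (nat_lit 1572864) (Steps.fwd (nat_lit 262144) (Steps.bwd (nat_lit 3) (Steps.fwd (nat_lit 262144) (Steps.bwd (nat_lit 6) (Steps.fwd (nat_lit 262144) (Steps.fwd (nat_lit 524288) (Steps.fwd (nat_lit 262144) Steps.nil))))))))))))) (nat_lit 35) (nat_lit 12),
  Rule.mk (nat_lit 6) (nat_lit 274) (Steps.bwd (nat_lit 1) (Steps.bwd (nat_lit 3) (Steps.bwd (nat_lit 5) (Steps.bwd (nat_lit 6) (Steps.fwd (nat_lit 262144) (Steps.bwd (nat_lit 6) (Steps.bwd (nat_lit 1) (Steps.fwd (nat_lit 524288) (Steps.bwd (nat_lit 1) (Steps.bwd (nat_lit 6) (Steps.fwd (nat_lit 262144) (Steps.bwd (nat_lit 3) (Steps.fwd (nat_lit 262144) Steps.nil))))))))))))) (nat_lit 35) (nat_lit 12),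
  Rule.mk (nat_lit 4) (nat_lit 314) (Steps.bwd (nat_lit 8) (Steps.bwd (nat_lit 4) (Steps.bwd (nat_lit 9) (Steps.bwd (nat_lit 4) (Steps.bwd (nat_lit 8) (Steps.bwd (nat_lit 4) (Steps.fwd (nat_lit 2097152) (Steps.fwd (nat_lit 1048576) (Steps.fwd (nat_lit 2359296) (Steps.fwd (nat_lit 1048576) (Steps.fwd (nat_lit 2097152) (Steps.fwd (nat_lit 1048576) (Steps.bwd (nat_lit 8) (Steps.bwd (nat_lit 4) (Steps.bwd (nat_lit 9) Steps.nil))))))))))))))) (nat_lit 106) (nat_lit 0),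
  Rule.mk (nat_lit 4) (nat_lit 314) (Steps.bwd (nat_lit 8) (Steps.bwd (nat_lit 4) (Steps.bwd (nat_lit 9) (Steps.fwd (nat_lit 1048576) (Steps.fwd (nat_lit 2359296) (Steps.bwd (nat_lit 4) (Steps.bwd (nat_lit 9) (Steps.fwd (nat_lit 1048576) (Steps.bwd (nat_lit 8) (Steps.bwd (nat_lit 4) (Steps.bwd (nat_lit 9) (Steps.bwd (nat_lit 4) (Steps.fwd (nat_lit 2359296) (Steps.fwd (nat_lit 1048576) (Steps.fwd (nat_lit 2097152) Steps.nil))))))))))))))) (nat_lit 106) (nat_lit 0),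
  Rule.mk (nat_lit 4) (nat_lit 314) (Steps.fwd (nat_lit 2359296) (Steps.bwd (nat_lit 4) (Steps.fwd (nat_lit 2097152) (Steps.bwd (nat_lit 4) (Steps.fwd (nat_lit 2359296) (Steps.fwd (nat_lit 1048576) (Steps.bwd (nat_lit 9) (Steps.bwd (nat_lit 4) (Steps.bwd (nat_lit 8) (Steps.bwd (nat_lit 4) (Steps.bwd (nat_lit 9) (Steps.fwd (nat_lit 1048576) (Steps.fwd (nat_lit 2359296) (Steps.fwd (nat_lit 1048576) (Steps.fwd (nat_lit 2097152) Steps.nil))))))))))))))) (nat_lit 106) (nat_lit 0),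
  Rule.mk (nat_lit 1) (nat_lit 274) (Steps.fwd (nat_lit 786432) (Steps.bwd (nat_lit 1) (Steps.fwd (nat_lit 1572864) (Steps.fwd (nat_lit 262144) (Steps.bwd (nat_lit 2) (Steps.fwd (nat_lit 262144) (Steps.bwd (nat_lit 6) (Steps.bwd (nat_lit 1) (Steps.fwd (nat_lit 1572864) (Steps.fwd (nat_lit 1310720) (Steps.bwd (nat_lit 2) (Steps.fwd (nat_lit 262144) (Steps.bwd (nat_lit 6) Steps.nil))))))))))))) (nat_lit 34) (nat_lit 4),
  Rule.mk (nat_lit 6) (nat_lit 154) (Steps.bwd (nat_lit 1) (Steps.bwd (nat_lit 4) (Steps.fwd (nat_lit 262144) (Steps.fwd (nat_lit 1572864) (Steps.fwd (nat_lit 262144) (Steps.fwd (nat_lit 1048576) (Steps.bwd (nat_lit 1) Steps.nil))))))) (nat_lit 74) (nat_lit 0),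
  Rule.mk (nat_lit 6) (nat_lit 274) (Steps.bwd (nat_lit 1) (Steps.bwd (nat_lit 2) (Steps.bwd (nat_lit 1) (Steps.bwd (nat_lit 6) (Steps.bwd (nat_lit 1) (Steps.fwd (nat_lit 786432) (Steps.fwd (nat_lit 262144) (Steps.fwd (nat_lit 1572864) (Steps.bwd (nat_lit 1) (Steps.bwd (nat_lit 6) (Steps.bwd (nat_lit 5) (Steps.fwd (nat_lit 786432) (Steps.fwd (nat_lit 262144) Steps.nil))))))))))))) (nat_lit 34) (nat_lit 3),
  Rule.mk (nat_lit 8) (nat_lit 314) (Steps.bwd (nat_lit 4) (Steps.bwd (nat_lit 9) (Steps.bwd (nat_lit 4) (Steps.fwd (nat_lit 2359296) (Steps.fwd (nat_lit 1048576) (Steps.bwd (nat_lit 9) (Steps.bwd (nat_lit 4) (Steps.fwd (nat_lit 2359296) (Steps.bwd (nat_lit 4) (Steps.bwd (nat_lit 9) (Steps.fwd (nat_lit 1048576) (Steps.fwd (nat_lit 2359296) (Steps.fwd (nat_lit 1048576) (Steps.fwd (nat_lit 2097152) (Steps.fwd (nat_lit 1048576) Steps.nil))))))))))))))) (nat_lit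 106) (nat_lit 1),
  Rule.mk (nat_lit 1) (nat_lit 274) (Steps.bwd (nat_lit 6) (Steps.bwd (nat_lit 5) (Steps.bwd (nat_lit 2) (Steps.bwd (nat_lit 1) (Steps.bwd (nat_lit 6) (Steps.bwd (nat_lit 1) (Steps.bwd (nat_lit 2) (Steps.fwd (nat_lit 262144) (Steps.fwd (nat_lit 1572864) (Steps.fwd (nat_lit 262144) (Steps.bwd (nat_lit 2) (Steps.bwd (nat_lit 1) (Steps.bwd (nat_lit 6) Steps.nil))))))))))))) (nat_lit 34) (nat_lit 12),
  Rule.mk (nat_lit 6) (nat_lit 274) (Steps.bwd (nat_lit 1) (Steps.fwd (nat_lit 1572864) (Steps.fwd (nat_lit 1310720) (Steps.fwd (nat_lit 786432) (Steps.fwd (nat_lit 262144) (Steps.fwd (nat_lit 1572864) (Steps.bwd (nat_lit 1) (Steps.bwd (nat_lit 2) (Steps.bwd (nat_lit 1) (Steps.bwd (nat_lit 6) (Steps.fwd (nat_lit 262144) (Steps.fwd (nat_lit 786432) (Steps.fwd (nat_lit 262144) Steps.nil))))))))))))) (nat_lit 34) (nat_lit 11),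
  Rule.mk (nat_lit 6) (nat_lit 274) (Steps.bwd (nat_lit 1) (Steps.fwd (nat_lit 524288) (Steps.fwd (nat_lit 1310720) (Steps.bwd (nat_lit 6) (Steps.fwd (nat_lit 262144) (Steps.fwd (nat_lit 1572864) (Steps.fwd (nat_lit 262144) (Steps.fwd (nat_lit 524288) (Steps.bwd (nat_lit 1) (Steps.bwd (nat_lit 6) (Steps.bwd (nat_lit 1) (Steps.fwd (nat_lit 524288) (Steps.fwd (nat_lit 262144) Steps.nil))))))))))))) (nat_lit 35) (nat_lit 12),
  Rule.mk (nat_lit 1) (nat_lit 274) (Steps.bwd (nat_lit 6) (Steps.bwd (nat_lit 1) (Steps.fwd (nat_lit 524288) (Steps.fwd (nat_lit 262144) (Steps.fwd (nat_lit 1572864) (Steps.fwd (nat_lit 262144) (Steps.fwd (nat_lit 524288) (Steps.bwd (nat_lit 1) (Steps.bwd (nat_lit 6) (Steps.bwd (nat_lit 1) (Steps.fwd (nat_lit 524288) (Steps.bwd (nat_lit 5) (Steps.bwd (nat_lit 6) Steps.nil))))))))))))) (nat_lit 35) (nat_lit 3),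
  Rule.mk (nat_lit 6) (nat_lit 274) (Steps.bwd (nat_lit 1) (Steps.fwd (nat_lit 786432) (Steps.bwd (nat_lit 1) (Steps.bwd (nat_lit 6) (Steps.fwd (nat_lit 262144) (Steps.bwd (nat_lit 2) (Steps.fwd (nat_lit 262144) (Steps.fwd (nat_lit 1572864) (Steps.bwd (nat_lit 1) (Steps.bwd (nat_lit 6) (Steps.bwd (nat_lit 5) (Steps.fwd (nat_lit 786432) (Steps.fwd (nat_lit 262144) Steps.nil))))))))))))) (nat_lit 34) (nat_lit 3),
  Rule.mk (nat_lit 4) (nat_lit 314) (Steps.bwd (nat_lit 9) (Steps.bwd (nat_lit 4) (Steps.fwd (nat_lit 2359296) (Steps.fwd (nat_lit 1048576) (Steps.fwd (nat_lit 2097152) (Steps.bwd (nat_lit 4) (Steps.fwd (nat_lit 2359296) (Steps.fwd (nat_lit 1048576) (Steps.fwd (nat_lit 2097152) (Steps.bwd (nat_lit 4) (Steps.fwd (nat_lit 2359296) (Steps.bwd (nat_lit 4) (Steps.bwd (nat_lit 9) (Steps.fwd (nat_lit 1048576) (Steps.fwd (nat_lit 2359296) Steps.nil)))))))))))))))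 (nat_lit 106) (nat_lit 2),
  Rule.mk (nat_lit 6) (nat_lit 274) (Steps.bwd (nat_lit 1) (Steps.fwd (nat_lit 524288) (Steps.fwd (nat_lit 262144) (Steps.fwd (nat_lit 1572864) (Steps.fwd (nat_lit 262144) (Steps.fwd (nat_lit 524288) (Steps.fwd (nat_lit 262144) (Steps.fwd (nat_lit 1572864) (Steps.bwd (nat_lit 1) (Steps.bwd (nat_lit 3) (Steps.fwd (nat_lit 1310720) (Steps.fwd (nat_lit 1572864) (Steps.fwd (nat_lit 262144) Steps.nil))))))))))))) (nat_lit 35) (nat_lit 4),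
  Rule.mk (nat_lit 1) (nat_lit 274) (Steps.bwd (nat_lit 6) (Steps.fwd (nat_lit 262144) (Steps.fwd (nat_lit 524288) (Steps.fwd (nat_lit 1310720) (Steps.fwd (nat_lit 1572864) (Steps.bwd (nat_lit 1) (Steps.bwd (nat_lit 6) (Steps.fwd (nat_lit 262144) (Steps.bwd (nat_lit 3) (Steps.fwd (nat_lit 262144) (Steps.bwd (nat_lit 6) (Steps.bwd (nat_lit 1) (Steps.bwd (nat_lit 3) Steps.nil))))))))))))) (nat_lit 35) (nat_lit 11),
  Rule.mk (nat_lit 1) (nat_lit 274) (Steps.bwd (nat_lit 6) (Steps.fwd (nat_lit 262144) (Steps.bwd (nat_lit 6) (Steps.fwd (nat_lit 1310720) (Steps.bwd (nat_lit 2) (Steps.bwd (nat_lit 1) (Steps.bwd (nat_lit 6) (Steps.bwd (nat_lit 1) (Steps.bwd (nat_lit 2) (Steps.fwd (nat_lit 262144) (Steps.fwd (nat_lit 1572864) (Steps.bwd (nat_lit 1) (Steps.bwd (nat_lit 2) Steps.nil))))))))))))) (nat_lit 34) (nat_lit 10),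
  Rule.mk (nat_lit 6) (nat_lit 274) (Steps.bwd (nat_lit 1) (Steps.fwd (nat_lit 524288) (Steps.fwd (nat_lit 1310720) (Steps.fwd (nat_lit 1572864) (Steps.fwd (nat_lit 262144) (Steps.fwd (nat_lit 1572864) (Steps.bwd (nat_lit 1) (Steps.fwd (nat_lit 524288) (Steps.bwd (nat_lit 1) (Steps.fwd (nat_lit 1572864) (Steps.fwd (nat_lit 262144) (Steps.fwd (nat_lit 524288) (Steps.fwd (nat_lit 262144) Steps.nil))))))))))))) (nat_lit 35) (nat_lit 12),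
  Rule.mk (nat_lit 4) (nat_lit 114) (Steps.fwd (nat_lit 524288) (Steps.bwd (nat_lit 7) (Steps.fwd (nat_lit 1048576) (Steps.fwd (nat_lit 524288) (Steps.bwd (nat_lit 7) Steps.nil))))) (nat_lit 57) (nat_lit 2),
  Rule.mk (nat_lit 6) (nat_lit 274) (Steps.bwd (nat_lit 1) (Steps.fwd (nat_lit 524288) (Steps.fwd (nat_lit 1310720) (Steps.bwd (nat_lit 6) (Steps.fwd (nat_lit 262144) (Steps.fwd (nat_lit 1572864) (Steps.fwd (nat_lit 262144) (Steps.fwd (nat_lit 524288) (Steps.bwd (nat_lit 1) (Steps.fwd (nat_lit 1572864) (Steps.fwd (nat_lit 262144) (Steps.bwd (nat_lit 3) (Steps.bwd (nat_lit 1) Steps.nil))))))))))))) (nat_lit 35) (nat_lit 12),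
  Rule.mk (nat_lit 6) (nat_lit 274) (Steps.bwd (nat_lit 1) (Steps.fwd (nat_lit 1572864) (Steps.bwd (nat_lit 5) (Steps.fwd (nat_lit 786432) (Steps.fwd (nat_lit 262144) (Steps.fwd (nat_lit 1572864) (Steps.fwd (nat_lit 262144) (Steps.fwd (nat_lit 786432) (Steps.bwd (nat_lit 1) (Steps.bwd (nat_lit 6) (Steps.fwd (nat_lit 262144) (Steps.bwd (nat_lit 2) (Steps.fwd (nat_lit 262144) Steps.nil))))))))))))) (nat_lit 34) (nat_lit 11),
  Rule.mk (nat_lit 6) (nat_lit 274) (Steps.bwd (nat_lit 1) (Steps.bwd (nat_lit 3) (Steps.fwd (nat_lit 1310720) (Steps.bwd (nat_lit 6) (Steps.bwd (nat_lit 1) (Steps.fwd (nat_lit 1572864) (Steps.fwd (nat_lit 262144) (Steps.fwd (nat_lit 524288) (Steps.fwd (nat_lit 262144) (Steps.fwd (nat_lit 1572864) (Steps.fwd (nat_lit 262144) (Steps.fwd (nat_lit 524288) (Steps.fwd (nat_lit 262144) Steps.nil))))))))))))) (nat_lit 35) (nat_lit 12),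
  Rule.mk (nat_lit 1) (nat_lit 274) (Steps.bwd (nat_lit 6) (Steps.bwd (nat_lit 1) (Steps.fwd (nat_lit 524288) (Steps.fwd (nat_lit 1310720) (Steps.fwd (nat_lit 1572864) (Steps.bwd (nat_lit 1) (Steps.fwd (nat_lit 1572864) (Steps.fwd (nat_lit 262144) (Steps.fwd (nat_lit 524288) (Steps.fwd (nat_lit 262144) (Steps.bwd (nat_lit 6) (Steps.bwd (nat_lit 1) (Steps.bwd (nat_lit 3) Steps.nil))))))))))))) (nat_lit 35) (nat_lit 11),
  Rule.mk (nat_lit 1) (nat_lit 274) (Steps.bwd (nat_lit 6) (Steps.fwd (nat_lit 262144) (Steps.fwd (nat_lit 524288) (Steps.fwd (nat_lit 1310720) (Steps.fwd (nat_lit 1572864) (Steps.bwd (nat_lit 1) (Steps.fwd (nat_lit 1572864) (Steps.fwd (nat_lit 262144) (Steps.bwd (nat_lit 3) (Steps.fwd (nat_lit 262144) (Steps.fwd (nat_lit 1572864) (Steps.bwd (nat_lit 1) (Steps.bwd (nat_lit 3) Steps.nil))))))))))))) (nat_lit 35) (nat_lit 11),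
  Rule.mk (nat_lit 6) (nat_lit 274) (Steps.bwd (nat_lit 1) (Steps.bwd (nat_lit 6) (Steps.fwd (nat_lit 1310720) (Steps.bwd (nat_lit 2) (Steps.bwd (nat_lit 1) (Steps.bwd (nat_lit 6) (Steps.fwd (nat_lit 262144) (Steps.fwd (nat_lit 786432) (Steps.bwd (nat_lit 1) (Steps.fwd (nat_lit 1572864) (Steps.fwd (nat_lit 262144) (Steps.bwd (nat_lit 2) (Steps.fwd (nat_lit 262144) Steps.nil))))))))))))) (nat_lit 34) (nat_lit 11),
  Rule.mk (nat_lit 1) (nat_lit 274) (Steps.fwd (nat_lit 786432) (Steps.bwd (nat_lit 1) (Steps.fwd (nat_lit 1572864) (Steps.fwd (nat_lit 262144) (Steps.fwd (nat_lit 1572864) (Steps.fwd (nat_lit 1310720) (Steps.fwd (nat_lit 786432) (Steps.bwd (nat_lit 1) (Steps.bwd (nat_lit 6) (Steps.bwd (nat_lit 1) (Steps.fwd (nat_lit 786432) (Steps.fwd (nat_lit 262144) (Steps.bwd (nat_lit 6) Steps.nil))))))))))))) (nat_lit 34) (nat_lit 8),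
  Rule.mk (nat_lit 6) (nat_lit 274) (Steps.bwd (nat_lit 1) (Steps.fwd (nat_lit 524288) (Steps.bwd (nat_lit 5) (Steps.bwd (nat_lit 6) (Steps.bwd (nat_lit 1) (Steps.fwd (nat_lit 1572864) (Steps.fwd (nat_lit 262144) (Steps.bwd (nat_lit 3) (Steps.bwd (nat_lit 1) (Steps.fwd (nat_lit 1572864) (Steps.fwd (nat_lit 262144) (Steps.fwd (nat_lit 524288) (Steps.fwd (nat_lit 262144) Steps.nil))))))))))))) (nat_lit 35) (nat_lit 12),
  Rule.mk (nat_lit 4) (nat_lit 314) (Steps.bwd (nat_lit 9) (Steps.bwd (nat_lit 4) (Steps.bwd (nat_lit 8) (Steps.bwd (nat_lit 4) (Steps.bwd (nat_lit 9) (Steps.bwd (nat_lit 4) (Steps.fwd (nat_lit 2359296) (Steps.fwd (nat_lit 1048576) (Steps.fwd (nat_lit 2097152) (Steps.fwd (nat_lit 1048576) (Steps.fwd (nat_lit 2359296) (Steps.fwd (nat_lit 1048576) (Steps.bwd (nat_lit 9) (Steps.bwd (nat_lit 4) (Steps.fwd (nat_lit 2359296) Steps.nil))))))))))))))) (nat_lit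 106) (nat_lit 2),
  Rule.mk (nat_lit 1) (nat_lit 274) (Steps.fwd (nat_lit 786432) (Steps.bwd (nat_lit 1) (Steps.bwd (nat_lit 6) (Steps.fwd (nat_lit 262144) (Steps.bwd (nat_lit 2) (Steps.fwd (nat_lit 262144) (Steps.bwd (nat_lit 6) (Steps.bwd (nat_lit 1) (Steps.bwd (nat_lit 6) (Steps.bwd (nat_lit 5) (Steps.bwd (nat_lit 2) (Steps.fwd (nat_lit 262144) (Steps.bwd (nat_lit 6) Steps.nil))))))))))))) (nat_lit 34) (nat_lit 4),
  Rule.mk (nat_lit 6) (nat_lit 274) (Steps.bwd (nat_lit 1) (Steps.fwd (nat_lit 524288) (Steps.bwd (nat_lit 1) (Steps.fwd (nat_lit 1572864) (Steps.fwd (nat_lit 262144) (Steps.bwd (nat_lit 3) (Steps.fwd (nat_lit 1310720) (Steps.bwd (nat_lit 6) (Steps.bwd (nat_lit 1) (Steps.bwd (nat_lit 6) (Steps.fwd (nat_lit 262144) (Steps.bwd (nat_lit 3) (Steps.fwd (nat_lit 262144) Steps.nil))))))))))))) (nat_lit 35) (nat_lit 8),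
  Rule.mk (nat_lit 1) (nat_lit 274) (Steps.fwd (nat_lit 786432) (Steps.bwd (nat_lit 1) (Steps.fwd (nat_lit 1572864) (Steps.fwd (nat_lit 262144) (Steps.bwd (nat_lit 2) (Steps.bwd (nat_lit 1) (Steps.bwd (nat_lit 6) (Steps.bwd (nat_lit 1) (Steps.fwd (nat_lit 1572864) (Steps.bwd (nat_lit 5) (Steps.bwd (nat_lit 2) (Steps.fwd (nat_lit 262144) (Steps.bwd (nat_lit 6) Steps.nil))))))))))))) (nat_lit 34) (nat_lit 4),
  Rule.mk (nat_lit 6) (nat_lit 274) (Steps.bwd (nat_lit 1) (Steps.bwd (nat_lit 3) (Steps.bwd (nat_lit 5) (Steps.bwd (nat_lit 6) (Steps.bwd (nat_lit 1) (Steps.bwd (nat_lit 6) (Steps.fwd (nat_lit 262144) (Steps.fwd (nat_lit 524288) (Steps.bwd (nat_lit 1) (Steps.fwd (nat_lit 1572864) (Steps.fwd (nat_lit 262144) (Steps.bwd (nat_lit 3) (Steps.fwd (nat_lit 262144) Steps.nil))))))))))))) (nat_lit 35) (nat_lit 12),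
  Rule.mk (nat_lit 1) (nat_lit 274) (Steps.bwd (nat_lit 6) (Steps.bwd (nat_lit 1) (Steps.bwd (nat_lit 3) (Steps.fwd (nat_lit 262144) (Steps.fwd (nat_lit 1572864) (Steps.fwd (nat_lit 262144) (Steps.fwd (nat_lit 524288) (Steps.fwd (nat_lit 1310720) (Steps.fwd (nat_lit 1572864) (Steps.bwd (nat_lit 1) (Steps.fwd (nat_lit 1572864) (Steps.bwd (nat_lit 1) (Steps.bwd (nat_lit 3) Steps.nil))))))))))))) (nat_lit 35) (nat_lit 7),
  Rule.mk (nat_lit 2) (nat_lit 274) (Steps.bwd (nat_lit 1) (Steps.bwd (nat_lit 6) (Steps.fwd (nat_lit 262144) (Steps.fwd (nat_lit 1572864) (Steps.bwd (nat_lit 5) (Steps.fwd (nat_lit 786432) (Steps.bwd (nat_lit 1) (Steps.bwd (nat_lit 6) (Steps.fwd (nat_lit 262144) (Steps.bwd (nat_lit 2) (Steps.bwd (nat_lit 1) (Steps.bwd (nat_lit 6) (Steps.bwd (nat_lit 1) Steps.nil))))))))))))) (nat_lit 34) (nat_lit 9),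
  Rule.mk (nat_lit 4) (nat_lit 314) (Steps.bwd (nat_lit 8) (Steps.bwd (nat_lit 4) (Steps.bwd (nat_lit 9) (Steps.bwd (nat_lit 4) (Steps.bwd (nat_lit 8) (Steps.fwd (nat_lit 1048576) (Steps.fwd (nat_lit 2097152) (Steps.bwd (nat_lit 4) (Steps.bwd (nat_lit 8) (Steps.fwd (nat_lit 1048576) (Steps.bwd (nat_lit 9) (Steps.bwd (nat_lit 4) (Steps.fwd (nat_lit 2359296) (Steps.fwd (nat_lit 1048576) (Steps.fwd (nat_lit 2097152) Steps.nil))))))))))))))) (nat_lit 106) (nat_lit 0),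
  Rule.mk (nat_lit 6) (nat_lit 274) (Steps.bwd (nat_lit 1) (Steps.fwd (nat_lit 1572864) (Steps.fwd (nat_lit 1310720) (Steps.fwd (nat_lit 786432) (Steps.bwd (nat_lit 1) (Steps.bwd (nat_lit 6) (Steps.fwd (nat_lit 262144) (Steps.bwd (nat_lit 2) (Steps.fwd (nat_lit 262144) (Steps.fwd (nat_lit 1572864) (Steps.fwd (nat_lit 262144) (Steps.fwd (nat_lit 786432) (Steps.fwd (nat_lit 262144) Steps.nil))))))))))))) (nat_lit 34) (nat_lit 11),
  Rule.mk (nat_lit 4) (nat_lit 314) (Steps.bwd (nat_lit 8) (Steps.bwd (nat_lit 4) (Steps.bwd (nat_lit 9) (Steps.bwd (nat_lit 4) (Steps.bwd (nat_lit 8) (Steps.bwd (nat_lit 4) (Steps.bwd (nat_lit 9) (Steps.fwd (nat_lit 1048576) (Steps.bwd (nat_lit 8) (Steps.fwd (nat_lit 1048576) (Steps.fwd (nat_lit 2097152) (Steps.fwd (nat_lit 1048576) (Steps.fwd (nat_lit 2359296) (Steps.fwd (nat_lit 1048576) (Steps.bwd (nat_lit 9) Steps.nil)))))))))))))))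 (nat_lit 106) (nat_lit 0),
  Rule.mk (nat_lit 1) (nat_lit 274) (Steps.bwd (nat_lit 6) (Steps.bwd (nat_lit 1) (Steps.bwd (nat_lit 3) (Steps.fwd (nat_lit 262144) (Steps.fwd (nat_lit 1572864) (Steps.fwd (nat_lit 262144) (Steps.bwd (nat_lit 3) (Steps.fwd (nat_lit 1310720) (Steps.fwd (nat_lit 1572864) (Steps.bwd (nat_lit 1) (Steps.bwd (nat_lit 6) (Steps.bwd (nat_lit 1) (Steps.bwd (nat_lit 3) Steps.nil))))))))))))) (nat_lit 35) (nat_lit 7),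
  Rule.mk (nat_lit 2) (nat_lit 274) (Steps.bwd (nat_lit 1) (Steps.fwd (nat_lit 1572864) (Steps.fwd (nat_lit 262144) (Steps.fwd (nat_lit 1572864) (Steps.bwd (nat_lit 5) (Steps.fwd (nat_lit 786432) (Steps.bwd (nat_lit 1) (Steps.bwd (nat_lit 6) (Steps.fwd (nat_lit 262144) (Steps.bwd (nat_lit 2) (Steps.bwd (nat_lit 1) (Steps.bwd (nat_lit 6) (Steps.bwd (nat_lit 1) Steps.nil))))))))))))) (nat_lit 34) (nat_lit 9),
  Rule.mk (nat_lit 8) (nat_lit 314) (Steps.bwd (nat_lit 4) (Steps.fwd (nat_lit 2097152) (Steps.fwd (nat_lit 1048576) (Steps.bwd (nat_lit 8) (Steps.fwd (nat_lit 1048576) (Steps.bwd (nat_lit 9) (Steps.fwd (nat_lit 1048576) (Steps.fwd (nat_lit 2359296) (Steps.fwd (nat_lit 1048576) (Steps.fwd (nat_lit 2097152) (Steps.fwd (nat_lit 1048576) (Steps.fwd (nat_lit 2359296) (Steps.fwd (nat_lit 1048576) (Steps.fwd (nat_lit 2097152) (Steps.fwd (nat_lit 1048576) Steps.nil)))))))))))))))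 (nat_lit 106) (nat_lit 1),
  Rule.mk (nat_lit 6) (nat_lit 274) (Steps.bwd (nat_lit 1) (Steps.fwd (nat_lit 524288) (Steps.bwd (nat_lit 5) (Steps.bwd (nat_lit 6) (Steps.bwd (nat_lit 1) (Steps.bwd (nat_lit 6) (Steps.fwd (nat_lit 262144) (Steps.fwd (nat_lit 524288) (Steps.bwd (nat_lit 1) (Steps.bwd (nat_lit 6) (Steps.fwd (nat_lit 262144) (Steps.bwd (nat_lit 3) (Steps.fwd (nat_lit 262144) Steps.nil))))))))))))) (nat_lit 35) (nat_lit 12),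
  Rule.mk (nat_lit 4) (nat_lit 314) (Steps.bwd (nat_lit 8) (Steps.bwd (nat_lit 4) (Steps.bwd (nat_lit 9) (Steps.bwd (nat_lit 4) (Steps.fwd (nat_lit 2359296) (Steps.fwd (nat_lit 1048576) (Steps.fwd (nat_lit 2097152) (Steps.fwd (nat_lit 1048576) (Steps.fwd (nat_lit 2359296) (Steps.bwd (nat_lit 4) (Steps.bwd (nat_lit 9) (Steps.fwd (nat_lit 1048576) (Steps.bwd (nat_lit 8) (Steps.bwd (nat_lit 4) (Steps.bwd (nat_lit 9) Steps.nil))))))))))))))) (nat_lit 106) (nat_lit 0),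
  Rule.mk (nat_lit 4) (nat_lit 114) (Steps.bwd (nat_lit 3) (Steps.bwd (nat_lit 5) (Steps.bwd (nat_lit 4) (Steps.bwd (nat_lit 3) (Steps.fwd (nat_lit 1572864) Steps.nil))))) (nat_lit 55) (nat_lit 2),
  Rule.mk (nat_lit 6) (nat_lit 274) (Steps.bwd (nat_lit 1) (Steps.bwd (nat_lit 6) (Steps.fwd (nat_lit 1310720) (Steps.bwd (nat_lit 2) (Steps.fwd (nat_lit 262144) (Steps.bwd (nat_lit 6) (Steps.fwd (nat_lit 262144) (Steps.fwd (nat_lit 786432) (Steps.bwd (nat_lit 1) (Steps.bwd (nat_lit 6) (Steps.fwd (nat_lit 262144) (Steps.bwd (nat_lit 2) (Steps.bwd (nat_lit 1) Steps.nil))))))))))))) (nat_lit 34) (nat_lit 11),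
  Rule.mk (nat_lit 6) (nat_lit 274) (Steps.bwd (nat_lit 1) (Steps.bwd (nat_lit 2) (Steps.fwd (nat_lit 262144) (Steps.fwd (nat_lit 1572864) (Steps.fwd (nat_lit 262144) (Steps.fwd (nat_lit 786432) (Steps.bwd (nat_lit 1) (Steps.bwd (nat_lit 6) (Steps.bwd (nat_lit 1) (Steps.bwd (nat_lit 6) (Steps.fwd (nat_lit 1310720) (Steps.bwd (nat_lit 2) (Steps.fwd (nat_lit 262144) Steps.nil))))))))))))) (nat_lit 34) (nat_lit 3),
  Rule.mk (nat_lit 6) (nat_lit 154) (Steps.bwd (nat_lit 3) (Steps.fwd (nat_lit 1310720) (Steps.bwd (nat_lit 3) (Steps.bwd (nat_lit 7) (Steps.fwd (nat_lit 1572864) (Steps.fwd (nat_lit 524288) (Steps.bwd (nat_lit 5) Steps.nil))))))) (nat_lit 83) (nat_lit 5),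
  Rule.mk (nat_lit 6) (nat_lit 274) (Steps.bwd (nat_lit 1) (Steps.fwd (nat_lit 1572864) (Steps.fwd (nat_lit 1310720) (Steps.fwd (nat_lit 786432) (Steps.fwd (nat_lit 262144) (Steps.fwd (nat_lit 1572864) (Steps.bwd (nat_lit 1) (Steps.bwd (nat_lit 2) (Steps.fwd (nat_lit 262144) (Steps.fwd (nat_lit 1572864) (Steps.bwd (nat_lit 1) (Steps.fwd (nat_lit 786432) (Steps.fwd (nat_lit 262144) Steps.nil))))))))))))) (nat_lit 34) (nat_lit 11),
  Rule.mk (nat_lit 1) (nat_lit 274) (Steps.bwd (nat_lit 6) (Steps.bwd (nat_lit 5) (Steps.bwd (nat_lit 2) (Steps.bwd (nat_lit 1) (Steps.fwd (nat_lit 1572864) (Steps.fwd (nat_lit 262144) (Steps.fwd (nat_lit 786432) (Steps.fwd (nat_lit 262144) (Steps.fwd (nat_lit 1572864) (Steps.fwd (nat_lit 262144) (Steps.fwd (nat_lit 786432) (Steps.bwd (nat_lit 1) (Steps.fwd (nat_lit 1572864) Steps.nil))))))))))))) (nat_lit 34) (nat_lit 12),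
  Rule.mk (nat_lit 6) (nat_lit 274) (Steps.bwd (nat_lit 1) (Steps.bwd (nat_lit 3) (Steps.bwd (nat_lit 1) (Steps.fwd (nat_lit 1572864) (Steps.bwd (nat_lit 1) (Steps.fwd (nat_lit 524288) (Steps.fwd (nat_lit 262144) (Steps.fwd (nat_lit 1572864) (Steps.bwd (nat_lit 1) (Steps.bwd (nat_lit 3) (Steps.fwd (nat_lit 1310720) (Steps.bwd (nat_lit 6) (Steps.fwd (nat_lit 262144) Steps.nil))))))))))))) (nat_lit 35) (nat_lit 4),
  Rule.mk (nat_lit 4) (nat_lit 114) (Steps.fwd (nat_lit 524288) (Steps.fwd (nat_lit 1310720) (Steps.fwd (nat_lit 1048576) (Steps.fwd (nat_lit 524288) (Steps.bwd (nat_lit 6) Steps.nil))))) (nat_lit 55) (nat_lit 2),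
  Rule.mk (nat_lit 1) (nat_lit 274) (Steps.bwd (nat_lit 6) (Steps.bwd (nat_lit 1) (Steps.bwd (nat_lit 2) (Steps.fwd (nat_lit 262144) (Steps.bwd (nat_lit 6) (Steps.bwd (nat_lit 1) (Steps.bwd (nat_lit 2) (Steps.bwd (nat_lit 1) (Steps.fwd (nat_lit 1572864) (Steps.fwd (nat_lit 262144) (Steps.fwd (nat_lit 1572864) (Steps.fwd (nat_lit 1310720) (Steps.fwd (nat_lit 786432) Steps.nil))))))))))))) (nat_lit 34) (nat_lit 2),
  Rule.mk (nat_lit 1) (nat_lit 154) (Steps.bwd (nat_lit 6) (Steps.bwd (nat_lit 1) (Steps.bwd (nat_lit 4) (Steps.bwd (nat_lit 1) (Steps.bwd (nat_lit 6) (Steps.bwd (nat_lit 1) (Steps.bwd (nat_lit 4) Steps.nil))))))) (nat_lit 74) (nat_lit 3),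
  Rule.mk (nat_lit 1) (nat_lit 274) (Steps.bwd (nat_lit 6) (Steps.bwd (nat_lit 5) (Steps.fwd (nat_lit 786432) (Steps.bwd (nat_lit 1) (Steps.bwd (nat_lit 6) (Steps.fwd (nat_lit 262144) (Steps.bwd (nat_lit 2) (Steps.bwd (nat_lit 1) (Steps.bwd (nat_lit 6) (Steps.fwd (nat_lit 262144) (Steps.fwd (nat_lit 786432) (Steps.bwd (nat_lit 1) (Steps.bwd (nat_lit 6) Steps.nil))))))))))))) (nat_lit 34) (nat_lit 12),
  Rule.mk (nat_lit 6) (nat_lit 274) (Steps.bwd (nat_lit 1) (Steps.fwd (nat_lit 524288) (Steps.bwd (nat_lit 1) (Steps.fwd (nat_lit 1572864) (Steps.fwd (nat_lit 262144) (Steps.bwd (nat_lit 3) (Steps.bwd (nat_lit 1) (Steps.fwd (nat_lit 1572864) (Steps.bwd (nat_lit 1) (Steps.fwd (nat_lit 524288) (Steps.bwd (nat_lit 5) (Steps.bwd (nat_lit 6) (Steps.fwd (nat_lit 262144) Steps.nil))))))))))))) (nat_lit 35) (nat_lit 4),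
  Rule.mk (nat_lit 6) (nat_lit 274) (Steps.bwd (nat_lit 1) (Steps.bwd (nat_lit 3) (Steps.fwd (nat_lit 1310720) (Steps.fwd (nat_lit 1572864) (Steps.fwd (nat_lit 262144) (Steps.fwd (nat_lit 1572864) (Steps.bwd (nat_lit 1) (Steps.fwd (nat_lit 524288) (Steps.bwd (nat_lit 1) (Steps.bwd (nat_lit 6) (Steps.fwd (nat_lit 262144) (Steps.fwd (nat_lit 524288) (Steps.bwd (nat_lit 1) Steps.nil))))))))))))) (nat_lit 35) (nat_lit 12),
  Rule.mk (nat_lit 4) (nat_lit 314) (Steps.bwd (nat_lit 8) (Steps.bwd (nat_lit 4) (Steps.bwd (nat_lit 9) (Steps.bwd (nat_lit 4) (Steps.fwd (nat_lit 2359296) (Steps.fwd (nat_lit 1048576) (Steps.fwd (nat_lit 2097152) (Steps.fwd (nat_lit 1048576) (Steps.bwd (nat_lit 8) (Steps.bwd (nat_lit 4) (Steps.bwd (nat_lit 9) (Steps.fwd (nat_lit 1048576) (Steps.fwd (nat_lit 2359296) (Steps.fwd (nat_lit 1048576) (Steps.bwd (nat_lit 9) Steps.nil))))))))))))))) (nat_lit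 106) (nat_lit 0),
  Rule.mk (nat_lit 1) (nat_lit 274) (Steps.bwd (nat_lit 6) (Steps.bwd (nat_lit 5) (Steps.fwd (nat_lit 786432) (Steps.fwd (nat_lit 262144) (Steps.bwd (nat_lit 6) (Steps.bwd (nat_lit 1) (Steps.fwd (nat_lit 786432) (Steps.fwd (nat_lit 262144) (Steps.fwd (nat_lit 1572864) (Steps.fwd (nat_lit 262144) (Steps.fwd (nat_lit 786432) (Steps.bwd (nat_lit 1) (Steps.bwd (nat_lit 6) Steps.nil))))))))))))) (nat_lit 34) (nat_lit 12),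
  Rule.mk (nat_lit 6) (nat_lit 274) (Steps.bwd (nat_lit 1) (Steps.bwd (nat_lit 6) (Steps.bwd (nat_lit 5) (Steps.fwd (nat_lit 786432) (Steps.fwd (nat_lit 262144) (Steps.fwd (nat_lit 1572864) (Steps.fwd (nat_lit 262144) (Steps.bwd (nat_lit 2) (Steps.fwd (nat_lit 262144) (Steps.fwd (nat_lit 1572864) (Steps.fwd (nat_lit 262144) (Steps.fwd (nat_lit 786432) (Steps.bwd (nat_lit 1) Steps.nil))))))))))))) (nat_lit 34) (nat_lit 11),
  Rule.mk (nat_lit 6) (nat_lit 274) (Steps.bwd (nat_lit 1) (Steps.bwd (nat_lit 6) (Steps.fwd (nat_lit 1310720) (Steps.fwd (nat_lit 786432) (Steps.fwd (nat_lit 262144) (Steps.bwd (nat_lit 6) (Steps.bwd (nat_lit 1) (Steps.bwd (nat_lit 2) (Steps.bwd (nat_lit 1) (Steps.fwd (nat_lit 1572864) (Steps.fwd (nat_lit 262144) (Steps.fwd (nat_lit 786432) (Steps.bwd (nat_lit 1) Steps.nil))))))))))))) (nat_lit 34) (nat_lit 11),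
  Rule.mk (nat_lit 6) (nat_lit 274) (Steps.bwd (nat_lit 1) (Steps.bwd (nat_lit 6) (Steps.fwd (nat_lit 1310720) (Steps.bwd (nat_lit 2) (Steps.fwd (nat_lit 262144) (Steps.bwd (nat_lit 6) (Steps.bwd (nat_lit 1) (Steps.fwd (nat_lit 786432) (Steps.bwd (nat_lit 1) (Steps.fwd (nat_lit 1572864) (Steps.fwd (nat_lit 262144) (Steps.bwd (nat_lit 2) (Steps.fwd (nat_lit 262144) Steps.nil))))))))))))) (nat_lit 34) (nat_lit 11),
  Rule.mk (nat_lit 1) (nat_lit 274) (Steps.bwd (nat_lit 6) (Steps.fwd (nat_lit 1310720) (Steps.bwd (nat_lit 2) (Steps.bwd (nat_lit 1) (Steps.fwd (nat_lit 1572864) (Steps.fwd (nat_lit 262144) (Steps.fwd (nat_lit 786432) (Steps.bwd (nat_lit 1) (Steps.fwd (nat_lit 1572864) (Steps.fwd (nat_lit 262144) (Steps.fwd (nat_lit 786432) (Steps.bwd (nat_lit 1) (Steps.fwd (nat_lit 1572864) Steps.nil))))))))))))) (nat_lit 34) (nat_lit 12)]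
noncomputable def R_54 : List (Rule) := [Rule.mk (nat_lit 6) (nat_lit 274) (Steps.bwd (nat_lit 1) (Steps.bwd (nat_lit 3) (Steps.fwd (nat_lit 1310720) (Steps.fwd (nat_lit 1572864) (Steps.bwd (nat_lit 1) (Steps.bwd (nat_lit 6) (Steps.fwd (nat_lit 262144) (Steps.fwd (nat_lit 524288) (Steps.bwd (nat_lit 1) (Steps.bwd (nat_lit 6) (Steps.bwd (nat_lit 1) (Steps.bwd (nat_lit 3) (Steps.fwd (nat_lit 262144) Steps.nil))))))))))))) (nat_lit 35) (nat_lit 12),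
  Rule.mk (nat_lit 6) (nat_lit 274) (Steps.bwd (nat_lit 1) (Steps.bwd (nat_lit 2) (Steps.fwd (nat_lit 262144) (Steps.fwd (nat_lit 1572864) (Steps.bwd (nat_lit 1) (Steps.fwd (nat_lit 786432) (Steps.fwd (nat_lit 262144) (Steps.bwd (nat_lit 6) (Steps.bwd (nat_lit 1) (Steps.bwd (nat_lit 6) (Steps.fwd (nat_lit 1310720) (Steps.fwd (nat_lit 786432) (Steps.fwd (nat_lit 262144) Steps.nil))))))))))))) (nat_lit 34) (nat_lit 3),
  Rule.mk (nat_lit 6) (nat_lit 114) (Steps.bwd (nat_lit 2) (Steps.fwd (nat_lit 1835008) (Steps.fwd (nat_lit 1572864) (Steps.bwd (nat_lit 3) (Steps.fwd (nat_lit 1835008) Steps.nil))))) (nat_lit 63) (nat_lit 2),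
  Rule.mk (nat_lit 1) (nat_lit 274) (Steps.bwd (nat_lit 6) (Steps.bwd (nat_lit 1) (Steps.bwd (nat_lit 3) (Steps.fwd (nat_lit 1310720) (Steps.bwd (nat_lit 6) (Steps.fwd (nat_lit 262144) (Steps.fwd (nat_lit 1572864) (Steps.bwd (nat_lit 1) (Steps.fwd (nat_lit 524288) (Steps.bwd (nat_lit 1) (Steps.fwd (nat_lit 1572864) (Steps.fwd (nat_lit 262144) (Steps.fwd (nat_lit 524288) Steps.nil))))))))))))) (nat_lit 35) (nat_lit 11),
  Rule.mk (nat_lit 6) (nat_lit 274) (Steps.bwd (nat_lit 1) (Steps.fwd (nat_lit 1572864) (Steps.fwd (nat_lit 262144) (Steps.bwd (nat_lit 3) (Steps.bwd (nat_lit 1) (Steps.bwd (nat_lit 6) (Steps.bwd (nat_lit 1) (Steps.bwd (nat_lit 3) (Steps.fwd (nat_lit 262144) (Steps.fwd (nat_lit 1572864) (Steps.fwd (nat_lit 262144) (Steps.bwd (nat_lit 3) (Steps.fwd (nat_lit 1310720) Steps.nil))))))))))))) (nat_lit 35) (nat_lit 2),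
  Rule.mk (nat_lit 1) (nat_lit 274) (Steps.bwd (nat_lit 6) (Steps.bwd (nat_lit 1) (Steps.bwd (nat_lit 2) (Steps.fwd (nat_lit 262144) (Steps.bwd (nat_lit 6) (Steps.bwd (nat_lit 1) (Steps.bwd (nat_lit 2) (Steps.bwd (nat_lit 1) (Steps.bwd (nat_lit 6) (Steps.fwd (nat_lit 262144) (Steps.fwd (nat_lit 1572864) (Steps.fwd (nat_lit 1310720) (Steps.fwd (nat_lit 786432) Steps.nil))))))))))))) (nat_lit 34) (nat_lit 2),
  Rule.mk (nat_lit 6) (nat_lit 274) (Steps.bwd (nat_lit 1) (Steps.bwd (nat_lit 6) (Steps.fwd (nat_lit 1310720) (Steps.bwd (nat_lit 2) (Steps.fwd (nat_lit 262144) (Steps.bwd (nat_lit 6) (Steps.fwd (nat_lit 262144) (Steps.fwd (nat_lit 786432) (Steps.bwd (nat_lit 1) (Steps.bwd (nat_lit 6) (Steps.fwd (nat_lit 262144) (Steps.bwd (nat_lit 2) (Steps.fwd (nat_lit 262144) Steps.nil))))))))))))) (nat_lit 34) (nat_lit 11),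
  Rule.mk (nat_lit 1) (nat_lit 274) (Steps.bwd (nat_lit 6) (Steps.bwd (nat_lit 5) (Steps.fwd (nat_lit 786432) (Steps.fwd (nat_lit 262144) (Steps.bwd (nat_lit 6) (Steps.fwd (nat_lit 262144) (Steps.bwd (nat_lit 2) (Steps.bwd (nat_lit 1) (Steps.bwd (nat_lit 6) (Steps.fwd (nat_lit 262144) (Steps.fwd (nat_lit 786432) (Steps.bwd (nat_lit 1) (Steps.fwd (nat_lit 1572864) Steps.nil))))))))))))) (nat_lit 34) (nat_lit 12),
  Rule.mk (nat_lit 6) (nat_lit 274) (Steps.bwd (nat_lit 1) (Steps.bwd (nat_lit 2) (Steps.fwd (nat_lit 262144) (Steps.fwd (nat_lit 1572864) (Steps.fwd (nat_lit 262144) (Steps.fwd (nat_lit 786432) (Steps.fwd (nat_lit 262144) (Steps.bwd (nat_lit 6) (Steps.bwd (nat_lit 1) (Steps.bwd (nat_lit 6) (Steps.fwd (nat_lit 1310720) (Steps.fwd (nat_lit 786432) (Steps.fwd (nat_lit 262144) Steps.nil))))))))))))) (nat_lit 34) (nat_lit 3),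
  Rule.mk (nat_lit 1) (nat_lit 274) (Steps.bwd (nat_lit 6) (Steps.fwd (nat_lit 1310720) (Steps.bwd (nat_lit 2) (Steps.bwd (nat_lit 1) (Steps.fwd (nat_lit 1572864) (Steps.bwd (nat_lit 1) (Steps.fwd (nat_lit 786432) (Steps.bwd (nat_lit 1) (Steps.fwd (nat_lit 1572864) (Steps.fwd (nat_lit 262144) (Steps.bwd (nat_lit 2) (Steps.bwd (nat_lit 1) (Steps.bwd (nat_lit 6) Steps.nil))))))))))))) (nat_lit 34) (nat_lit 12),
  Rule.mk (nat_lit 8) (nat_lit 314) (Steps.bwd (nat_lit 4) (Steps.bwd (nat_lit 9) (Steps.fwd (nat_lit 1048576) (Steps.fwd (nat_lit 2359296) (Steps.fwd (nat_lit 1048576) (Steps.bwd (nat_lit 9) (Steps.bwd (nat_lit 4) (Steps.fwd (nat_lit 2359296) (Steps.fwd (nat_lit 1048576) (Steps.bwd (nat_lit 9) (Steps.bwd (nat_lit 4) (Steps.fwd (nat_lit 2359296) (Steps.fwd (nat_lit 1048576) (Steps.fwd (nat_lit 2097152) (Steps.fwd (nat_lit 1048576) Steps.nil)))))))))))))))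 (nat_lit 106) (nat_lit 1),
  Rule.mk (nat_lit 6) (nat_lit 274) (Steps.bwd (nat_lit 1) (Steps.fwd (nat_lit 1572864) (Steps.fwd (nat_lit 262144) (Steps.fwd (nat_lit 524288) (Steps.fwd (nat_lit 262144) (Steps.bwd (nat_lit 6) (Steps.bwd (nat_lit 1) (Steps.bwd (nat_lit 3) (Steps.fwd (nat_lit 262144) (Steps.fwd (nat_lit 1572864) (Steps.bwd (nat_lit 1) (Steps.bwd (nat_lit 3) (Steps.bwd (nat_lit 5) Steps.nil))))))))))))) (nat_lit 35) (nat_lit 2),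
  Rule.mk (nat_lit 1) (nat_lit 154) (Steps.bwd (nat_lit 6) (Steps.bwd (nat_lit 1) (Steps.fwd (nat_lit 1048576) (Steps.bwd (nat_lit 1) (Steps.bwd (nat_lit 6) (Steps.bwd (nat_lit 1) (Steps.bwd (nat_lit 4) Steps.nil))))))) (nat_lit 74) (nat_lit 3),
  Rule.mk (nat_lit 1) (nat_lit 274) (Steps.bwd (nat_lit 6) (Steps.bwd (nat_lit 5) (Steps.fwd (nat_lit 786432) (Steps.bwd (nat_lit 1) (Steps.fwd (nat_lit 1572864) (Steps.fwd (nat_lit 262144) (Steps.bwd (nat_lit 2) (Steps.bwd (nat_lit 1) (Steps.bwd (nat_lit 6) (Steps.bwd (nat_lit 1) (Steps.fwd (nat_lit 786432) (Steps.bwd (nat_lit 1) (Steps.bwd (nat_lit 6) Steps.nil))))))))))))) (nat_lit 34) (nat_lit 12),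
  Rule.mk (nat_lit 1) (nat_lit 274) (Steps.bwd (nat_lit 6) (Steps.fwd (nat_lit 262144) (Steps.fwd (nat_lit 524288) (Steps.fwd (nat_lit 1310720) (Steps.fwd (nat_lit 1572864) (Steps.fwd (nat_lit 262144) (Steps.bwd (nat_lit 6) (Steps.fwd (nat_lit 262144) (Steps.fwd (nat_lit 524288) (Steps.fwd (nat_lit 262144) (Steps.bwd (nat_lit 6) (Steps.bwd (nat_lit 1) (Steps.bwd (nat_lit 3) Steps.nil))))))))))))) (nat_lit 35) (nat_lit 11),
  Rule.mk (nat_lit 1) (nat_lit 274) (Steps.bwd (nat_lit 6) (Steps.fwd (nat_lit 1310720) (Steps.fwd (nat_lit 786432) (Steps.fwd (nat_lit 262144) (Steps.fwd (nat_lit 1572864) (Steps.bwd (nat_lit 1) (Steps.fwd (nat_lit 786432) (Steps.fwd (nat_lit 262144) (Steps.fwd (nat_lit 1572864) (Steps.bwd (nat_lit 1) (Steps.fwd (nat_lit 786432) (Steps.bwd (nat_lit 1) (Steps.bwd (nat_lit 6) Steps.nil))))))))))))) (nat_lit 34) (nat_lit 12),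
  Rule.mk (nat_lit 1) (nat_lit 274) (Steps.bwd (nat_lit 6) (Steps.bwd (nat_lit 5) (Steps.bwd (nat_lit 2) (Steps.bwd (nat_lit 1) (Steps.bwd (nat_lit 6) (Steps.bwd (nat_lit 1) (Steps.bwd (nat_lit 2) (Steps.fwd (nat_lit 262144) (Steps.bwd (nat_lit 6) (Steps.bwd (nat_lit 1) (Steps.bwd (nat_lit 2) (Steps.fwd (nat_lit 262144) (Steps.fwd (nat_lit 1572864) Steps.nil))))))))))))) (nat_lit 34) (nat_lit 12),
  Rule.mk (nat_lit 1) (nat_lit 274) (Steps.fwd (nat_lit 786432) (Steps.bwd (nat_lit 1) (Steps.bwd (nat_lit 6) (Steps.fwd (nat_lit 262144) (Steps.bwd (nat_lit 2) (Steps.bwd (nat_lit 1) (Steps.bwd (nat_lit 6) (Steps.bwd (nat_lit 1) (Steps.fwd (nat_lit 1572864) (Steps.bwd (nat_lit 5) (Steps.fwd (nat_lit 786432) (Steps.fwd (nat_lit 262144) (Steps.bwd (nat_lit 6) Steps.nil))))))))))))) (nat_lit 34) (nat_lit 4),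
  Rule.mk (nat_lit 4) (nat_lit 114) (Steps.fwd (nat_lit 1835008) (Steps.fwd (nat_lit 1310720) (Steps.fwd (nat_lit 1048576) (Steps.bwd (nat_lit 7) (Steps.fwd (nat_lit 1572864) Steps.nil))))) (nat_lit 67) (nat_lit 3),
  Rule.mk (nat_lit 1) (nat_lit 274) (Steps.bwd (nat_lit 6) (Steps.bwd (nat_lit 5) (Steps.bwd (nat_lit 2) (Steps.bwd (nat_lit 1) (Steps.bwd (nat_lit 6) (Steps.bwd (nat_lit 1) (Steps.bwd (nat_lit 2) (Steps.fwd (nat_lit 262144) (Steps.bwd (nat_lit 6) (Steps.fwd (nat_lit 262144) (Steps.bwd (nat_lit 2) (Steps.fwd (nat_lit 262144) (Steps.bwd (nat_lit 6) Steps.nil))))))))))))) (nat_lit 34) (nat_lit 12),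
  Rule.mk (nat_lit 9) (nat_lit 314) (Steps.bwd (nat_lit 4) (Steps.bwd (nat_lit 8) (Steps.bwd (nat_lit 4) (Steps.bwd (nat_lit 9) (Steps.fwd (nat_lit 1048576) (Steps.fwd (nat_lit 2359296) (Steps.fwd (nat_lit 1048576) (Steps.fwd (nat_lit 2097152) (Steps.fwd (nat_lit 1048576) (Steps.fwd (nat_lit 2359296) (Steps.fwd (nat_lit 1048576) (Steps.fwd (nat_lit 2097152) (Steps.fwd (nat_lit 1048576) (Steps.fwd (nat_lit 2359296) (Steps.fwd (nat_lit 1048576) Steps.nil))))))))))))))) (nat_lit 106) (nat_lit 3),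
  Rule.mk (nat_lit 6) (nat_lit 274) (Steps.bwd (nat_lit 1) (Steps.fwd (nat_lit 1572864) (Steps.bwd (nat_lit 5) (Steps.fwd (nat_lit 786432) (Steps.fwd (nat_lit 262144) (Steps.fwd (nat_lit 1572864) (Steps.fwd (nat_lit 262144) (Steps.fwd (nat_lit 786432) (Steps.bwd (nat_lit 1) (Steps.bwd (nat_lit 6) (Steps.fwd (nat_lit 262144) (Steps.bwd (nat_lit 2) (Steps.bwd (nat_lit 1) Steps.nil))))))))))))) (nat_lit 34) (nat_lit 11),
  Rule.mk (nat_lit 9) (nat_lit 314) (Steps.bwd (nat_lit 4) (Steps.fwd (nat_lit 2359296) (Steps.fwd (nat_lit 1048576) (Steps.bwd (nat_lit 9) (Steps.bwd (nat_lit 4) (Steps.fwd (nat_lit 2359296) (Steps.bwd (nat_lit 4) (Steps.bwd (nat_lit 9) (Steps.bwd (nat_lit 4) (Steps.fwd (nat_lit 2359296) (Steps.fwd (nat_lit 1048576) (Steps.fwd (nat_lit 2097152) (Steps.fwd (nat_lit 1048576) (Steps.fwd (nat_lit 2359296) (Steps.fwd (nat_lit 1048576) Steps.nil)))))))))))))))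 (nat_lit 106) (nat_lit 3),
  Rule.mk (nat_lit 7) (nat_lit 114) (Steps.bwd (nat_lit 2) (Steps.bwd (nat_lit 6) (Steps.bwd (nat_lit 7) (Steps.fwd (nat_lit 524288) (Steps.bwd (nat_lit 6) Steps.nil))))) (nat_lit 62) (nat_lit 0),
  Rule.mk (nat_lit 8) (nat_lit 314) (Steps.bwd (nat_lit 4) (Steps.bwd (nat_lit 9) (Steps.fwd (nat_lit 1048576) (Steps.fwd (nat_lit 2359296) (Steps.bwd (nat_lit 4) (Steps.fwd (nat_lit 2097152) (Steps.fwd (nat_lit 1048576) (Steps.fwd (nat_lit 2359296) (Steps.fwd (nat_lit 1048576) (Steps.bwd (nat_lit 9) (Steps.bwd (nat_lit 4) (Steps.fwd (nat_lit 2359296) (Steps.fwd (nat_lit 1048576) (Steps.bwd (nat_lit 9) (Steps.fwd (nat_lit 1048576) Steps.nil))))))))))))))) (nat_lit 106) (nat_lit 1),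
  Rule.mk (nat_lit 6) (nat_lit 114) (Steps.bwd (nat_lit 3) (Steps.bwd (nat_lit 7) (Steps.fwd (nat_lit 1572864) (Steps.fwd (nat_lit 786432) (Steps.fwd (nat_lit 1835008) Steps.nil))))) (nat_lit 63) (nat_lit 5),
  Rule.mk (nat_lit 6) (nat_lit 274) (Steps.bwd (nat_lit 1) (Steps.bwd (nat_lit 6) (Steps.fwd (nat_lit 1310720) (Steps.fwd (nat_lit 786432) (Steps.fwd (nat_lit 262144) (Steps.fwd (nat_lit 1572864) (Steps.bwd (nat_lit 1) (Steps.bwd (nat_lit 2) (Steps.bwd (nat_lit 1) (Steps.bwd (nat_lit 6) (Steps.fwd (nat_lit 262144) (Steps.fwd (nat_lit 786432) (Steps.bwd (nat_lit 1) Steps.nil))))))))))))) (nat_lit 34) (nat_lit 11),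
  Rule.mk (nat_lit 6) (nat_lit 274) (Steps.bwd (nat_lit 1) (Steps.bwd (nat_lit 3) (Steps.fwd (nat_lit 262144) (Steps.bwd (nat_lit 6) (Steps.bwd (nat_lit 1) (Steps.fwd (nat_lit 524288) (Steps.fwd (nat_lit 262144) (Steps.bwd (nat_lit 6) (Steps.fwd (nat_lit 262144) (Steps.bwd (nat_lit 3) (Steps.bwd (nat_lit 5) (Steps.bwd (nat_lit 6) (Steps.fwd (nat_lit 262144) Steps.nil))))))))))))) (nat_lit 35) (nat_lit 4),
  Rule.mk (nat_lit 1) (nat_lit 274) (Steps.fwd (nat_lit 786432) (Steps.bwd (nat_lit 1) (Steps.bwd (nat_lit 6) (Steps.fwd (nat_lit 262144) (Steps.bwd (nat_lit 2) (Steps.fwd (nat_lit 262144) (Steps.bwd (nat_lit 6) (Steps.bwd (nat_lit 1) (Steps.fwd (nat_lit 1572864) (Steps.fwd (nat_lit 1310720) (Steps.bwd (nat_lit 2) (Steps.fwd (nat_lit 262144) (Steps.bwd (nat_lit 6) Steps.nil))))))))))))) (nat_lit 34) (nat_lit 4),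
  Rule.mk (nat_lit 6) (nat_lit 274) (Steps.bwd (nat_lit 1) (Steps.bwd (nat_lit 6) (Steps.bwd (nat_lit 5) (Steps.fwd (nat_lit 786432) (Steps.bwd (nat_lit 1) (Steps.bwd (nat_lit 6) (Steps.fwd (nat_lit 262144) (Steps.bwd (nat_lit 2) (Steps.bwd (nat_lit 1) (Steps.fwd (nat_lit 1572864) (Steps.bwd (nat_lit 1) (Steps.bwd (nat_lit 2) (Steps.fwd (nat_lit 262144) Steps.nil))))))))))))) (nat_lit 34) (nat_lit 11),
  Rule.mk (nat_lit 6) (nat_lit 274) (Steps.bwd (nat_lit 1) (Steps.fwd (nat_lit 1572864) (Steps.fwd (nat_lit 1310720) (Steps.bwd (nat_lit 2) (Steps.fwd (nat_lit 262144) (Steps.bwd (nat_lit 6) (Steps.fwd (nat_lit 262144) (Steps.bwd (nat_lit 2) (Steps.bwd (nat_lit 1) (Steps.bwd (nat_lit 6) (Steps.fwd (nat_lit 262144) (Steps.bwd (nat_lit 2) (Steps.fwd (nat_lit 262144) Steps.nil))))))))))))) (nat_lit 34) (nat_lit 11),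
  Rule.mk (nat_lit 1) (nat_lit 274) (Steps.bwd (nat_lit 6) (Steps.bwd (nat_lit 5) (Steps.bwd (nat_lit 2) (Steps.bwd (nat_lit 1) (Steps.fwd (nat_lit 1572864) (Steps.fwd (nat_lit 262144) (Steps.fwd (nat_lit 786432) (Steps.bwd (nat_lit 1) (Steps.fwd (nat_lit 1572864) (Steps.fwd (nat_lit 262144) (Steps.fwd (nat_lit 786432) (Steps.bwd (nat_lit 1) (Steps.bwd (nat_lit 6) Steps.nil))))))))))))) (nat_lit 34) (nat_lit 12),
  Rule.mk (nat_lit 4) (nat_lit 114) (Steps.bwd (nat_lit 7) (Steps.fwd (nat_lit 1310720) (Steps.fwd (nat_lit 1048576) (Steps.bwd (nat_lit 7) (Steps.bwd (nat_lit 6) Steps.nil))))) (nat_lit 67) (nat_lit 3),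
  Rule.mk (nat_lit 4) (nat_lit 154) (Steps.bwd (nat_lit 1) (Steps.bwd (nat_lit 7) (Steps.fwd (nat_lit 1048576) (Steps.bwd (nat_lit 1) (Steps.bwd (nat_lit 4) (Steps.fwd (nat_lit 1835008) (Steps.bwd (nat_lit 1) Steps.nil))))))) (nat_lit 76) (nat_lit 2),
  Rule.mk (nat_lit 6) (nat_lit 154) (Steps.bwd (nat_lit 3) (Steps.fwd (nat_lit 1310720) (Steps.bwd (nat_lit 3) (Steps.fwd (nat_lit 1835008) (Steps.fwd (nat_lit 1572864) (Steps.fwd (nat_lit 524288) (Steps.fwd (nat_lit 1310720) Steps.nil))))))) (nat_lit 83) (nat_lit 5),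
  Rule.mk (nat_lit 1) (nat_lit 274) (Steps.bwd (nat_lit 6) (Steps.bwd (nat_lit 1) (Steps.bwd (nat_lit 2) (Steps.fwd (nat_lit 262144) (Steps.bwd (nat_lit 6) (Steps.bwd (nat_lit 1) (Steps.bwd (nat_lit 2) (Steps.bwd (nat_lit 1) (Steps.fwd (nat_lit 1572864) (Steps.fwd (nat_lit 262144) (Steps.fwd (nat_lit 1572864) (Steps.bwd (nat_lit 5) (Steps.fwd (nat_lit 786432) Steps.nil))))))))))))) (nat_lit 34) (nat_lit 2),
  Rule.mk (nat_lit 1) (nat_lit 274) (Steps.bwd (nat_lit 6) (Steps.fwd (nat_lit 1310720) (Steps.fwd (nat_lit 786432) (Steps.bwd (nat_lit 1) (Steps.bwd (nat_lit 6) (Steps.fwd (nat_lit 262144) (Steps.bwd (nat_lit 2) (Steps.bwd (nat_lit 1) (Steps.bwd (nat_lit 6) (Steps.fwd (nat_lit 262144) (Steps.fwd (nat_lit 786432) (Steps.bwd (nat_lit 1) (Steps.fwd (nat_lit 1572864) Steps.nil))))))))))))) (nat_lit 34) (nat_lit 12),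
  Rule.mk (nat_lit 1) (nat_lit 154) (Steps.fwd (nat_lit 524288) (Steps.bwd (nat_lit 1) (Steps.bwd (nat_lit 7) (Steps.fwd (nat_lit 524288) (Steps.fwd (nat_lit 262144) (Steps.fwd (nat_lit 524288) (Steps.bwd (nat_lit 7) Steps.nil))))))) (nat_lit 73) (nat_lit 6),
  Rule.mk (nat_lit 6) (nat_lit 274) (Steps.bwd (nat_lit 1) (Steps.fwd (nat_lit 524288) (Steps.bwd (nat_lit 1) (Steps.fwd (nat_lit 1572864) (Steps.fwd (nat_lit 262144) (Steps.bwd (nat_lit 3) (Steps.bwd (nat_lit 1) (Steps.fwd (nat_lit 1572864) (Steps.bwd (nat_lit 1) (Steps.fwd (nat_lit 524288) (Steps.bwd (nat_lit 5) (Steps.fwd (nat_lit 1572864) (Steps.fwd (nat_lit 262144) Steps.nil))))))))))))) (nat_lit 35) (nat_lit 4),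
  Rule.mk (nat_lit 6) (nat_lit 274) (Steps.bwd (nat_lit 1) (Steps.fwd (nat_lit 1572864) (Steps.bwd (nat_lit 5) (Steps.fwd (nat_lit 786432) (Steps.fwd (nat_lit 262144) (Steps.bwd (nat_lit 6) (Steps.bwd (nat_lit 1) (Steps.bwd (nat_lit 2) (Steps.fwd (nat_lit 262144) (Steps.fwd (nat_lit 1572864) (Steps.bwd (nat_lit 1) (Steps.fwd (nat_lit 786432) (Steps.fwd (nat_lit 262144) Steps.nil))))))))))))) (nat_lit 34) (nat_lit 11),
  Rule.mk (nat_lit 6) (nat_lit 274) (Steps.bwd (nat_lit 1) (Steps.fwd (nat_lit 1572864) (Steps.fwd (nat_lit 1310720) (Steps.fwd (nat_lit 786432) (Steps.fwd (nat_lit 262144) (Steps.fwd (nat_lit 1572864) (Steps.bwd (nat_lit 1) (Steps.bwd (nat_lit 2) (Steps.bwd (nat_lit 1) (Steps.bwd (nat_lit 6) (Steps.fwd (nat_lit 262144) (Steps.fwd (nat_lit 786432) (Steps.bwd (nat_lit 1) Steps.nil))))))))))))) (nat_lit 34) (nat_lit 11),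
  Rule.mk (nat_lit 1) (nat_lit 274) (Steps.bwd (nat_lit 6) (Steps.bwd (nat_lit 1) (Steps.bwd (nat_lit 2) (Steps.fwd (nat_lit 262144) (Steps.bwd (nat_lit 6) (Steps.fwd (nat_lit 262144) (Steps.bwd (nat_lit 6) (Steps.fwd (nat_lit 1310720) (Steps.bwd (nat_lit 2) (Steps.bwd (nat_lit 1) (Steps.fwd (nat_lit 1572864) (Steps.fwd (nat_lit 262144) (Steps.bwd (nat_lit 2) Steps.nil))))))))))))) (nat_lit 34) (nat_lit 6),
  Rule.mk (nat_lit 6) (nat_lit 274) (Steps.bwd (nat_lit 1) (Steps.bwd (nat_lit 2) (Steps.fwd (nat_lit 262144) (Steps.fwd (nat_lit 1572864) (Steps.fwd (nat_lit 262144) (Steps.bwd (nat_lit 2) (Steps.bwd (nat_lit 1) (Steps.bwd (nat_lit 6) (Steps.bwd (nat_lit 1) (Steps.bwd (nat_lit 6) (Steps.fwd (nat_lit 1310720) (Steps.fwd (nat_lit 786432) (Steps.fwd (nat_lit 262144) Steps.nil))))))))))))) (nat_lit 34) (nat_lit 3),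
  Rule.mk (nat_lit 4) (nat_lit 314) (Steps.bwd (nat_lit 8) (Steps.bwd (nat_lit 4) (Steps.bwd (nat_lit 9) (Steps.fwd (nat_lit 1048576) (Steps.bwd (nat_lit 8) (Steps.bwd (nat_lit 4) (Steps.bwd (nat_lit 9) (Steps.fwd (nat_lit 1048576) (Steps.fwd (nat_lit 2359296) (Steps.bwd (nat_lit 4) (Steps.bwd (nat_lit 9) (Steps.bwd (nat_lit 4) (Steps.fwd (nat_lit 2359296) (Steps.fwd (nat_lit 1048576) (Steps.fwd (nat_lit 2097152) Steps.nil))))))))))))))) (nat_lit 106) (nat_lit 0),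
  Rule.mk (nat_lit 1) (nat_lit 274) (Steps.bwd (nat_lit 6) (Steps.fwd (nat_lit 1310720) (Steps.bwd (nat_lit 2) (Steps.bwd (nat_lit 1) (Steps.fwd (nat_lit 1572864) (Steps.fwd (nat_lit 262144) (Steps.fwd (nat_lit 786432) (Steps.bwd (nat_lit 1) (Steps.fwd (nat_lit 1572864) (Steps.fwd (nat_lit 262144) (Steps.bwd (nat_lit 2) (Steps.bwd (nat_lit 1) (Steps.fwd (nat_lit 1572864) Steps.nil))))))))))))) (nat_lit 34) (nat_lit 12),
  Rule.mk (nat_lit 1) (nat_lit 274) (Steps.bwd (nat_lit 6) (Steps.fwd (nat_lit 1310720) (Steps.bwd (nat_lit 2) (Steps.bwd (nat_lit 1) (Steps.fwd (nat_lit 1572864) (Steps.fwd (nat_lit 262144) (Steps.fwd (nat_lit 786432) (Steps.bwd (nat_lit 1) (Steps.bwd (nat_lit 6) (Steps.fwd (nat_lit 262144) (Steps.fwd (nat_lit 786432) (Steps.bwd (nat_lit 1) (Steps.bwd (nat_lit 6) Steps.nil))))))))))))) (nat_lit 34) (nat_lit 12),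
  Rule.mk (nat_lit 1) (nat_lit 274) (Steps.bwd (nat_lit 6) (Steps.bwd (nat_lit 1) (Steps.bwd (nat_lit 3) (Steps.fwd (nat_lit 1310720) (Steps.fwd (nat_lit 1572864) (Steps.fwd (nat_lit 262144) (Steps.fwd (nat_lit 1572864) (Steps.bwd (nat_lit 1) (Steps.fwd (nat_lit 524288) (Steps.bwd (nat_lit 1) (Steps.fwd (nat_lit 1572864) (Steps.fwd (nat_lit 262144) (Steps.fwd (nat_lit 524288) Steps.nil))))))))))))) (nat_lit 35) (nat_lit 11),
  Rule.mk (nat_lit 1) (nat_lit 274) (Steps.bwd (nat_lit 6) (Steps.bwd (nat_lit 1) (Steps.bwd (nat_lit 2) (Steps.fwd (nat_lit 262144) (Steps.bwd (nat_lit 6) (Steps.bwd (nat_lit 1) (Steps.bwd (nat_lit 2) (Steps.bwd (nat_lit 1) (Steps.fwd (nat_lit 1572864) (Steps.fwd (nat_lit 262144) (Steps.fwd (nat_lit 1572864) (Steps.bwd (nat_lit 5) (Steps.bwd (nat_lit 2) Steps.nil))))))))))))) (nat_lit 34) (nat_lit 2),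
  Rule.mk (nat_lit 1) (nat_lit 274) (Steps.bwd (nat_lit 6) (Steps.bwd (nat_lit 1) (Steps.fwd (nat_lit 524288) (Steps.bwd (nat_lit 1) (Steps.fwd (nat_lit 1572864) (Steps.fwd (nat_lit 262144) (Steps.bwd (nat_lit 3) (Steps.bwd (nat_lit 1) (Steps.fwd (nat_lit 1572864) (Steps.fwd (nat_lit 262144) (Steps.bwd (nat_lit 3) (Steps.fwd (nat_lit 1310720) (Steps.bwd (nat_lit 6) Steps.nil))))))))))))) (nat_lit 35) (nat_lit 3),
  Rule.mk (nat_lit 1) (nat_lit 274) (Steps.bwd (nat_lit 6) (Steps.bwd (nat_lit 5) (Steps.bwd (nat_lit 2) (Steps.fwd (nat_lit 262144) (Steps.fwd (nat_lit 1572864) (Steps.fwd (nat_lit 262144) (Steps.fwd (nat_lit 786432) (Steps.bwd (nat_lit 1) (Steps.bwd (nat_lit 6) (Steps.bwd (nat_lit 1) (Steps.fwd (nat_lit 786432) (Steps.fwd (nat_lit 262144) (Steps.bwd (nat_lit 6) Steps.nil))))))))))))) (nat_lit 34) (nat_lit 12),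
  Rule.mk (nat_lit 6) (nat_lit 274) (Steps.bwd (nat_lit 1) (Steps.bwd (nat_lit 2) (Steps.fwd (nat_lit 262144) (Steps.bwd (nat_lit 6) (Steps.bwd (nat_lit 1) (Steps.fwd (nat_lit 786432) (Steps.fwd (nat_lit 262144) (Steps.fwd (nat_lit 1572864) (Steps.bwd (nat_lit 1) (Steps.bwd (nat_lit 6) (Steps.fwd (nat_lit 1310720) (Steps.bwd (nat_lit 2) (Steps.fwd (nat_lit 262144) Steps.nil))))))))))))) (nat_lit 34) (nat_lit 3),
  Rule.mk (nat_lit 1) (nat_lit 274) (Steps.bwd (nat_lit 6) (Steps.bwd (nat_lit 1) (Steps.bwd (nat_lit 2) (Steps.fwd (nat_lit 262144) (Steps.bwd (nat_lit 6) (Steps.fwd (nat_lit 262144) (Steps.fwd (nat_lit 1572864) (Steps.bwd (nat_lit 5) (Steps.fwd (nat_lit 786432) (Steps.bwd (nat_lit 1) (Steps.bwd (nat_lit 6) (Steps.fwd (nat_lit 262144) (Steps.bwd (nat_lit 2) Steps.nil))))))))))))) (nat_lit 34) (nat_lit 6),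
  Rule.mk (nat_lit 1) (nat_lit 274) (Steps.bwd (nat_lit 6) (Steps.bwd (nat_lit 1) (Steps.bwd (nat_lit 2) (Steps.bwd (nat_lit 1) (Steps.bwd (nat_lit 6) (Steps.fwd (nat_lit 262144) (Steps.bwd (nat_lit 2) (Steps.bwd (nat_lit 1) (Steps.bwd (nat_lit 6) (Steps.bwd (nat_lit 1) (Steps.bwd (nat_lit 6) (Steps.bwd (nat_lit 5) (Steps.bwd (nat_lit 2) Steps.nil))))))))))))) (nat_lit 34) (nat_lit 2),
  Rule.mk (nat_lit 1) (nat_lit 274) (Steps.bwd (nat_lit 6) (Steps.fwd (nat_lit 262144) (Steps.fwd (nat_lit 524288) (Steps.bwd (nat_lit 1) (Steps.bwd (nat_lit 6) (Steps.fwd (nat_lit 262144) (Steps.fwd (nat_lit 524288) (Steps.fwd (nat_lit 262144) (Steps.fwd (nat_lit 1572864) (Steps.bwd (nat_lit 1) (Steps.bwd (nat_lit 3) (Steps.bwd (nat_lit 5) (Steps.bwd (nat_lit 6) Steps.nil))))))))))))) (nat_lit 35) (nat_lit 3),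
  Rule.mk (nat_lit 3) (nat_lit 154) (Steps.bwd (nat_lit 1) (Steps.bwd (nat_lit 5) (Steps.fwd (nat_lit 524288) (Steps.fwd (nat_lit 262144) (Steps.fwd (nat_lit 524288) (Steps.bwd (nat_lit 5) (Steps.bwd (nat_lit 1) Steps.nil))))))) (nat_lit 71) (nat_lit 7),
  Rule.mk (nat_lit 1) (nat_lit 274) (Steps.bwd (nat_lit 6) (Steps.bwd (nat_lit 1) (Steps.bwd (nat_lit 6) (Steps.bwd (nat_lit 5) (Steps.fwd (nat_lit 786432) (Steps.fwd (nat_lit 262144) (Steps.fwd (nat_lit 1572864) (Steps.fwd (nat_lit 262144) (Steps.bwd (nat_lit 2) (Steps.bwd (nat_lit 1) (Steps.fwd (nat_lit 1572864) (Steps.fwd (nat_lit 262144) (Steps.fwd (nat_lit 786432) Steps.nil))))))))))))) (nat_lit 34) (nat_lit 10),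
  Rule.mk (nat_lit 4) (nat_lit 154) (Steps.bwd (nat_lit 1) (Steps.bwd (nat_lit 6) (Steps.fwd (nat_lit 262144) (Steps.bwd (nat_lit 4) (Steps.bwd (nat_lit 1) (Steps.bwd (nat_lit 6) (Steps.bwd (nat_lit 1) Steps.nil))))))) (nat_lit 74) (nat_lit 2),
  Rule.mk (nat_lit 6) (nat_lit 274) (Steps.bwd (nat_lit 1) (Steps.fwd (nat_lit 1572864) (Steps.bwd (nat_lit 1) (Steps.fwd (nat_lit 524288) (Steps.bwd (nat_lit 1) (Steps.fwd (nat_lit 1572864) (Steps.bwd (nat_lit 1) (Steps.bwd (nat_lit 3) (Steps.fwd (nat_lit 262144) (Steps.fwd (nat_lit 1572864) (Steps.fwd (nat_lit 262144) (Steps.fwd (nat_lit 524288) (Steps.bwd (nat_lit 5) Steps.nil))))))))))))) (nat_lit 35) (nat_lit 2),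
  Rule.mk (nat_lit 6) (nat_lit 274) (Steps.bwd (nat_lit 1) (Steps.fwd (nat_lit 524288) (Steps.bwd (nat_lit 1) (Steps.bwd (nat_lit 6) (Steps.fwd (nat_lit 262144) (Steps.bwd (nat_lit 3) (Steps.fwd (nat_lit 262144) (Steps.bwd (nat_lit 6) (Steps.bwd (nat_lit 1) (Steps.bwd (nat_lit 3) (Steps.fwd (nat_lit 1310720) (Steps.fwd (nat_lit 1572864) (Steps.fwd (nat_lit 262144) Steps.nil))))))))))))) (nat_lit 35) (nat_lit 4),
  Rule.mk (nat_lit 6) (nat_lit 114) (Steps.bwd (nat_lit 3) (Steps.bwd (nat_lit 7) (Steps.fwd (nat_lit 1572864) (Steps.bwd (nat_lit 2) (Steps.bwd (nat_lit 7) Steps.nil))))) (nat_lit 63) (nat_lit 5),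
  Rule.mk (nat_lit 6) (nat_lit 274) (Steps.bwd (nat_lit 1) (Steps.bwd (nat_lit 6) (Steps.bwd (nat_lit 1) (Steps.bwd (nat_lit 3) (Steps.fwd (nat_lit 262144) (Steps.fwd (nat_lit 1572864) (Steps.bwd (nat_lit 1) (Steps.bwd (nat_lit 3) (Steps.bwd (nat_lit 1) (Steps.fwd (nat_lit 1572864) (Steps.fwd (nat_lit 262144) (Steps.bwd (nat_lit 3) (Steps.bwd (nat_lit 5) Steps.nil))))))))))))) (nat_lit 35) (nat_lit 2),
  Rule.mk (nat_lit 6) (nat_lit 274) (Steps.bwd (nat_lit 1) (Steps.bwd (nat_lit 6) (Steps.fwd (nat_lit 1310720) (Steps.bwd (nat_lit 2) (Steps.fwd (nat_lit 262144) (Steps.fwd (nat_lit 1572864) (Steps.bwd (nat_lit 1) (Steps.bwd (nat_lit 2) (Steps.bwd (nat_lit 1) (Steps.bwd (nat_lit 6) (Steps.fwd (nat_lit 262144) (Steps.fwd (nat_lit 786432) (Steps.bwd (nat_lit 1) Steps.nil))))))))))))) (nat_lit 34) (nat_lit 11),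
  Rule.mk (nat_lit 1) (nat_lit 274) (Steps.bwd (nat_lit 6) (Steps.fwd (nat_lit 1310720) (Steps.bwd (nat_lit 2) (Steps.bwd (nat_lit 1) (Steps.fwd (nat_lit 1572864) (Steps.bwd (nat_lit 1) (Steps.fwd (nat_lit 786432) (Steps.bwd (nat_lit 1) (Steps.bwd (nat_lit 6) (Steps.fwd (nat_lit 262144) (Steps.bwd (nat_lit 2) (Steps.bwd (nat_lit 1) (Steps.bwd (nat_lit 6) Steps.nil))))))))))))) (nat_lit 34) (nat_lit 12),
  Rule.mk (nat_lit 6) (nat_lit 274) (Steps.bwd (nat_lit 1) (Steps.bwd (nat_lit 3) (Steps.bwd (nat_lit 1) (Steps.fwd (nat_lit 1572864) (Steps.bwd (nat_lit 1) (Steps.fwd (nat_lit 524288) (Steps.fwd (nat_lit 262144) (Steps.fwd (nat_lit 1572864) (Steps.bwd (nat_lit 1) (Steps.bwd (nat_lit 3) (Steps.bwd (nat_lit 5) (Steps.bwd (nat_lit 6) (Steps.fwd (nat_lit 262144) Steps.nil))))))))))))) (nat_lit 35) (nat_lit 4)]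
noncomputable def R_55 : List (Rule) := [Rule.mk (nat_lit 1) (nat_lit 274) (Steps.bwd (nat_lit 6) (Steps.bwd (nat_lit 5) (Steps.fwd (nat_lit 786432) (Steps.bwd (nat_lit 1) (Steps.bwd (nat_lit 6) (Steps.fwd (nat_lit 262144) (Steps.bwd (nat_lit 2) (Steps.bwd (nat_lit 1) (Steps.bwd (nat_lit 6) (Steps.fwd (nat_lit 262144) (Steps.fwd (nat_lit 786432) (Steps.bwd (nat_lit 1) (Steps.fwd (nat_lit 1572864) Steps.nil))))))))))))) (nat_lit 34) (nat_lit 12),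
  Rule.mk (nat_lit 6) (nat_lit 154) (Steps.bwd (nat_lit 2) (Steps.fwd (nat_lit 1310720) (Steps.bwd (nat_lit 6) (Steps.bwd (nat_lit 2) (Steps.fwd (nat_lit 1310720) (Steps.bwd (nat_lit 2) (Steps.bwd (nat_lit 7) Steps.nil))))))) (nat_lit 84) (nat_lit 5),
  Rule.mk (nat_lit 1) (nat_lit 274) (Steps.bwd (nat_lit 6) (Steps.fwd (nat_lit 1310720) (Steps.fwd (nat_lit 786432) (Steps.fwd (nat_lit 262144) (Steps.bwd (nat_lit 6) (Steps.bwd (nat_lit 1) (Steps.fwd (nat_lit 786432) (Steps.fwd (nat_lit 262144) (Steps.fwd (nat_lit 1572864) (Steps.bwd (nat_lit 1) (Steps.fwd (nat_lit 786432) (Steps.bwd (nat_lit 1) (Steps.bwd (nat_lit 6) Steps.nil))))))))))))) (nat_lit 34) (nat_lit 12),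
  Rule.mk (nat_lit 1) (nat_lit 154) (Steps.bwd (nat_lit 6) (Steps.bwd (nat_lit 1) (Steps.fwd (nat_lit 1048576) (Steps.fwd (nat_lit 262144) (Steps.fwd (nat_lit 1572864) (Steps.fwd (nat_lit 262144) (Steps.bwd (nat_lit 4) Steps.nil))))))) (nat_lit 74) (nat_lit 3),
  Rule.mk (nat_lit 1) (nat_lit 274) (Steps.bwd (nat_lit 6) (Steps.fwd (nat_lit 262144) (Steps.bwd (nat_lit 6) (Steps.fwd (nat_lit 1310720) (Steps.fwd (nat_lit 786432) (Steps.bwd (nat_lit 1) (Steps.fwd (nat_lit 1572864) (Steps.bwd (nat_lit 1) (Steps.fwd (nat_lit 786432) (Steps.fwd (nat_lit 262144) (Steps.fwd (nat_lit 1572864) (Steps.bwd (nat_lit 1) (Steps.bwd (nat_lit 2) Steps.nil))))))))))))) (nat_lit 34) (nat_lit 10),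
  Rule.mk (nat_lit 6) (nat_lit 274) (Steps.bwd (nat_lit 1) (Steps.bwd (nat_lit 6) (Steps.fwd (nat_lit 1310720) (Steps.fwd (nat_lit 786432) (Steps.fwd (nat_lit 262144) (Steps.bwd (nat_lit 6) (Steps.bwd (nat_lit 1) (Steps.bwd (nat_lit 2) (Steps.fwd (nat_lit 262144) (Steps.bwd (nat_lit 6) (Steps.fwd (nat_lit 262144) (Steps.fwd (nat_lit 786432) (Steps.fwd (nat_lit 262144) Steps.nil))))))))))))) (nat_lit 34) (nat_lit 11),
  Rule.mk (nat_lit 8) (nat_lit 314) (Steps.bwd (nat_lit 4) (Steps.bwd (nat_lit 9) (Steps.bwd (nat_lit 4) (Steps.bwd (nat_lit 8) (Steps.fwd (nat_lit 1048576) (Steps.fwd (nat_lit 2097152) (Steps.bwd (nat_lit 4) (Steps.fwd (nat_lit 2359296) (Steps.bwd (nat_lit 4) (Steps.bwd (nat_lit 9) (Steps.fwd (nat_lit 1048576) (Steps.fwd (nat_lit 2359296) (Steps.fwd (nat_lit 1048576) (Steps.fwd (nat_lit 2097152) (Steps.fwd (nat_lit 1048576) Steps.nil)))))))))))))))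 (nat_lit 106) (nat_lit 1),
  Rule.mk (nat_lit 9) (nat_lit 314) (Steps.bwd (nat_lit 4) (Steps.bwd (nat_lit 8) (Steps.bwd (nat_lit 4) (Steps.bwd (nat_lit 9) (Steps.fwd (nat_lit 1048576) (Steps.fwd (nat_lit 2359296) (Steps.fwd (nat_lit 1048576) (Steps.bwd (nat_lit 9) (Steps.fwd (nat_lit 1048576) (Steps.fwd (nat_lit 2359296) (Steps.fwd (nat_lit 1048576) (Steps.fwd (nat_lit 2097152) (Steps.bwd (nat_lit 4) (Steps.fwd (nat_lit 2359296) (Steps.bwd (nat_lit 4) Steps.nil))))))))))))))) (nat_lit 106) (nat_lit 3),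
  Rule.mk (nat_lit 1) (nat_lit 274) (Steps.bwd (nat_lit 3) (Steps.fwd (nat_lit 1310720) (Steps.bwd (nat_lit 6) (Steps.bwd (nat_lit 1) (Steps.bwd (nat_lit 6) (Steps.fwd (nat_lit 262144) (Steps.bwd (nat_lit 3) (Steps.fwd (nat_lit 262144) (Steps.fwd (nat_lit 1572864) (Steps.bwd (nat_lit 1) (Steps.fwd (nat_lit 524288) (Steps.fwd (nat_lit 262144) (Steps.bwd (nat_lit 6) Steps.nil))))))))))))) (nat_lit 35) (nat_lit 13),
  Rule.mk (nat_lit 6) (nat_lit 274) (Steps.bwd (nat_lit 1) (Steps.bwd (nat_lit 6) (Steps.fwd (nat_lit 1310720) (Steps.bwd (nat_lit 2) (Steps.bwd (nat_lit 1) (Steps.bwd (nat_lit 6) (Steps.fwd (nat_lit 262144) (Steps.fwd (nat_lit 786432) (Steps.bwd (nat_lit 1) (Steps.fwd (nat_lit 1572864) (Steps.fwd (nat_lit 262144) (Steps.fwd (nat_lit 786432) (Steps.fwd (nat_lit 262144) Steps.nil))))))))))))) (nat_lit 34) (nat_lit 11),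
  Rule.mk (nat_lit 1) (nat_lit 154) (Steps.bwd (nat_lit 6) (Steps.bwd (nat_lit 1) (Steps.bwd (nat_lit 4) (Steps.bwd (nat_lit 1) (Steps.fwd (nat_lit 1572864) (Steps.bwd (nat_lit 1) (Steps.bwd (nat_lit 4) Steps.nil))))))) (nat_lit 74) (nat_lit 3),
  Rule.mk (nat_lit 6) (nat_lit 274) (Steps.bwd (nat_lit 1) (Steps.bwd (nat_lit 3) (Steps.fwd (nat_lit 1310720) (Steps.fwd (nat_lit 1572864) (Steps.fwd (nat_lit 262144) (Steps.bwd (nat_lit 6) (Steps.bwd (nat_lit 1) (Steps.fwd (nat_lit 524288) (Steps.bwd (nat_lit 1) (Steps.bwd (nat_lit 6) (Steps.fwd (nat_lit 262144) (Steps.bwd (nat_lit 3) (Steps.fwd (nat_lit 262144) Steps.nil))))))))))))) (nat_lit 35) (nat_lit 12),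
  Rule.mk (nat_lit 6) (nat_lit 274) (Steps.bwd (nat_lit 1) (Steps.fwd (nat_lit 1572864) (Steps.fwd (nat_lit 1310720) (Steps.bwd (nat_lit 2) (Steps.fwd (nat_lit 262144) (Steps.fwd (nat_lit 1572864) (Steps.bwd (nat_lit 1) (Steps.bwd (nat_lit 2) (Steps.fwd (nat_lit 262144) (Steps.fwd (nat_lit 1572864) (Steps.bwd (nat_lit 1) (Steps.fwd (nat_lit 786432) (Steps.fwd (nat_lit 262144) Steps.nil))))))))))))) (nat_lit 34) (nat_lit 11),
  Rule.mk (nat_lit 1) (nat_lit 274) (Steps.bwd (nat_lit 6) (Steps.fwd (nat_lit 1310720) (Steps.bwd (nat_lit 2) (Steps.bwd (nat_lit 1) (Steps.fwd (nat_lit 1572864) (Steps.fwd (nat_lit 262144) (Steps.fwd (nat_lit 786432) (Steps.bwd (nat_lit 1) (Steps.fwd (nat_lit 1572864) (Steps.fwd (nat_lit 262144) (Steps.fwd (nat_lit 786432) (Steps.fwd (nat_lit 262144) (Steps.fwd (nat_lit 1572864) Steps.nil))))))))))))) (nat_lit 34) (nat_lit 12),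
  Rule.mk (nat_lit 0) (nat_lit 334) (Steps.bwd (nat_lit 4) (Steps.bwd (nat_lit 9) (Steps.bwd (nat_lit 4) (Steps.fwd (nat_lit 2359296) (Steps.bwd (nat_lit 4) (Steps.bwd (nat_lit 9) (Steps.bwd (nat_lit 4) (Steps.fwd (nat_lit 2359296) (Steps.fwd (nat_lit 1048576) (Steps.fwd (nat_lit 2097152) (Steps.bwd (nat_lit 4) (Steps.fwd (nat_lit 2359296) (Steps.fwd (nat_lit 1048576) (Steps.bwd (nat_lit 9) (Steps.fwd (nat_lit 1048576) (Steps.fwd (nat_lit 2359296) Steps.nil)))))))))))))))) (nat_lit 106) (nat_lit 1),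
  Rule.mk (nat_lit 2) (nat_lit 154) (Steps.bwd (nat_lit 1) (Steps.bwd (nat_lit 2) (Steps.bwd (nat_lit 5) (Steps.fwd (nat_lit 262144) (Steps.bwd (nat_lit 2) (Steps.bwd (nat_lit 1) (Steps.bwd (nat_lit 5) Steps.nil))))))) (nat_lit 70) (nat_lit 5),
  Rule.mk (nat_lit 0) (nat_lit 174) (Steps.bwd (nat_lit 1) (Steps.bwd (nat_lit 2) (Steps.fwd (nat_lit 1835008) (Steps.fwd (nat_lit 262144) (Steps.bwd (nat_lit 2) (Steps.bwd (nat_lit 1) (Steps.fwd (nat_lit 1835008) (Steps.bwd (nat_lit 2) Steps.nil)))))))) (nat_lit 72) (nat_lit 5),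
  Rule.mk (nat_lit 0) (nat_lit 74) (Steps.bwd (nat_lit 2) (Steps.fwd (nat_lit 0) (Steps.fwd (nat_lit 524288) Steps.nil))) (nat_lit 108) (nat_lit 0),
  Rule.mk (nat_lit 6) (nat_lit 94) (Steps.bwd (nat_lit 7) (Steps.fwd (nat_lit 1310720) (Steps.bwd (nat_lit 6) (Steps.bwd (nat_lit 5) Steps.nil)))) (nat_lit 25) (nat_lit 0),
  Rule.mk (nat_lit 4) (nat_lit 114) (Steps.bwd (nat_lit 7) (Steps.bwd (nat_lit 6) (Steps.bwd (nat_lit 4) (Steps.bwd (nat_lit 7) (Steps.fwd (nat_lit 1310720) Steps.nil))))) (nat_lit 67) (nat_lit 0),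
  Rule.mk (nat_lit 4) (nat_lit 154) (Steps.fwd (nat_lit 524288) (Steps.bwd (nat_lit 6) (Steps.bwd (nat_lit 7) (Steps.bwd (nat_lit 4) (Steps.bwd (nat_lit 3) (Steps.bwd (nat_lit 5) (Steps.bwd (nat_lit 7) Steps.nil))))))) (nat_lit 81) (nat_lit 7),
  Rule.mk (nat_lit 2) (nat_lit 154) (Steps.bwd (nat_lit 6) (Steps.fwd (nat_lit 1310720) (Steps.fwd (nat_lit 786432) (Steps.bwd (nat_lit 6) (Steps.bwd (nat_lit 7) (Steps.bwd (nat_lit 2) (Steps.bwd (nat_lit 5) Steps.nil))))))) (nat_lit 82) (nat_lit 3),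
  Rule.mk (nat_lit 4) (nat_lit 154) (Steps.fwd (nat_lit 1835008) (Steps.fwd (nat_lit 1572864) (Steps.bwd (nat_lit 3) (Steps.bwd (nat_lit 4) (Steps.bwd (nat_lit 7) (Steps.fwd (nat_lit 1310720) (Steps.bwd (nat_lit 3) Steps.nil))))))) (nat_lit 89) (nat_lit 1),
  Rule.mk (nat_lit 6) (nat_lit 154) (Steps.bwd (nat_lit 3) (Steps.bwd (nat_lit 7) (Steps.bwd (nat_lit 4) (Steps.fwd (nat_lit 1310720) (Steps.fwd (nat_lit 524288) (Steps.fwd (nat_lit 1835008) (Steps.fwd (nat_lit 1048576) Steps.nil))))))) (nat_lit 87) (nat_lit 3),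
  Rule.mk (nat_lit 1) (nat_lit 154) (Steps.bwd (nat_lit 2) (Steps.fwd (nat_lit 1310720) (Steps.bwd (nat_lit 1) (Steps.fwd (nat_lit 786432) (Steps.bwd (nat_lit 1) (Steps.bwd (nat_lit 5) (Steps.bwd (nat_lit 2) Steps.nil))))))) (nat_lit 70) (nat_lit 6),
  Rule.mk (nat_lit 0) (nat_lit 174) (Steps.bwd (nat_lit 4) (Steps.fwd (nat_lit 262144) (Steps.fwd (nat_lit 1572864) (Steps.bwd (nat_lit 1) (Steps.fwd (nat_lit 1048576) (Steps.fwd (nat_lit 262144) (Steps.fwd (nat_lit 1572864) (Steps.bwd (nat_lit 1) Steps.nil)))))))) (nat_lit 74) (nat_lit 1),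
  Rule.mk (nat_lit 0) (nat_lit 74) (Steps.bwd (nat_lit 5) (Steps.bwd (nat_lit 0) (Steps.fwd (nat_lit 1310720) Steps.nil))) (nat_lit 108) (nat_lit 0),
  Rule.mk (nat_lit 0) (nat_lit 74) (Steps.bwd (nat_lit 4) (Steps.bwd (nat_lit 0) (Steps.fwd (nat_lit 1048576) Steps.nil))) (nat_lit 108) (nat_lit 0),
  Rule.mk (nat_lit 0) (nat_lit 74) (Steps.bwd (nat_lit 1) (Steps.bwd (nat_lit 0) (Steps.fwd (nat_lit 262144) Steps.nil))) (nat_lit 108) (nat_lit 0),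
  Rule.mk (nat_lit 0) (nat_lit 74) (Steps.bwd (nat_lit 5) (Steps.bwd (nat_lit 0) (Steps.bwd (nat_lit 5) Steps.nil))) (nat_lit 108) (nat_lit 0),
  Rule.mk (nat_lit 0) (nat_lit 74) (Steps.bwd (nat_lit 4) (Steps.fwd (nat_lit 0) (Steps.bwd (nat_lit 4) Steps.nil))) (nat_lit 108) (nat_lit 0),
  Rule.mk (nat_lit 0) (nat_lit 94) (Steps.bwd (nat_lit 7) (Steps.bwd (nat_lit 0) (Steps.bwd (nat_lit 7) (Steps.fwd (nat_lit 0) Steps.nil)))) (nat_lit 108) (nat_lit 0),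
  Rule.mk (nat_lit 0) (nat_lit 74) (Steps.fwd (nat_lit 262144) (Steps.bwd (nat_lit 0) (Steps.fwd (nat_lit 262144) Steps.nil))) (nat_lit 108) (nat_lit 0),
  Rule.mk (nat_lit 0) (nat_lit 74) (Steps.fwd (nat_lit 2359296) (Steps.bwd (nat_lit 0) (Steps.fwd (nat_lit 2097152) Steps.nil))) (nat_lit 108) (nat_lit 0),
  Rule.mk (nat_lit 0) (nat_lit 74) (Steps.fwd (nat_lit 262144) (Steps.fwd (nat_lit 0) (Steps.bwd (nat_lit 1) Steps.nil))) (nat_lit 108) (nat_lit 0),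
  Rule.mk (nat_lit 0) (nat_lit 74) (Steps.bwd (nat_lit 2) (Steps.bwd (nat_lit 0) (Steps.fwd (nat_lit 524288) Steps.nil))) (nat_lit 108) (nat_lit 0),
  Rule.mk (nat_lit 0) (nat_lit 74) (Steps.bwd (nat_lit 8) (Steps.fwd (nat_lit 0) (Steps.bwd (nat_lit 9) Steps.nil))) (nat_lit 108) (nat_lit 0),
  Rule.mk (nat_lit 0) (nat_lit 74) (Steps.fwd (nat_lit 2359296) (Steps.bwd (nat_lit 0) (Steps.bwd (nat_lit 9) Steps.nil))) (nat_lit 108) (nat_lit 0),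
  Rule.mk (nat_lit 0) (nat_lit 74) (Steps.bwd (nat_lit 4) (Steps.fwd (nat_lit 0) (Steps.fwd (nat_lit 1048576) Steps.nil))) (nat_lit 108) (nat_lit 0),
  Rule.mk (nat_lit 0) (nat_lit 74) (Steps.fwd (nat_lit 1048576) (Steps.fwd (nat_lit 0) (Steps.bwd (nat_lit 4) Steps.nil))) (nat_lit 108) (nat_lit 0),
  Rule.mk (nat_lit 0) (nat_lit 74) (Steps.fwd (nat_lit 262144) (Steps.bwd (nat_lit 0) (Steps.bwd (nat_lit 1) Steps.nil))) (nat_lit 108) (nat_lit 0),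
  Rule.mk (nat_lit 0) (nat_lit 74) (Steps.fwd (nat_lit 2097152) (Steps.fwd (nat_lit 0) (Steps.bwd (nat_lit 8) Steps.nil))) (nat_lit 108) (nat_lit 0),
  Rule.mk (nat_lit 0) (nat_lit 94) (Steps.bwd (nat_lit 1) (Steps.bwd (nat_lit 0) (Steps.fwd (nat_lit 262144) (Steps.fwd (nat_lit 0) Steps.nil)))) (nat_lit 108) (nat_lit 0),
  Rule.mk (nat_lit 0) (nat_lit 94) (Steps.bwd (nat_lit 0) (Steps.bwd (nat_lit 1) (Steps.fwd (nat_lit 0) (Steps.fwd (nat_lit 262144) Steps.nil)))) (nat_lit 108) (nat_lit 0),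
  Rule.mk (nat_lit 0) (nat_lit 54) (Steps.fwd (nat_lit 0) (Steps.fwd (nat_lit 0) Steps.nil)) (nat_lit 108) (nat_lit 0),
  Rule.mk (nat_lit 0) (nat_lit 74) (Steps.bwd (nat_lit 8) (Steps.fwd (nat_lit 0) (Steps.fwd (nat_lit 2097152) Steps.nil))) (nat_lit 108) (nat_lit 0),
  Rule.mk (nat_lit 0) (nat_lit 74) (Steps.fwd (nat_lit 1048576) (Steps.fwd (nat_lit 0) (Steps.fwd (nat_lit 1048576) Steps.nil))) (nat_lit 108) (nat_lit 0),
  Rule.mk (nat_lit 0) (nat_lit 94) (Steps.bwd (nat_lit 0) (Steps.fwd (nat_lit 2359296) (Steps.bwd (nat_lit 0) (Steps.bwd (nat_lit 9) Steps.nil)))) (nat_lit 108) (nat_lit 0),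
  Rule.mk (nat_lit 0) (nat_lit 94) (Steps.bwd (nat_lit 7) (Steps.bwd (nat_lit 0) (Steps.fwd (nat_lit 1835008) (Steps.fwd (nat_lit 0) Steps.nil)))) (nat_lit 108) (nat_lit 0),
  Rule.mk (nat_lit 0) (nat_lit 74) (Steps.fwd (nat_lit 2359296) (Steps.fwd (nat_lit 0) (Steps.fwd (nat_lit 2097152) Steps.nil))) (nat_lit 108) (nat_lit 0),
  Rule.mk (nat_lit 0) (nat_lit 94) (Steps.fwd (nat_lit 1310720) (Steps.bwd (nat_lit 0) (Steps.bwd (nat_lit 5) (Steps.fwd (nat_lit 0) Steps.nil)))) (nat_lit 108) (nat_lit 0),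
  Rule.mk (nat_lit 0) (nat_lit 94) (Steps.bwd (nat_lit 0) (Steps.fwd (nat_lit 2097152) (Steps.bwd (nat_lit 0) (Steps.fwd (nat_lit 2359296) Steps.nil)))) (nat_lit 108) (nat_lit 0),
  Rule.mk (nat_lit 0) (nat_lit 94) (Steps.bwd (nat_lit 0) (Steps.bwd (nat_lit 6) (Steps.fwd (nat_lit 0) (Steps.fwd (nat_lit 1572864) Steps.nil)))) (nat_lit 108) (nat_lit 0),
  Rule.mk (nat_lit 0) (nat_lit 74) (Steps.fwd (nat_lit 1048576) (Steps.bwd (nat_lit 0) (Steps.bwd (nat_lit 4) Steps.nil))) (nat_lit 108) (nat_lit 0),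
  Rule.mk (nat_lit 0) (nat_lit 74) (Steps.fwd (nat_lit 1048576) (Steps.bwd (nat_lit 0) (Steps.fwd (nat_lit 1048576) Steps.nil))) (nat_lit 108) (nat_lit 0),
  Rule.mk (nat_lit 0) (nat_lit 74) (Steps.fwd (nat_lit 2097152) (Steps.bwd (nat_lit 0) (Steps.bwd (nat_lit 8) Steps.nil))) (nat_lit 108) (nat_lit 0),
  Rule.mk (nat_lit 0) (nat_lit 94) (Steps.fwd (nat_lit 524288) (Steps.bwd (nat_lit 0) (Steps.bwd (nat_lit 2) (Steps.fwd (nat_lit 0) Steps.nil)))) (nat_lit 108) (nat_lit 0),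
  Rule.mk (nat_lit 0) (nat_lit 94) (Steps.bwd (nat_lit 0) (Steps.bwd (nat_lit 3) (Steps.fwd (nat_lit 0) (Steps.bwd (nat_lit 2) Steps.nil)))) (nat_lit 108) (nat_lit 0),
  Rule.mk (nat_lit 0) (nat_lit 94) (Steps.bwd (nat_lit 0) (Steps.bwd (nat_lit 7) (Steps.fwd (nat_lit 0) (Steps.bwd (nat_lit 7) Steps.nil)))) (nat_lit 108) (nat_lit 0),
  Rule.mk (nat_lit 0) (nat_lit 94) (Steps.fwd (nat_lit 786432) (Steps.bwd (nat_lit 0) (Steps.bwd (nat_lit 3) (Steps.fwd (nat_lit 0) Steps.nil)))) (nat_lit 108) (nat_lit 0),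
  Rule.mk (nat_lit 2) (nat_lit 74) (Steps.bwd (nat_lit 0) (Steps.fwd (nat_lit 524288) (Steps.fwd (nat_lit 0) Steps.nil))) (nat_lit 108) (nat_lit 0),
  Rule.mk (nat_lit 0) (nat_lit 94) (Steps.bwd (nat_lit 0) (Steps.fwd (nat_lit 1048576) (Steps.fwd (nat_lit 0) (Steps.fwd (nat_lit 1048576) Steps.nil)))) (nat_lit 108) (nat_lit 0),
  Rule.mk (nat_lit 0) (nat_lit 94) (Steps.fwd (nat_lit 1835008) (Steps.bwd (nat_lit 0) (Steps.fwd (nat_lit 1835008) (Steps.fwd (nat_lit 0) Steps.nil)))) (nat_lit 108) (nat_lit 0),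
  Rule.mk (nat_lit 0) (nat_lit 94) (Steps.bwd (nat_lit 5) (Steps.fwd (nat_lit 0) (Steps.bwd (nat_lit 5) (Steps.fwd (nat_lit 0) Steps.nil)))) (nat_lit 108) (nat_lit 0)]
noncomputable def R_56 : List (Rule) := [Rule.mk (nat_lit 6) (nat_lit 114) (Steps.fwd (nat_lit 1835008) (Steps.fwd (nat_lit 524288) (Steps.bwd (nat_lit 6) (Steps.bwd (nat_lit 7) (Steps.bwd (nat_lit 2) Steps.nil))))) (nat_lit 62) (nat_lit 2),
  Rule.mk (nat_lit 0) (nat_lit 94) (Steps.bwd (nat_lit 8) (Steps.bwd (nat_lit 7) (Steps.fwd (nat_lit 2097152) (Steps.fwd (nat_lit 1310720) Steps.nil)))) (nat_lit 98) (nat_lit 0),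
  Rule.mk (nat_lit 2) (nat_lit 114) (Steps.fwd (nat_lit 262144) (Steps.fwd (nat_lit 524288) (Steps.fwd (nat_lit 2097152) (Steps.fwd (nat_lit 262144) (Steps.bwd (nat_lit 8) Steps.nil))))) (nat_lit 104) (nat_lit 2),
  Rule.mk (nat_lit 2) (nat_lit 154) (Steps.bwd (nat_lit 5) (Steps.fwd (nat_lit 786432) (Steps.bwd (nat_lit 6) (Steps.fwd (nat_lit 1310720) (Steps.bwd (nat_lit 2) (Steps.fwd (nat_lit 1572864) (Steps.bwd (nat_lit 7) Steps.nil))))))) (nat_lit 82) (nat_lit 1),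
  Rule.mk (nat_lit 2) (nat_lit 154) (Steps.bwd (nat_lit 1) (Steps.fwd (nat_lit 1835008) (Steps.fwd (nat_lit 786432) (Steps.bwd (nat_lit 1) (Steps.bwd (nat_lit 2) (Steps.fwd (nat_lit 1835008) (Steps.fwd (nat_lit 262144) Steps.nil))))))) (nat_lit 72) (nat_lit 2),
  Rule.mk (nat_lit 4) (nat_lit 154) (Steps.fwd (nat_lit 262144) (Steps.bwd (nat_lit 7) (Steps.bwd (nat_lit 4) (Steps.bwd (nat_lit 1) (Steps.bwd (nat_lit 4) (Steps.bwd (nat_lit 7) (Steps.fwd (nat_lit 262144) Steps.nil))))))) (nat_lit 76) (nat_lit 2),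
  Rule.mk (nat_lit 4) (nat_lit 154) (Steps.bwd (nat_lit 5) (Steps.fwd (nat_lit 1835008) (Steps.bwd (nat_lit 3) (Steps.bwd (nat_lit 4) (Steps.fwd (nat_lit 1572864) (Steps.bwd (nat_lit 7) (Steps.bwd (nat_lit 3) Steps.nil))))))) (nat_lit 93) (nat_lit 5),
  Rule.mk (nat_lit 0) (nat_lit 174) (Steps.bwd (nat_lit 1) (Steps.bwd (nat_lit 7) (Steps.bwd (nat_lit 4) (Steps.fwd (nat_lit 262144) (Steps.fwd (nat_lit 1048576) (Steps.fwd (nat_lit 1835008) (Steps.fwd (nat_lit 262144) (Steps.bwd (nat_lit 4) Steps.nil)))))))) (nat_lit 76) (nat_lit 2),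
  Rule.mk (nat_lit 4) (nat_lit 114) (Steps.fwd (nat_lit 786432) (Steps.bwd (nat_lit 7) (Steps.bwd (nat_lit 4) (Steps.fwd (nat_lit 786432) (Steps.bwd (nat_lit 7) Steps.nil))))) (nat_lit 64) (nat_lit 0),
  Rule.mk (nat_lit 3) (nat_lit 154) (Steps.bwd (nat_lit 6) (Steps.bwd (nat_lit 7) (Steps.bwd (nat_lit 4) (Steps.fwd (nat_lit 524288) (Steps.bwd (nat_lit 5) (Steps.fwd (nat_lit 1835008) (Steps.bwd (nat_lit 4) Steps.nil))))))) (nat_lit 81) (nat_lit 0),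
  Rule.mk (nat_lit 5) (nat_lit 94) (Steps.fwd (nat_lit 1835008) (Steps.fwd (nat_lit 2359296) (Steps.fwd (nat_lit 1310720) (Steps.bwd (nat_lit 9) Steps.nil)))) (nat_lit 100) (nat_lit 4),
  Rule.mk (nat_lit 6) (nat_lit 94) (Steps.fwd (nat_lit 1310720) (Steps.fwd (nat_lit 1572864) (Steps.bwd (nat_lit 5) (Steps.fwd (nat_lit 1835008) Steps.nil)))) (nat_lit 24) (nat_lit 1),
  Rule.mk (nat_lit 6) (nat_lit 274) (Steps.bwd (nat_lit 1) (Steps.fwd (nat_lit 524288) (Steps.fwd (nat_lit 262144) (Steps.bwd (nat_lit 6) (Steps.fwd (nat_lit 262144) (Steps.bwd (nat_lit 3) (Steps.fwd (nat_lit 1310720) (Steps.bwd (nat_lit 6) (Steps.bwd (nat_lit 1) (Steps.bwd (nat_lit 6) (Steps.bwd (nat_lit 1) (Steps.bwd (nat_lit 3) (Steps.fwd (nat_lit 262144) Steps.nil))))))))))))) (nat_lit 35) (nat_lit 8),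
  Rule.mk (nat_lit 6) (nat_lit 274) (Steps.fwd (nat_lit 262144) (Steps.fwd (nat_lit 524288) (Steps.bwd (nat_lit 1) (Steps.bwd (nat_lit 6) (Steps.bwd (nat_lit 1) (Steps.bwd (nat_lit 3) (Steps.fwd (nat_lit 262144) (Steps.bwd (nat_lit 6) (Steps.bwd (nat_lit 1) (Steps.fwd (nat_lit 524288) (Steps.bwd (nat_lit 5) (Steps.fwd (nat_lit 1572864) (Steps.fwd (nat_lit 262144) Steps.nil))))))))))))) (nat_lit 35) (nat_lit 4),
  Rule.mk (nat_lit 1) (nat_lit 274) (Steps.bwd (nat_lit 3) (Steps.bwd (nat_lit 1) (Steps.bwd (nat_lit 6) (Steps.bwd (nat_lit 1) (Steps.bwd (nat_lit 3) (Steps.bwd (nat_lit 5) (Steps.fwd (nat_lit 1572864) (Steps.fwd (nat_lit 262144) (Steps.fwd (nat_lit 1572864) (Steps.bwd (nat_lit 1) (Steps.bwd (nat_lit 3) (Steps.fwd (nat_lit 262144) (Steps.bwd (nat_lit 6) Steps.nil))))))))))))) (nat_lit 35) (nat_lit 9),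
  Rule.mk (nat_lit 2) (nat_lit 154) (Steps.fwd (nat_lit 1310720) (Steps.bwd (nat_lit 1) (Steps.bwd (nat_lit 2) (Steps.bwd (nat_lit 1) (Steps.bwd (nat_lit 5) (Steps.fwd (nat_lit 786432) (Steps.fwd (nat_lit 262144) Steps.nil))))))) (nat_lit 70) (nat_lit 7),
  Rule.mk (nat_lit 2) (nat_lit 154) (Steps.bwd (nat_lit 7) (Steps.bwd (nat_lit 1) (Steps.bwd (nat_lit 2) (Steps.bwd (nat_lit 1) (Steps.bwd (nat_lit 7) (Steps.fwd (nat_lit 786432) (Steps.fwd (nat_lit 262144) Steps.nil))))))) (nat_lit 72) (nat_lit 7),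
  Rule.mk (nat_lit 1) (nat_lit 274) (Steps.fwd (nat_lit 786432) (Steps.bwd (nat_lit 1) (Steps.bwd (nat_lit 6) (Steps.fwd (nat_lit 262144) (Steps.bwd (nat_lit 2) (Steps.bwd (nat_lit 1) (Steps.fwd (nat_lit 1572864) (Steps.fwd (nat_lit 262144) (Steps.bwd (nat_lit 6) (Steps.fwd (nat_lit 1310720) (Steps.fwd (nat_lit 786432) (Steps.fwd (nat_lit 262144) (Steps.fwd (nat_lit 1572864) Steps.nil))))))))))))) (nat_lit 34) (nat_lit 4),
  Rule.mk (nat_lit 1) (nat_lit 274) (Steps.fwd (nat_lit 1572864) (Steps.bwd (nat_lit 1) (Steps.fwd (nat_lit 524288) (Steps.bwd (nat_lit 5) (Steps.fwd (nat_lit 1572864) (Steps.fwd (nat_lit 262144) (Steps.fwd (nat_lit 1572864) (Steps.bwd (nat_lit 1) (Steps.fwd (nat_lit 524288) (Steps.fwd (nat_lit 262144) (Steps.fwd (nat_lit 1572864) (Steps.bwd (nat_lit 1) (Steps.bwd (nat_lit 3) Steps.nil))))))))))))) (nat_lit 35) (nat_lit 11),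
  Rule.mk (nat_lit 3) (nat_lit 114) (Steps.bwd (nat_lit 9) (Steps.fwd (nat_lit 262144) (Steps.fwd (nat_lit 2359296) (Steps.bwd (nat_lit 2) (Steps.bwd (nat_lit 1) Steps.nil))))) (nat_lit 104) (nat_lit 4),
  Rule.mk (nat_lit 1) (nat_lit 274) (Steps.bwd (nat_lit 6) (Steps.bwd (nat_lit 1) (Steps.fwd (nat_lit 1572864) (Steps.fwd (nat_lit 1310720) (Steps.bwd (nat_lit 2) (Steps.fwd (nat_lit 262144) (Steps.fwd (nat_lit 1572864) (Steps.bwd (nat_lit 1) (Steps.bwd (nat_lit 2) (Steps.bwd (nat_lit 1) (Steps.bwd (nat_lit 6) (Steps.bwd (nat_lit 1) (Steps.bwd (nat_lit 2) Steps.nil))))))))))))) (nat_lit 34) (nat_lit 10),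
  Rule.mk (nat_lit 1) (nat_lit 274) (Steps.bwd (nat_lit 3) (Steps.bwd (nat_lit 1) (Steps.bwd (nat_lit 6) (Steps.bwd (nat_lit 1) (Steps.fwd (nat_lit 524288) (Steps.fwd (nat_lit 1310720) (Steps.fwd (nat_lit 1572864) (Steps.bwd (nat_lit 1) (Steps.fwd (nat_lit 1572864) (Steps.fwd (nat_lit 262144) (Steps.fwd (nat_lit 524288) (Steps.bwd (nat_lit 1) (Steps.fwd (nat_lit 1572864) Steps.nil))))))))))))) (nat_lit 35) (nat_lit 9),
  Rule.mk (nat_lit 3) (nat_lit 154) (Steps.bwd (nat_lit 1) (Steps.fwd (nat_lit 786432) (Steps.fwd (nat_lit 262144) (Steps.fwd (nat_lit 524288) (Steps.fwd (nat_lit 262144) (Steps.fwd (nat_lit 786432) (Steps.fwd (nat_lit 262144) Steps.nil))))))) (nat_lit 68) (nat_lit 0),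
  Rule.mk (nat_lit 3) (nat_lit 274) (Steps.fwd (nat_lit 1310720) (Steps.fwd (nat_lit 1572864) (Steps.bwd (nat_lit 1) (Steps.fwd (nat_lit 1572864) (Steps.bwd (nat_lit 1) (Steps.fwd (nat_lit 524288) (Steps.fwd (nat_lit 262144) (Steps.fwd (nat_lit 1572864) (Steps.fwd (nat_lit 262144) (Steps.bwd (nat_lit 3) (Steps.bwd (nat_lit 1) (Steps.fwd (nat_lit 1572864) (Steps.fwd (nat_lit 262144) Steps.nil))))))))))))) (nat_lit 35) (nat_lit 0),
  Rule.mk (nat_lit 4) (nat_lit 154) (Steps.bwd (nat_lit 3) (Steps.bwd (nat_lit 7) (Steps.bwd (nat_lit 6) (Steps.bwd (nat_lit 4) (Steps.bwd (nat_lit 3) (Steps.fwd (nat_lit 1835008) (Steps.bwd (nat_lit 5) Steps.nil))))))) (nat_lit 79) (nat_lit 7),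
  Rule.mk (nat_lit 4) (nat_lit 114) (Steps.bwd (nat_lit 7) (Steps.fwd (nat_lit 786432) (Steps.bwd (nat_lit 4) (Steps.bwd (nat_lit 7) (Steps.fwd (nat_lit 786432) Steps.nil))))) (nat_lit 56) (nat_lit 2),
  Rule.mk (nat_lit 3) (nat_lit 114) (Steps.fwd (nat_lit 1048576) (Steps.bwd (nat_lit 7) (Steps.fwd (nat_lit 524288) (Steps.bwd (nat_lit 4) (Steps.bwd (nat_lit 7) Steps.nil))))) (nat_lit 65) (nat_lit 0),
  Rule.mk (nat_lit 0) (nat_lit 94) (Steps.bwd (nat_lit 4) (Steps.fwd (nat_lit 1572864) (Steps.fwd (nat_lit 1048576) (Steps.fwd (nat_lit 1310720) Steps.nil)))) (nat_lit 22) (nat_lit 2),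
  Rule.mk (nat_lit 6) (nat_lit 274) (Steps.bwd (nat_lit 1) (Steps.bwd (nat_lit 6) (Steps.fwd (nat_lit 1310720) (Steps.bwd (nat_lit 2) (Steps.bwd (nat_lit 1) (Steps.bwd (nat_lit 6) (Steps.bwd (nat_lit 1) (Steps.bwd (nat_lit 2) (Steps.fwd (nat_lit 262144) (Steps.bwd (nat_lit 6) (Steps.bwd (nat_lit 1) (Steps.fwd (nat_lit 786432) (Steps.fwd (nat_lit 262144) Steps.nil))))))))))))) (nat_lit 34) (nat_lit 11),
  Rule.mk (nat_lit 7) (nat_lit 154) (Steps.fwd (nat_lit 1310720) (Steps.fwd (nat_lit 524288) (Steps.bwd (nat_lit 4) (Steps.fwd (nat_lit 1835008) (Steps.bwd (nat_lit 6) (Steps.fwd (nat_lit 524288) (Steps.fwd (nat_lit 1048576) Steps.nil))))))) (nat_lit 89) (nat_lit 6),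
  Rule.mk (nat_lit 0) (nat_lit 134) (Steps.bwd (nat_lit 4) (Steps.bwd (nat_lit 7) (Steps.fwd (nat_lit 1310720) (Steps.fwd (nat_lit 1048576) (Steps.bwd (nat_lit 7) (Steps.bwd (nat_lit 6) Steps.nil)))))) (nat_lit 67) (nat_lit 2),
  Rule.mk (nat_lit 1) (nat_lit 154) (Steps.bwd (nat_lit 6) (Steps.bwd (nat_lit 1) (Steps.bwd (nat_lit 4) (Steps.bwd (nat_lit 1) (Steps.bwd (nat_lit 6) (Steps.fwd (nat_lit 262144) (Steps.bwd (nat_lit 4) Steps.nil))))))) (nat_lit 74) (nat_lit 3),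
  Rule.mk (nat_lit 1) (nat_lit 114) (Steps.fwd (nat_lit 524288) (Steps.fwd (nat_lit 2097152) (Steps.fwd (nat_lit 262144) (Steps.bwd (nat_lit 8) (Steps.fwd (nat_lit 786432) Steps.nil))))) (nat_lit 104) (nat_lit 3),
  Rule.mk (nat_lit 1) (nat_lit 114) (Steps.fwd (nat_lit 524288) (Steps.fwd (nat_lit 262144) (Steps.fwd (nat_lit 524288) (Steps.bwd (nat_lit 1) (Steps.fwd (nat_lit 524288) Steps.nil))))) (nat_lit 13) (nat_lit 0),
  Rule.mk (nat_lit 1) (nat_lit 274) (Steps.fwd (nat_lit 1572864) (Steps.bwd (nat_lit 1) (Steps.fwd (nat_lit 524288) (Steps.fwd (nat_lit 262144) (Steps.fwd (nat_lit 1572864) (Steps.bwd (nat_lit 1) (Steps.fwd (nat_lit 524288) (Steps.bwd (nat_lit 1) (Steps.bwd (nat_lit 6) (Steps.fwd (nat_lit 262144) (Steps.fwd (nat_lit 524288) (Steps.fwd (nat_lit 1310720) (Steps.fwd (nat_lit 1572864) Steps.nil))))))))))))) (nat_lit 35) (nat_lit 3),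
  Rule.mk (nat_lit 1) (nat_lit 114) (Steps.fwd (nat_lit 786432) (Steps.fwd (nat_lit 262144) (Steps.bwd (nat_lit 2) (Steps.bwd (nat_lit 1) (Steps.fwd (nat_lit 786432) Steps.nil))))) (nat_lit 12) (nat_lit 1),
  Rule.mk (nat_lit 0) (nat_lit 334) (Steps.bwd (nat_lit 9) (Steps.bwd (nat_lit 4) (Steps.bwd (nat_lit 8) (Steps.fwd (nat_lit 1048576) (Steps.bwd (nat_lit 9) (Steps.bwd (nat_lit 4) (Steps.fwd (nat_lit 2359296) (Steps.fwd (nat_lit 1048576) (Steps.bwd (nat_lit 9) (Steps.fwd (nat_lit 1048576) (Steps.fwd (nat_lit 2359296) (Steps.bwd (nat_lit 4) (Steps.fwd (nat_lit 2097152) (Steps.bwd (nat_lit 4) (Steps.bwd (nat_lit 8) (Steps.fwd (nat_lit 1048576) Steps.nil)))))))))))))))) (nat_lit 106) (nat_lit 2),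
  Rule.mk (nat_lit 2) (nat_lit 154) (Steps.bwd (nat_lit 1) (Steps.bwd (nat_lit 7) (Steps.bwd (nat_lit 2) (Steps.bwd (nat_lit 1) (Steps.fwd (nat_lit 786432) (Steps.bwd (nat_lit 7) (Steps.fwd (nat_lit 262144) Steps.nil))))))) (nat_lit 72) (nat_lit 2),
  Rule.mk (nat_lit 0) (nat_lit 134) (Steps.bwd (nat_lit 4) (Steps.bwd (nat_lit 6) (Steps.bwd (nat_lit 3) (Steps.bwd (nat_lit 4) (Steps.bwd (nat_lit 5) (Steps.fwd (nat_lit 524288) Steps.nil)))))) (nat_lit 59) (nat_lit 0),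
  Rule.mk (nat_lit 2) (nat_lit 114) (Steps.bwd (nat_lit 5) (Steps.fwd (nat_lit 1835008) (Steps.bwd (nat_lit 3) (Steps.fwd (nat_lit 1310720) (Steps.bwd (nat_lit 7) Steps.nil))))) (nat_lit 60) (nat_lit 1),
  Rule.mk (nat_lit 4) (nat_lit 154) (Steps.fwd (nat_lit 1835008) (Steps.fwd (nat_lit 1310720) (Steps.bwd (nat_lit 3) (Steps.bwd (nat_lit 4) (Steps.bwd (nat_lit 7) (Steps.fwd (nat_lit 1572864) (Steps.fwd (nat_lit 524288) Steps.nil))))))) (nat_lit 89) (nat_lit 5),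
  Rule.mk (nat_lit 3) (nat_lit 154) (Steps.fwd (nat_lit 1835008) (Steps.bwd (nat_lit 5) (Steps.bwd (nat_lit 4) (Steps.fwd (nat_lit 524288) (Steps.fwd (nat_lit 1835008) (Steps.bwd (nat_lit 6) (Steps.fwd (nat_lit 1048576) Steps.nil))))))) (nat_lit 79) (nat_lit 4),
  Rule.mk (nat_lit 4) (nat_lit 114) (Steps.fwd (nat_lit 524288) (Steps.bwd (nat_lit 7) (Steps.fwd (nat_lit 1048576) (Steps.bwd (nat_lit 3) (Steps.bwd (nat_lit 7) Steps.nil))))) (nat_lit 57) (nat_lit 2),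
  Rule.mk (nat_lit 9) (nat_lit 314) (Steps.bwd (nat_lit 4) (Steps.bwd (nat_lit 8) (Steps.fwd (nat_lit 1048576) (Steps.bwd (nat_lit 9) (Steps.fwd (nat_lit 1048576) (Steps.fwd (nat_lit 2359296) (Steps.fwd (nat_lit 1048576) (Steps.fwd (nat_lit 2097152) (Steps.bwd (nat_lit 4) (Steps.bwd (nat_lit 8) (Steps.bwd (nat_lit 4) (Steps.bwd (nat_lit 9) (Steps.fwd (nat_lit 1048576) (Steps.fwd (nat_lit 2359296) (Steps.fwd (nat_lit 1048576) Steps.nil))))))))))))))) (nat_lit 106) (nat_lit 3),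
  Rule.mk (nat_lit 3) (nat_lit 154) (Steps.bwd (nat_lit 7) (Steps.fwd (nat_lit 1572864) (Steps.fwd (nat_lit 1048576) (Steps.bwd (nat_lit 3) (Steps.fwd (nat_lit 1835008) (Steps.bwd (nat_lit 5) (Steps.fwd (nat_lit 1048576) Steps.nil))))))) (nat_lit 79) (nat_lit 0),
  Rule.mk (nat_lit 2) (nat_lit 154) (Steps.bwd (nat_lit 4) (Steps.bwd (nat_lit 6) (Steps.fwd (nat_lit 1835008) (Steps.bwd (nat_lit 2) (Steps.fwd (nat_lit 1048576) (Steps.fwd (nat_lit 1310720) (Steps.bwd (nat_lit 7) Steps.nil))))))) (nat_lit 78) (nat_lit 5),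
  Rule.mk (nat_lit 3) (nat_lit 114) (Steps.fwd (nat_lit 1572864) (Steps.bwd (nat_lit 7) (Steps.bwd (nat_lit 2) (Steps.fwd (nat_lit 1572864) (Steps.bwd (nat_lit 7) Steps.nil))))) (nat_lit 62) (nat_lit 4),
  Rule.mk (nat_lit 4) (nat_lit 114) (Steps.bwd (nat_lit 5) (Steps.bwd (nat_lit 7) (Steps.fwd (nat_lit 1048576) (Steps.fwd (nat_lit 1572864) (Steps.fwd (nat_lit 1835008) Steps.nil))))) (nat_lit 66) (nat_lit 1),
  Rule.mk (nat_lit 0) (nat_lit 174) (Steps.bwd (nat_lit 1) (Steps.fwd (nat_lit 1835008) (Steps.bwd (nat_lit 4) (Steps.fwd (nat_lit 262144) (Steps.fwd (nat_lit 1048576) (Steps.bwd (nat_lit 7) (Steps.bwd (nat_lit 1) (Steps.fwd (nat_lit 1048576) Steps.nil)))))))) (nat_lit 76) (nat_lit 2),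
  Rule.mk (nat_lit 0) (nat_lit 174) (Steps.bwd (nat_lit 4) (Steps.bwd (nat_lit 1) (Steps.bwd (nat_lit 7) (Steps.fwd (nat_lit 1048576) (Steps.fwd (nat_lit 262144) (Steps.fwd (nat_lit 1048576) (Steps.fwd (nat_lit 1835008) (Steps.fwd (nat_lit 262144) Steps.nil)))))))) (nat_lit 76) (nat_lit 1),
  Rule.mk (nat_lit 4) (nat_lit 114) (Steps.bwd (nat_lit 7) (Steps.bwd (nat_lit 6) (Steps.fwd (nat_lit 1048576) (Steps.bwd (nat_lit 7) (Steps.fwd (nat_lit 1310720) Steps.nil))))) (nat_lit 67) (nat_lit 0),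
  Rule.mk (nat_lit 1) (nat_lit 154) (Steps.bwd (nat_lit 4) (Steps.bwd (nat_lit 1) (Steps.fwd (nat_lit 1572864) (Steps.fwd (nat_lit 262144) (Steps.bwd (nat_lit 4) (Steps.bwd (nat_lit 1) (Steps.fwd (nat_lit 1572864) Steps.nil))))))) (nat_lit 74) (nat_lit 1),
  Rule.mk (nat_lit 1) (nat_lit 154) (Steps.bwd (nat_lit 7) (Steps.bwd (nat_lit 3) (Steps.bwd (nat_lit 1) (Steps.bwd (nat_lit 3) (Steps.bwd (nat_lit 7) (Steps.bwd (nat_lit 1) (Steps.bwd (nat_lit 3) Steps.nil))))))) (nat_lit 73) (nat_lit 0),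
  Rule.mk (nat_lit 4) (nat_lit 154) (Steps.fwd (nat_lit 1572864) (Steps.fwd (nat_lit 524288) (Steps.fwd (nat_lit 1835008) (Steps.bwd (nat_lit 4) (Steps.bwd (nat_lit 5) (Steps.fwd (nat_lit 524288) (Steps.bwd (nat_lit 7) Steps.nil))))))) (nat_lit 87) (nat_lit 2),
  Rule.mk (nat_lit 4) (nat_lit 154) (Steps.fwd (nat_lit 1310720) (Steps.bwd (nat_lit 2) (Steps.fwd (nat_lit 1835008) (Steps.bwd (nat_lit 4) (Steps.bwd (nat_lit 6) (Steps.bwd (nat_lit 2) (Steps.bwd (nat_lit 7) Steps.nil))))))) (nat_lit 90) (nat_lit 3),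
  Rule.mk (nat_lit 0) (nat_lit 134) (Steps.bwd (nat_lit 4) (Steps.fwd (nat_lit 262144) (Steps.fwd (nat_lit 1048576) (Steps.fwd (nat_lit 262144) (Steps.bwd (nat_lit 4) (Steps.bwd (nat_lit 1) Steps.nil)))))) (nat_lit 16) (nat_lit 1),
  Rule.mk (nat_lit 4) (nat_lit 154) (Steps.fwd (nat_lit 1835008) (Steps.fwd (nat_lit 262144) (Steps.bwd (nat_lit 4) (Steps.bwd (nat_lit 1) (Steps.fwd (nat_lit 1835008) (Steps.fwd (nat_lit 1048576) (Steps.fwd (nat_lit 262144) Steps.nil))))))) (nat_lit 76) (nat_lit 7),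
  Rule.mk (nat_lit 4) (nat_lit 114) (Steps.bwd (nat_lit 3) (Steps.fwd (nat_lit 1835008) (Steps.bwd (nat_lit 4) (Steps.bwd (nat_lit 3) (Steps.fwd (nat_lit 1835008) Steps.nil))))) (nat_lit 57) (nat_lit 2),
  Rule.mk (nat_lit 0) (nat_lit 134) (Steps.bwd (nat_lit 4) (Steps.bwd (nat_lit 6) (Steps.fwd (nat_lit 1835008) (Steps.bwd (nat_lit 4) (Steps.bwd (nat_lit 5) (Steps.bwd (nat_lit 7) Steps.nil)))))) (nat_lit 66) (nat_lit 3),
  Rule.mk (nat_lit 4) (nat_lit 154) (Steps.fwd (nat_lit 524288) (Steps.bwd (nat_lit 7) (Steps.bwd (nat_lit 5) (Steps.bwd (nat_lit 4) (Steps.bwd (nat_lit 3) (Steps.fwd (nat_lit 1835008) (Steps.fwd (nat_lit 1572864) Steps.nil))))))) (nat_lit 79) (nat_lit 3),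
  Rule.mk (nat_lit 4) (nat_lit 154) (Steps.fwd (nat_lit 524288) (Steps.bwd (nat_lit 7) (Steps.fwd (nat_lit 1572864) (Steps.bwd (nat_lit 4) (Steps.bwd (nat_lit 3) (Steps.fwd (nat_lit 1835008) (Steps.bwd (nat_lit 5) Steps.nil))))))) (nat_lit 79) (nat_lit 7),
  Rule.mk (nat_lit 0) (nat_lit 334) (Steps.bwd (nat_lit 4) (Steps.bwd (nat_lit 9) (Steps.bwd (nat_lit 4) (Steps.bwd (nat_lit 8) (Steps.bwd (nat_lit 4) (Steps.fwd (nat_lit 2097152) (Steps.fwd (nat_lit 1048576) (Steps.fwd (nat_lit 2359296) (Steps.bwd (nat_lit 4) (Steps.fwd (nat_lit 2097152) (Steps.fwd (nat_lit 1048576) (Steps.fwd (nat_lit 2359296) (Steps.bwd (nat_lit 4) (Steps.fwd (nat_lit 2097152) (Steps.fwd (nat_lit 1048576) (Steps.fwd (nat_lit 2359296) Steps.nil)))))))))))))))) (nat_lit 106) (nat_lit 1),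
  Rule.mk (nat_lit 4) (nat_lit 154) (Steps.bwd (nat_lit 1) (Steps.bwd (nat_lit 6) (Steps.bwd (nat_lit 1) (Steps.fwd (nat_lit 1048576) (Steps.fwd (nat_lit 262144) (Steps.bwd (nat_lit 6) (Steps.bwd (nat_lit 1) Steps.nil))))))) (nat_lit 74) (nat_lit 2),
  Rule.mk (nat_lit 0) (nat_lit 94) (Steps.bwd (nat_lit 4) (Steps.bwd (nat_lit 3) (Steps.bwd (nat_lit 4) (Steps.bwd (nat_lit 3) Steps.nil)))) (nat_lit 15) (nat_lit 1)]
noncomputable def R_57 : List (Rule) := [Rule.mk (nat_lit 4) (nat_lit 114) (Steps.fwd (nat_lit 524288) (Steps.bwd (nat_lit 6) (Steps.bwd (nat_lit 4) (Steps.bwd (nat_lit 3) (Steps.fwd (nat_lit 1310720) Steps.nil))))) (nat_lit 55) (nat_lit 5),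
  Rule.mk (nat_lit 4) (nat_lit 114) (Steps.fwd (nat_lit 786432) (Steps.fwd (nat_lit 1310720) (Steps.bwd (nat_lit 4) (Steps.fwd (nat_lit 786432) (Steps.bwd (nat_lit 6) Steps.nil))))) (nat_lit 58) (nat_lit 0),
  Rule.mk (nat_lit 4) (nat_lit 114) (Steps.bwd (nat_lit 7) (Steps.fwd (nat_lit 1310720) (Steps.bwd (nat_lit 4) (Steps.fwd (nat_lit 1835008) (Steps.fwd (nat_lit 1572864) Steps.nil))))) (nat_lit 67) (nat_lit 3),
  Rule.mk (nat_lit 4) (nat_lit 154) (Steps.bwd (nat_lit 3) (Steps.fwd (nat_lit 1835008) (Steps.bwd (nat_lit 6) (Steps.bwd (nat_lit 4) (Steps.bwd (nat_lit 3) (Steps.fwd (nat_lit 1835008) (Steps.bwd (nat_lit 5) Steps.nil))))))) (nat_lit 79) (nat_lit 7),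
  Rule.mk (nat_lit 4) (nat_lit 114) (Steps.bwd (nat_lit 2) (Steps.bwd (nat_lit 5) (Steps.bwd (nat_lit 4) (Steps.bwd (nat_lit 2) (Steps.fwd (nat_lit 1572864) Steps.nil))))) (nat_lit 58) (nat_lit 0),
  Rule.mk (nat_lit 4) (nat_lit 154) (Steps.fwd (nat_lit 524288) (Steps.fwd (nat_lit 1835008) (Steps.bwd (nat_lit 5) (Steps.bwd (nat_lit 4) (Steps.fwd (nat_lit 524288) (Steps.bwd (nat_lit 7) (Steps.fwd (nat_lit 1572864) Steps.nil))))))) (nat_lit 79) (nat_lit 3),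
  Rule.mk (nat_lit 4) (nat_lit 154) (Steps.fwd (nat_lit 1835008) (Steps.fwd (nat_lit 1310720) (Steps.bwd (nat_lit 2) (Steps.bwd (nat_lit 4) (Steps.bwd (nat_lit 7) (Steps.bwd (nat_lit 6) (Steps.bwd (nat_lit 2) Steps.nil))))))) (nat_lit 80) (nat_lit 2),
  Rule.mk (nat_lit 0) (nat_lit 134) (Steps.bwd (nat_lit 4) (Steps.fwd (nat_lit 262144) (Steps.fwd (nat_lit 1048576) (Steps.bwd (nat_lit 1) (Steps.fwd (nat_lit 1048576) (Steps.fwd (nat_lit 262144) Steps.nil)))))) (nat_lit 16) (nat_lit 1),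
  Rule.mk (nat_lit 0) (nat_lit 94) (Steps.bwd (nat_lit 9) (Steps.fwd (nat_lit 0) (Steps.fwd (nat_lit 2359296) (Steps.fwd (nat_lit 0) Steps.nil)))) (nat_lit 108) (nat_lit 0),
  Rule.mk (nat_lit 0) (nat_lit 94) (Steps.fwd (nat_lit 2359296) (Steps.fwd (nat_lit 0) (Steps.fwd (nat_lit 2097152) (Steps.fwd (nat_lit 0) Steps.nil)))) (nat_lit 108) (nat_lit 0),
  Rule.mk (nat_lit 0) (nat_lit 94) (Steps.bwd (nat_lit 4) (Steps.bwd (nat_lit 0) (Steps.fwd (nat_lit 1048576) (Steps.fwd (nat_lit 0) Steps.nil)))) (nat_lit 108) (nat_lit 0),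
  Rule.mk (nat_lit 0) (nat_lit 94) (Steps.bwd (nat_lit 0) (Steps.fwd (nat_lit 1835008) (Steps.fwd (nat_lit 0) (Steps.fwd (nat_lit 1835008) Steps.nil)))) (nat_lit 108) (nat_lit 0),
  Rule.mk (nat_lit 0) (nat_lit 94) (Steps.fwd (nat_lit 2097152) (Steps.fwd (nat_lit 0) (Steps.fwd (nat_lit 2359296) (Steps.fwd (nat_lit 0) Steps.nil)))) (nat_lit 108) (nat_lit 0),
  Rule.mk (nat_lit 0) (nat_lit 94) (Steps.bwd (nat_lit 0) (Steps.bwd (nat_lit 3) (Steps.fwd (nat_lit 0) (Steps.fwd (nat_lit 786432) Steps.nil)))) (nat_lit 108) (nat_lit 0),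
  Rule.mk (nat_lit 0) (nat_lit 94) (Steps.bwd (nat_lit 4) (Steps.bwd (nat_lit 0) (Steps.bwd (nat_lit 4) (Steps.fwd (nat_lit 0) Steps.nil)))) (nat_lit 108) (nat_lit 0),
  Rule.mk (nat_lit 0) (nat_lit 94) (Steps.fwd (nat_lit 262144) (Steps.bwd (nat_lit 0) (Steps.fwd (nat_lit 262144) (Steps.fwd (nat_lit 0) Steps.nil)))) (nat_lit 108) (nat_lit 0),
  Rule.mk (nat_lit 0) (nat_lit 94) (Steps.fwd (nat_lit 1048576) (Steps.fwd (nat_lit 0) (Steps.fwd (nat_lit 1048576) (Steps.fwd (nat_lit 0) Steps.nil)))) (nat_lit 108) (nat_lit 0),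
  Rule.mk (nat_lit 0) (nat_lit 94) (Steps.bwd (nat_lit 0) (Steps.fwd (nat_lit 786432) (Steps.fwd (nat_lit 0) (Steps.fwd (nat_lit 524288) Steps.nil)))) (nat_lit 108) (nat_lit 0),
  Rule.mk (nat_lit 0) (nat_lit 94) (Steps.bwd (nat_lit 0) (Steps.fwd (nat_lit 524288) (Steps.fwd (nat_lit 0) (Steps.fwd (nat_lit 786432) Steps.nil)))) (nat_lit 108) (nat_lit 0),
  Rule.mk (nat_lit 0) (nat_lit 94) (Steps.bwd (nat_lit 0) (Steps.bwd (nat_lit 2) (Steps.fwd (nat_lit 0) (Steps.fwd (nat_lit 524288) Steps.nil)))) (nat_lit 108) (nat_lit 0),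
  Rule.mk (nat_lit 0) (nat_lit 94) (Steps.bwd (nat_lit 0) (Steps.fwd (nat_lit 1310720) (Steps.fwd (nat_lit 0) (Steps.fwd (nat_lit 1310720) Steps.nil)))) (nat_lit 108) (nat_lit 0),
  Rule.mk (nat_lit 0) (nat_lit 94) (Steps.bwd (nat_lit 0) (Steps.fwd (nat_lit 1835008) (Steps.fwd (nat_lit 0) (Steps.bwd (nat_lit 7) Steps.nil)))) (nat_lit 108) (nat_lit 0),
  Rule.mk (nat_lit 0) (nat_lit 94) (Steps.fwd (nat_lit 1048576) (Steps.bwd (nat_lit 0) (Steps.fwd (nat_lit 1048576) (Steps.fwd (nat_lit 0) Steps.nil)))) (nat_lit 108) (nat_lit 0),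
  Rule.mk (nat_lit 0) (nat_lit 94) (Steps.fwd (nat_lit 1310720) (Steps.bwd (nat_lit 0) (Steps.fwd (nat_lit 1310720) (Steps.fwd (nat_lit 0) Steps.nil)))) (nat_lit 108) (nat_lit 0),
  Rule.mk (nat_lit 0) (nat_lit 94) (Steps.bwd (nat_lit 0) (Steps.bwd (nat_lit 8) (Steps.bwd (nat_lit 0) (Steps.fwd (nat_lit 2097152) Steps.nil)))) (nat_lit 108) (nat_lit 0),
  Rule.mk (nat_lit 0) (nat_lit 94) (Steps.bwd (nat_lit 9) (Steps.bwd (nat_lit 0) (Steps.fwd (nat_lit 2359296) (Steps.fwd (nat_lit 0) Steps.nil)))) (nat_lit 108) (nat_lit 0),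
  Rule.mk (nat_lit 0) (nat_lit 94) (Steps.bwd (nat_lit 3) (Steps.bwd (nat_lit 0) (Steps.bwd (nat_lit 2) (Steps.fwd (nat_lit 0) Steps.nil)))) (nat_lit 108) (nat_lit 0),
  Rule.mk (nat_lit 0) (nat_lit 94) (Steps.bwd (nat_lit 0) (Steps.bwd (nat_lit 6) (Steps.fwd (nat_lit 0) (Steps.bwd (nat_lit 6) Steps.nil)))) (nat_lit 108) (nat_lit 0),
  Rule.mk (nat_lit 0) (nat_lit 94) (Steps.bwd (nat_lit 0) (Steps.bwd (nat_lit 7) (Steps.fwd (nat_lit 0) (Steps.fwd (nat_lit 1835008) Steps.nil)))) (nat_lit 108) (nat_lit 0),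
  Rule.mk (nat_lit 0) (nat_lit 94) (Steps.fwd (nat_lit 262144) (Steps.bwd (nat_lit 0) (Steps.bwd (nat_lit 1) (Steps.fwd (nat_lit 0) Steps.nil)))) (nat_lit 108) (nat_lit 0),
  Rule.mk (nat_lit 0) (nat_lit 94) (Steps.bwd (nat_lit 0) (Steps.bwd (nat_lit 7) (Steps.bwd (nat_lit 0) (Steps.fwd (nat_lit 1835008) Steps.nil)))) (nat_lit 108) (nat_lit 0),
  Rule.mk (nat_lit 0) (nat_lit 94) (Steps.fwd (nat_lit 1572864) (Steps.fwd (nat_lit 0) (Steps.bwd (nat_lit 6) (Steps.fwd (nat_lit 0) Steps.nil)))) (nat_lit 108) (nat_lit 0),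
  Rule.mk (nat_lit 0) (nat_lit 94) (Steps.bwd (nat_lit 2) (Steps.bwd (nat_lit 0) (Steps.bwd (nat_lit 3) (Steps.fwd (nat_lit 0) Steps.nil)))) (nat_lit 108) (nat_lit 0),
  Rule.mk (nat_lit 0) (nat_lit 94) (Steps.bwd (nat_lit 0) (Steps.bwd (nat_lit 9) (Steps.fwd (nat_lit 0) (Steps.bwd (nat_lit 8) Steps.nil)))) (nat_lit 108) (nat_lit 0),
  Rule.mk (nat_lit 0) (nat_lit 94) (Steps.fwd (nat_lit 1835008) (Steps.fwd (nat_lit 0) (Steps.bwd (nat_lit 7) (Steps.fwd (nat_lit 0) Steps.nil)))) (nat_lit 108) (nat_lit 0),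
  Rule.mk (nat_lit 0) (nat_lit 94) (Steps.bwd (nat_lit 0) (Steps.bwd (nat_lit 9) (Steps.fwd (nat_lit 0) (Steps.fwd (nat_lit 2359296) Steps.nil)))) (nat_lit 108) (nat_lit 0),
  Rule.mk (nat_lit 0) (nat_lit 94) (Steps.bwd (nat_lit 0) (Steps.fwd (nat_lit 2097152) (Steps.fwd (nat_lit 0) (Steps.fwd (nat_lit 2359296) Steps.nil)))) (nat_lit 108) (nat_lit 0),
  Rule.mk (nat_lit 0) (nat_lit 94) (Steps.bwd (nat_lit 0) (Steps.fwd (nat_lit 2097152) (Steps.fwd (nat_lit 0) (Steps.bwd (nat_lit 8) Steps.nil)))) (nat_lit 108) (nat_lit 0),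
  Rule.mk (nat_lit 0) (nat_lit 94) (Steps.bwd (nat_lit 8) (Steps.bwd (nat_lit 0) (Steps.bwd (nat_lit 9) (Steps.fwd (nat_lit 0) Steps.nil)))) (nat_lit 108) (nat_lit 0),
  Rule.mk (nat_lit 0) (nat_lit 94) (Steps.bwd (nat_lit 0) (Steps.bwd (nat_lit 4) (Steps.fwd (nat_lit 0) (Steps.fwd (nat_lit 1048576) Steps.nil)))) (nat_lit 108) (nat_lit 0),
  Rule.mk (nat_lit 0) (nat_lit 94) (Steps.bwd (nat_lit 5) (Steps.bwd (nat_lit 0) (Steps.bwd (nat_lit 5) (Steps.fwd (nat_lit 0) Steps.nil)))) (nat_lit 108) (nat_lit 0),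
  Rule.mk (nat_lit 0) (nat_lit 94) (Steps.bwd (nat_lit 0) (Steps.fwd (nat_lit 1572864) (Steps.fwd (nat_lit 0) (Steps.fwd (nat_lit 1572864) Steps.nil)))) (nat_lit 108) (nat_lit 0),
  Rule.mk (nat_lit 0) (nat_lit 94) (Steps.bwd (nat_lit 0) (Steps.fwd (nat_lit 1572864) (Steps.fwd (nat_lit 0) (Steps.bwd (nat_lit 6) Steps.nil)))) (nat_lit 108) (nat_lit 0),
  Rule.mk (nat_lit 0) (nat_lit 94) (Steps.bwd (nat_lit 8) (Steps.bwd (nat_lit 0) (Steps.fwd (nat_lit 2097152) (Steps.fwd (nat_lit 0) Steps.nil)))) (nat_lit 108) (nat_lit 0),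
  Rule.mk (nat_lit 0) (nat_lit 94) (Steps.fwd (nat_lit 262144) (Steps.fwd (nat_lit 0) (Steps.fwd (nat_lit 262144) (Steps.fwd (nat_lit 0) Steps.nil)))) (nat_lit 108) (nat_lit 0),
  Rule.mk (nat_lit 0) (nat_lit 94) (Steps.fwd (nat_lit 2359296) (Steps.fwd (nat_lit 0) (Steps.bwd (nat_lit 9) (Steps.fwd (nat_lit 0) Steps.nil)))) (nat_lit 108) (nat_lit 0),
  Rule.mk (nat_lit 0) (nat_lit 94) (Steps.bwd (nat_lit 6) (Steps.fwd (nat_lit 0) (Steps.fwd (nat_lit 1572864) (Steps.fwd (nat_lit 0) Steps.nil)))) (nat_lit 108) (nat_lit 0),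
  Rule.mk (nat_lit 0) (nat_lit 94) (Steps.bwd (nat_lit 0) (Steps.fwd (nat_lit 2359296) (Steps.fwd (nat_lit 0) (Steps.fwd (nat_lit 2097152) Steps.nil)))) (nat_lit 108) (nat_lit 0),
  Rule.mk (nat_lit 0) (nat_lit 94) (Steps.bwd (nat_lit 0) (Steps.fwd (nat_lit 262144) (Steps.fwd (nat_lit 0) (Steps.bwd (nat_lit 1) Steps.nil)))) (nat_lit 108) (nat_lit 0),
  Rule.mk (nat_lit 0) (nat_lit 94) (Steps.fwd (nat_lit 1572864) (Steps.fwd (nat_lit 0) (Steps.fwd (nat_lit 1572864) (Steps.fwd (nat_lit 0) Steps.nil)))) (nat_lit 108) (nat_lit 0),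
  Rule.mk (nat_lit 0) (nat_lit 94) (Steps.bwd (nat_lit 0) (Steps.bwd (nat_lit 1) (Steps.fwd (nat_lit 0) (Steps.bwd (nat_lit 1) Steps.nil)))) (nat_lit 108) (nat_lit 0),
  Rule.mk (nat_lit 0) (nat_lit 94) (Steps.fwd (nat_lit 524288) (Steps.fwd (nat_lit 0) (Steps.fwd (nat_lit 786432) (Steps.fwd (nat_lit 0) Steps.nil)))) (nat_lit 108) (nat_lit 0),
  Rule.mk (nat_lit 0) (nat_lit 94) (Steps.bwd (nat_lit 0) (Steps.fwd (nat_lit 524288) (Steps.fwd (nat_lit 0) (Steps.bwd (nat_lit 2) Steps.nil)))) (nat_lit 108) (nat_lit 0),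
  Rule.mk (nat_lit 0) (nat_lit 94) (Steps.bwd (nat_lit 6) (Steps.bwd (nat_lit 0) (Steps.fwd (nat_lit 1572864) (Steps.fwd (nat_lit 0) Steps.nil)))) (nat_lit 108) (nat_lit 0),
  Rule.mk (nat_lit 0) (nat_lit 94) (Steps.bwd (nat_lit 9) (Steps.bwd (nat_lit 0) (Steps.bwd (nat_lit 8) (Steps.fwd (nat_lit 0) Steps.nil)))) (nat_lit 108) (nat_lit 0),
  Rule.mk (nat_lit 0) (nat_lit 94) (Steps.fwd (nat_lit 2359296) (Steps.bwd (nat_lit 0) (Steps.bwd (nat_lit 9) (Steps.fwd (nat_lit 0) Steps.nil)))) (nat_lit 108) (nat_lit 0),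
  Rule.mk (nat_lit 0) (nat_lit 94) (Steps.bwd (nat_lit 0) (Steps.fwd (nat_lit 786432) (Steps.fwd (nat_lit 0) (Steps.bwd (nat_lit 3) Steps.nil)))) (nat_lit 108) (nat_lit 0),
  Rule.mk (nat_lit 0) (nat_lit 94) (Steps.bwd (nat_lit 1) (Steps.bwd (nat_lit 0) (Steps.bwd (nat_lit 1) (Steps.fwd (nat_lit 0) Steps.nil)))) (nat_lit 108) (nat_lit 0),
  Rule.mk (nat_lit 0) (nat_lit 94) (Steps.bwd (nat_lit 0) (Steps.fwd (nat_lit 262144) (Steps.fwd (nat_lit 0) (Steps.fwd (nat_lit 262144) Steps.nil)))) (nat_lit 108) (nat_lit 0),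
  Rule.mk (nat_lit 0) (nat_lit 94) (Steps.bwd (nat_lit 6) (Steps.bwd (nat_lit 0) (Steps.bwd (nat_lit 6) (Steps.fwd (nat_lit 0) Steps.nil)))) (nat_lit 108) (nat_lit 0),
  Rule.mk (nat_lit 0) (nat_lit 94) (Steps.bwd (nat_lit 1) (Steps.fwd (nat_lit 0) (Steps.bwd (nat_lit 1) (Steps.fwd (nat_lit 0) Steps.nil)))) (nat_lit 108) (nat_lit 0),
  Rule.mk (nat_lit 0) (nat_lit 94) (Steps.bwd (nat_lit 0) (Steps.bwd (nat_lit 5) (Steps.fwd (nat_lit 0) (Steps.fwd (nat_lit 1310720) Steps.nil)))) (nat_lit 108) (nat_lit 0),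
  Rule.mk (nat_lit 0) (nat_lit 94) (Steps.bwd (nat_lit 4) (Steps.fwd (nat_lit 0) (Steps.fwd (nat_lit 1048576) (Steps.fwd (nat_lit 0) Steps.nil)))) (nat_lit 108) (nat_lit 0),
  Rule.mk (nat_lit 0) (nat_lit 94) (Steps.bwd (nat_lit 2) (Steps.bwd (nat_lit 0) (Steps.fwd (nat_lit 524288) (Steps.fwd (nat_lit 0) Steps.nil)))) (nat_lit 108) (nat_lit 0)]
noncomputable def R_58 : List (Rule) := [Rule.mk (nat_lit 0) (nat_lit 94) (Steps.bwd (nat_lit 0) (Steps.bwd (nat_lit 1) (Steps.bwd (nat_lit 0) (Steps.bwd (nat_lit 1) Steps.nil)))) (nat_lit 108) (nat_lit 0),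
  Rule.mk (nat_lit 0) (nat_lit 94) (Steps.bwd (nat_lit 0) (Steps.bwd (nat_lit 8) (Steps.fwd (nat_lit 0) (Steps.bwd (nat_lit 9) Steps.nil)))) (nat_lit 108) (nat_lit 0),
  Rule.mk (nat_lit 0) (nat_lit 94) (Steps.bwd (nat_lit 0) (Steps.fwd (nat_lit 1048576) (Steps.fwd (nat_lit 0) (Steps.bwd (nat_lit 4) Steps.nil)))) (nat_lit 108) (nat_lit 0),
  Rule.mk (nat_lit 0) (nat_lit 94) (Steps.bwd (nat_lit 0) (Steps.fwd (nat_lit 1310720) (Steps.fwd (nat_lit 0) (Steps.bwd (nat_lit 5) Steps.nil)))) (nat_lit 108) (nat_lit 0),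
  Rule.mk (nat_lit 0) (nat_lit 94) (Steps.bwd (nat_lit 0) (Steps.bwd (nat_lit 8) (Steps.fwd (nat_lit 0) (Steps.fwd (nat_lit 2097152) Steps.nil)))) (nat_lit 108) (nat_lit 0),
  Rule.mk (nat_lit 0) (nat_lit 94) (Steps.bwd (nat_lit 0) (Steps.bwd (nat_lit 4) (Steps.fwd (nat_lit 0) (Steps.bwd (nat_lit 4) Steps.nil)))) (nat_lit 108) (nat_lit 0),
  Rule.mk (nat_lit 0) (nat_lit 94) (Steps.bwd (nat_lit 0) (Steps.fwd (nat_lit 2359296) (Steps.fwd (nat_lit 0) (Steps.bwd (nat_lit 9) Steps.nil)))) (nat_lit 108) (nat_lit 0),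
  Rule.mk (nat_lit 0) (nat_lit 94) (Steps.bwd (nat_lit 0) (Steps.fwd (nat_lit 262144) (Steps.bwd (nat_lit 0) (Steps.bwd (nat_lit 1) Steps.nil)))) (nat_lit 108) (nat_lit 0),
  Rule.mk (nat_lit 0) (nat_lit 94) (Steps.bwd (nat_lit 0) (Steps.bwd (nat_lit 5) (Steps.fwd (nat_lit 0) (Steps.bwd (nat_lit 5) Steps.nil)))) (nat_lit 108) (nat_lit 0),
  Rule.mk (nat_lit 0) (nat_lit 94) (Steps.fwd (nat_lit 524288) (Steps.bwd (nat_lit 0) (Steps.fwd (nat_lit 786432) (Steps.fwd (nat_lit 0) Steps.nil)))) (nat_lit 108) (nat_lit 0),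
  Rule.mk (nat_lit 0) (nat_lit 94) (Steps.fwd (nat_lit 1835008) (Steps.bwd (nat_lit 0) (Steps.bwd (nat_lit 7) (Steps.fwd (nat_lit 0) Steps.nil)))) (nat_lit 108) (nat_lit 0),
  Rule.mk (nat_lit 0) (nat_lit 94) (Steps.fwd (nat_lit 786432) (Steps.bwd (nat_lit 0) (Steps.fwd (nat_lit 524288) (Steps.fwd (nat_lit 0) Steps.nil)))) (nat_lit 108) (nat_lit 0),
  Rule.mk (nat_lit 0) (nat_lit 94) (Steps.fwd (nat_lit 2359296) (Steps.bwd (nat_lit 0) (Steps.fwd (nat_lit 2097152) (Steps.fwd (nat_lit 0) Steps.nil)))) (nat_lit 108) (nat_lit 0),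
  Rule.mk (nat_lit 3) (nat_lit 74) (Steps.bwd (nat_lit 0) (Steps.bwd (nat_lit 2) (Steps.fwd (nat_lit 0) Steps.nil))) (nat_lit 108) (nat_lit 0),
  Rule.mk (nat_lit 0) (nat_lit 94) (Steps.fwd (nat_lit 1572864) (Steps.bwd (nat_lit 0) (Steps.bwd (nat_lit 6) (Steps.fwd (nat_lit 0) Steps.nil)))) (nat_lit 108) (nat_lit 0),
  Rule.mk (nat_lit 0) (nat_lit 94) (Steps.bwd (nat_lit 0) (Steps.bwd (nat_lit 2) (Steps.fwd (nat_lit 0) (Steps.bwd (nat_lit 3) Steps.nil)))) (nat_lit 108) (nat_lit 0),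
  Rule.mk (nat_lit 0) (nat_lit 114) (Steps.bwd (nat_lit 0) (Steps.fwd (nat_lit 262144) (Steps.bwd (nat_lit 0) (Steps.fwd (nat_lit 262144) (Steps.fwd (nat_lit 0) Steps.nil))))) (nat_lit 108) (nat_lit 0),
  Rule.mk (nat_lit 0) (nat_lit 94) (Steps.bwd (nat_lit 1) (Steps.fwd (nat_lit 0) (Steps.fwd (nat_lit 262144) (Steps.fwd (nat_lit 0) Steps.nil)))) (nat_lit 108) (nat_lit 0),
  Rule.mk (nat_lit 0) (nat_lit 94) (Steps.bwd (nat_lit 0) (Steps.bwd (nat_lit 9) (Steps.bwd (nat_lit 0) (Steps.bwd (nat_lit 8) Steps.nil)))) (nat_lit 108) (nat_lit 0),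
  Rule.mk (nat_lit 0) (nat_lit 94) (Steps.bwd (nat_lit 4) (Steps.fwd (nat_lit 0) (Steps.bwd (nat_lit 4) (Steps.fwd (nat_lit 0) Steps.nil)))) (nat_lit 108) (nat_lit 0),
  Rule.mk (nat_lit 0) (nat_lit 94) (Steps.bwd (nat_lit 0) (Steps.bwd (nat_lit 4) (Steps.bwd (nat_lit 0) (Steps.bwd (nat_lit 4) Steps.nil)))) (nat_lit 108) (nat_lit 0),
  Rule.mk (nat_lit 0) (nat_lit 94) (Steps.bwd (nat_lit 0) (Steps.bwd (nat_lit 8) (Steps.bwd (nat_lit 0) (Steps.bwd (nat_lit 9) Steps.nil)))) (nat_lit 108) (nat_lit 0),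
  Rule.mk (nat_lit 0) (nat_lit 94) (Steps.fwd (nat_lit 2097152) (Steps.bwd (nat_lit 0) (Steps.bwd (nat_lit 8) (Steps.fwd (nat_lit 0) Steps.nil)))) (nat_lit 108) (nat_lit 0),
  Rule.mk (nat_lit 0) (nat_lit 94) (Steps.bwd (nat_lit 5) (Steps.bwd (nat_lit 0) (Steps.fwd (nat_lit 1310720) (Steps.fwd (nat_lit 0) Steps.nil)))) (nat_lit 108) (nat_lit 0),
  Rule.mk (nat_lit 0) (nat_lit 94) (Steps.bwd (nat_lit 2) (Steps.fwd (nat_lit 0) (Steps.fwd (nat_lit 524288) (Steps.fwd (nat_lit 0) Steps.nil)))) (nat_lit 108) (nat_lit 0),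
  Rule.mk (nat_lit 0) (nat_lit 94) (Steps.fwd (nat_lit 1048576) (Steps.bwd (nat_lit 0) (Steps.bwd (nat_lit 4) (Steps.fwd (nat_lit 0) Steps.nil)))) (nat_lit 108) (nat_lit 0),
  Rule.mk (nat_lit 0) (nat_lit 94) (Steps.fwd (nat_lit 1572864) (Steps.bwd (nat_lit 0) (Steps.fwd (nat_lit 1572864) (Steps.fwd (nat_lit 0) Steps.nil)))) (nat_lit 108) (nat_lit 0),
  Rule.mk (nat_lit 0) (nat_lit 94) (Steps.bwd (nat_lit 0) (Steps.bwd (nat_lit 6) (Steps.bwd (nat_lit 0) (Steps.fwd (nat_lit 1572864) Steps.nil)))) (nat_lit 108) (nat_lit 0),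
  Rule.mk (nat_lit 0) (nat_lit 94) (Steps.fwd (nat_lit 262144) (Steps.fwd (nat_lit 0) (Steps.bwd (nat_lit 1) (Steps.fwd (nat_lit 0) Steps.nil)))) (nat_lit 108) (nat_lit 0),
  Rule.mk (nat_lit 0) (nat_lit 94) (Steps.bwd (nat_lit 8) (Steps.fwd (nat_lit 0) (Steps.fwd (nat_lit 2097152) (Steps.fwd (nat_lit 0) Steps.nil)))) (nat_lit 108) (nat_lit 0),
  Rule.mk (nat_lit 0) (nat_lit 94) (Steps.fwd (nat_lit 1048576) (Steps.fwd (nat_lit 0) (Steps.bwd (nat_lit 4) (Steps.fwd (nat_lit 0) Steps.nil)))) (nat_lit 108) (nat_lit 0),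
  Rule.mk (nat_lit 0) (nat_lit 94) (Steps.fwd (nat_lit 786432) (Steps.fwd (nat_lit 0) (Steps.fwd (nat_lit 524288) (Steps.fwd (nat_lit 0) Steps.nil)))) (nat_lit 108) (nat_lit 0),
  Rule.mk (nat_lit 8) (nat_lit 74) (Steps.bwd (nat_lit 0) (Steps.bwd (nat_lit 9) (Steps.fwd (nat_lit 0) Steps.nil))) (nat_lit 108) (nat_lit 0),
  Rule.mk (nat_lit 0) (nat_lit 94) (Steps.bwd (nat_lit 6) (Steps.fwd (nat_lit 0) (Steps.bwd (nat_lit 6) (Steps.fwd (nat_lit 0) Steps.nil)))) (nat_lit 108) (nat_lit 0),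
  Rule.mk (nat_lit 0) (nat_lit 94) (Steps.bwd (nat_lit 3) (Steps.fwd (nat_lit 0) (Steps.fwd (nat_lit 786432) (Steps.fwd (nat_lit 0) Steps.nil)))) (nat_lit 108) (nat_lit 0),
  Rule.mk (nat_lit 0) (nat_lit 94) (Steps.fwd (nat_lit 524288) (Steps.fwd (nat_lit 0) (Steps.bwd (nat_lit 2) (Steps.fwd (nat_lit 0) Steps.nil)))) (nat_lit 108) (nat_lit 0),
  Rule.mk (nat_lit 0) (nat_lit 94) (Steps.bwd (nat_lit 3) (Steps.bwd (nat_lit 0) (Steps.fwd (nat_lit 786432) (Steps.fwd (nat_lit 0) Steps.nil)))) (nat_lit 108) (nat_lit 0),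
  Rule.mk (nat_lit 1) (nat_lit 74) (Steps.bwd (nat_lit 0) (Steps.fwd (nat_lit 262144) (Steps.fwd (nat_lit 0) Steps.nil))) (nat_lit 108) (nat_lit 0),
  Rule.mk (nat_lit 0) (nat_lit 94) (Steps.fwd (nat_lit 786432) (Steps.fwd (nat_lit 0) (Steps.bwd (nat_lit 3) (Steps.fwd (nat_lit 0) Steps.nil)))) (nat_lit 108) (nat_lit 0),
  Rule.mk (nat_lit 9) (nat_lit 74) (Steps.bwd (nat_lit 0) (Steps.fwd (nat_lit 2359296) (Steps.fwd (nat_lit 0) Steps.nil))) (nat_lit 108) (nat_lit 0),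
  Rule.mk (nat_lit 0) (nat_lit 94) (Steps.bwd (nat_lit 0) (Steps.fwd (nat_lit 1572864) (Steps.bwd (nat_lit 0) (Steps.fwd (nat_lit 1572864) Steps.nil)))) (nat_lit 108) (nat_lit 0),
  Rule.mk (nat_lit 5) (nat_lit 74) (Steps.bwd (nat_lit 0) (Steps.fwd (nat_lit 1310720) (Steps.fwd (nat_lit 0) Steps.nil))) (nat_lit 108) (nat_lit 0),
  Rule.mk (nat_lit 0) (nat_lit 94) (Steps.bwd (nat_lit 7) (Steps.fwd (nat_lit 0) (Steps.bwd (nat_lit 7) (Steps.fwd (nat_lit 0) Steps.nil)))) (nat_lit 108) (nat_lit 0),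
  Rule.mk (nat_lit 6) (nat_lit 74) (Steps.bwd (nat_lit 0) (Steps.bwd (nat_lit 6) (Steps.fwd (nat_lit 0) Steps.nil))) (nat_lit 108) (nat_lit 0),
  Rule.mk (nat_lit 0) (nat_lit 94) (Steps.bwd (nat_lit 9) (Steps.fwd (nat_lit 0) (Steps.bwd (nat_lit 8) (Steps.fwd (nat_lit 0) Steps.nil)))) (nat_lit 108) (nat_lit 0),
  Rule.mk (nat_lit 0) (nat_lit 94) (Steps.bwd (nat_lit 2) (Steps.fwd (nat_lit 0) (Steps.bwd (nat_lit 3) (Steps.fwd (nat_lit 0) Steps.nil)))) (nat_lit 108) (nat_lit 0),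
  Rule.mk (nat_lit 7) (nat_lit 74) (Steps.bwd (nat_lit 0) (Steps.fwd (nat_lit 1835008) (Steps.fwd (nat_lit 0) Steps.nil))) (nat_lit 108) (nat_lit 0),
  Rule.mk (nat_lit 0) (nat_lit 94) (Steps.bwd (nat_lit 3) (Steps.fwd (nat_lit 0) (Steps.bwd (nat_lit 2) (Steps.fwd (nat_lit 0) Steps.nil)))) (nat_lit 108) (nat_lit 0),
  Rule.mk (nat_lit 0) (nat_lit 94) (Steps.bwd (nat_lit 7) (Steps.fwd (nat_lit 0) (Steps.fwd (nat_lit 1835008) (Steps.fwd (nat_lit 0) Steps.nil)))) (nat_lit 108) (nat_lit 0),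
  Rule.mk (nat_lit 0) (nat_lit 94) (Steps.bwd (nat_lit 0) (Steps.fwd (nat_lit 1310720) (Steps.bwd (nat_lit 0) (Steps.fwd (nat_lit 1310720) Steps.nil)))) (nat_lit 108) (nat_lit 0),
  Rule.mk (nat_lit 0) (nat_lit 114) (Steps.bwd (nat_lit 0) (Steps.bwd (nat_lit 1) (Steps.fwd (nat_lit 0) (Steps.fwd (nat_lit 262144) (Steps.fwd (nat_lit 0) Steps.nil))))) (nat_lit 108) (nat_lit 0),
  Rule.mk (nat_lit 5) (nat_lit 74) (Steps.bwd (nat_lit 0) (Steps.bwd (nat_lit 5) (Steps.fwd (nat_lit 0) Steps.nil))) (nat_lit 108) (nat_lit 0),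
  Rule.mk (nat_lit 0) (nat_lit 94) (Steps.fwd (nat_lit 1310720) (Steps.fwd (nat_lit 0) (Steps.bwd (nat_lit 5) (Steps.fwd (nat_lit 0) Steps.nil)))) (nat_lit 108) (nat_lit 0),
  Rule.mk (nat_lit 0) (nat_lit 94) (Steps.bwd (nat_lit 0) (Steps.fwd (nat_lit 1572864) (Steps.bwd (nat_lit 0) (Steps.bwd (nat_lit 6) Steps.nil)))) (nat_lit 108) (nat_lit 0),
  Rule.mk (nat_lit 0) (nat_lit 114) (Steps.bwd (nat_lit 0) (Steps.fwd (nat_lit 524288) (Steps.bwd (nat_lit 0) (Steps.bwd (nat_lit 2) (Steps.fwd (nat_lit 0) Steps.nil))))) (nat_lit 108) (nat_lit 0),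
  Rule.mk (nat_lit 0) (nat_lit 94) (Steps.bwd (nat_lit 0) (Steps.bwd (nat_lit 9) (Steps.bwd (nat_lit 0) (Steps.fwd (nat_lit 2359296) Steps.nil)))) (nat_lit 108) (nat_lit 0),
  Rule.mk (nat_lit 0) (nat_lit 94) (Steps.fwd (nat_lit 2097152) (Steps.bwd (nat_lit 0) (Steps.fwd (nat_lit 2359296) (Steps.fwd (nat_lit 0) Steps.nil)))) (nat_lit 108) (nat_lit 0),
  Rule.mk (nat_lit 0) (nat_lit 114) (Steps.bwd (nat_lit 0) (Steps.bwd (nat_lit 4) (Steps.fwd (nat_lit 0) (Steps.fwd (nat_lit 1048576) (Steps.fwd (nat_lit 0) Steps.nil))))) (nat_lit 108) (nat_lit 0),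
  Rule.mk (nat_lit 0) (nat_lit 94) (Steps.bwd (nat_lit 0) (Steps.bwd (nat_lit 6) (Steps.bwd (nat_lit 0) (Steps.bwd (nat_lit 6) Steps.nil)))) (nat_lit 108) (nat_lit 0),
  Rule.mk (nat_lit 0) (nat_lit 74) (Steps.fwd (nat_lit 0) (Steps.fwd (nat_lit 0) (Steps.fwd (nat_lit 0) Steps.nil))) (nat_lit 108) (nat_lit 0),
  Rule.mk (nat_lit 0) (nat_lit 94) (Steps.fwd (nat_lit 1835008) (Steps.fwd (nat_lit 0) (Steps.fwd (nat_lit 1835008) (Steps.fwd (nat_lit 0) Steps.nil)))) (nat_lit 108) (nat_lit 0),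
  Rule.mk (nat_lit 0) (nat_lit 114) (Steps.bwd (nat_lit 0) (Steps.fwd (nat_lit 1310720) (Steps.fwd (nat_lit 0) (Steps.bwd (nat_lit 5) (Steps.fwd (nat_lit 0) Steps.nil))))) (nat_lit 108) (nat_lit 0),
  Rule.mk (nat_lit 1) (nat_lit 74) (Steps.bwd (nat_lit 0) (Steps.bwd (nat_lit 1) (Steps.fwd (nat_lit 0) Steps.nil))) (nat_lit 108) (nat_lit 0),
  Rule.mk (nat_lit 0) (nat_lit 94) (Steps.bwd (nat_lit 0) (Steps.fwd (nat_lit 262144) (Steps.bwd (nat_lit 0) (Steps.fwd (nat_lit 262144) Steps.nil)))) (nat_lit 108) (nat_lit 0)]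
noncomputable def R_59 : List (Rule) := [Rule.mk (nat_lit 6) (nat_lit 74) (Steps.bwd (nat_lit 0) (Steps.fwd (nat_lit 1572864) (Steps.fwd (nat_lit 0) Steps.nil))) (nat_lit 108) (nat_lit 0),
  Rule.mk (nat_lit 0) (nat_lit 94) (Steps.bwd (nat_lit 0) (Steps.bwd (nat_lit 1) (Steps.bwd (nat_lit 0) (Steps.fwd (nat_lit 262144) Steps.nil)))) (nat_lit 108) (nat_lit 0),
  Rule.mk (nat_lit 4) (nat_lit 74) (Steps.bwd (nat_lit 0) (Steps.bwd (nat_lit 4) (Steps.fwd (nat_lit 0) Steps.nil))) (nat_lit 108) (nat_lit 0),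
  Rule.mk (nat_lit 0) (nat_lit 94) (Steps.bwd (nat_lit 0) (Steps.fwd (nat_lit 1835008) (Steps.bwd (nat_lit 0) (Steps.bwd (nat_lit 7) Steps.nil)))) (nat_lit 108) (nat_lit 0),
  Rule.mk (nat_lit 0) (nat_lit 94) (Steps.bwd (nat_lit 0) (Steps.fwd (nat_lit 1835008) (Steps.bwd (nat_lit 0) (Steps.fwd (nat_lit 1835008) Steps.nil)))) (nat_lit 108) (nat_lit 0),
  Rule.mk (nat_lit 0) (nat_lit 94) (Steps.bwd (nat_lit 0) (Steps.fwd (nat_lit 1310720) (Steps.bwd (nat_lit 0) (Steps.bwd (nat_lit 5) Steps.nil)))) (nat_lit 108) (nat_lit 0),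
  Rule.mk (nat_lit 0) (nat_lit 94) (Steps.bwd (nat_lit 0) (Steps.bwd (nat_lit 7) (Steps.bwd (nat_lit 0) (Steps.bwd (nat_lit 7) Steps.nil)))) (nat_lit 108) (nat_lit 0),
  Rule.mk (nat_lit 0) (nat_lit 94) (Steps.bwd (nat_lit 0) (Steps.bwd (nat_lit 4) (Steps.bwd (nat_lit 0) (Steps.fwd (nat_lit 1048576) Steps.nil)))) (nat_lit 108) (nat_lit 0),
  Rule.mk (nat_lit 0) (nat_lit 94) (Steps.bwd (nat_lit 8) (Steps.fwd (nat_lit 0) (Steps.bwd (nat_lit 9) (Steps.fwd (nat_lit 0) Steps.nil)))) (nat_lit 108) (nat_lit 0),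
  Rule.mk (nat_lit 8) (nat_lit 74) (Steps.bwd (nat_lit 0) (Steps.fwd (nat_lit 2097152) (Steps.fwd (nat_lit 0) Steps.nil))) (nat_lit 108) (nat_lit 0),
  Rule.mk (nat_lit 2) (nat_lit 74) (Steps.bwd (nat_lit 0) (Steps.bwd (nat_lit 3) (Steps.fwd (nat_lit 0) Steps.nil))) (nat_lit 108) (nat_lit 0),
  Rule.mk (nat_lit 0) (nat_lit 94) (Steps.bwd (nat_lit 0) (Steps.fwd (nat_lit 786432) (Steps.bwd (nat_lit 0) (Steps.fwd (nat_lit 524288) Steps.nil)))) (nat_lit 108) (nat_lit 0),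
  Rule.mk (nat_lit 0) (nat_lit 114) (Steps.bwd (nat_lit 0) (Steps.bwd (nat_lit 9) (Steps.bwd (nat_lit 0) (Steps.fwd (nat_lit 2359296) (Steps.fwd (nat_lit 0) Steps.nil))))) (nat_lit 108) (nat_lit 0),
  Rule.mk (nat_lit 4) (nat_lit 74) (Steps.bwd (nat_lit 0) (Steps.fwd (nat_lit 1048576) (Steps.fwd (nat_lit 0) Steps.nil))) (nat_lit 108) (nat_lit 0),
  Rule.mk (nat_lit 7) (nat_lit 74) (Steps.bwd (nat_lit 0) (Steps.bwd (nat_lit 7) (Steps.fwd (nat_lit 0) Steps.nil))) (nat_lit 108) (nat_lit 0),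
  Rule.mk (nat_lit 3) (nat_lit 74) (Steps.bwd (nat_lit 0) (Steps.fwd (nat_lit 786432) (Steps.fwd (nat_lit 0) Steps.nil))) (nat_lit 108) (nat_lit 0),
  Rule.mk (nat_lit 0) (nat_lit 114) (Steps.bwd (nat_lit 0) (Steps.bwd (nat_lit 9) (Steps.fwd (nat_lit 0) (Steps.fwd (nat_lit 2359296) (Steps.fwd (nat_lit 0) Steps.nil))))) (nat_lit 108) (nat_lit 0),
  Rule.mk (nat_lit 0) (nat_lit 114) (Steps.bwd (nat_lit 0) (Steps.bwd (nat_lit 4) (Steps.bwd (nat_lit 0) (Steps.fwd (nat_lit 1048576) (Steps.fwd (nat_lit 0) Steps.nil))))) (nat_lit 108) (nat_lit 0),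
  Rule.mk (nat_lit 0) (nat_lit 94) (Steps.bwd (nat_lit 0) (Steps.bwd (nat_lit 3) (Steps.bwd (nat_lit 0) (Steps.fwd (nat_lit 786432) Steps.nil)))) (nat_lit 108) (nat_lit 0),
  Rule.mk (nat_lit 0) (nat_lit 94) (Steps.fwd (nat_lit 1310720) (Steps.fwd (nat_lit 0) (Steps.fwd (nat_lit 1310720) (Steps.fwd (nat_lit 0) Steps.nil)))) (nat_lit 108) (nat_lit 0),
  Rule.mk (nat_lit 0) (nat_lit 114) (Steps.bwd (nat_lit 0) (Steps.bwd (nat_lit 7) (Steps.fwd (nat_lit 0) (Steps.bwd (nat_lit 7) (Steps.fwd (nat_lit 0) Steps.nil))))) (nat_lit 108) (nat_lit 0),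
  Rule.mk (nat_lit 0) (nat_lit 114) (Steps.bwd (nat_lit 0) (Steps.bwd (nat_lit 5) (Steps.fwd (nat_lit 0) (Steps.bwd (nat_lit 5) (Steps.fwd (nat_lit 0) Steps.nil))))) (nat_lit 108) (nat_lit 0),
  Rule.mk (nat_lit 0) (nat_lit 94) (Steps.bwd (nat_lit 0) (Steps.bwd (nat_lit 3) (Steps.bwd (nat_lit 0) (Steps.bwd (nat_lit 2) Steps.nil)))) (nat_lit 108) (nat_lit 0),
  Rule.mk (nat_lit 0) (nat_lit 94) (Steps.bwd (nat_lit 0) (Steps.fwd (nat_lit 524288) (Steps.bwd (nat_lit 0) (Steps.bwd (nat_lit 2) Steps.nil)))) (nat_lit 108) (nat_lit 0),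
  Rule.mk (nat_lit 0) (nat_lit 94) (Steps.bwd (nat_lit 5) (Steps.fwd (nat_lit 0) (Steps.fwd (nat_lit 1310720) (Steps.fwd (nat_lit 0) Steps.nil)))) (nat_lit 108) (nat_lit 0),
  Rule.mk (nat_lit 0) (nat_lit 114) (Steps.bwd (nat_lit 0) (Steps.fwd (nat_lit 2359296) (Steps.fwd (nat_lit 0) (Steps.fwd (nat_lit 2097152) (Steps.fwd (nat_lit 0) Steps.nil))))) (nat_lit 108) (nat_lit 0),
  Rule.mk (nat_lit 0) (nat_lit 94) (Steps.fwd (nat_lit 2097152) (Steps.fwd (nat_lit 0) (Steps.bwd (nat_lit 8) (Steps.fwd (nat_lit 0) Steps.nil)))) (nat_lit 108) (nat_lit 0),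
  Rule.mk (nat_lit 9) (nat_lit 74) (Steps.bwd (nat_lit 0) (Steps.bwd (nat_lit 8) (Steps.fwd (nat_lit 0) Steps.nil))) (nat_lit 108) (nat_lit 0),
  Rule.mk (nat_lit 0) (nat_lit 94) (Steps.bwd (nat_lit 0) (Steps.bwd (nat_lit 5) (Steps.bwd (nat_lit 0) (Steps.fwd (nat_lit 1310720) Steps.nil)))) (nat_lit 108) (nat_lit 0),
  Rule.mk (nat_lit 0) (nat_lit 94) (Steps.bwd (nat_lit 0) (Steps.fwd (nat_lit 524288) (Steps.bwd (nat_lit 0) (Steps.fwd (nat_lit 786432) Steps.nil)))) (nat_lit 108) (nat_lit 0),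
  Rule.mk (nat_lit 0) (nat_lit 94) (Steps.bwd (nat_lit 0) (Steps.fwd (nat_lit 1048576) (Steps.bwd (nat_lit 0) (Steps.fwd (nat_lit 1048576) Steps.nil)))) (nat_lit 108) (nat_lit 0),
  Rule.mk (nat_lit 0) (nat_lit 94) (Steps.bwd (nat_lit 0) (Steps.fwd (nat_lit 786432) (Steps.bwd (nat_lit 0) (Steps.bwd (nat_lit 3) Steps.nil)))) (nat_lit 108) (nat_lit 0),
  Rule.mk (nat_lit 0) (nat_lit 114) (Steps.bwd (nat_lit 0) (Steps.fwd (nat_lit 1310720) (Steps.bwd (nat_lit 0) (Steps.fwd (nat_lit 1310720) (Steps.fwd (nat_lit 0) Steps.nil))))) (nat_lit 108) (nat_lit 0),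
  Rule.mk (nat_lit 0) (nat_lit 114) (Steps.bwd (nat_lit 0) (Steps.fwd (nat_lit 1310720) (Steps.bwd (nat_lit 0) (Steps.bwd (nat_lit 5) (Steps.fwd (nat_lit 0) Steps.nil))))) (nat_lit 108) (nat_lit 0),
  Rule.mk (nat_lit 0) (nat_lit 114) (Steps.bwd (nat_lit 0) (Steps.fwd (nat_lit 2097152) (Steps.bwd (nat_lit 0) (Steps.fwd (nat_lit 2359296) (Steps.fwd (nat_lit 0) Steps.nil))))) (nat_lit 108) (nat_lit 0),
  Rule.mk (nat_lit 4) (nat_lit 114) (Steps.bwd (nat_lit 6) (Steps.bwd (nat_lit 2) (Steps.fwd (nat_lit 1048576) (Steps.fwd (nat_lit 1310720) (Steps.fwd (nat_lit 786432) Steps.nil))))) (nat_lit 54) (nat_lit 5),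
  Rule.mk (nat_lit 3) (nat_lit 114) (Steps.fwd (nat_lit 1835008) (Steps.fwd (nat_lit 1048576) (Steps.bwd (nat_lit 3) (Steps.bwd (nat_lit 7) (Steps.fwd (nat_lit 1048576) Steps.nil))))) (nat_lit 57) (nat_lit 0),
  Rule.mk (nat_lit 7) (nat_lit 114) (Steps.bwd (nat_lit 3) (Steps.fwd (nat_lit 1048576) (Steps.fwd (nat_lit 1835008) (Steps.fwd (nat_lit 524288) (Steps.fwd (nat_lit 1048576) Steps.nil))))) (nat_lit 65) (nat_lit 2),
  Rule.mk (nat_lit 0) (nat_lit 174) (Steps.bwd (nat_lit 1) (Steps.bwd (nat_lit 6) (Steps.fwd (nat_lit 262144) (Steps.fwd (nat_lit 1048576) (Steps.fwd (nat_lit 262144) (Steps.fwd (nat_lit 1572864) (Steps.bwd (nat_lit 1) (Steps.fwd (nat_lit 1048576) Steps.nil)))))))) (nat_lit 74) (nat_lit 2),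
  Rule.mk (nat_lit 0) (nat_lit 134) (Steps.bwd (nat_lit 4) (Steps.bwd (nat_lit 1) (Steps.fwd (nat_lit 1048576) (Steps.bwd (nat_lit 1) (Steps.bwd (nat_lit 4) (Steps.fwd (nat_lit 262144) Steps.nil)))))) (nat_lit 16) (nat_lit 1),
  Rule.mk (nat_lit 2) (nat_lit 154) (Steps.bwd (nat_lit 1) (Steps.bwd (nat_lit 7) (Steps.bwd (nat_lit 2) (Steps.bwd (nat_lit 1) (Steps.bwd (nat_lit 2) (Steps.bwd (nat_lit 7) (Steps.fwd (nat_lit 262144) Steps.nil))))))) (nat_lit 72) (nat_lit 2),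
  Rule.mk (nat_lit 7) (nat_lit 154) (Steps.bwd (nat_lit 1) (Steps.bwd (nat_lit 2) (Steps.bwd (nat_lit 1) (Steps.fwd (nat_lit 1835008) (Steps.bwd (nat_lit 2) (Steps.fwd (nat_lit 262144) (Steps.bwd (nat_lit 2) Steps.nil))))))) (nat_lit 72) (nat_lit 0),
  Rule.mk (nat_lit 1) (nat_lit 274) (Steps.fwd (nat_lit 524288) (Steps.bwd (nat_lit 1) (Steps.fwd (nat_lit 1572864) (Steps.bwd (nat_lit 1) (Steps.bwd (nat_lit 3) (Steps.fwd (nat_lit 1310720) (Steps.bwd (nat_lit 6) (Steps.bwd (nat_lit 1) (Steps.fwd (nat_lit 1572864) (Steps.fwd (nat_lit 262144) (Steps.fwd (nat_lit 524288) (Steps.bwd (nat_lit 1) (Steps.bwd (nat_lit 6) Steps.nil))))))))))))) (nat_lit 35) (nat_lit 9),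
  Rule.mk (nat_lit 1) (nat_lit 154) (Steps.fwd (nat_lit 786432) (Steps.bwd (nat_lit 7) (Steps.fwd (nat_lit 262144) (Steps.bwd (nat_lit 2) (Steps.fwd (nat_lit 262144) (Steps.fwd (nat_lit 1835008) (Steps.bwd (nat_lit 2) Steps.nil))))))) (nat_lit 72) (nat_lit 6),
  Rule.mk (nat_lit 2) (nat_lit 154) (Steps.bwd (nat_lit 1) (Steps.bwd (nat_lit 3) (Steps.bwd (nat_lit 1) (Steps.fwd (nat_lit 786432) (Steps.bwd (nat_lit 1) (Steps.bwd (nat_lit 3) (Steps.fwd (nat_lit 262144) Steps.nil))))))) (nat_lit 68) (nat_lit 2),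
  Rule.mk (nat_lit 1) (nat_lit 154) (Steps.bwd (nat_lit 5) (Steps.bwd (nat_lit 2) (Steps.bwd (nat_lit 1) (Steps.fwd (nat_lit 786432) (Steps.bwd (nat_lit 5) (Steps.bwd (nat_lit 1) (Steps.bwd (nat_lit 2) Steps.nil))))))) (nat_lit 70) (nat_lit 3),
  Rule.mk (nat_lit 3) (nat_lit 154) (Steps.bwd (nat_lit 1) (Steps.bwd (nat_lit 3) (Steps.fwd (nat_lit 1310720) (Steps.bwd (nat_lit 1) (Steps.fwd (nat_lit 524288) (Steps.fwd (nat_lit 262144) (Steps.bwd (nat_lit 5) Steps.nil))))))) (nat_lit 71) (nat_lit 2),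
  Rule.mk (nat_lit 1) (nat_lit 274) (Steps.bwd (nat_lit 6) (Steps.bwd (nat_lit 1) (Steps.fwd (nat_lit 1572864) (Steps.bwd (nat_lit 5) (Steps.fwd (nat_lit 786432) (Steps.fwd (nat_lit 262144) (Steps.bwd (nat_lit 6) (Steps.bwd (nat_lit 1) (Steps.fwd (nat_lit 786432) (Steps.bwd (nat_lit 1) (Steps.bwd (nat_lit 6) (Steps.fwd (nat_lit 262144) (Steps.fwd (nat_lit 786432) Steps.nil))))))))))))) (nat_lit 34) (nat_lit 10),
  Rule.mk (nat_lit 0) (nat_lit 294) (Steps.bwd (nat_lit 1) (Steps.bwd (nat_lit 3) (Steps.bwd (nat_lit 1) (Steps.fwd (nat_lit 1572864) (Steps.fwd (nat_lit 262144) (Steps.bwd (nat_lit 3) (Steps.fwd (nat_lit 1310720) (Steps.fwd (nat_lit 1572864) (Steps.bwd (nat_lit 1) (Steps.bwd (nat_lit 6) (Steps.bwd (nat_lit 1) (Steps.fwd (nat_lit 524288) (Steps.bwd (nat_lit 1) (Steps.bwd (nat_lit 6) Steps.nil)))))))))))))) (nat_lit 35) (nat_lit 8),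
  Rule.mk (nat_lit 6) (nat_lit 274) (Steps.bwd (nat_lit 1) (Steps.bwd (nat_lit 3) (Steps.bwd (nat_lit 5) (Steps.fwd (nat_lit 1572864) (Steps.fwd (nat_lit 262144) (Steps.bwd (nat_lit 6) (Steps.bwd (nat_lit 1) (Steps.fwd (nat_lit 524288) (Steps.fwd (nat_lit 262144) (Steps.bwd (nat_lit 6) (Steps.bwd (nat_lit 1) (Steps.fwd (nat_lit 524288) (Steps.fwd (nat_lit 262144) Steps.nil))))))))))))) (nat_lit 35) (nat_lit 12),
  Rule.mk (nat_lit 0) (nat_lit 134) (Steps.bwd (nat_lit 6) (Steps.bwd (nat_lit 2) (Steps.bwd (nat_lit 4) (Steps.bwd (nat_lit 5) (Steps.fwd (nat_lit 786432) (Steps.fwd (nat_lit 1048576) Steps.nil)))))) (nat_lit 54) (nat_lit 5),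
  Rule.mk (nat_lit 4) (nat_lit 114) (Steps.fwd (nat_lit 524288) (Steps.bwd (nat_lit 5) (Steps.fwd (nat_lit 1048576) (Steps.bwd (nat_lit 3) (Steps.fwd (nat_lit 1572864) Steps.nil))))) (nat_lit 55) (nat_lit 2),
  Rule.mk (nat_lit 7) (nat_lit 114) (Steps.bwd (nat_lit 4) (Steps.bwd (nat_lit 5) (Steps.bwd (nat_lit 7) (Steps.fwd (nat_lit 1048576) (Steps.fwd (nat_lit 1572864) Steps.nil))))) (nat_lit 66) (nat_lit 0),
  Rule.mk (nat_lit 2) (nat_lit 154) (Steps.fwd (nat_lit 1572864) (Steps.bwd (nat_lit 7) (Steps.bwd (nat_lit 2) (Steps.bwd (nat_lit 5) (Steps.bwd (nat_lit 2) (Steps.fwd (nat_lit 1572864) (Steps.fwd (nat_lit 1310720) Steps.nil))))))) (nat_lit 82) (nat_lit 6),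
  Rule.mk (nat_lit 3) (nat_lit 154) (Steps.bwd (nat_lit 5) (Steps.fwd (nat_lit 1572864) (Steps.bwd (nat_lit 3) (Steps.bwd (nat_lit 5) (Steps.fwd (nat_lit 524288) (Steps.fwd (nat_lit 1835008) (Steps.fwd (nat_lit 1572864) Steps.nil))))))) (nat_lit 83) (nat_lit 3),
  Rule.mk (nat_lit 3) (nat_lit 154) (Steps.bwd (nat_lit 6) (Steps.fwd (nat_lit 1835008) (Steps.fwd (nat_lit 524288) (Steps.bwd (nat_lit 5) (Steps.bwd (nat_lit 3) (Steps.fwd (nat_lit 1572864) (Steps.fwd (nat_lit 1310720) Steps.nil))))))) (nat_lit 85) (nat_lit 3),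
  Rule.mk (nat_lit 4) (nat_lit 154) (Steps.bwd (nat_lit 7) (Steps.bwd (nat_lit 3) (Steps.fwd (nat_lit 1572864) (Steps.bwd (nat_lit 4) (Steps.bwd (nat_lit 7) (Steps.fwd (nat_lit 524288) (Steps.bwd (nat_lit 5) Steps.nil))))))) (nat_lit 91) (nat_lit 6),
  Rule.mk (nat_lit 3) (nat_lit 154) (Steps.bwd (nat_lit 7) (Steps.bwd (nat_lit 6) (Steps.fwd (nat_lit 524288) (Steps.bwd (nat_lit 5) (Steps.bwd (nat_lit 6) (Steps.bwd (nat_lit 3) (Steps.fwd (nat_lit 1310720) Steps.nil))))))) (nat_lit 83) (nat_lit 0),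
  Rule.mk (nat_lit 4) (nat_lit 114) (Steps.bwd (nat_lit 6) (Steps.bwd (nat_lit 3) (Steps.bwd (nat_lit 4) (Steps.fwd (nat_lit 1310720) (Steps.bwd (nat_lit 3) Steps.nil))))) (nat_lit 59) (nat_lit 1),
  Rule.mk (nat_lit 4) (nat_lit 114) (Steps.fwd (nat_lit 1835008) (Steps.bwd (nat_lit 3) (Steps.bwd (nat_lit 4) (Steps.bwd (nat_lit 7) (Steps.bwd (nat_lit 3) Steps.nil))))) (nat_lit 65) (nat_lit 1),
  Rule.mk (nat_lit 1) (nat_lit 154) (Steps.bwd (nat_lit 3) (Steps.bwd (nat_lit 1) (Steps.fwd (nat_lit 1835008) (Steps.bwd (nat_lit 3) (Steps.fwd (nat_lit 262144) (Steps.bwd (nat_lit 3) (Steps.bwd (nat_lit 7) Steps.nil))))))) (nat_lit 73) (nat_lit 6),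
  Rule.mk (nat_lit 1) (nat_lit 154) (Steps.fwd (nat_lit 524288) (Steps.bwd (nat_lit 5) (Steps.bwd (nat_lit 1) (Steps.bwd (nat_lit 3) (Steps.bwd (nat_lit 1) (Steps.fwd (nat_lit 1310720) (Steps.bwd (nat_lit 3) Steps.nil))))))) (nat_lit 71) (nat_lit 3),
  Rule.mk (nat_lit 1) (nat_lit 154) (Steps.bwd (nat_lit 2) (Steps.bwd (nat_lit 1) (Steps.bwd (nat_lit 7) (Steps.bwd (nat_lit 2) (Steps.bwd (nat_lit 1) (Steps.bwd (nat_lit 2) (Steps.fwd (nat_lit 1835008) Steps.nil))))))) (nat_lit 72) (nat_lit 1),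
  Rule.mk (nat_lit 0) (nat_lit 174) (Steps.bwd (nat_lit 4) (Steps.bwd (nat_lit 1) (Steps.bwd (nat_lit 6) (Steps.bwd (nat_lit 1) (Steps.bwd (nat_lit 4) (Steps.fwd (nat_lit 262144) (Steps.fwd (nat_lit 1572864) (Steps.fwd (nat_lit 262144) Steps.nil)))))))) (nat_lit 74) (nat_lit 1)]
noncomputable def R_60 : List (Rule) := [Rule.mk (nat_lit 1) (nat_lit 274) (Steps.fwd (nat_lit 1572864) (Steps.bwd (nat_lit 5) (Steps.bwd (nat_lit 2) (Steps.bwd (nat_lit 1) (Steps.fwd (nat_lit 1572864) (Steps.bwd (nat_lit 1) (Steps.bwd (nat_lit 2) (Steps.bwd (nat_lit 1) (Steps.fwd (nat_lit 1572864) (Steps.bwd (nat_lit 1) (Steps.bwd (nat_lit 2) (Steps.fwd (nat_lit 262144) (Steps.fwd (nat_lit 1572864) Steps.nil))))))))))))) (nat_lit 34) (nat_lit 12),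
  Rule.mk (nat_lit 0) (nat_lit 134) (Steps.bwd (nat_lit 1) (Steps.bwd (nat_lit 4) (Steps.bwd (nat_lit 1) (Steps.bwd (nat_lit 4) (Steps.fwd (nat_lit 262144) (Steps.fwd (nat_lit 1048576) Steps.nil)))))) (nat_lit 16) (nat_lit 0),
  Rule.mk (nat_lit 4) (nat_lit 154) (Steps.bwd (nat_lit 1) (Steps.bwd (nat_lit 4) (Steps.bwd (nat_lit 7) (Steps.fwd (nat_lit 262144) (Steps.fwd (nat_lit 1048576) (Steps.fwd (nat_lit 262144) (Steps.bwd (nat_lit 7) Steps.nil))))))) (nat_lit 76) (nat_lit 5),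
  Rule.mk (nat_lit 0) (nat_lit 294) (Steps.bwd (nat_lit 6) (Steps.fwd (nat_lit 1310720) (Steps.bwd (nat_lit 2) (Steps.bwd (nat_lit 1) (Steps.bwd (nat_lit 6) (Steps.fwd (nat_lit 262144) (Steps.fwd (nat_lit 786432) (Steps.fwd (nat_lit 262144) (Steps.bwd (nat_lit 6) (Steps.fwd (nat_lit 262144) (Steps.bwd (nat_lit 2) (Steps.fwd (nat_lit 262144) (Steps.fwd (nat_lit 1572864) (Steps.bwd (nat_lit 1) Steps.nil)))))))))))))) (nat_lit 34) (nat_lit 12),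
  Rule.mk (nat_lit 1) (nat_lit 274) (Steps.fwd (nat_lit 1572864) (Steps.bwd (nat_lit 1) (Steps.fwd (nat_lit 1572864) (Steps.bwd (nat_lit 5) (Steps.fwd (nat_lit 786432) (Steps.fwd (nat_lit 262144) (Steps.bwd (nat_lit 6) (Steps.fwd (nat_lit 262144) (Steps.bwd (nat_lit 2) (Steps.fwd (nat_lit 262144) (Steps.fwd (nat_lit 1572864) (Steps.bwd (nat_lit 1) (Steps.fwd (nat_lit 786432) Steps.nil))))))))))))) (nat_lit 34) (nat_lit 10),
  Rule.mk (nat_lit 0) (nat_lit 94) (Steps.bwd (nat_lit 1) (Steps.fwd (nat_lit 1835008) (Steps.fwd (nat_lit 262144) (Steps.fwd (nat_lit 1835008) Steps.nil)))) (nat_lit 26) (nat_lit 1),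
  Rule.mk (nat_lit 6) (nat_lit 274) (Steps.bwd (nat_lit 1) (Steps.bwd (nat_lit 3) (Steps.bwd (nat_lit 5) (Steps.fwd (nat_lit 1572864) (Steps.fwd (nat_lit 262144) (Steps.bwd (nat_lit 6) (Steps.bwd (nat_lit 1) (Steps.bwd (nat_lit 3) (Steps.fwd (nat_lit 262144) (Steps.fwd (nat_lit 1572864) (Steps.bwd (nat_lit 1) (Steps.fwd (nat_lit 524288) (Steps.bwd (nat_lit 1) Steps.nil))))))))))))) (nat_lit 35) (nat_lit 12),
  Rule.mk (nat_lit 2) (nat_lit 114) (Steps.bwd (nat_lit 6) (Steps.fwd (nat_lit 1835008) (Steps.fwd (nat_lit 524288) (Steps.bwd (nat_lit 6) (Steps.fwd (nat_lit 1835008) Steps.nil))))) (nat_lit 62) (nat_lit 1),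
  Rule.mk (nat_lit 4) (nat_lit 114) (Steps.fwd (nat_lit 524288) (Steps.bwd (nat_lit 5) (Steps.bwd (nat_lit 4) (Steps.fwd (nat_lit 524288) (Steps.fwd (nat_lit 1572864) Steps.nil))))) (nat_lit 55) (nat_lit 2),
  Rule.mk (nat_lit 0) (nat_lit 174) (Steps.bwd (nat_lit 4) (Steps.fwd (nat_lit 262144) (Steps.fwd (nat_lit 1835008) (Steps.fwd (nat_lit 1048576) (Steps.bwd (nat_lit 1) (Steps.bwd (nat_lit 4) (Steps.bwd (nat_lit 7) (Steps.bwd (nat_lit 1) Steps.nil)))))))) (nat_lit 76) (nat_lit 1),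
  Rule.mk (nat_lit 4) (nat_lit 154) (Steps.fwd (nat_lit 524288) (Steps.fwd (nat_lit 1835008) (Steps.bwd (nat_lit 5) (Steps.bwd (nat_lit 4) (Steps.fwd (nat_lit 524288) (Steps.fwd (nat_lit 1835008) (Steps.fwd (nat_lit 1572864) Steps.nil))))))) (nat_lit 79) (nat_lit 3),
  Rule.mk (nat_lit 4) (nat_lit 114) (Steps.fwd (nat_lit 262144) (Steps.fwd (nat_lit 1048576) (Steps.fwd (nat_lit 262144) (Steps.bwd (nat_lit 4) (Steps.bwd (nat_lit 1) Steps.nil))))) (nat_lit 16) (nat_lit 0),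
  Rule.mk (nat_lit 0) (nat_lit 94) (Steps.bwd (nat_lit 4) (Steps.bwd (nat_lit 3) (Steps.fwd (nat_lit 1048576) (Steps.fwd (nat_lit 524288) Steps.nil)))) (nat_lit 15) (nat_lit 1),
  Rule.mk (nat_lit 0) (nat_lit 134) (Steps.fwd (nat_lit 1310720) (Steps.bwd (nat_lit 2) (Steps.bwd (nat_lit 4) (Steps.bwd (nat_lit 6) (Steps.fwd (nat_lit 786432) (Steps.bwd (nat_lit 4) Steps.nil)))))) (nat_lit 54) (nat_lit 2),
  Rule.mk (nat_lit 0) (nat_lit 134) (Steps.bwd (nat_lit 4) (Steps.fwd (nat_lit 1835008) (Steps.fwd (nat_lit 1572864) (Steps.fwd (nat_lit 1048576) (Steps.fwd (nat_lit 1835008) (Steps.bwd (nat_lit 5) Steps.nil)))))) (nat_lit 67) (nat_lit 5),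
  Rule.mk (nat_lit 4) (nat_lit 154) (Steps.bwd (nat_lit 5) (Steps.fwd (nat_lit 1835008) (Steps.bwd (nat_lit 2) (Steps.bwd (nat_lit 4) (Steps.bwd (nat_lit 6) (Steps.bwd (nat_lit 7) (Steps.bwd (nat_lit 2) Steps.nil))))))) (nat_lit 78) (nat_lit 2),
  Rule.mk (nat_lit 4) (nat_lit 154) (Steps.fwd (nat_lit 524288) (Steps.fwd (nat_lit 1572864) (Steps.bwd (nat_lit 7) (Steps.bwd (nat_lit 4) (Steps.bwd (nat_lit 3) (Steps.bwd (nat_lit 5) (Steps.fwd (nat_lit 1835008) Steps.nil))))))) (nat_lit 81) (nat_lit 7),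
  Rule.mk (nat_lit 0) (nat_lit 134) (Steps.bwd (nat_lit 4) (Steps.fwd (nat_lit 262144) (Steps.fwd (nat_lit 1048576) (Steps.fwd (nat_lit 262144) (Steps.bwd (nat_lit 4) (Steps.fwd (nat_lit 262144) Steps.nil)))))) (nat_lit 16) (nat_lit 1),
  Rule.mk (nat_lit 0) (nat_lit 134) (Steps.fwd (nat_lit 786432) (Steps.fwd (nat_lit 1310720) (Steps.fwd (nat_lit 1048576) (Steps.fwd (nat_lit 786432) (Steps.bwd (nat_lit 6) (Steps.fwd (nat_lit 1048576) Steps.nil)))))) (nat_lit 58) (nat_lit 0),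
  Rule.mk (nat_lit 0) (nat_lit 174) (Steps.bwd (nat_lit 1) (Steps.bwd (nat_lit 4) (Steps.fwd (nat_lit 262144) (Steps.bwd (nat_lit 6) (Steps.bwd (nat_lit 1) (Steps.fwd (nat_lit 1048576) (Steps.bwd (nat_lit 1) (Steps.bwd (nat_lit 6) Steps.nil)))))))) (nat_lit 74) (nat_lit 0),
  Rule.mk (nat_lit 0) (nat_lit 294) (Steps.bwd (nat_lit 1) (Steps.bwd (nat_lit 2) (Steps.bwd (nat_lit 1) (Steps.fwd (nat_lit 1572864) (Steps.fwd (nat_lit 262144) (Steps.bwd (nat_lit 6) (Steps.bwd (nat_lit 5) (Steps.fwd (nat_lit 786432) (Steps.fwd (nat_lit 262144) (Steps.bwd (nat_lit 6) (Steps.bwd (nat_lit 1) (Steps.fwd (nat_lit 786432) (Steps.fwd (nat_lit 262144) (Steps.bwd (nat_lit 6) Steps.nil)))))))))))))) (nat_lit 34) (nat_lit 7),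
  Rule.mk (nat_lit 0) (nat_lit 134) (Steps.bwd (nat_lit 4) (Steps.bwd (nat_lit 1) (Steps.fwd (nat_lit 1048576) (Steps.bwd (nat_lit 1) (Steps.fwd (nat_lit 1048576) (Steps.bwd (nat_lit 1) Steps.nil)))))) (nat_lit 16) (nat_lit 1),
  Rule.mk (nat_lit 1) (nat_lit 114) (Steps.bwd (nat_lit 3) (Steps.bwd (nat_lit 9) (Steps.bwd (nat_lit 1) (Steps.bwd (nat_lit 8) (Steps.fwd (nat_lit 786432) Steps.nil))))) (nat_lit 104) (nat_lit 3),
  Rule.mk (nat_lit 1) (nat_lit 154) (Steps.bwd (nat_lit 5) (Steps.fwd (nat_lit 786432) (Steps.bwd (nat_lit 1) (Steps.bwd (nat_lit 2) (Steps.fwd (nat_lit 1310720) (Steps.bwd (nat_lit 1) (Steps.bwd (nat_lit 2) Steps.nil))))))) (nat_lit 70) (nat_lit 3),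
  Rule.mk (nat_lit 3) (nat_lit 154) (Steps.bwd (nat_lit 1) (Steps.fwd (nat_lit 524288) (Steps.bwd (nat_lit 5) (Steps.bwd (nat_lit 1) (Steps.bwd (nat_lit 3) (Steps.bwd (nat_lit 1) (Steps.fwd (nat_lit 1310720) Steps.nil))))))) (nat_lit 71) (nat_lit 2),
  Rule.mk (nat_lit 1) (nat_lit 154) (Steps.fwd (nat_lit 1835008) (Steps.fwd (nat_lit 786432) (Steps.bwd (nat_lit 1) (Steps.bwd (nat_lit 2) (Steps.fwd (nat_lit 1835008) (Steps.bwd (nat_lit 1) (Steps.bwd (nat_lit 2) Steps.nil))))))) (nat_lit 72) (nat_lit 3),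
  Rule.mk (nat_lit 0) (nat_lit 174) (Steps.bwd (nat_lit 1) (Steps.bwd (nat_lit 4) (Steps.bwd (nat_lit 1) (Steps.bwd (nat_lit 6) (Steps.fwd (nat_lit 262144) (Steps.bwd (nat_lit 4) (Steps.fwd (nat_lit 262144) (Steps.bwd (nat_lit 6) Steps.nil)))))))) (nat_lit 74) (nat_lit 0),
  Rule.mk (nat_lit 1) (nat_lit 274) (Steps.fwd (nat_lit 1572864) (Steps.bwd (nat_lit 5) (Steps.fwd (nat_lit 786432) (Steps.bwd (nat_lit 1) (Steps.bwd (nat_lit 6) (Steps.bwd (nat_lit 1) (Steps.fwd (nat_lit 786432) (Steps.fwd (nat_lit 262144) (Steps.fwd (nat_lit 1572864) (Steps.bwd (nat_lit 1) (Steps.fwd (nat_lit 786432) (Steps.fwd (nat_lit 262144) (Steps.bwd (nat_lit 6) Steps.nil))))))))))))) (nat_lit 34) (nat_lit 12),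
  Rule.mk (nat_lit 6) (nat_lit 274) (Steps.bwd (nat_lit 1) (Steps.bwd (nat_lit 6) (Steps.fwd (nat_lit 262144) (Steps.fwd (nat_lit 524288) (Steps.fwd (nat_lit 262144) (Steps.fwd (nat_lit 1572864) (Steps.fwd (nat_lit 262144) (Steps.fwd (nat_lit 524288) (Steps.bwd (nat_lit 1) (Steps.fwd (nat_lit 1572864) (Steps.bwd (nat_lit 1) (Steps.fwd (nat_lit 524288) (Steps.fwd (nat_lit 1310720) Steps.nil))))))))))))) (nat_lit 35) (nat_lit 2),
  Rule.mk (nat_lit 0) (nat_lit 294) (Steps.fwd (nat_lit 524288) (Steps.bwd (nat_lit 5) (Steps.fwd (nat_lit 1572864) (Steps.bwd (nat_lit 1) (Steps.bwd (nat_lit 6) (Steps.bwd (nat_lit 1) (Steps.fwd (nat_lit 524288) (Steps.bwd (nat_lit 1) (Steps.bwd (nat_lit 6) (Steps.bwd (nat_lit 1) (Steps.fwd (nat_lit 524288) (Steps.bwd (nat_lit 1) (Steps.bwd (nat_lit 6) (Steps.fwd (nat_lit 262144) Steps.nil)))))))))))))) (nat_lit 35) (nat_lit 13),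
  Rule.mk (nat_lit 0) (nat_lit 94) (Steps.bwd (nat_lit 1) (Steps.bwd (nat_lit 7) (Steps.bwd (nat_lit 1) (Steps.bwd (nat_lit 7) Steps.nil)))) (nat_lit 26) (nat_lit 1),
  Rule.mk (nat_lit 0) (nat_lit 134) (Steps.fwd (nat_lit 1310720) (Steps.bwd (nat_lit 7) (Steps.bwd (nat_lit 1) (Steps.fwd (nat_lit 1310720) (Steps.fwd (nat_lit 1835008) (Steps.fwd (nat_lit 262144) Steps.nil)))))) (nat_lit 52) (nat_lit 1),
  Rule.mk (nat_lit 1) (nat_lit 114) (Steps.fwd (nat_lit 1835008) (Steps.bwd (nat_lit 5) (Steps.fwd (nat_lit 262144) (Steps.bwd (nat_lit 7) (Steps.fwd (nat_lit 1310720) Steps.nil))))) (nat_lit 53) (nat_lit 0),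
  Rule.mk (nat_lit 0) (nat_lit 174) (Steps.bwd (nat_lit 1) (Steps.bwd (nat_lit 2) (Steps.bwd (nat_lit 7) (Steps.bwd (nat_lit 1) (Steps.bwd (nat_lit 2) (Steps.fwd (nat_lit 262144) (Steps.bwd (nat_lit 7) (Steps.bwd (nat_lit 2) Steps.nil)))))))) (nat_lit 72) (nat_lit 5),
  Rule.mk (nat_lit 1) (nat_lit 154) (Steps.bwd (nat_lit 7) (Steps.fwd (nat_lit 1048576) (Steps.bwd (nat_lit 1) (Steps.fwd (nat_lit 1048576) (Steps.bwd (nat_lit 7) (Steps.bwd (nat_lit 1) (Steps.fwd (nat_lit 1048576) Steps.nil))))))) (nat_lit 76) (nat_lit 3),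
  Rule.mk (nat_lit 4) (nat_lit 114) (Steps.fwd (nat_lit 262144) (Steps.bwd (nat_lit 4) (Steps.bwd (nat_lit 1) (Steps.fwd (nat_lit 1048576) (Steps.bwd (nat_lit 1) Steps.nil))))) (nat_lit 16) (nat_lit 0),
  Rule.mk (nat_lit 1) (nat_lit 154) (Steps.fwd (nat_lit 524288) (Steps.bwd (nat_lit 1) (Steps.fwd (nat_lit 786432) (Steps.fwd (nat_lit 262144) (Steps.bwd (nat_lit 3) (Steps.bwd (nat_lit 1) (Steps.fwd (nat_lit 786432) Steps.nil))))))) (nat_lit 68) (nat_lit 3),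
  Rule.mk (nat_lit 1) (nat_lit 154) (Steps.fwd (nat_lit 786432) (Steps.bwd (nat_lit 1) (Steps.fwd (nat_lit 1310720) (Steps.bwd (nat_lit 2) (Steps.bwd (nat_lit 1) (Steps.bwd (nat_lit 2) (Steps.bwd (nat_lit 5) Steps.nil))))))) (nat_lit 70) (nat_lit 1),
  Rule.mk (nat_lit 4) (nat_lit 154) (Steps.bwd (nat_lit 7) (Steps.bwd (nat_lit 1) (Steps.bwd (nat_lit 4) (Steps.fwd (nat_lit 262144) (Steps.fwd (nat_lit 1835008) (Steps.fwd (nat_lit 1048576) (Steps.bwd (nat_lit 1) Steps.nil))))))) (nat_lit 76) (nat_lit 7),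
  Rule.mk (nat_lit 1) (nat_lit 274) (Steps.fwd (nat_lit 1572864) (Steps.bwd (nat_lit 5) (Steps.bwd (nat_lit 2) (Steps.fwd (nat_lit 262144) (Steps.bwd (nat_lit 6) (Steps.bwd (nat_lit 1) (Steps.bwd (nat_lit 2) (Steps.fwd (nat_lit 262144) (Steps.bwd (nat_lit 6) (Steps.bwd (nat_lit 1) (Steps.fwd (nat_lit 786432) (Steps.bwd (nat_lit 1) (Steps.bwd (nat_lit 6) Steps.nil))))))))))))) (nat_lit 34) (nat_lit 12),
  Rule.mk (nat_lit 1) (nat_lit 274) (Steps.fwd (nat_lit 1572864) (Steps.bwd (nat_lit 1) (Steps.bwd (nat_lit 3) (Steps.bwd (nat_lit 1) (Steps.fwd (nat_lit 1572864) (Steps.fwd (nat_lit 262144) (Steps.bwd (nat_lit 3) (Steps.bwd (nat_lit 1) (Steps.bwd (nat_lit 6) (Steps.bwd (nat_lit 1) (Steps.bwd (nat_lit 3) (Steps.bwd (nat_lit 5) (Steps.fwd (nat_lit 1572864) Steps.nil))))))))))))) (nat_lit 35) (nat_lit 3),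
  Rule.mk (nat_lit 1) (nat_lit 274) (Steps.fwd (nat_lit 1572864) (Steps.bwd (nat_lit 1) (Steps.bwd (nat_lit 3) (Steps.bwd (nat_lit 5) (Steps.bwd (nat_lit 6) (Steps.bwd (nat_lit 1) (Steps.fwd (nat_lit 1572864) (Steps.fwd (nat_lit 262144) (Steps.bwd (nat_lit 3) (Steps.bwd (nat_lit 1) (Steps.bwd (nat_lit 6) (Steps.bwd (nat_lit 1) (Steps.bwd (nat_lit 3) Steps.nil))))))))))))) (nat_lit 35) (nat_lit 11),
  Rule.mk (nat_lit 0) (nat_lit 174) (Steps.bwd (nat_lit 3) (Steps.bwd (nat_lit 1) (Steps.fwd (nat_lit 786432) (Steps.bwd (nat_lit 1) (Steps.bwd (nat_lit 3) (Steps.fwd (nat_lit 262144) (Steps.fwd (nat_lit 786432) (Steps.fwd (nat_lit 262144) Steps.nil)))))))) (nat_lit 68) (nat_lit 3),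
  Rule.mk (nat_lit 4) (nat_lit 154) (Steps.fwd (nat_lit 262144) (Steps.fwd (nat_lit 1572864) (Steps.fwd (nat_lit 262144) (Steps.bwd (nat_lit 4) (Steps.fwd (nat_lit 262144) (Steps.fwd (nat_lit 1572864) (Steps.bwd (nat_lit 1) Steps.nil))))))) (nat_lit 74) (nat_lit 2),
  Rule.mk (nat_lit 0) (nat_lit 134) (Steps.bwd (nat_lit 4) (Steps.fwd (nat_lit 1835008) (Steps.fwd (nat_lit 786432) (Steps.fwd (nat_lit 1048576) (Steps.bwd (nat_lit 7) (Steps.bwd (nat_lit 2) Steps.nil)))))) (nat_lit 56) (nat_lit 1),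
  Rule.mk (nat_lit 0) (nat_lit 174) (Steps.bwd (nat_lit 1) (Steps.bwd (nat_lit 4) (Steps.bwd (nat_lit 7) (Steps.bwd (nat_lit 1) (Steps.fwd (nat_lit 1048576) (Steps.bwd (nat_lit 1) (Steps.bwd (nat_lit 7) (Steps.bwd (nat_lit 4) Steps.nil)))))))) (nat_lit 76) (nat_lit 5),
  Rule.mk (nat_lit 0) (nat_lit 94) (Steps.bwd (nat_lit 1) (Steps.bwd (nat_lit 7) (Steps.fwd (nat_lit 262144) (Steps.bwd (nat_lit 7) Steps.nil)))) (nat_lit 26) (nat_lit 1),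
  Rule.mk (nat_lit 1) (nat_lit 114) (Steps.bwd (nat_lit 3) (Steps.fwd (nat_lit 2097152) (Steps.bwd (nat_lit 1) (Steps.bwd (nat_lit 8) (Steps.fwd (nat_lit 786432) Steps.nil))))) (nat_lit 104) (nat_lit 3),
  Rule.mk (nat_lit 8) (nat_lit 114) (Steps.fwd (nat_lit 786432) (Steps.bwd (nat_lit 1) (Steps.fwd (nat_lit 524288) (Steps.bwd (nat_lit 9) (Steps.bwd (nat_lit 1) Steps.nil))))) (nat_lit 104) (nat_lit 1),
  Rule.mk (nat_lit 1) (nat_lit 154) (Steps.fwd (nat_lit 786432) (Steps.bwd (nat_lit 1) (Steps.fwd (nat_lit 524288) (Steps.bwd (nat_lit 1) (Steps.bwd (nat_lit 2) (Steps.fwd (nat_lit 262144) (Steps.bwd (nat_lit 3) Steps.nil))))))) (nat_lit 68) (nat_lit 1),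
  Rule.mk (nat_lit 0) (nat_lit 174) (Steps.bwd (nat_lit 3) (Steps.fwd (nat_lit 262144) (Steps.bwd (nat_lit 2) (Steps.bwd (nat_lit 1) (Steps.bwd (nat_lit 3) (Steps.fwd (nat_lit 262144) (Steps.bwd (nat_lit 2) (Steps.fwd (nat_lit 262144) Steps.nil)))))))) (nat_lit 68) (nat_lit 3),
  Rule.mk (nat_lit 1) (nat_lit 154) (Steps.bwd (nat_lit 2) (Steps.fwd (nat_lit 1835008) (Steps.bwd (nat_lit 1) (Steps.fwd (nat_lit 786432) (Steps.bwd (nat_lit 1) (Steps.fwd (nat_lit 1835008) (Steps.bwd (nat_lit 2) Steps.nil))))))) (nat_lit 72) (nat_lit 6),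
  Rule.mk (nat_lit 1) (nat_lit 274) (Steps.fwd (nat_lit 1572864) (Steps.fwd (nat_lit 262144) (Steps.bwd (nat_lit 3) (Steps.bwd (nat_lit 1) (Steps.bwd (nat_lit 6) (Steps.bwd (nat_lit 1) (Steps.bwd (nat_lit 3) (Steps.bwd (nat_lit 1) (Steps.bwd (nat_lit 6) (Steps.bwd (nat_lit 1) (Steps.fwd (nat_lit 524288) (Steps.bwd (nat_lit 5) (Steps.bwd (nat_lit 6) Steps.nil))))))))))))) (nat_lit 35) (nat_lit 3),
  Rule.mk (nat_lit 3) (nat_lit 274) (Steps.bwd (nat_lit 5) (Steps.fwd (nat_lit 1572864) (Steps.bwd (nat_lit 1) (Steps.bwd (nat_lit 6) (Steps.fwd (nat_lit 262144) (Steps.fwd (nat_lit 524288) (Steps.fwd (nat_lit 262144) (Steps.bwd (nat_lit 6) (Steps.fwd (nat_lit 262144) (Steps.fwd (nat_lit 524288) (Steps.bwd (nat_lit 1) (Steps.fwd (nat_lit 1572864) (Steps.bwd (nat_lit 1) Steps.nil))))))))))))) (nat_lit 35) (nat_lit 0),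
  Rule.mk (nat_lit 1) (nat_lit 274) (Steps.fwd (nat_lit 1572864) (Steps.bwd (nat_lit 1) (Steps.fwd (nat_lit 524288) (Steps.fwd (nat_lit 1310720) (Steps.bwd (nat_lit 6) (Steps.fwd (nat_lit 262144) (Steps.bwd (nat_lit 6) (Steps.fwd (nat_lit 262144) (Steps.fwd (nat_lit 524288) (Steps.bwd (nat_lit 1) (Steps.fwd (nat_lit 1572864) (Steps.bwd (nat_lit 1) (Steps.bwd (nat_lit 3) Steps.nil))))))))))))) (nat_lit 35) (nat_lit 11),
  Rule.mk (nat_lit 1) (nat_lit 114) (Steps.bwd (nat_lit 3) (Steps.fwd (nat_lit 2097152) (Steps.bwd (nat_lit 1) (Steps.fwd (nat_lit 2359296) (Steps.bwd (nat_lit 2) Steps.nil))))) (nat_lit 104) (nat_lit 3),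
  Rule.mk (nat_lit 1) (nat_lit 154) (Steps.fwd (nat_lit 524288) (Steps.fwd (nat_lit 1310720) (Steps.bwd (nat_lit 1) (Steps.bwd (nat_lit 3) (Steps.bwd (nat_lit 1) (Steps.bwd (nat_lit 5) (Steps.fwd (nat_lit 524288) Steps.nil))))))) (nat_lit 71) (nat_lit 3),
  Rule.mk (nat_lit 6) (nat_lit 274) (Steps.bwd (nat_lit 1) (Steps.bwd (nat_lit 6) (Steps.fwd (nat_lit 1310720) (Steps.fwd (nat_lit 786432) (Steps.bwd (nat_lit 1) (Steps.fwd (nat_lit 1572864) (Steps.bwd (nat_lit 1) (Steps.fwd (nat_lit 786432) (Steps.bwd (nat_lit 1) (Steps.bwd (nat_lit 6) (Steps.fwd (nat_lit 262144) (Steps.fwd (nat_lit 786432) (Steps.fwd (nat_lit 262144) Steps.nil))))))))))))) (nat_lit 34) (nat_lit 11),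
  Rule.mk (nat_lit 4) (nat_lit 154) (Steps.bwd (nat_lit 3) (Steps.bwd (nat_lit 7) (Steps.bwd (nat_lit 6) (Steps.bwd (nat_lit 4) (Steps.fwd (nat_lit 524288) (Steps.fwd (nat_lit 1835008) (Steps.fwd (nat_lit 1310720) Steps.nil))))))) (nat_lit 79) (nat_lit 7),
  Rule.mk (nat_lit 1) (nat_lit 274) (Steps.bwd (nat_lit 6) (Steps.bwd (nat_lit 1) (Steps.fwd (nat_lit 524288) (Steps.fwd (nat_lit 262144) (Steps.bwd (nat_lit 6) (Steps.bwd (nat_lit 1) (Steps.fwd (nat_lit 524288) (Steps.bwd (nat_lit 1) (Steps.bwd (nat_lit 6) (Steps.fwd (nat_lit 262144) (Steps.bwd (nat_lit 3) (Steps.bwd (nat_lit 5) (Steps.fwd (nat_lit 1572864) Steps.nil))))))))))))) (nat_lit 35) (nat_lit 3),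
  Rule.mk (nat_lit 2) (nat_lit 274) (Steps.fwd (nat_lit 262144) (Steps.fwd (nat_lit 1572864) (Steps.bwd (nat_lit 1) (Steps.fwd (nat_lit 1572864) (Steps.bwd (nat_lit 5) (Steps.bwd (nat_lit 2) (Steps.fwd (nat_lit 262144) (Steps.fwd (nat_lit 1572864) (Steps.bwd (nat_lit 1) (Steps.bwd (nat_lit 2) (Steps.fwd (nat_lit 262144) (Steps.fwd (nat_lit 1572864) (Steps.fwd (nat_lit 262144) Steps.nil))))))))))))) (nat_lit 34) (nat_lit 9),
  Rule.mk (nat_lit 4) (nat_lit 114) (Steps.bwd (nat_lit 5) (Steps.bwd (nat_lit 2) (Steps.fwd (nat_lit 1048576) (Steps.fwd (nat_lit 1572864) (Steps.fwd (nat_lit 786432) Steps.nil))))) (nat_lit 54) (nat_lit 2),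
  Rule.mk (nat_lit 4) (nat_lit 114) (Steps.fwd (nat_lit 1572864) (Steps.bwd (nat_lit 2) (Steps.fwd (nat_lit 1048576) (Steps.bwd (nat_lit 5) (Steps.bwd (nat_lit 2) Steps.nil))))) (nat_lit 54) (nat_lit 5),
  Rule.mk (nat_lit 1) (nat_lit 154) (Steps.bwd (nat_lit 5) (Steps.bwd (nat_lit 2) (Steps.fwd (nat_lit 262144) (Steps.bwd (nat_lit 2) (Steps.bwd (nat_lit 5) (Steps.fwd (nat_lit 262144) (Steps.bwd (nat_lit 2) Steps.nil))))))) (nat_lit 70) (nat_lit 3)]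
noncomputable def R_61 : List (Rule) := [Rule.mk (nat_lit 2) (nat_lit 154) (Steps.bwd (nat_lit 5) (Steps.fwd (nat_lit 1572864) (Steps.bwd (nat_lit 2) (Steps.bwd (nat_lit 5) (Steps.fwd (nat_lit 786432) (Steps.fwd (nat_lit 1835008) (Steps.bwd (nat_lit 6) Steps.nil))))))) (nat_lit 84) (nat_lit 6),
  Rule.mk (nat_lit 3) (nat_lit 114) (Steps.fwd (nat_lit 2097152) (Steps.fwd (nat_lit 262144) (Steps.fwd (nat_lit 2359296) (Steps.bwd (nat_lit 2) (Steps.bwd (nat_lit 1) Steps.nil))))) (nat_lit 104) (nat_lit 4),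
  Rule.mk (nat_lit 6) (nat_lit 274) (Steps.bwd (nat_lit 1) (Steps.fwd (nat_lit 1572864) (Steps.bwd (nat_lit 5) (Steps.bwd (nat_lit 2) (Steps.bwd (nat_lit 1) (Steps.fwd (nat_lit 1572864) (Steps.bwd (nat_lit 1) (Steps.fwd (nat_lit 786432) (Steps.bwd (nat_lit 1) (Steps.bwd (nat_lit 6) (Steps.fwd (nat_lit 262144) (Steps.bwd (nat_lit 2) (Steps.bwd (nat_lit 1) Steps.nil))))))))))))) (nat_lit 34) (nat_lit 11),
  Rule.mk (nat_lit 4) (nat_lit 114) (Steps.bwd (nat_lit 5) (Steps.bwd (nat_lit 2) (Steps.bwd (nat_lit 4) (Steps.bwd (nat_lit 6) (Steps.bwd (nat_lit 2) Steps.nil))))) (nat_lit 54) (nat_lit 2),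
  Rule.mk (nat_lit 4) (nat_lit 154) (Steps.bwd (nat_lit 3) (Steps.fwd (nat_lit 1835008) (Steps.bwd (nat_lit 6) (Steps.fwd (nat_lit 1048576) (Steps.fwd (nat_lit 524288) (Steps.fwd (nat_lit 1835008) (Steps.bwd (nat_lit 5) Steps.nil))))))) (nat_lit 79) (nat_lit 7),
  Rule.mk (nat_lit 2) (nat_lit 154) (Steps.bwd (nat_lit 4) (Steps.fwd (nat_lit 1310720) (Steps.bwd (nat_lit 7) (Steps.bwd (nat_lit 2) (Steps.bwd (nat_lit 4) (Steps.fwd (nat_lit 1572864) (Steps.fwd (nat_lit 1835008) Steps.nil))))))) (nat_lit 78) (nat_lit 1),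
  Rule.mk (nat_lit 4) (nat_lit 154) (Steps.fwd (nat_lit 524288) (Steps.fwd (nat_lit 1835008) (Steps.fwd (nat_lit 1572864) (Steps.bwd (nat_lit 4) (Steps.bwd (nat_lit 3) (Steps.fwd (nat_lit 1835008) (Steps.bwd (nat_lit 5) Steps.nil))))))) (nat_lit 79) (nat_lit 7),
  Rule.mk (nat_lit 4) (nat_lit 314) (Steps.bwd (nat_lit 9) (Steps.fwd (nat_lit 1048576) (Steps.fwd (nat_lit 2359296) (Steps.bwd (nat_lit 4) (Steps.fwd (nat_lit 2097152) (Steps.bwd (nat_lit 4) (Steps.bwd (nat_lit 8) (Steps.fwd (nat_lit 1048576) (Steps.fwd (nat_lit 2097152) (Steps.bwd (nat_lit 4) (Steps.bwd (nat_lit 8) (Steps.fwd (nat_lit 1048576) (Steps.bwd (nat_lit 9) (Steps.fwd (nat_lit 1048576) (Steps.fwd (nat_lit 2359296) Steps.nil))))))))))))))) (nat_lit 106) (nat_lit 2),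
  Rule.mk (nat_lit 9) (nat_lit 314) (Steps.bwd (nat_lit 4) (Steps.fwd (nat_lit 2359296) (Steps.bwd (nat_lit 4) (Steps.bwd (nat_lit 9) (Steps.bwd (nat_lit 4) (Steps.bwd (nat_lit 8) (Steps.bwd (nat_lit 4) (Steps.bwd (nat_lit 9) (Steps.bwd (nat_lit 4) (Steps.fwd (nat_lit 2359296) (Steps.fwd (nat_lit 1048576) (Steps.bwd (nat_lit 9) (Steps.fwd (nat_lit 1048576) (Steps.fwd (nat_lit 2359296) (Steps.fwd (nat_lit 1048576) Steps.nil))))))))))))))) (nat_lit 106) (nat_lit 3),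
  Rule.mk (nat_lit 4) (nat_lit 114) (Steps.bwd (nat_lit 2) (Steps.bwd (nat_lit 7) (Steps.bwd (nat_lit 4) (Steps.bwd (nat_lit 2) (Steps.bwd (nat_lit 7) Steps.nil))))) (nat_lit 64) (nat_lit 0),
  Rule.mk (nat_lit 0) (nat_lit 174) (Steps.bwd (nat_lit 4) (Steps.fwd (nat_lit 786432) (Steps.bwd (nat_lit 6) (Steps.bwd (nat_lit 7) (Steps.bwd (nat_lit 4) (Steps.bwd (nat_lit 2) (Steps.bwd (nat_lit 5) (Steps.fwd (nat_lit 1835008) Steps.nil)))))))) (nat_lit 88) (nat_lit 3),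
  Rule.mk (nat_lit 4) (nat_lit 114) (Steps.bwd (nat_lit 3) (Steps.fwd (nat_lit 1835008) (Steps.bwd (nat_lit 4) (Steps.fwd (nat_lit 524288) (Steps.bwd (nat_lit 7) Steps.nil))))) (nat_lit 57) (nat_lit 2),
  Rule.mk (nat_lit 4) (nat_lit 314) (Steps.bwd (nat_lit 8) (Steps.fwd (nat_lit 1048576) (Steps.bwd (nat_lit 9) (Steps.fwd (nat_lit 1048576) (Steps.fwd (nat_lit 2359296) (Steps.fwd (nat_lit 1048576) (Steps.bwd (nat_lit 9) (Steps.bwd (nat_lit 4) (Steps.bwd (nat_lit 8) (Steps.fwd (nat_lit 1048576) (Steps.fwd (nat_lit 2097152) (Steps.fwd (nat_lit 1048576) (Steps.fwd (nat_lit 2359296) (Steps.fwd (nat_lit 1048576) (Steps.fwd (nat_lit 2097152) Steps.nil))))))))))))))) (nat_lit 106) (nat_lit 0),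
  Rule.mk (nat_lit 0) (nat_lit 94) (Steps.bwd (nat_lit 4) (Steps.bwd (nat_lit 3) (Steps.bwd (nat_lit 4) (Steps.fwd (nat_lit 524288) Steps.nil)))) (nat_lit 15) (nat_lit 1),
  Rule.mk (nat_lit 4) (nat_lit 114) (Steps.bwd (nat_lit 7) (Steps.bwd (nat_lit 2) (Steps.bwd (nat_lit 4) (Steps.fwd (nat_lit 1835008) (Steps.bwd (nat_lit 2) Steps.nil))))) (nat_lit 56) (nat_lit 2),
  Rule.mk (nat_lit 4) (nat_lit 114) (Steps.fwd (nat_lit 524288) (Steps.bwd (nat_lit 7) (Steps.bwd (nat_lit 4) (Steps.fwd (nat_lit 524288) (Steps.bwd (nat_lit 7) Steps.nil))))) (nat_lit 57) (nat_lit 2),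
  Rule.mk (nat_lit 4) (nat_lit 114) (Steps.bwd (nat_lit 5) (Steps.bwd (nat_lit 7) (Steps.bwd (nat_lit 4) (Steps.bwd (nat_lit 6) (Steps.fwd (nat_lit 1835008) Steps.nil))))) (nat_lit 66) (nat_lit 1),
  Rule.mk (nat_lit 0) (nat_lit 174) (Steps.bwd (nat_lit 4) (Steps.bwd (nat_lit 1) (Steps.bwd (nat_lit 4) (Steps.fwd (nat_lit 1835008) (Steps.bwd (nat_lit 1) (Steps.fwd (nat_lit 1048576) (Steps.fwd (nat_lit 262144) (Steps.bwd (nat_lit 7) Steps.nil)))))))) (nat_lit 76) (nat_lit 4),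
  Rule.mk (nat_lit 4) (nat_lit 114) (Steps.bwd (nat_lit 3) (Steps.fwd (nat_lit 1835008) (Steps.bwd (nat_lit 4) (Steps.fwd (nat_lit 524288) (Steps.fwd (nat_lit 1835008) Steps.nil))))) (nat_lit 57) (nat_lit 2),
  Rule.mk (nat_lit 0) (nat_lit 334) (Steps.bwd (nat_lit 4) (Steps.bwd (nat_lit 9) (Steps.bwd (nat_lit 4) (Steps.bwd (nat_lit 8) (Steps.fwd (nat_lit 1048576) (Steps.bwd (nat_lit 9) (Steps.fwd (nat_lit 1048576) (Steps.fwd (nat_lit 2359296) (Steps.fwd (nat_lit 1048576) (Steps.bwd (nat_lit 9) (Steps.fwd (nat_lit 1048576) (Steps.bwd (nat_lit 8) (Steps.bwd (nat_lit 4) (Steps.bwd (nat_lit 9) (Steps.fwd (nat_lit 1048576) (Steps.fwd (nat_lit 2359296) Steps.nil)))))))))))))))) (nat_lit 106) (nat_lit 1),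
  Rule.mk (nat_lit 0) (nat_lit 334) (Steps.bwd (nat_lit 4) (Steps.bwd (nat_lit 9) (Steps.bwd (nat_lit 4) (Steps.bwd (nat_lit 8) (Steps.bwd (nat_lit 4) (Steps.bwd (nat_lit 9) (Steps.bwd (nat_lit 4) (Steps.bwd (nat_lit 8) (Steps.fwd (nat_lit 1048576) (Steps.bwd (nat_lit 9) (Steps.bwd (nat_lit 4) (Steps.fwd (nat_lit 2359296) (Steps.bwd (nat_lit 4) (Steps.bwd (nat_lit 9) (Steps.fwd (nat_lit 1048576) (Steps.bwd (nat_lit 8) Steps.nil)))))))))))))))) (nat_lit 106) (nat_lit 1),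
  Rule.mk (nat_lit 0) (nat_lit 334) (Steps.bwd (nat_lit 4) (Steps.fwd (nat_lit 2359296) (Steps.bwd (nat_lit 4) (Steps.bwd (nat_lit 9) (Steps.fwd (nat_lit 1048576) (Steps.fwd (nat_lit 2359296) (Steps.fwd (nat_lit 1048576) (Steps.bwd (nat_lit 9) (Steps.bwd (nat_lit 4) (Steps.fwd (nat_lit 2359296) (Steps.bwd (nat_lit 4) (Steps.fwd (nat_lit 2097152) (Steps.fwd (nat_lit 1048576) (Steps.bwd (nat_lit 8) (Steps.bwd (nat_lit 4) (Steps.fwd (nat_lit 2097152) Steps.nil)))))))))))))))) (nat_lit 106) (nat_lit 3),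
  Rule.mk (nat_lit 3) (nat_lit 114) (Steps.bwd (nat_lit 4) (Steps.bwd (nat_lit 5) (Steps.bwd (nat_lit 3) (Steps.bwd (nat_lit 4) (Steps.bwd (nat_lit 6) Steps.nil))))) (nat_lit 59) (nat_lit 3),
  Rule.mk (nat_lit 0) (nat_lit 334) (Steps.fwd (nat_lit 2359296) (Steps.fwd (nat_lit 1048576) (Steps.bwd (nat_lit 9) (Steps.bwd (nat_lit 4) (Steps.bwd (nat_lit 8) (Steps.bwd (nat_lit 4) (Steps.bwd (nat_lit 9) (Steps.fwd (nat_lit 1048576) (Steps.bwd (nat_lit 8) (Steps.fwd (nat_lit 1048576) (Steps.bwd (nat_lit 9) (Steps.fwd (nat_lit 1048576) (Steps.fwd (nat_lit 2359296) (Steps.fwd (nat_lit 1048576) (Steps.fwd (nat_lit 2097152) (Steps.fwd (nat_lit 1048576) Steps.nil)))))))))))))))) (nat_lit 106) (nat_lit 0),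
  Rule.mk (nat_lit 6) (nat_lit 94) (Steps.bwd (nat_lit 7) (Steps.fwd (nat_lit 1310720) (Steps.bwd (nat_lit 6) (Steps.fwd (nat_lit 1310720) Steps.nil)))) (nat_lit 25) (nat_lit 0),
  Rule.mk (nat_lit 3) (nat_lit 114) (Steps.fwd (nat_lit 1310720) (Steps.bwd (nat_lit 7) (Steps.fwd (nat_lit 786432) (Steps.fwd (nat_lit 1310720) (Steps.bwd (nat_lit 7) Steps.nil))))) (nat_lit 60) (nat_lit 4),
  Rule.mk (nat_lit 2) (nat_lit 114) (Steps.fwd (nat_lit 1310720) (Steps.bwd (nat_lit 7) (Steps.fwd (nat_lit 524288) (Steps.bwd (nat_lit 5) (Steps.bwd (nat_lit 7) Steps.nil))))) (nat_lit 60) (nat_lit 1),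
  Rule.mk (nat_lit 2) (nat_lit 154) (Steps.fwd (nat_lit 1572864) (Steps.fwd (nat_lit 1310720) (Steps.bwd (nat_lit 2) (Steps.bwd (nat_lit 6) (Steps.bwd (nat_lit 7) (Steps.fwd (nat_lit 786432) (Steps.fwd (nat_lit 1310720) Steps.nil))))))) (nat_lit 82) (nat_lit 3),
  Rule.mk (nat_lit 3) (nat_lit 74) (Steps.fwd (nat_lit 1310720) (Steps.bwd (nat_lit 2) (Steps.fwd (nat_lit 1310720) Steps.nil))) (nat_lit 20) (nat_lit 3),
  Rule.mk (nat_lit 3) (nat_lit 74) (Steps.fwd (nat_lit 1835008) (Steps.bwd (nat_lit 2) (Steps.bwd (nat_lit 7) Steps.nil))) (nat_lit 28) (nat_lit 0),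
  Rule.mk (nat_lit 3) (nat_lit 74) (Steps.fwd (nat_lit 1572864) (Steps.bwd (nat_lit 2) (Steps.fwd (nat_lit 1572864) Steps.nil))) (nat_lit 40) (nat_lit 3),
  Rule.mk (nat_lit 1) (nat_lit 154) (Steps.fwd (nat_lit 1835008) (Steps.bwd (nat_lit 2) (Steps.fwd (nat_lit 262144) (Steps.fwd (nat_lit 786432) (Steps.bwd (nat_lit 7) (Steps.bwd (nat_lit 1) (Steps.bwd (nat_lit 2) Steps.nil))))))) (nat_lit 72) (nat_lit 3),
  Rule.mk (nat_lit 1) (nat_lit 154) (Steps.bwd (nat_lit 5) (Steps.bwd (nat_lit 2) (Steps.bwd (nat_lit 1) (Steps.fwd (nat_lit 786432) (Steps.fwd (nat_lit 1310720) (Steps.fwd (nat_lit 262144) (Steps.bwd (nat_lit 2) Steps.nil))))))) (nat_lit 70) (nat_lit 3),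
  Rule.mk (nat_lit 7) (nat_lit 154) (Steps.bwd (nat_lit 3) (Steps.bwd (nat_lit 1) (Steps.bwd (nat_lit 3) (Steps.bwd (nat_lit 7) (Steps.fwd (nat_lit 262144) (Steps.bwd (nat_lit 3) (Steps.fwd (nat_lit 262144) Steps.nil))))))) (nat_lit 73) (nat_lit 1),
  Rule.mk (nat_lit 4) (nat_lit 154) (Steps.fwd (nat_lit 262144) (Steps.bwd (nat_lit 4) (Steps.fwd (nat_lit 1835008) (Steps.bwd (nat_lit 1) (Steps.bwd (nat_lit 4) (Steps.bwd (nat_lit 1) (Steps.fwd (nat_lit 1835008) Steps.nil))))))) (nat_lit 76) (nat_lit 5),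
  Rule.mk (nat_lit 1) (nat_lit 274) (Steps.fwd (nat_lit 1572864) (Steps.bwd (nat_lit 5) (Steps.fwd (nat_lit 786432) (Steps.fwd (nat_lit 262144) (Steps.bwd (nat_lit 6) (Steps.bwd (nat_lit 1) (Steps.bwd (nat_lit 2) (Steps.bwd (nat_lit 1) (Steps.fwd (nat_lit 1572864) (Steps.bwd (nat_lit 1) (Steps.bwd (nat_lit 2) (Steps.bwd (nat_lit 1) (Steps.bwd (nat_lit 6) Steps.nil))))))))))))) (nat_lit 34) (nat_lit 12),
  Rule.mk (nat_lit 1) (nat_lit 274) (Steps.fwd (nat_lit 1572864) (Steps.fwd (nat_lit 1310720) (Steps.bwd (nat_lit 2) (Steps.bwd (nat_lit 1) (Steps.fwd (nat_lit 1572864) (Steps.bwd (nat_lit 1) (Steps.bwd (nat_lit 2) (Steps.bwd (nat_lit 1) (Steps.bwd (nat_lit 6) (Steps.bwd (nat_lit 1) (Steps.fwd (nat_lit 786432) (Steps.bwd (nat_lit 1) (Steps.bwd (nat_lit 6) Steps.nil))))))))))))) (nat_lit 34) (nat_lit 12),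
  Rule.mk (nat_lit 4) (nat_lit 154) (Steps.fwd (nat_lit 1835008) (Steps.bwd (nat_lit 1) (Steps.fwd (nat_lit 1048576) (Steps.bwd (nat_lit 1) (Steps.bwd (nat_lit 7) (Steps.fwd (nat_lit 1048576) (Steps.fwd (nat_lit 262144) Steps.nil))))))) (nat_lit 76) (nat_lit 7),
  Rule.mk (nat_lit 4) (nat_lit 114) (Steps.fwd (nat_lit 262144) (Steps.fwd (nat_lit 1048576) (Steps.fwd (nat_lit 262144) (Steps.bwd (nat_lit 4) (Steps.fwd (nat_lit 262144) Steps.nil))))) (nat_lit 16) (nat_lit 0),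
  Rule.mk (nat_lit 4) (nat_lit 114) (Steps.fwd (nat_lit 524288) (Steps.fwd (nat_lit 1572864) (Steps.bwd (nat_lit 4) (Steps.bwd (nat_lit 3) (Steps.fwd (nat_lit 1310720) Steps.nil))))) (nat_lit 55) (nat_lit 5),
  Rule.mk (nat_lit 4) (nat_lit 154) (Steps.bwd (nat_lit 3) (Steps.bwd (nat_lit 7) (Steps.bwd (nat_lit 6) (Steps.bwd (nat_lit 4) (Steps.fwd (nat_lit 524288) (Steps.bwd (nat_lit 7) (Steps.bwd (nat_lit 5) Steps.nil))))))) (nat_lit 79) (nat_lit 7),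
  Rule.mk (nat_lit 4) (nat_lit 154) (Steps.bwd (nat_lit 6) (Steps.bwd (nat_lit 2) (Steps.bwd (nat_lit 7) (Steps.bwd (nat_lit 4) (Steps.bwd (nat_lit 5) (Steps.fwd (nat_lit 786432) (Steps.bwd (nat_lit 7) Steps.nil))))))) (nat_lit 90) (nat_lit 7),
  Rule.mk (nat_lit 2) (nat_lit 114) (Steps.fwd (nat_lit 1572864) (Steps.bwd (nat_lit 4) (Steps.fwd (nat_lit 786432) (Steps.bwd (nat_lit 5) (Steps.bwd (nat_lit 4) Steps.nil))))) (nat_lit 58) (nat_lit 4),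
  Rule.mk (nat_lit 5) (nat_lit 74) (Steps.fwd (nat_lit 1048576) (Steps.bwd (nat_lit 6) (Steps.bwd (nat_lit 4) Steps.nil))) (nat_lit 22) (nat_lit 2),
  Rule.mk (nat_lit 5) (nat_lit 114) (Steps.fwd (nat_lit 1048576) (Steps.fwd (nat_lit 1835008) (Steps.bwd (nat_lit 6) (Steps.bwd (nat_lit 4) (Steps.bwd (nat_lit 7) Steps.nil))))) (nat_lit 67) (nat_lit 5),
  Rule.mk (nat_lit 8) (nat_lit 94) (Steps.fwd (nat_lit 1310720) (Steps.fwd (nat_lit 2097152) (Steps.bwd (nat_lit 5) (Steps.fwd (nat_lit 1835008) Steps.nil)))) (nat_lit 100) (nat_lit 1),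
  Rule.mk (nat_lit 1) (nat_lit 114) (Steps.bwd (nat_lit 7) (Steps.bwd (nat_lit 5) (Steps.fwd (nat_lit 262144) (Steps.bwd (nat_lit 7) (Steps.bwd (nat_lit 5) Steps.nil))))) (nat_lit 53) (nat_lit 0),
  Rule.mk (nat_lit 1) (nat_lit 154) (Steps.fwd (nat_lit 1572864) (Steps.bwd (nat_lit 1) (Steps.fwd (nat_lit 1048576) (Steps.bwd (nat_lit 1) (Steps.fwd (nat_lit 1572864) (Steps.bwd (nat_lit 1) (Steps.fwd (nat_lit 1048576) Steps.nil))))))) (nat_lit 74) (nat_lit 3),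
  Rule.mk (nat_lit 1) (nat_lit 154) (Steps.bwd (nat_lit 7) (Steps.fwd (nat_lit 786432) (Steps.bwd (nat_lit 1) (Steps.fwd (nat_lit 786432) (Steps.fwd (nat_lit 1835008) (Steps.fwd (nat_lit 262144) (Steps.fwd (nat_lit 786432) Steps.nil))))))) (nat_lit 72) (nat_lit 3),
  Rule.mk (nat_lit 2) (nat_lit 274) (Steps.bwd (nat_lit 1) (Steps.fwd (nat_lit 1572864) (Steps.fwd (nat_lit 262144) (Steps.fwd (nat_lit 786432) (Steps.bwd (nat_lit 1) (Steps.fwd (nat_lit 1572864) (Steps.bwd (nat_lit 1) (Steps.bwd (nat_lit 6) (Steps.bwd (nat_lit 5) (Steps.fwd (nat_lit 786432) (Steps.fwd (nat_lit 262144) (Steps.fwd (nat_lit 1572864) (Steps.bwd (nat_lit 1) Steps.nil))))))))))))) (nat_lit 34) (nat_lit 5),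
  Rule.mk (nat_lit 1) (nat_lit 274) (Steps.fwd (nat_lit 524288) (Steps.fwd (nat_lit 1310720) (Steps.fwd (nat_lit 1572864) (Steps.fwd (nat_lit 262144) (Steps.bwd (nat_lit 6) (Steps.bwd (nat_lit 1) (Steps.bwd (nat_lit 3) (Steps.bwd (nat_lit 1) (Steps.fwd (nat_lit 1572864) (Steps.fwd (nat_lit 262144) (Steps.bwd (nat_lit 3) (Steps.fwd (nat_lit 262144) (Steps.bwd (nat_lit 6) Steps.nil))))))))))))) (nat_lit 35) (nat_lit 13),
  Rule.mk (nat_lit 1) (nat_lit 274) (Steps.fwd (nat_lit 524288) (Steps.bwd (nat_lit 5) (Steps.bwd (nat_lit 6) (Steps.bwd (nat_lit 1) (Steps.fwd (nat_lit 1572864) (Steps.fwd (nat_lit 262144) (Steps.bwd (nat_lit 3) (Steps.fwd (nat_lit 262144) (Steps.bwd (nat_lit 6) (Steps.bwd (nat_lit 1) (Steps.fwd (nat_lit 524288) (Steps.bwd (nat_lit 1) (Steps.bwd (nat_lit 6) Steps.nil))))))))))))) (nat_lit 35) (nat_lit 13),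
  Rule.mk (nat_lit 3) (nat_lit 274) (Steps.fwd (nat_lit 1310720) (Steps.bwd (nat_lit 6) (Steps.bwd (nat_lit 1) (Steps.fwd (nat_lit 1572864) (Steps.fwd (nat_lit 262144) (Steps.bwd (nat_lit 3) (Steps.bwd (nat_lit 1) (Steps.fwd (nat_lit 1572864) (Steps.fwd (nat_lit 262144) (Steps.fwd (nat_lit 524288) (Steps.bwd (nat_lit 1) (Steps.bwd (nat_lit 6) (Steps.bwd (nat_lit 1) Steps.nil))))))))))))) (nat_lit 35) (nat_lit 0),
  Rule.mk (nat_lit 0) (nat_lit 94) (Steps.fwd (nat_lit 1572864) (Steps.bwd (nat_lit 3) (Steps.fwd (nat_lit 1572864) (Steps.bwd (nat_lit 2) Steps.nil)))) (nat_lit 40) (nat_lit 1),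
  Rule.mk (nat_lit 1) (nat_lit 114) (Steps.fwd (nat_lit 524288) (Steps.fwd (nat_lit 262144) (Steps.bwd (nat_lit 3) (Steps.bwd (nat_lit 1) (Steps.bwd (nat_lit 3) Steps.nil))))) (nat_lit 13) (nat_lit 0),
  Rule.mk (nat_lit 0) (nat_lit 134) (Steps.bwd (nat_lit 4) (Steps.fwd (nat_lit 524288) (Steps.fwd (nat_lit 1310720) (Steps.fwd (nat_lit 1048576) (Steps.bwd (nat_lit 3) (Steps.fwd (nat_lit 1572864) Steps.nil)))))) (nat_lit 55) (nat_lit 1),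
  Rule.mk (nat_lit 0) (nat_lit 134) (Steps.bwd (nat_lit 4) (Steps.bwd (nat_lit 5) (Steps.fwd (nat_lit 786432) (Steps.bwd (nat_lit 4) (Steps.bwd (nat_lit 6) (Steps.bwd (nat_lit 2) Steps.nil)))))) (nat_lit 54) (nat_lit 1),
  Rule.mk (nat_lit 3) (nat_lit 154) (Steps.fwd (nat_lit 1572864) (Steps.fwd (nat_lit 1310720) (Steps.bwd (nat_lit 3) (Steps.fwd (nat_lit 1572864) (Steps.bwd (nat_lit 7) (Steps.fwd (nat_lit 524288) (Steps.fwd (nat_lit 1310720) Steps.nil))))))) (nat_lit 85) (nat_lit 0),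
  Rule.mk (nat_lit 0) (nat_lit 174) (Steps.bwd (nat_lit 4) (Steps.bwd (nat_lit 1) (Steps.bwd (nat_lit 6) (Steps.bwd (nat_lit 1) (Steps.fwd (nat_lit 1048576) (Steps.fwd (nat_lit 262144) (Steps.bwd (nat_lit 6) (Steps.bwd (nat_lit 1) Steps.nil)))))))) (nat_lit 74) (nat_lit 1),
  Rule.mk (nat_lit 4) (nat_lit 114) (Steps.fwd (nat_lit 1835008) (Steps.fwd (nat_lit 524288) (Steps.bwd (nat_lit 4) (Steps.bwd (nat_lit 7) (Steps.bwd (nat_lit 3) Steps.nil))))) (nat_lit 65) (nat_lit 1),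
  Rule.mk (nat_lit 3) (nat_lit 154) (Steps.fwd (nat_lit 1835008) (Steps.bwd (nat_lit 4) (Steps.bwd (nat_lit 6) (Steps.bwd (nat_lit 3) (Steps.bwd (nat_lit 7) (Steps.bwd (nat_lit 4) (Steps.fwd (nat_lit 1310720) Steps.nil))))))) (nat_lit 87) (nat_lit 0),
  Rule.mk (nat_lit 2) (nat_lit 114) (Steps.fwd (nat_lit 1048576) (Steps.fwd (nat_lit 1310720) (Steps.bwd (nat_lit 2) (Steps.bwd (nat_lit 4) (Steps.fwd (nat_lit 1572864) Steps.nil))))) (nat_lit 54) (nat_lit 1),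
  Rule.mk (nat_lit 4) (nat_lit 314) (Steps.bwd (nat_lit 8) (Steps.bwd (nat_lit 4) (Steps.bwd (nat_lit 9) (Steps.bwd (nat_lit 4) (Steps.fwd (nat_lit 2359296) (Steps.fwd (nat_lit 1048576) (Steps.fwd (nat_lit 2097152) (Steps.bwd (nat_lit 4) (Steps.fwd (nat_lit 2359296) (Steps.bwd (nat_lit 4) (Steps.fwd (nat_lit 2097152) (Steps.bwd (nat_lit 4) (Steps.fwd (nat_lit 2359296) (Steps.fwd (nat_lit 1048576) (Steps.fwd (nat_lit 2097152) Steps.nil))))))))))))))) (nat_lit 106) (nat_lit 0),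
  Rule.mk (nat_lit 0) (nat_lit 94) (Steps.fwd (nat_lit 1310720) (Steps.bwd (nat_lit 4) (Steps.bwd (nat_lit 6) (Steps.fwd (nat_lit 1048576) Steps.nil)))) (nat_lit 22) (nat_lit 1)]
noncomputable def R_62 : List (Rule) := [Rule.mk (nat_lit 5) (nat_lit 114) (Steps.bwd (nat_lit 3) (Steps.bwd (nat_lit 4) (Steps.bwd (nat_lit 6) (Steps.bwd (nat_lit 3) (Steps.fwd (nat_lit 1048576) Steps.nil))))) (nat_lit 59) (nat_lit 5),
  Rule.mk (nat_lit 0) (nat_lit 114) (Steps.fwd (nat_lit 1572864) (Steps.bwd (nat_lit 5) (Steps.fwd (nat_lit 1835008) (Steps.bwd (nat_lit 6) (Steps.fwd (nat_lit 1310720) Steps.nil))))) (nat_lit 24) (nat_lit 2),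
  Rule.mk (nat_lit 0) (nat_lit 334) (Steps.bwd (nat_lit 4) (Steps.bwd (nat_lit 9) (Steps.fwd (nat_lit 1048576) (Steps.fwd (nat_lit 2359296) (Steps.bwd (nat_lit 4) (Steps.bwd (nat_lit 9) (Steps.fwd (nat_lit 1048576) (Steps.bwd (nat_lit 8) (Steps.fwd (nat_lit 1048576) (Steps.bwd (nat_lit 9) (Steps.fwd (nat_lit 1048576) (Steps.fwd (nat_lit 2359296) (Steps.fwd (nat_lit 1048576) (Steps.bwd (nat_lit 9) (Steps.bwd (nat_lit 4) (Steps.fwd (nat_lit 2359296) Steps.nil)))))))))))))))) (nat_lit 106) (nat_lit 1),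
  Rule.mk (nat_lit 4) (nat_lit 114) (Steps.bwd (nat_lit 6) (Steps.bwd (nat_lit 7) (Steps.bwd (nat_lit 4) (Steps.bwd (nat_lit 5) (Steps.fwd (nat_lit 1835008) Steps.nil))))) (nat_lit 66) (nat_lit 4),
  Rule.mk (nat_lit 0) (nat_lit 174) (Steps.bwd (nat_lit 4) (Steps.fwd (nat_lit 262144) (Steps.bwd (nat_lit 6) (Steps.bwd (nat_lit 1) (Steps.bwd (nat_lit 4) (Steps.bwd (nat_lit 1) (Steps.bwd (nat_lit 6) (Steps.fwd (nat_lit 262144) Steps.nil)))))))) (nat_lit 74) (nat_lit 1),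
  Rule.mk (nat_lit 4) (nat_lit 154) (Steps.bwd (nat_lit 7) (Steps.bwd (nat_lit 1) (Steps.bwd (nat_lit 4) (Steps.bwd (nat_lit 1) (Steps.fwd (nat_lit 1835008) (Steps.bwd (nat_lit 4) (Steps.fwd (nat_lit 262144) Steps.nil))))))) (nat_lit 76) (nat_lit 7),
  Rule.mk (nat_lit 1) (nat_lit 154) (Steps.fwd (nat_lit 1048576) (Steps.bwd (nat_lit 1) (Steps.bwd (nat_lit 7) (Steps.fwd (nat_lit 1048576) (Steps.fwd (nat_lit 262144) (Steps.fwd (nat_lit 1048576) (Steps.fwd (nat_lit 1835008) Steps.nil))))))) (nat_lit 76) (nat_lit 1),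
  Rule.mk (nat_lit 3) (nat_lit 154) (Steps.bwd (nat_lit 1) (Steps.fwd (nat_lit 524288) (Steps.fwd (nat_lit 1310720) (Steps.bwd (nat_lit 1) (Steps.bwd (nat_lit 3) (Steps.bwd (nat_lit 1) (Steps.bwd (nat_lit 5) Steps.nil))))))) (nat_lit 71) (nat_lit 2),
  Rule.mk (nat_lit 6) (nat_lit 154) (Steps.bwd (nat_lit 1) (Steps.fwd (nat_lit 1048576) (Steps.fwd (nat_lit 262144) (Steps.fwd (nat_lit 1572864) (Steps.fwd (nat_lit 262144) (Steps.bwd (nat_lit 4) (Steps.bwd (nat_lit 1) Steps.nil))))))) (nat_lit 74) (nat_lit 0),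
  Rule.mk (nat_lit 1) (nat_lit 274) (Steps.fwd (nat_lit 524288) (Steps.bwd (nat_lit 1) (Steps.bwd (nat_lit 6) (Steps.bwd (nat_lit 1) (Steps.bwd (nat_lit 3) (Steps.bwd (nat_lit 5) (Steps.bwd (nat_lit 6) (Steps.bwd (nat_lit 1) (Steps.fwd (nat_lit 1572864) (Steps.fwd (nat_lit 262144) (Steps.bwd (nat_lit 3) (Steps.fwd (nat_lit 262144) (Steps.fwd (nat_lit 1572864) Steps.nil))))))))))))) (nat_lit 35) (nat_lit 9),
  Rule.mk (nat_lit 0) (nat_lit 174) (Steps.fwd (nat_lit 786432) (Steps.bwd (nat_lit 5) (Steps.fwd (nat_lit 262144) (Steps.fwd (nat_lit 786432) (Steps.bwd (nat_lit 1) (Steps.fwd (nat_lit 1310720) (Steps.fwd (nat_lit 786432) (Steps.fwd (nat_lit 262144) Steps.nil)))))))) (nat_lit 70) (nat_lit 6),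
  Rule.mk (nat_lit 1) (nat_lit 154) (Steps.fwd (nat_lit 524288) (Steps.fwd (nat_lit 1835008) (Steps.fwd (nat_lit 262144) (Steps.bwd (nat_lit 3) (Steps.bwd (nat_lit 1) (Steps.bwd (nat_lit 7) (Steps.bwd (nat_lit 3) Steps.nil))))))) (nat_lit 73) (nat_lit 3),
  Rule.mk (nat_lit 0) (nat_lit 294) (Steps.bwd (nat_lit 1) (Steps.bwd (nat_lit 2) (Steps.fwd (nat_lit 262144) (Steps.bwd (nat_lit 6) (Steps.bwd (nat_lit 1) (Steps.fwd (nat_lit 786432) (Steps.bwd (nat_lit 1) (Steps.fwd (nat_lit 1572864) (Steps.fwd (nat_lit 262144) (Steps.fwd (nat_lit 1572864) (Steps.bwd (nat_lit 5) (Steps.fwd (nat_lit 786432) (Steps.bwd (nat_lit 1) (Steps.fwd (nat_lit 1572864) Steps.nil)))))))))))))) (nat_lit 34) (nat_lit 3),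
  Rule.mk (nat_lit 0) (nat_lit 174) (Steps.fwd (nat_lit 1835008) (Steps.bwd (nat_lit 1) (Steps.bwd (nat_lit 4) (Steps.fwd (nat_lit 262144) (Steps.bwd (nat_lit 7) (Steps.fwd (nat_lit 1048576) (Steps.bwd (nat_lit 1) (Steps.fwd (nat_lit 1048576) Steps.nil)))))))) (nat_lit 76) (nat_lit 7),
  Rule.mk (nat_lit 0) (nat_lit 174) (Steps.fwd (nat_lit 1835008) (Steps.bwd (nat_lit 1) (Steps.fwd (nat_lit 1048576) (Steps.bwd (nat_lit 1) (Steps.bwd (nat_lit 7) (Steps.bwd (nat_lit 4) (Steps.fwd (nat_lit 262144) (Steps.fwd (nat_lit 1048576) Steps.nil)))))))) (nat_lit 76) (nat_lit 7),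
  Rule.mk (nat_lit 0) (nat_lit 94) (Steps.fwd (nat_lit 1572864) (Steps.bwd (nat_lit 2) (Steps.bwd (nat_lit 6) (Steps.fwd (nat_lit 524288) Steps.nil)))) (nat_lit 40) (nat_lit 3),
  Rule.mk (nat_lit 6) (nat_lit 94) (Steps.bwd (nat_lit 7) (Steps.bwd (nat_lit 5) (Steps.fwd (nat_lit 1572864) (Steps.fwd (nat_lit 1310720) Steps.nil)))) (nat_lit 25) (nat_lit 0),
  Rule.mk (nat_lit 3) (nat_lit 114) (Steps.bwd (nat_lit 5) (Steps.bwd (nat_lit 7) (Steps.bwd (nat_lit 2) (Steps.bwd (nat_lit 5) (Steps.fwd (nat_lit 1835008) Steps.nil))))) (nat_lit 60) (nat_lit 4),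
  Rule.mk (nat_lit 2) (nat_lit 114) (Steps.bwd (nat_lit 7) (Steps.bwd (nat_lit 4) (Steps.bwd (nat_lit 2) (Steps.fwd (nat_lit 1835008) (Steps.fwd (nat_lit 1048576) Steps.nil))))) (nat_lit 64) (nat_lit 1),
  Rule.mk (nat_lit 4) (nat_lit 114) (Steps.bwd (nat_lit 7) (Steps.fwd (nat_lit 1310720) (Steps.bwd (nat_lit 4) (Steps.bwd (nat_lit 7) (Steps.bwd (nat_lit 6) Steps.nil))))) (nat_lit 67) (nat_lit 3),
  Rule.mk (nat_lit 1) (nat_lit 154) (Steps.bwd (nat_lit 4) (Steps.bwd (nat_lit 7) (Steps.fwd (nat_lit 262144) (Steps.bwd (nat_lit 4) (Steps.fwd (nat_lit 262144) (Steps.bwd (nat_lit 7) (Steps.fwd (nat_lit 1048576) Steps.nil))))))) (nat_lit 76) (nat_lit 6),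
  Rule.mk (nat_lit 0) (nat_lit 174) (Steps.bwd (nat_lit 4) (Steps.bwd (nat_lit 7) (Steps.bwd (nat_lit 1) (Steps.fwd (nat_lit 1048576) (Steps.fwd (nat_lit 262144) (Steps.bwd (nat_lit 7) (Steps.bwd (nat_lit 4) (Steps.fwd (nat_lit 262144) Steps.nil)))))))) (nat_lit 76) (nat_lit 6),
  Rule.mk (nat_lit 2) (nat_lit 154) (Steps.bwd (nat_lit 5) (Steps.bwd (nat_lit 7) (Steps.bwd (nat_lit 4) (Steps.bwd (nat_lit 2) (Steps.bwd (nat_lit 6) (Steps.bwd (nat_lit 7) (Steps.fwd (nat_lit 1048576) Steps.nil))))))) (nat_lit 88) (nat_lit 1),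
  Rule.mk (nat_lit 6) (nat_lit 94) (Steps.bwd (nat_lit 5) (Steps.fwd (nat_lit 1572864) (Steps.fwd (nat_lit 1835008) (Steps.fwd (nat_lit 1310720) Steps.nil)))) (nat_lit 25) (nat_lit 3),
  Rule.mk (nat_lit 2) (nat_lit 114) (Steps.fwd (nat_lit 1310720) (Steps.fwd (nat_lit 1835008) (Steps.fwd (nat_lit 524288) (Steps.bwd (nat_lit 5) (Steps.fwd (nat_lit 1835008) Steps.nil))))) (nat_lit 60) (nat_lit 1),
  Rule.mk (nat_lit 4) (nat_lit 154) (Steps.bwd (nat_lit 2) (Steps.fwd (nat_lit 1310720) (Steps.fwd (nat_lit 1835008) (Steps.fwd (nat_lit 1048576) (Steps.fwd (nat_lit 786432) (Steps.bwd (nat_lit 6) (Steps.fwd (nat_lit 1835008) Steps.nil))))))) (nat_lit 88) (nat_lit 0),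
  Rule.mk (nat_lit 4) (nat_lit 154) (Steps.fwd (nat_lit 1310720) (Steps.bwd (nat_lit 7) (Steps.bwd (nat_lit 2) (Steps.bwd (nat_lit 4) (Steps.bwd (nat_lit 6) (Steps.bwd (nat_lit 7) (Steps.bwd (nat_lit 2) Steps.nil))))))) (nat_lit 78) (nat_lit 2),
  Rule.mk (nat_lit 9) (nat_lit 314) (Steps.fwd (nat_lit 1048576) (Steps.bwd (nat_lit 8) (Steps.bwd (nat_lit 4) (Steps.bwd (nat_lit 9) (Steps.fwd (nat_lit 1048576) (Steps.bwd (nat_lit 8) (Steps.fwd (nat_lit 1048576) (Steps.fwd (nat_lit 2097152) (Steps.bwd (nat_lit 4) (Steps.bwd (nat_lit 8) (Steps.fwd (nat_lit 1048576) (Steps.fwd (nat_lit 2097152) (Steps.fwd (nat_lit 1048576) (Steps.fwd (nat_lit 2359296) (Steps.fwd (nat_lit 1048576) Steps.nil))))))))))))))) (nat_lit 106) (nat_lit 3),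
  Rule.mk (nat_lit 7) (nat_lit 114) (Steps.bwd (nat_lit 3) (Steps.bwd (nat_lit 4) (Steps.bwd (nat_lit 7) (Steps.fwd (nat_lit 524288) (Steps.fwd (nat_lit 1048576) Steps.nil))))) (nat_lit 65) (nat_lit 2),
  Rule.mk (nat_lit 4) (nat_lit 154) (Steps.fwd (nat_lit 524288) (Steps.fwd (nat_lit 1835008) (Steps.bwd (nat_lit 5) (Steps.bwd (nat_lit 4) (Steps.bwd (nat_lit 3) (Steps.fwd (nat_lit 1835008) (Steps.fwd (nat_lit 1572864) Steps.nil))))))) (nat_lit 79) (nat_lit 3),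
  Rule.mk (nat_lit 5) (nat_lit 154) (Steps.bwd (nat_lit 4) (Steps.fwd (nat_lit 524288) (Steps.fwd (nat_lit 1835008) (Steps.bwd (nat_lit 6) (Steps.bwd (nat_lit 4) (Steps.bwd (nat_lit 3) (Steps.fwd (nat_lit 1835008) Steps.nil))))))) (nat_lit 79) (nat_lit 6),
  Rule.mk (nat_lit 7) (nat_lit 154) (Steps.bwd (nat_lit 4) (Steps.fwd (nat_lit 524288) (Steps.bwd (nat_lit 6) (Steps.bwd (nat_lit 7) (Steps.bwd (nat_lit 4) (Steps.bwd (nat_lit 3) (Steps.fwd (nat_lit 1310720) Steps.nil))))))) (nat_lit 81) (nat_lit 6),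
  Rule.mk (nat_lit 3) (nat_lit 154) (Steps.fwd (nat_lit 1835008) (Steps.bwd (nat_lit 6) (Steps.bwd (nat_lit 3) (Steps.bwd (nat_lit 5) (Steps.bwd (nat_lit 6) (Steps.bwd (nat_lit 3) (Steps.fwd (nat_lit 1310720) Steps.nil))))))) (nat_lit 83) (nat_lit 0),
  Rule.mk (nat_lit 0) (nat_lit 94) (Steps.fwd (nat_lit 524288) (Steps.fwd (nat_lit 1572864) (Steps.fwd (nat_lit 786432) (Steps.bwd (nat_lit 6) Steps.nil)))) (nat_lit 40) (nat_lit 2),
  Rule.mk (nat_lit 2) (nat_lit 114) (Steps.bwd (nat_lit 5) (Steps.fwd (nat_lit 1835008) (Steps.bwd (nat_lit 3) (Steps.bwd (nat_lit 5) (Steps.fwd (nat_lit 1835008) Steps.nil))))) (nat_lit 60) (nat_lit 1),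
  Rule.mk (nat_lit 7) (nat_lit 114) (Steps.fwd (nat_lit 1572864) (Steps.bwd (nat_lit 3) (Steps.fwd (nat_lit 1835008) (Steps.bwd (nat_lit 6) (Steps.fwd (nat_lit 786432) Steps.nil))))) (nat_lit 63) (nat_lit 4),
  Rule.mk (nat_lit 3) (nat_lit 154) (Steps.bwd (nat_lit 7) (Steps.fwd (nat_lit 1572864) (Steps.bwd (nat_lit 3) (Steps.bwd (nat_lit 5) (Steps.fwd (nat_lit 1572864) (Steps.bwd (nat_lit 3) (Steps.fwd (nat_lit 1310720) Steps.nil))))))) (nat_lit 83) (nat_lit 0),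
  Rule.mk (nat_lit 1) (nat_lit 154) (Steps.fwd (nat_lit 786432) (Steps.bwd (nat_lit 1) (Steps.fwd (nat_lit 1835008) (Steps.bwd (nat_lit 2) (Steps.bwd (nat_lit 1) (Steps.fwd (nat_lit 786432) (Steps.bwd (nat_lit 7) Steps.nil))))))) (nat_lit 72) (nat_lit 1),
  Rule.mk (nat_lit 1) (nat_lit 114) (Steps.fwd (nat_lit 524288) (Steps.bwd (nat_lit 1) (Steps.fwd (nat_lit 524288) (Steps.bwd (nat_lit 1) (Steps.fwd (nat_lit 524288) Steps.nil))))) (nat_lit 13) (nat_lit 0),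
  Rule.mk (nat_lit 3) (nat_lit 154) (Steps.fwd (nat_lit 1310720) (Steps.bwd (nat_lit 1) (Steps.fwd (nat_lit 524288) (Steps.bwd (nat_lit 1) (Steps.fwd (nat_lit 1310720) (Steps.fwd (nat_lit 524288) (Steps.fwd (nat_lit 262144) Steps.nil))))))) (nat_lit 71) (nat_lit 4),
  Rule.mk (nat_lit 1) (nat_lit 154) (Steps.fwd (nat_lit 524288) (Steps.fwd (nat_lit 1310720) (Steps.bwd (nat_lit 1) (Steps.fwd (nat_lit 524288) (Steps.bwd (nat_lit 1) (Steps.fwd (nat_lit 1310720) (Steps.bwd (nat_lit 3) Steps.nil))))))) (nat_lit 71) (nat_lit 3),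
  Rule.mk (nat_lit 1) (nat_lit 154) (Steps.fwd (nat_lit 524288) (Steps.fwd (nat_lit 1835008) (Steps.bwd (nat_lit 1) (Steps.fwd (nat_lit 524288) (Steps.bwd (nat_lit 1) (Steps.fwd (nat_lit 1835008) (Steps.bwd (nat_lit 3) Steps.nil))))))) (nat_lit 73) (nat_lit 3),
  Rule.mk (nat_lit 4) (nat_lit 154) (Steps.bwd (nat_lit 1) (Steps.bwd (nat_lit 6) (Steps.bwd (nat_lit 1) (Steps.fwd (nat_lit 1048576) (Steps.bwd (nat_lit 1) (Steps.fwd (nat_lit 1572864) (Steps.bwd (nat_lit 1) Steps.nil))))))) (nat_lit 74) (nat_lit 2),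
  Rule.mk (nat_lit 0) (nat_lit 294) (Steps.fwd (nat_lit 262144) (Steps.bwd (nat_lit 6) (Steps.bwd (nat_lit 1) (Steps.fwd (nat_lit 786432) (Steps.bwd (nat_lit 1) (Steps.fwd (nat_lit 1572864) (Steps.fwd (nat_lit 262144) (Steps.fwd (nat_lit 786432) (Steps.fwd (nat_lit 262144) (Steps.fwd (nat_lit 1572864) (Steps.bwd (nat_lit 1) (Steps.bwd (nat_lit 6) (Steps.fwd (nat_lit 1310720) (Steps.fwd (nat_lit 786432) Steps.nil)))))))))))))) (nat_lit 34) (nat_lit 1),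
  Rule.mk (nat_lit 0) (nat_lit 294) (Steps.bwd (nat_lit 1) (Steps.bwd (nat_lit 3) (Steps.bwd (nat_lit 1) (Steps.bwd (nat_lit 6) (Steps.fwd (nat_lit 262144) (Steps.bwd (nat_lit 3) (Steps.bwd (nat_lit 1) (Steps.fwd (nat_lit 1572864) (Steps.fwd (nat_lit 262144) (Steps.fwd (nat_lit 524288) (Steps.bwd (nat_lit 5) (Steps.fwd (nat_lit 1572864) (Steps.bwd (nat_lit 1) (Steps.bwd (nat_lit 6) Steps.nil)))))))))))))) (nat_lit 35) (nat_lit 4),
  Rule.mk (nat_lit 5) (nat_lit 114) (Steps.bwd (nat_lit 7) (Steps.fwd (nat_lit 262144) (Steps.bwd (nat_lit 5) (Steps.bwd (nat_lit 7) (Steps.bwd (nat_lit 1) Steps.nil))))) (nat_lit 52) (nat_lit 2),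
  Rule.mk (nat_lit 5) (nat_lit 114) (Steps.fwd (nat_lit 262144) (Steps.bwd (nat_lit 7) (Steps.fwd (nat_lit 1310720) (Steps.fwd (nat_lit 262144) (Steps.bwd (nat_lit 7) Steps.nil))))) (nat_lit 53) (nat_lit 2),
  Rule.mk (nat_lit 4) (nat_lit 114) (Steps.bwd (nat_lit 7) (Steps.bwd (nat_lit 5) (Steps.bwd (nat_lit 4) (Steps.bwd (nat_lit 7) (Steps.fwd (nat_lit 1572864) Steps.nil))))) (nat_lit 67) (nat_lit 3),
  Rule.mk (nat_lit 4) (nat_lit 114) (Steps.bwd (nat_lit 6) (Steps.bwd (nat_lit 3) (Steps.fwd (nat_lit 1048576) (Steps.bwd (nat_lit 5) (Steps.bwd (nat_lit 3) Steps.nil))))) (nat_lit 59) (nat_lit 1),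
  Rule.mk (nat_lit 1) (nat_lit 114) (Steps.fwd (nat_lit 524288) (Steps.bwd (nat_lit 9) (Steps.bwd (nat_lit 1) (Steps.fwd (nat_lit 2359296) (Steps.fwd (nat_lit 786432) Steps.nil))))) (nat_lit 104) (nat_lit 3),
  Rule.mk (nat_lit 7) (nat_lit 154) (Steps.bwd (nat_lit 1) (Steps.bwd (nat_lit 3) (Steps.bwd (nat_lit 1) (Steps.fwd (nat_lit 1835008) (Steps.bwd (nat_lit 3) (Steps.fwd (nat_lit 262144) (Steps.fwd (nat_lit 524288) Steps.nil))))))) (nat_lit 73) (nat_lit 5),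
  Rule.mk (nat_lit 1) (nat_lit 154) (Steps.fwd (nat_lit 524288) (Steps.fwd (nat_lit 1835008) (Steps.bwd (nat_lit 1) (Steps.fwd (nat_lit 524288) (Steps.fwd (nat_lit 262144) (Steps.bwd (nat_lit 7) (Steps.fwd (nat_lit 524288) Steps.nil))))))) (nat_lit 73) (nat_lit 3),
  Rule.mk (nat_lit 3) (nat_lit 274) (Steps.bwd (nat_lit 1) (Steps.bwd (nat_lit 6) (Steps.bwd (nat_lit 1) (Steps.fwd (nat_lit 524288) (Steps.fwd (nat_lit 1310720) (Steps.fwd (nat_lit 1572864) (Steps.fwd (nat_lit 262144) (Steps.bwd (nat_lit 6) (Steps.bwd (nat_lit 1) (Steps.fwd (nat_lit 524288) (Steps.fwd (nat_lit 262144) (Steps.bwd (nat_lit 6) (Steps.fwd (nat_lit 262144) Steps.nil))))))))))))) (nat_lit 35) (nat_lit 10),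
  Rule.mk (nat_lit 5) (nat_lit 154) (Steps.bwd (nat_lit 4) (Steps.bwd (nat_lit 7) (Steps.bwd (nat_lit 2) (Steps.bwd (nat_lit 6) (Steps.bwd (nat_lit 4) (Steps.bwd (nat_lit 7) (Steps.fwd (nat_lit 786432) Steps.nil))))))) (nat_lit 86) (nat_lit 2),
  Rule.mk (nat_lit 4) (nat_lit 114) (Steps.bwd (nat_lit 6) (Steps.fwd (nat_lit 786432) (Steps.bwd (nat_lit 4) (Steps.bwd (nat_lit 5) (Steps.bwd (nat_lit 2) Steps.nil))))) (nat_lit 54) (nat_lit 5),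
  Rule.mk (nat_lit 4) (nat_lit 114) (Steps.bwd (nat_lit 3) (Steps.fwd (nat_lit 1835008) (Steps.bwd (nat_lit 4) (Steps.bwd (nat_lit 3) (Steps.bwd (nat_lit 7) Steps.nil))))) (nat_lit 57) (nat_lit 2),
  Rule.mk (nat_lit 0) (nat_lit 134) (Steps.bwd (nat_lit 4) (Steps.bwd (nat_lit 2) (Steps.fwd (nat_lit 1835008) (Steps.bwd (nat_lit 4) (Steps.bwd (nat_lit 2) (Steps.bwd (nat_lit 7) Steps.nil)))))) (nat_lit 64) (nat_lit 2),
  Rule.mk (nat_lit 4) (nat_lit 114) (Steps.bwd (nat_lit 5) (Steps.fwd (nat_lit 1835008) (Steps.bwd (nat_lit 4) (Steps.bwd (nat_lit 6) (Steps.fwd (nat_lit 1835008) Steps.nil))))) (nat_lit 66) (nat_lit 1),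
  Rule.mk (nat_lit 4) (nat_lit 154) (Steps.fwd (nat_lit 524288) (Steps.fwd (nat_lit 1835008) (Steps.fwd (nat_lit 1572864) (Steps.bwd (nat_lit 4) (Steps.bwd (nat_lit 3) (Steps.bwd (nat_lit 7) (Steps.bwd (nat_lit 5) Steps.nil))))))) (nat_lit 79) (nat_lit 7),
  Rule.mk (nat_lit 4) (nat_lit 154) (Steps.fwd (nat_lit 786432) (Steps.bwd (nat_lit 6) (Steps.fwd (nat_lit 1835008) (Steps.bwd (nat_lit 4) (Steps.bwd (nat_lit 2) (Steps.bwd (nat_lit 5) (Steps.fwd (nat_lit 1835008) Steps.nil))))))) (nat_lit 88) (nat_lit 4),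
  Rule.mk (nat_lit 4) (nat_lit 154) (Steps.bwd (nat_lit 7) (Steps.fwd (nat_lit 786432) (Steps.bwd (nat_lit 6) (Steps.bwd (nat_lit 4) (Steps.bwd (nat_lit 7) (Steps.fwd (nat_lit 786432) (Steps.bwd (nat_lit 5) Steps.nil))))))) (nat_lit 86) (nat_lit 3),
  Rule.mk (nat_lit 0) (nat_lit 334) (Steps.bwd (nat_lit 4) (Steps.bwd (nat_lit 9) (Steps.bwd (nat_lit 4) (Steps.bwd (nat_lit 8) (Steps.bwd (nat_lit 4) (Steps.fwd (nat_lit 2097152) (Steps.bwd (nat_lit 4) (Steps.fwd (nat_lit 2359296) (Steps.fwd (nat_lit 1048576) (Steps.bwd (nat_lit 9) (Steps.fwd (nat_lit 1048576) (Steps.fwd (nat_lit 2359296) (Steps.bwd (nat_lit 4) (Steps.bwd (nat_lit 9) (Steps.bwd (nat_lit 4) (Steps.fwd (nat_lit 2359296) Steps.nil)))))))))))))))) (nat_lit 106) (nat_lit 1),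
  Rule.mk (nat_lit 4) (nat_lit 314) (Steps.bwd (nat_lit 9) (Steps.bwd (nat_lit 4) (Steps.bwd (nat_lit 8) (Steps.bwd (nat_lit 4) (Steps.fwd (nat_lit 2097152) (Steps.bwd (nat_lit 4) (Steps.fwd (nat_lit 2359296) (Steps.fwd (nat_lit 1048576) (Steps.fwd (nat_lit 2097152) (Steps.bwd (nat_lit 4) (Steps.fwd (nat_lit 2359296) (Steps.bwd (nat_lit 4) (Steps.bwd (nat_lit 9) (Steps.fwd (nat_lit 1048576) (Steps.bwd (nat_lit 8) Steps.nil))))))))))))))) (nat_lit 106) (nat_lit 2),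
  Rule.mk (nat_lit 6) (nat_lit 114) (Steps.bwd (nat_lit 4) (Steps.fwd (nat_lit 786432) (Steps.bwd (nat_lit 5) (Steps.bwd (nat_lit 4) (Steps.fwd (nat_lit 786432) Steps.nil))))) (nat_lit 58) (nat_lit 5)]
noncomputable def R_63 : List (Rule) := [Rule.mk (nat_lit 0) (nat_lit 134) (Steps.bwd (nat_lit 2) (Steps.bwd (nat_lit 5) (Steps.fwd (nat_lit 1048576) (Steps.fwd (nat_lit 786432) (Steps.fwd (nat_lit 1572864) (Steps.fwd (nat_lit 1048576) Steps.nil)))))) (nat_lit 58) (nat_lit 0),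
  Rule.mk (nat_lit 4) (nat_lit 114) (Steps.fwd (nat_lit 1835008) (Steps.bwd (nat_lit 6) (Steps.bwd (nat_lit 4) (Steps.bwd (nat_lit 7) (Steps.fwd (nat_lit 1310720) Steps.nil))))) (nat_lit 67) (nat_lit 0),
  Rule.mk (nat_lit 1) (nat_lit 154) (Steps.bwd (nat_lit 7) (Steps.bwd (nat_lit 4) (Steps.fwd (nat_lit 262144) (Steps.bwd (nat_lit 4) (Steps.bwd (nat_lit 7) (Steps.fwd (nat_lit 262144) (Steps.bwd (nat_lit 4) Steps.nil))))))) (nat_lit 76) (nat_lit 3),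
  Rule.mk (nat_lit 6) (nat_lit 154) (Steps.bwd (nat_lit 7) (Steps.bwd (nat_lit 4) (Steps.fwd (nat_lit 524288) (Steps.bwd (nat_lit 5) (Steps.fwd (nat_lit 1835008) (Steps.bwd (nat_lit 4) (Steps.fwd (nat_lit 524288) Steps.nil))))))) (nat_lit 81) (nat_lit 1),
  Rule.mk (nat_lit 3) (nat_lit 114) (Steps.fwd (nat_lit 1310720) (Steps.bwd (nat_lit 4) (Steps.bwd (nat_lit 3) (Steps.fwd (nat_lit 1572864) (Steps.bwd (nat_lit 4) Steps.nil))))) (nat_lit 55) (nat_lit 3),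
  Rule.mk (nat_lit 3) (nat_lit 114) (Steps.fwd (nat_lit 1835008) (Steps.bwd (nat_lit 4) (Steps.bwd (nat_lit 3) (Steps.bwd (nat_lit 7) (Steps.fwd (nat_lit 1048576) Steps.nil))))) (nat_lit 57) (nat_lit 0),
  Rule.mk (nat_lit 3) (nat_lit 154) (Steps.bwd (nat_lit 7) (Steps.fwd (nat_lit 1310720) (Steps.bwd (nat_lit 4) (Steps.bwd (nat_lit 3) (Steps.bwd (nat_lit 7) (Steps.fwd (nat_lit 1572864) (Steps.bwd (nat_lit 4) Steps.nil))))))) (nat_lit 79) (nat_lit 4),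
  Rule.mk (nat_lit 1) (nat_lit 274) (Steps.fwd (nat_lit 524288) (Steps.fwd (nat_lit 1310720) (Steps.bwd (nat_lit 6) (Steps.fwd (nat_lit 262144) (Steps.fwd (nat_lit 1572864) (Steps.fwd (nat_lit 262144) (Steps.bwd (nat_lit 3) (Steps.bwd (nat_lit 1) (Steps.bwd (nat_lit 6) (Steps.fwd (nat_lit 262144) (Steps.fwd (nat_lit 524288) (Steps.bwd (nat_lit 1) (Steps.bwd (nat_lit 6) Steps.nil))))))))))))) (nat_lit 35) (nat_lit 13),
  Rule.mk (nat_lit 1) (nat_lit 114) (Steps.fwd (nat_lit 786432) (Steps.bwd (nat_lit 1) (Steps.fwd (nat_lit 786432) (Steps.bwd (nat_lit 1) (Steps.fwd (nat_lit 786432) Steps.nil))))) (nat_lit 12) (nat_lit 1),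
  Rule.mk (nat_lit 1) (nat_lit 154) (Steps.fwd (nat_lit 786432) (Steps.fwd (nat_lit 1310720) (Steps.bwd (nat_lit 1) (Steps.fwd (nat_lit 786432) (Steps.bwd (nat_lit 1) (Steps.fwd (nat_lit 1310720) (Steps.fwd (nat_lit 786432) Steps.nil))))))) (nat_lit 70) (nat_lit 6),
  Rule.mk (nat_lit 1) (nat_lit 154) (Steps.bwd (nat_lit 2) (Steps.fwd (nat_lit 1310720) (Steps.bwd (nat_lit 1) (Steps.fwd (nat_lit 786432) (Steps.bwd (nat_lit 1) (Steps.bwd (nat_lit 5) (Steps.fwd (nat_lit 786432) Steps.nil))))))) (nat_lit 70) (nat_lit 6),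
  Rule.mk (nat_lit 2) (nat_lit 154) (Steps.bwd (nat_lit 1) (Steps.fwd (nat_lit 786432) (Steps.fwd (nat_lit 1835008) (Steps.bwd (nat_lit 1) (Steps.fwd (nat_lit 786432) (Steps.bwd (nat_lit 1) (Steps.bwd (nat_lit 7) Steps.nil))))))) (nat_lit 72) (nat_lit 5),
  Rule.mk (nat_lit 4) (nat_lit 154) (Steps.fwd (nat_lit 262144) (Steps.fwd (nat_lit 1048576) (Steps.fwd (nat_lit 1835008) (Steps.bwd (nat_lit 1) (Steps.fwd (nat_lit 1048576) (Steps.bwd (nat_lit 1) (Steps.bwd (nat_lit 7) Steps.nil))))))) (nat_lit 76) (nat_lit 5),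
  Rule.mk (nat_lit 2) (nat_lit 154) (Steps.bwd (nat_lit 6) (Steps.bwd (nat_lit 5) (Steps.bwd (nat_lit 2) (Steps.bwd (nat_lit 6) (Steps.fwd (nat_lit 1835008) (Steps.fwd (nat_lit 786432) (Steps.fwd (nat_lit 1310720) Steps.nil))))))) (nat_lit 82) (nat_lit 3),
  Rule.mk (nat_lit 0) (nat_lit 294) (Steps.bwd (nat_lit 6) (Steps.bwd (nat_lit 5) (Steps.fwd (nat_lit 786432) (Steps.fwd (nat_lit 262144) (Steps.fwd (nat_lit 1572864) (Steps.bwd (nat_lit 1) (Steps.fwd (nat_lit 786432) (Steps.fwd (nat_lit 262144) (Steps.bwd (nat_lit 6) (Steps.fwd (nat_lit 262144) (Steps.bwd (nat_lit 2) (Steps.bwd (nat_lit 1) (Steps.bwd (nat_lit 6) (Steps.fwd (nat_lit 262144) Steps.nil)))))))))))))) (nat_lit 34) (nat_lit 12),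
  Rule.mk (nat_lit 1) (nat_lit 114) (Steps.fwd (nat_lit 1310720) (Steps.bwd (nat_lit 7) (Steps.bwd (nat_lit 1) (Steps.bwd (nat_lit 5) (Steps.bwd (nat_lit 7) Steps.nil))))) (nat_lit 52) (nat_lit 1),
  Rule.mk (nat_lit 4) (nat_lit 154) (Steps.fwd (nat_lit 262144) (Steps.bwd (nat_lit 7) (Steps.fwd (nat_lit 1048576) (Steps.bwd (nat_lit 1) (Steps.bwd (nat_lit 4) (Steps.bwd (nat_lit 7) (Steps.fwd (nat_lit 262144) Steps.nil))))))) (nat_lit 76) (nat_lit 2),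
  Rule.mk (nat_lit 7) (nat_lit 114) (Steps.fwd (nat_lit 1310720) (Steps.bwd (nat_lit 4) (Steps.bwd (nat_lit 7) (Steps.fwd (nat_lit 1572864) (Steps.fwd (nat_lit 1048576) Steps.nil))))) (nat_lit 67) (nat_lit 4),
  Rule.mk (nat_lit 4) (nat_lit 154) (Steps.fwd (nat_lit 1310720) (Steps.bwd (nat_lit 7) (Steps.fwd (nat_lit 786432) (Steps.bwd (nat_lit 4) (Steps.fwd (nat_lit 1572864) (Steps.fwd (nat_lit 1835008) (Steps.bwd (nat_lit 2) Steps.nil))))))) (nat_lit 78) (nat_lit 2),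
  Rule.mk (nat_lit 2) (nat_lit 154) (Steps.bwd (nat_lit 5) (Steps.fwd (nat_lit 1835008) (Steps.bwd (nat_lit 4) (Steps.bwd (nat_lit 2) (Steps.fwd (nat_lit 1572864) (Steps.fwd (nat_lit 1835008) (Steps.bwd (nat_lit 4) Steps.nil))))))) (nat_lit 88) (nat_lit 1),
  Rule.mk (nat_lit 4) (nat_lit 314) (Steps.fwd (nat_lit 2359296) (Steps.bwd (nat_lit 4) (Steps.fwd (nat_lit 2097152) (Steps.fwd (nat_lit 1048576) (Steps.fwd (nat_lit 2359296) (Steps.fwd (nat_lit 1048576) (Steps.bwd (nat_lit 9) (Steps.fwd (nat_lit 1048576) (Steps.bwd (nat_lit 8) (Steps.bwd (nat_lit 4) (Steps.bwd (nat_lit 9) (Steps.bwd (nat_lit 4) (Steps.fwd (nat_lit 2359296) (Steps.fwd (nat_lit 1048576) (Steps.fwd (nat_lit 2097152) Steps.nil))))))))))))))) (nat_lit 106) (nat_lit 0),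
  Rule.mk (nat_lit 0) (nat_lit 94) (Steps.bwd (nat_lit 4) (Steps.fwd (nat_lit 524288) (Steps.fwd (nat_lit 1048576) (Steps.fwd (nat_lit 524288) Steps.nil)))) (nat_lit 15) (nat_lit 1),
  Rule.mk (nat_lit 6) (nat_lit 114) (Steps.bwd (nat_lit 4) (Steps.bwd (nat_lit 3) (Steps.bwd (nat_lit 5) (Steps.bwd (nat_lit 4) (Steps.fwd (nat_lit 524288) Steps.nil))))) (nat_lit 55) (nat_lit 1),
  Rule.mk (nat_lit 4) (nat_lit 154) (Steps.fwd (nat_lit 524288) (Steps.fwd (nat_lit 1835008) (Steps.bwd (nat_lit 5) (Steps.bwd (nat_lit 4) (Steps.fwd (nat_lit 524288) (Steps.fwd (nat_lit 1835008) (Steps.bwd (nat_lit 6) Steps.nil))))))) (nat_lit 79) (nat_lit 3),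
  Rule.mk (nat_lit 4) (nat_lit 154) (Steps.fwd (nat_lit 524288) (Steps.bwd (nat_lit 7) (Steps.fwd (nat_lit 1572864) (Steps.bwd (nat_lit 4) (Steps.fwd (nat_lit 524288) (Steps.fwd (nat_lit 1835008) (Steps.bwd (nat_lit 5) Steps.nil))))))) (nat_lit 79) (nat_lit 7),
  Rule.mk (nat_lit 7) (nat_lit 154) (Steps.bwd (nat_lit 4) (Steps.fwd (nat_lit 524288) (Steps.bwd (nat_lit 5) (Steps.bwd (nat_lit 7) (Steps.bwd (nat_lit 4) (Steps.fwd (nat_lit 524288) (Steps.bwd (nat_lit 6) Steps.nil))))))) (nat_lit 81) (nat_lit 2),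
  Rule.mk (nat_lit 4) (nat_lit 154) (Steps.fwd (nat_lit 1835008) (Steps.bwd (nat_lit 2) (Steps.bwd (nat_lit 5) (Steps.bwd (nat_lit 4) (Steps.fwd (nat_lit 1835008) (Steps.fwd (nat_lit 786432) (Steps.fwd (nat_lit 1572864) Steps.nil))))))) (nat_lit 86) (nat_lit 7),
  Rule.mk (nat_lit 0) (nat_lit 134) (Steps.bwd (nat_lit 3) (Steps.fwd (nat_lit 1310720) (Steps.bwd (nat_lit 4) (Steps.fwd (nat_lit 524288) (Steps.fwd (nat_lit 1572864) (Steps.fwd (nat_lit 1048576) Steps.nil)))))) (nat_lit 55) (nat_lit 2),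
  Rule.mk (nat_lit 3) (nat_lit 114) (Steps.fwd (nat_lit 1835008) (Steps.bwd (nat_lit 4) (Steps.fwd (nat_lit 524288) (Steps.bwd (nat_lit 7) (Steps.fwd (nat_lit 1048576) Steps.nil))))) (nat_lit 57) (nat_lit 0),
  Rule.mk (nat_lit 4) (nat_lit 114) (Steps.fwd (nat_lit 1310720) (Steps.fwd (nat_lit 1835008) (Steps.bwd (nat_lit 4) (Steps.bwd (nat_lit 6) (Steps.bwd (nat_lit 7) Steps.nil))))) (nat_lit 66) (nat_lit 1),
  Rule.mk (nat_lit 4) (nat_lit 314) (Steps.bwd (nat_lit 9) (Steps.bwd (nat_lit 4) (Steps.bwd (nat_lit 8) (Steps.bwd (nat_lit 4) (Steps.bwd (nat_lit 9) (Steps.fwd (nat_lit 1048576) (Steps.fwd (nat_lit 2359296) (Steps.bwd (nat_lit 4) (Steps.bwd (nat_lit 9) (Steps.fwd (nat_lit 1048576) (Steps.fwd (nat_lit 2359296) (Steps.fwd (nat_lit 1048576) (Steps.fwd (nat_lit 2097152) (Steps.bwd (nat_lit 4) (Steps.fwd (nat_lit 2359296) Steps.nil))))))))))))))) (nat_lit 106)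 (nat_lit 2),
  Rule.mk (nat_lit 0) (nat_lit 334) (Steps.bwd (nat_lit 4) (Steps.fwd (nat_lit 2359296) (Steps.bwd (nat_lit 4) (Steps.bwd (nat_lit 9) (Steps.bwd (nat_lit 4) (Steps.fwd (nat_lit 2359296) (Steps.bwd (nat_lit 4) (Steps.bwd (nat_lit 9) (Steps.fwd (nat_lit 1048576) (Steps.fwd (nat_lit 2359296) (Steps.fwd (nat_lit 1048576) (Steps.bwd (nat_lit 9) (Steps.bwd (nat_lit 4) (Steps.bwd (nat_lit 8) (Steps.bwd (nat_lit 4) (Steps.bwd (nat_lit 9) Steps.nil)))))))))))))))) (nat_lit 106) (nat_lit 3),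
  Rule.mk (nat_lit 0) (nat_lit 174) (Steps.bwd (nat_lit 4) (Steps.fwd (nat_lit 262144) (Steps.bwd (nat_lit 6) (Steps.bwd (nat_lit 1) (Steps.bwd (nat_lit 4) (Steps.fwd (nat_lit 262144) (Steps.fwd (nat_lit 1572864) (Steps.bwd (nat_lit 1) Steps.nil)))))))) (nat_lit 74) (nat_lit 1),
  Rule.mk (nat_lit 4) (nat_lit 154) (Steps.fwd (nat_lit 524288) (Steps.bwd (nat_lit 7) (Steps.bwd (nat_lit 5) (Steps.bwd (nat_lit 4) (Steps.bwd (nat_lit 3) (Steps.bwd (nat_lit 7) (Steps.bwd (nat_lit 6) Steps.nil))))))) (nat_lit 79) (nat_lit 3),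
  Rule.mk (nat_lit 4) (nat_lit 154) (Steps.fwd (nat_lit 524288) (Steps.fwd (nat_lit 1835008) (Steps.bwd (nat_lit 6) (Steps.bwd (nat_lit 4) (Steps.bwd (nat_lit 3) (Steps.bwd (nat_lit 7) (Steps.fwd (nat_lit 1310720) Steps.nil))))))) (nat_lit 79) (nat_lit 7),
  Rule.mk (nat_lit 0) (nat_lit 334) (Steps.bwd (nat_lit 4) (Steps.bwd (nat_lit 9) (Steps.fwd (nat_lit 1048576) (Steps.fwd (nat_lit 2359296) (Steps.bwd (nat_lit 4) (Steps.fwd (nat_lit 2097152) (Steps.bwd (nat_lit 4) (Steps.fwd (nat_lit 2359296) (Steps.bwd (nat_lit 4) (Steps.bwd (nat_lit 9) (Steps.fwd (nat_lit 1048576) (Steps.fwd (nat_lit 2359296) (Steps.bwd (nat_lit 4) (Steps.fwd (nat_lit 2097152) (Steps.fwd (nat_lit 1048576) (Steps.fwd (nat_lit 2359296) Steps.nil)))))))))))))))) (nat_lit 106) (nat_lit 1),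
  Rule.mk (nat_lit 4) (nat_lit 114) (Steps.bwd (nat_lit 5) (Steps.fwd (nat_lit 786432) (Steps.bwd (nat_lit 4) (Steps.fwd (nat_lit 1572864) (Steps.bwd (nat_lit 2) Steps.nil))))) (nat_lit 54) (nat_lit 2),
  Rule.mk (nat_lit 4) (nat_lit 114) (Steps.fwd (nat_lit 524288) (Steps.fwd (nat_lit 1310720) (Steps.bwd (nat_lit 4) (Steps.fwd (nat_lit 524288) (Steps.fwd (nat_lit 1572864) Steps.nil))))) (nat_lit 55) (nat_lit 2),
  Rule.mk (nat_lit 4) (nat_lit 114) (Steps.fwd (nat_lit 1835008) (Steps.fwd (nat_lit 786432) (Steps.bwd (nat_lit 4) (Steps.bwd (nat_lit 7) (Steps.bwd (nat_lit 2) Steps.nil))))) (nat_lit 56) (nat_lit 2),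
  Rule.mk (nat_lit 4) (nat_lit 114) (Steps.fwd (nat_lit 1572864) (Steps.fwd (nat_lit 1835008) (Steps.bwd (nat_lit 4) (Steps.bwd (nat_lit 5) (Steps.fwd (nat_lit 1835008) Steps.nil))))) (nat_lit 66) (nat_lit 4),
  Rule.mk (nat_lit 4) (nat_lit 154) (Steps.fwd (nat_lit 1310720) (Steps.fwd (nat_lit 1835008) (Steps.fwd (nat_lit 786432) (Steps.bwd (nat_lit 4) (Steps.fwd (nat_lit 1572864) (Steps.fwd (nat_lit 1835008) (Steps.bwd (nat_lit 2) Steps.nil))))))) (nat_lit 78) (nat_lit 2),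
  Rule.mk (nat_lit 4) (nat_lit 154) (Steps.fwd (nat_lit 1572864) (Steps.fwd (nat_lit 1835008) (Steps.fwd (nat_lit 786432) (Steps.bwd (nat_lit 4) (Steps.bwd (nat_lit 5) (Steps.fwd (nat_lit 1835008) (Steps.fwd (nat_lit 786432) Steps.nil))))))) (nat_lit 78) (nat_lit 6),
  Rule.mk (nat_lit 4) (nat_lit 154) (Steps.bwd (nat_lit 3) (Steps.fwd (nat_lit 1835008) (Steps.fwd (nat_lit 1310720) (Steps.bwd (nat_lit 4) (Steps.fwd (nat_lit 524288) (Steps.bwd (nat_lit 7) (Steps.fwd (nat_lit 1572864) Steps.nil))))))) (nat_lit 79) (nat_lit 3),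
  Rule.mk (nat_lit 4) (nat_lit 154) (Steps.bwd (nat_lit 3) (Steps.fwd (nat_lit 1835008) (Steps.bwd (nat_lit 6) (Steps.bwd (nat_lit 4) (Steps.fwd (nat_lit 524288) (Steps.bwd (nat_lit 7) (Steps.fwd (nat_lit 1310720) Steps.nil))))))) (nat_lit 79) (nat_lit 7),
  Rule.mk (nat_lit 9) (nat_lit 314) (Steps.bwd (nat_lit 4) (Steps.fwd (nat_lit 2359296) (Steps.bwd (nat_lit 4) (Steps.bwd (nat_lit 9) (Steps.fwd (nat_lit 1048576) (Steps.bwd (nat_lit 8) (Steps.bwd (nat_lit 4) (Steps.fwd (nat_lit 2097152) (Steps.fwd (nat_lit 1048576) (Steps.fwd (nat_lit 2359296) (Steps.fwd (nat_lit 1048576) (Steps.fwd (nat_lit 2097152) (Steps.fwd (nat_lit 1048576) (Steps.fwd (nat_lit 2359296) (Steps.bwd (nat_lit 4) Steps.nil))))))))))))))) (nat_lit 106) (nat_lit 3),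
  Rule.mk (nat_lit 7) (nat_lit 94) (Steps.fwd (nat_lit 1310720) (Steps.fwd (nat_lit 2359296) (Steps.bwd (nat_lit 5) (Steps.bwd (nat_lit 9) Steps.nil)))) (nat_lit 101) (nat_lit 1),
  Rule.mk (nat_lit 4) (nat_lit 114) (Steps.bwd (nat_lit 1) (Steps.fwd (nat_lit 1048576) (Steps.bwd (nat_lit 1) (Steps.fwd (nat_lit 1048576) (Steps.bwd (nat_lit 1) Steps.nil))))) (nat_lit 16) (nat_lit 0),
  Rule.mk (nat_lit 7) (nat_lit 154) (Steps.bwd (nat_lit 2) (Steps.bwd (nat_lit 1) (Steps.fwd (nat_lit 786432) (Steps.fwd (nat_lit 1835008) (Steps.fwd (nat_lit 262144) (Steps.bwd (nat_lit 2) (Steps.bwd (nat_lit 1) Steps.nil))))))) (nat_lit 72) (nat_lit 4),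
  Rule.mk (nat_lit 1) (nat_lit 154) (Steps.fwd (nat_lit 1835008) (Steps.fwd (nat_lit 1048576) (Steps.bwd (nat_lit 1) (Steps.fwd (nat_lit 1048576) (Steps.fwd (nat_lit 1835008) (Steps.fwd (nat_lit 262144) (Steps.fwd (nat_lit 1048576) Steps.nil))))))) (nat_lit 76) (nat_lit 3),
  Rule.mk (nat_lit 0) (nat_lit 174) (Steps.bwd (nat_lit 4) (Steps.bwd (nat_lit 1) (Steps.fwd (nat_lit 1048576) (Steps.bwd (nat_lit 7) (Steps.fwd (nat_lit 262144) (Steps.bwd (nat_lit 4) (Steps.fwd (nat_lit 262144) (Steps.fwd (nat_lit 1835008) Steps.nil)))))))) (nat_lit 76) (nat_lit 4),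
  Rule.mk (nat_lit 4) (nat_lit 154) (Steps.fwd (nat_lit 1835008) (Steps.bwd (nat_lit 1) (Steps.fwd (nat_lit 1048576) (Steps.bwd (nat_lit 1) (Steps.fwd (nat_lit 1835008) (Steps.bwd (nat_lit 4) (Steps.fwd (nat_lit 262144) Steps.nil))))))) (nat_lit 76) (nat_lit 7),
  Rule.mk (nat_lit 4) (nat_lit 154) (Steps.fwd (nat_lit 524288) (Steps.fwd (nat_lit 1310720) (Steps.bwd (nat_lit 7) (Steps.bwd (nat_lit 4) (Steps.bwd (nat_lit 3) (Steps.bwd (nat_lit 6) (Steps.fwd (nat_lit 1835008) Steps.nil))))))) (nat_lit 81) (nat_lit 3),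
  Rule.mk (nat_lit 4) (nat_lit 154) (Steps.bwd (nat_lit 7) (Steps.bwd (nat_lit 2) (Steps.fwd (nat_lit 1572864) (Steps.bwd (nat_lit 4) (Steps.fwd (nat_lit 1835008) (Steps.bwd (nat_lit 2) (Steps.bwd (nat_lit 5) Steps.nil))))))) (nat_lit 86) (nat_lit 3),
  Rule.mk (nat_lit 4) (nat_lit 154) (Steps.fwd (nat_lit 1835008) (Steps.bwd (nat_lit 2) (Steps.bwd (nat_lit 5) (Steps.bwd (nat_lit 4) (Steps.fwd (nat_lit 1835008) (Steps.bwd (nat_lit 2) (Steps.bwd (nat_lit 6) Steps.nil))))))) (nat_lit 86) (nat_lit 7),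
  Rule.mk (nat_lit 6) (nat_lit 154) (Steps.bwd (nat_lit 4) (Steps.bwd (nat_lit 7) (Steps.fwd (nat_lit 524288) (Steps.bwd (nat_lit 5) (Steps.bwd (nat_lit 4) (Steps.fwd (nat_lit 1835008) (Steps.fwd (nat_lit 524288) Steps.nil))))))) (nat_lit 91) (nat_lit 1),
  Rule.mk (nat_lit 3) (nat_lit 154) (Steps.bwd (nat_lit 7) (Steps.bwd (nat_lit 5) (Steps.fwd (nat_lit 1048576) (Steps.fwd (nat_lit 524288) (Steps.fwd (nat_lit 1835008) (Steps.bwd (nat_lit 6) (Steps.fwd (nat_lit 1048576) Steps.nil))))))) (nat_lit 79) (nat_lit 4),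
  Rule.mk (nat_lit 4) (nat_lit 154) (Steps.fwd (nat_lit 524288) (Steps.bwd (nat_lit 7) (Steps.bwd (nat_lit 5) (Steps.fwd (nat_lit 1048576) (Steps.bwd (nat_lit 3) (Steps.bwd (nat_lit 7) (Steps.bwd (nat_lit 6) Steps.nil))))))) (nat_lit 79) (nat_lit 3),
  Rule.mk (nat_lit 3) (nat_lit 154) (Steps.bwd (nat_lit 5) (Steps.bwd (nat_lit 3) (Steps.bwd (nat_lit 7) (Steps.bwd (nat_lit 6) (Steps.fwd (nat_lit 524288) (Steps.fwd (nat_lit 1310720) (Steps.fwd (nat_lit 1572864) Steps.nil))))))) (nat_lit 83) (nat_lit 6),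
  Rule.mk (nat_lit 7) (nat_lit 154) (Steps.fwd (nat_lit 524288) (Steps.fwd (nat_lit 262144) (Steps.bwd (nat_lit 3) (Steps.fwd (nat_lit 1835008) (Steps.bwd (nat_lit 1) (Steps.fwd (nat_lit 524288) (Steps.bwd (nat_lit 1) Steps.nil))))))) (nat_lit 73) (nat_lit 1),
  Rule.mk (nat_lit 4) (nat_lit 114) (Steps.bwd (nat_lit 7) (Steps.bwd (nat_lit 2) (Steps.bwd (nat_lit 4) (Steps.fwd (nat_lit 1835008) (Steps.fwd (nat_lit 786432) Steps.nil))))) (nat_lit 56) (nat_lit 2),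
  Rule.mk (nat_lit 4) (nat_lit 114) (Steps.fwd (nat_lit 1835008) (Steps.fwd (nat_lit 1572864) (Steps.bwd (nat_lit 4) (Steps.bwd (nat_lit 7) (Steps.fwd (nat_lit 1310720) Steps.nil))))) (nat_lit 67) (nat_lit 0),
  Rule.mk (nat_lit 4) (nat_lit 154) (Steps.fwd (nat_lit 1310720) (Steps.bwd (nat_lit 7) (Steps.bwd (nat_lit 2) (Steps.bwd (nat_lit 4) (Steps.fwd (nat_lit 1572864) (Steps.bwd (nat_lit 7) (Steps.fwd (nat_lit 786432) Steps.nil))))))) (nat_lit 78) (nat_lit 2),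
  Rule.mk (nat_lit 4) (nat_lit 154) (Steps.fwd (nat_lit 1835008) (Steps.bwd (nat_lit 5) (Steps.fwd (nat_lit 786432) (Steps.bwd (nat_lit 4) (Steps.bwd (nat_lit 7) (Steps.bwd (nat_lit 6) (Steps.bwd (nat_lit 2) Steps.nil))))))) (nat_lit 80) (nat_lit 2),
  Rule.mk (nat_lit 3) (nat_lit 154) (Steps.bwd (nat_lit 4) (Steps.bwd (nat_lit 7) (Steps.fwd (nat_lit 1310720) (Steps.bwd (nat_lit 3) (Steps.fwd (nat_lit 1048576) (Steps.fwd (nat_lit 1835008) (Steps.bwd (nat_lit 6) Steps.nil))))))) (nat_lit 89) (nat_lit 4)]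
noncomputable def R_64 : List (Rule) := [Rule.mk (nat_lit 0) (nat_lit 174) (Steps.bwd (nat_lit 4) (Steps.bwd (nat_lit 2) (Steps.fwd (nat_lit 1572864) (Steps.fwd (nat_lit 1835008) (Steps.fwd (nat_lit 1048576) (Steps.fwd (nat_lit 786432) (Steps.bwd (nat_lit 5) (Steps.fwd (nat_lit 1835008) Steps.nil)))))))) (nat_lit 88) (nat_lit 3),
  Rule.mk (nat_lit 3) (nat_lit 154) (Steps.fwd (nat_lit 1310720) (Steps.bwd (nat_lit 4) (Steps.bwd (nat_lit 7) (Steps.fwd (nat_lit 524288) (Steps.fwd (nat_lit 1572864) (Steps.bwd (nat_lit 4) (Steps.bwd (nat_lit 7) Steps.nil))))))) (nat_lit 91) (nat_lit 4),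
  Rule.mk (nat_lit 2) (nat_lit 154) (Steps.bwd (nat_lit 7) (Steps.fwd (nat_lit 1310720) (Steps.fwd (nat_lit 1048576) (Steps.bwd (nat_lit 2) (Steps.bwd (nat_lit 7) (Steps.bwd (nat_lit 6) (Steps.bwd (nat_lit 4) Steps.nil))))))) (nat_lit 92) (nat_lit 1),
  Rule.mk (nat_lit 4) (nat_lit 114) (Steps.fwd (nat_lit 1572864) (Steps.bwd (nat_lit 2) (Steps.fwd (nat_lit 1048576) (Steps.fwd (nat_lit 1310720) (Steps.bwd (nat_lit 2) Steps.nil))))) (nat_lit 54) (nat_lit 5),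
  Rule.mk (nat_lit 4) (nat_lit 154) (Steps.fwd (nat_lit 1572864) (Steps.fwd (nat_lit 1835008) (Steps.bwd (nat_lit 2) (Steps.fwd (nat_lit 1048576) (Steps.fwd (nat_lit 1310720) (Steps.fwd (nat_lit 1835008) (Steps.bwd (nat_lit 2) Steps.nil))))))) (nat_lit 78) (nat_lit 6),
  Rule.mk (nat_lit 0) (nat_lit 334) (Steps.bwd (nat_lit 4) (Steps.bwd (nat_lit 9) (Steps.bwd (nat_lit 4) (Steps.fwd (nat_lit 2359296) (Steps.fwd (nat_lit 1048576) (Steps.fwd (nat_lit 2097152) (Steps.bwd (nat_lit 4) (Steps.fwd (nat_lit 2359296) (Steps.fwd (nat_lit 1048576) (Steps.fwd (nat_lit 2097152) (Steps.bwd (nat_lit 4) (Steps.bwd (nat_lit 8) (Steps.fwd (nat_lit 1048576) (Steps.bwd (nat_lit 9) (Steps.fwd (nat_lit 1048576) (Steps.fwd (nat_lit 2359296) Steps.nil)))))))))))))))) (nat_lit 106) (nat_lit 1),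
  Rule.mk (nat_lit 0) (nat_lit 134) (Steps.bwd (nat_lit 4) (Steps.fwd (nat_lit 1572864) (Steps.bwd (nat_lit 7) (Steps.bwd (nat_lit 4) (Steps.fwd (nat_lit 1310720) (Steps.bwd (nat_lit 7) Steps.nil)))))) (nat_lit 66) (nat_lit 3),
  Rule.mk (nat_lit 4) (nat_lit 154) (Steps.fwd (nat_lit 1572864) (Steps.fwd (nat_lit 1835008) (Steps.bwd (nat_lit 2) (Steps.bwd (nat_lit 4) (Steps.fwd (nat_lit 1310720) (Steps.bwd (nat_lit 7) (Steps.bwd (nat_lit 2) Steps.nil))))))) (nat_lit 78) (nat_lit 6),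
  Rule.mk (nat_lit 4) (nat_lit 314) (Steps.bwd (nat_lit 9) (Steps.bwd (nat_lit 4) (Steps.fwd (nat_lit 2359296) (Steps.fwd (nat_lit 1048576) (Steps.bwd (nat_lit 9) (Steps.fwd (nat_lit 1048576) (Steps.fwd (nat_lit 2359296) (Steps.fwd (nat_lit 1048576) (Steps.fwd (nat_lit 2097152) (Steps.bwd (nat_lit 4) (Steps.fwd (nat_lit 2359296) (Steps.fwd (nat_lit 1048576) (Steps.fwd (nat_lit 2097152) (Steps.bwd (nat_lit 4) (Steps.fwd (nat_lit 2359296) Steps.nil))))))))))))))) (nat_lit 106) (nat_lit 2),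
  Rule.mk (nat_lit 0) (nat_lit 94) (Steps.bwd (nat_lit 4) (Steps.fwd (nat_lit 786432) (Steps.bwd (nat_lit 4) (Steps.fwd (nat_lit 786432) Steps.nil)))) (nat_lit 14) (nat_lit 0),
  Rule.mk (nat_lit 4) (nat_lit 154) (Steps.fwd (nat_lit 524288) (Steps.fwd (nat_lit 1835008) (Steps.fwd (nat_lit 1310720) (Steps.bwd (nat_lit 4) (Steps.bwd (nat_lit 3) (Steps.bwd (nat_lit 7) (Steps.bwd (nat_lit 6) Steps.nil))))))) (nat_lit 79) (nat_lit 3),
  Rule.mk (nat_lit 4) (nat_lit 154) (Steps.fwd (nat_lit 524288) (Steps.bwd (nat_lit 7) (Steps.bwd (nat_lit 6) (Steps.bwd (nat_lit 4) (Steps.bwd (nat_lit 3) (Steps.bwd (nat_lit 7) (Steps.fwd (nat_lit 1310720) Steps.nil))))))) (nat_lit 79) (nat_lit 7),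
  Rule.mk (nat_lit 4) (nat_lit 314) (Steps.bwd (nat_lit 9) (Steps.bwd (nat_lit 4) (Steps.fwd (nat_lit 2359296) (Steps.bwd (nat_lit 4) (Steps.bwd (nat_lit 9) (Steps.fwd (nat_lit 1048576) (Steps.fwd (nat_lit 2359296) (Steps.fwd (nat_lit 1048576) (Steps.bwd (nat_lit 9) (Steps.bwd (nat_lit 4) (Steps.fwd (nat_lit 2359296) (Steps.bwd (nat_lit 4) (Steps.bwd (nat_lit 9) (Steps.fwd (nat_lit 1048576) (Steps.bwd (nat_lit 8) Steps.nil))))))))))))))) (nat_lit 106) (nat_lit 2),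
  Rule.mk (nat_lit 4) (nat_lit 314) (Steps.bwd (nat_lit 8) (Steps.bwd (nat_lit 4) (Steps.bwd (nat_lit 9) (Steps.bwd (nat_lit 4) (Steps.fwd (nat_lit 2359296) (Steps.fwd (nat_lit 1048576) (Steps.fwd (nat_lit 2097152) (Steps.bwd (nat_lit 4) (Steps.bwd (nat_lit 8) (Steps.bwd (nat_lit 4) (Steps.bwd (nat_lit 9) (Steps.fwd (nat_lit 1048576) (Steps.bwd (nat_lit 8) (Steps.fwd (nat_lit 1048576) (Steps.fwd (nat_lit 2097152) Steps.nil))))))))))))))) (nat_lit 106) (nat_lit 0),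
  Rule.mk (nat_lit 0) (nat_lit 94) (Steps.bwd (nat_lit 4) (Steps.fwd (nat_lit 786432) (Steps.bwd (nat_lit 4) (Steps.bwd (nat_lit 2) Steps.nil)))) (nat_lit 14) (nat_lit 0),
  Rule.mk (nat_lit 0) (nat_lit 174) (Steps.bwd (nat_lit 4) (Steps.bwd (nat_lit 1) (Steps.bwd (nat_lit 7) (Steps.bwd (nat_lit 4) (Steps.bwd (nat_lit 1) (Steps.fwd (nat_lit 1048576) (Steps.fwd (nat_lit 1835008) (Steps.fwd (nat_lit 262144) Steps.nil)))))))) (nat_lit 76) (nat_lit 1),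
  Rule.mk (nat_lit 0) (nat_lit 94) (Steps.bwd (nat_lit 4) (Steps.fwd (nat_lit 786432) (Steps.fwd (nat_lit 1048576) (Steps.fwd (nat_lit 786432) Steps.nil)))) (nat_lit 14) (nat_lit 0),
  Rule.mk (nat_lit 4) (nat_lit 114) (Steps.fwd (nat_lit 1310720) (Steps.fwd (nat_lit 786432) (Steps.bwd (nat_lit 4) (Steps.fwd (nat_lit 1572864) (Steps.bwd (nat_lit 2) Steps.nil))))) (nat_lit 54) (nat_lit 2),
  Rule.mk (nat_lit 0) (nat_lit 134) (Steps.bwd (nat_lit 4) (Steps.fwd (nat_lit 1310720) (Steps.bwd (nat_lit 7) (Steps.bwd (nat_lit 4) (Steps.fwd (nat_lit 1572864) (Steps.fwd (nat_lit 1835008) Steps.nil)))))) (nat_lit 66) (nat_lit 0),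
  Rule.mk (nat_lit 2) (nat_lit 154) (Steps.bwd (nat_lit 4) (Steps.bwd (nat_lit 5) (Steps.bwd (nat_lit 7) (Steps.fwd (nat_lit 786432) (Steps.bwd (nat_lit 4) (Steps.fwd (nat_lit 1572864) (Steps.fwd (nat_lit 1835008) Steps.nil))))))) (nat_lit 78) (nat_lit 1),
  Rule.mk (nat_lit 7) (nat_lit 154) (Steps.bwd (nat_lit 4) (Steps.fwd (nat_lit 786432) (Steps.fwd (nat_lit 1310720) (Steps.bwd (nat_lit 7) (Steps.bwd (nat_lit 4) (Steps.bwd (nat_lit 2) (Steps.fwd (nat_lit 1572864) Steps.nil))))))) (nat_lit 88) (nat_lit 7),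
  Rule.mk (nat_lit 0) (nat_lit 134) (Steps.bwd (nat_lit 1) (Steps.fwd (nat_lit 786432) (Steps.fwd (nat_lit 262144) (Steps.bwd (nat_lit 2) (Steps.bwd (nat_lit 1) (Steps.fwd (nat_lit 786432) Steps.nil)))))) (nat_lit 12) (nat_lit 0),
  Rule.mk (nat_lit 1) (nat_lit 154) (Steps.bwd (nat_lit 2) (Steps.fwd (nat_lit 262144) (Steps.bwd (nat_lit 5) (Steps.bwd (nat_lit 2) (Steps.bwd (nat_lit 1) (Steps.fwd (nat_lit 786432) (Steps.fwd (nat_lit 1310720) Steps.nil))))))) (nat_lit 70) (nat_lit 1),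
  Rule.mk (nat_lit 2) (nat_lit 154) (Steps.fwd (nat_lit 262144) (Steps.bwd (nat_lit 2) (Steps.bwd (nat_lit 7) (Steps.fwd (nat_lit 262144) (Steps.bwd (nat_lit 2) (Steps.bwd (nat_lit 1) (Steps.bwd (nat_lit 7) Steps.nil))))))) (nat_lit 72) (nat_lit 5),
  Rule.mk (nat_lit 4) (nat_lit 154) (Steps.bwd (nat_lit 1) (Steps.bwd (nat_lit 4) (Steps.bwd (nat_lit 7) (Steps.fwd (nat_lit 262144) (Steps.bwd (nat_lit 4) (Steps.bwd (nat_lit 1) (Steps.bwd (nat_lit 7) Steps.nil))))))) (nat_lit 76) (nat_lit 5),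
  Rule.mk (nat_lit 1) (nat_lit 274) (Steps.fwd (nat_lit 1572864) (Steps.fwd (nat_lit 1310720) (Steps.bwd (nat_lit 2) (Steps.bwd (nat_lit 1) (Steps.bwd (nat_lit 6) (Steps.fwd (nat_lit 262144) (Steps.bwd (nat_lit 2) (Steps.bwd (nat_lit 1) (Steps.fwd (nat_lit 1572864) (Steps.bwd (nat_lit 1) (Steps.fwd (nat_lit 786432) (Steps.fwd (nat_lit 262144) (Steps.bwd (nat_lit 6) Steps.nil))))))))))))) (nat_lit 34) (nat_lit 12),
  Rule.mk (nat_lit 1) (nat_lit 114) (Steps.fwd (nat_lit 1048576) (Steps.bwd (nat_lit 1) (Steps.fwd (nat_lit 1048576) (Steps.fwd (nat_lit 262144) (Steps.fwd (nat_lit 1048576) Steps.nil))))) (nat_lit 16) (nat_lit 1),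
  Rule.mk (nat_lit 4) (nat_lit 154) (Steps.fwd (nat_lit 1835008) (Steps.fwd (nat_lit 262144) (Steps.fwd (nat_lit 1048576) (Steps.bwd (nat_lit 1) (Steps.bwd (nat_lit 7) (Steps.fwd (nat_lit 1048576) (Steps.bwd (nat_lit 1) Steps.nil))))))) (nat_lit 76) (nat_lit 7),
  Rule.mk (nat_lit 6) (nat_lit 114) (Steps.bwd (nat_lit 4) (Steps.fwd (nat_lit 524288) (Steps.bwd (nat_lit 5) (Steps.bwd (nat_lit 4) (Steps.bwd (nat_lit 3) Steps.nil))))) (nat_lit 55) (nat_lit 1),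
  Rule.mk (nat_lit 3) (nat_lit 114) (Steps.bwd (nat_lit 4) (Steps.fwd (nat_lit 1310720) (Steps.bwd (nat_lit 3) (Steps.bwd (nat_lit 4) (Steps.bwd (nat_lit 6) Steps.nil))))) (nat_lit 59) (nat_lit 3),
  Rule.mk (nat_lit 5) (nat_lit 154) (Steps.bwd (nat_lit 4) (Steps.fwd (nat_lit 524288) (Steps.bwd (nat_lit 7) (Steps.bwd (nat_lit 6) (Steps.fwd (nat_lit 1048576) (Steps.bwd (nat_lit 3) (Steps.fwd (nat_lit 1835008) Steps.nil))))))) (nat_lit 79) (nat_lit 6),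
  Rule.mk (nat_lit 2) (nat_lit 114) (Steps.fwd (nat_lit 1048576) (Steps.bwd (nat_lit 6) (Steps.bwd (nat_lit 2) (Steps.fwd (nat_lit 1048576) (Steps.bwd (nat_lit 5) Steps.nil))))) (nat_lit 54) (nat_lit 4),
  Rule.mk (nat_lit 0) (nat_lit 94) (Steps.bwd (nat_lit 1) (Steps.bwd (nat_lit 5) (Steps.bwd (nat_lit 1) (Steps.bwd (nat_lit 5) Steps.nil)))) (nat_lit 18) (nat_lit 0),
  Rule.mk (nat_lit 0) (nat_lit 134) (Steps.fwd (nat_lit 262144) (Steps.bwd (nat_lit 4) (Steps.bwd (nat_lit 1) (Steps.fwd (nat_lit 1048576) (Steps.bwd (nat_lit 1) (Steps.fwd (nat_lit 1048576) Steps.nil)))))) (nat_lit 16) (nat_lit 0),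
  Rule.mk (nat_lit 4) (nat_lit 154) (Steps.fwd (nat_lit 262144) (Steps.fwd (nat_lit 1572864) (Steps.fwd (nat_lit 262144) (Steps.fwd (nat_lit 1048576) (Steps.bwd (nat_lit 1) (Steps.fwd (nat_lit 1572864) (Steps.bwd (nat_lit 1) Steps.nil))))))) (nat_lit 74) (nat_lit 2),
  Rule.mk (nat_lit 1) (nat_lit 274) (Steps.bwd (nat_lit 3) (Steps.bwd (nat_lit 5) (Steps.fwd (nat_lit 1572864) (Steps.bwd (nat_lit 1) (Steps.fwd (nat_lit 1572864) (Steps.bwd (nat_lit 1) (Steps.fwd (nat_lit 524288) (Steps.bwd (nat_lit 1) (Steps.fwd (nat_lit 1572864) (Steps.bwd (nat_lit 1) (Steps.fwd (nat_lit 524288) (Steps.fwd (nat_lit 262144) (Steps.fwd (nat_lit 1572864) Steps.nil))))))))))))) (nat_lit 35) (nat_lit 13),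
  Rule.mk (nat_lit 0) (nat_lit 174) (Steps.fwd (nat_lit 786432) (Steps.bwd (nat_lit 1) (Steps.bwd (nat_lit 3) (Steps.bwd (nat_lit 1) (Steps.fwd (nat_lit 786432) (Steps.bwd (nat_lit 1) (Steps.bwd (nat_lit 3) (Steps.fwd (nat_lit 262144) Steps.nil)))))))) (nat_lit 68) (nat_lit 1),
  Rule.mk (nat_lit 4) (nat_lit 154) (Steps.bwd (nat_lit 1) (Steps.bwd (nat_lit 6) (Steps.fwd (nat_lit 262144) (Steps.bwd (nat_lit 4) (Steps.fwd (nat_lit 262144) (Steps.fwd (nat_lit 1572864) (Steps.bwd (nat_lit 1) Steps.nil))))))) (nat_lit 74) (nat_lit 2),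
  Rule.mk (nat_lit 0) (nat_lit 174) (Steps.bwd (nat_lit 4) (Steps.bwd (nat_lit 7) (Steps.bwd (nat_lit 1) (Steps.fwd (nat_lit 1048576) (Steps.fwd (nat_lit 262144) (Steps.bwd (nat_lit 7) (Steps.fwd (nat_lit 1048576) (Steps.fwd (nat_lit 262144) Steps.nil)))))))) (nat_lit 76) (nat_lit 6),
  Rule.mk (nat_lit 2) (nat_lit 274) (Steps.bwd (nat_lit 1) (Steps.bwd (nat_lit 6) (Steps.bwd (nat_lit 1) (Steps.fwd (nat_lit 1572864) (Steps.bwd (nat_lit 5) (Steps.fwd (nat_lit 786432) (Steps.fwd (nat_lit 262144) (Steps.fwd (nat_lit 1572864) (Steps.bwd (nat_lit 1) (Steps.fwd (nat_lit 786432) (Steps.bwd (nat_lit 1) (Steps.fwd (nat_lit 1572864) (Steps.fwd (nat_lit 262144) Steps.nil))))))))))))) (nat_lit 34) (nat_lit 9),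
  Rule.mk (nat_lit 9) (nat_lit 114) (Steps.fwd (nat_lit 262144) (Steps.bwd (nat_lit 8) (Steps.fwd (nat_lit 786432) (Steps.fwd (nat_lit 262144) (Steps.fwd (nat_lit 524288) Steps.nil))))) (nat_lit 104) (nat_lit 5),
  Rule.mk (nat_lit 0) (nat_lit 134) (Steps.bwd (nat_lit 4) (Steps.fwd (nat_lit 262144) (Steps.bwd (nat_lit 4) (Steps.fwd (nat_lit 262144) (Steps.bwd (nat_lit 4) (Steps.fwd (nat_lit 262144) Steps.nil)))))) (nat_lit 16) (nat_lit 1),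
  Rule.mk (nat_lit 4) (nat_lit 154) (Steps.bwd (nat_lit 7) (Steps.fwd (nat_lit 262144) (Steps.bwd (nat_lit 4) (Steps.fwd (nat_lit 262144) (Steps.fwd (nat_lit 1835008) (Steps.fwd (nat_lit 1048576) (Steps.bwd (nat_lit 1) Steps.nil))))))) (nat_lit 76) (nat_lit 7),
  Rule.mk (nat_lit 6) (nat_lit 114) (Steps.bwd (nat_lit 4) (Steps.fwd (nat_lit 524288) (Steps.fwd (nat_lit 1310720) (Steps.fwd (nat_lit 1048576) (Steps.fwd (nat_lit 524288) Steps.nil))))) (nat_lit 55) (nat_lit 1),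
  Rule.mk (nat_lit 7) (nat_lit 114) (Steps.bwd (nat_lit 3) (Steps.bwd (nat_lit 4) (Steps.bwd (nat_lit 7) (Steps.bwd (nat_lit 3) (Steps.bwd (nat_lit 4) Steps.nil))))) (nat_lit 65) (nat_lit 2),
  Rule.mk (nat_lit 4) (nat_lit 154) (Steps.fwd (nat_lit 1310720) (Steps.bwd (nat_lit 7) (Steps.fwd (nat_lit 786432) (Steps.bwd (nat_lit 4) (Steps.fwd (nat_lit 1572864) (Steps.bwd (nat_lit 7) (Steps.fwd (nat_lit 786432) Steps.nil))))))) (nat_lit 78) (nat_lit 2),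
  Rule.mk (nat_lit 3) (nat_lit 154) (Steps.bwd (nat_lit 7) (Steps.bwd (nat_lit 5) (Steps.bwd (nat_lit 4) (Steps.fwd (nat_lit 524288) (Steps.bwd (nat_lit 7) (Steps.fwd (nat_lit 1572864) (Steps.fwd (nat_lit 1048576) Steps.nil))))))) (nat_lit 79) (nat_lit 4),
  Rule.mk (nat_lit 4) (nat_lit 154) (Steps.fwd (nat_lit 524288) (Steps.fwd (nat_lit 1835008) (Steps.bwd (nat_lit 6) (Steps.bwd (nat_lit 4) (Steps.fwd (nat_lit 524288) (Steps.bwd (nat_lit 7) (Steps.bwd (nat_lit 5) Steps.nil))))))) (nat_lit 79) (nat_lit 7),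
  Rule.mk (nat_lit 5) (nat_lit 154) (Steps.fwd (nat_lit 524288) (Steps.bwd (nat_lit 7) (Steps.bwd (nat_lit 4) (Steps.fwd (nat_lit 1572864) (Steps.fwd (nat_lit 524288) (Steps.bwd (nat_lit 7) (Steps.fwd (nat_lit 1048576) Steps.nil))))))) (nat_lit 87) (nat_lit 7),
  Rule.mk (nat_lit 4) (nat_lit 154) (Steps.bwd (nat_lit 3) (Steps.bwd (nat_lit 7) (Steps.bwd (nat_lit 5) (Steps.bwd (nat_lit 4) (Steps.fwd (nat_lit 524288) (Steps.fwd (nat_lit 1835008) (Steps.bwd (nat_lit 6) Steps.nil))))))) (nat_lit 79) (nat_lit 3),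
  Rule.mk (nat_lit 6) (nat_lit 114) (Steps.bwd (nat_lit 4) (Steps.fwd (nat_lit 1835008) (Steps.bwd (nat_lit 5) (Steps.bwd (nat_lit 4) (Steps.bwd (nat_lit 7) Steps.nil))))) (nat_lit 67) (nat_lit 2),
  Rule.mk (nat_lit 2) (nat_lit 154) (Steps.fwd (nat_lit 1048576) (Steps.bwd (nat_lit 5) (Steps.bwd (nat_lit 7) (Steps.bwd (nat_lit 2) (Steps.bwd (nat_lit 4) (Steps.bwd (nat_lit 6) (Steps.fwd (nat_lit 1835008) Steps.nil))))))) (nat_lit 78) (nat_lit 1),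
  Rule.mk (nat_lit 6) (nat_lit 154) (Steps.fwd (nat_lit 1048576) (Steps.bwd (nat_lit 3) (Steps.fwd (nat_lit 1835008) (Steps.bwd (nat_lit 5) (Steps.bwd (nat_lit 4) (Steps.bwd (nat_lit 3) (Steps.bwd (nat_lit 7) Steps.nil))))))) (nat_lit 79) (nat_lit 2),
  Rule.mk (nat_lit 6) (nat_lit 154) (Steps.fwd (nat_lit 1048576) (Steps.fwd (nat_lit 1835008) (Steps.fwd (nat_lit 786432) (Steps.bwd (nat_lit 5) (Steps.bwd (nat_lit 4) (Steps.bwd (nat_lit 7) (Steps.bwd (nat_lit 2) Steps.nil))))))) (nat_lit 86) (nat_lit 6),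
  Rule.mk (nat_lit 0) (nat_lit 174) (Steps.bwd (nat_lit 4) (Steps.fwd (nat_lit 262144) (Steps.fwd (nat_lit 1572864) (Steps.bwd (nat_lit 1) (Steps.fwd (nat_lit 1048576) (Steps.fwd (nat_lit 262144) (Steps.fwd (nat_lit 1572864) (Steps.fwd (nat_lit 262144) Steps.nil)))))))) (nat_lit 74) (nat_lit 1),
  Rule.mk (nat_lit 1) (nat_lit 274) (Steps.fwd (nat_lit 1572864) (Steps.bwd (nat_lit 1) (Steps.fwd (nat_lit 524288) (Steps.bwd (nat_lit 1) (Steps.bwd (nat_lit 6) (Steps.bwd (nat_lit 1) (Steps.fwd (nat_lit 524288) (Steps.bwd (nat_lit 5) (Steps.bwd (nat_lit 6) (Steps.fwd (nat_lit 262144) (Steps.fwd (nat_lit 1572864) (Steps.bwd (nat_lit 1) (Steps.bwd (nat_lit 3) Steps.nil))))))))))))) (nat_lit 35) (nat_lit 7),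
  Rule.mk (nat_lit 1) (nat_lit 114) (Steps.fwd (nat_lit 1310720) (Steps.bwd (nat_lit 7) (Steps.bwd (nat_lit 1) (Steps.fwd (nat_lit 1310720) (Steps.fwd (nat_lit 1835008) Steps.nil))))) (nat_lit 52) (nat_lit 1),
  Rule.mk (nat_lit 1) (nat_lit 154) (Steps.bwd (nat_lit 3) (Steps.fwd (nat_lit 262144) (Steps.fwd (nat_lit 786432) (Steps.bwd (nat_lit 1) (Steps.fwd (nat_lit 524288) (Steps.fwd (nat_lit 262144) (Steps.bwd (nat_lit 2) Steps.nil))))))) (nat_lit 68) (nat_lit 3),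
  Rule.mk (nat_lit 2) (nat_lit 154) (Steps.bwd (nat_lit 1) (Steps.bwd (nat_lit 3) (Steps.bwd (nat_lit 1) (Steps.fwd (nat_lit 786432) (Steps.bwd (nat_lit 1) (Steps.fwd (nat_lit 524288) (Steps.fwd (nat_lit 262144) Steps.nil))))))) (nat_lit 68) (nat_lit 2),
  Rule.mk (nat_lit 1) (nat_lit 154) (Steps.fwd (nat_lit 786432) (Steps.fwd (nat_lit 262144) (Steps.fwd (nat_lit 1310720) (Steps.fwd (nat_lit 786432) (Steps.bwd (nat_lit 1) (Steps.fwd (nat_lit 786432) (Steps.bwd (nat_lit 5) Steps.nil))))))) (nat_lit 70) (nat_lit 1),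
  Rule.mk (nat_lit 3) (nat_lit 154) (Steps.fwd (nat_lit 1310720) (Steps.bwd (nat_lit 1) (Steps.bwd (nat_lit 3) (Steps.bwd (nat_lit 1) (Steps.fwd (nat_lit 1310720) (Steps.bwd (nat_lit 3) (Steps.fwd (nat_lit 262144) Steps.nil))))))) (nat_lit 71) (nat_lit 4),
  Rule.mk (nat_lit 5) (nat_lit 154) (Steps.bwd (nat_lit 3) (Steps.bwd (nat_lit 1) (Steps.bwd (nat_lit 3) (Steps.fwd (nat_lit 1310720) (Steps.bwd (nat_lit 1) (Steps.fwd (nat_lit 524288) (Steps.fwd (nat_lit 262144) Steps.nil))))))) (nat_lit 71) (nat_lit 1),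
  Rule.mk (nat_lit 3) (nat_lit 154) (Steps.fwd (nat_lit 1835008) (Steps.bwd (nat_lit 1) (Steps.bwd (nat_lit 3) (Steps.bwd (nat_lit 1) (Steps.fwd (nat_lit 1835008) (Steps.fwd (nat_lit 524288) (Steps.fwd (nat_lit 262144) Steps.nil))))))) (nat_lit 73) (nat_lit 4),
  Rule.mk (nat_lit 4) (nat_lit 154) (Steps.bwd (nat_lit 1) (Steps.fwd (nat_lit 1572864) (Steps.fwd (nat_lit 262144) (Steps.fwd (nat_lit 1048576) (Steps.bwd (nat_lit 1) (Steps.fwd (nat_lit 1572864) (Steps.bwd (nat_lit 1) Steps.nil))))))) (nat_lit 74) (nat_lit 2)]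
noncomputable def R_65 : List (Rule) := [Rule.mk (nat_lit 6) (nat_lit 274) (Steps.bwd (nat_lit 1) (Steps.fwd (nat_lit 1572864) (Steps.bwd (nat_lit 5) (Steps.fwd (nat_lit 786432) (Steps.bwd (nat_lit 1) (Steps.fwd (nat_lit 1572864) (Steps.bwd (nat_lit 1) (Steps.bwd (nat_lit 2) (Steps.fwd (nat_lit 262144) (Steps.bwd (nat_lit 6) (Steps.bwd (nat_lit 1) (Steps.fwd (nat_lit 786432) (Steps.bwd (nat_lit 1) Steps.nil))))))))))))) (nat_lit 34) (nat_lit 11),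
  Rule.mk (nat_lit 5) (nat_lit 94) (Steps.fwd (nat_lit 1835008) (Steps.bwd (nat_lit 6) (Steps.fwd (nat_lit 1310720) (Steps.bwd (nat_lit 6) Steps.nil)))) (nat_lit 24) (nat_lit 4),
  Rule.mk (nat_lit 7) (nat_lit 94) (Steps.fwd (nat_lit 1310720) (Steps.bwd (nat_lit 6) (Steps.bwd (nat_lit 5) (Steps.bwd (nat_lit 6) Steps.nil)))) (nat_lit 25) (nat_lit 1),
  Rule.mk (nat_lit 0) (nat_lit 174) (Steps.bwd (nat_lit 4) (Steps.bwd (nat_lit 1) (Steps.bwd (nat_lit 6) (Steps.bwd (nat_lit 1) (Steps.bwd (nat_lit 4) (Steps.fwd (nat_lit 262144) (Steps.bwd (nat_lit 6) (Steps.bwd (nat_lit 1) Steps.nil)))))))) (nat_lit 74) (nat_lit 1),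
  Rule.mk (nat_lit 3) (nat_lit 154) (Steps.bwd (nat_lit 5) (Steps.fwd (nat_lit 524288) (Steps.fwd (nat_lit 1572864) (Steps.fwd (nat_lit 1310720) (Steps.fwd (nat_lit 524288) (Steps.bwd (nat_lit 6) (Steps.bwd (nat_lit 7) Steps.nil))))))) (nat_lit 85) (nat_lit 6),
  Rule.mk (nat_lit 0) (nat_lit 174) (Steps.fwd (nat_lit 1310720) (Steps.bwd (nat_lit 3) (Steps.bwd (nat_lit 1) (Steps.bwd (nat_lit 3) (Steps.bwd (nat_lit 5) (Steps.bwd (nat_lit 1) (Steps.bwd (nat_lit 3) (Steps.fwd (nat_lit 262144) Steps.nil)))))))) (nat_lit 71) (nat_lit 0),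
  Rule.mk (nat_lit 1) (nat_lit 274) (Steps.bwd (nat_lit 6) (Steps.bwd (nat_lit 1) (Steps.bwd (nat_lit 3) (Steps.bwd (nat_lit 1) (Steps.fwd (nat_lit 1572864) (Steps.fwd (nat_lit 262144) (Steps.bwd (nat_lit 3) (Steps.bwd (nat_lit 5) (Steps.fwd (nat_lit 1572864) (Steps.bwd (nat_lit 1) (Steps.fwd (nat_lit 1572864) (Steps.fwd (nat_lit 262144) (Steps.fwd (nat_lit 524288) Steps.nil))))))))))))) (nat_lit 35) (nat_lit 7),
  Rule.mk (nat_lit 1) (nat_lit 114) (Steps.fwd (nat_lit 2359296) (Steps.fwd (nat_lit 786432) (Steps.bwd (nat_lit 1) (Steps.bwd (nat_lit 3) (Steps.fwd (nat_lit 2097152) Steps.nil))))) (nat_lit 104) (nat_lit 0),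
  Rule.mk (nat_lit 3) (nat_lit 154) (Steps.bwd (nat_lit 1) (Steps.fwd (nat_lit 786432) (Steps.bwd (nat_lit 1) (Steps.bwd (nat_lit 3) (Steps.bwd (nat_lit 1) (Steps.fwd (nat_lit 786432) (Steps.fwd (nat_lit 262144) Steps.nil))))))) (nat_lit 68) (nat_lit 0),
  Rule.mk (nat_lit 4) (nat_lit 154) (Steps.bwd (nat_lit 1) (Steps.bwd (nat_lit 7) (Steps.fwd (nat_lit 1048576) (Steps.bwd (nat_lit 1) (Steps.fwd (nat_lit 1048576) (Steps.bwd (nat_lit 7) (Steps.fwd (nat_lit 262144) Steps.nil))))))) (nat_lit 76) (nat_lit 2),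
  Rule.mk (nat_lit 1) (nat_lit 274) (Steps.fwd (nat_lit 1572864) (Steps.fwd (nat_lit 262144) (Steps.fwd (nat_lit 524288) (Steps.bwd (nat_lit 1) (Steps.fwd (nat_lit 1572864) (Steps.fwd (nat_lit 262144) (Steps.fwd (nat_lit 524288) (Steps.bwd (nat_lit 1) (Steps.bwd (nat_lit 6) (Steps.bwd (nat_lit 1) (Steps.bwd (nat_lit 3) (Steps.bwd (nat_lit 5) (Steps.bwd (nat_lit 6) Steps.nil))))))))))))) (nat_lit 35) (nat_lit 3),
  Rule.mk (nat_lit 1) (nat_lit 114) (Steps.fwd (nat_lit 524288) (Steps.fwd (nat_lit 2097152) (Steps.bwd (nat_lit 1) (Steps.bwd (nat_lit 8) (Steps.fwd (nat_lit 786432) Steps.nil))))) (nat_lit 104) (nat_lit 3),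
  Rule.mk (nat_lit 3) (nat_lit 154) (Steps.bwd (nat_lit 7) (Steps.bwd (nat_lit 1) (Steps.bwd (nat_lit 3) (Steps.bwd (nat_lit 1) (Steps.bwd (nat_lit 7) (Steps.fwd (nat_lit 524288) (Steps.fwd (nat_lit 262144) Steps.nil))))))) (nat_lit 73) (nat_lit 4),
  Rule.mk (nat_lit 7) (nat_lit 154) (Steps.bwd (nat_lit 1) (Steps.fwd (nat_lit 524288) (Steps.fwd (nat_lit 262144) (Steps.bwd (nat_lit 7) (Steps.bwd (nat_lit 3) (Steps.bwd (nat_lit 1) (Steps.bwd (nat_lit 3) Steps.nil))))))) (nat_lit 73) (nat_lit 5),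
  Rule.mk (nat_lit 0) (nat_lit 174) (Steps.bwd (nat_lit 1) (Steps.fwd (nat_lit 1572864) (Steps.fwd (nat_lit 262144) (Steps.fwd (nat_lit 1048576) (Steps.fwd (nat_lit 262144) (Steps.bwd (nat_lit 6) (Steps.bwd (nat_lit 1) (Steps.fwd (nat_lit 1048576) Steps.nil)))))))) (nat_lit 74) (nat_lit 2),
  Rule.mk (nat_lit 4) (nat_lit 154) (Steps.bwd (nat_lit 7) (Steps.fwd (nat_lit 262144) (Steps.bwd (nat_lit 4) (Steps.bwd (nat_lit 1) (Steps.bwd (nat_lit 7) (Steps.bwd (nat_lit 4) (Steps.bwd (nat_lit 1) Steps.nil))))))) (nat_lit 76) (nat_lit 7),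
  Rule.mk (nat_lit 0) (nat_lit 134) (Steps.bwd (nat_lit 4) (Steps.bwd (nat_lit 2) (Steps.bwd (nat_lit 6) (Steps.bwd (nat_lit 4) (Steps.fwd (nat_lit 786432) (Steps.bwd (nat_lit 5) Steps.nil)))))) (nat_lit 58) (nat_lit 2),
  Rule.mk (nat_lit 4) (nat_lit 154) (Steps.bwd (nat_lit 5) (Steps.bwd (nat_lit 7) (Steps.fwd (nat_lit 786432) (Steps.bwd (nat_lit 4) (Steps.bwd (nat_lit 6) (Steps.bwd (nat_lit 7) (Steps.bwd (nat_lit 2) Steps.nil))))))) (nat_lit 78) (nat_lit 2),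
  Rule.mk (nat_lit 4) (nat_lit 154) (Steps.fwd (nat_lit 524288) (Steps.bwd (nat_lit 7) (Steps.bwd (nat_lit 6) (Steps.bwd (nat_lit 4) (Steps.bwd (nat_lit 3) (Steps.fwd (nat_lit 1835008) (Steps.fwd (nat_lit 1310720) Steps.nil))))))) (nat_lit 79) (nat_lit 7),
  Rule.mk (nat_lit 4) (nat_lit 154) (Steps.bwd (nat_lit 6) (Steps.fwd (nat_lit 1835008) (Steps.bwd (nat_lit 2) (Steps.bwd (nat_lit 4) (Steps.bwd (nat_lit 5) (Steps.bwd (nat_lit 7) (Steps.fwd (nat_lit 786432) Steps.nil))))))) (nat_lit 78) (nat_lit 6),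
  Rule.mk (nat_lit 4) (nat_lit 154) (Steps.bwd (nat_lit 1) (Steps.bwd (nat_lit 7) (Steps.bwd (nat_lit 4) (Steps.fwd (nat_lit 262144) (Steps.fwd (nat_lit 1048576) (Steps.bwd (nat_lit 7) (Steps.fwd (nat_lit 262144) Steps.nil))))))) (nat_lit 76) (nat_lit 2),
  Rule.mk (nat_lit 0) (nat_lit 94) (Steps.bwd (nat_lit 2) (Steps.bwd (nat_lit 4) (Steps.bwd (nat_lit 2) (Steps.fwd (nat_lit 1048576) Steps.nil)))) (nat_lit 14) (nat_lit 1),
  Rule.mk (nat_lit 0) (nat_lit 134) (Steps.bwd (nat_lit 4) (Steps.fwd (nat_lit 1572864) (Steps.fwd (nat_lit 786432) (Steps.fwd (nat_lit 1048576) (Steps.fwd (nat_lit 1310720) (Steps.bwd (nat_lit 2) Steps.nil)))))) (nat_lit 54) (nat_lit 4),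
  Rule.mk (nat_lit 4) (nat_lit 114) (Steps.fwd (nat_lit 786432) (Steps.fwd (nat_lit 1572864) (Steps.bwd (nat_lit 4) (Steps.bwd (nat_lit 2) (Steps.bwd (nat_lit 5) Steps.nil))))) (nat_lit 58) (nat_lit 3),
  Rule.mk (nat_lit 2) (nat_lit 114) (Steps.bwd (nat_lit 5) (Steps.bwd (nat_lit 4) (Steps.bwd (nat_lit 2) (Steps.fwd (nat_lit 1572864) (Steps.bwd (nat_lit 4) Steps.nil))))) (nat_lit 58) (nat_lit 1),
  Rule.mk (nat_lit 3) (nat_lit 114) (Steps.bwd (nat_lit 4) (Steps.fwd (nat_lit 1572864) (Steps.bwd (nat_lit 3) (Steps.bwd (nat_lit 4) (Steps.bwd (nat_lit 5) Steps.nil))))) (nat_lit 59) (nat_lit 0),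
  Rule.mk (nat_lit 4) (nat_lit 114) (Steps.fwd (nat_lit 786432) (Steps.bwd (nat_lit 7) (Steps.bwd (nat_lit 4) (Steps.bwd (nat_lit 2) (Steps.bwd (nat_lit 7) Steps.nil))))) (nat_lit 64) (nat_lit 0),
  Rule.mk (nat_lit 0) (nat_lit 174) (Steps.bwd (nat_lit 1) (Steps.bwd (nat_lit 4) (Steps.fwd (nat_lit 262144) (Steps.fwd (nat_lit 1572864) (Steps.fwd (nat_lit 262144) (Steps.bwd (nat_lit 4) (Steps.bwd (nat_lit 1) (Steps.bwd (nat_lit 6) Steps.nil)))))))) (nat_lit 74) (nat_lit 0),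
  Rule.mk (nat_lit 4) (nat_lit 154) (Steps.bwd (nat_lit 5) (Steps.bwd (nat_lit 7) (Steps.fwd (nat_lit 786432) (Steps.bwd (nat_lit 4) (Steps.bwd (nat_lit 6) (Steps.fwd (nat_lit 1835008) (Steps.fwd (nat_lit 786432) Steps.nil))))))) (nat_lit 78) (nat_lit 2),
  Rule.mk (nat_lit 0) (nat_lit 174) (Steps.bwd (nat_lit 4) (Steps.bwd (nat_lit 7) (Steps.fwd (nat_lit 1310720) (Steps.fwd (nat_lit 524288) (Steps.fwd (nat_lit 1048576) (Steps.fwd (nat_lit 1835008) (Steps.fwd (nat_lit 1572864) (Steps.bwd (nat_lit 3) Steps.nil)))))))) (nat_lit 89) (nat_lit 4),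
  Rule.mk (nat_lit 7) (nat_lit 154) (Steps.fwd (nat_lit 524288) (Steps.bwd (nat_lit 4) (Steps.fwd (nat_lit 1572864) (Steps.bwd (nat_lit 7) (Steps.bwd (nat_lit 3) (Steps.bwd (nat_lit 4) (Steps.bwd (nat_lit 5) Steps.nil))))))) (nat_lit 93) (nat_lit 7),
  Rule.mk (nat_lit 6) (nat_lit 114) (Steps.fwd (nat_lit 1048576) (Steps.fwd (nat_lit 524288) (Steps.fwd (nat_lit 1310720) (Steps.fwd (nat_lit 1048576) (Steps.bwd (nat_lit 3) Steps.nil))))) (nat_lit 55) (nat_lit 1),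
  Rule.mk (nat_lit 4) (nat_lit 114) (Steps.fwd (nat_lit 1835008) (Steps.fwd (nat_lit 1310720) (Steps.fwd (nat_lit 1048576) (Steps.fwd (nat_lit 1835008) (Steps.fwd (nat_lit 1572864) Steps.nil))))) (nat_lit 67) (nat_lit 3),
  Rule.mk (nat_lit 1) (nat_lit 154) (Steps.bwd (nat_lit 4) (Steps.bwd (nat_lit 1) (Steps.fwd (nat_lit 1572864) (Steps.fwd (nat_lit 262144) (Steps.bwd (nat_lit 4) (Steps.bwd (nat_lit 1) (Steps.bwd (nat_lit 6) Steps.nil))))))) (nat_lit 74) (nat_lit 1),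
  Rule.mk (nat_lit 4) (nat_lit 154) (Steps.bwd (nat_lit 7) (Steps.fwd (nat_lit 786432) (Steps.fwd (nat_lit 1310720) (Steps.bwd (nat_lit 4) (Steps.fwd (nat_lit 1835008) (Steps.bwd (nat_lit 2) (Steps.bwd (nat_lit 6) Steps.nil))))))) (nat_lit 86) (nat_lit 7),
  Rule.mk (nat_lit 2) (nat_lit 154) (Steps.fwd (nat_lit 1310720) (Steps.bwd (nat_lit 7) (Steps.bwd (nat_lit 4) (Steps.fwd (nat_lit 786432) (Steps.bwd (nat_lit 6) (Steps.fwd (nat_lit 1835008) (Steps.bwd (nat_lit 4) Steps.nil))))))) (nat_lit 88) (nat_lit 1),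
  Rule.mk (nat_lit 6) (nat_lit 154) (Steps.fwd (nat_lit 1835008) (Steps.bwd (nat_lit 2) (Steps.fwd (nat_lit 1310720) (Steps.bwd (nat_lit 2) (Steps.fwd (nat_lit 1572864) (Steps.bwd (nat_lit 5) (Steps.bwd (nat_lit 2) Steps.nil))))))) (nat_lit 82) (nat_lit 7),
  Rule.mk (nat_lit 2) (nat_lit 154) (Steps.fwd (nat_lit 1310720) (Steps.bwd (nat_lit 2) (Steps.fwd (nat_lit 1835008) (Steps.fwd (nat_lit 1572864) (Steps.bwd (nat_lit 2) (Steps.fwd (nat_lit 1310720) (Steps.bwd (nat_lit 6) Steps.nil))))))) (nat_lit 84) (nat_lit 1),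
  Rule.mk (nat_lit 2) (nat_lit 274) (Steps.bwd (nat_lit 1) (Steps.bwd (nat_lit 6) (Steps.bwd (nat_lit 1) (Steps.bwd (nat_lit 6) (Steps.fwd (nat_lit 1310720) (Steps.bwd (nat_lit 2) (Steps.bwd (nat_lit 1) (Steps.fwd (nat_lit 1572864) (Steps.fwd (nat_lit 262144) (Steps.bwd (nat_lit 2) (Steps.fwd (nat_lit 262144) (Steps.bwd (nat_lit 6) (Steps.fwd (nat_lit 262144) Steps.nil))))))))))))) (nat_lit 34) (nat_lit 9),
  Rule.mk (nat_lit 4) (nat_lit 114) (Steps.fwd (nat_lit 786432) (Steps.fwd (nat_lit 1572864) (Steps.fwd (nat_lit 1048576) (Steps.bwd (nat_lit 2) (Steps.bwd (nat_lit 5) Steps.nil))))) (nat_lit 58) (nat_lit 3),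
  Rule.mk (nat_lit 4) (nat_lit 114) (Steps.fwd (nat_lit 786432) (Steps.fwd (nat_lit 1835008) (Steps.fwd (nat_lit 1048576) (Steps.bwd (nat_lit 2) (Steps.bwd (nat_lit 7) Steps.nil))))) (nat_lit 64) (nat_lit 0),
  Rule.mk (nat_lit 4) (nat_lit 154) (Steps.fwd (nat_lit 786432) (Steps.fwd (nat_lit 1572864) (Steps.fwd (nat_lit 1835008) (Steps.fwd (nat_lit 1048576) (Steps.bwd (nat_lit 2) (Steps.bwd (nat_lit 5) (Steps.fwd (nat_lit 1835008) Steps.nil))))))) (nat_lit 88) (nat_lit 4),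
  Rule.mk (nat_lit 6) (nat_lit 154) (Steps.fwd (nat_lit 262144) (Steps.bwd (nat_lit 4) (Steps.bwd (nat_lit 1) (Steps.fwd (nat_lit 1572864) (Steps.fwd (nat_lit 262144) (Steps.bwd (nat_lit 4) (Steps.bwd (nat_lit 1) Steps.nil))))))) (nat_lit 74) (nat_lit 0),
  Rule.mk (nat_lit 7) (nat_lit 154) (Steps.bwd (nat_lit 4) (Steps.fwd (nat_lit 262144) (Steps.fwd (nat_lit 1048576) (Steps.fwd (nat_lit 1835008) (Steps.fwd (nat_lit 262144) (Steps.bwd (nat_lit 4) (Steps.bwd (nat_lit 1) Steps.nil))))))) (nat_lit 76) (nat_lit 4),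
  Rule.mk (nat_lit 4) (nat_lit 314) (Steps.fwd (nat_lit 2097152) (Steps.bwd (nat_lit 4) (Steps.bwd (nat_lit 8) (Steps.bwd (nat_lit 4) (Steps.bwd (nat_lit 9) (Steps.bwd (nat_lit 4) (Steps.fwd (nat_lit 2359296) (Steps.bwd (nat_lit 4) (Steps.bwd (nat_lit 9) (Steps.bwd (nat_lit 4) (Steps.bwd (nat_lit 8) (Steps.bwd (nat_lit 4) (Steps.bwd (nat_lit 9) (Steps.fwd (nat_lit 1048576) (Steps.bwd (nat_lit 8) Steps.nil))))))))))))))) (nat_lit 106) (nat_lit 2),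
  Rule.mk (nat_lit 4) (nat_lit 314) (Steps.fwd (nat_lit 2097152) (Steps.bwd (nat_lit 4) (Steps.bwd (nat_lit 8) (Steps.fwd (nat_lit 1048576) (Steps.bwd (nat_lit 9) (Steps.bwd (nat_lit 4) (Steps.bwd (nat_lit 8) (Steps.bwd (nat_lit 4) (Steps.bwd (nat_lit 9) (Steps.bwd (nat_lit 4) (Steps.bwd (nat_lit 8) (Steps.bwd (nat_lit 4) (Steps.fwd (nat_lit 2097152) (Steps.bwd (nat_lit 4) (Steps.fwd (nat_lit 2359296) Steps.nil))))))))))))))) (nat_lit 106) (nat_lit 2),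
  Rule.mk (nat_lit 0) (nat_lit 94) (Steps.bwd (nat_lit 4) (Steps.bwd (nat_lit 2) (Steps.fwd (nat_lit 1048576) (Steps.fwd (nat_lit 786432) Steps.nil)))) (nat_lit 14) (nat_lit 0),
  Rule.mk (nat_lit 4) (nat_lit 154) (Steps.bwd (nat_lit 1) (Steps.bwd (nat_lit 4) (Steps.bwd (nat_lit 7) (Steps.bwd (nat_lit 1) (Steps.bwd (nat_lit 4) (Steps.fwd (nat_lit 262144) (Steps.bwd (nat_lit 7) Steps.nil))))))) (nat_lit 76) (nat_lit 5),
  Rule.mk (nat_lit 1) (nat_lit 154) (Steps.bwd (nat_lit 7) (Steps.fwd (nat_lit 1048576) (Steps.fwd (nat_lit 262144) (Steps.fwd (nat_lit 1048576) (Steps.fwd (nat_lit 1835008) (Steps.fwd (nat_lit 262144) (Steps.fwd (nat_lit 1048576) Steps.nil))))))) (nat_lit 76) (nat_lit 3),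
  Rule.mk (nat_lit 4) (nat_lit 154) (Steps.bwd (nat_lit 1) (Steps.bwd (nat_lit 6) (Steps.fwd (nat_lit 262144) (Steps.fwd (nat_lit 1048576) (Steps.bwd (nat_lit 1) (Steps.fwd (nat_lit 1572864) (Steps.bwd (nat_lit 1) Steps.nil))))))) (nat_lit 74) (nat_lit 2),
  Rule.mk (nat_lit 6) (nat_lit 274) (Steps.bwd (nat_lit 1) (Steps.fwd (nat_lit 786432) (Steps.fwd (nat_lit 262144) (Steps.bwd (nat_lit 6) (Steps.bwd (nat_lit 1) (Steps.fwd (nat_lit 786432) (Steps.bwd (nat_lit 1) (Steps.fwd (nat_lit 1572864) (Steps.bwd (nat_lit 1) (Steps.bwd (nat_lit 6) (Steps.bwd (nat_lit 5) (Steps.fwd (nat_lit 786432) (Steps.fwd (nat_lit 262144) Steps.nil))))))))))))) (nat_lit 34) (nat_lit 3),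
  Rule.mk (nat_lit 6) (nat_lit 274) (Steps.bwd (nat_lit 1) (Steps.bwd (nat_lit 6) (Steps.bwd (nat_lit 5) (Steps.fwd (nat_lit 786432) (Steps.fwd (nat_lit 262144) (Steps.bwd (nat_lit 6) (Steps.bwd (nat_lit 1) (Steps.fwd (nat_lit 786432) (Steps.bwd (nat_lit 1) (Steps.fwd (nat_lit 1572864) (Steps.bwd (nat_lit 1) (Steps.bwd (nat_lit 2) (Steps.fwd (nat_lit 262144) Steps.nil))))))))))))) (nat_lit 34) (nat_lit 11),
  Rule.mk (nat_lit 1) (nat_lit 274) (Steps.fwd (nat_lit 1572864) (Steps.fwd (nat_lit 262144) (Steps.fwd (nat_lit 524288) (Steps.bwd (nat_lit 1) (Steps.fwd (nat_lit 1572864) (Steps.bwd (nat_lit 1) (Steps.bwd (nat_lit 3) (Steps.fwd (nat_lit 262144) (Steps.bwd (nat_lit 6) (Steps.bwd (nat_lit 1) (Steps.fwd (nat_lit 524288) (Steps.fwd (nat_lit 1310720) (Steps.fwd (nat_lit 1572864) Steps.nil))))))))))))) (nat_lit 35) (nat_lit 3),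
  Rule.mk (nat_lit 3) (nat_lit 274) (Steps.bwd (nat_lit 1) (Steps.fwd (nat_lit 1572864) (Steps.fwd (nat_lit 262144) (Steps.bwd (nat_lit 3) (Steps.bwd (nat_lit 1) (Steps.fwd (nat_lit 1572864) (Steps.bwd (nat_lit 1) (Steps.fwd (nat_lit 524288) (Steps.fwd (nat_lit 1310720) (Steps.fwd (nat_lit 1572864) (Steps.bwd (nat_lit 1) (Steps.fwd (nat_lit 1572864) (Steps.fwd (nat_lit 262144) Steps.nil))))))))))))) (nat_lit 35) (nat_lit 6),
  Rule.mk (nat_lit 6) (nat_lit 274) (Steps.bwd (nat_lit 1) (Steps.fwd (nat_lit 1572864) (Steps.fwd (nat_lit 262144) (Steps.bwd (nat_lit 3) (Steps.bwd (nat_lit 1) (Steps.fwd (nat_lit 1572864) (Steps.bwd (nat_lit 1) (Steps.fwd (nat_lit 524288) (Steps.fwd (nat_lit 262144) (Steps.bwd (nat_lit 6) (Steps.fwd (nat_lit 262144) (Steps.bwd (nat_lit 3) (Steps.fwd (nat_lit 1310720) Steps.nil))))))))))))) (nat_lit 35) (nat_lit 2),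
  Rule.mk (nat_lit 0) (nat_lit 114) (Steps.bwd (nat_lit 6) (Steps.fwd (nat_lit 1310720) (Steps.bwd (nat_lit 6) (Steps.bwd (nat_lit 5) (Steps.fwd (nat_lit 1835008) Steps.nil))))) (nat_lit 24) (nat_lit 0),
  Rule.mk (nat_lit 2) (nat_lit 154) (Steps.fwd (nat_lit 1572864) (Steps.fwd (nat_lit 1835008) (Steps.bwd (nat_lit 2) (Steps.fwd (nat_lit 1310720) (Steps.fwd (nat_lit 786432) (Steps.bwd (nat_lit 6) (Steps.bwd (nat_lit 5) Steps.nil))))))) (nat_lit 82) (nat_lit 6),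
  Rule.mk (nat_lit 3) (nat_lit 154) (Steps.fwd (nat_lit 1835008) (Steps.bwd (nat_lit 6) (Steps.bwd (nat_lit 3) (Steps.fwd (nat_lit 1310720) (Steps.bwd (nat_lit 6) (Steps.bwd (nat_lit 3) (Steps.bwd (nat_lit 5) Steps.nil))))))) (nat_lit 83) (nat_lit 0),
  Rule.mk (nat_lit 6) (nat_lit 274) (Steps.bwd (nat_lit 1) (Steps.fwd (nat_lit 524288) (Steps.fwd (nat_lit 262144) (Steps.fwd (nat_lit 1572864) (Steps.fwd (nat_lit 262144) (Steps.bwd (nat_lit 3) (Steps.bwd (nat_lit 5) (Steps.fwd (nat_lit 1572864) (Steps.bwd (nat_lit 1) (Steps.bwd (nat_lit 6) (Steps.fwd (nat_lit 262144) (Steps.bwd (nat_lit 3) (Steps.fwd (nat_lit 262144) Steps.nil))))))))))))) (nat_lit 35) (nat_lit 8),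
  Rule.mk (nat_lit 5) (nat_lit 94) (Steps.bwd (nat_lit 7) (Steps.bwd (nat_lit 6) (Steps.fwd (nat_lit 1310720) (Steps.fwd (nat_lit 1572864) Steps.nil)))) (nat_lit 24) (nat_lit 4),
  Rule.mk (nat_lit 4) (nat_lit 114) (Steps.bwd (nat_lit 6) (Steps.bwd (nat_lit 3) (Steps.fwd (nat_lit 1048576) (Steps.fwd (nat_lit 1310720) (Steps.fwd (nat_lit 524288) Steps.nil))))) (nat_lit 59) (nat_lit 1),
  Rule.mk (nat_lit 6) (nat_lit 114) (Steps.fwd (nat_lit 1835008) (Steps.bwd (nat_lit 3) (Steps.bwd (nat_lit 6) (Steps.fwd (nat_lit 1835008) (Steps.bwd (nat_lit 2) Steps.nil))))) (nat_lit 62) (nat_lit 2),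
  Rule.mk (nat_lit 3) (nat_lit 114) (Steps.bwd (nat_lit 6) (Steps.bwd (nat_lit 7) (Steps.bwd (nat_lit 2) (Steps.bwd (nat_lit 6) (Steps.fwd (nat_lit 1835008) Steps.nil))))) (nat_lit 62) (nat_lit 4),
  Rule.mk (nat_lit 7) (nat_lit 114) (Steps.bwd (nat_lit 6) (Steps.fwd (nat_lit 786432) (Steps.bwd (nat_lit 7) (Steps.bwd (nat_lit 6) (Steps.bwd (nat_lit 3) Steps.nil))))) (nat_lit 63) (nat_lit 1)]
noncomputable def R_66 : List (Rule) := [Rule.mk (nat_lit 3) (nat_lit 114) (Steps.bwd (nat_lit 7) (Steps.bwd (nat_lit 6) (Steps.bwd (nat_lit 2) (Steps.fwd (nat_lit 1835008) (Steps.bwd (nat_lit 6) Steps.nil))))) (nat_lit 63) (nat_lit 0),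
  Rule.mk (nat_lit 1) (nat_lit 154) (Steps.bwd (nat_lit 4) (Steps.fwd (nat_lit 262144) (Steps.bwd (nat_lit 6) (Steps.bwd (nat_lit 1) (Steps.bwd (nat_lit 4) (Steps.bwd (nat_lit 1) (Steps.bwd (nat_lit 6) Steps.nil))))))) (nat_lit 74) (nat_lit 1),
  Rule.mk (nat_lit 3) (nat_lit 154) (Steps.fwd (nat_lit 1572864) (Steps.bwd (nat_lit 7) (Steps.bwd (nat_lit 3) (Steps.bwd (nat_lit 5) (Steps.bwd (nat_lit 3) (Steps.bwd (nat_lit 6) (Steps.fwd (nat_lit 1310720) Steps.nil))))))) (nat_lit 85) (nat_lit 3),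
  Rule.mk (nat_lit 4) (nat_lit 154) (Steps.fwd (nat_lit 1310720) (Steps.fwd (nat_lit 524288) (Steps.bwd (nat_lit 7) (Steps.bwd (nat_lit 4) (Steps.bwd (nat_lit 6) (Steps.bwd (nat_lit 3) (Steps.bwd (nat_lit 7) Steps.nil))))))) (nat_lit 87) (nat_lit 6),
  Rule.mk (nat_lit 4) (nat_lit 154) (Steps.bwd (nat_lit 7) (Steps.bwd (nat_lit 6) (Steps.bwd (nat_lit 3) (Steps.fwd (nat_lit 1048576) (Steps.bwd (nat_lit 7) (Steps.fwd (nat_lit 1310720) (Steps.fwd (nat_lit 524288) Steps.nil))))))) (nat_lit 89) (nat_lit 1),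
  Rule.mk (nat_lit 2) (nat_lit 274) (Steps.bwd (nat_lit 1) (Steps.fwd (nat_lit 1572864) (Steps.fwd (nat_lit 262144) (Steps.bwd (nat_lit 6) (Steps.fwd (nat_lit 1310720) (Steps.bwd (nat_lit 2) (Steps.fwd (nat_lit 262144) (Steps.bwd (nat_lit 6) (Steps.bwd (nat_lit 1) (Steps.fwd (nat_lit 786432) (Steps.fwd (nat_lit 262144) (Steps.fwd (nat_lit 1572864) (Steps.fwd (nat_lit 262144) Steps.nil))))))))))))) (nat_lit 34) (nat_lit 9),
  Rule.mk (nat_lit 4) (nat_lit 114) (Steps.bwd (nat_lit 5) (Steps.fwd (nat_lit 786432) (Steps.fwd (nat_lit 1048576) (Steps.fwd (nat_lit 1572864) (Steps.fwd (nat_lit 786432) Steps.nil))))) (nat_lit 54) (nat_lit 2),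
  Rule.mk (nat_lit 0) (nat_lit 134) (Steps.fwd (nat_lit 1310720) (Steps.fwd (nat_lit 786432) (Steps.bwd (nat_lit 4) (Steps.bwd (nat_lit 6) (Steps.bwd (nat_lit 2) (Steps.fwd (nat_lit 1048576) Steps.nil)))))) (nat_lit 54) (nat_lit 2),
  Rule.mk (nat_lit 0) (nat_lit 134) (Steps.bwd (nat_lit 4) (Steps.bwd (nat_lit 5) (Steps.bwd (nat_lit 7) (Steps.fwd (nat_lit 1048576) (Steps.fwd (nat_lit 1572864) (Steps.fwd (nat_lit 1835008) Steps.nil)))))) (nat_lit 66) (nat_lit 0),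
  Rule.mk (nat_lit 4) (nat_lit 154) (Steps.bwd (nat_lit 3) (Steps.bwd (nat_lit 7) (Steps.bwd (nat_lit 6) (Steps.bwd (nat_lit 4) (Steps.fwd (nat_lit 524288) (Steps.fwd (nat_lit 1835008) (Steps.bwd (nat_lit 5) Steps.nil))))))) (nat_lit 79) (nat_lit 7),
  Rule.mk (nat_lit 2) (nat_lit 274) (Steps.fwd (nat_lit 262144) (Steps.fwd (nat_lit 1572864) (Steps.bwd (nat_lit 1) (Steps.fwd (nat_lit 1572864) (Steps.bwd (nat_lit 5) (Steps.fwd (nat_lit 786432) (Steps.bwd (nat_lit 1) (Steps.fwd (nat_lit 1572864) (Steps.fwd (nat_lit 262144) (Steps.fwd (nat_lit 786432) (Steps.bwd (nat_lit 1) (Steps.bwd (nat_lit 6) (Steps.bwd (nat_lit 1) Steps.nil))))))))))))) (nat_lit 34) (nat_lit 9),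
  Rule.mk (nat_lit 1) (nat_lit 274) (Steps.bwd (nat_lit 6) (Steps.fwd (nat_lit 262144) (Steps.bwd (nat_lit 6) (Steps.fwd (nat_lit 1310720) (Steps.fwd (nat_lit 786432) (Steps.bwd (nat_lit 1) (Steps.bwd (nat_lit 6) (Steps.bwd (nat_lit 1) (Steps.bwd (nat_lit 2) (Steps.fwd (nat_lit 262144) (Steps.fwd (nat_lit 1572864) (Steps.bwd (nat_lit 1) (Steps.fwd (nat_lit 786432) Steps.nil))))))))))))) (nat_lit 34) (nat_lit 10),
  Rule.mk (nat_lit 3) (nat_lit 274) (Steps.bwd (nat_lit 5) (Steps.fwd (nat_lit 1572864) (Steps.bwd (nat_lit 1) (Steps.fwd (nat_lit 1572864) (Steps.fwd (nat_lit 262144) (Steps.bwd (nat_lit 3) (Steps.bwd (nat_lit 1) (Steps.fwd (nat_lit 1572864) (Steps.fwd (nat_lit 262144) (Steps.fwd (nat_lit 524288) (Steps.bwd (nat_lit 1) (Steps.bwd (nat_lit 6) (Steps.bwd (nat_lit 1) Steps.nil))))))))))))) (nat_lit 35) (nat_lit 0),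
  Rule.mk (nat_lit 1) (nat_lit 274) (Steps.bwd (nat_lit 6) (Steps.fwd (nat_lit 262144) (Steps.fwd (nat_lit 524288) (Steps.bwd (nat_lit 5) (Steps.bwd (nat_lit 6) (Steps.bwd (nat_lit 1) (Steps.fwd (nat_lit 1572864) (Steps.fwd (nat_lit 262144) (Steps.fwd (nat_lit 524288) (Steps.bwd (nat_lit 1) (Steps.bwd (nat_lit 6) (Steps.bwd (nat_lit 1) (Steps.bwd (nat_lit 3) Steps.nil))))))))))))) (nat_lit 35) (nat_lit 11),
  Rule.mk (nat_lit 2) (nat_lit 154) (Steps.bwd (nat_lit 1) (Steps.fwd (nat_lit 786432) (Steps.bwd (nat_lit 7) (Steps.bwd (nat_lit 1) (Steps.fwd (nat_lit 786432) (Steps.bwd (nat_lit 1) (Steps.bwd (nat_lit 7) Steps.nil))))))) (nat_lit 72) (nat_lit 5),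
  Rule.mk (nat_lit 2) (nat_lit 154) (Steps.bwd (nat_lit 7) (Steps.bwd (nat_lit 1) (Steps.fwd (nat_lit 786432) (Steps.bwd (nat_lit 1) (Steps.bwd (nat_lit 7) (Steps.fwd (nat_lit 786432) (Steps.bwd (nat_lit 1) Steps.nil))))))) (nat_lit 72) (nat_lit 7),
  Rule.mk (nat_lit 4) (nat_lit 154) (Steps.bwd (nat_lit 7) (Steps.fwd (nat_lit 262144) (Steps.bwd (nat_lit 4) (Steps.bwd (nat_lit 1) (Steps.bwd (nat_lit 7) (Steps.bwd (nat_lit 4) (Steps.fwd (nat_lit 262144) Steps.nil))))))) (nat_lit 76) (nat_lit 7),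
  Rule.mk (nat_lit 1) (nat_lit 154) (Steps.fwd (nat_lit 1048576) (Steps.bwd (nat_lit 7) (Steps.bwd (nat_lit 1) (Steps.bwd (nat_lit 4) (Steps.fwd (nat_lit 262144) (Steps.bwd (nat_lit 7) (Steps.bwd (nat_lit 4) Steps.nil))))))) (nat_lit 76) (nat_lit 6),
  Rule.mk (nat_lit 1) (nat_lit 154) (Steps.fwd (nat_lit 524288) (Steps.fwd (nat_lit 262144) (Steps.fwd (nat_lit 786432) (Steps.bwd (nat_lit 1) (Steps.bwd (nat_lit 3) (Steps.fwd (nat_lit 262144) (Steps.bwd (nat_lit 2) Steps.nil))))))) (nat_lit 68) (nat_lit 3),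
  Rule.mk (nat_lit 1) (nat_lit 154) (Steps.bwd (nat_lit 3) (Steps.fwd (nat_lit 1835008) (Steps.bwd (nat_lit 1) (Steps.bwd (nat_lit 3) (Steps.fwd (nat_lit 262144) (Steps.bwd (nat_lit 7) (Steps.fwd (nat_lit 524288) Steps.nil))))))) (nat_lit 73) (nat_lit 3),
  Rule.mk (nat_lit 7) (nat_lit 154) (Steps.bwd (nat_lit 3) (Steps.bwd (nat_lit 1) (Steps.bwd (nat_lit 3) (Steps.bwd (nat_lit 7) (Steps.bwd (nat_lit 1) (Steps.fwd (nat_lit 524288) (Steps.bwd (nat_lit 1) Steps.nil))))))) (nat_lit 73) (nat_lit 1),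
  Rule.mk (nat_lit 1) (nat_lit 274) (Steps.bwd (nat_lit 3) (Steps.bwd (nat_lit 1) (Steps.bwd (nat_lit 6) (Steps.bwd (nat_lit 1) (Steps.fwd (nat_lit 524288) (Steps.fwd (nat_lit 262144) (Steps.bwd (nat_lit 6) (Steps.bwd (nat_lit 1) (Steps.bwd (nat_lit 3) (Steps.bwd (nat_lit 5) (Steps.bwd (nat_lit 6) (Steps.bwd (nat_lit 1) (Steps.fwd (nat_lit 1572864) Steps.nil))))))))))))) (nat_lit 35) (nat_lit 5),
  Rule.mk (nat_lit 3) (nat_lit 274) (Steps.fwd (nat_lit 1310720) (Steps.bwd (nat_lit 6) (Steps.bwd (nat_lit 1) (Steps.bwd (nat_lit 6) (Steps.fwd (nat_lit 262144) (Steps.bwd (nat_lit 3) (Steps.bwd (nat_lit 1) (Steps.bwd (nat_lit 6) (Steps.fwd (nat_lit 262144) (Steps.fwd (nat_lit 524288) (Steps.fwd (nat_lit 262144) (Steps.bwd (nat_lit 6) (Steps.fwd (nat_lit 262144) Steps.nil))))))))))))) (nat_lit 35) (nat_lit 0),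
  Rule.mk (nat_lit 5) (nat_lit 114) (Steps.bwd (nat_lit 7) (Steps.bwd (nat_lit 3) (Steps.fwd (nat_lit 1310720) (Steps.bwd (nat_lit 7) (Steps.fwd (nat_lit 786432) Steps.nil))))) (nat_lit 60) (nat_lit 2),
  Rule.mk (nat_lit 7) (nat_lit 114) (Steps.fwd (nat_lit 1310720) (Steps.bwd (nat_lit 3) (Steps.bwd (nat_lit 7) (Steps.bwd (nat_lit 5) (Steps.fwd (nat_lit 786432) Steps.nil))))) (nat_lit 61) (nat_lit 4),
  Rule.mk (nat_lit 6) (nat_lit 114) (Steps.bwd (nat_lit 3) (Steps.bwd (nat_lit 7) (Steps.bwd (nat_lit 6) (Steps.fwd (nat_lit 786432) (Steps.fwd (nat_lit 1835008) Steps.nil))))) (nat_lit 63) (nat_lit 5),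
  Rule.mk (nat_lit 5) (nat_lit 154) (Steps.bwd (nat_lit 6) (Steps.bwd (nat_lit 3) (Steps.fwd (nat_lit 1310720) (Steps.fwd (nat_lit 524288) (Steps.fwd (nat_lit 1835008) (Steps.bwd (nat_lit 6) (Steps.fwd (nat_lit 524288) Steps.nil))))))) (nat_lit 83) (nat_lit 4),
  Rule.mk (nat_lit 4) (nat_lit 154) (Steps.fwd (nat_lit 1310720) (Steps.bwd (nat_lit 3) (Steps.bwd (nat_lit 7) (Steps.bwd (nat_lit 4) (Steps.fwd (nat_lit 1572864) (Steps.bwd (nat_lit 3) (Steps.bwd (nat_lit 7) Steps.nil))))))) (nat_lit 87) (nat_lit 6),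
  Rule.mk (nat_lit 4) (nat_lit 154) (Steps.bwd (nat_lit 7) (Steps.bwd (nat_lit 3) (Steps.fwd (nat_lit 1310720) (Steps.bwd (nat_lit 4) (Steps.fwd (nat_lit 1835008) (Steps.bwd (nat_lit 3) (Steps.fwd (nat_lit 1572864) Steps.nil))))))) (nat_lit 91) (nat_lit 2),
  Rule.mk (nat_lit 4) (nat_lit 114) (Steps.fwd (nat_lit 1310720) (Steps.fwd (nat_lit 524288) (Steps.bwd (nat_lit 4) (Steps.bwd (nat_lit 6) (Steps.bwd (nat_lit 3) Steps.nil))))) (nat_lit 59) (nat_lit 4),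
  Rule.mk (nat_lit 1) (nat_lit 154) (Steps.bwd (nat_lit 4) (Steps.bwd (nat_lit 7) (Steps.bwd (nat_lit 1) (Steps.fwd (nat_lit 1048576) (Steps.bwd (nat_lit 1) (Steps.bwd (nat_lit 7) (Steps.fwd (nat_lit 1048576) Steps.nil))))))) (nat_lit 76) (nat_lit 6),
  Rule.mk (nat_lit 2) (nat_lit 154) (Steps.fwd (nat_lit 1048576) (Steps.bwd (nat_lit 5) (Steps.fwd (nat_lit 1835008) (Steps.bwd (nat_lit 2) (Steps.bwd (nat_lit 4) (Steps.bwd (nat_lit 6) (Steps.fwd (nat_lit 1835008) Steps.nil))))))) (nat_lit 78) (nat_lit 1),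
  Rule.mk (nat_lit 4) (nat_lit 154) (Steps.bwd (nat_lit 5) (Steps.fwd (nat_lit 1835008) (Steps.bwd (nat_lit 2) (Steps.fwd (nat_lit 1048576) (Steps.bwd (nat_lit 6) (Steps.bwd (nat_lit 7) (Steps.fwd (nat_lit 786432) Steps.nil))))))) (nat_lit 78) (nat_lit 2),
  Rule.mk (nat_lit 4) (nat_lit 154) (Steps.bwd (nat_lit 1) (Steps.bwd (nat_lit 6) (Steps.bwd (nat_lit 1) (Steps.bwd (nat_lit 4) (Steps.bwd (nat_lit 1) (Steps.bwd (nat_lit 6) (Steps.fwd (nat_lit 262144) Steps.nil))))))) (nat_lit 74) (nat_lit 2),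
  Rule.mk (nat_lit 0) (nat_lit 174) (Steps.bwd (nat_lit 4) (Steps.bwd (nat_lit 1) (Steps.bwd (nat_lit 7) (Steps.bwd (nat_lit 4) (Steps.bwd (nat_lit 1) (Steps.bwd (nat_lit 4) (Steps.fwd (nat_lit 1835008) (Steps.fwd (nat_lit 262144) Steps.nil)))))))) (nat_lit 76) (nat_lit 1),
  Rule.mk (nat_lit 4) (nat_lit 154) (Steps.fwd (nat_lit 1835008) (Steps.fwd (nat_lit 786432) (Steps.bwd (nat_lit 5) (Steps.bwd (nat_lit 4) (Steps.bwd (nat_lit 7) (Steps.bwd (nat_lit 2) (Steps.bwd (nat_lit 6) Steps.nil))))))) (nat_lit 86) (nat_lit 7),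
  Rule.mk (nat_lit 0) (nat_lit 334) (Steps.bwd (nat_lit 4) (Steps.fwd (nat_lit 2359296) (Steps.bwd (nat_lit 4) (Steps.bwd (nat_lit 9) (Steps.fwd (nat_lit 1048576) (Steps.fwd (nat_lit 2359296) (Steps.bwd (nat_lit 4) (Steps.bwd (nat_lit 9) (Steps.bwd (nat_lit 4) (Steps.bwd (nat_lit 8) (Steps.bwd (nat_lit 4) (Steps.fwd (nat_lit 2097152) (Steps.fwd (nat_lit 1048576) (Steps.fwd (nat_lit 2359296) (Steps.fwd (nat_lit 1048576) (Steps.fwd (nat_lit 2097152) Steps.nil)))))))))))))))) (nat_lit 106) (nat_lit 3),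
  Rule.mk (nat_lit 0) (nat_lit 334) (Steps.bwd (nat_lit 4) (Steps.bwd (nat_lit 8) (Steps.fwd (nat_lit 1048576) (Steps.fwd (nat_lit 2097152) (Steps.fwd (nat_lit 1048576) (Steps.fwd (nat_lit 2359296) (Steps.bwd (nat_lit 4) (Steps.bwd (nat_lit 9) (Steps.fwd (nat_lit 1048576) (Steps.bwd (nat_lit 8) (Steps.fwd (nat_lit 1048576) (Steps.bwd (nat_lit 9) (Steps.fwd (nat_lit 1048576) (Steps.fwd (nat_lit 2359296) (Steps.bwd (nat_lit 4) (Steps.bwd (nat_lit 9) Steps.nil)))))))))))))))) (nat_lit 106) (nat_lit 3),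
  Rule.mk (nat_lit 0) (nat_lit 334) (Steps.bwd (nat_lit 4) (Steps.bwd (nat_lit 8) (Steps.bwd (nat_lit 4) (Steps.bwd (nat_lit 9) (Steps.fwd (nat_lit 1048576) (Steps.fwd (nat_lit 2359296) (Steps.bwd (nat_lit 4) (Steps.fwd (nat_lit 2097152) (Steps.bwd (nat_lit 4) (Steps.fwd (nat_lit 2359296) (Steps.bwd (nat_lit 4) (Steps.fwd (nat_lit 2097152) (Steps.fwd (nat_lit 1048576) (Steps.fwd (nat_lit 2359296) (Steps.fwd (nat_lit 1048576) (Steps.bwd (nat_lit 9) Steps.nil)))))))))))))))) (nat_lit 106) (nat_lit 3),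
  Rule.mk (nat_lit 0) (nat_lit 94) (Steps.bwd (nat_lit 4) (Steps.bwd (nat_lit 3) (Steps.fwd (nat_lit 1048576) (Steps.bwd (nat_lit 3) Steps.nil)))) (nat_lit 15) (nat_lit 1),
  Rule.mk (nat_lit 0) (nat_lit 94) (Steps.bwd (nat_lit 4) (Steps.fwd (nat_lit 1572864) (Steps.bwd (nat_lit 4) (Steps.fwd (nat_lit 1310720) Steps.nil)))) (nat_lit 22) (nat_lit 2),
  Rule.mk (nat_lit 4) (nat_lit 154) (Steps.bwd (nat_lit 5) (Steps.fwd (nat_lit 1835008) (Steps.fwd (nat_lit 786432) (Steps.bwd (nat_lit 4) (Steps.bwd (nat_lit 6) (Steps.fwd (nat_lit 1835008) (Steps.bwd (nat_lit 2) Steps.nil))))))) (nat_lit 78) (nat_lit 2),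
  Rule.mk (nat_lit 4) (nat_lit 154) (Steps.bwd (nat_lit 7) (Steps.bwd (nat_lit 6) (Steps.fwd (nat_lit 786432) (Steps.bwd (nat_lit 4) (Steps.bwd (nat_lit 7) (Steps.bwd (nat_lit 5) (Steps.fwd (nat_lit 786432) Steps.nil))))))) (nat_lit 80) (nat_lit 6),
  Rule.mk (nat_lit 6) (nat_lit 154) (Steps.fwd (nat_lit 786432) (Steps.fwd (nat_lit 1835008) (Steps.bwd (nat_lit 4) (Steps.fwd (nat_lit 1310720) (Steps.bwd (nat_lit 2) (Steps.fwd (nat_lit 1835008) (Steps.bwd (nat_lit 4) Steps.nil))))))) (nat_lit 90) (nat_lit 0),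
  Rule.mk (nat_lit 4) (nat_lit 314) (Steps.fwd (nat_lit 2359296) (Steps.fwd (nat_lit 1048576) (Steps.fwd (nat_lit 2097152) (Steps.bwd (nat_lit 4) (Steps.fwd (nat_lit 2359296) (Steps.fwd (nat_lit 1048576) (Steps.bwd (nat_lit 9) (Steps.bwd (nat_lit 4) (Steps.fwd (nat_lit 2359296) (Steps.fwd (nat_lit 1048576) (Steps.bwd (nat_lit 9) (Steps.fwd (nat_lit 1048576) (Steps.fwd (nat_lit 2359296) (Steps.bwd (nat_lit 4) (Steps.bwd (nat_lit 9) Steps.nil))))))))))))))) (nat_lit 106) (nat_lit 0),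
  Rule.mk (nat_lit 0) (nat_lit 174) (Steps.bwd (nat_lit 4) (Steps.bwd (nat_lit 6) (Steps.bwd (nat_lit 7) (Steps.fwd (nat_lit 786432) (Steps.fwd (nat_lit 1048576) (Steps.fwd (nat_lit 1310720) (Steps.bwd (nat_lit 7) (Steps.fwd (nat_lit 786432) Steps.nil)))))))) (nat_lit 78) (nat_lit 5),
  Rule.mk (nat_lit 4) (nat_lit 314) (Steps.fwd (nat_lit 2359296) (Steps.bwd (nat_lit 4) (Steps.bwd (nat_lit 9) (Steps.bwd (nat_lit 4) (Steps.fwd (nat_lit 2359296) (Steps.bwd (nat_lit 4) (Steps.bwd (nat_lit 9) (Steps.bwd (nat_lit 4) (Steps.fwd (nat_lit 2359296) (Steps.bwd (nat_lit 4) (Steps.bwd (nat_lit 9) (Steps.bwd (nat_lit 4) (Steps.bwd (nat_lit 8) (Steps.bwd (nat_lit 4) (Steps.fwd (nat_lit 2097152) Steps.nil))))))))))))))) (nat_lit 106) (nat_lit 0),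
  Rule.mk (nat_lit 4) (nat_lit 154) (Steps.bwd (nat_lit 1) (Steps.bwd (nat_lit 7) (Steps.bwd (nat_lit 4) (Steps.bwd (nat_lit 1) (Steps.fwd (nat_lit 1048576) (Steps.bwd (nat_lit 7) (Steps.fwd (nat_lit 262144) Steps.nil))))))) (nat_lit 76) (nat_lit 2),
  Rule.mk (nat_lit 0) (nat_lit 174) (Steps.bwd (nat_lit 4) (Steps.fwd (nat_lit 524288) (Steps.bwd (nat_lit 7) (Steps.bwd (nat_lit 5) (Steps.fwd (nat_lit 1048576) (Steps.fwd (nat_lit 524288) (Steps.fwd (nat_lit 1835008) (Steps.bwd (nat_lit 6) Steps.nil)))))))) (nat_lit 79) (nat_lit 2),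
  Rule.mk (nat_lit 4) (nat_lit 154) (Steps.fwd (nat_lit 262144) (Steps.fwd (nat_lit 1835008) (Steps.bwd (nat_lit 4) (Steps.fwd (nat_lit 262144) (Steps.bwd (nat_lit 4) (Steps.fwd (nat_lit 1835008) (Steps.fwd (nat_lit 262144) Steps.nil))))))) (nat_lit 76) (nat_lit 2),
  Rule.mk (nat_lit 0) (nat_lit 174) (Steps.bwd (nat_lit 7) (Steps.bwd (nat_lit 1) (Steps.fwd (nat_lit 1048576) (Steps.bwd (nat_lit 1) (Steps.fwd (nat_lit 1835008) (Steps.fwd (nat_lit 1048576) (Steps.bwd (nat_lit 1) (Steps.fwd (nat_lit 1048576) Steps.nil)))))))) (nat_lit 76) (nat_lit 7),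
  Rule.mk (nat_lit 4) (nat_lit 154) (Steps.bwd (nat_lit 6) (Steps.fwd (nat_lit 1835008) (Steps.bwd (nat_lit 2) (Steps.bwd (nat_lit 4) (Steps.fwd (nat_lit 1310720) (Steps.bwd (nat_lit 7) (Steps.fwd (nat_lit 786432) Steps.nil))))))) (nat_lit 78) (nat_lit 6),
  Rule.mk (nat_lit 0) (nat_lit 174) (Steps.bwd (nat_lit 1) (Steps.bwd (nat_lit 3) (Steps.bwd (nat_lit 1) (Steps.fwd (nat_lit 1310720) (Steps.bwd (nat_lit 3) (Steps.fwd (nat_lit 262144) (Steps.bwd (nat_lit 3) (Steps.fwd (nat_lit 1310720) Steps.nil)))))))) (nat_lit 71) (nat_lit 5),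
  Rule.mk (nat_lit 1) (nat_lit 154) (Steps.fwd (nat_lit 524288) (Steps.bwd (nat_lit 7) (Steps.bwd (nat_lit 1) (Steps.fwd (nat_lit 524288) (Steps.bwd (nat_lit 1) (Steps.fwd (nat_lit 1835008) (Steps.bwd (nat_lit 3) Steps.nil))))))) (nat_lit 73) (nat_lit 3),
  Rule.mk (nat_lit 4) (nat_lit 154) (Steps.fwd (nat_lit 262144) (Steps.bwd (nat_lit 6) (Steps.fwd (nat_lit 262144) (Steps.fwd (nat_lit 1048576) (Steps.bwd (nat_lit 1) (Steps.fwd (nat_lit 1572864) (Steps.bwd (nat_lit 1) Steps.nil))))))) (nat_lit 74) (nat_lit 2),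
  Rule.mk (nat_lit 4) (nat_lit 314) (Steps.bwd (nat_lit 9) (Steps.fwd (nat_lit 1048576) (Steps.fwd (nat_lit 2359296) (Steps.fwd (nat_lit 1048576) (Steps.bwd (nat_lit 9) (Steps.bwd (nat_lit 4) (Steps.bwd (nat_lit 8) (Steps.bwd (nat_lit 4) (Steps.bwd (nat_lit 9) (Steps.bwd (nat_lit 4) (Steps.bwd (nat_lit 8) (Steps.fwd (nat_lit 1048576) (Steps.fwd (nat_lit 2097152) (Steps.bwd (nat_lit 4) (Steps.fwd (nat_lit 2359296) Steps.nil))))))))))))))) (nat_lit 106) (nat_lit 2),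
  Rule.mk (nat_lit 0) (nat_lit 94) (Steps.bwd (nat_lit 4) (Steps.bwd (nat_lit 6) (Steps.bwd (nat_lit 4) (Steps.fwd (nat_lit 1310720) Steps.nil)))) (nat_lit 22) (nat_lit 2),
  Rule.mk (nat_lit 6) (nat_lit 114) (Steps.bwd (nat_lit 4) (Steps.bwd (nat_lit 2) (Steps.bwd (nat_lit 5) (Steps.bwd (nat_lit 4) (Steps.bwd (nat_lit 2) Steps.nil))))) (nat_lit 58) (nat_lit 5),
  Rule.mk (nat_lit 0) (nat_lit 134) (Steps.bwd (nat_lit 4) (Steps.bwd (nat_lit 7) (Steps.bwd (nat_lit 5) (Steps.bwd (nat_lit 4) (Steps.fwd (nat_lit 1835008) (Steps.fwd (nat_lit 1572864) Steps.nil)))))) (nat_lit 67) (nat_lit 2),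
  Rule.mk (nat_lit 4) (nat_lit 154) (Steps.bwd (nat_lit 6) (Steps.bwd (nat_lit 7) (Steps.bwd (nat_lit 2) (Steps.bwd (nat_lit 4) (Steps.fwd (nat_lit 1310720) (Steps.bwd (nat_lit 7) (Steps.bwd (nat_lit 2) Steps.nil))))))) (nat_lit 78) (nat_lit 6),
  Rule.mk (nat_lit 3) (nat_lit 154) (Steps.bwd (nat_lit 4) (Steps.fwd (nat_lit 1835008) (Steps.bwd (nat_lit 6) (Steps.bwd (nat_lit 3) (Steps.bwd (nat_lit 4) (Steps.fwd (nat_lit 1835008) (Steps.bwd (nat_lit 5) Steps.nil))))))) (nat_lit 89) (nat_lit 0),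
  Rule.mk (nat_lit 5) (nat_lit 154) (Steps.bwd (nat_lit 4) (Steps.fwd (nat_lit 1835008) (Steps.fwd (nat_lit 524288) (Steps.bwd (nat_lit 6) (Steps.bwd (nat_lit 4) (Steps.fwd (nat_lit 1835008) (Steps.bwd (nat_lit 3) Steps.nil))))))) (nat_lit 91) (nat_lit 5),
  Rule.mk (nat_lit 3) (nat_lit 74) (Steps.fwd (nat_lit 1310720) (Steps.bwd (nat_lit 2) (Steps.bwd (nat_lit 5) Steps.nil))) (nat_lit 20) (nat_lit 3),
  Rule.mk (nat_lit 2) (nat_lit 154) (Steps.bwd (nat_lit 1) (Steps.bwd (nat_lit 5) (Steps.fwd (nat_lit 786432) (Steps.bwd (nat_lit 1) (Steps.bwd (nat_lit 2) (Steps.bwd (nat_lit 5) (Steps.bwd (nat_lit 1) Steps.nil))))))) (nat_lit 70) (nat_lit 2)]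
noncomputable def R_67 : List (Rule) := [Rule.mk (nat_lit 6) (nat_lit 154) (Steps.bwd (nat_lit 2) (Steps.fwd (nat_lit 1310720) (Steps.fwd (nat_lit 786432) (Steps.bwd (nat_lit 7) (Steps.fwd (nat_lit 1572864) (Steps.bwd (nat_lit 2) (Steps.bwd (nat_lit 5) Steps.nil))))))) (nat_lit 84) (nat_lit 0),
  Rule.mk (nat_lit 3) (nat_lit 154) (Steps.fwd (nat_lit 1572864) (Steps.fwd (nat_lit 1835008) (Steps.fwd (nat_lit 524288) (Steps.bwd (nat_lit 5) (Steps.bwd (nat_lit 3) (Steps.bwd (nat_lit 6) (Steps.bwd (nat_lit 5) Steps.nil))))))) (nat_lit 85) (nat_lit 3),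
  Rule.mk (nat_lit 4) (nat_lit 154) (Steps.bwd (nat_lit 3) (Steps.fwd (nat_lit 1835008) (Steps.bwd (nat_lit 6) (Steps.fwd (nat_lit 1048576) (Steps.bwd (nat_lit 3) (Steps.bwd (nat_lit 7) (Steps.bwd (nat_lit 5) Steps.nil))))))) (nat_lit 79) (nat_lit 7),
  Rule.mk (nat_lit 5) (nat_lit 154) (Steps.bwd (nat_lit 7) (Steps.fwd (nat_lit 1048576) (Steps.bwd (nat_lit 3) (Steps.fwd (nat_lit 1572864) (Steps.fwd (nat_lit 1835008) (Steps.bwd (nat_lit 4) (Steps.fwd (nat_lit 524288) Steps.nil))))))) (nat_lit 81) (nat_lit 5),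
  Rule.mk (nat_lit 6) (nat_lit 94) (Steps.fwd (nat_lit 1310720) (Steps.bwd (nat_lit 7) (Steps.fwd (nat_lit 1572864) (Steps.bwd (nat_lit 5) Steps.nil)))) (nat_lit 24) (nat_lit 3),
  Rule.mk (nat_lit 0) (nat_lit 294) (Steps.bwd (nat_lit 6) (Steps.bwd (nat_lit 1) (Steps.fwd (nat_lit 786432) (Steps.bwd (nat_lit 1) (Steps.bwd (nat_lit 6) (Steps.fwd (nat_lit 262144) (Steps.fwd (nat_lit 1572864) (Steps.fwd (nat_lit 1310720) (Steps.bwd (nat_lit 2) (Steps.fwd (nat_lit 262144) (Steps.bwd (nat_lit 6) (Steps.bwd (nat_lit 1) (Steps.fwd (nat_lit 786432) (Steps.fwd (nat_lit 262144) Steps.nil)))))))))))))) (nat_lit 34) (nat_lit 6),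
  Rule.mk (nat_lit 1) (nat_lit 274) (Steps.bwd (nat_lit 6) (Steps.fwd (nat_lit 262144) (Steps.bwd (nat_lit 3) (Steps.bwd (nat_lit 1) (Steps.fwd (nat_lit 1572864) (Steps.bwd (nat_lit 1) (Steps.bwd (nat_lit 3) (Steps.fwd (nat_lit 1310720) (Steps.bwd (nat_lit 6) (Steps.bwd (nat_lit 1) (Steps.bwd (nat_lit 6) (Steps.fwd (nat_lit 262144) (Steps.fwd (nat_lit 524288) Steps.nil))))))))))))) (nat_lit 35) (nat_lit 7),
  Rule.mk (nat_lit 1) (nat_lit 154) (Steps.bwd (nat_lit 2) (Steps.bwd (nat_lit 1) (Steps.bwd (nat_lit 5) (Steps.bwd (nat_lit 2) (Steps.bwd (nat_lit 1) (Steps.bwd (nat_lit 2) (Steps.fwd (nat_lit 1310720) Steps.nil))))))) (nat_lit 70) (nat_lit 1),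
  Rule.mk (nat_lit 1) (nat_lit 274) (Steps.fwd (nat_lit 1572864) (Steps.bwd (nat_lit 1) (Steps.bwd (nat_lit 2) (Steps.fwd (nat_lit 262144) (Steps.bwd (nat_lit 6) (Steps.bwd (nat_lit 1) (Steps.bwd (nat_lit 2) (Steps.bwd (nat_lit 1) (Steps.bwd (nat_lit 6) (Steps.fwd (nat_lit 262144) (Steps.bwd (nat_lit 6) (Steps.fwd (nat_lit 1310720) (Steps.bwd (nat_lit 2) Steps.nil))))))))))))) (nat_lit 34) (nat_lit 2),
  Rule.mk (nat_lit 1) (nat_lit 274) (Steps.fwd (nat_lit 1572864) (Steps.fwd (nat_lit 262144) (Steps.fwd (nat_lit 524288) (Steps.bwd (nat_lit 1) (Steps.bwd (nat_lit 6) (Steps.fwd (nat_lit 262144) (Steps.fwd (nat_lit 524288) (Steps.bwd (nat_lit 1) (Steps.bwd (nat_lit 6) (Steps.fwd (nat_lit 262144) (Steps.bwd (nat_lit 3) (Steps.fwd (nat_lit 1310720) (Steps.bwd (nat_lit 6) Steps.nil))))))))))))) (nat_lit 35) (nat_lit 3),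
  Rule.mk (nat_lit 1) (nat_lit 274) (Steps.bwd (nat_lit 3) (Steps.fwd (nat_lit 1310720) (Steps.bwd (nat_lit 6) (Steps.bwd (nat_lit 1) (Steps.bwd (nat_lit 6) (Steps.fwd (nat_lit 262144) (Steps.bwd (nat_lit 3) (Steps.bwd (nat_lit 1) (Steps.fwd (nat_lit 1572864) (Steps.bwd (nat_lit 1) (Steps.bwd (nat_lit 3) (Steps.bwd (nat_lit 1) (Steps.bwd (nat_lit 6) Steps.nil))))))))))))) (nat_lit 35) (nat_lit 13),
  Rule.mk (nat_lit 2) (nat_lit 154) (Steps.bwd (nat_lit 1) (Steps.bwd (nat_lit 3) (Steps.fwd (nat_lit 262144) (Steps.fwd (nat_lit 786432) (Steps.fwd (nat_lit 262144) (Steps.fwd (nat_lit 524288) (Steps.fwd (nat_lit 262144) Steps.nil))))))) (nat_lit 68) (nat_lit 2),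
  Rule.mk (nat_lit 6) (nat_lit 154) (Steps.bwd (nat_lit 2) (Steps.fwd (nat_lit 1310720) (Steps.bwd (nat_lit 6) (Steps.bwd (nat_lit 2) (Steps.bwd (nat_lit 5) (Steps.bwd (nat_lit 2) (Steps.bwd (nat_lit 7) Steps.nil))))))) (nat_lit 84) (nat_lit 5),
  Rule.mk (nat_lit 0) (nat_lit 294) (Steps.bwd (nat_lit 6) (Steps.fwd (nat_lit 262144) (Steps.bwd (nat_lit 2) (Steps.bwd (nat_lit 1) (Steps.fwd (nat_lit 1572864) (Steps.fwd (nat_lit 262144) (Steps.fwd (nat_lit 786432) (Steps.bwd (nat_lit 1) (Steps.fwd (nat_lit 1572864) (Steps.fwd (nat_lit 262144) (Steps.bwd (nat_lit 6) (Steps.fwd (nat_lit 1310720) (Steps.bwd (nat_lit 2) (Steps.fwd (nat_lit 262144) Steps.nil)))))))))))))) (nat_lit 34) (nat_lit 2),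
  Rule.mk (nat_lit 1) (nat_lit 274) (Steps.fwd (nat_lit 1572864) (Steps.fwd (nat_lit 262144) (Steps.bwd (nat_lit 2) (Steps.fwd (nat_lit 262144) (Steps.fwd (nat_lit 1572864) (Steps.bwd (nat_lit 1) (Steps.bwd (nat_lit 2) (Steps.fwd (nat_lit 262144) (Steps.fwd (nat_lit 1572864) (Steps.bwd (nat_lit 1) (Steps.fwd (nat_lit 1572864) (Steps.bwd (nat_lit 5) (Steps.bwd (nat_lit 2) Steps.nil))))))))))))) (nat_lit 34) (nat_lit 2),
  Rule.mk (nat_lit 0) (nat_lit 294) (Steps.bwd (nat_lit 1) (Steps.bwd (nat_lit 6) (Steps.fwd (nat_lit 262144) (Steps.fwd (nat_lit 1572864) (Steps.bwd (nat_lit 5) (Steps.bwd (nat_lit 2) (Steps.fwd (nat_lit 262144) (Steps.fwd (nat_lit 1572864) (Steps.bwd (nat_lit 1) (Steps.bwd (nat_lit 2) (Steps.fwd (nat_lit 262144) (Steps.fwd (nat_lit 1572864) (Steps.bwd (nat_lit 1) (Steps.fwd (nat_lit 786432) Steps.nil)))))))))))))) (nat_lit 34) (nat_lit 9),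
  Rule.mk (nat_lit 6) (nat_lit 274) (Steps.bwd (nat_lit 1) (Steps.bwd (nat_lit 3) (Steps.fwd (nat_lit 1310720) (Steps.bwd (nat_lit 6) (Steps.fwd (nat_lit 262144) (Steps.bwd (nat_lit 6) (Steps.bwd (nat_lit 1) (Steps.fwd (nat_lit 524288) (Steps.bwd (nat_lit 1) (Steps.bwd (nat_lit 6) (Steps.fwd (nat_lit 262144) (Steps.fwd (nat_lit 524288) (Steps.fwd (nat_lit 262144) Steps.nil))))))))))))) (nat_lit 35) (nat_lit 12),
  Rule.mk (nat_lit 3) (nat_lit 114) (Steps.bwd (nat_lit 6) (Steps.bwd (nat_lit 7) (Steps.bwd (nat_lit 2) (Steps.bwd (nat_lit 6) (Steps.bwd (nat_lit 7) Steps.nil))))) (nat_lit 62) (nat_lit 4),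
  Rule.mk (nat_lit 1) (nat_lit 274) (Steps.fwd (nat_lit 786432) (Steps.fwd (nat_lit 262144) (Steps.bwd (nat_lit 6) (Steps.bwd (nat_lit 1) (Steps.bwd (nat_lit 2) (Steps.bwd (nat_lit 1) (Steps.bwd (nat_lit 6) (Steps.fwd (nat_lit 262144) (Steps.bwd (nat_lit 6) (Steps.bwd (nat_lit 5) (Steps.fwd (nat_lit 786432) (Steps.fwd (nat_lit 262144) (Steps.bwd (nat_lit 6) Steps.nil))))))))))))) (nat_lit 34) (nat_lit 4),
  Rule.mk (nat_lit 1) (nat_lit 274) (Steps.bwd (nat_lit 6) (Steps.fwd (nat_lit 1310720) (Steps.fwd (nat_lit 786432) (Steps.fwd (nat_lit 262144) (Steps.bwd (nat_lit 6) (Steps.bwd (nat_lit 1) (Steps.bwd (nat_lit 2) (Steps.bwd (nat_lit 1) (Steps.bwd (nat_lit 6) (Steps.fwd (nat_lit 262144) (Steps.bwd (nat_lit 2) (Steps.fwd (nat_lit 262144) (Steps.bwd (nat_lit 6) Steps.nil))))))))))))) (nat_lit 34) (nat_lit 12),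
  Rule.mk (nat_lit 1) (nat_lit 274) (Steps.fwd (nat_lit 524288) (Steps.bwd (nat_lit 5) (Steps.fwd (nat_lit 1572864) (Steps.fwd (nat_lit 262144) (Steps.fwd (nat_lit 1572864) (Steps.bwd (nat_lit 1) (Steps.bwd (nat_lit 3) (Steps.fwd (nat_lit 262144) (Steps.fwd (nat_lit 1572864) (Steps.bwd (nat_lit 1) (Steps.bwd (nat_lit 3) (Steps.bwd (nat_lit 1) (Steps.bwd (nat_lit 6) Steps.nil))))))))))))) (nat_lit 35) (nat_lit 13),
  Rule.mk (nat_lit 0) (nat_lit 294) (Steps.bwd (nat_lit 6) (Steps.bwd (nat_lit 1) (Steps.bwd (nat_lit 3) (Steps.fwd (nat_lit 1310720) (Steps.bwd (nat_lit 6) (Steps.bwd (nat_lit 1) (Steps.bwd (nat_lit 6) (Steps.bwd (nat_lit 1) (Steps.fwd (nat_lit 524288) (Steps.fwd (nat_lit 262144) (Steps.fwd (nat_lit 1572864) (Steps.bwd (nat_lit 1) (Steps.fwd (nat_lit 524288) (Steps.fwd (nat_lit 262144) Steps.nil)))))))))))))) (nat_lit 35) (nat_lit 11),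
  Rule.mk (nat_lit 1) (nat_lit 154) (Steps.fwd (nat_lit 524288) (Steps.fwd (nat_lit 262144) (Steps.bwd (nat_lit 2) (Steps.bwd (nat_lit 1) (Steps.bwd (nat_lit 3) (Steps.bwd (nat_lit 1) (Steps.bwd (nat_lit 2) Steps.nil))))))) (nat_lit 68) (nat_lit 3),
  Rule.mk (nat_lit 2) (nat_lit 274) (Steps.bwd (nat_lit 1) (Steps.fwd (nat_lit 1572864) (Steps.fwd (nat_lit 262144) (Steps.bwd (nat_lit 2) (Steps.bwd (nat_lit 1) (Steps.fwd (nat_lit 1572864) (Steps.bwd (nat_lit 1) (Steps.bwd (nat_lit 6) (Steps.bwd (nat_lit 5) (Steps.bwd (nat_lit 2) (Steps.bwd (nat_lit 1) (Steps.bwd (nat_lit 6) (Steps.bwd (nat_lit 1) Steps.nil))))))))))))) (nat_lit 34) (nat_lit 5),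
  Rule.mk (nat_lit 0) (nat_lit 134) (Steps.bwd (nat_lit 1) (Steps.fwd (nat_lit 786432) (Steps.bwd (nat_lit 1) (Steps.bwd (nat_lit 2) (Steps.bwd (nat_lit 1) (Steps.bwd (nat_lit 2) Steps.nil)))))) (nat_lit 12) (nat_lit 0),
  Rule.mk (nat_lit 6) (nat_lit 114) (Steps.bwd (nat_lit 7) (Steps.bwd (nat_lit 3) (Steps.fwd (nat_lit 1572864) (Steps.bwd (nat_lit 7) (Steps.bwd (nat_lit 2) Steps.nil))))) (nat_lit 62) (nat_lit 2),
  Rule.mk (nat_lit 6) (nat_lit 154) (Steps.fwd (nat_lit 1310720) (Steps.bwd (nat_lit 2) (Steps.fwd (nat_lit 1572864) (Steps.bwd (nat_lit 7) (Steps.bwd (nat_lit 2) (Steps.fwd (nat_lit 1310720) (Steps.fwd (nat_lit 786432) Steps.nil))))))) (nat_lit 82) (nat_lit 4),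
  Rule.mk (nat_lit 6) (nat_lit 74) (Steps.fwd (nat_lit 786432) (Steps.bwd (nat_lit 6) (Steps.fwd (nat_lit 524288) Steps.nil))) (nat_lit 40) (nat_lit 0),
  Rule.mk (nat_lit 4) (nat_lit 114) (Steps.bwd (nat_lit 5) (Steps.bwd (nat_lit 3) (Steps.fwd (nat_lit 1048576) (Steps.bwd (nat_lit 6) (Steps.fwd (nat_lit 524288) Steps.nil))))) (nat_lit 59) (nat_lit 4),
  Rule.mk (nat_lit 6) (nat_lit 274) (Steps.bwd (nat_lit 1) (Steps.fwd (nat_lit 524288) (Steps.fwd (nat_lit 262144) (Steps.bwd (nat_lit 6) (Steps.bwd (nat_lit 1) (Steps.fwd (nat_lit 524288) (Steps.fwd (nat_lit 1310720) (Steps.bwd (nat_lit 6) (Steps.fwd (nat_lit 262144) (Steps.bwd (nat_lit 6) (Steps.bwd (nat_lit 1) (Steps.fwd (nat_lit 524288) (Steps.fwd (nat_lit 262144) Steps.nil))))))))))))) (nat_lit 35) (nat_lit 8),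
  Rule.mk (nat_lit 3) (nat_lit 74) (Steps.fwd (nat_lit 1572864) (Steps.bwd (nat_lit 2) (Steps.bwd (nat_lit 6) Steps.nil))) (nat_lit 40) (nat_lit 3),
  Rule.mk (nat_lit 3) (nat_lit 114) (Steps.fwd (nat_lit 1572864) (Steps.fwd (nat_lit 1835008) (Steps.bwd (nat_lit 2) (Steps.bwd (nat_lit 6) (Steps.fwd (nat_lit 1835008) Steps.nil))))) (nat_lit 62) (nat_lit 4),
  Rule.mk (nat_lit 2) (nat_lit 154) (Steps.bwd (nat_lit 5) (Steps.fwd (nat_lit 786432) (Steps.fwd (nat_lit 1572864) (Steps.fwd (nat_lit 1310720) (Steps.bwd (nat_lit 2) (Steps.bwd (nat_lit 6) (Steps.fwd (nat_lit 1835008) Steps.nil))))))) (nat_lit 82) (nat_lit 1),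
  Rule.mk (nat_lit 1) (nat_lit 154) (Steps.fwd (nat_lit 786432) (Steps.fwd (nat_lit 262144) (Steps.fwd (nat_lit 1835008) (Steps.bwd (nat_lit 2) (Steps.bwd (nat_lit 1) (Steps.bwd (nat_lit 2) (Steps.bwd (nat_lit 7) Steps.nil))))))) (nat_lit 72) (nat_lit 1),
  Rule.mk (nat_lit 4) (nat_lit 154) (Steps.fwd (nat_lit 786432) (Steps.fwd (nat_lit 1572864) (Steps.fwd (nat_lit 1835008) (Steps.bwd (nat_lit 4) (Steps.bwd (nat_lit 2) (Steps.bwd (nat_lit 5) (Steps.bwd (nat_lit 7) Steps.nil))))))) (nat_lit 88) (nat_lit 4),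
  Rule.mk (nat_lit 1) (nat_lit 154) (Steps.bwd (nat_lit 4) (Steps.bwd (nat_lit 7) (Steps.fwd (nat_lit 262144) (Steps.bwd (nat_lit 4) (Steps.fwd (nat_lit 262144) (Steps.bwd (nat_lit 7) (Steps.bwd (nat_lit 4) Steps.nil))))))) (nat_lit 76) (nat_lit 6),
  Rule.mk (nat_lit 4) (nat_lit 314) (Steps.fwd (nat_lit 2359296) (Steps.fwd (nat_lit 1048576) (Steps.fwd (nat_lit 2097152) (Steps.fwd (nat_lit 1048576) (Steps.fwd (nat_lit 2359296) (Steps.bwd (nat_lit 4) (Steps.fwd (nat_lit 2097152) (Steps.fwd (nat_lit 1048576) (Steps.fwd (nat_lit 2359296) (Steps.bwd (nat_lit 4) (Steps.fwd (nat_lit 2097152) (Steps.fwd (nat_lit 1048576) (Steps.fwd (nat_lit 2359296) (Steps.bwd (nat_lit 4) (Steps.bwd (nat_lit 9) Steps.nil))))))))))))))) (nat_lit 106) (nat_lit 0),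
  Rule.mk (nat_lit 0) (nat_lit 134) (Steps.fwd (nat_lit 1310720) (Steps.bwd (nat_lit 2) (Steps.fwd (nat_lit 1048576) (Steps.fwd (nat_lit 1572864) (Steps.bwd (nat_lit 2) (Steps.fwd (nat_lit 1048576) Steps.nil)))))) (nat_lit 54) (nat_lit 2),
  Rule.mk (nat_lit 4) (nat_lit 154) (Steps.bwd (nat_lit 1) (Steps.bwd (nat_lit 4) (Steps.bwd (nat_lit 7) (Steps.fwd (nat_lit 262144) (Steps.fwd (nat_lit 1048576) (Steps.fwd (nat_lit 262144) (Steps.fwd (nat_lit 1835008) Steps.nil))))))) (nat_lit 76) (nat_lit 5),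
  Rule.mk (nat_lit 4) (nat_lit 154) (Steps.bwd (nat_lit 1) (Steps.fwd (nat_lit 1835008) (Steps.bwd (nat_lit 4) (Steps.bwd (nat_lit 1) (Steps.fwd (nat_lit 1048576) (Steps.fwd (nat_lit 1835008) (Steps.fwd (nat_lit 262144) Steps.nil))))))) (nat_lit 76) (nat_lit 2),
  Rule.mk (nat_lit 2) (nat_lit 74) (Steps.fwd (nat_lit 1048576) (Steps.fwd (nat_lit 786432) (Steps.bwd (nat_lit 4) Steps.nil))) (nat_lit 14) (nat_lit 0),
  Rule.mk (nat_lit 2) (nat_lit 114) (Steps.fwd (nat_lit 1048576) (Steps.fwd (nat_lit 1572864) (Steps.fwd (nat_lit 786432) (Steps.bwd (nat_lit 4) (Steps.bwd (nat_lit 5) Steps.nil))))) (nat_lit 54) (nat_lit 4),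
  Rule.mk (nat_lit 4) (nat_lit 114) (Steps.bwd (nat_lit 3) (Steps.bwd (nat_lit 7) (Steps.bwd (nat_lit 4) (Steps.fwd (nat_lit 524288) (Steps.bwd (nat_lit 7) Steps.nil))))) (nat_lit 57) (nat_lit 2),
  Rule.mk (nat_lit 1) (nat_lit 114) (Steps.fwd (nat_lit 1048576) (Steps.bwd (nat_lit 1) (Steps.bwd (nat_lit 4) (Steps.fwd (nat_lit 262144) (Steps.bwd (nat_lit 4) Steps.nil))))) (nat_lit 16) (nat_lit 1),
  Rule.mk (nat_lit 7) (nat_lit 154) (Steps.bwd (nat_lit 1) (Steps.bwd (nat_lit 2) (Steps.bwd (nat_lit 1) (Steps.fwd (nat_lit 1835008) (Steps.fwd (nat_lit 786432) (Steps.fwd (nat_lit 262144) (Steps.fwd (nat_lit 786432) Steps.nil))))))) (nat_lit 72) (nat_lit 0),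
  Rule.mk (nat_lit 5) (nat_lit 74) (Steps.fwd (nat_lit 2359296) (Steps.bwd (nat_lit 7) (Steps.bwd (nat_lit 9) Steps.nil))) (nat_lit 98) (nat_lit 0),
  Rule.mk (nat_lit 4) (nat_lit 314) (Steps.bwd (nat_lit 8) (Steps.bwd (nat_lit 4) (Steps.bwd (nat_lit 9) (Steps.fwd (nat_lit 1048576) (Steps.bwd (nat_lit 8) (Steps.fwd (nat_lit 1048576) (Steps.bwd (nat_lit 9) (Steps.bwd (nat_lit 4) (Steps.fwd (nat_lit 2359296) (Steps.bwd (nat_lit 4) (Steps.fwd (nat_lit 2097152) (Steps.bwd (nat_lit 4) (Steps.fwd (nat_lit 2359296) (Steps.fwd (nat_lit 1048576) (Steps.fwd (nat_lit 2097152) Steps.nil))))))))))))))) (nat_lit 106) (nat_lit 0),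
  Rule.mk (nat_lit 0) (nat_lit 94) (Steps.bwd (nat_lit 2) (Steps.fwd (nat_lit 1048576) (Steps.fwd (nat_lit 786432) (Steps.fwd (nat_lit 1048576) Steps.nil)))) (nat_lit 14) (nat_lit 1),
  Rule.mk (nat_lit 6) (nat_lit 114) (Steps.fwd (nat_lit 1048576) (Steps.fwd (nat_lit 524288) (Steps.bwd (nat_lit 5) (Steps.bwd (nat_lit 4) (Steps.bwd (nat_lit 3) Steps.nil))))) (nat_lit 55) (nat_lit 1),
  Rule.mk (nat_lit 4) (nat_lit 314) (Steps.bwd (nat_lit 8) (Steps.fwd (nat_lit 1048576) (Steps.fwd (nat_lit 2097152) (Steps.bwd (nat_lit 4) (Steps.fwd (nat_lit 2359296) (Steps.bwd (nat_lit 4) (Steps.fwd (nat_lit 2097152) (Steps.fwd (nat_lit 1048576) (Steps.bwd (nat_lit 8) (Steps.fwd (nat_lit 1048576) (Steps.bwd (nat_lit 9) (Steps.bwd (nat_lit 4) (Steps.fwd (nat_lit 2359296) (Steps.bwd (nat_lit 4) (Steps.bwd (nat_lit 9) Steps.nil))))))))))))))) (nat_lit 106) (nat_lit 0),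
  Rule.mk (nat_lit 4) (nat_lit 154) (Steps.bwd (nat_lit 1) (Steps.fwd (nat_lit 1835008) (Steps.bwd (nat_lit 4) (Steps.fwd (nat_lit 262144) (Steps.fwd (nat_lit 1048576) (Steps.fwd (nat_lit 1835008) (Steps.fwd (nat_lit 262144) Steps.nil))))))) (nat_lit 76) (nat_lit 2),
  Rule.mk (nat_lit 4) (nat_lit 154) (Steps.fwd (nat_lit 262144) (Steps.fwd (nat_lit 1572864) (Steps.fwd (nat_lit 262144) (Steps.bwd (nat_lit 4) (Steps.bwd (nat_lit 1) (Steps.fwd (nat_lit 1572864) (Steps.fwd (nat_lit 262144) Steps.nil))))))) (nat_lit 74) (nat_lit 2),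
  Rule.mk (nat_lit 4) (nat_lit 154) (Steps.bwd (nat_lit 3) (Steps.fwd (nat_lit 1835008) (Steps.fwd (nat_lit 1572864) (Steps.bwd (nat_lit 4) (Steps.bwd (nat_lit 3) (Steps.bwd (nat_lit 7) (Steps.fwd (nat_lit 1310720) Steps.nil))))))) (nat_lit 79) (nat_lit 7),
  Rule.mk (nat_lit 4) (nat_lit 314) (Steps.fwd (nat_lit 2097152) (Steps.fwd (nat_lit 1048576) (Steps.fwd (nat_lit 2359296) (Steps.bwd (nat_lit 4) (Steps.bwd (nat_lit 9) (Steps.fwd (nat_lit 1048576) (Steps.fwd (nat_lit 2359296) (Steps.fwd (nat_lit 1048576) (Steps.fwd (nat_lit 2097152) (Steps.fwd (nat_lit 1048576) (Steps.fwd (nat_lit 2359296) (Steps.bwd (nat_lit 4) (Steps.fwd (nat_lit 2097152) (Steps.bwd (nat_lit 4) (Steps.fwd (nat_lit 2359296) Steps.nil))))))))))))))) (nat_lit 106) (nat_lit 2),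
  Rule.mk (nat_lit 0) (nat_lit 94) (Steps.bwd (nat_lit 4) (Steps.bwd (nat_lit 5) (Steps.bwd (nat_lit 4) (Steps.fwd (nat_lit 1572864) Steps.nil)))) (nat_lit 22) (nat_lit 0),
  Rule.mk (nat_lit 0) (nat_lit 94) (Steps.bwd (nat_lit 4) (Steps.bwd (nat_lit 7) (Steps.bwd (nat_lit 4) (Steps.bwd (nat_lit 7) Steps.nil)))) (nat_lit 30) (nat_lit 1),
  Rule.mk (nat_lit 6) (nat_lit 114) (Steps.bwd (nat_lit 4) (Steps.bwd (nat_lit 3) (Steps.fwd (nat_lit 1310720) (Steps.fwd (nat_lit 1048576) (Steps.fwd (nat_lit 524288) Steps.nil))))) (nat_lit 55) (nat_lit 1),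
  Rule.mk (nat_lit 4) (nat_lit 154) (Steps.bwd (nat_lit 5) (Steps.fwd (nat_lit 1835008) (Steps.bwd (nat_lit 2) (Steps.bwd (nat_lit 4) (Steps.fwd (nat_lit 1572864) (Steps.bwd (nat_lit 7) (Steps.fwd (nat_lit 786432) Steps.nil))))))) (nat_lit 78) (nat_lit 2),
  Rule.mk (nat_lit 4) (nat_lit 154) (Steps.bwd (nat_lit 7) (Steps.bwd (nat_lit 6) (Steps.bwd (nat_lit 2) (Steps.bwd (nat_lit 4) (Steps.bwd (nat_lit 7) (Steps.fwd (nat_lit 1310720) (Steps.bwd (nat_lit 2) Steps.nil))))))) (nat_lit 80) (nat_lit 6),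
  Rule.mk (nat_lit 2) (nat_lit 154) (Steps.fwd (nat_lit 1572864) (Steps.bwd (nat_lit 7) (Steps.bwd (nat_lit 4) (Steps.fwd (nat_lit 786432) (Steps.fwd (nat_lit 1310720) (Steps.fwd (nat_lit 1835008) (Steps.bwd (nat_lit 4) Steps.nil))))))) (nat_lit 88) (nat_lit 5),
  Rule.mk (nat_lit 6) (nat_lit 154) (Steps.fwd (nat_lit 786432) (Steps.bwd (nat_lit 7) (Steps.bwd (nat_lit 4) (Steps.fwd (nat_lit 1310720) (Steps.fwd (nat_lit 786432) (Steps.fwd (nat_lit 1835008) (Steps.bwd (nat_lit 4) Steps.nil))))))) (nat_lit 90) (nat_lit 0),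
  Rule.mk (nat_lit 2) (nat_lit 114) (Steps.bwd (nat_lit 5) (Steps.bwd (nat_lit 4) (Steps.fwd (nat_lit 786432) (Steps.bwd (nat_lit 6) (Steps.fwd (nat_lit 1048576) Steps.nil))))) (nat_lit 58) (nat_lit 1),
  Rule.mk (nat_lit 4) (nat_lit 154) (Steps.fwd (nat_lit 1310720) (Steps.bwd (nat_lit 7) (Steps.fwd (nat_lit 786432) (Steps.bwd (nat_lit 4) (Steps.bwd (nat_lit 6) (Steps.fwd (nat_lit 1835008) (Steps.bwd (nat_lit 2) Steps.nil))))))) (nat_lit 78) (nat_lit 2),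
  Rule.mk (nat_lit 8) (nat_lit 314) (Steps.fwd (nat_lit 1048576) (Steps.bwd (nat_lit 9) (Steps.bwd (nat_lit 4) (Steps.bwd (nat_lit 8) (Steps.bwd (nat_lit 4) (Steps.bwd (nat_lit 9) (Steps.fwd (nat_lit 1048576) (Steps.bwd (nat_lit 8) (Steps.bwd (nat_lit 4) (Steps.fwd (nat_lit 2097152) (Steps.fwd (nat_lit 1048576) (Steps.fwd (nat_lit 2359296) (Steps.bwd (nat_lit 4) (Steps.fwd (nat_lit 2097152) (Steps.fwd (nat_lit 1048576) Steps.nil))))))))))))))) (nat_lit 106) (nat_lit 1)]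
noncomputable def R_68 : List (Rule) := [Rule.mk (nat_lit 0) (nat_lit 334) (Steps.bwd (nat_lit 9) (Steps.bwd (nat_lit 4) (Steps.fwd (nat_lit 2359296) (Steps.fwd (nat_lit 1048576) (Steps.bwd (nat_lit 9) (Steps.bwd (nat_lit 4) (Steps.fwd (nat_lit 2359296) (Steps.bwd (nat_lit 4) (Steps.fwd (nat_lit 2097152) (Steps.fwd (nat_lit 1048576) (Steps.bwd (nat_lit 8) (Steps.bwd (nat_lit 4) (Steps.bwd (nat_lit 9) (Steps.fwd (nat_lit 1048576) (Steps.fwd (nat_lit 2359296) (Steps.fwd (nat_lit 1048576) Steps.nil)))))))))))))))) (nat_lit 106) (nat_lit 2),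
  Rule.mk (nat_lit 9) (nat_lit 314) (Steps.bwd (nat_lit 4) (Steps.fwd (nat_lit 2359296) (Steps.bwd (nat_lit 4) (Steps.bwd (nat_lit 9) (Steps.bwd (nat_lit 4) (Steps.fwd (nat_lit 2359296) (Steps.fwd (nat_lit 1048576) (Steps.bwd (nat_lit 9) (Steps.bwd (nat_lit 4) (Steps.fwd (nat_lit 2359296) (Steps.fwd (nat_lit 1048576) (Steps.fwd (nat_lit 2097152) (Steps.bwd (nat_lit 4) (Steps.fwd (nat_lit 2359296) (Steps.fwd (nat_lit 1048576) Steps.nil))))))))))))))) (nat_lit 106) (nat_lit 3),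
  Rule.mk (nat_lit 4) (nat_lit 154) (Steps.bwd (nat_lit 1) (Steps.bwd (nat_lit 6) (Steps.fwd (nat_lit 262144) (Steps.fwd (nat_lit 1048576) (Steps.bwd (nat_lit 1) (Steps.fwd (nat_lit 1572864) (Steps.fwd (nat_lit 262144) Steps.nil))))))) (nat_lit 74) (nat_lit 2),
  Rule.mk (nat_lit 4) (nat_lit 154) (Steps.bwd (nat_lit 5) (Steps.fwd (nat_lit 1835008) (Steps.fwd (nat_lit 786432) (Steps.fwd (nat_lit 1048576) (Steps.fwd (nat_lit 1572864) (Steps.fwd (nat_lit 1835008) (Steps.fwd (nat_lit 786432) Steps.nil))))))) (nat_lit 78) (nat_lit 2),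
  Rule.mk (nat_lit 0) (nat_lit 94) (Steps.bwd (nat_lit 4) (Steps.bwd (nat_lit 6) (Steps.fwd (nat_lit 1048576) (Steps.fwd (nat_lit 1310720) Steps.nil)))) (nat_lit 22) (nat_lit 2),
  Rule.mk (nat_lit 4) (nat_lit 114) (Steps.fwd (nat_lit 1310720) (Steps.fwd (nat_lit 524288) (Steps.bwd (nat_lit 4) (Steps.fwd (nat_lit 1572864) (Steps.fwd (nat_lit 524288) Steps.nil))))) (nat_lit 59) (nat_lit 4),
  Rule.mk (nat_lit 6) (nat_lit 154) (Steps.fwd (nat_lit 1835008) (Steps.fwd (nat_lit 1048576) (Steps.fwd (nat_lit 524288) (Steps.fwd (nat_lit 1310720) (Steps.bwd (nat_lit 7) (Steps.bwd (nat_lit 4) (Steps.bwd (nat_lit 3) Steps.nil))))))) (nat_lit 81) (nat_lit 1),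
  Rule.mk (nat_lit 4) (nat_lit 114) (Steps.fwd (nat_lit 262144) (Steps.bwd (nat_lit 4) (Steps.fwd (nat_lit 262144) (Steps.bwd (nat_lit 4) (Steps.bwd (nat_lit 1) Steps.nil))))) (nat_lit 16) (nat_lit 0),
  Rule.mk (nat_lit 0) (nat_lit 174) (Steps.bwd (nat_lit 4) (Steps.bwd (nat_lit 1) (Steps.bwd (nat_lit 7) (Steps.bwd (nat_lit 4) (Steps.fwd (nat_lit 262144) (Steps.bwd (nat_lit 4) (Steps.fwd (nat_lit 1835008) (Steps.bwd (nat_lit 1) Steps.nil)))))))) (nat_lit 76) (nat_lit 1),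
  Rule.mk (nat_lit 4) (nat_lit 314) (Steps.fwd (nat_lit 2359296) (Steps.fwd (nat_lit 1048576) (Steps.bwd (nat_lit 9) (Steps.bwd (nat_lit 4) (Steps.fwd (nat_lit 2359296) (Steps.bwd (nat_lit 4) (Steps.fwd (nat_lit 2097152) (Steps.fwd (nat_lit 1048576) (Steps.fwd (nat_lit 2359296) (Steps.bwd (nat_lit 4) (Steps.bwd (nat_lit 9) (Steps.bwd (nat_lit 4) (Steps.bwd (nat_lit 8) (Steps.bwd (nat_lit 4) (Steps.bwd (nat_lit 9) Steps.nil))))))))))))))) (nat_lit 106) (nat_lit 0),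
  Rule.mk (nat_lit 1) (nat_lit 154) (Steps.fwd (nat_lit 1835008) (Steps.bwd (nat_lit 4) (Steps.bwd (nat_lit 1) (Steps.bwd (nat_lit 4) (Steps.fwd (nat_lit 1835008) (Steps.fwd (nat_lit 262144) (Steps.fwd (nat_lit 1048576) Steps.nil))))))) (nat_lit 76) (nat_lit 3),
  Rule.mk (nat_lit 3) (nat_lit 154) (Steps.bwd (nat_lit 1) (Steps.bwd (nat_lit 7) (Steps.fwd (nat_lit 524288) (Steps.bwd (nat_lit 1) (Steps.bwd (nat_lit 3) (Steps.fwd (nat_lit 1835008) (Steps.fwd (nat_lit 262144) Steps.nil))))))) (nat_lit 73) (nat_lit 7),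
  Rule.mk (nat_lit 7) (nat_lit 154) (Steps.fwd (nat_lit 786432) (Steps.bwd (nat_lit 1) (Steps.fwd (nat_lit 786432) (Steps.fwd (nat_lit 1835008) (Steps.fwd (nat_lit 262144) (Steps.bwd (nat_lit 2) (Steps.fwd (nat_lit 262144) Steps.nil))))))) (nat_lit 72) (nat_lit 4),
  Rule.mk (nat_lit 7) (nat_lit 74) (Steps.fwd (nat_lit 1310720) (Steps.bwd (nat_lit 7) (Steps.fwd (nat_lit 1310720) Steps.nil))) (nat_lit 32) (nat_lit 1),
  Rule.mk (nat_lit 0) (nat_lit 134) (Steps.bwd (nat_lit 9) (Steps.bwd (nat_lit 1) (Steps.bwd (nat_lit 8) (Steps.fwd (nat_lit 786432) (Steps.fwd (nat_lit 262144) (Steps.bwd (nat_lit 3) Steps.nil)))))) (nat_lit 104) (nat_lit 4),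
  Rule.mk (nat_lit 4) (nat_lit 154) (Steps.bwd (nat_lit 3) (Steps.bwd (nat_lit 7) (Steps.fwd (nat_lit 1572864) (Steps.fwd (nat_lit 1048576) (Steps.fwd (nat_lit 524288) (Steps.fwd (nat_lit 1835008) (Steps.fwd (nat_lit 1310720) Steps.nil))))))) (nat_lit 79) (nat_lit 7),
  Rule.mk (nat_lit 6) (nat_lit 154) (Steps.bwd (nat_lit 3) (Steps.bwd (nat_lit 7) (Steps.fwd (nat_lit 1048576) (Steps.fwd (nat_lit 1310720) (Steps.fwd (nat_lit 524288) (Steps.fwd (nat_lit 1835008) (Steps.fwd (nat_lit 1048576) Steps.nil))))))) (nat_lit 87) (nat_lit 3),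
  Rule.mk (nat_lit 1) (nat_lit 274) (Steps.bwd (nat_lit 6) (Steps.bwd (nat_lit 1) (Steps.bwd (nat_lit 3) (Steps.fwd (nat_lit 262144) (Steps.fwd (nat_lit 1572864) (Steps.fwd (nat_lit 262144) (Steps.bwd (nat_lit 3) (Steps.bwd (nat_lit 1) (Steps.fwd (nat_lit 1572864) (Steps.fwd (nat_lit 262144) (Steps.bwd (nat_lit 3) (Steps.fwd (nat_lit 1310720) (Steps.fwd (nat_lit 1572864) Steps.nil))))))))))))) (nat_lit 35) (nat_lit 3),
  Rule.mk (nat_lit 1) (nat_lit 274) (Steps.bwd (nat_lit 6) (Steps.bwd (nat_lit 1) (Steps.bwd (nat_lit 3) (Steps.fwd (nat_lit 1310720) (Steps.fwd (nat_lit 1572864) (Steps.fwd (nat_lit 262144) (Steps.fwd (nat_lit 1572864) (Steps.fwd (nat_lit 262144) (Steps.bwd (nat_lit 3) (Steps.bwd (nat_lit 1) (Steps.fwd (nat_lit 1572864) (Steps.fwd (nat_lit 262144) (Steps.bwd (nat_lit 3) Steps.nil))))))))))))) (nat_lit 35) (nat_lit 11),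
  Rule.mk (nat_lit 3) (nat_lit 154) (Steps.bwd (nat_lit 1) (Steps.bwd (nat_lit 2) (Steps.bwd (nat_lit 1) (Steps.bwd (nat_lit 3) (Steps.bwd (nat_lit 1) (Steps.fwd (nat_lit 786432) (Steps.fwd (nat_lit 262144) Steps.nil))))))) (nat_lit 68) (nat_lit 0),
  Rule.mk (nat_lit 1) (nat_lit 154) (Steps.bwd (nat_lit 3) (Steps.bwd (nat_lit 5) (Steps.bwd (nat_lit 1) (Steps.bwd (nat_lit 3) (Steps.bwd (nat_lit 1) (Steps.bwd (nat_lit 5) (Steps.fwd (nat_lit 524288) Steps.nil))))))) (nat_lit 71) (nat_lit 3),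
  Rule.mk (nat_lit 0) (nat_lit 134) (Steps.bwd (nat_lit 1) (Steps.fwd (nat_lit 1310720) (Steps.bwd (nat_lit 7) (Steps.bwd (nat_lit 1) (Steps.bwd (nat_lit 5) (Steps.fwd (nat_lit 1835008) Steps.nil)))))) (nat_lit 52) (nat_lit 0),
  Rule.mk (nat_lit 5) (nat_lit 94) (Steps.bwd (nat_lit 8) (Steps.bwd (nat_lit 5) (Steps.bwd (nat_lit 9) (Steps.bwd (nat_lit 7) Steps.nil)))) (nat_lit 101) (nat_lit 2),
  Rule.mk (nat_lit 2) (nat_lit 154) (Steps.bwd (nat_lit 6) (Steps.bwd (nat_lit 5) (Steps.bwd (nat_lit 2) (Steps.bwd (nat_lit 6) (Steps.fwd (nat_lit 1835008) (Steps.bwd (nat_lit 2) (Steps.bwd (nat_lit 5) Steps.nil))))))) (nat_lit 82) (nat_lit 3),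
  Rule.mk (nat_lit 1) (nat_lit 114) (Steps.bwd (nat_lit 5) (Steps.bwd (nat_lit 7) (Steps.fwd (nat_lit 262144) (Steps.bwd (nat_lit 5) (Steps.bwd (nat_lit 7) Steps.nil))))) (nat_lit 52) (nat_lit 1),
  Rule.mk (nat_lit 1) (nat_lit 274) (Steps.fwd (nat_lit 1572864) (Steps.bwd (nat_lit 1) (Steps.bwd (nat_lit 3) (Steps.fwd (nat_lit 262144) (Steps.fwd (nat_lit 1572864) (Steps.bwd (nat_lit 1) (Steps.bwd (nat_lit 3) (Steps.bwd (nat_lit 1) (Steps.bwd (nat_lit 6) (Steps.fwd (nat_lit 262144) (Steps.fwd (nat_lit 524288) (Steps.fwd (nat_lit 1310720) (Steps.fwd (nat_lit 1572864) Steps.nil))))))))))))) (nat_lit 35) (nat_lit 3),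
  Rule.mk (nat_lit 0) (nat_lit 174) (Steps.bwd (nat_lit 1) (Steps.fwd (nat_lit 1572864) (Steps.bwd (nat_lit 1) (Steps.fwd (nat_lit 1048576) (Steps.bwd (nat_lit 1) (Steps.bwd (nat_lit 6) (Steps.fwd (nat_lit 262144) (Steps.fwd (nat_lit 1048576) Steps.nil)))))))) (nat_lit 74) (nat_lit 2),
  Rule.mk (nat_lit 4) (nat_lit 154) (Steps.fwd (nat_lit 262144) (Steps.fwd (nat_lit 1048576) (Steps.bwd (nat_lit 7) (Steps.fwd (nat_lit 262144) (Steps.fwd (nat_lit 1048576) (Steps.fwd (nat_lit 262144) (Steps.fwd (nat_lit 1835008) Steps.nil))))))) (nat_lit 76) (nat_lit 5),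
  Rule.mk (nat_lit 6) (nat_lit 154) (Steps.fwd (nat_lit 524288) (Steps.fwd (nat_lit 1835008) (Steps.bwd (nat_lit 4) (Steps.fwd (nat_lit 1310720) (Steps.bwd (nat_lit 3) (Steps.bwd (nat_lit 7) (Steps.bwd (nat_lit 4) Steps.nil))))))) (nat_lit 87) (nat_lit 3),
  Rule.mk (nat_lit 4) (nat_lit 154) (Steps.bwd (nat_lit 5) (Steps.bwd (nat_lit 2) (Steps.fwd (nat_lit 1835008) (Steps.bwd (nat_lit 4) (Steps.bwd (nat_lit 6) (Steps.bwd (nat_lit 2) (Steps.bwd (nat_lit 7) Steps.nil))))))) (nat_lit 90) (nat_lit 3),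
  Rule.mk (nat_lit 3) (nat_lit 154) (Steps.bwd (nat_lit 7) (Steps.fwd (nat_lit 1572864) (Steps.fwd (nat_lit 1048576) (Steps.bwd (nat_lit 3) (Steps.bwd (nat_lit 7) (Steps.fwd (nat_lit 1310720) (Steps.fwd (nat_lit 1048576) Steps.nil))))))) (nat_lit 79) (nat_lit 0),
  Rule.mk (nat_lit 4) (nat_lit 154) (Steps.fwd (nat_lit 1572864) (Steps.bwd (nat_lit 3) (Steps.fwd (nat_lit 1835008) (Steps.fwd (nat_lit 1048576) (Steps.fwd (nat_lit 1310720) (Steps.bwd (nat_lit 3) (Steps.bwd (nat_lit 7) Steps.nil))))))) (nat_lit 87) (nat_lit 2),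
  Rule.mk (nat_lit 5) (nat_lit 154) (Steps.bwd (nat_lit 3) (Steps.bwd (nat_lit 7) (Steps.fwd (nat_lit 1048576) (Steps.bwd (nat_lit 6) (Steps.bwd (nat_lit 3) (Steps.bwd (nat_lit 7) (Steps.bwd (nat_lit 4) Steps.nil))))))) (nat_lit 87) (nat_lit 7),
  Rule.mk (nat_lit 0) (nat_lit 134) (Steps.bwd (nat_lit 4) (Steps.fwd (nat_lit 1572864) (Steps.bwd (nat_lit 2) (Steps.fwd (nat_lit 1048576) (Steps.fwd (nat_lit 1310720) (Steps.bwd (nat_lit 2) Steps.nil)))))) (nat_lit 54) (nat_lit 4),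
  Rule.mk (nat_lit 6) (nat_lit 154) (Steps.fwd (nat_lit 524288) (Steps.bwd (nat_lit 5) (Steps.bwd (nat_lit 3) (Steps.bwd (nat_lit 7) (Steps.fwd (nat_lit 1572864) (Steps.bwd (nat_lit 3) (Steps.bwd (nat_lit 5) Steps.nil))))))) (nat_lit 83) (nat_lit 5),
  Rule.mk (nat_lit 3) (nat_lit 114) (Steps.bwd (nat_lit 5) (Steps.fwd (nat_lit 1835008) (Steps.fwd (nat_lit 786432) (Steps.bwd (nat_lit 5) (Steps.fwd (nat_lit 1835008) Steps.nil))))) (nat_lit 60) (nat_lit 4),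
  Rule.mk (nat_lit 4) (nat_lit 154) (Steps.fwd (nat_lit 1572864) (Steps.fwd (nat_lit 1835008) (Steps.fwd (nat_lit 786432) (Steps.fwd (nat_lit 1048576) (Steps.bwd (nat_lit 5) (Steps.fwd (nat_lit 1835008) (Steps.fwd (nat_lit 786432) Steps.nil))))))) (nat_lit 78) (nat_lit 6),
  Rule.mk (nat_lit 4) (nat_lit 154) (Steps.bwd (nat_lit 3) (Steps.fwd (nat_lit 1835008) (Steps.bwd (nat_lit 5) (Steps.fwd (nat_lit 1048576) (Steps.bwd (nat_lit 3) (Steps.bwd (nat_lit 7) (Steps.fwd (nat_lit 1572864) Steps.nil))))))) (nat_lit 79) (nat_lit 3),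
  Rule.mk (nat_lit 4) (nat_lit 154) (Steps.bwd (nat_lit 3) (Steps.bwd (nat_lit 5) (Steps.fwd (nat_lit 1835008) (Steps.bwd (nat_lit 4) (Steps.bwd (nat_lit 3) (Steps.fwd (nat_lit 1572864) (Steps.fwd (nat_lit 1835008) Steps.nil))))))) (nat_lit 81) (nat_lit 3),
  Rule.mk (nat_lit 1) (nat_lit 154) (Steps.bwd (nat_lit 4) (Steps.fwd (nat_lit 262144) (Steps.fwd (nat_lit 1835008) (Steps.bwd (nat_lit 4) (Steps.bwd (nat_lit 1) (Steps.fwd (nat_lit 1048576) (Steps.fwd (nat_lit 1835008) Steps.nil))))))) (nat_lit 76) (nat_lit 1),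
  Rule.mk (nat_lit 1) (nat_lit 154) (Steps.bwd (nat_lit 4) (Steps.fwd (nat_lit 262144) (Steps.bwd (nat_lit 7) (Steps.fwd (nat_lit 1048576) (Steps.bwd (nat_lit 1) (Steps.bwd (nat_lit 4) (Steps.fwd (nat_lit 1835008) Steps.nil))))))) (nat_lit 76) (nat_lit 1),
  Rule.mk (nat_lit 7) (nat_lit 154) (Steps.bwd (nat_lit 4) (Steps.fwd (nat_lit 262144) (Steps.fwd (nat_lit 1048576) (Steps.bwd (nat_lit 7) (Steps.bwd (nat_lit 1) (Steps.bwd (nat_lit 4) (Steps.fwd (nat_lit 262144) Steps.nil))))))) (nat_lit 76) (nat_lit 4),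
  Rule.mk (nat_lit 0) (nat_lit 134) (Steps.bwd (nat_lit 1) (Steps.bwd (nat_lit 8) (Steps.fwd (nat_lit 786432) (Steps.fwd (nat_lit 262144) (Steps.bwd (nat_lit 3) (Steps.fwd (nat_lit 2097152) Steps.nil)))))) (nat_lit 104) (nat_lit 5),
  Rule.mk (nat_lit 3) (nat_lit 154) (Steps.bwd (nat_lit 1) (Steps.bwd (nat_lit 2) (Steps.fwd (nat_lit 262144) (Steps.fwd (nat_lit 524288) (Steps.fwd (nat_lit 262144) (Steps.fwd (nat_lit 786432) (Steps.fwd (nat_lit 262144) Steps.nil))))))) (nat_lit 68) (nat_lit 0),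
  Rule.mk (nat_lit 1) (nat_lit 154) (Steps.fwd (nat_lit 1310720) (Steps.bwd (nat_lit 2) (Steps.fwd (nat_lit 262144) (Steps.fwd (nat_lit 786432) (Steps.fwd (nat_lit 1310720) (Steps.fwd (nat_lit 262144) (Steps.bwd (nat_lit 2) Steps.nil))))))) (nat_lit 70) (nat_lit 3),
  Rule.mk (nat_lit 0) (nat_lit 174) (Steps.bwd (nat_lit 1) (Steps.bwd (nat_lit 2) (Steps.fwd (nat_lit 262144) (Steps.fwd (nat_lit 1310720) (Steps.fwd (nat_lit 786432) (Steps.fwd (nat_lit 262144) (Steps.bwd (nat_lit 2) (Steps.bwd (nat_lit 5) Steps.nil)))))))) (nat_lit 70) (nat_lit 0),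
  Rule.mk (nat_lit 1) (nat_lit 154) (Steps.fwd (nat_lit 524288) (Steps.fwd (nat_lit 262144) (Steps.fwd (nat_lit 1310720) (Steps.fwd (nat_lit 524288) (Steps.bwd (nat_lit 1) (Steps.bwd (nat_lit 3) (Steps.fwd (nat_lit 1310720) Steps.nil))))))) (nat_lit 71) (nat_lit 6),
  Rule.mk (nat_lit 1) (nat_lit 154) (Steps.bwd (nat_lit 3) (Steps.fwd (nat_lit 1310720) (Steps.fwd (nat_lit 262144) (Steps.fwd (nat_lit 524288) (Steps.fwd (nat_lit 262144) (Steps.bwd (nat_lit 5) (Steps.bwd (nat_lit 3) Steps.nil))))))) (nat_lit 71) (nat_lit 3),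
  Rule.mk (nat_lit 1) (nat_lit 154) (Steps.bwd (nat_lit 3) (Steps.fwd (nat_lit 1835008) (Steps.fwd (nat_lit 262144) (Steps.fwd (nat_lit 524288) (Steps.fwd (nat_lit 262144) (Steps.bwd (nat_lit 7) (Steps.fwd (nat_lit 524288) Steps.nil))))))) (nat_lit 73) (nat_lit 3),
  Rule.mk (nat_lit 1) (nat_lit 274) (Steps.bwd (nat_lit 6) (Steps.fwd (nat_lit 1310720) (Steps.bwd (nat_lit 2) (Steps.fwd (nat_lit 262144) (Steps.fwd (nat_lit 1572864) (Steps.fwd (nat_lit 262144) (Steps.fwd (nat_lit 786432) (Steps.bwd (nat_lit 1) (Steps.bwd (nat_lit 6) (Steps.fwd (nat_lit 262144) (Steps.fwd (nat_lit 786432) (Steps.bwd (nat_lit 1) (Steps.fwd (nat_lit 1572864) Steps.nil))))))))))))) (nat_lit 34) (nat_lit 12),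
  Rule.mk (nat_lit 1) (nat_lit 274) (Steps.fwd (nat_lit 1572864) (Steps.fwd (nat_lit 262144) (Steps.fwd (nat_lit 524288) (Steps.fwd (nat_lit 1310720) (Steps.bwd (nat_lit 6) (Steps.fwd (nat_lit 262144) (Steps.fwd (nat_lit 1572864) (Steps.fwd (nat_lit 262144) (Steps.bwd (nat_lit 3) (Steps.bwd (nat_lit 1) (Steps.bwd (nat_lit 6) (Steps.fwd (nat_lit 262144) (Steps.fwd (nat_lit 524288) Steps.nil))))))))))))) (nat_lit 35) (nat_lit 11),
  Rule.mk (nat_lit 2) (nat_lit 154) (Steps.bwd (nat_lit 1) (Steps.bwd (nat_lit 3) (Steps.bwd (nat_lit 1) (Steps.bwd (nat_lit 2) (Steps.fwd (nat_lit 262144) (Steps.fwd (nat_lit 524288) (Steps.fwd (nat_lit 262144) Steps.nil))))))) (nat_lit 68) (nat_lit 2),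
  Rule.mk (nat_lit 6) (nat_lit 114) (Steps.fwd (nat_lit 1835008) (Steps.bwd (nat_lit 2) (Steps.bwd (nat_lit 6) (Steps.fwd (nat_lit 1835008) (Steps.fwd (nat_lit 524288) Steps.nil))))) (nat_lit 62) (nat_lit 5),
  Rule.mk (nat_lit 1) (nat_lit 274) (Steps.bwd (nat_lit 6) (Steps.bwd (nat_lit 1) (Steps.bwd (nat_lit 3) (Steps.fwd (nat_lit 262144) (Steps.fwd (nat_lit 1572864) (Steps.bwd (nat_lit 1) (Steps.bwd (nat_lit 3) (Steps.bwd (nat_lit 1) (Steps.bwd (nat_lit 6) (Steps.bwd (nat_lit 1) (Steps.bwd (nat_lit 3) (Steps.bwd (nat_lit 5) (Steps.fwd (nat_lit 1572864) Steps.nil))))))))))))) (nat_lit 35) (nat_lit 3),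
  Rule.mk (nat_lit 5) (nat_lit 114) (Steps.bwd (nat_lit 3) (Steps.fwd (nat_lit 1835008) (Steps.bwd (nat_lit 5) (Steps.fwd (nat_lit 786432) (Steps.bwd (nat_lit 7) Steps.nil))))) (nat_lit 61) (nat_lit 5),
  Rule.mk (nat_lit 2) (nat_lit 154) (Steps.bwd (nat_lit 5) (Steps.fwd (nat_lit 786432) (Steps.bwd (nat_lit 7) (Steps.fwd (nat_lit 1572864) (Steps.bwd (nat_lit 2) (Steps.bwd (nat_lit 5) (Steps.fwd (nat_lit 1572864) Steps.nil))))))) (nat_lit 84) (nat_lit 1),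
  Rule.mk (nat_lit 1) (nat_lit 114) (Steps.bwd (nat_lit 3) (Steps.fwd (nat_lit 2097152) (Steps.bwd (nat_lit 1) (Steps.fwd (nat_lit 2359296) (Steps.fwd (nat_lit 786432) Steps.nil))))) (nat_lit 104) (nat_lit 3),
  Rule.mk (nat_lit 2) (nat_lit 274) (Steps.bwd (nat_lit 1) (Steps.fwd (nat_lit 1572864) (Steps.bwd (nat_lit 1) (Steps.fwd (nat_lit 786432) (Steps.bwd (nat_lit 1) (Steps.bwd (nat_lit 6) (Steps.bwd (nat_lit 1) (Steps.fwd (nat_lit 1572864) (Steps.fwd (nat_lit 1310720) (Steps.bwd (nat_lit 2) (Steps.bwd (nat_lit 1) (Steps.bwd (nat_lit 6) (Steps.fwd (nat_lit 262144) Steps.nil))))))))))))) (nat_lit 34) (nat_lit 5),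
  Rule.mk (nat_lit 2) (nat_lit 274) (Steps.bwd (nat_lit 1) (Steps.fwd (nat_lit 1572864) (Steps.fwd (nat_lit 262144) (Steps.bwd (nat_lit 6) (Steps.fwd (nat_lit 1310720) (Steps.fwd (nat_lit 786432) (Steps.bwd (nat_lit 1) (Steps.bwd (nat_lit 6) (Steps.bwd (nat_lit 1) (Steps.bwd (nat_lit 2) (Steps.bwd (nat_lit 1) (Steps.fwd (nat_lit 1572864) (Steps.fwd (nat_lit 262144) Steps.nil))))))))))))) (nat_lit 34) (nat_lit 9),
  Rule.mk (nat_lit 3) (nat_lit 114) (Steps.fwd (nat_lit 1310720) (Steps.bwd (nat_lit 7) (Steps.bwd (nat_lit 2) (Steps.fwd (nat_lit 1310720) (Steps.fwd (nat_lit 1835008) Steps.nil))))) (nat_lit 60) (nat_lit 4),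
  Rule.mk (nat_lit 0) (nat_lit 334) (Steps.bwd (nat_lit 4) (Steps.bwd (nat_lit 8) (Steps.bwd (nat_lit 4) (Steps.bwd (nat_lit 9) (Steps.fwd (nat_lit 1048576) (Steps.fwd (nat_lit 2359296) (Steps.bwd (nat_lit 4) (Steps.bwd (nat_lit 9) (Steps.fwd (nat_lit 1048576) (Steps.fwd (nat_lit 2359296) (Steps.fwd (nat_lit 1048576) (Steps.fwd (nat_lit 2097152) (Steps.fwd (nat_lit 1048576) (Steps.fwd (nat_lit 2359296) (Steps.fwd (nat_lit 1048576) (Steps.fwd (nat_lit 2097152) Steps.nil)))))))))))))))) (nat_lit 106) (nat_lit 3),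
  Rule.mk (nat_lit 4) (nat_lit 114) (Steps.fwd (nat_lit 262144) (Steps.bwd (nat_lit 4) (Steps.fwd (nat_lit 262144) (Steps.fwd (nat_lit 1048576) (Steps.fwd (nat_lit 262144) Steps.nil))))) (nat_lit 16) (nat_lit 0),
  Rule.mk (nat_lit 0) (nat_lit 134) (Steps.bwd (nat_lit 4) (Steps.fwd (nat_lit 1572864) (Steps.fwd (nat_lit 786432) (Steps.bwd (nat_lit 4) (Steps.fwd (nat_lit 1310720) (Steps.fwd (nat_lit 786432) Steps.nil)))))) (nat_lit 54) (nat_lit 4),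
  Rule.mk (nat_lit 0) (nat_lit 134) (Steps.fwd (nat_lit 1310720) (Steps.bwd (nat_lit 2) (Steps.fwd (nat_lit 1048576) (Steps.bwd (nat_lit 6) (Steps.fwd (nat_lit 786432) (Steps.fwd (nat_lit 1048576) Steps.nil)))))) (nat_lit 54) (nat_lit 2)]
noncomputable def R_69 : List (Rule) := [Rule.mk (nat_lit 3) (nat_lit 114) (Steps.bwd (nat_lit 4) (Steps.bwd (nat_lit 5) (Steps.fwd (nat_lit 524288) (Steps.bwd (nat_lit 4) (Steps.fwd (nat_lit 1572864) Steps.nil))))) (nat_lit 59) (nat_lit 3),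
  Rule.mk (nat_lit 1) (nat_lit 154) (Steps.fwd (nat_lit 1572864) (Steps.fwd (nat_lit 262144) (Steps.bwd (nat_lit 4) (Steps.fwd (nat_lit 262144) (Steps.fwd (nat_lit 1572864) (Steps.fwd (nat_lit 262144) (Steps.bwd (nat_lit 4) Steps.nil))))))) (nat_lit 74) (nat_lit 3),
  Rule.mk (nat_lit 4) (nat_lit 154) (Steps.bwd (nat_lit 3) (Steps.fwd (nat_lit 1835008) (Steps.bwd (nat_lit 5) (Steps.bwd (nat_lit 4) (Steps.fwd (nat_lit 524288) (Steps.fwd (nat_lit 1835008) (Steps.fwd (nat_lit 1572864) Steps.nil))))))) (nat_lit 79) (nat_lit 3),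
  Rule.mk (nat_lit 3) (nat_lit 154) (Steps.bwd (nat_lit 4) (Steps.bwd (nat_lit 7) (Steps.bwd (nat_lit 5) (Steps.fwd (nat_lit 524288) (Steps.bwd (nat_lit 4) (Steps.fwd (nat_lit 1835008) (Steps.bwd (nat_lit 6) Steps.nil))))))) (nat_lit 89) (nat_lit 4),
  Rule.mk (nat_lit 4) (nat_lit 114) (Steps.bwd (nat_lit 5) (Steps.bwd (nat_lit 3) (Steps.bwd (nat_lit 4) (Steps.bwd (nat_lit 6) (Steps.bwd (nat_lit 3) Steps.nil))))) (nat_lit 59) (nat_lit 4),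
  Rule.mk (nat_lit 2) (nat_lit 114) (Steps.bwd (nat_lit 5) (Steps.bwd (nat_lit 7) (Steps.bwd (nat_lit 3) (Steps.fwd (nat_lit 1310720) (Steps.bwd (nat_lit 7) Steps.nil))))) (nat_lit 60) (nat_lit 1),
  Rule.mk (nat_lit 0) (nat_lit 174) (Steps.fwd (nat_lit 1835008) (Steps.bwd (nat_lit 6) (Steps.fwd (nat_lit 524288) (Steps.bwd (nat_lit 5) (Steps.bwd (nat_lit 6) (Steps.bwd (nat_lit 3) (Steps.fwd (nat_lit 1310720) (Steps.fwd (nat_lit 524288) Steps.nil)))))))) (nat_lit 83) (nat_lit 0),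
  Rule.mk (nat_lit 3) (nat_lit 154) (Steps.bwd (nat_lit 5) (Steps.bwd (nat_lit 3) (Steps.fwd (nat_lit 1835008) (Steps.bwd (nat_lit 6) (Steps.bwd (nat_lit 3) (Steps.fwd (nat_lit 1310720) (Steps.fwd (nat_lit 1572864) Steps.nil))))))) (nat_lit 83) (nat_lit 6),
  Rule.mk (nat_lit 3) (nat_lit 154) (Steps.fwd (nat_lit 1310720) (Steps.bwd (nat_lit 3) (Steps.bwd (nat_lit 6) (Steps.bwd (nat_lit 5) (Steps.bwd (nat_lit 3) (Steps.bwd (nat_lit 6) (Steps.bwd (nat_lit 7) Steps.nil))))))) (nat_lit 85) (nat_lit 6),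
  Rule.mk (nat_lit 4) (nat_lit 154) (Steps.bwd (nat_lit 7) (Steps.bwd (nat_lit 5) (Steps.bwd (nat_lit 3) (Steps.bwd (nat_lit 4) (Steps.bwd (nat_lit 7) (Steps.fwd (nat_lit 1572864) (Steps.bwd (nat_lit 3) Steps.nil))))))) (nat_lit 89) (nat_lit 5),
  Rule.mk (nat_lit 2) (nat_lit 114) (Steps.fwd (nat_lit 1048576) (Steps.fwd (nat_lit 1835008) (Steps.fwd (nat_lit 786432) (Steps.bwd (nat_lit 4) (Steps.bwd (nat_lit 7) Steps.nil))))) (nat_lit 56) (nat_lit 1),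
  Rule.mk (nat_lit 4) (nat_lit 154) (Steps.bwd (nat_lit 6) (Steps.fwd (nat_lit 1835008) (Steps.fwd (nat_lit 786432) (Steps.bwd (nat_lit 4) (Steps.bwd (nat_lit 5) (Steps.bwd (nat_lit 7) (Steps.fwd (nat_lit 786432) Steps.nil))))))) (nat_lit 78) (nat_lit 6),
  Rule.mk (nat_lit 2) (nat_lit 154) (Steps.fwd (nat_lit 1835008) (Steps.bwd (nat_lit 6) (Steps.bwd (nat_lit 4) (Steps.bwd (nat_lit 2) (Steps.bwd (nat_lit 7) (Steps.bwd (nat_lit 5) (Steps.bwd (nat_lit 4) Steps.nil))))))) (nat_lit 92) (nat_lit 5),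
  Rule.mk (nat_lit 0) (nat_lit 334) (Steps.bwd (nat_lit 4) (Steps.bwd (nat_lit 9) (Steps.bwd (nat_lit 4) (Steps.bwd (nat_lit 8) (Steps.bwd (nat_lit 4) (Steps.bwd (nat_lit 9) (Steps.fwd (nat_lit 1048576) (Steps.bwd (nat_lit 8) (Steps.bwd (nat_lit 4) (Steps.bwd (nat_lit 9) (Steps.bwd (nat_lit 4) (Steps.bwd (nat_lit 8) (Steps.fwd (nat_lit 1048576) (Steps.fwd (nat_lit 2097152) (Steps.fwd (nat_lit 1048576) (Steps.fwd (nat_lit 2359296) Steps.nil)))))))))))))))) (nat_lit 106) (nat_lit 1),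
  Rule.mk (nat_lit 4) (nat_lit 114) (Steps.bwd (nat_lit 3) (Steps.bwd (nat_lit 7) (Steps.bwd (nat_lit 4) (Steps.fwd (nat_lit 524288) (Steps.fwd (nat_lit 1835008) Steps.nil))))) (nat_lit 57) (nat_lit 2),
  Rule.mk (nat_lit 4) (nat_lit 114) (Steps.bwd (nat_lit 2) (Steps.bwd (nat_lit 5) (Steps.bwd (nat_lit 4) (Steps.fwd (nat_lit 786432) (Steps.bwd (nat_lit 6) Steps.nil))))) (nat_lit 58) (nat_lit 0),
  Rule.mk (nat_lit 0) (nat_lit 174) (Steps.bwd (nat_lit 4) (Steps.bwd (nat_lit 1) (Steps.bwd (nat_lit 6) (Steps.fwd (nat_lit 262144) (Steps.bwd (nat_lit 4) (Steps.bwd (nat_lit 1) (Steps.bwd (nat_lit 6) (Steps.fwd (nat_lit 262144) Steps.nil)))))))) (nat_lit 74) (nat_lit 1),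
  Rule.mk (nat_lit 0) (nat_lit 174) (Steps.bwd (nat_lit 4) (Steps.bwd (nat_lit 7) (Steps.bwd (nat_lit 2) (Steps.bwd (nat_lit 5) (Steps.bwd (nat_lit 4) (Steps.bwd (nat_lit 7) (Steps.fwd (nat_lit 786432) (Steps.bwd (nat_lit 6) Steps.nil)))))))) (nat_lit 86) (nat_lit 6),
  Rule.mk (nat_lit 4) (nat_lit 114) (Steps.bwd (nat_lit 1) (Steps.fwd (nat_lit 1048576) (Steps.bwd (nat_lit 1) (Steps.bwd (nat_lit 4) (Steps.bwd (nat_lit 1) Steps.nil))))) (nat_lit 16) (nat_lit 0),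
  Rule.mk (nat_lit 0) (nat_lit 134) (Steps.bwd (nat_lit 4) (Steps.bwd (nat_lit 6) (Steps.fwd (nat_lit 786432) (Steps.bwd (nat_lit 4) (Steps.fwd (nat_lit 1310720) (Steps.fwd (nat_lit 786432) Steps.nil)))))) (nat_lit 54) (nat_lit 4),
  Rule.mk (nat_lit 4) (nat_lit 154) (Steps.fwd (nat_lit 1835008) (Steps.bwd (nat_lit 6) (Steps.fwd (nat_lit 786432) (Steps.bwd (nat_lit 4) (Steps.fwd (nat_lit 1835008) (Steps.fwd (nat_lit 1310720) (Steps.fwd (nat_lit 786432) Steps.nil))))))) (nat_lit 80) (nat_lit 6),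
  Rule.mk (nat_lit 0) (nat_lit 174) (Steps.bwd (nat_lit 1) (Steps.bwd (nat_lit 4) (Steps.bwd (nat_lit 1) (Steps.fwd (nat_lit 1572864) (Steps.bwd (nat_lit 1) (Steps.bwd (nat_lit 4) (Steps.bwd (nat_lit 1) (Steps.fwd (nat_lit 1572864) Steps.nil)))))))) (nat_lit 74) (nat_lit 0),
  Rule.mk (nat_lit 4) (nat_lit 154) (Steps.fwd (nat_lit 262144) (Steps.bwd (nat_lit 7) (Steps.fwd (nat_lit 1048576) (Steps.bwd (nat_lit 1) (Steps.fwd (nat_lit 1048576) (Steps.bwd (nat_lit 7) (Steps.bwd (nat_lit 1) Steps.nil))))))) (nat_lit 76) (nat_lit 2),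
  Rule.mk (nat_lit 2) (nat_lit 154) (Steps.fwd (nat_lit 1310720) (Steps.fwd (nat_lit 1048576) (Steps.fwd (nat_lit 1835008) (Steps.bwd (nat_lit 2) (Steps.fwd (nat_lit 1572864) (Steps.bwd (nat_lit 4) (Steps.fwd (nat_lit 1835008) Steps.nil))))))) (nat_lit 86) (nat_lit 1),
  Rule.mk (nat_lit 1) (nat_lit 154) (Steps.bwd (nat_lit 2) (Steps.bwd (nat_lit 1) (Steps.bwd (nat_lit 3) (Steps.fwd (nat_lit 262144) (Steps.bwd (nat_lit 2) (Steps.fwd (nat_lit 262144) (Steps.fwd (nat_lit 524288) Steps.nil))))))) (nat_lit 68) (nat_lit 1),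
  Rule.mk (nat_lit 1) (nat_lit 154) (Steps.fwd (nat_lit 524288) (Steps.bwd (nat_lit 7) (Steps.fwd (nat_lit 262144) (Steps.fwd (nat_lit 524288) (Steps.bwd (nat_lit 1) (Steps.bwd (nat_lit 7) (Steps.fwd (nat_lit 524288) Steps.nil))))))) (nat_lit 73) (nat_lit 3),
  Rule.mk (nat_lit 4) (nat_lit 154) (Steps.bwd (nat_lit 1) (Steps.bwd (nat_lit 4) (Steps.fwd (nat_lit 1835008) (Steps.fwd (nat_lit 262144) (Steps.bwd (nat_lit 4) (Steps.fwd (nat_lit 262144) (Steps.fwd (nat_lit 1835008) Steps.nil))))))) (nat_lit 76) (nat_lit 5),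
  Rule.mk (nat_lit 1) (nat_lit 274) (Steps.bwd (nat_lit 6) (Steps.fwd (nat_lit 262144) (Steps.fwd (nat_lit 524288) (Steps.bwd (nat_lit 1) (Steps.fwd (nat_lit 1572864) (Steps.fwd (nat_lit 262144) (Steps.fwd (nat_lit 524288) (Steps.bwd (nat_lit 1) (Steps.bwd (nat_lit 6) (Steps.fwd (nat_lit 262144) (Steps.bwd (nat_lit 3) (Steps.fwd (nat_lit 1310720) (Steps.fwd (nat_lit 1572864) Steps.nil))))))))))))) (nat_lit 35) (nat_lit 3),
  Rule.mk (nat_lit 1) (nat_lit 154) (Steps.bwd (nat_lit 4) (Steps.bwd (nat_lit 1) (Steps.bwd (nat_lit 6) (Steps.fwd (nat_lit 262144) (Steps.fwd (nat_lit 1048576) (Steps.fwd (nat_lit 262144) (Steps.fwd (nat_lit 1572864) Steps.nil))))))) (nat_lit 74) (nat_lit 1),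
  Rule.mk (nat_lit 1) (nat_lit 154) (Steps.fwd (nat_lit 1310720) (Steps.fwd (nat_lit 524288) (Steps.bwd (nat_lit 1) (Steps.bwd (nat_lit 3) (Steps.fwd (nat_lit 1310720) (Steps.bwd (nat_lit 1) (Steps.bwd (nat_lit 3) Steps.nil))))))) (nat_lit 71) (nat_lit 0),
  Rule.mk (nat_lit 0) (nat_lit 134) (Steps.bwd (nat_lit 4) (Steps.fwd (nat_lit 262144) (Steps.fwd (nat_lit 1048576) (Steps.fwd (nat_lit 262144) (Steps.fwd (nat_lit 1048576) (Steps.bwd (nat_lit 1) Steps.nil)))))) (nat_lit 16) (nat_lit 1),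
  Rule.mk (nat_lit 4) (nat_lit 154) (Steps.fwd (nat_lit 262144) (Steps.bwd (nat_lit 4) (Steps.bwd (nat_lit 7) (Steps.bwd (nat_lit 1) (Steps.bwd (nat_lit 4) (Steps.bwd (nat_lit 1) (Steps.bwd (nat_lit 7) Steps.nil))))))) (nat_lit 76) (nat_lit 5),
  Rule.mk (nat_lit 1) (nat_lit 274) (Steps.bwd (nat_lit 6) (Steps.bwd (nat_lit 1) (Steps.bwd (nat_lit 6) (Steps.bwd (nat_lit 5) (Steps.bwd (nat_lit 2) (Steps.fwd (nat_lit 262144) (Steps.fwd (nat_lit 1572864) (Steps.fwd (nat_lit 262144) (Steps.bwd (nat_lit 2) (Steps.bwd (nat_lit 1) (Steps.bwd (nat_lit 6) (Steps.bwd (nat_lit 1) (Steps.bwd (nat_lit 2) Steps.nil))))))))))))) (nat_lit 34) (nat_lit 10),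
  Rule.mk (nat_lit 0) (nat_lit 294) (Steps.bwd (nat_lit 1) (Steps.bwd (nat_lit 6) (Steps.fwd (nat_lit 262144) (Steps.bwd (nat_lit 2) (Steps.bwd (nat_lit 1) (Steps.bwd (nat_lit 6) (Steps.fwd (nat_lit 262144) (Steps.fwd (nat_lit 1572864) (Steps.bwd (nat_lit 5) (Steps.fwd (nat_lit 786432) (Steps.bwd (nat_lit 1) (Steps.fwd (nat_lit 1572864) (Steps.fwd (nat_lit 262144) (Steps.bwd (nat_lit 2) Steps.nil)))))))))))))) (nat_lit 34) (nat_lit 5),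
  Rule.mk (nat_lit 1) (nat_lit 154) (Steps.fwd (nat_lit 1835008) (Steps.fwd (nat_lit 1048576) (Steps.fwd (nat_lit 262144) (Steps.fwd (nat_lit 1048576) (Steps.fwd (nat_lit 1835008) (Steps.bwd (nat_lit 1) (Steps.fwd (nat_lit 1048576) Steps.nil))))))) (nat_lit 76) (nat_lit 3),
  Rule.mk (nat_lit 4) (nat_lit 154) (Steps.bwd (nat_lit 7) (Steps.fwd (nat_lit 262144) (Steps.fwd (nat_lit 1048576) (Steps.bwd (nat_lit 1) (Steps.bwd (nat_lit 7) (Steps.fwd (nat_lit 1048576) (Steps.bwd (nat_lit 1) Steps.nil))))))) (nat_lit 76) (nat_lit 7),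
  Rule.mk (nat_lit 0) (nat_lit 334) (Steps.bwd (nat_lit 4) (Steps.bwd (nat_lit 9) (Steps.bwd (nat_lit 4) (Steps.fwd (nat_lit 2359296) (Steps.fwd (nat_lit 1048576) (Steps.bwd (nat_lit 9) (Steps.fwd (nat_lit 1048576) (Steps.fwd (nat_lit 2359296) (Steps.bwd (nat_lit 4) (Steps.bwd (nat_lit 9) (Steps.bwd (nat_lit 4) (Steps.bwd (nat_lit 8) (Steps.bwd (nat_lit 4) (Steps.fwd (nat_lit 2097152) (Steps.fwd (nat_lit 1048576) (Steps.fwd (nat_lit 2359296) Steps.nil)))))))))))))))) (nat_lit 106) (nat_lit 1),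
  Rule.mk (nat_lit 0) (nat_lit 94) (Steps.bwd (nat_lit 4) (Steps.bwd (nat_lit 5) (Steps.fwd (nat_lit 1048576) (Steps.fwd (nat_lit 1572864) Steps.nil)))) (nat_lit 22) (nat_lit 0),
  Rule.mk (nat_lit 0) (nat_lit 334) (Steps.bwd (nat_lit 4) (Steps.bwd (nat_lit 8) (Steps.bwd (nat_lit 4) (Steps.bwd (nat_lit 9) (Steps.bwd (nat_lit 4) (Steps.fwd (nat_lit 2359296) (Steps.fwd (nat_lit 1048576) (Steps.fwd (nat_lit 2097152) (Steps.fwd (nat_lit 1048576) (Steps.bwd (nat_lit 8) (Steps.bwd (nat_lit 4) (Steps.bwd (nat_lit 9) (Steps.bwd (nat_lit 4) (Steps.bwd (nat_lit 8) (Steps.bwd (nat_lit 4) (Steps.fwd (nat_lit 2097152) Steps.nil)))))))))))))))) (nat_lit 106) (nat_lit 3),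
  Rule.mk (nat_lit 4) (nat_lit 114) (Steps.fwd (nat_lit 1572864) (Steps.fwd (nat_lit 786432) (Steps.bwd (nat_lit 4) (Steps.bwd (nat_lit 5) (Steps.fwd (nat_lit 786432) Steps.nil))))) (nat_lit 54) (nat_lit 5),
  Rule.mk (nat_lit 4) (nat_lit 154) (Steps.fwd (nat_lit 1572864) (Steps.bwd (nat_lit 7) (Steps.fwd (nat_lit 786432) (Steps.bwd (nat_lit 4) (Steps.fwd (nat_lit 1310720) (Steps.fwd (nat_lit 1835008) (Steps.bwd (nat_lit 2) Steps.nil))))))) (nat_lit 78) (nat_lit 6),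
  Rule.mk (nat_lit 0) (nat_lit 174) (Steps.bwd (nat_lit 4) (Steps.bwd (nat_lit 1) (Steps.fwd (nat_lit 1572864) (Steps.fwd (nat_lit 262144) (Steps.fwd (nat_lit 1048576) (Steps.bwd (nat_lit 1) (Steps.bwd (nat_lit 6) (Steps.fwd (nat_lit 262144) Steps.nil)))))))) (nat_lit 74) (nat_lit 1),
  Rule.mk (nat_lit 4) (nat_lit 314) (Steps.fwd (nat_lit 2359296) (Steps.fwd (nat_lit 1048576) (Steps.bwd (nat_lit 9) (Steps.bwd (nat_lit 4) (Steps.fwd (nat_lit 2359296) (Steps.fwd (nat_lit 1048576) (Steps.fwd (nat_lit 2097152) (Steps.fwd (nat_lit 1048576) (Steps.bwd (nat_lit 8) (Steps.bwd (nat_lit 4) (Steps.bwd (nat_lit 9) (Steps.fwd (nat_lit 1048576) (Steps.fwd (nat_lit 2359296) (Steps.bwd (nat_lit 4) (Steps.bwd (nat_lit 9) Steps.nil))))))))))))))) (nat_lit 106) (nat_lit 0),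
  Rule.mk (nat_lit 4) (nat_lit 114) (Steps.fwd (nat_lit 1572864) (Steps.fwd (nat_lit 786432) (Steps.fwd (nat_lit 1048576) (Steps.bwd (nat_lit 5) (Steps.fwd (nat_lit 786432) Steps.nil))))) (nat_lit 54) (nat_lit 5),
  Rule.mk (nat_lit 0) (nat_lit 174) (Steps.bwd (nat_lit 4) (Steps.bwd (nat_lit 3) (Steps.bwd (nat_lit 7) (Steps.fwd (nat_lit 1310720) (Steps.fwd (nat_lit 1048576) (Steps.bwd (nat_lit 3) (Steps.bwd (nat_lit 7) (Steps.fwd (nat_lit 1572864) Steps.nil)))))))) (nat_lit 79) (nat_lit 2),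
  Rule.mk (nat_lit 4) (nat_lit 314) (Steps.bwd (nat_lit 9) (Steps.fwd (nat_lit 1048576) (Steps.fwd (nat_lit 2359296) (Steps.fwd (nat_lit 1048576) (Steps.bwd (nat_lit 9) (Steps.bwd (nat_lit 4) (Steps.fwd (nat_lit 2359296) (Steps.fwd (nat_lit 1048576) (Steps.bwd (nat_lit 9) (Steps.bwd (nat_lit 4) (Steps.bwd (nat_lit 8) (Steps.bwd (nat_lit 4) (Steps.fwd (nat_lit 2097152) (Steps.fwd (nat_lit 1048576) (Steps.fwd (nat_lit 2359296) Steps.nil))))))))))))))) (nat_lit 106) (nat_lit 2),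
  Rule.mk (nat_lit 4) (nat_lit 114) (Steps.fwd (nat_lit 1572864) (Steps.bwd (nat_lit 7) (Steps.bwd (nat_lit 4) (Steps.bwd (nat_lit 5) (Steps.fwd (nat_lit 1835008) Steps.nil))))) (nat_lit 66) (nat_lit 4),
  Rule.mk (nat_lit 1) (nat_lit 154) (Steps.bwd (nat_lit 7) (Steps.bwd (nat_lit 4) (Steps.bwd (nat_lit 1) (Steps.fwd (nat_lit 1048576) (Steps.bwd (nat_lit 7) (Steps.fwd (nat_lit 262144) (Steps.fwd (nat_lit 1048576) Steps.nil))))))) (nat_lit 76) (nat_lit 3),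
  Rule.mk (nat_lit 8) (nat_lit 314) (Steps.bwd (nat_lit 4) (Steps.bwd (nat_lit 9) (Steps.bwd (nat_lit 4) (Steps.bwd (nat_lit 8) (Steps.bwd (nat_lit 4) (Steps.bwd (nat_lit 9) (Steps.fwd (nat_lit 1048576) (Steps.fwd (nat_lit 2359296) (Steps.fwd (nat_lit 1048576) (Steps.bwd (nat_lit 9) (Steps.bwd (nat_lit 4) (Steps.fwd (nat_lit 2359296) (Steps.bwd (nat_lit 4) (Steps.fwd (nat_lit 2097152) (Steps.fwd (nat_lit 1048576) Steps.nil))))))))))))))) (nat_lit 106) (nat_lit 1),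
  Rule.mk (nat_lit 0) (nat_lit 134) (Steps.bwd (nat_lit 1) (Steps.bwd (nat_lit 3) (Steps.fwd (nat_lit 262144) (Steps.bwd (nat_lit 3) (Steps.fwd (nat_lit 262144) (Steps.bwd (nat_lit 3) Steps.nil)))))) (nat_lit 13) (nat_lit 1),
  Rule.mk (nat_lit 1) (nat_lit 154) (Steps.fwd (nat_lit 786432) (Steps.fwd (nat_lit 262144) (Steps.bwd (nat_lit 3) (Steps.fwd (nat_lit 262144) (Steps.fwd (nat_lit 786432) (Steps.bwd (nat_lit 1) (Steps.bwd (nat_lit 3) Steps.nil))))))) (nat_lit 68) (nat_lit 1),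
  Rule.mk (nat_lit 5) (nat_lit 154) (Steps.bwd (nat_lit 2) (Steps.fwd (nat_lit 262144) (Steps.fwd (nat_lit 786432) (Steps.fwd (nat_lit 1310720) (Steps.fwd (nat_lit 262144) (Steps.fwd (nat_lit 786432) (Steps.fwd (nat_lit 262144) Steps.nil))))))) (nat_lit 70) (nat_lit 4),
  Rule.mk (nat_lit 1) (nat_lit 154) (Steps.bwd (nat_lit 7) (Steps.fwd (nat_lit 786432) (Steps.fwd (nat_lit 262144) (Steps.fwd (nat_lit 786432) (Steps.bwd (nat_lit 7) (Steps.fwd (nat_lit 262144) (Steps.bwd (nat_lit 2) Steps.nil))))))) (nat_lit 72) (nat_lit 3),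
  Rule.mk (nat_lit 7) (nat_lit 154) (Steps.bwd (nat_lit 2) (Steps.fwd (nat_lit 262144) (Steps.bwd (nat_lit 2) (Steps.fwd (nat_lit 1835008) (Steps.fwd (nat_lit 262144) (Steps.fwd (nat_lit 786432) (Steps.fwd (nat_lit 262144) Steps.nil))))))) (nat_lit 72) (nat_lit 4),
  Rule.mk (nat_lit 4) (nat_lit 154) (Steps.fwd (nat_lit 262144) (Steps.bwd (nat_lit 6) (Steps.fwd (nat_lit 262144) (Steps.fwd (nat_lit 1048576) (Steps.fwd (nat_lit 262144) (Steps.bwd (nat_lit 6) (Steps.fwd (nat_lit 262144) Steps.nil))))))) (nat_lit 74) (nat_lit 2),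
  Rule.mk (nat_lit 1) (nat_lit 154) (Steps.fwd (nat_lit 1835008) (Steps.bwd (nat_lit 4) (Steps.fwd (nat_lit 262144) (Steps.fwd (nat_lit 1048576) (Steps.fwd (nat_lit 1835008) (Steps.bwd (nat_lit 1) (Steps.fwd (nat_lit 1048576) Steps.nil))))))) (nat_lit 76) (nat_lit 3),
  Rule.mk (nat_lit 4) (nat_lit 154) (Steps.fwd (nat_lit 1835008) (Steps.fwd (nat_lit 262144) (Steps.fwd (nat_lit 1048576) (Steps.fwd (nat_lit 262144) (Steps.fwd (nat_lit 1835008) (Steps.fwd (nat_lit 1048576) (Steps.bwd (nat_lit 1) Steps.nil))))))) (nat_lit 76) (nat_lit 7),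
  Rule.mk (nat_lit 6) (nat_lit 274) (Steps.bwd (nat_lit 1) (Steps.bwd (nat_lit 2) (Steps.fwd (nat_lit 262144) (Steps.fwd (nat_lit 1572864) (Steps.bwd (nat_lit 1) (Steps.bwd (nat_lit 2) (Steps.fwd (nat_lit 262144) (Steps.bwd (nat_lit 6) (Steps.fwd (nat_lit 262144) (Steps.bwd (nat_lit 6) (Steps.bwd (nat_lit 5) (Steps.fwd (nat_lit 786432) (Steps.fwd (nat_lit 262144) Steps.nil))))))))))))) (nat_lit 34) (nat_lit 3),
  Rule.mk (nat_lit 0) (nat_lit 294) (Steps.bwd (nat_lit 1) (Steps.bwd (nat_lit 2) (Steps.bwd (nat_lit 1) (Steps.bwd (nat_lit 6) (Steps.bwd (nat_lit 1) (Steps.fwd (nat_lit 1572864) (Steps.fwd (nat_lit 1310720) (Steps.bwd (nat_lit 2) (Steps.fwd (nat_lit 262144) (Steps.fwd (nat_lit 1572864) (Steps.fwd (nat_lit 262144) (Steps.fwd (nat_lit 786432) (Steps.fwd (nat_lit 262144) (Steps.bwd (nat_lit 6) Steps.nil)))))))))))))) (nat_lit 34) (nat_lit 7),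
  Rule.mk (nat_lit 1) (nat_lit 274) (Steps.fwd (nat_lit 1572864) (Steps.fwd (nat_lit 1310720) (Steps.bwd (nat_lit 2) (Steps.fwd (nat_lit 262144) (Steps.bwd (nat_lit 6) (Steps.fwd (nat_lit 262144) (Steps.fwd (nat_lit 786432) (Steps.fwd (nat_lit 262144) (Steps.bwd (nat_lit 6) (Steps.bwd (nat_lit 1) (Steps.fwd (nat_lit 786432) (Steps.bwd (nat_lit 1) (Steps.bwd (nat_lit 6) Steps.nil))))))))))))) (nat_lit 34) (nat_lit 12),
  Rule.mk (nat_lit 0) (nat_lit 174) (Steps.bwd (nat_lit 4) (Steps.bwd (nat_lit 1) (Steps.fwd (nat_lit 1572864) (Steps.bwd (nat_lit 1) (Steps.fwd (nat_lit 1048576) (Steps.bwd (nat_lit 1) (Steps.fwd (nat_lit 1572864) (Steps.bwd (nat_lit 1) Steps.nil)))))))) (nat_lit 74) (nat_lit 1),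
  Rule.mk (nat_lit 0) (nat_lit 294) (Steps.bwd (nat_lit 1) (Steps.fwd (nat_lit 524288) (Steps.fwd (nat_lit 1310720) (Steps.bwd (nat_lit 6) (Steps.bwd (nat_lit 1) (Steps.fwd (nat_lit 1572864) (Steps.bwd (nat_lit 1) (Steps.bwd (nat_lit 3) (Steps.fwd (nat_lit 262144) (Steps.bwd (nat_lit 6) (Steps.bwd (nat_lit 1) (Steps.fwd (nat_lit 524288) (Steps.fwd (nat_lit 262144) (Steps.fwd (nat_lit 1572864) Steps.nil)))))))))))))) (nat_lit 35) (nat_lit 12),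
  Rule.mk (nat_lit 0) (nat_lit 94) (Steps.bwd (nat_lit 1) (Steps.bwd (nat_lit 7) (Steps.bwd (nat_lit 1) (Steps.fwd (nat_lit 1835008) Steps.nil)))) (nat_lit 26) (nat_lit 1),
  Rule.mk (nat_lit 3) (nat_lit 114) (Steps.bwd (nat_lit 9) (Steps.bwd (nat_lit 1) (Steps.fwd (nat_lit 2359296) (Steps.bwd (nat_lit 2) (Steps.bwd (nat_lit 1) Steps.nil))))) (nat_lit 104) (nat_lit 4)]
noncomputable def R_70 : List (Rule) := [Rule.mk (nat_lit 1) (nat_lit 154) (Steps.fwd (nat_lit 524288) (Steps.bwd (nat_lit 1) (Steps.bwd (nat_lit 2) (Steps.bwd (nat_lit 1) (Steps.fwd (nat_lit 524288) (Steps.fwd (nat_lit 262144) (Steps.fwd (nat_lit 786432) Steps.nil))))))) (nat_lit 68) (nat_lit 3),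
  Rule.mk (nat_lit 5) (nat_lit 154) (Steps.bwd (nat_lit 1) (Steps.bwd (nat_lit 2) (Steps.bwd (nat_lit 1) (Steps.fwd (nat_lit 1310720) (Steps.bwd (nat_lit 2) (Steps.bwd (nat_lit 1) (Steps.fwd (nat_lit 786432) Steps.nil))))))) (nat_lit 70) (nat_lit 0),
  Rule.mk (nat_lit 5) (nat_lit 154) (Steps.bwd (nat_lit 1) (Steps.fwd (nat_lit 524288) (Steps.bwd (nat_lit 1) (Steps.fwd (nat_lit 1310720) (Steps.fwd (nat_lit 524288) (Steps.bwd (nat_lit 1) (Steps.bwd (nat_lit 3) Steps.nil))))))) (nat_lit 71) (nat_lit 5),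
  Rule.mk (nat_lit 0) (nat_lit 174) (Steps.bwd (nat_lit 1) (Steps.bwd (nat_lit 6) (Steps.bwd (nat_lit 1) (Steps.bwd (nat_lit 4) (Steps.fwd (nat_lit 262144) (Steps.fwd (nat_lit 1572864) (Steps.fwd (nat_lit 262144) (Steps.fwd (nat_lit 1048576) Steps.nil)))))))) (nat_lit 74) (nat_lit 2),
  Rule.mk (nat_lit 4) (nat_lit 154) (Steps.fwd (nat_lit 1835008) (Steps.bwd (nat_lit 1) (Steps.bwd (nat_lit 4) (Steps.bwd (nat_lit 1) (Steps.fwd (nat_lit 1835008) (Steps.bwd (nat_lit 4) (Steps.bwd (nat_lit 1) Steps.nil))))))) (nat_lit 76) (nat_lit 7),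
  Rule.mk (nat_lit 4) (nat_lit 154) (Steps.bwd (nat_lit 1) (Steps.bwd (nat_lit 4) (Steps.bwd (nat_lit 7) (Steps.bwd (nat_lit 1) (Steps.bwd (nat_lit 4) (Steps.bwd (nat_lit 1) (Steps.fwd (nat_lit 1835008) Steps.nil))))))) (nat_lit 76) (nat_lit 5),
  Rule.mk (nat_lit 1) (nat_lit 274) (Steps.bwd (nat_lit 3) (Steps.bwd (nat_lit 5) (Steps.bwd (nat_lit 6) (Steps.fwd (nat_lit 262144) (Steps.fwd (nat_lit 1572864) (Steps.fwd (nat_lit 262144) (Steps.fwd (nat_lit 524288) (Steps.fwd (nat_lit 262144) (Steps.fwd (nat_lit 1572864) (Steps.bwd (nat_lit 1) (Steps.bwd (nat_lit 3) (Steps.bwd (nat_lit 1) (Steps.bwd (nat_lit 6) Steps.nil))))))))))))) (nat_lit 35) (nat_lit 13),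
  Rule.mk (nat_lit 4) (nat_lit 154) (Steps.bwd (nat_lit 1) (Steps.bwd (nat_lit 6) (Steps.fwd (nat_lit 262144) (Steps.fwd (nat_lit 1048576) (Steps.fwd (nat_lit 262144) (Steps.bwd (nat_lit 6) (Steps.bwd (nat_lit 1) Steps.nil))))))) (nat_lit 74) (nat_lit 2),
  Rule.mk (nat_lit 4) (nat_lit 314) (Steps.bwd (nat_lit 8) (Steps.bwd (nat_lit 4) (Steps.fwd (nat_lit 2097152) (Steps.fwd (nat_lit 1048576) (Steps.bwd (nat_lit 8) (Steps.fwd (nat_lit 1048576) (Steps.bwd (nat_lit 9) (Steps.fwd (nat_lit 1048576) (Steps.fwd (nat_lit 2359296) (Steps.bwd (nat_lit 4) (Steps.bwd (nat_lit 9) (Steps.bwd (nat_lit 4) (Steps.fwd (nat_lit 2359296) (Steps.bwd (nat_lit 4) (Steps.bwd (nat_lit 9) Steps.nil))))))))))))))) (nat_lit 106) (nat_lit 0),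
  Rule.mk (nat_lit 1) (nat_lit 114) (Steps.fwd (nat_lit 1048576) (Steps.fwd (nat_lit 262144) (Steps.fwd (nat_lit 1048576) (Steps.bwd (nat_lit 1) (Steps.bwd (nat_lit 4) Steps.nil))))) (nat_lit 16) (nat_lit 1),
  Rule.mk (nat_lit 2) (nat_lit 154) (Steps.bwd (nat_lit 1) (Steps.fwd (nat_lit 1310720) (Steps.fwd (nat_lit 786432) (Steps.fwd (nat_lit 262144) (Steps.fwd (nat_lit 786432) (Steps.bwd (nat_lit 5) (Steps.fwd (nat_lit 262144) Steps.nil))))))) (nat_lit 70) (nat_lit 2),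
  Rule.mk (nat_lit 5) (nat_lit 154) (Steps.fwd (nat_lit 262144) (Steps.fwd (nat_lit 786432) (Steps.fwd (nat_lit 262144) (Steps.fwd (nat_lit 1310720) (Steps.fwd (nat_lit 786432) (Steps.fwd (nat_lit 262144) (Steps.bwd (nat_lit 2) Steps.nil))))))) (nat_lit 70) (nat_lit 0),
  Rule.mk (nat_lit 5) (nat_lit 154) (Steps.bwd (nat_lit 2) (Steps.bwd (nat_lit 1) (Steps.bwd (nat_lit 2) (Steps.bwd (nat_lit 5) (Steps.fwd (nat_lit 262144) (Steps.fwd (nat_lit 786432) (Steps.fwd (nat_lit 262144) Steps.nil))))))) (nat_lit 70) (nat_lit 4),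
  Rule.mk (nat_lit 7) (nat_lit 154) (Steps.fwd (nat_lit 262144) (Steps.fwd (nat_lit 786432) (Steps.fwd (nat_lit 262144) (Steps.fwd (nat_lit 1835008) (Steps.fwd (nat_lit 786432) (Steps.fwd (nat_lit 262144) (Steps.bwd (nat_lit 2) Steps.nil))))))) (nat_lit 72) (nat_lit 0),
  Rule.mk (nat_lit 7) (nat_lit 154) (Steps.bwd (nat_lit 2) (Steps.fwd (nat_lit 262144) (Steps.fwd (nat_lit 786432) (Steps.fwd (nat_lit 1835008) (Steps.fwd (nat_lit 262144) (Steps.fwd (nat_lit 786432) (Steps.fwd (nat_lit 262144) Steps.nil))))))) (nat_lit 72) (nat_lit 4),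
  Rule.mk (nat_lit 1) (nat_lit 274) (Steps.bwd (nat_lit 6) (Steps.fwd (nat_lit 262144) (Steps.fwd (nat_lit 786432) (Steps.fwd (nat_lit 262144) (Steps.fwd (nat_lit 1572864) (Steps.bwd (nat_lit 1) (Steps.bwd (nat_lit 6) (Steps.bwd (nat_lit 5) (Steps.bwd (nat_lit 2) (Steps.fwd (nat_lit 262144) (Steps.bwd (nat_lit 6) (Steps.bwd (nat_lit 1) (Steps.bwd (nat_lit 2) Steps.nil))))))))))))) (nat_lit 34) (nat_lit 6),
  Rule.mk (nat_lit 6) (nat_lit 274) (Steps.bwd (nat_lit 1) (Steps.fwd (nat_lit 1572864) (Steps.fwd (nat_lit 1310720) (Steps.bwd (nat_lit 2) (Steps.fwd (nat_lit 262144) (Steps.fwd (nat_lit 1572864) (Steps.bwd (nat_lit 1) (Steps.fwd (nat_lit 786432) (Steps.fwd (nat_lit 262144) (Steps.bwd (nat_lit 6) (Steps.fwd (nat_lit 262144) (Steps.fwd (nat_lit 786432) (Steps.fwd (nat_lit 262144) Steps.nil))))))))))))) (nat_lit 34) (nat_lit 11),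
  Rule.mk (nat_lit 7) (nat_lit 114) (Steps.bwd (nat_lit 6) (Steps.fwd (nat_lit 524288) (Steps.fwd (nat_lit 1835008) (Steps.bwd (nat_lit 6) (Steps.bwd (nat_lit 2) Steps.nil))))) (nat_lit 63) (nat_lit 4),
  Rule.mk (nat_lit 1) (nat_lit 274) (Steps.fwd (nat_lit 1572864) (Steps.fwd (nat_lit 262144) (Steps.fwd (nat_lit 524288) (Steps.bwd (nat_lit 5) (Steps.bwd (nat_lit 6) (Steps.bwd (nat_lit 1) (Steps.bwd (nat_lit 6) (Steps.fwd (nat_lit 262144) (Steps.fwd (nat_lit 524288) (Steps.fwd (nat_lit 262144) (Steps.bwd (nat_lit 6) (Steps.bwd (nat_lit 1) (Steps.fwd (nat_lit 524288) Steps.nil))))))))))))) (nat_lit 35) (nat_lit 11),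
  Rule.mk (nat_lit 1) (nat_lit 154) (Steps.bwd (nat_lit 4) (Steps.fwd (nat_lit 262144) (Steps.fwd (nat_lit 1572864) (Steps.bwd (nat_lit 1) (Steps.bwd (nat_lit 4) (Steps.fwd (nat_lit 262144) (Steps.fwd (nat_lit 1572864) Steps.nil))))))) (nat_lit 74) (nat_lit 1),
  Rule.mk (nat_lit 0) (nat_lit 294) (Steps.bwd (nat_lit 1) (Steps.bwd (nat_lit 6) (Steps.bwd (nat_lit 5) (Steps.bwd (nat_lit 2) (Steps.fwd (nat_lit 262144) (Steps.fwd (nat_lit 1572864) (Steps.bwd (nat_lit 1) (Steps.bwd (nat_lit 2) (Steps.bwd (nat_lit 1) (Steps.fwd (nat_lit 1572864) (Steps.fwd (nat_lit 262144) (Steps.fwd (nat_lit 786432) (Steps.fwd (nat_lit 262144) (Steps.fwd (nat_lit 1572864) Steps.nil)))))))))))))) (nat_lit 34) (nat_lit 11),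
  Rule.mk (nat_lit 4) (nat_lit 114) (Steps.bwd (nat_lit 3) (Steps.fwd (nat_lit 1310720) (Steps.bwd (nat_lit 4) (Steps.fwd (nat_lit 524288) (Steps.fwd (nat_lit 1572864) Steps.nil))))) (nat_lit 55) (nat_lit 2),
  Rule.mk (nat_lit 7) (nat_lit 154) (Steps.bwd (nat_lit 1) (Steps.bwd (nat_lit 4) (Steps.bwd (nat_lit 1) (Steps.fwd (nat_lit 1835008) (Steps.bwd (nat_lit 4) (Steps.fwd (nat_lit 262144) (Steps.bwd (nat_lit 4) Steps.nil))))))) (nat_lit 76) (nat_lit 0),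
  Rule.mk (nat_lit 2) (nat_lit 114) (Steps.bwd (nat_lit 4) (Steps.fwd (nat_lit 1835008) (Steps.bwd (nat_lit 2) (Steps.bwd (nat_lit 4) (Steps.fwd (nat_lit 1835008) Steps.nil))))) (nat_lit 56) (nat_lit 1),
  Rule.mk (nat_lit 5) (nat_lit 114) (Steps.fwd (nat_lit 1835008) (Steps.fwd (nat_lit 524288) (Steps.bwd (nat_lit 5) (Steps.fwd (nat_lit 1835008) (Steps.bwd (nat_lit 2) Steps.nil))))) (nat_lit 60) (nat_lit 2),
  Rule.mk (nat_lit 2) (nat_lit 114) (Steps.fwd (nat_lit 1835008) (Steps.fwd (nat_lit 1048576) (Steps.bwd (nat_lit 2) (Steps.fwd (nat_lit 1835008) (Steps.fwd (nat_lit 1048576) Steps.nil))))) (nat_lit 64) (nat_lit 1),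
  Rule.mk (nat_lit 4) (nat_lit 114) (Steps.bwd (nat_lit 6) (Steps.fwd (nat_lit 1835008) (Steps.fwd (nat_lit 1048576) (Steps.fwd (nat_lit 1310720) (Steps.fwd (nat_lit 1835008) Steps.nil))))) (nat_lit 66) (nat_lit 4),
  Rule.mk (nat_lit 4) (nat_lit 154) (Steps.bwd (nat_lit 5) (Steps.fwd (nat_lit 1835008) (Steps.bwd (nat_lit 2) (Steps.bwd (nat_lit 4) (Steps.fwd (nat_lit 1572864) (Steps.fwd (nat_lit 1835008) (Steps.fwd (nat_lit 786432) Steps.nil))))))) (nat_lit 78) (nat_lit 2),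
  Rule.mk (nat_lit 4) (nat_lit 154) (Steps.fwd (nat_lit 1835008) (Steps.bwd (nat_lit 6) (Steps.bwd (nat_lit 2) (Steps.bwd (nat_lit 4) (Steps.fwd (nat_lit 1835008) (Steps.fwd (nat_lit 1310720) (Steps.bwd (nat_lit 2) Steps.nil))))))) (nat_lit 80) (nat_lit 6),
  Rule.mk (nat_lit 2) (nat_lit 154) (Steps.bwd (nat_lit 6) (Steps.fwd (nat_lit 1835008) (Steps.fwd (nat_lit 1048576) (Steps.bwd (nat_lit 2) (Steps.bwd (nat_lit 5) (Steps.fwd (nat_lit 1835008) (Steps.fwd (nat_lit 1048576) Steps.nil))))))) (nat_lit 88) (nat_lit 5),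
  Rule.mk (nat_lit 7) (nat_lit 114) (Steps.bwd (nat_lit 4) (Steps.bwd (nat_lit 5) (Steps.fwd (nat_lit 1835008) (Steps.fwd (nat_lit 1048576) (Steps.fwd (nat_lit 1572864) Steps.nil))))) (nat_lit 66) (nat_lit 0),
  Rule.mk (nat_lit 1) (nat_lit 154) (Steps.fwd (nat_lit 1835008) (Steps.fwd (nat_lit 786432) (Steps.bwd (nat_lit 1) (Steps.fwd (nat_lit 786432) (Steps.fwd (nat_lit 1835008) (Steps.bwd (nat_lit 1) (Steps.fwd (nat_lit 786432) Steps.nil))))))) (nat_lit 72) (nat_lit 3),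
  Rule.mk (nat_lit 4) (nat_lit 154) (Steps.fwd (nat_lit 786432) (Steps.bwd (nat_lit 5) (Steps.fwd (nat_lit 1835008) (Steps.bwd (nat_lit 4) (Steps.bwd (nat_lit 2) (Steps.bwd (nat_lit 6) (Steps.fwd (nat_lit 1835008) Steps.nil))))))) (nat_lit 88) (nat_lit 0),
  Rule.mk (nat_lit 0) (nat_lit 334) (Steps.bwd (nat_lit 4) (Steps.fwd (nat_lit 2097152) (Steps.fwd (nat_lit 1048576) (Steps.bwd (nat_lit 8) (Steps.bwd (nat_lit 4) (Steps.fwd (nat_lit 2097152) (Steps.fwd (nat_lit 1048576) (Steps.bwd (nat_lit 8) (Steps.fwd (nat_lit 1048576) (Steps.fwd (nat_lit 2097152) (Steps.bwd (nat_lit 4) (Steps.bwd (nat_lit 8) (Steps.bwd (nat_lit 4) (Steps.bwd (nat_lit 9) (Steps.fwd (nat_lit 1048576) (Steps.fwd (nat_lit 2359296) Steps.nil)))))))))))))))) (nat_lit 106) (nat_lit 1),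
  Rule.mk (nat_lit 0) (nat_lit 94) (Steps.fwd (nat_lit 524288) (Steps.bwd (nat_lit 4) (Steps.fwd (nat_lit 524288) (Steps.fwd (nat_lit 1048576) Steps.nil)))) (nat_lit 15) (nat_lit 0),
  Rule.mk (nat_lit 4) (nat_lit 154) (Steps.bwd (nat_lit 6) (Steps.fwd (nat_lit 1835008) (Steps.fwd (nat_lit 786432) (Steps.bwd (nat_lit 4) (Steps.fwd (nat_lit 1310720) (Steps.fwd (nat_lit 1835008) (Steps.bwd (nat_lit 2) Steps.nil))))))) (nat_lit 78) (nat_lit 6),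
  Rule.mk (nat_lit 3) (nat_lit 154) (Steps.bwd (nat_lit 7) (Steps.bwd (nat_lit 6) (Steps.bwd (nat_lit 4) (Steps.fwd (nat_lit 524288) (Steps.fwd (nat_lit 1835008) (Steps.bwd (nat_lit 5) (Steps.fwd (nat_lit 1048576) Steps.nil))))))) (nat_lit 79) (nat_lit 0),
  Rule.mk (nat_lit 4) (nat_lit 314) (Steps.bwd (nat_lit 9) (Steps.bwd (nat_lit 4) (Steps.bwd (nat_lit 8) (Steps.bwd (nat_lit 4) (Steps.bwd (nat_lit 9) (Steps.bwd (nat_lit 4) (Steps.bwd (nat_lit 8) (Steps.bwd (nat_lit 4) (Steps.bwd (nat_lit 9) (Steps.bwd (nat_lit 4) (Steps.fwd (nat_lit 2359296) (Steps.bwd (nat_lit 4) (Steps.bwd (nat_lit 9) (Steps.fwd (nat_lit 1048576) (Steps.fwd (nat_lit 2359296) Steps.nil))))))))))))))) (nat_lit 106) (nat_lit 2),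
  Rule.mk (nat_lit 0) (nat_lit 94) (Steps.bwd (nat_lit 4) (Steps.bwd (nat_lit 2) (Steps.bwd (nat_lit 4) (Steps.bwd (nat_lit 2) Steps.nil)))) (nat_lit 14) (nat_lit 0),
  Rule.mk (nat_lit 9) (nat_lit 314) (Steps.bwd (nat_lit 4) (Steps.bwd (nat_lit 8) (Steps.fwd (nat_lit 1048576) (Steps.bwd (nat_lit 9) (Steps.bwd (nat_lit 4) (Steps.bwd (nat_lit 8) (Steps.bwd (nat_lit 4) (Steps.bwd (nat_lit 9) (Steps.bwd (nat_lit 4) (Steps.bwd (nat_lit 8) (Steps.bwd (nat_lit 4) (Steps.bwd (nat_lit 9) (Steps.fwd (nat_lit 1048576) (Steps.bwd (nat_lit 8) (Steps.bwd (nat_lit 4) Steps.nil))))))))))))))) (nat_lit 106) (nat_lit 3),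
  Rule.mk (nat_lit 1) (nat_lit 154) (Steps.fwd (nat_lit 786432) (Steps.fwd (nat_lit 262144) (Steps.bwd (nat_lit 5) (Steps.bwd (nat_lit 2) (Steps.bwd (nat_lit 1) (Steps.fwd (nat_lit 786432) (Steps.bwd (nat_lit 5) Steps.nil))))))) (nat_lit 70) (nat_lit 1),
  Rule.mk (nat_lit 6) (nat_lit 274) (Steps.bwd (nat_lit 5) (Steps.bwd (nat_lit 2) (Steps.bwd (nat_lit 1) (Steps.fwd (nat_lit 1572864) (Steps.bwd (nat_lit 1) (Steps.fwd (nat_lit 786432) (Steps.bwd (nat_lit 1) (Steps.fwd (nat_lit 1572864) (Steps.fwd (nat_lit 262144) (Steps.bwd (nat_lit 2) (Steps.bwd (nat_lit 1) (Steps.bwd (nat_lit 6) (Steps.fwd (nat_lit 262144) Steps.nil))))))))))))) (nat_lit 34) (nat_lit 13),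
  Rule.mk (nat_lit 6) (nat_lit 154) (Steps.fwd (nat_lit 262144) (Steps.fwd (nat_lit 1048576) (Steps.fwd (nat_lit 262144) (Steps.fwd (nat_lit 1572864) (Steps.bwd (nat_lit 1) (Steps.bwd (nat_lit 4) (Steps.bwd (nat_lit 1) Steps.nil))))))) (nat_lit 74) (nat_lit 0),
  Rule.mk (nat_lit 1) (nat_lit 274) (Steps.bwd (nat_lit 6) (Steps.bwd (nat_lit 1) (Steps.bwd (nat_lit 6) (Steps.bwd (nat_lit 5) (Steps.bwd (nat_lit 2) (Steps.bwd (nat_lit 1) (Steps.fwd (nat_lit 1572864) (Steps.bwd (nat_lit 1) (Steps.fwd (nat_lit 786432) (Steps.fwd (nat_lit 262144) (Steps.fwd (nat_lit 1572864) (Steps.bwd (nat_lit 1) (Steps.bwd (nat_lit 2) Steps.nil))))))))))))) (nat_lit 34) (nat_lit 10),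
  Rule.mk (nat_lit 1) (nat_lit 274) (Steps.fwd (nat_lit 1572864) (Steps.bwd (nat_lit 1) (Steps.fwd (nat_lit 1572864) (Steps.bwd (nat_lit 5) (Steps.fwd (nat_lit 786432) (Steps.fwd (nat_lit 262144) (Steps.fwd (nat_lit 1572864) (Steps.bwd (nat_lit 1) (Steps.bwd (nat_lit 2) (Steps.bwd (nat_lit 1) (Steps.bwd (nat_lit 6) (Steps.bwd (nat_lit 1) (Steps.bwd (nat_lit 2) Steps.nil))))))))))))) (nat_lit 34) (nat_lit 10),
  Rule.mk (nat_lit 1) (nat_lit 114) (Steps.fwd (nat_lit 1048576) (Steps.bwd (nat_lit 1) (Steps.fwd (nat_lit 1048576) (Steps.fwd (nat_lit 262144) (Steps.bwd (nat_lit 4) Steps.nil))))) (nat_lit 16) (nat_lit 1),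
  Rule.mk (nat_lit 0) (nat_lit 174) (Steps.bwd (nat_lit 1) (Steps.fwd (nat_lit 524288) (Steps.bwd (nat_lit 1) (Steps.fwd (nat_lit 786432) (Steps.bwd (nat_lit 1) (Steps.fwd (nat_lit 524288) (Steps.fwd (nat_lit 262144) (Steps.bwd (nat_lit 2) Steps.nil)))))))) (nat_lit 68) (nat_lit 2),
  Rule.mk (nat_lit 1) (nat_lit 154) (Steps.bwd (nat_lit 5) (Steps.fwd (nat_lit 786432) (Steps.bwd (nat_lit 1) (Steps.fwd (nat_lit 786432) (Steps.bwd (nat_lit 5) (Steps.bwd (nat_lit 1) (Steps.fwd (nat_lit 786432) Steps.nil))))))) (nat_lit 70) (nat_lit 3),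
  Rule.mk (nat_lit 1) (nat_lit 154) (Steps.bwd (nat_lit 3) (Steps.bwd (nat_lit 5) (Steps.bwd (nat_lit 1) (Steps.bwd (nat_lit 3) (Steps.bwd (nat_lit 1) (Steps.fwd (nat_lit 1310720) (Steps.bwd (nat_lit 3) Steps.nil))))))) (nat_lit 71) (nat_lit 3),
  Rule.mk (nat_lit 1) (nat_lit 154) (Steps.bwd (nat_lit 3) (Steps.bwd (nat_lit 5) (Steps.bwd (nat_lit 1) (Steps.fwd (nat_lit 524288) (Steps.fwd (nat_lit 262144) (Steps.fwd (nat_lit 1310720) (Steps.bwd (nat_lit 3) Steps.nil))))))) (nat_lit 71) (nat_lit 3),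
  Rule.mk (nat_lit 2) (nat_lit 154) (Steps.fwd (nat_lit 262144) (Steps.fwd (nat_lit 786432) (Steps.bwd (nat_lit 5) (Steps.fwd (nat_lit 262144) (Steps.bwd (nat_lit 2) (Steps.bwd (nat_lit 1) (Steps.bwd (nat_lit 5) Steps.nil))))))) (nat_lit 70) (nat_lit 5),
  Rule.mk (nat_lit 0) (nat_lit 174) (Steps.bwd (nat_lit 4) (Steps.bwd (nat_lit 7) (Steps.bwd (nat_lit 1) (Steps.fwd (nat_lit 1048576) (Steps.fwd (nat_lit 262144) (Steps.fwd (nat_lit 1835008) (Steps.bwd (nat_lit 4) (Steps.bwd (nat_lit 1) Steps.nil)))))))) (nat_lit 76) (nat_lit 6),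
  Rule.mk (nat_lit 4) (nat_lit 154) (Steps.bwd (nat_lit 6) (Steps.fwd (nat_lit 1835008) (Steps.bwd (nat_lit 2) (Steps.bwd (nat_lit 4) (Steps.fwd (nat_lit 1310720) (Steps.fwd (nat_lit 1835008) (Steps.bwd (nat_lit 2) Steps.nil))))))) (nat_lit 78) (nat_lit 6),
  Rule.mk (nat_lit 2) (nat_lit 154) (Steps.fwd (nat_lit 262144) (Steps.bwd (nat_lit 5) (Steps.bwd (nat_lit 2) (Steps.bwd (nat_lit 1) (Steps.fwd (nat_lit 786432) (Steps.fwd (nat_lit 1310720) (Steps.fwd (nat_lit 262144) Steps.nil))))))) (nat_lit 70) (nat_lit 2),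
  Rule.mk (nat_lit 5) (nat_lit 154) (Steps.bwd (nat_lit 1) (Steps.bwd (nat_lit 2) (Steps.bwd (nat_lit 1) (Steps.fwd (nat_lit 1310720) (Steps.fwd (nat_lit 786432) (Steps.fwd (nat_lit 262144) (Steps.bwd (nat_lit 2) Steps.nil))))))) (nat_lit 70) (nat_lit 0),
  Rule.mk (nat_lit 2) (nat_lit 154) (Steps.fwd (nat_lit 262144) (Steps.bwd (nat_lit 7) (Steps.bwd (nat_lit 2) (Steps.bwd (nat_lit 1) (Steps.fwd (nat_lit 786432) (Steps.bwd (nat_lit 7) (Steps.fwd (nat_lit 262144) Steps.nil))))))) (nat_lit 72) (nat_lit 2),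
  Rule.mk (nat_lit 7) (nat_lit 154) (Steps.bwd (nat_lit 1) (Steps.bwd (nat_lit 2) (Steps.bwd (nat_lit 1) (Steps.bwd (nat_lit 7) (Steps.fwd (nat_lit 786432) (Steps.fwd (nat_lit 262144) (Steps.bwd (nat_lit 2) Steps.nil))))))) (nat_lit 72) (nat_lit 0),
  Rule.mk (nat_lit 5) (nat_lit 114) (Steps.fwd (nat_lit 524288) (Steps.bwd (nat_lit 7) (Steps.fwd (nat_lit 1310720) (Steps.bwd (nat_lit 2) (Steps.fwd (nat_lit 1835008) Steps.nil))))) (nat_lit 61) (nat_lit 5),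
  Rule.mk (nat_lit 6) (nat_lit 114) (Steps.fwd (nat_lit 524288) (Steps.bwd (nat_lit 7) (Steps.bwd (nat_lit 6) (Steps.bwd (nat_lit 2) (Steps.bwd (nat_lit 7) Steps.nil))))) (nat_lit 63) (nat_lit 5),
  Rule.mk (nat_lit 4) (nat_lit 114) (Steps.bwd (nat_lit 7) (Steps.fwd (nat_lit 1310720) (Steps.bwd (nat_lit 4) (Steps.bwd (nat_lit 7) (Steps.fwd (nat_lit 1572864) Steps.nil))))) (nat_lit 67) (nat_lit 3),
  Rule.mk (nat_lit 4) (nat_lit 154) (Steps.fwd (nat_lit 1310720) (Steps.bwd (nat_lit 7) (Steps.fwd (nat_lit 786432) (Steps.bwd (nat_lit 4) (Steps.fwd (nat_lit 1572864) (Steps.bwd (nat_lit 7) (Steps.bwd (nat_lit 2) Steps.nil))))))) (nat_lit 78) (nat_lit 2),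
  Rule.mk (nat_lit 3) (nat_lit 154) (Steps.bwd (nat_lit 7) (Steps.fwd (nat_lit 1310720) (Steps.bwd (nat_lit 4) (Steps.fwd (nat_lit 524288) (Steps.bwd (nat_lit 7) (Steps.bwd (nat_lit 6) (Steps.fwd (nat_lit 1048576) Steps.nil))))))) (nat_lit 79) (nat_lit 4),
  Rule.mk (nat_lit 3) (nat_lit 154) (Steps.fwd (nat_lit 1572864) (Steps.fwd (nat_lit 1835008) (Steps.bwd (nat_lit 4) (Steps.bwd (nat_lit 3) (Steps.bwd (nat_lit 5) (Steps.bwd (nat_lit 7) (Steps.bwd (nat_lit 4) Steps.nil))))))) (nat_lit 81) (nat_lit 0),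
  Rule.mk (nat_lit 9) (nat_lit 314) (Steps.bwd (nat_lit 4) (Steps.bwd (nat_lit 8) (Steps.bwd (nat_lit 4) (Steps.bwd (nat_lit 9) (Steps.fwd (nat_lit 1048576) (Steps.bwd (nat_lit 8) (Steps.bwd (nat_lit 4) (Steps.bwd (nat_lit 9) (Steps.fwd (nat_lit 1048576) (Steps.fwd (nat_lit 2359296) (Steps.bwd (nat_lit 4) (Steps.fwd (nat_lit 2097152) (Steps.fwd (nat_lit 1048576) (Steps.fwd (nat_lit 2359296) (Steps.fwd (nat_lit 1048576) Steps.nil))))))))))))))) (nat_lit 106) (nat_lit 3)]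
noncomputable def R_71 : List (Rule) := [Rule.mk (nat_lit 4) (nat_lit 314) (Steps.fwd (nat_lit 2359296) (Steps.bwd (nat_lit 4) (Steps.bwd (nat_lit 9) (Steps.bwd (nat_lit 4) (Steps.bwd (nat_lit 8) (Steps.bwd (nat_lit 4) (Steps.bwd (nat_lit 9) (Steps.fwd (nat_lit 1048576) (Steps.fwd (nat_lit 2359296) (Steps.fwd (nat_lit 1048576) (Steps.fwd (nat_lit 2097152) (Steps.bwd (nat_lit 4) (Steps.bwd (nat_lit 8) (Steps.fwd (nat_lit 1048576) (Steps.bwd (nat_lit 9) Steps.nil))))))))))))))) (nat_lit 106) (nat_lit 0),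
  Rule.mk (nat_lit 0) (nat_lit 334) (Steps.bwd (nat_lit 8) (Steps.bwd (nat_lit 4) (Steps.bwd (nat_lit 9) (Steps.bwd (nat_lit 4) (Steps.fwd (nat_lit 2359296) (Steps.bwd (nat_lit 4) (Steps.fwd (nat_lit 2097152) (Steps.bwd (nat_lit 4) (Steps.fwd (nat_lit 2359296) (Steps.bwd (nat_lit 4) (Steps.fwd (nat_lit 2097152) (Steps.fwd (nat_lit 1048576) (Steps.bwd (nat_lit 8) (Steps.fwd (nat_lit 1048576) (Steps.fwd (nat_lit 2097152) (Steps.fwd (nat_lit 1048576) Steps.nil)))))))))))))))) (nat_lit 106) (nat_lit 0),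
  Rule.mk (nat_lit 4) (nat_lit 114) (Steps.fwd (nat_lit 1835008) (Steps.bwd (nat_lit 2) (Steps.fwd (nat_lit 1048576) (Steps.bwd (nat_lit 7) (Steps.bwd (nat_lit 2) Steps.nil))))) (nat_lit 56) (nat_lit 2),
  Rule.mk (nat_lit 4) (nat_lit 154) (Steps.bwd (nat_lit 6) (Steps.fwd (nat_lit 1835008) (Steps.bwd (nat_lit 2) (Steps.fwd (nat_lit 1048576) (Steps.bwd (nat_lit 5) (Steps.fwd (nat_lit 1835008) (Steps.bwd (nat_lit 2) Steps.nil))))))) (nat_lit 78) (nat_lit 6),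
  Rule.mk (nat_lit 0) (nat_lit 334) (Steps.bwd (nat_lit 4) (Steps.bwd (nat_lit 9) (Steps.bwd (nat_lit 4) (Steps.fwd (nat_lit 2359296) (Steps.fwd (nat_lit 1048576) (Steps.bwd (nat_lit 9) (Steps.fwd (nat_lit 1048576) (Steps.fwd (nat_lit 2359296) (Steps.bwd (nat_lit 4) (Steps.fwd (nat_lit 2097152) (Steps.fwd (nat_lit 1048576) (Steps.fwd (nat_lit 2359296) (Steps.fwd (nat_lit 1048576) (Steps.fwd (nat_lit 2097152) (Steps.fwd (nat_lit 1048576) (Steps.fwd (nat_lit 2359296) Steps.nil)))))))))))))))) (nat_lit 106) (nat_lit 1),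
  Rule.mk (nat_lit 7) (nat_lit 74) (Steps.fwd (nat_lit 1310720) (Steps.fwd (nat_lit 1835008) (Steps.bwd (nat_lit 5) Steps.nil))) (nat_lit 32) (nat_lit 1),
  Rule.mk (nat_lit 3) (nat_lit 114) (Steps.bwd (nat_lit 6) (Steps.fwd (nat_lit 1835008) (Steps.bwd (nat_lit 2) (Steps.bwd (nat_lit 6) (Steps.fwd (nat_lit 1835008) Steps.nil))))) (nat_lit 62) (nat_lit 4),
  Rule.mk (nat_lit 3) (nat_lit 114) (Steps.bwd (nat_lit 6) (Steps.fwd (nat_lit 1835008) (Steps.fwd (nat_lit 786432) (Steps.bwd (nat_lit 6) (Steps.fwd (nat_lit 1835008) Steps.nil))))) (nat_lit 62) (nat_lit 4),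
  Rule.mk (nat_lit 4) (nat_lit 114) (Steps.bwd (nat_lit 6) (Steps.fwd (nat_lit 1835008) (Steps.fwd (nat_lit 1048576) (Steps.bwd (nat_lit 5) (Steps.fwd (nat_lit 1835008) Steps.nil))))) (nat_lit 66) (nat_lit 4),
  Rule.mk (nat_lit 4) (nat_lit 154) (Steps.fwd (nat_lit 1310720) (Steps.fwd (nat_lit 1835008) (Steps.bwd (nat_lit 2) (Steps.bwd (nat_lit 4) (Steps.bwd (nat_lit 6) (Steps.fwd (nat_lit 1835008) (Steps.fwd (nat_lit 786432) Steps.nil))))))) (nat_lit 78) (nat_lit 2),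
  Rule.mk (nat_lit 4) (nat_lit 154) (Steps.bwd (nat_lit 5) (Steps.fwd (nat_lit 786432) (Steps.fwd (nat_lit 1835008) (Steps.fwd (nat_lit 1048576) (Steps.fwd (nat_lit 1572864) (Steps.bwd (nat_lit 2) (Steps.fwd (nat_lit 1835008) Steps.nil))))))) (nat_lit 90) (nat_lit 3),
  Rule.mk (nat_lit 7) (nat_lit 114) (Steps.bwd (nat_lit 4) (Steps.fwd (nat_lit 1310720) (Steps.fwd (nat_lit 1835008) (Steps.fwd (nat_lit 1048576) (Steps.fwd (nat_lit 1572864) Steps.nil))))) (nat_lit 66) (nat_lit 0),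
  Rule.mk (nat_lit 2) (nat_lit 154) (Steps.fwd (nat_lit 1310720) (Steps.fwd (nat_lit 1835008) (Steps.fwd (nat_lit 1048576) (Steps.fwd (nat_lit 786432) (Steps.fwd (nat_lit 1572864) (Steps.fwd (nat_lit 1835008) (Steps.bwd (nat_lit 4) Steps.nil))))))) (nat_lit 88) (nat_lit 1),
  Rule.mk (nat_lit 0) (nat_lit 174) (Steps.bwd (nat_lit 1) (Steps.bwd (nat_lit 2) (Steps.fwd (nat_lit 262144) (Steps.fwd (nat_lit 524288) (Steps.bwd (nat_lit 1) (Steps.bwd (nat_lit 2) (Steps.bwd (nat_lit 1) (Steps.fwd (nat_lit 524288) Steps.nil)))))))) (nat_lit 68) (nat_lit 0),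
  Rule.mk (nat_lit 5) (nat_lit 154) (Steps.fwd (nat_lit 1572864) (Steps.bwd (nat_lit 2) (Steps.fwd (nat_lit 1310720) (Steps.bwd (nat_lit 2) (Steps.fwd (nat_lit 1835008) (Steps.bwd (nat_lit 6) (Steps.fwd (nat_lit 786432) Steps.nil))))))) (nat_lit 84) (nat_lit 7),
  Rule.mk (nat_lit 1) (nat_lit 274) (Steps.bwd (nat_lit 6) (Steps.bwd (nat_lit 1) (Steps.fwd (nat_lit 1572864) (Steps.fwd (nat_lit 1310720) (Steps.fwd (nat_lit 786432) (Steps.fwd (nat_lit 262144) (Steps.fwd (nat_lit 1572864) (Steps.bwd (nat_lit 1) (Steps.bwd (nat_lit 2) (Steps.bwd (nat_lit 1) (Steps.fwd (nat_lit 1572864) (Steps.fwd (nat_lit 262144) (Steps.bwd (nat_lit 2) Steps.nil))))))))))))) (nat_lit 34) (nat_lit 10),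
  Rule.mk (nat_lit 0) (nat_lit 174) (Steps.bwd (nat_lit 1) (Steps.fwd (nat_lit 524288) (Steps.fwd (nat_lit 262144) (Steps.bwd (nat_lit 2) (Steps.bwd (nat_lit 1) (Steps.fwd (nat_lit 524288) (Steps.bwd (nat_lit 1) (Steps.bwd (nat_lit 2) Steps.nil)))))))) (nat_lit 68) (nat_lit 2),
  Rule.mk (nat_lit 5) (nat_lit 154) (Steps.bwd (nat_lit 2) (Steps.bwd (nat_lit 1) (Steps.bwd (nat_lit 2) (Steps.fwd (nat_lit 1310720) (Steps.fwd (nat_lit 262144) (Steps.fwd (nat_lit 786432) (Steps.fwd (nat_lit 262144) Steps.nil))))))) (nat_lit 70) (nat_lit 4),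
  Rule.mk (nat_lit 7) (nat_lit 154) (Steps.bwd (nat_lit 1) (Steps.bwd (nat_lit 3) (Steps.bwd (nat_lit 1) (Steps.fwd (nat_lit 1835008) (Steps.bwd (nat_lit 3) (Steps.bwd (nat_lit 1) (Steps.fwd (nat_lit 524288) Steps.nil))))))) (nat_lit 73) (nat_lit 5),
  Rule.mk (nat_lit 7) (nat_lit 154) (Steps.bwd (nat_lit 1) (Steps.bwd (nat_lit 4) (Steps.bwd (nat_lit 1) (Steps.fwd (nat_lit 1835008) (Steps.fwd (nat_lit 1048576) (Steps.bwd (nat_lit 1) (Steps.bwd (nat_lit 4) Steps.nil))))))) (nat_lit 76) (nat_lit 0),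
  Rule.mk (nat_lit 0) (nat_lit 294) (Steps.bwd (nat_lit 1) (Steps.fwd (nat_lit 524288) (Steps.bwd (nat_lit 1) (Steps.bwd (nat_lit 6) (Steps.fwd (nat_lit 262144) (Steps.fwd (nat_lit 524288) (Steps.bwd (nat_lit 5) (Steps.fwd (nat_lit 1572864) (Steps.fwd (nat_lit 262144) (Steps.bwd (nat_lit 6) (Steps.bwd (nat_lit 1) (Steps.fwd (nat_lit 524288) (Steps.fwd (nat_lit 262144) (Steps.fwd (nat_lit 1572864) Steps.nil)))))))))))))) (nat_lit 35) (nat_lit 8),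
  Rule.mk (nat_lit 0) (nat_lit 294) (Steps.bwd (nat_lit 1) (Steps.fwd (nat_lit 1572864) (Steps.bwd (nat_lit 1) (Steps.bwd (nat_lit 3) (Steps.fwd (nat_lit 262144) (Steps.fwd (nat_lit 1572864) (Steps.bwd (nat_lit 1) (Steps.fwd (nat_lit 524288) (Steps.bwd (nat_lit 1) (Steps.fwd (nat_lit 1572864) (Steps.fwd (nat_lit 262144) (Steps.bwd (nat_lit 3) (Steps.fwd (nat_lit 1310720) (Steps.bwd (nat_lit 6) Steps.nil)))))))))))))) (nat_lit 35) (nat_lit 2),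
  Rule.mk (nat_lit 0) (nat_lit 294) (Steps.bwd (nat_lit 1) (Steps.fwd (nat_lit 524288) (Steps.fwd (nat_lit 1310720) (Steps.bwd (nat_lit 6) (Steps.bwd (nat_lit 1) (Steps.fwd (nat_lit 1572864) (Steps.bwd (nat_lit 1) (Steps.bwd (nat_lit 3) (Steps.bwd (nat_lit 1) (Steps.bwd (nat_lit 6) (Steps.bwd (nat_lit 1) (Steps.fwd (nat_lit 524288) (Steps.fwd (nat_lit 262144) (Steps.fwd (nat_lit 1572864) Steps.nil)))))))))))))) (nat_lit 35) (nat_lit 12),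
  Rule.mk (nat_lit 0) (nat_lit 134) (Steps.bwd (nat_lit 4) (Steps.bwd (nat_lit 1) (Steps.fwd (nat_lit 1048576) (Steps.fwd (nat_lit 262144) (Steps.bwd (nat_lit 4) (Steps.bwd (nat_lit 1) Steps.nil)))))) (nat_lit 16) (nat_lit 1),
  Rule.mk (nat_lit 1) (nat_lit 154) (Steps.fwd (nat_lit 786432) (Steps.fwd (nat_lit 262144) (Steps.bwd (nat_lit 5) (Steps.bwd (nat_lit 2) (Steps.bwd (nat_lit 1) (Steps.fwd (nat_lit 786432) (Steps.fwd (nat_lit 1310720) Steps.nil))))))) (nat_lit 70) (nat_lit 1),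
  Rule.mk (nat_lit 5) (nat_lit 154) (Steps.fwd (nat_lit 262144) (Steps.bwd (nat_lit 2) (Steps.bwd (nat_lit 1) (Steps.fwd (nat_lit 1310720) (Steps.bwd (nat_lit 2) (Steps.fwd (nat_lit 262144) (Steps.fwd (nat_lit 786432) Steps.nil))))))) (nat_lit 70) (nat_lit 0),
  Rule.mk (nat_lit 1) (nat_lit 154) (Steps.fwd (nat_lit 524288) (Steps.bwd (nat_lit 5) (Steps.bwd (nat_lit 1) (Steps.bwd (nat_lit 3) (Steps.fwd (nat_lit 262144) (Steps.fwd (nat_lit 1310720) (Steps.bwd (nat_lit 3) Steps.nil))))))) (nat_lit 71) (nat_lit 3),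
  Rule.mk (nat_lit 7) (nat_lit 154) (Steps.fwd (nat_lit 262144) (Steps.bwd (nat_lit 2) (Steps.bwd (nat_lit 1) (Steps.fwd (nat_lit 1835008) (Steps.fwd (nat_lit 786432) (Steps.fwd (nat_lit 262144) (Steps.bwd (nat_lit 2) Steps.nil))))))) (nat_lit 72) (nat_lit 0),
  Rule.mk (nat_lit 4) (nat_lit 114) (Steps.fwd (nat_lit 1835008) (Steps.fwd (nat_lit 786432) (Steps.fwd (nat_lit 1048576) (Steps.fwd (nat_lit 1835008) (Steps.bwd (nat_lit 2) Steps.nil))))) (nat_lit 56) (nat_lit 2),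
  Rule.mk (nat_lit 4) (nat_lit 114) (Steps.bwd (nat_lit 5) (Steps.fwd (nat_lit 1835008) (Steps.fwd (nat_lit 1048576) (Steps.fwd (nat_lit 1572864) (Steps.fwd (nat_lit 1835008) Steps.nil))))) (nat_lit 66) (nat_lit 1),
  Rule.mk (nat_lit 4) (nat_lit 154) (Steps.fwd (nat_lit 1835008) (Steps.fwd (nat_lit 1572864) (Steps.bwd (nat_lit 2) (Steps.bwd (nat_lit 4) (Steps.fwd (nat_lit 1835008) (Steps.fwd (nat_lit 1310720) (Steps.bwd (nat_lit 2) Steps.nil))))))) (nat_lit 80) (nat_lit 6),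
  Rule.mk (nat_lit 4) (nat_lit 314) (Steps.bwd (nat_lit 9) (Steps.fwd (nat_lit 1048576) (Steps.bwd (nat_lit 8) (Steps.bwd (nat_lit 4) (Steps.fwd (nat_lit 2097152) (Steps.bwd (nat_lit 4) (Steps.fwd (nat_lit 2359296) (Steps.bwd (nat_lit 4) (Steps.bwd (nat_lit 9) (Steps.bwd (nat_lit 4) (Steps.fwd (nat_lit 2359296) (Steps.bwd (nat_lit 4) (Steps.bwd (nat_lit 9) (Steps.fwd (nat_lit 1048576) (Steps.fwd (nat_lit 2359296) Steps.nil))))))))))))))) (nat_lit 106) (nat_lit 2),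
  Rule.mk (nat_lit 3) (nat_lit 114) (Steps.fwd (nat_lit 1310720) (Steps.bwd (nat_lit 4) (Steps.fwd (nat_lit 524288) (Steps.fwd (nat_lit 1572864) (Steps.fwd (nat_lit 1048576) Steps.nil))))) (nat_lit 55) (nat_lit 3),
  Rule.mk (nat_lit 4) (nat_lit 114) (Steps.bwd (nat_lit 2) (Steps.fwd (nat_lit 1835008) (Steps.bwd (nat_lit 4) (Steps.bwd (nat_lit 2) (Steps.fwd (nat_lit 1835008) Steps.nil))))) (nat_lit 64) (nat_lit 0),
  Rule.mk (nat_lit 4) (nat_lit 314) (Steps.bwd (nat_lit 8) (Steps.fwd (nat_lit 1048576) (Steps.bwd (nat_lit 9) (Steps.bwd (nat_lit 4) (Steps.bwd (nat_lit 8) (Steps.fwd (nat_lit 1048576) (Steps.bwd (nat_lit 9) (Steps.bwd (nat_lit 4) (Steps.fwd (nat_lit 2359296) (Steps.bwd (nat_lit 4) (Steps.bwd (nat_lit 9) (Steps.bwd (nat_lit 4) (Steps.fwd (nat_lit 2359296) (Steps.fwd (nat_lit 1048576) (Steps.fwd (nat_lit 2097152) Steps.nil))))))))))))))) (nat_lit 106)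 (nat_lit 0),
  Rule.mk (nat_lit 4) (nat_lit 314) (Steps.bwd (nat_lit 9) (Steps.bwd (nat_lit 4) (Steps.bwd (nat_lit 8) (Steps.bwd (nat_lit 4) (Steps.bwd (nat_lit 9) (Steps.bwd (nat_lit 4) (Steps.fwd (nat_lit 2359296) (Steps.bwd (nat_lit 4) (Steps.bwd (nat_lit 9) (Steps.fwd (nat_lit 1048576) (Steps.bwd (nat_lit 8) (Steps.fwd (nat_lit 1048576) (Steps.fwd (nat_lit 2097152) (Steps.bwd (nat_lit 4) (Steps.fwd (nat_lit 2359296) Steps.nil))))))))))))))) (nat_lit 106) (nat_lit 2),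
  Rule.mk (nat_lit 0) (nat_lit 94) (Steps.bwd (nat_lit 4) (Steps.bwd (nat_lit 2) (Steps.bwd (nat_lit 4) (Steps.fwd (nat_lit 786432) Steps.nil)))) (nat_lit 14) (nat_lit 0),
  Rule.mk (nat_lit 0) (nat_lit 134) (Steps.bwd (nat_lit 4) (Steps.bwd (nat_lit 6) (Steps.fwd (nat_lit 786432) (Steps.bwd (nat_lit 4) (Steps.bwd (nat_lit 5) (Steps.fwd (nat_lit 786432) Steps.nil)))))) (nat_lit 54) (nat_lit 4),
  Rule.mk (nat_lit 4) (nat_lit 314) (Steps.bwd (nat_lit 9) (Steps.bwd (nat_lit 4) (Steps.bwd (nat_lit 8) (Steps.bwd (nat_lit 4) (Steps.fwd (nat_lit 2097152) (Steps.fwd (nat_lit 1048576) (Steps.fwd (nat_lit 2359296) (Steps.fwd (nat_lit 1048576) (Steps.bwd (nat_lit 9) (Steps.bwd (nat_lit 4) (Steps.bwd (nat_lit 8) (Steps.fwd (nat_lit 1048576) (Steps.fwd (nat_lit 2097152) (Steps.fwd (nat_lit 1048576) (Steps.fwd (nat_lit 2359296) Steps.nil))))))))))))))) (nat_lit 106) (nat_lit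 2),
  Rule.mk (nat_lit 0) (nat_lit 94) (Steps.bwd (nat_lit 4) (Steps.bwd (nat_lit 5) (Steps.fwd (nat_lit 1048576) (Steps.bwd (nat_lit 6) Steps.nil)))) (nat_lit 22) (nat_lit 0),
  Rule.mk (nat_lit 4) (nat_lit 114) (Steps.bwd (nat_lit 6) (Steps.fwd (nat_lit 786432) (Steps.fwd (nat_lit 1048576) (Steps.fwd (nat_lit 1310720) (Steps.bwd (nat_lit 2) Steps.nil))))) (nat_lit 54) (nat_lit 5),
  Rule.mk (nat_lit 4) (nat_lit 154) (Steps.bwd (nat_lit 5) (Steps.bwd (nat_lit 7) (Steps.fwd (nat_lit 786432) (Steps.fwd (nat_lit 1048576) (Steps.bwd (nat_lit 6) (Steps.fwd (nat_lit 1835008) (Steps.bwd (nat_lit 2) Steps.nil))))))) (nat_lit 78) (nat_lit 2),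
  Rule.mk (nat_lit 4) (nat_lit 314) (Steps.fwd (nat_lit 2359296) (Steps.bwd (nat_lit 4) (Steps.fwd (nat_lit 2097152) (Steps.fwd (nat_lit 1048576) (Steps.fwd (nat_lit 2359296) (Steps.bwd (nat_lit 4) (Steps.fwd (nat_lit 2097152) (Steps.fwd (nat_lit 1048576) (Steps.fwd (nat_lit 2359296) (Steps.bwd (nat_lit 4) (Steps.bwd (nat_lit 9) (Steps.bwd (nat_lit 4) (Steps.fwd (nat_lit 2359296) (Steps.fwd (nat_lit 1048576) (Steps.fwd (nat_lit 2097152) Steps.nil))))))))))))))) (nat_lit 106) (nat_lit 0),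
  Rule.mk (nat_lit 3) (nat_lit 154) (Steps.bwd (nat_lit 7) (Steps.fwd (nat_lit 1310720) (Steps.bwd (nat_lit 4) (Steps.fwd (nat_lit 524288) (Steps.bwd (nat_lit 7) (Steps.fwd (nat_lit 1572864) (Steps.fwd (nat_lit 1048576) Steps.nil))))))) (nat_lit 79) (nat_lit 4),
  Rule.mk (nat_lit 4) (nat_lit 114) (Steps.fwd (nat_lit 524288) (Steps.fwd (nat_lit 1310720) (Steps.fwd (nat_lit 1048576) (Steps.bwd (nat_lit 3) (Steps.fwd (nat_lit 1572864) Steps.nil))))) (nat_lit 55) (nat_lit 2),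
  Rule.mk (nat_lit 4) (nat_lit 154) (Steps.fwd (nat_lit 524288) (Steps.bwd (nat_lit 7) (Steps.fwd (nat_lit 1310720) (Steps.fwd (nat_lit 1048576) (Steps.bwd (nat_lit 3) (Steps.bwd (nat_lit 7) (Steps.fwd (nat_lit 1572864) Steps.nil))))))) (nat_lit 79) (nat_lit 3),
  Rule.mk (nat_lit 9) (nat_lit 314) (Steps.bwd (nat_lit 4) (Steps.bwd (nat_lit 8) (Steps.bwd (nat_lit 4) (Steps.fwd (nat_lit 2097152) (Steps.bwd (nat_lit 4) (Steps.bwd (nat_lit 8) (Steps.bwd (nat_lit 4) (Steps.bwd (nat_lit 9) (Steps.bwd (nat_lit 4) (Steps.fwd (nat_lit 2359296) (Steps.fwd (nat_lit 1048576) (Steps.fwd (nat_lit 2097152) (Steps.fwd (nat_lit 1048576) (Steps.fwd (nat_lit 2359296) (Steps.bwd (nat_lit 4) Steps.nil))))))))))))))) (nat_lit 106) (nat_lit 3),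
  Rule.mk (nat_lit 0) (nat_lit 174) (Steps.bwd (nat_lit 4) (Steps.fwd (nat_lit 262144) (Steps.bwd (nat_lit 6) (Steps.bwd (nat_lit 1) (Steps.fwd (nat_lit 1048576) (Steps.bwd (nat_lit 1) (Steps.fwd (nat_lit 1572864) (Steps.bwd (nat_lit 1) Steps.nil)))))))) (nat_lit 74) (nat_lit 1),
  Rule.mk (nat_lit 4) (nat_lit 154) (Steps.fwd (nat_lit 1572864) (Steps.fwd (nat_lit 1835008) (Steps.bwd (nat_lit 2) (Steps.bwd (nat_lit 4) (Steps.fwd (nat_lit 1310720) (Steps.fwd (nat_lit 1835008) (Steps.bwd (nat_lit 2) Steps.nil))))))) (nat_lit 78) (nat_lit 6),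
  Rule.mk (nat_lit 4) (nat_lit 154) (Steps.bwd (nat_lit 6) (Steps.bwd (nat_lit 3) (Steps.fwd (nat_lit 1835008) (Steps.bwd (nat_lit 4) (Steps.fwd (nat_lit 1310720) (Steps.bwd (nat_lit 3) (Steps.bwd (nat_lit 7) Steps.nil))))))) (nat_lit 87) (nat_lit 2),
  Rule.mk (nat_lit 3) (nat_lit 154) (Steps.bwd (nat_lit 4) (Steps.bwd (nat_lit 6) (Steps.bwd (nat_lit 7) (Steps.bwd (nat_lit 3) (Steps.bwd (nat_lit 4) (Steps.fwd (nat_lit 1310720) (Steps.fwd (nat_lit 1835008) Steps.nil))))))) (nat_lit 93) (nat_lit 0),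
  Rule.mk (nat_lit 4) (nat_lit 314) (Steps.fwd (nat_lit 2359296) (Steps.bwd (nat_lit 4) (Steps.fwd (nat_lit 2097152) (Steps.fwd (nat_lit 1048576) (Steps.bwd (nat_lit 8) (Steps.bwd (nat_lit 4) (Steps.bwd (nat_lit 9) (Steps.bwd (nat_lit 4) (Steps.bwd (nat_lit 8) (Steps.bwd (nat_lit 4) (Steps.bwd (nat_lit 9) (Steps.fwd (nat_lit 1048576) (Steps.fwd (nat_lit 2359296) (Steps.bwd (nat_lit 4) (Steps.bwd (nat_lit 9) Steps.nil))))))))))))))) (nat_lit 106) (nat_lit 0),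
  Rule.mk (nat_lit 0) (nat_lit 94) (Steps.bwd (nat_lit 4) (Steps.bwd (nat_lit 7) (Steps.fwd (nat_lit 1048576) (Steps.fwd (nat_lit 1835008) Steps.nil)))) (nat_lit 30) (nat_lit 1),
  Rule.mk (nat_lit 4) (nat_lit 154) (Steps.bwd (nat_lit 5) (Steps.bwd (nat_lit 7) (Steps.fwd (nat_lit 786432) (Steps.bwd (nat_lit 4) (Steps.fwd (nat_lit 1572864) (Steps.fwd (nat_lit 1835008) (Steps.fwd (nat_lit 786432) Steps.nil))))))) (nat_lit 78) (nat_lit 2),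
  Rule.mk (nat_lit 4) (nat_lit 154) (Steps.fwd (nat_lit 1572864) (Steps.bwd (nat_lit 7) (Steps.fwd (nat_lit 786432) (Steps.bwd (nat_lit 4) (Steps.bwd (nat_lit 5) (Steps.fwd (nat_lit 1835008) (Steps.fwd (nat_lit 786432) Steps.nil))))))) (nat_lit 78) (nat_lit 6),
  Rule.mk (nat_lit 4) (nat_lit 154) (Steps.fwd (nat_lit 524288) (Steps.bwd (nat_lit 6) (Steps.bwd (nat_lit 7) (Steps.bwd (nat_lit 4) (Steps.bwd (nat_lit 3) (Steps.fwd (nat_lit 1310720) (Steps.bwd (nat_lit 7) Steps.nil))))))) (nat_lit 81) (nat_lit 7),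
  Rule.mk (nat_lit 4) (nat_lit 154) (Steps.fwd (nat_lit 1310720) (Steps.fwd (nat_lit 524288) (Steps.bwd (nat_lit 7) (Steps.bwd (nat_lit 4) (Steps.fwd (nat_lit 1572864) (Steps.bwd (nat_lit 3) (Steps.fwd (nat_lit 1835008) Steps.nil))))))) (nat_lit 87) (nat_lit 6),
  Rule.mk (nat_lit 4) (nat_lit 114) (Steps.fwd (nat_lit 1310720) (Steps.fwd (nat_lit 1835008) (Steps.bwd (nat_lit 4) (Steps.fwd (nat_lit 1572864) (Steps.fwd (nat_lit 1835008) Steps.nil))))) (nat_lit 66) (nat_lit 1),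
  Rule.mk (nat_lit 0) (nat_lit 174) (Steps.bwd (nat_lit 4) (Steps.fwd (nat_lit 1310720) (Steps.bwd (nat_lit 3) (Steps.fwd (nat_lit 1835008) (Steps.bwd (nat_lit 4) (Steps.fwd (nat_lit 1572864) (Steps.bwd (nat_lit 3) (Steps.fwd (nat_lit 1835008) Steps.nil)))))))) (nat_lit 87) (nat_lit 5),
  Rule.mk (nat_lit 1) (nat_lit 154) (Steps.bwd (nat_lit 4) (Steps.fwd (nat_lit 262144) (Steps.bwd (nat_lit 6) (Steps.bwd (nat_lit 1) (Steps.bwd (nat_lit 4) (Steps.bwd (nat_lit 1) (Steps.fwd (nat_lit 1572864) Steps.nil))))))) (nat_lit 74) (nat_lit 1),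
  Rule.mk (nat_lit 1) (nat_lit 154) (Steps.fwd (nat_lit 1835008) (Steps.fwd (nat_lit 524288) (Steps.bwd (nat_lit 1) (Steps.bwd (nat_lit 3) (Steps.bwd (nat_lit 7) (Steps.bwd (nat_lit 1) (Steps.fwd (nat_lit 524288) Steps.nil))))))) (nat_lit 73) (nat_lit 0),
  Rule.mk (nat_lit 1) (nat_lit 154) (Steps.fwd (nat_lit 524288) (Steps.bwd (nat_lit 1) (Steps.fwd (nat_lit 1835008) (Steps.fwd (nat_lit 524288) (Steps.bwd (nat_lit 1) (Steps.fwd (nat_lit 524288) (Steps.bwd (nat_lit 7) Steps.nil))))))) (nat_lit 73) (nat_lit 6),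
  Rule.mk (nat_lit 1) (nat_lit 274) (Steps.bwd (nat_lit 3) (Steps.fwd (nat_lit 1310720) (Steps.fwd (nat_lit 1572864) (Steps.bwd (nat_lit 1) (Steps.bwd (nat_lit 6) (Steps.fwd (nat_lit 262144) (Steps.bwd (nat_lit 3) (Steps.bwd (nat_lit 1) (Steps.bwd (nat_lit 6) (Steps.fwd (nat_lit 262144) (Steps.bwd (nat_lit 3) (Steps.bwd (nat_lit 1) (Steps.bwd (nat_lit 6) Steps.nil))))))))))))) (nat_lit 35) (nat_lit 13),
  Rule.mk (nat_lit 5) (nat_lit 114) (Steps.fwd (nat_lit 262144) (Steps.fwd (nat_lit 1835008) (Steps.bwd (nat_lit 5) (Steps.bwd (nat_lit 1) (Steps.fwd (nat_lit 1835008) Steps.nil))))) (nat_lit 53) (nat_lit 2)]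
noncomputable def R_72 : List (Rule) := [Rule.mk (nat_lit 2) (nat_lit 154) (Steps.fwd (nat_lit 1835008) (Steps.bwd (nat_lit 1) (Steps.bwd (nat_lit 2) (Steps.fwd (nat_lit 262144) (Steps.bwd (nat_lit 7) (Steps.fwd (nat_lit 786432) (Steps.fwd (nat_lit 262144) Steps.nil))))))) (nat_lit 72) (nat_lit 7),
  Rule.mk (nat_lit 3) (nat_lit 154) (Steps.bwd (nat_lit 1) (Steps.bwd (nat_lit 3) (Steps.bwd (nat_lit 7) (Steps.fwd (nat_lit 262144) (Steps.bwd (nat_lit 3) (Steps.bwd (nat_lit 1) (Steps.fwd (nat_lit 1835008) Steps.nil))))))) (nat_lit 73) (nat_lit 2),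
  Rule.mk (nat_lit 5) (nat_lit 154) (Steps.fwd (nat_lit 1572864) (Steps.bwd (nat_lit 3) (Steps.fwd (nat_lit 1310720) (Steps.bwd (nat_lit 3) (Steps.fwd (nat_lit 1835008) (Steps.fwd (nat_lit 1572864) (Steps.fwd (nat_lit 524288) Steps.nil))))))) (nat_lit 83) (nat_lit 4),
  Rule.mk (nat_lit 0) (nat_lit 294) (Steps.bwd (nat_lit 1) (Steps.bwd (nat_lit 3) (Steps.fwd (nat_lit 1310720) (Steps.fwd (nat_lit 1572864) (Steps.bwd (nat_lit 1) (Steps.bwd (nat_lit 6) (Steps.fwd (nat_lit 262144) (Steps.bwd (nat_lit 3) (Steps.bwd (nat_lit 1) (Steps.fwd (nat_lit 1572864) (Steps.fwd (nat_lit 262144) (Steps.bwd (nat_lit 3) (Steps.fwd (nat_lit 262144) (Steps.fwd (nat_lit 1572864) Steps.nil)))))))))))))) (nat_lit 35) (nat_lit 12),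
  Rule.mk (nat_lit 1) (nat_lit 154) (Steps.bwd (nat_lit 2) (Steps.bwd (nat_lit 1) (Steps.bwd (nat_lit 3) (Steps.bwd (nat_lit 1) (Steps.fwd (nat_lit 786432) (Steps.bwd (nat_lit 1) (Steps.bwd (nat_lit 3) Steps.nil))))))) (nat_lit 68) (nat_lit 1),
  Rule.mk (nat_lit 1) (nat_lit 154) (Steps.fwd (nat_lit 524288) (Steps.bwd (nat_lit 1) (Steps.fwd (nat_lit 786432) (Steps.bwd (nat_lit 1) (Steps.bwd (nat_lit 3) (Steps.fwd (nat_lit 262144) (Steps.fwd (nat_lit 786432) Steps.nil))))))) (nat_lit 68) (nat_lit 3),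
  Rule.mk (nat_lit 0) (nat_lit 174) (Steps.bwd (nat_lit 1) (Steps.bwd (nat_lit 3) (Steps.fwd (nat_lit 1310720) (Steps.fwd (nat_lit 262144) (Steps.bwd (nat_lit 3) (Steps.fwd (nat_lit 262144) (Steps.bwd (nat_lit 5) (Steps.fwd (nat_lit 524288) Steps.nil)))))))) (nat_lit 71) (nat_lit 2),
  Rule.mk (nat_lit 1) (nat_lit 154) (Steps.bwd (nat_lit 3) (Steps.fwd (nat_lit 1310720) (Steps.bwd (nat_lit 1) (Steps.bwd (nat_lit 3) (Steps.bwd (nat_lit 1) (Steps.bwd (nat_lit 5) (Steps.bwd (nat_lit 3) Steps.nil))))))) (nat_lit 71) (nat_lit 3),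
  Rule.mk (nat_lit 1) (nat_lit 154) (Steps.bwd (nat_lit 3) (Steps.fwd (nat_lit 1835008) (Steps.bwd (nat_lit 1) (Steps.bwd (nat_lit 3) (Steps.bwd (nat_lit 1) (Steps.bwd (nat_lit 7) (Steps.bwd (nat_lit 3) Steps.nil))))))) (nat_lit 73) (nat_lit 3),
  Rule.mk (nat_lit 1) (nat_lit 274) (Steps.bwd (nat_lit 6) (Steps.bwd (nat_lit 1) (Steps.fwd (nat_lit 524288) (Steps.bwd (nat_lit 1) (Steps.bwd (nat_lit 6) (Steps.bwd (nat_lit 1) (Steps.fwd (nat_lit 524288) (Steps.bwd (nat_lit 1) (Steps.fwd (nat_lit 1572864) (Steps.fwd (nat_lit 262144) (Steps.fwd (nat_lit 524288) (Steps.bwd (nat_lit 5) (Steps.bwd (nat_lit 6) Steps.nil))))))))))))) (nat_lit 35) (nat_lit 3),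
  Rule.mk (nat_lit 1) (nat_lit 274) (Steps.fwd (nat_lit 1572864) (Steps.bwd (nat_lit 1) (Steps.bwd (nat_lit 6) (Steps.bwd (nat_lit 5) (Steps.bwd (nat_lit 2) (Steps.fwd (nat_lit 262144) (Steps.fwd (nat_lit 1572864) (Steps.fwd (nat_lit 262144) (Steps.bwd (nat_lit 2) (Steps.fwd (nat_lit 262144) (Steps.fwd (nat_lit 1572864) (Steps.fwd (nat_lit 262144) (Steps.bwd (nat_lit 2) Steps.nil))))))))))))) (nat_lit 34) (nat_lit 10),
  Rule.mk (nat_lit 0) (nat_lit 134) (Steps.bwd (nat_lit 1) (Steps.fwd (nat_lit 1835008) (Steps.fwd (nat_lit 1310720) (Steps.bwd (nat_lit 1) (Steps.fwd (nat_lit 1835008) (Steps.bwd (nat_lit 5) Steps.nil)))))) (nat_lit 53) (nat_lit 2),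
  Rule.mk (nat_lit 0) (nat_lit 174) (Steps.bwd (nat_lit 1) (Steps.fwd (nat_lit 524288) (Steps.bwd (nat_lit 1) (Steps.bwd (nat_lit 2) (Steps.fwd (nat_lit 262144) (Steps.bwd (nat_lit 3) (Steps.fwd (nat_lit 262144) (Steps.fwd (nat_lit 786432) Steps.nil)))))))) (nat_lit 68) (nat_lit 2),
  Rule.mk (nat_lit 1) (nat_lit 154) (Steps.fwd (nat_lit 786432) (Steps.bwd (nat_lit 7) (Steps.fwd (nat_lit 262144) (Steps.bwd (nat_lit 2) (Steps.bwd (nat_lit 1) (Steps.fwd (nat_lit 1835008) (Steps.bwd (nat_lit 2) Steps.nil))))))) (nat_lit 72) (nat_lit 6),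
  Rule.mk (nat_lit 0) (nat_lit 174) (Steps.bwd (nat_lit 1) (Steps.bwd (nat_lit 3) (Steps.fwd (nat_lit 1835008) (Steps.fwd (nat_lit 262144) (Steps.bwd (nat_lit 3) (Steps.fwd (nat_lit 262144) (Steps.bwd (nat_lit 7) (Steps.bwd (nat_lit 3) Steps.nil)))))))) (nat_lit 73) (nat_lit 2),
  Rule.mk (nat_lit 1) (nat_lit 274) (Steps.fwd (nat_lit 1572864) (Steps.bwd (nat_lit 1) (Steps.fwd (nat_lit 786432) (Steps.bwd (nat_lit 1) (Steps.bwd (nat_lit 6) (Steps.bwd (nat_lit 1) (Steps.fwd (nat_lit 786432) (Steps.fwd (nat_lit 262144) (Steps.bwd (nat_lit 6) (Steps.bwd (nat_lit 1) (Steps.fwd (nat_lit 1572864) (Steps.bwd (nat_lit 5) (Steps.bwd (nat_lit 2) Steps.nil))))))))))))) (nat_lit 34) (nat_lit 2),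
  Rule.mk (nat_lit 1) (nat_lit 114) (Steps.fwd (nat_lit 1310720) (Steps.bwd (nat_lit 7) (Steps.bwd (nat_lit 1) (Steps.fwd (nat_lit 1310720) (Steps.bwd (nat_lit 7) Steps.nil))))) (nat_lit 52) (nat_lit 1),
  Rule.mk (nat_lit 1) (nat_lit 154) (Steps.bwd (nat_lit 2) (Steps.bwd (nat_lit 1) (Steps.bwd (nat_lit 5) (Steps.bwd (nat_lit 2) (Steps.bwd (nat_lit 1) (Steps.fwd (nat_lit 786432) (Steps.bwd (nat_lit 5) Steps.nil))))))) (nat_lit 70) (nat_lit 1),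
  Rule.mk (nat_lit 1) (nat_lit 154) (Steps.fwd (nat_lit 1310720) (Steps.bwd (nat_lit 2) (Steps.bwd (nat_lit 1) (Steps.bwd (nat_lit 2) (Steps.bwd (nat_lit 5) (Steps.bwd (nat_lit 1) (Steps.fwd (nat_lit 786432) Steps.nil))))))) (nat_lit 70) (nat_lit 3),
  Rule.mk (nat_lit 1) (nat_lit 274) (Steps.fwd (nat_lit 1572864) (Steps.fwd (nat_lit 262144) (Steps.fwd (nat_lit 786432) (Steps.bwd (nat_lit 1) (Steps.bwd (nat_lit 6) (Steps.fwd (nat_lit 262144) (Steps.bwd (nat_lit 2) (Steps.bwd (nat_lit 1) (Steps.fwd (nat_lit 1572864) (Steps.bwd (nat_lit 1) (Steps.fwd (nat_lit 1572864) (Steps.bwd (nat_lit 5) (Steps.fwd (nat_lit 786432) Steps.nil))))))))))))) (nat_lit 34) (nat_lit 2),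
  Rule.mk (nat_lit 1) (nat_lit 274) (Steps.fwd (nat_lit 1572864) (Steps.bwd (nat_lit 5) (Steps.fwd (nat_lit 786432) (Steps.bwd (nat_lit 1) (Steps.bwd (nat_lit 6) (Steps.fwd (nat_lit 262144) (Steps.bwd (nat_lit 2) (Steps.bwd (nat_lit 1) (Steps.fwd (nat_lit 1572864) (Steps.bwd (nat_lit 1) (Steps.fwd (nat_lit 786432) (Steps.bwd (nat_lit 1) (Steps.bwd (nat_lit 6) Steps.nil))))))))))))) (nat_lit 34) (nat_lit 12),
  Rule.mk (nat_lit 2) (nat_lit 274) (Steps.bwd (nat_lit 1) (Steps.bwd (nat_lit 6) (Steps.fwd (nat_lit 262144) (Steps.fwd (nat_lit 1572864) (Steps.fwd (nat_lit 1310720) (Steps.bwd (nat_lit 2) (Steps.bwd (nat_lit 1) (Steps.fwd (nat_lit 1572864) (Steps.bwd (nat_lit 1) (Steps.fwd (nat_lit 786432) (Steps.bwd (nat_lit 1) (Steps.bwd (nat_lit 6) (Steps.bwd (nat_lit 1) Steps.nil))))))))))))) (nat_lit 34) (nat_lit 9),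
  Rule.mk (nat_lit 1) (nat_lit 274) (Steps.bwd (nat_lit 6) (Steps.bwd (nat_lit 1) (Steps.bwd (nat_lit 3) (Steps.fwd (nat_lit 262144) (Steps.bwd (nat_lit 6) (Steps.bwd (nat_lit 1) (Steps.bwd (nat_lit 3) (Steps.bwd (nat_lit 1) (Steps.fwd (nat_lit 1572864) (Steps.bwd (nat_lit 1) (Steps.fwd (nat_lit 524288) (Steps.fwd (nat_lit 1310720) (Steps.bwd (nat_lit 6) Steps.nil))))))))))))) (nat_lit 35) (nat_lit 3),
  Rule.mk (nat_lit 0) (nat_lit 134) (Steps.bwd (nat_lit 4) (Steps.bwd (nat_lit 1) (Steps.bwd (nat_lit 4) (Steps.bwd (nat_lit 1) (Steps.fwd (nat_lit 1048576) (Steps.fwd (nat_lit 262144) Steps.nil)))))) (nat_lit 16) (nat_lit 1),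
  Rule.mk (nat_lit 1) (nat_lit 154) (Steps.bwd (nat_lit 2) (Steps.fwd (nat_lit 262144) (Steps.bwd (nat_lit 7) (Steps.bwd (nat_lit 2) (Steps.bwd (nat_lit 1) (Steps.bwd (nat_lit 2) (Steps.bwd (nat_lit 7) Steps.nil))))))) (nat_lit 72) (nat_lit 1),
  Rule.mk (nat_lit 1) (nat_lit 274) (Steps.fwd (nat_lit 1572864) (Steps.fwd (nat_lit 262144) (Steps.bwd (nat_lit 3) (Steps.bwd (nat_lit 1) (Steps.bwd (nat_lit 6) (Steps.bwd (nat_lit 1) (Steps.bwd (nat_lit 3) (Steps.fwd (nat_lit 262144) (Steps.bwd (nat_lit 6) (Steps.bwd (nat_lit 1) (Steps.bwd (nat_lit 3) (Steps.bwd (nat_lit 5) (Steps.fwd (nat_lit 1572864) Steps.nil))))))))))))) (nat_lit 35) (nat_lit 3),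
  Rule.mk (nat_lit 1) (nat_lit 274) (Steps.bwd (nat_lit 6) (Steps.fwd (nat_lit 262144) (Steps.fwd (nat_lit 1572864) (Steps.bwd (nat_lit 5) (Steps.fwd (nat_lit 786432) (Steps.fwd (nat_lit 262144) (Steps.fwd (nat_lit 1572864) (Steps.fwd (nat_lit 262144) (Steps.fwd (nat_lit 786432) (Steps.bwd (nat_lit 1) (Steps.bwd (nat_lit 6) (Steps.fwd (nat_lit 262144) (Steps.fwd (nat_lit 786432) Steps.nil))))))))))))) (nat_lit 34) (nat_lit 10),
  Rule.mk (nat_lit 2) (nat_lit 114) (Steps.fwd (nat_lit 262144) (Steps.fwd (nat_lit 786432) (Steps.bwd (nat_lit 1) (Steps.fwd (nat_lit 786432) (Steps.fwd (nat_lit 262144) Steps.nil))))) (nat_lit 12) (nat_lit 0),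
  Rule.mk (nat_lit 5) (nat_lit 154) (Steps.bwd (nat_lit 2) (Steps.bwd (nat_lit 1) (Steps.fwd (nat_lit 786432) (Steps.bwd (nat_lit 5) (Steps.bwd (nat_lit 1) (Steps.fwd (nat_lit 786432) (Steps.fwd (nat_lit 262144) Steps.nil))))))) (nat_lit 70) (nat_lit 4),
  Rule.mk (nat_lit 1) (nat_lit 274) (Steps.fwd (nat_lit 786432) (Steps.fwd (nat_lit 262144) (Steps.bwd (nat_lit 6) (Steps.fwd (nat_lit 262144) (Steps.bwd (nat_lit 2) (Steps.bwd (nat_lit 1) (Steps.bwd (nat_lit 6) (Steps.fwd (nat_lit 262144) (Steps.bwd (nat_lit 6) (Steps.bwd (nat_lit 5) (Steps.bwd (nat_lit 2) (Steps.bwd (nat_lit 1) (Steps.bwd (nat_lit 6) Steps.nil))))))))))))) (nat_lit 34) (nat_lit 4),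
  Rule.mk (nat_lit 1) (nat_lit 114) (Steps.fwd (nat_lit 1310720) (Steps.fwd (nat_lit 1835008) (Steps.bwd (nat_lit 1) (Steps.bwd (nat_lit 5) (Steps.bwd (nat_lit 7) Steps.nil))))) (nat_lit 52) (nat_lit 1),
  Rule.mk (nat_lit 2) (nat_lit 154) (Steps.bwd (nat_lit 1) (Steps.fwd (nat_lit 524288) (Steps.fwd (nat_lit 262144) (Steps.bwd (nat_lit 2) (Steps.bwd (nat_lit 1) (Steps.fwd (nat_lit 524288) (Steps.fwd (nat_lit 262144) Steps.nil))))))) (nat_lit 68) (nat_lit 2),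
  Rule.mk (nat_lit 1) (nat_lit 154) (Steps.fwd (nat_lit 524288) (Steps.bwd (nat_lit 1) (Steps.fwd (nat_lit 786432) (Steps.fwd (nat_lit 262144) (Steps.bwd (nat_lit 3) (Steps.fwd (nat_lit 262144) (Steps.bwd (nat_lit 2) Steps.nil))))))) (nat_lit 68) (nat_lit 3),
  Rule.mk (nat_lit 7) (nat_lit 154) (Steps.fwd (nat_lit 524288) (Steps.bwd (nat_lit 1) (Steps.bwd (nat_lit 3) (Steps.fwd (nat_lit 1835008) (Steps.bwd (nat_lit 1) (Steps.fwd (nat_lit 524288) (Steps.fwd (nat_lit 262144) Steps.nil))))))) (nat_lit 73) (nat_lit 1),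
  Rule.mk (nat_lit 6) (nat_lit 274) (Steps.bwd (nat_lit 1) (Steps.bwd (nat_lit 3) (Steps.fwd (nat_lit 1310720) (Steps.fwd (nat_lit 1572864) (Steps.bwd (nat_lit 1) (Steps.fwd (nat_lit 1572864) (Steps.fwd (nat_lit 262144) (Steps.bwd (nat_lit 3) (Steps.bwd (nat_lit 1) (Steps.bwd (nat_lit 6) (Steps.bwd (nat_lit 1) (Steps.fwd (nat_lit 524288) (Steps.fwd (nat_lit 262144) Steps.nil))))))))))))) (nat_lit 35) (nat_lit 12),
  Rule.mk (nat_lit 0) (nat_lit 134) (Steps.bwd (nat_lit 1) (Steps.bwd (nat_lit 7) (Steps.fwd (nat_lit 1310720) (Steps.fwd (nat_lit 262144) (Steps.bwd (nat_lit 7) (Steps.fwd (nat_lit 1310720) Steps.nil)))))) (nat_lit 53) (nat_lit 2),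
  Rule.mk (nat_lit 4) (nat_lit 154) (Steps.bwd (nat_lit 1) (Steps.fwd (nat_lit 1572864) (Steps.bwd (nat_lit 1) (Steps.fwd (nat_lit 1048576) (Steps.bwd (nat_lit 1) (Steps.bwd (nat_lit 6) (Steps.fwd (nat_lit 262144) Steps.nil))))))) (nat_lit 74) (nat_lit 2),
  Rule.mk (nat_lit 1) (nat_lit 274) (Steps.bwd (nat_lit 3) (Steps.bwd (nat_lit 1) (Steps.fwd (nat_lit 1572864) (Steps.bwd (nat_lit 1) (Steps.fwd (nat_lit 524288) (Steps.fwd (nat_lit 1310720) (Steps.bwd (nat_lit 6) (Steps.bwd (nat_lit 1) (Steps.fwd (nat_lit 1572864) (Steps.fwd (nat_lit 262144) (Steps.bwd (nat_lit 3) (Steps.fwd (nat_lit 262144) (Steps.bwd (nat_lit 6) Steps.nil))))))))))))) (nat_lit 35) (nat_lit 9),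
  Rule.mk (nat_lit 5) (nat_lit 114) (Steps.bwd (nat_lit 4) (Steps.fwd (nat_lit 524288) (Steps.fwd (nat_lit 1572864) (Steps.bwd (nat_lit 4) (Steps.fwd (nat_lit 524288) Steps.nil))))) (nat_lit 55) (nat_lit 4),
  Rule.mk (nat_lit 3) (nat_lit 114) (Steps.bwd (nat_lit 7) (Steps.bwd (nat_lit 4) (Steps.fwd (nat_lit 524288) (Steps.fwd (nat_lit 1835008) (Steps.bwd (nat_lit 4) Steps.nil))))) (nat_lit 57) (nat_lit 0),
  Rule.mk (nat_lit 7) (nat_lit 114) (Steps.bwd (nat_lit 5) (Steps.bwd (nat_lit 4) (Steps.fwd (nat_lit 1835008) (Steps.bwd (nat_lit 6) (Steps.fwd (nat_lit 1048576) Steps.nil))))) (nat_lit 67) (nat_lit 4),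
  Rule.mk (nat_lit 3) (nat_lit 154) (Steps.bwd (nat_lit 7) (Steps.bwd (nat_lit 5) (Steps.bwd (nat_lit 4) (Steps.fwd (nat_lit 524288) (Steps.fwd (nat_lit 1835008) (Steps.bwd (nat_lit 6) (Steps.bwd (nat_lit 4) Steps.nil))))))) (nat_lit 79) (nat_lit 4),
  Rule.mk (nat_lit 6) (nat_lit 154) (Steps.bwd (nat_lit 7) (Steps.bwd (nat_lit 4) (Steps.fwd (nat_lit 524288) (Steps.bwd (nat_lit 5) (Steps.fwd (nat_lit 1835008) (Steps.fwd (nat_lit 1048576) (Steps.fwd (nat_lit 524288) Steps.nil))))))) (nat_lit 81) (nat_lit 1),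
  Rule.mk (nat_lit 8) (nat_lit 314) (Steps.bwd (nat_lit 4) (Steps.bwd (nat_lit 9) (Steps.bwd (nat_lit 4) (Steps.fwd (nat_lit 2359296) (Steps.fwd (nat_lit 1048576) (Steps.bwd (nat_lit 9) (Steps.bwd (nat_lit 4) (Steps.fwd (nat_lit 2359296) (Steps.fwd (nat_lit 1048576) (Steps.bwd (nat_lit 9) (Steps.fwd (nat_lit 1048576) (Steps.fwd (nat_lit 2359296) (Steps.fwd (nat_lit 1048576) (Steps.fwd (nat_lit 2097152) (Steps.bwd (nat_lit 4) Steps.nil))))))))))))))) (nat_lit 106) (nat_lit 1),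
  Rule.mk (nat_lit 4) (nat_lit 114) (Steps.bwd (nat_lit 7) (Steps.fwd (nat_lit 1310720) (Steps.fwd (nat_lit 1048576) (Steps.fwd (nat_lit 1835008) (Steps.fwd (nat_lit 1572864) Steps.nil))))) (nat_lit 67) (nat_lit 3),
  Rule.mk (nat_lit 1) (nat_lit 154) (Steps.bwd (nat_lit 4) (Steps.fwd (nat_lit 262144) (Steps.bwd (nat_lit 6) (Steps.fwd (nat_lit 262144) (Steps.bwd (nat_lit 4) (Steps.bwd (nat_lit 1) (Steps.bwd (nat_lit 6) Steps.nil))))))) (nat_lit 74) (nat_lit 1),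
  Rule.mk (nat_lit 8) (nat_lit 314) (Steps.bwd (nat_lit 4) (Steps.bwd (nat_lit 9) (Steps.bwd (nat_lit 4) (Steps.fwd (nat_lit 2359296) (Steps.fwd (nat_lit 1048576) (Steps.bwd (nat_lit 9) (Steps.fwd (nat_lit 1048576) (Steps.fwd (nat_lit 2359296) (Steps.bwd (nat_lit 4) (Steps.bwd (nat_lit 9) (Steps.fwd (nat_lit 1048576) (Steps.fwd (nat_lit 2359296) (Steps.bwd (nat_lit 4) (Steps.bwd (nat_lit 9) (Steps.bwd (nat_lit 4) Steps.nil))))))))))))))) (nat_lit 106) (nat_lit 1),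
  Rule.mk (nat_lit 3) (nat_lit 74) (Steps.fwd (nat_lit 2359296) (Steps.bwd (nat_lit 2) (Steps.bwd (nat_lit 9) Steps.nil))) (nat_lit 96) (nat_lit 0),
  Rule.mk (nat_lit 8) (nat_lit 94) (Steps.fwd (nat_lit 1310720) (Steps.bwd (nat_lit 9) (Steps.bwd (nat_lit 7) (Steps.fwd (nat_lit 1310720) Steps.nil)))) (nat_lit 101) (nat_lit 3),
  Rule.mk (nat_lit 1) (nat_lit 154) (Steps.bwd (nat_lit 2) (Steps.bwd (nat_lit 1) (Steps.fwd (nat_lit 1835008) (Steps.fwd (nat_lit 786432) (Steps.bwd (nat_lit 1) (Steps.fwd (nat_lit 786432) (Steps.fwd (nat_lit 1835008) Steps.nil))))))) (nat_lit 72) (nat_lit 1),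
  Rule.mk (nat_lit 4) (nat_lit 154) (Steps.bwd (nat_lit 6) (Steps.bwd (nat_lit 3) (Steps.bwd (nat_lit 7) (Steps.bwd (nat_lit 4) (Steps.bwd (nat_lit 5) (Steps.bwd (nat_lit 3) (Steps.fwd (nat_lit 1835008) Steps.nil))))))) (nat_lit 87) (nat_lit 2),
  Rule.mk (nat_lit 4) (nat_lit 154) (Steps.fwd (nat_lit 262144) (Steps.fwd (nat_lit 1835008) (Steps.bwd (nat_lit 4) (Steps.fwd (nat_lit 262144) (Steps.fwd (nat_lit 1048576) (Steps.bwd (nat_lit 7) (Steps.fwd (nat_lit 262144) Steps.nil))))))) (nat_lit 76) (nat_lit 2),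
  Rule.mk (nat_lit 1) (nat_lit 114) (Steps.fwd (nat_lit 1048576) (Steps.fwd (nat_lit 262144) (Steps.bwd (nat_lit 4) (Steps.bwd (nat_lit 1) (Steps.fwd (nat_lit 1048576) Steps.nil))))) (nat_lit 16) (nat_lit 1),
  Rule.mk (nat_lit 1) (nat_lit 154) (Steps.bwd (nat_lit 7) (Steps.fwd (nat_lit 1048576) (Steps.fwd (nat_lit 262144) (Steps.bwd (nat_lit 4) (Steps.fwd (nat_lit 1835008) (Steps.bwd (nat_lit 1) (Steps.bwd (nat_lit 4) Steps.nil))))))) (nat_lit 76) (nat_lit 3),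
  Rule.mk (nat_lit 4) (nat_lit 154) (Steps.fwd (nat_lit 1835008) (Steps.fwd (nat_lit 262144) (Steps.bwd (nat_lit 4) (Steps.bwd (nat_lit 1) (Steps.bwd (nat_lit 7) (Steps.bwd (nat_lit 4) (Steps.bwd (nat_lit 1) Steps.nil))))))) (nat_lit 76) (nat_lit 7),
  Rule.mk (nat_lit 6) (nat_lit 114) (Steps.bwd (nat_lit 4) (Steps.fwd (nat_lit 524288) (Steps.bwd (nat_lit 5) (Steps.fwd (nat_lit 1048576) (Steps.fwd (nat_lit 524288) Steps.nil))))) (nat_lit 55) (nat_lit 1),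
  Rule.mk (nat_lit 6) (nat_lit 154) (Steps.fwd (nat_lit 1835008) (Steps.bwd (nat_lit 4) (Steps.fwd (nat_lit 524288) (Steps.bwd (nat_lit 5) (Steps.fwd (nat_lit 1835008) (Steps.fwd (nat_lit 1048576) (Steps.fwd (nat_lit 524288) Steps.nil))))))) (nat_lit 81) (nat_lit 1),
  Rule.mk (nat_lit 1) (nat_lit 114) (Steps.fwd (nat_lit 1048576) (Steps.bwd (nat_lit 1) (Steps.bwd (nat_lit 4) (Steps.bwd (nat_lit 1) (Steps.fwd (nat_lit 1048576) Steps.nil))))) (nat_lit 16) (nat_lit 1),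
  Rule.mk (nat_lit 1) (nat_lit 114) (Steps.fwd (nat_lit 2359296) (Steps.bwd (nat_lit 2) (Steps.bwd (nat_lit 1) (Steps.fwd (nat_lit 524288) (Steps.fwd (nat_lit 2097152) Steps.nil))))) (nat_lit 104) (nat_lit 0),
  Rule.mk (nat_lit 1) (nat_lit 274) (Steps.bwd (nat_lit 6) (Steps.bwd (nat_lit 1) (Steps.bwd (nat_lit 2) (Steps.bwd (nat_lit 1) (Steps.fwd (nat_lit 1572864) (Steps.fwd (nat_lit 262144) (Steps.fwd (nat_lit 786432) (Steps.fwd (nat_lit 262144) (Steps.bwd (nat_lit 6) (Steps.bwd (nat_lit 1) (Steps.bwd (nat_lit 6) (Steps.fwd (nat_lit 1310720) (Steps.fwd (nat_lit 786432) Steps.nil))))))))))))) (nat_lit 34) (nat_lit 2),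
  Rule.mk (nat_lit 8) (nat_lit 114) (Steps.fwd (nat_lit 786432) (Steps.bwd (nat_lit 1) (Steps.bwd (nat_lit 3) (Steps.fwd (nat_lit 2097152) (Steps.fwd (nat_lit 262144) Steps.nil))))) (nat_lit 104) (nat_lit 1),
  Rule.mk (nat_lit 8) (nat_lit 314) (Steps.bwd (nat_lit 4) (Steps.bwd (nat_lit 9) (Steps.fwd (nat_lit 1048576) (Steps.fwd (nat_lit 2359296) (Steps.fwd (nat_lit 1048576) (Steps.bwd (nat_lit 9) (Steps.bwd (nat_lit 4) (Steps.bwd (nat_lit 8) (Steps.fwd (nat_lit 1048576) (Steps.bwd (nat_lit 9) (Steps.bwd (nat_lit 4) (Steps.fwd (nat_lit 2359296) (Steps.fwd (nat_lit 1048576) (Steps.fwd (nat_lit 2097152) (Steps.fwd (nat_lit 1048576) Steps.nil))))))))))))))) (nat_lit 106) (nat_lit 1),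
  Rule.mk (nat_lit 4) (nat_lit 314) (Steps.bwd (nat_lit 9) (Steps.bwd (nat_lit 4) (Steps.fwd (nat_lit 2359296) (Steps.fwd (nat_lit 1048576) (Steps.bwd (nat_lit 9) (Steps.bwd (nat_lit 4) (Steps.fwd (nat_lit 2359296) (Steps.fwd (nat_lit 1048576) (Steps.fwd (nat_lit 2097152) (Steps.fwd (nat_lit 1048576) (Steps.bwd (nat_lit 8) (Steps.bwd (nat_lit 4) (Steps.bwd (nat_lit 9) (Steps.fwd (nat_lit 1048576) (Steps.fwd (nat_lit 2359296) Steps.nil))))))))))))))) (nat_lit 106) (nat_lit 2),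
  Rule.mk (nat_lit 0) (nat_lit 134) (Steps.bwd (nat_lit 4) (Steps.bwd (nat_lit 3) (Steps.bwd (nat_lit 6) (Steps.bwd (nat_lit 4) (Steps.bwd (nat_lit 3) (Steps.fwd (nat_lit 1310720) Steps.nil)))))) (nat_lit 55) (nat_lit 4)]
noncomputable def R_73 : List (Rule) := [Rule.mk (nat_lit 3) (nat_lit 114) (Steps.bwd (nat_lit 4) (Steps.bwd (nat_lit 5) (Steps.fwd (nat_lit 524288) (Steps.bwd (nat_lit 4) (Steps.bwd (nat_lit 6) Steps.nil))))) (nat_lit 59) (nat_lit 3),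
  Rule.mk (nat_lit 4) (nat_lit 114) (Steps.bwd (nat_lit 6) (Steps.fwd (nat_lit 1835008) (Steps.bwd (nat_lit 4) (Steps.bwd (nat_lit 5) (Steps.fwd (nat_lit 1835008) Steps.nil))))) (nat_lit 66) (nat_lit 4),
  Rule.mk (nat_lit 4) (nat_lit 314) (Steps.bwd (nat_lit 9) (Steps.bwd (nat_lit 4) (Steps.bwd (nat_lit 8) (Steps.fwd (nat_lit 1048576) (Steps.fwd (nat_lit 2097152) (Steps.bwd (nat_lit 4) (Steps.bwd (nat_lit 8) (Steps.bwd (nat_lit 4) (Steps.bwd (nat_lit 9) (Steps.bwd (nat_lit 4) (Steps.bwd (nat_lit 8) (Steps.bwd (nat_lit 4) (Steps.fwd (nat_lit 2097152) (Steps.bwd (nat_lit 4) (Steps.fwd (nat_lit 2359296) Steps.nil))))))))))))))) (nat_lit 106) (nat_lit 2),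
  Rule.mk (nat_lit 5) (nat_lit 114) (Steps.bwd (nat_lit 4) (Steps.fwd (nat_lit 786432) (Steps.bwd (nat_lit 6) (Steps.bwd (nat_lit 4) (Steps.bwd (nat_lit 2) Steps.nil))))) (nat_lit 58) (nat_lit 2),
  Rule.mk (nat_lit 4) (nat_lit 154) (Steps.bwd (nat_lit 1) (Steps.bwd (nat_lit 4) (Steps.bwd (nat_lit 7) (Steps.fwd (nat_lit 262144) (Steps.bwd (nat_lit 4) (Steps.fwd (nat_lit 262144) (Steps.fwd (nat_lit 1835008) Steps.nil))))))) (nat_lit 76) (nat_lit 5),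
  Rule.mk (nat_lit 4) (nat_lit 154) (Steps.bwd (nat_lit 1) (Steps.bwd (nat_lit 7) (Steps.bwd (nat_lit 4) (Steps.fwd (nat_lit 262144) (Steps.bwd (nat_lit 4) (Steps.fwd (nat_lit 1835008) (Steps.fwd (nat_lit 262144) Steps.nil))))))) (nat_lit 76) (nat_lit 2),
  Rule.mk (nat_lit 4) (nat_lit 154) (Steps.fwd (nat_lit 1310720) (Steps.bwd (nat_lit 7) (Steps.bwd (nat_lit 2) (Steps.bwd (nat_lit 4) (Steps.bwd (nat_lit 6) (Steps.fwd (nat_lit 1835008) (Steps.bwd (nat_lit 2) Steps.nil))))))) (nat_lit 78) (nat_lit 2),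
  Rule.mk (nat_lit 4) (nat_lit 154) (Steps.bwd (nat_lit 3) (Steps.fwd (nat_lit 1310720) (Steps.bwd (nat_lit 7) (Steps.bwd (nat_lit 4) (Steps.bwd (nat_lit 3) (Steps.bwd (nat_lit 6) (Steps.fwd (nat_lit 1835008) Steps.nil))))))) (nat_lit 81) (nat_lit 3),
  Rule.mk (nat_lit 7) (nat_lit 154) (Steps.bwd (nat_lit 4) (Steps.bwd (nat_lit 2) (Steps.fwd (nat_lit 1572864) (Steps.bwd (nat_lit 7) (Steps.bwd (nat_lit 4) (Steps.bwd (nat_lit 2) (Steps.bwd (nat_lit 5) Steps.nil))))))) (nat_lit 88) (nat_lit 3),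
  Rule.mk (nat_lit 4) (nat_lit 154) (Steps.bwd (nat_lit 7) (Steps.fwd (nat_lit 1310720) (Steps.fwd (nat_lit 786432) (Steps.fwd (nat_lit 1048576) (Steps.bwd (nat_lit 7) (Steps.fwd (nat_lit 1572864) (Steps.fwd (nat_lit 786432) Steps.nil))))))) (nat_lit 80) (nat_lit 2),
  Rule.mk (nat_lit 3) (nat_lit 154) (Steps.bwd (nat_lit 5) (Steps.bwd (nat_lit 7) (Steps.bwd (nat_lit 4) (Steps.bwd (nat_lit 3) (Steps.fwd (nat_lit 1572864) (Steps.fwd (nat_lit 1835008) (Steps.fwd (nat_lit 1048576) Steps.nil))))))) (nat_lit 81) (nat_lit 4),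
  Rule.mk (nat_lit 0) (nat_lit 174) (Steps.fwd (nat_lit 1835008) (Steps.bwd (nat_lit 5) (Steps.fwd (nat_lit 786432) (Steps.fwd (nat_lit 1048576) (Steps.fwd (nat_lit 1835008) (Steps.fwd (nat_lit 1572864) (Steps.bwd (nat_lit 2) (Steps.fwd (nat_lit 1048576) Steps.nil)))))))) (nat_lit 80) (nat_lit 2),
  Rule.mk (nat_lit 4) (nat_lit 154) (Steps.bwd (nat_lit 2) (Steps.bwd (nat_lit 6) (Steps.bwd (nat_lit 7) (Steps.bwd (nat_lit 4) (Steps.bwd (nat_lit 2) (Steps.fwd (nat_lit 1310720) (Steps.fwd (nat_lit 1835008) Steps.nil))))))) (nat_lit 88) (nat_lit 4),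
  Rule.mk (nat_lit 0) (nat_lit 334) (Steps.bwd (nat_lit 4) (Steps.bwd (nat_lit 8) (Steps.bwd (nat_lit 4) (Steps.fwd (nat_lit 2097152) (Steps.fwd (nat_lit 1048576) (Steps.bwd (nat_lit 8) (Steps.bwd (nat_lit 4) (Steps.bwd (nat_lit 9) (Steps.bwd (nat_lit 4) (Steps.bwd (nat_lit 8) (Steps.bwd (nat_lit 4) (Steps.bwd (nat_lit 9) (Steps.fwd (nat_lit 1048576) (Steps.bwd (nat_lit 8) (Steps.bwd (nat_lit 4) (Steps.bwd (nat_lit 9) Steps.nil)))))))))))))))) (nat_lit 106) (nat_lit 3),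
  Rule.mk (nat_lit 4) (nat_lit 314) (Steps.bwd (nat_lit 8) (Steps.fwd (nat_lit 1048576) (Steps.bwd (nat_lit 9) (Steps.bwd (nat_lit 4) (Steps.bwd (nat_lit 8) (Steps.fwd (nat_lit 1048576) (Steps.fwd (nat_lit 2097152) (Steps.bwd (nat_lit 4) (Steps.bwd (nat_lit 8) (Steps.bwd (nat_lit 4) (Steps.bwd (nat_lit 9) (Steps.bwd (nat_lit 4) (Steps.bwd (nat_lit 8) (Steps.bwd (nat_lit 4) (Steps.bwd (nat_lit 9) Steps.nil))))))))))))))) (nat_lit 106) (nat_lit 0),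
  Rule.mk (nat_lit 5) (nat_lit 114) (Steps.bwd (nat_lit 3) (Steps.bwd (nat_lit 4) (Steps.fwd (nat_lit 1572864) (Steps.fwd (nat_lit 524288) (Steps.bwd (nat_lit 4) Steps.nil))))) (nat_lit 59) (nat_lit 5),
  Rule.mk (nat_lit 4) (nat_lit 114) (Steps.fwd (nat_lit 1310720) (Steps.fwd (nat_lit 786432) (Steps.bwd (nat_lit 4) (Steps.bwd (nat_lit 6) (Steps.fwd (nat_lit 786432) Steps.nil))))) (nat_lit 54) (nat_lit 2),
  Rule.mk (nat_lit 4) (nat_lit 154) (Steps.fwd (nat_lit 524288) (Steps.fwd (nat_lit 1835008) (Steps.bwd (nat_lit 5) (Steps.bwd (nat_lit 4) (Steps.bwd (nat_lit 3) (Steps.bwd (nat_lit 7) (Steps.fwd (nat_lit 1572864) Steps.nil))))))) (nat_lit 79) (nat_lit 3),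
  Rule.mk (nat_lit 9) (nat_lit 314) (Steps.fwd (nat_lit 1048576) (Steps.bwd (nat_lit 8) (Steps.bwd (nat_lit 4) (Steps.bwd (nat_lit 9) (Steps.fwd (nat_lit 1048576) (Steps.fwd (nat_lit 2359296) (Steps.bwd (nat_lit 4) (Steps.bwd (nat_lit 9) (Steps.bwd (nat_lit 4) (Steps.fwd (nat_lit 2359296) (Steps.fwd (nat_lit 1048576) (Steps.bwd (nat_lit 9) (Steps.fwd (nat_lit 1048576) (Steps.bwd (nat_lit 8) (Steps.fwd (nat_lit 1048576) Steps.nil))))))))))))))) (nat_lit 106) (nat_lit 3),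
  Rule.mk (nat_lit 4) (nat_lit 314) (Steps.fwd (nat_lit 2359296) (Steps.fwd (nat_lit 1048576) (Steps.bwd (nat_lit 9) (Steps.bwd (nat_lit 4) (Steps.fwd (nat_lit 2359296) (Steps.fwd (nat_lit 1048576) (Steps.fwd (nat_lit 2097152) (Steps.bwd (nat_lit 4) (Steps.bwd (nat_lit 8) (Steps.fwd (nat_lit 1048576) (Steps.bwd (nat_lit 9) (Steps.bwd (nat_lit 4) (Steps.fwd (nat_lit 2359296) (Steps.bwd (nat_lit 4) (Steps.bwd (nat_lit 9) Steps.nil))))))))))))))) (nat_lit 106) (nat_lit 0),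
  Rule.mk (nat_lit 3) (nat_lit 74) (Steps.fwd (nat_lit 1048576) (Steps.bwd (nat_lit 3) (Steps.bwd (nat_lit 4) Steps.nil))) (nat_lit 15) (nat_lit 1),
  Rule.mk (nat_lit 4) (nat_lit 114) (Steps.bwd (nat_lit 7) (Steps.fwd (nat_lit 786432) (Steps.bwd (nat_lit 4) (Steps.fwd (nat_lit 1835008) (Steps.fwd (nat_lit 786432) Steps.nil))))) (nat_lit 56) (nat_lit 2),
  Rule.mk (nat_lit 3) (nat_lit 114) (Steps.fwd (nat_lit 1048576) (Steps.bwd (nat_lit 7) (Steps.bwd (nat_lit 3) (Steps.bwd (nat_lit 4) (Steps.fwd (nat_lit 1835008) Steps.nil))))) (nat_lit 65) (nat_lit 0),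
  Rule.mk (nat_lit 0) (nat_lit 334) (Steps.bwd (nat_lit 8) (Steps.fwd (nat_lit 1048576) (Steps.fwd (nat_lit 2097152) (Steps.bwd (nat_lit 4) (Steps.fwd (nat_lit 2359296) (Steps.fwd (nat_lit 1048576) (Steps.bwd (nat_lit 9) (Steps.fwd (nat_lit 1048576) (Steps.fwd (nat_lit 2359296) (Steps.fwd (nat_lit 1048576) (Steps.bwd (nat_lit 9) (Steps.bwd (nat_lit 4) (Steps.bwd (nat_lit 8) (Steps.fwd (nat_lit 1048576) (Steps.fwd (nat_lit 2097152) (Steps.fwd (nat_lit 1048576) Steps.nil)))))))))))))))) (nat_lit 106) (nat_lit 0),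
  Rule.mk (nat_lit 5) (nat_lit 94) (Steps.fwd (nat_lit 2359296) (Steps.bwd (nat_lit 5) (Steps.bwd (nat_lit 9) (Steps.fwd (nat_lit 1835008) Steps.nil)))) (nat_lit 101) (nat_lit 2),
  Rule.mk (nat_lit 2) (nat_lit 74) (Steps.fwd (nat_lit 1310720) (Steps.bwd (nat_lit 3) (Steps.bwd (nat_lit 5) Steps.nil))) (nat_lit 20) (nat_lit 1),
  Rule.mk (nat_lit 7) (nat_lit 94) (Steps.bwd (nat_lit 5) (Steps.bwd (nat_lit 6) (Steps.bwd (nat_lit 5) (Steps.fwd (nat_lit 1572864) Steps.nil)))) (nat_lit 25) (nat_lit 1),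
  Rule.mk (nat_lit 1) (nat_lit 154) (Steps.bwd (nat_lit 2) (Steps.fwd (nat_lit 262144) (Steps.fwd (nat_lit 1310720) (Steps.bwd (nat_lit 2) (Steps.fwd (nat_lit 262144) (Steps.fwd (nat_lit 786432) (Steps.bwd (nat_lit 5) Steps.nil))))))) (nat_lit 70) (nat_lit 1),
  Rule.mk (nat_lit 1) (nat_lit 154) (Steps.bwd (nat_lit 5) (Steps.bwd (nat_lit 2) (Steps.fwd (nat_lit 262144) (Steps.bwd (nat_lit 2) (Steps.fwd (nat_lit 1310720) (Steps.fwd (nat_lit 262144) (Steps.fwd (nat_lit 786432) Steps.nil))))))) (nat_lit 70) (nat_lit 3),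
  Rule.mk (nat_lit 3) (nat_lit 154) (Steps.fwd (nat_lit 1310720) (Steps.bwd (nat_lit 3) (Steps.fwd (nat_lit 1835008) (Steps.bwd (nat_lit 6) (Steps.bwd (nat_lit 3) (Steps.bwd (nat_lit 5) (Steps.fwd (nat_lit 1572864) Steps.nil))))))) (nat_lit 83) (nat_lit 6),
  Rule.mk (nat_lit 2) (nat_lit 154) (Steps.bwd (nat_lit 5) (Steps.fwd (nat_lit 786432) (Steps.fwd (nat_lit 1835008) (Steps.fwd (nat_lit 1572864) (Steps.fwd (nat_lit 786432) (Steps.bwd (nat_lit 5) (Steps.fwd (nat_lit 1572864) Steps.nil))))))) (nat_lit 84) (nat_lit 1),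
  Rule.mk (nat_lit 0) (nat_lit 294) (Steps.bwd (nat_lit 1) (Steps.bwd (nat_lit 6) (Steps.bwd (nat_lit 5) (Steps.bwd (nat_lit 2) (Steps.fwd (nat_lit 262144) (Steps.fwd (nat_lit 1572864) (Steps.bwd (nat_lit 1) (Steps.fwd (nat_lit 786432) (Steps.fwd (nat_lit 262144) (Steps.fwd (nat_lit 1572864) (Steps.fwd (nat_lit 262144) (Steps.bwd (nat_lit 2) (Steps.fwd (nat_lit 262144) (Steps.fwd (nat_lit 1572864) Steps.nil)))))))))))))) (nat_lit 34) (nat_lit 11),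
  Rule.mk (nat_lit 8) (nat_lit 114) (Steps.fwd (nat_lit 786432) (Steps.bwd (nat_lit 1) (Steps.bwd (nat_lit 3) (Steps.bwd (nat_lit 9) (Steps.fwd (nat_lit 262144) Steps.nil))))) (nat_lit 104) (nat_lit 1),
  Rule.mk (nat_lit 5) (nat_lit 94) (Steps.bwd (nat_lit 7) (Steps.bwd (nat_lit 8) (Steps.fwd (nat_lit 1310720) (Steps.fwd (nat_lit 2097152) Steps.nil)))) (nat_lit 100) (nat_lit 4),
  Rule.mk (nat_lit 7) (nat_lit 114) (Steps.bwd (nat_lit 1) (Steps.fwd (nat_lit 1310720) (Steps.bwd (nat_lit 7) (Steps.fwd (nat_lit 262144) (Steps.fwd (nat_lit 1310720) Steps.nil))))) (nat_lit 52) (nat_lit 0),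
  Rule.mk (nat_lit 0) (nat_lit 134) (Steps.bwd (nat_lit 4) (Steps.fwd (nat_lit 1572864) (Steps.bwd (nat_lit 3) (Steps.bwd (nat_lit 4) (Steps.fwd (nat_lit 1310720) (Steps.fwd (nat_lit 524288) Steps.nil)))))) (nat_lit 59) (nat_lit 0),
  Rule.mk (nat_lit 0) (nat_lit 174) (Steps.bwd (nat_lit 1) (Steps.fwd (nat_lit 1310720) (Steps.bwd (nat_lit 2) (Steps.bwd (nat_lit 1) (Steps.bwd (nat_lit 2) (Steps.fwd (nat_lit 1310720) (Steps.bwd (nat_lit 1) (Steps.fwd (nat_lit 786432) Steps.nil)))))))) (nat_lit 70) (nat_lit 2),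
  Rule.mk (nat_lit 2) (nat_lit 154) (Steps.fwd (nat_lit 1048576) (Steps.fwd (nat_lit 1572864) (Steps.fwd (nat_lit 1835008) (Steps.fwd (nat_lit 786432) (Steps.bwd (nat_lit 4) (Steps.fwd (nat_lit 1310720) (Steps.bwd (nat_lit 7) Steps.nil))))))) (nat_lit 78) (nat_lit 5),
  Rule.mk (nat_lit 4) (nat_lit 154) (Steps.fwd (nat_lit 1835008) (Steps.fwd (nat_lit 1310720) (Steps.fwd (nat_lit 786432) (Steps.bwd (nat_lit 4) (Steps.bwd (nat_lit 7) (Steps.fwd (nat_lit 1572864) (Steps.fwd (nat_lit 786432) Steps.nil))))))) (nat_lit 80) (nat_lit 2),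
  Rule.mk (nat_lit 0) (nat_lit 174) (Steps.bwd (nat_lit 6) (Steps.bwd (nat_lit 7) (Steps.bwd (nat_lit 2) (Steps.fwd (nat_lit 1310720) (Steps.fwd (nat_lit 786432) (Steps.bwd (nat_lit 6) (Steps.bwd (nat_lit 5) (Steps.fwd (nat_lit 786432) Steps.nil)))))))) (nat_lit 82) (nat_lit 6),
  Rule.mk (nat_lit 7) (nat_lit 154) (Steps.bwd (nat_lit 6) (Steps.fwd (nat_lit 786432) (Steps.bwd (nat_lit 5) (Steps.fwd (nat_lit 1572864) (Steps.bwd (nat_lit 2) (Steps.fwd (nat_lit 1310720) (Steps.fwd (nat_lit 786432) Steps.nil))))))) (nat_lit 84) (nat_lit 4),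
  Rule.mk (nat_lit 2) (nat_lit 154) (Steps.fwd (nat_lit 1835008) (Steps.fwd (nat_lit 1310720) (Steps.fwd (nat_lit 1048576) (Steps.fwd (nat_lit 786432) (Steps.fwd (nat_lit 1835008) (Steps.fwd (nat_lit 1572864) (Steps.bwd (nat_lit 4) Steps.nil))))))) (nat_lit 92) (nat_lit 1),
  Rule.mk (nat_lit 5) (nat_lit 74) (Steps.fwd (nat_lit 1835008) (Steps.fwd (nat_lit 1310720) (Steps.bwd (nat_lit 7) Steps.nil))) (nat_lit 32) (nat_lit 0),
  Rule.mk (nat_lit 5) (nat_lit 114) (Steps.fwd (nat_lit 1835008) (Steps.bwd (nat_lit 3) (Steps.fwd (nat_lit 1310720) (Steps.bwd (nat_lit 7) (Steps.bwd (nat_lit 2) Steps.nil))))) (nat_lit 60) (nat_lit 2),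
  Rule.mk (nat_lit 5) (nat_lit 114) (Steps.fwd (nat_lit 1835008) (Steps.bwd (nat_lit 2) (Steps.fwd (nat_lit 1310720) (Steps.bwd (nat_lit 7) (Steps.fwd (nat_lit 524288) Steps.nil))))) (nat_lit 60) (nat_lit 5),
  Rule.mk (nat_lit 6) (nat_lit 114) (Steps.bwd (nat_lit 7) (Steps.bwd (nat_lit 4) (Steps.fwd (nat_lit 1310720) (Steps.bwd (nat_lit 7) (Steps.fwd (nat_lit 1048576) Steps.nil))))) (nat_lit 66) (nat_lit 5),
  Rule.mk (nat_lit 1) (nat_lit 274) (Steps.fwd (nat_lit 1572864) (Steps.fwd (nat_lit 262144) (Steps.bwd (nat_lit 2) (Steps.bwd (nat_lit 1) (Steps.fwd (nat_lit 1572864) (Steps.fwd (nat_lit 262144) (Steps.fwd (nat_lit 786432) (Steps.bwd (nat_lit 1) (Steps.fwd (nat_lit 1572864) (Steps.fwd (nat_lit 262144) (Steps.bwd (nat_lit 6) (Steps.fwd (nat_lit 1310720) (Steps.bwd (nat_lit 2) Steps.nil))))))))))))) (nat_lit 34) (nat_lit 2),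
  Rule.mk (nat_lit 4) (nat_lit 114) (Steps.fwd (nat_lit 262144) (Steps.fwd (nat_lit 1048576) (Steps.bwd (nat_lit 1) (Steps.bwd (nat_lit 4) (Steps.bwd (nat_lit 1) Steps.nil))))) (nat_lit 16) (nat_lit 0),
  Rule.mk (nat_lit 1) (nat_lit 154) (Steps.fwd (nat_lit 786432) (Steps.bwd (nat_lit 5) (Steps.fwd (nat_lit 262144) (Steps.bwd (nat_lit 2) (Steps.bwd (nat_lit 1) (Steps.bwd (nat_lit 5) (Steps.bwd (nat_lit 2) Steps.nil))))))) (nat_lit 70) (nat_lit 6),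
  Rule.mk (nat_lit 1) (nat_lit 154) (Steps.bwd (nat_lit 2) (Steps.fwd (nat_lit 1310720) (Steps.bwd (nat_lit 1) (Steps.fwd (nat_lit 786432) (Steps.bwd (nat_lit 1) (Steps.fwd (nat_lit 1310720) (Steps.fwd (nat_lit 786432) Steps.nil))))))) (nat_lit 70) (nat_lit 6),
  Rule.mk (nat_lit 7) (nat_lit 114) (Steps.bwd (nat_lit 5) (Steps.bwd (nat_lit 1) (Steps.fwd (nat_lit 1835008) (Steps.bwd (nat_lit 5) (Steps.fwd (nat_lit 262144) Steps.nil))))) (nat_lit 53) (nat_lit 1),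
  Rule.mk (nat_lit 1) (nat_lit 154) (Steps.fwd (nat_lit 1310720) (Steps.bwd (nat_lit 2) (Steps.bwd (nat_lit 1) (Steps.fwd (nat_lit 786432) (Steps.fwd (nat_lit 1310720) (Steps.bwd (nat_lit 1) (Steps.bwd (nat_lit 2) Steps.nil))))))) (nat_lit 70) (nat_lit 3),
  Rule.mk (nat_lit 4) (nat_lit 154) (Steps.bwd (nat_lit 7) (Steps.bwd (nat_lit 1) (Steps.bwd (nat_lit 4) (Steps.bwd (nat_lit 1) (Steps.fwd (nat_lit 1835008) (Steps.fwd (nat_lit 1048576) (Steps.fwd (nat_lit 262144) Steps.nil))))))) (nat_lit 76) (nat_lit 7),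
  Rule.mk (nat_lit 7) (nat_lit 114) (Steps.bwd (nat_lit 6) (Steps.bwd (nat_lit 4) (Steps.bwd (nat_lit 7) (Steps.fwd (nat_lit 1310720) (Steps.bwd (nat_lit 4) Steps.nil))))) (nat_lit 67) (nat_lit 1),
  Rule.mk (nat_lit 0) (nat_lit 174) (Steps.bwd (nat_lit 4) (Steps.bwd (nat_lit 1) (Steps.fwd (nat_lit 1572864) (Steps.bwd (nat_lit 1) (Steps.bwd (nat_lit 4) (Steps.bwd (nat_lit 1) (Steps.bwd (nat_lit 6) (Steps.fwd (nat_lit 262144) Steps.nil)))))))) (nat_lit 74) (nat_lit 1),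
  Rule.mk (nat_lit 4) (nat_lit 154) (Steps.bwd (nat_lit 1) (Steps.fwd (nat_lit 1048576) (Steps.bwd (nat_lit 7) (Steps.bwd (nat_lit 1) (Steps.bwd (nat_lit 4) (Steps.bwd (nat_lit 1) (Steps.fwd (nat_lit 1835008) Steps.nil))))))) (nat_lit 76) (nat_lit 5),
  Rule.mk (nat_lit 4) (nat_lit 314) (Steps.fwd (nat_lit 2097152) (Steps.fwd (nat_lit 1048576) (Steps.bwd (nat_lit 8) (Steps.bwd (nat_lit 4) (Steps.bwd (nat_lit 9) (Steps.fwd (nat_lit 1048576) (Steps.fwd (nat_lit 2359296) (Steps.bwd (nat_lit 4) (Steps.bwd (nat_lit 9) (Steps.bwd (nat_lit 4) (Steps.bwd (nat_lit 8) (Steps.fwd (nat_lit 1048576) (Steps.bwd (nat_lit 9) (Steps.fwd (nat_lit 1048576) (Steps.fwd (nat_lit 2359296) Steps.nil))))))))))))))) (nat_lit 106) (nat_lit 2),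
  Rule.mk (nat_lit 1) (nat_lit 154) (Steps.fwd (nat_lit 1835008) (Steps.fwd (nat_lit 1048576) (Steps.fwd (nat_lit 262144) (Steps.bwd (nat_lit 4) (Steps.fwd (nat_lit 1835008) (Steps.fwd (nat_lit 262144) (Steps.fwd (nat_lit 1048576) Steps.nil))))))) (nat_lit 76) (nat_lit 3),
  Rule.mk (nat_lit 0) (nat_lit 174) (Steps.bwd (nat_lit 1) (Steps.bwd (nat_lit 4) (Steps.bwd (nat_lit 1) (Steps.bwd (nat_lit 6) (Steps.bwd (nat_lit 1) (Steps.bwd (nat_lit 4) (Steps.fwd (nat_lit 262144) (Steps.fwd (nat_lit 1572864) Steps.nil)))))))) (nat_lit 74) (nat_lit 0),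
  Rule.mk (nat_lit 4) (nat_lit 154) (Steps.bwd (nat_lit 1) (Steps.fwd (nat_lit 1048576) (Steps.bwd (nat_lit 7) (Steps.fwd (nat_lit 262144) (Steps.fwd (nat_lit 1048576) (Steps.bwd (nat_lit 1) (Steps.fwd (nat_lit 1835008) Steps.nil))))))) (nat_lit 76) (nat_lit 5),
  Rule.mk (nat_lit 6) (nat_lit 274) (Steps.bwd (nat_lit 1) (Steps.fwd (nat_lit 524288) (Steps.bwd (nat_lit 5) (Steps.fwd (nat_lit 1572864) (Steps.bwd (nat_lit 1) (Steps.bwd (nat_lit 6) (Steps.fwd (nat_lit 262144) (Steps.fwd (nat_lit 524288) (Steps.bwd (nat_lit 1) (Steps.fwd (nat_lit 1572864) (Steps.bwd (nat_lit 1) (Steps.fwd (nat_lit 524288) (Steps.fwd (nat_lit 262144) Steps.nil))))))))))))) (nat_lit 35) (nat_lit 12),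
  Rule.mk (nat_lit 1) (nat_lit 274) (Steps.bwd (nat_lit 6) (Steps.bwd (nat_lit 1) (Steps.bwd (nat_lit 3) (Steps.bwd (nat_lit 1) (Steps.bwd (nat_lit 6) (Steps.bwd (nat_lit 1) (Steps.fwd (nat_lit 524288) (Steps.bwd (nat_lit 1) (Steps.bwd (nat_lit 6) (Steps.fwd (nat_lit 262144) (Steps.fwd (nat_lit 524288) (Steps.fwd (nat_lit 1310720) (Steps.fwd (nat_lit 1572864) Steps.nil))))))))))))) (nat_lit 35) (nat_lit 3),
  Rule.mk (nat_lit 1) (nat_lit 274) (Steps.bwd (nat_lit 3) (Steps.fwd (nat_lit 1310720) (Steps.fwd (nat_lit 1572864) (Steps.bwd (nat_lit 1) (Steps.bwd (nat_lit 6) (Steps.bwd (nat_lit 1) (Steps.fwd (nat_lit 524288) (Steps.bwd (nat_lit 1) (Steps.bwd (nat_lit 6) (Steps.fwd (nat_lit 262144) (Steps.fwd (nat_lit 524288) (Steps.bwd (nat_lit 1) (Steps.fwd (nat_lit 1572864) Steps.nil))))))))))))) (nat_lit 35) (nat_lit 13),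
  Rule.mk (nat_lit 2) (nat_lit 274) (Steps.bwd (nat_lit 1) (Steps.fwd (nat_lit 1572864) (Steps.fwd (nat_lit 262144) (Steps.fwd (nat_lit 1572864) (Steps.bwd (nat_lit 5) (Steps.bwd (nat_lit 2) (Steps.fwd (nat_lit 262144) (Steps.fwd (nat_lit 1572864) (Steps.fwd (nat_lit 262144) (Steps.fwd (nat_lit 786432) (Steps.fwd (nat_lit 262144) (Steps.fwd (nat_lit 1572864) (Steps.fwd (nat_lit 262144) Steps.nil))))))))))))) (nat_lit 34) (nat_lit 9)]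
noncomputable def R_74 : List (Rule) := [Rule.mk (nat_lit 2) (nat_lit 154) (Steps.fwd (nat_lit 1310720) (Steps.fwd (nat_lit 262144) (Steps.bwd (nat_lit 2) (Steps.bwd (nat_lit 1) (Steps.bwd (nat_lit 5) (Steps.fwd (nat_lit 786432) (Steps.bwd (nat_lit 1) Steps.nil))))))) (nat_lit 70) (nat_lit 7),
  Rule.mk (nat_lit 1) (nat_lit 154) (Steps.bwd (nat_lit 7) (Steps.bwd (nat_lit 2) (Steps.bwd (nat_lit 1) (Steps.bwd (nat_lit 2) (Steps.bwd (nat_lit 7) (Steps.bwd (nat_lit 1) (Steps.bwd (nat_lit 2) Steps.nil))))))) (nat_lit 72) (nat_lit 3),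
  Rule.mk (nat_lit 2) (nat_lit 154) (Steps.bwd (nat_lit 6) (Steps.fwd (nat_lit 1310720) (Steps.bwd (nat_lit 2) (Steps.fwd (nat_lit 1572864) (Steps.fwd (nat_lit 1835008) (Steps.fwd (nat_lit 786432) (Steps.fwd (nat_lit 1310720) Steps.nil))))))) (nat_lit 82) (nat_lit 3),
  Rule.mk (nat_lit 5) (nat_lit 154) (Steps.bwd (nat_lit 2) (Steps.bwd (nat_lit 1) (Steps.fwd (nat_lit 786432) (Steps.fwd (nat_lit 1310720) (Steps.fwd (nat_lit 262144) (Steps.fwd (nat_lit 786432) (Steps.fwd (nat_lit 262144) Steps.nil))))))) (nat_lit 70) (nat_lit 4),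
  Rule.mk (nat_lit 5) (nat_lit 114) (Steps.bwd (nat_lit 7) (Steps.fwd (nat_lit 262144) (Steps.fwd (nat_lit 1310720) (Steps.fwd (nat_lit 1835008) (Steps.fwd (nat_lit 262144) Steps.nil))))) (nat_lit 52) (nat_lit 2),
  Rule.mk (nat_lit 7) (nat_lit 154) (Steps.bwd (nat_lit 1) (Steps.bwd (nat_lit 2) (Steps.bwd (nat_lit 1) (Steps.bwd (nat_lit 7) (Steps.fwd (nat_lit 786432) (Steps.bwd (nat_lit 1) (Steps.bwd (nat_lit 2) Steps.nil))))))) (nat_lit 72) (nat_lit 0),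
  Rule.mk (nat_lit 4) (nat_lit 154) (Steps.bwd (nat_lit 7) (Steps.bwd (nat_lit 1) (Steps.fwd (nat_lit 1048576) (Steps.bwd (nat_lit 1) (Steps.bwd (nat_lit 7) (Steps.fwd (nat_lit 1048576) (Steps.fwd (nat_lit 262144) Steps.nil))))))) (nat_lit 76) (nat_lit 7),
  Rule.mk (nat_lit 4) (nat_lit 154) (Steps.bwd (nat_lit 3) (Steps.bwd (nat_lit 7) (Steps.fwd (nat_lit 1310720) (Steps.fwd (nat_lit 1048576) (Steps.bwd (nat_lit 3) (Steps.bwd (nat_lit 7) (Steps.bwd (nat_lit 6) Steps.nil))))))) (nat_lit 79) (nat_lit 3),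
  Rule.mk (nat_lit 3) (nat_lit 154) (Steps.bwd (nat_lit 4) (Steps.bwd (nat_lit 7) (Steps.bwd (nat_lit 6) (Steps.bwd (nat_lit 3) (Steps.fwd (nat_lit 1048576) (Steps.fwd (nat_lit 1835008) (Steps.bwd (nat_lit 5) Steps.nil))))))) (nat_lit 89) (nat_lit 0),
  Rule.mk (nat_lit 4) (nat_lit 114) (Steps.fwd (nat_lit 786432) (Steps.fwd (nat_lit 1835008) (Steps.fwd (nat_lit 1048576) (Steps.fwd (nat_lit 786432) (Steps.bwd (nat_lit 7) Steps.nil))))) (nat_lit 64) (nat_lit 0),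
  Rule.mk (nat_lit 5) (nat_lit 114) (Steps.fwd (nat_lit 524288) (Steps.bwd (nat_lit 4) (Steps.bwd (nat_lit 6) (Steps.bwd (nat_lit 3) (Steps.fwd (nat_lit 1048576) Steps.nil))))) (nat_lit 59) (nat_lit 5),
  Rule.mk (nat_lit 3) (nat_lit 154) (Steps.bwd (nat_lit 1) (Steps.bwd (nat_lit 5) (Steps.fwd (nat_lit 524288) (Steps.bwd (nat_lit 1) (Steps.bwd (nat_lit 3) (Steps.fwd (nat_lit 1310720) (Steps.fwd (nat_lit 262144) Steps.nil))))))) (nat_lit 71) (nat_lit 7),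
  Rule.mk (nat_lit 0) (nat_lit 94) (Steps.bwd (nat_lit 9) (Steps.bwd (nat_lit 6) (Steps.fwd (nat_lit 2097152) (Steps.bwd (nat_lit 6) Steps.nil)))) (nat_lit 103) (nat_lit 0),
  Rule.mk (nat_lit 1) (nat_lit 274) (Steps.bwd (nat_lit 2) (Steps.fwd (nat_lit 262144) (Steps.bwd (nat_lit 6) (Steps.bwd (nat_lit 1) (Steps.fwd (nat_lit 1572864) (Steps.bwd (nat_lit 5) (Steps.fwd (nat_lit 786432) (Steps.fwd (nat_lit 262144) (Steps.fwd (nat_lit 1572864) (Steps.bwd (nat_lit 1) (Steps.bwd (nat_lit 2) (Steps.bwd (nat_lit 1) (Steps.bwd (nat_lit 6) Steps.nil))))))))))))) (nat_lit 34) (nat_lit 8),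
  Rule.mk (nat_lit 6) (nat_lit 274) (Steps.bwd (nat_lit 1) (Steps.bwd (nat_lit 6) (Steps.fwd (nat_lit 1310720) (Steps.bwd (nat_lit 2) (Steps.fwd (nat_lit 262144) (Steps.fwd (nat_lit 1572864) (Steps.bwd (nat_lit 1) (Steps.fwd (nat_lit 786432) (Steps.bwd (nat_lit 1) (Steps.fwd (nat_lit 1572864) (Steps.bwd (nat_lit 1) (Steps.bwd (nat_lit 2) (Steps.fwd (nat_lit 262144) Steps.nil))))))))))))) (nat_lit 34) (nat_lit 11),
  Rule.mk (nat_lit 3) (nat_lit 154) (Steps.fwd (nat_lit 1835008) (Steps.bwd (nat_lit 6) (Steps.bwd (nat_lit 4) (Steps.fwd (nat_lit 524288) (Steps.bwd (nat_lit 7) (Steps.fwd (nat_lit 1310720) (Steps.fwd (nat_lit 1048576) Steps.nil))))))) (nat_lit 79) (nat_lit 0),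
  Rule.mk (nat_lit 4) (nat_lit 114) (Steps.fwd (nat_lit 786432) (Steps.bwd (nat_lit 6) (Steps.fwd (nat_lit 1048576) (Steps.fwd (nat_lit 786432) (Steps.bwd (nat_lit 5) Steps.nil))))) (nat_lit 58) (nat_lit 3),
  Rule.mk (nat_lit 1) (nat_lit 114) (Steps.fwd (nat_lit 1048576) (Steps.bwd (nat_lit 1) (Steps.bwd (nat_lit 4) (Steps.fwd (nat_lit 262144) (Steps.fwd (nat_lit 1048576) Steps.nil))))) (nat_lit 16) (nat_lit 1),
  Rule.mk (nat_lit 4) (nat_lit 154) (Steps.bwd (nat_lit 1) (Steps.fwd (nat_lit 1572864) (Steps.bwd (nat_lit 1) (Steps.bwd (nat_lit 4) (Steps.fwd (nat_lit 262144) (Steps.fwd (nat_lit 1572864) (Steps.fwd (nat_lit 262144) Steps.nil))))))) (nat_lit 74) (nat_lit 2),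
  Rule.mk (nat_lit 1) (nat_lit 154) (Steps.bwd (nat_lit 7) (Steps.fwd (nat_lit 1048576) (Steps.bwd (nat_lit 1) (Steps.bwd (nat_lit 4) (Steps.fwd (nat_lit 1835008) (Steps.bwd (nat_lit 1) (Steps.fwd (nat_lit 1048576) Steps.nil))))))) (nat_lit 76) (nat_lit 3),
  Rule.mk (nat_lit 2) (nat_lit 154) (Steps.bwd (nat_lit 5) (Steps.bwd (nat_lit 1) (Steps.fwd (nat_lit 786432) (Steps.fwd (nat_lit 262144) (Steps.fwd (nat_lit 1310720) (Steps.bwd (nat_lit 2) (Steps.fwd (nat_lit 262144) Steps.nil))))))) (nat_lit 70) (nat_lit 7),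
  Rule.mk (nat_lit 3) (nat_lit 154) (Steps.bwd (nat_lit 5) (Steps.bwd (nat_lit 1) (Steps.bwd (nat_lit 3) (Steps.bwd (nat_lit 1) (Steps.bwd (nat_lit 5) (Steps.bwd (nat_lit 3) (Steps.fwd (nat_lit 262144) Steps.nil))))))) (nat_lit 71) (nat_lit 4),
  Rule.mk (nat_lit 2) (nat_lit 154) (Steps.fwd (nat_lit 1835008) (Steps.bwd (nat_lit 1) (Steps.fwd (nat_lit 786432) (Steps.fwd (nat_lit 262144) (Steps.bwd (nat_lit 7) (Steps.fwd (nat_lit 786432) (Steps.fwd (nat_lit 262144) Steps.nil))))))) (nat_lit 72) (nat_lit 7),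
  Rule.mk (nat_lit 3) (nat_lit 114) (Steps.bwd (nat_lit 6) (Steps.fwd (nat_lit 1835008) (Steps.bwd (nat_lit 2) (Steps.fwd (nat_lit 1572864) (Steps.bwd (nat_lit 7) Steps.nil))))) (nat_lit 62) (nat_lit 4),
  Rule.mk (nat_lit 2) (nat_lit 154) (Steps.bwd (nat_lit 6) (Steps.fwd (nat_lit 1310720) (Steps.bwd (nat_lit 2) (Steps.fwd (nat_lit 1572864) (Steps.bwd (nat_lit 7) (Steps.bwd (nat_lit 2) (Steps.fwd (nat_lit 1310720) Steps.nil))))))) (nat_lit 82) (nat_lit 3),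
  Rule.mk (nat_lit 2) (nat_lit 154) (Steps.fwd (nat_lit 1310720) (Steps.bwd (nat_lit 2) (Steps.fwd (nat_lit 1572864) (Steps.bwd (nat_lit 5) (Steps.bwd (nat_lit 2) (Steps.fwd (nat_lit 1572864) (Steps.bwd (nat_lit 7) Steps.nil))))))) (nat_lit 82) (nat_lit 1),
  Rule.mk (nat_lit 2) (nat_lit 154) (Steps.bwd (nat_lit 6) (Steps.fwd (nat_lit 1835008) (Steps.bwd (nat_lit 2) (Steps.fwd (nat_lit 1310720) (Steps.fwd (nat_lit 786432) (Steps.bwd (nat_lit 6) (Steps.bwd (nat_lit 5) Steps.nil))))))) (nat_lit 82) (nat_lit 6),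
  Rule.mk (nat_lit 2) (nat_lit 154) (Steps.fwd (nat_lit 1310720) (Steps.bwd (nat_lit 6) (Steps.bwd (nat_lit 2) (Steps.fwd (nat_lit 1310720) (Steps.fwd (nat_lit 786432) (Steps.fwd (nat_lit 1835008) (Steps.bwd (nat_lit 6) Steps.nil))))))) (nat_lit 84) (nat_lit 6),
  Rule.mk (nat_lit 1) (nat_lit 274) (Steps.bwd (nat_lit 6) (Steps.bwd (nat_lit 1) (Steps.fwd (nat_lit 786432) (Steps.fwd (nat_lit 262144) (Steps.fwd (nat_lit 1572864) (Steps.bwd (nat_lit 1) (Steps.bwd (nat_lit 2) (Steps.bwd (nat_lit 1) (Steps.fwd (nat_lit 1572864) (Steps.fwd (nat_lit 262144) (Steps.bwd (nat_lit 6) (Steps.fwd (nat_lit 1310720) (Steps.fwd (nat_lit 786432) Steps.nil))))))))))))) (nat_lit 34) (nat_lit 2),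
  Rule.mk (nat_lit 2) (nat_lit 274) (Steps.bwd (nat_lit 1) (Steps.fwd (nat_lit 1572864) (Steps.bwd (nat_lit 1) (Steps.fwd (nat_lit 786432) (Steps.bwd (nat_lit 1) (Steps.bwd (nat_lit 6) (Steps.bwd (nat_lit 1) (Steps.bwd (nat_lit 6) (Steps.fwd (nat_lit 1310720) (Steps.fwd (nat_lit 786432) (Steps.fwd (nat_lit 262144) (Steps.fwd (nat_lit 1572864) (Steps.fwd (nat_lit 262144) Steps.nil))))))))))))) (nat_lit 34) (nat_lit 5),
  Rule.mk (nat_lit 3) (nat_lit 274) (Steps.fwd (nat_lit 262144) (Steps.bwd (nat_lit 6) (Steps.bwd (nat_lit 1) (Steps.fwd (nat_lit 524288) (Steps.fwd (nat_lit 262144) (Steps.fwd (nat_lit 1572864) (Steps.bwd (nat_lit 1) (Steps.bwd (nat_lit 3) (Steps.fwd (nat_lit 1310720) (Steps.fwd (nat_lit 1572864) (Steps.bwd (nat_lit 1) (Steps.bwd (nat_lit 6) (Steps.fwd (nat_lit 262144) Steps.nil))))))))))))) (nat_lit 35) (nat_lit 6),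
  Rule.mk (nat_lit 2) (nat_lit 74) (Steps.fwd (nat_lit 1572864) (Steps.bwd (nat_lit 3) (Steps.fwd (nat_lit 1572864) Steps.nil))) (nat_lit 40) (nat_lit 1),
  Rule.mk (nat_lit 2) (nat_lit 114) (Steps.bwd (nat_lit 6) (Steps.bwd (nat_lit 7) (Steps.bwd (nat_lit 3) (Steps.fwd (nat_lit 1572864) (Steps.fwd (nat_lit 1835008) Steps.nil))))) (nat_lit 62) (nat_lit 1),
  Rule.mk (nat_lit 3) (nat_lit 154) (Steps.bwd (nat_lit 7) (Steps.fwd (nat_lit 1572864) (Steps.bwd (nat_lit 3) (Steps.bwd (nat_lit 5) (Steps.fwd (nat_lit 1572864) (Steps.fwd (nat_lit 524288) (Steps.fwd (nat_lit 1310720) Steps.nil))))))) (nat_lit 83) (nat_lit 0),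
  Rule.mk (nat_lit 1) (nat_lit 274) (Steps.bwd (nat_lit 2) (Steps.fwd (nat_lit 262144) (Steps.fwd (nat_lit 1572864) (Steps.bwd (nat_lit 1) (Steps.bwd (nat_lit 2) (Steps.bwd (nat_lit 1) (Steps.bwd (nat_lit 6) (Steps.fwd (nat_lit 262144) (Steps.fwd (nat_lit 1572864) (Steps.fwd (nat_lit 1310720) (Steps.fwd (nat_lit 786432) (Steps.bwd (nat_lit 1) (Steps.bwd (nat_lit 6) Steps.nil))))))))))))) (nat_lit 34) (nat_lit 4),
  Rule.mk (nat_lit 4) (nat_lit 154) (Steps.fwd (nat_lit 262144) (Steps.fwd (nat_lit 1572864) (Steps.bwd (nat_lit 1) (Steps.fwd (nat_lit 1048576) (Steps.bwd (nat_lit 1) (Steps.bwd (nat_lit 6) (Steps.bwd (nat_lit 1) Steps.nil))))))) (nat_lit 74) (nat_lit 2),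
  Rule.mk (nat_lit 4) (nat_lit 154) (Steps.fwd (nat_lit 262144) (Steps.fwd (nat_lit 1048576) (Steps.fwd (nat_lit 1835008) (Steps.fwd (nat_lit 262144) (Steps.bwd (nat_lit 4) (Steps.bwd (nat_lit 1) (Steps.bwd (nat_lit 7) Steps.nil))))))) (nat_lit 76) (nat_lit 5),
  Rule.mk (nat_lit 4) (nat_lit 154) (Steps.bwd (nat_lit 7) (Steps.bwd (nat_lit 1) (Steps.bwd (nat_lit 4) (Steps.fwd (nat_lit 262144) (Steps.bwd (nat_lit 7) (Steps.fwd (nat_lit 1048576) (Steps.bwd (nat_lit 1) Steps.nil))))))) (nat_lit 76) (nat_lit 7),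
  Rule.mk (nat_lit 4) (nat_lit 154) (Steps.bwd (nat_lit 1) (Steps.fwd (nat_lit 1835008) (Steps.bwd (nat_lit 4) (Steps.bwd (nat_lit 1) (Steps.bwd (nat_lit 4) (Steps.bwd (nat_lit 7) (Steps.fwd (nat_lit 262144) Steps.nil))))))) (nat_lit 76) (nat_lit 2),
  Rule.mk (nat_lit 4) (nat_lit 314) (Steps.bwd (nat_lit 8) (Steps.bwd (nat_lit 4) (Steps.bwd (nat_lit 9) (Steps.fwd (nat_lit 1048576) (Steps.fwd (nat_lit 2359296) (Steps.fwd (nat_lit 1048576) (Steps.bwd (nat_lit 9) (Steps.fwd (nat_lit 1048576) (Steps.fwd (nat_lit 2359296) (Steps.bwd (nat_lit 4) (Steps.bwd (nat_lit 9) (Steps.fwd (nat_lit 1048576) (Steps.bwd (nat_lit 8) (Steps.bwd (nat_lit 4) (Steps.fwd (nat_lit 2097152) Steps.nil))))))))))))))) (nat_lit 106) (nat_lit 0),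
  Rule.mk (nat_lit 9) (nat_lit 314) (Steps.fwd (nat_lit 1048576) (Steps.bwd (nat_lit 8) (Steps.bwd (nat_lit 4) (Steps.bwd (nat_lit 9) (Steps.bwd (nat_lit 4) (Steps.fwd (nat_lit 2359296) (Steps.fwd (nat_lit 1048576) (Steps.fwd (nat_lit 2097152) (Steps.bwd (nat_lit 4) (Steps.fwd (nat_lit 2359296) (Steps.fwd (nat_lit 1048576) (Steps.bwd (nat_lit 9) (Steps.fwd (nat_lit 1048576) (Steps.fwd (nat_lit 2359296) (Steps.bwd (nat_lit 4) Steps.nil))))))))))))))) (nat_lit 106) (nat_lit 3),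
  Rule.mk (nat_lit 0) (nat_lit 134) (Steps.fwd (nat_lit 524288) (Steps.bwd (nat_lit 9) (Steps.bwd (nat_lit 1) (Steps.fwd (nat_lit 2359296) (Steps.fwd (nat_lit 786432) (Steps.fwd (nat_lit 262144) Steps.nil)))))) (nat_lit 104) (nat_lit 3),
  Rule.mk (nat_lit 0) (nat_lit 74) (Steps.bwd (nat_lit 2) (Steps.bwd (nat_lit 2) (Steps.fwd (nat_lit 786432) Steps.nil))) (nat_lit 2) (nat_lit 0),
  Rule.mk (nat_lit 4) (nat_lit 114) (Steps.fwd (nat_lit 786432) (Steps.fwd (nat_lit 1310720) (Steps.bwd (nat_lit 4) (Steps.bwd (nat_lit 2) (Steps.bwd (nat_lit 6) Steps.nil))))) (nat_lit 58) (nat_lit 0),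
  Rule.mk (nat_lit 4) (nat_lit 114) (Steps.fwd (nat_lit 786432) (Steps.fwd (nat_lit 1572864) (Steps.bwd (nat_lit 4) (Steps.bwd (nat_lit 2) (Steps.fwd (nat_lit 1310720) Steps.nil))))) (nat_lit 58) (nat_lit 3),
  Rule.mk (nat_lit 0) (nat_lit 134) (Steps.bwd (nat_lit 6) (Steps.fwd (nat_lit 1835008) (Steps.bwd (nat_lit 2) (Steps.bwd (nat_lit 6) (Steps.fwd (nat_lit 1835008) (Steps.fwd (nat_lit 524288) Steps.nil)))))) (nat_lit 62) (nat_lit 4),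
  Rule.mk (nat_lit 4) (nat_lit 114) (Steps.fwd (nat_lit 786432) (Steps.fwd (nat_lit 1835008) (Steps.bwd (nat_lit 4) (Steps.bwd (nat_lit 2) (Steps.bwd (nat_lit 7) Steps.nil))))) (nat_lit 64) (nat_lit 0),
  Rule.mk (nat_lit 2) (nat_lit 154) (Steps.fwd (nat_lit 1310720) (Steps.bwd (nat_lit 2) (Steps.fwd (nat_lit 1572864) (Steps.bwd (nat_lit 5) (Steps.bwd (nat_lit 2) (Steps.bwd (nat_lit 6) (Steps.fwd (nat_lit 1835008) Steps.nil))))))) (nat_lit 82) (nat_lit 1),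
  Rule.mk (nat_lit 2) (nat_lit 154) (Steps.bwd (nat_lit 5) (Steps.bwd (nat_lit 2) (Steps.fwd (nat_lit 1835008) (Steps.bwd (nat_lit 6) (Steps.bwd (nat_lit 2) (Steps.fwd (nat_lit 1310720) (Steps.fwd (nat_lit 1572864) Steps.nil))))))) (nat_lit 84) (nat_lit 1),
  Rule.mk (nat_lit 4) (nat_lit 154) (Steps.fwd (nat_lit 786432) (Steps.bwd (nat_lit 6) (Steps.fwd (nat_lit 1835008) (Steps.bwd (nat_lit 4) (Steps.bwd (nat_lit 2) (Steps.fwd (nat_lit 1310720) (Steps.fwd (nat_lit 1835008) Steps.nil))))))) (nat_lit 88) (nat_lit 4),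
  Rule.mk (nat_lit 2) (nat_lit 114) (Steps.fwd (nat_lit 1572864) (Steps.bwd (nat_lit 4) (Steps.fwd (nat_lit 786432) (Steps.bwd (nat_lit 5) (Steps.fwd (nat_lit 1048576) Steps.nil))))) (nat_lit 58) (nat_lit 4),
  Rule.mk (nat_lit 0) (nat_lit 334) (Steps.bwd (nat_lit 4) (Steps.fwd (nat_lit 2359296) (Steps.bwd (nat_lit 4) (Steps.bwd (nat_lit 9) (Steps.bwd (nat_lit 4) (Steps.bwd (nat_lit 8) (Steps.fwd (nat_lit 1048576) (Steps.bwd (nat_lit 9) (Steps.bwd (nat_lit 4) (Steps.fwd (nat_lit 2359296) (Steps.fwd (nat_lit 1048576) (Steps.fwd (nat_lit 2097152) (Steps.fwd (nat_lit 1048576) (Steps.fwd (nat_lit 2359296) (Steps.fwd (nat_lit 1048576) (Steps.bwd (nat_lit 9) Steps.nil)))))))))))))))) (nat_lit 106) (nat_lit 3),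
  Rule.mk (nat_lit 4) (nat_lit 114) (Steps.bwd (nat_lit 5) (Steps.bwd (nat_lit 7) (Steps.fwd (nat_lit 1048576) (Steps.bwd (nat_lit 6) (Steps.bwd (nat_lit 7) Steps.nil))))) (nat_lit 66) (nat_lit 1),
  Rule.mk (nat_lit 9) (nat_lit 314) (Steps.bwd (nat_lit 4) (Steps.fwd (nat_lit 2359296) (Steps.bwd (nat_lit 4) (Steps.bwd (nat_lit 9) (Steps.bwd (nat_lit 4) (Steps.fwd (nat_lit 2359296) (Steps.bwd (nat_lit 4) (Steps.bwd (nat_lit 9) (Steps.fwd (nat_lit 1048576) (Steps.fwd (nat_lit 2359296) (Steps.bwd (nat_lit 4) (Steps.bwd (nat_lit 9) (Steps.bwd (nat_lit 4) (Steps.bwd (nat_lit 8) (Steps.bwd (nat_lit 4) Steps.nil))))))))))))))) (nat_lit 106) (nat_lit 3),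
  Rule.mk (nat_lit 2) (nat_lit 154) (Steps.fwd (nat_lit 1572864) (Steps.bwd (nat_lit 7) (Steps.bwd (nat_lit 2) (Steps.bwd (nat_lit 5) (Steps.bwd (nat_lit 2) (Steps.bwd (nat_lit 6) (Steps.bwd (nat_lit 5) Steps.nil))))))) (nat_lit 82) (nat_lit 6),
  Rule.mk (nat_lit 3) (nat_lit 274) (Steps.bwd (nat_lit 1) (Steps.fwd (nat_lit 1572864) (Steps.fwd (nat_lit 262144) (Steps.fwd (nat_lit 524288) (Steps.bwd (nat_lit 5) (Steps.bwd (nat_lit 6) (Steps.bwd (nat_lit 1) (Steps.bwd (nat_lit 6) (Steps.fwd (nat_lit 262144) (Steps.fwd (nat_lit 524288) (Steps.fwd (nat_lit 262144) (Steps.fwd (nat_lit 1572864) (Steps.fwd (nat_lit 262144) Steps.nil))))))))))))) (nat_lit 35) (nat_lit 10),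
  Rule.mk (nat_lit 2) (nat_lit 154) (Steps.fwd (nat_lit 262144) (Steps.bwd (nat_lit 3) (Steps.bwd (nat_lit 1) (Steps.bwd (nat_lit 2) (Steps.fwd (nat_lit 262144) (Steps.bwd (nat_lit 3) (Steps.fwd (nat_lit 262144) Steps.nil))))))) (nat_lit 68) (nat_lit 2),
  Rule.mk (nat_lit 1) (nat_lit 154) (Steps.fwd (nat_lit 524288) (Steps.fwd (nat_lit 1310720) (Steps.fwd (nat_lit 262144) (Steps.bwd (nat_lit 3) (Steps.bwd (nat_lit 1) (Steps.bwd (nat_lit 5) (Steps.fwd (nat_lit 524288) Steps.nil))))))) (nat_lit 71) (nat_lit 3),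
  Rule.mk (nat_lit 1) (nat_lit 154) (Steps.fwd (nat_lit 524288) (Steps.bwd (nat_lit 7) (Steps.fwd (nat_lit 262144) (Steps.bwd (nat_lit 3) (Steps.bwd (nat_lit 1) (Steps.bwd (nat_lit 7) (Steps.bwd (nat_lit 3) Steps.nil))))))) (nat_lit 73) (nat_lit 3),
  Rule.mk (nat_lit 3) (nat_lit 154) (Steps.bwd (nat_lit 1) (Steps.fwd (nat_lit 1310720) (Steps.bwd (nat_lit 3) (Steps.bwd (nat_lit 1) (Steps.fwd (nat_lit 524288) (Steps.fwd (nat_lit 1310720) (Steps.fwd (nat_lit 262144) Steps.nil))))))) (nat_lit 71) (nat_lit 7),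
  Rule.mk (nat_lit 2) (nat_lit 154) (Steps.bwd (nat_lit 1) (Steps.fwd (nat_lit 786432) (Steps.bwd (nat_lit 7) (Steps.fwd (nat_lit 262144) (Steps.bwd (nat_lit 2) (Steps.bwd (nat_lit 1) (Steps.fwd (nat_lit 1835008) Steps.nil))))))) (nat_lit 72) (nat_lit 5),
  Rule.mk (nat_lit 0) (nat_lit 294) (Steps.fwd (nat_lit 1572864) (Steps.fwd (nat_lit 262144) (Steps.fwd (nat_lit 524288) (Steps.bwd (nat_lit 1) (Steps.fwd (nat_lit 1572864) (Steps.fwd (nat_lit 262144) (Steps.bwd (nat_lit 3) (Steps.fwd (nat_lit 262144) (Steps.bwd (nat_lit 6) (Steps.fwd (nat_lit 262144) (Steps.fwd (nat_lit 524288) (Steps.fwd (nat_lit 1310720) (Steps.fwd (nat_lit 1572864) (Steps.fwd (nat_lit 262144) Steps.nil)))))))))))))) (nat_lit 35) (nat_lit 3),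
  Rule.mk (nat_lit 1) (nat_lit 274) (Steps.fwd (nat_lit 1572864) (Steps.bwd (nat_lit 1) (Steps.fwd (nat_lit 524288) (Steps.fwd (nat_lit 1310720) (Steps.bwd (nat_lit 6) (Steps.bwd (nat_lit 1) (Steps.bwd (nat_lit 6) (Steps.fwd (nat_lit 262144) (Steps.bwd (nat_lit 3) (Steps.fwd (nat_lit 262144) (Steps.fwd (nat_lit 1572864) (Steps.bwd (nat_lit 1) (Steps.bwd (nat_lit 3) Steps.nil))))))))))))) (nat_lit 35) (nat_lit 11),
  Rule.mk (nat_lit 1) (nat_lit 274) (Steps.fwd (nat_lit 524288) (Steps.bwd (nat_lit 5) (Steps.fwd (nat_lit 1572864) (Steps.bwd (nat_lit 1) (Steps.fwd (nat_lit 1572864) (Steps.bwd (nat_lit 1) (Steps.fwd (nat_lit 524288) (Steps.bwd (nat_lit 1) (Steps.bwd (nat_lit 6) (Steps.fwd (nat_lit 262144) (Steps.bwd (nat_lit 3) (Steps.fwd (nat_lit 262144) (Steps.fwd (nat_lit 1572864) Steps.nil))))))))))))) (nat_lit 35) (nat_lit 13)]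
noncomputable def R_75 : List (Rule) := [Rule.mk (nat_lit 0) (nat_lit 174) (Steps.bwd (nat_lit 1) (Steps.bwd (nat_lit 5) (Steps.bwd (nat_lit 2) (Steps.bwd (nat_lit 1) (Steps.fwd (nat_lit 786432) (Steps.fwd (nat_lit 1310720) (Steps.fwd (nat_lit 262144) (Steps.fwd (nat_lit 786432) Steps.nil)))))))) (nat_lit 70) (nat_lit 2),
  Rule.mk (nat_lit 1) (nat_lit 154) (Steps.bwd (nat_lit 5) (Steps.bwd (nat_lit 3) (Steps.bwd (nat_lit 1) (Steps.fwd (nat_lit 524288) (Steps.bwd (nat_lit 5) (Steps.fwd (nat_lit 262144) (Steps.fwd (nat_lit 524288) Steps.nil))))))) (nat_lit 71) (nat_lit 0),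
  Rule.mk (nat_lit 1) (nat_lit 154) (Steps.bwd (nat_lit 3) (Steps.fwd (nat_lit 1835008) (Steps.bwd (nat_lit 1) (Steps.bwd (nat_lit 3) (Steps.bwd (nat_lit 1) (Steps.fwd (nat_lit 1835008) (Steps.bwd (nat_lit 3) Steps.nil))))))) (nat_lit 73) (nat_lit 3),
  Rule.mk (nat_lit 1) (nat_lit 154) (Steps.bwd (nat_lit 7) (Steps.bwd (nat_lit 3) (Steps.bwd (nat_lit 1) (Steps.fwd (nat_lit 524288) (Steps.fwd (nat_lit 1835008) (Steps.bwd (nat_lit 1) (Steps.bwd (nat_lit 3) Steps.nil))))))) (nat_lit 73) (nat_lit 0),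
  Rule.mk (nat_lit 4) (nat_lit 154) (Steps.bwd (nat_lit 1) (Steps.bwd (nat_lit 4) (Steps.fwd (nat_lit 1835008) (Steps.bwd (nat_lit 1) (Steps.bwd (nat_lit 4) (Steps.fwd (nat_lit 262144) (Steps.bwd (nat_lit 7) Steps.nil))))))) (nat_lit 76) (nat_lit 5),
  Rule.mk (nat_lit 1) (nat_lit 274) (Steps.fwd (nat_lit 1572864) (Steps.bwd (nat_lit 5) (Steps.fwd (nat_lit 786432) (Steps.fwd (nat_lit 262144) (Steps.fwd (nat_lit 1572864) (Steps.bwd (nat_lit 1) (Steps.fwd (nat_lit 786432) (Steps.bwd (nat_lit 1) (Steps.fwd (nat_lit 1572864) (Steps.fwd (nat_lit 262144) (Steps.fwd (nat_lit 786432) (Steps.bwd (nat_lit 1) (Steps.bwd (nat_lit 6) Steps.nil))))))))))))) (nat_lit 34) (nat_lit 12),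
  Rule.mk (nat_lit 1) (nat_lit 154) (Steps.bwd (nat_lit 4) (Steps.bwd (nat_lit 7) (Steps.fwd (nat_lit 262144) (Steps.bwd (nat_lit 4) (Steps.fwd (nat_lit 262144) (Steps.fwd (nat_lit 1835008) (Steps.fwd (nat_lit 1048576) Steps.nil))))))) (nat_lit 76) (nat_lit 6),
  Rule.mk (nat_lit 7) (nat_lit 114) (Steps.fwd (nat_lit 262144) (Steps.bwd (nat_lit 5) (Steps.bwd (nat_lit 7) (Steps.bwd (nat_lit 1) (Steps.bwd (nat_lit 5) Steps.nil))))) (nat_lit 52) (nat_lit 0),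
  Rule.mk (nat_lit 0) (nat_lit 174) (Steps.bwd (nat_lit 1) (Steps.fwd (nat_lit 1310720) (Steps.bwd (nat_lit 3) (Steps.fwd (nat_lit 262144) (Steps.bwd (nat_lit 3) (Steps.bwd (nat_lit 5) (Steps.bwd (nat_lit 1) (Steps.fwd (nat_lit 524288) Steps.nil)))))))) (nat_lit 71) (nat_lit 7),
  Rule.mk (nat_lit 1) (nat_lit 274) (Steps.fwd (nat_lit 1572864) (Steps.fwd (nat_lit 262144) (Steps.fwd (nat_lit 524288) (Steps.bwd (nat_lit 5) (Steps.fwd (nat_lit 1572864) (Steps.bwd (nat_lit 1) (Steps.fwd (nat_lit 1572864) (Steps.bwd (nat_lit 1) (Steps.bwd (nat_lit 3) (Steps.bwd (nat_lit 1) (Steps.bwd (nat_lit 6) (Steps.bwd (nat_lit 1) (Steps.bwd (nat_lit 3) Steps.nil))))))))))))) (nat_lit 35) (nat_lit 11),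
  Rule.mk (nat_lit 3) (nat_lit 114) (Steps.bwd (nat_lit 4) (Steps.bwd (nat_lit 6) (Steps.fwd (nat_lit 524288) (Steps.bwd (nat_lit 4) (Steps.bwd (nat_lit 5) Steps.nil))))) (nat_lit 59) (nat_lit 0),
  Rule.mk (nat_lit 0) (nat_lit 334) (Steps.bwd (nat_lit 4) (Steps.bwd (nat_lit 9) (Steps.bwd (nat_lit 4) (Steps.bwd (nat_lit 8) (Steps.bwd (nat_lit 4) (Steps.bwd (nat_lit 9) (Steps.bwd (nat_lit 4) (Steps.fwd (nat_lit 2359296) (Steps.fwd (nat_lit 1048576) (Steps.bwd (nat_lit 9) (Steps.bwd (nat_lit 4) (Steps.fwd (nat_lit 2359296) (Steps.fwd (nat_lit 1048576) (Steps.fwd (nat_lit 2097152) (Steps.bwd (nat_lit 4) (Steps.fwd (nat_lit 2359296) Steps.nil)))))))))))))))) (nat_lit 106) (nat_lit 1),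
  Rule.mk (nat_lit 9) (nat_lit 314) (Steps.bwd (nat_lit 4) (Steps.bwd (nat_lit 8) (Steps.bwd (nat_lit 4) (Steps.bwd (nat_lit 9) (Steps.fwd (nat_lit 1048576) (Steps.bwd (nat_lit 8) (Steps.fwd (nat_lit 1048576) (Steps.bwd (nat_lit 9) (Steps.bwd (nat_lit 4) (Steps.bwd (nat_lit 8) (Steps.fwd (nat_lit 1048576) (Steps.bwd (nat_lit 9) (Steps.fwd (nat_lit 1048576) (Steps.fwd (nat_lit 2359296) (Steps.bwd (nat_lit 4) Steps.nil))))))))))))))) (nat_lit 106) (nat_lit 3),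
  Rule.mk (nat_lit 0) (nat_lit 134) (Steps.fwd (nat_lit 786432) (Steps.bwd (nat_lit 4) (Steps.bwd (nat_lit 6) (Steps.bwd (nat_lit 2) (Steps.bwd (nat_lit 4) (Steps.bwd (nat_lit 5) Steps.nil)))))) (nat_lit 54) (nat_lit 3),
  Rule.mk (nat_lit 0) (nat_lit 134) (Steps.bwd (nat_lit 1) (Steps.bwd (nat_lit 3) (Steps.bwd (nat_lit 9) (Steps.fwd (nat_lit 262144) (Steps.bwd (nat_lit 8) (Steps.fwd (nat_lit 786432) Steps.nil)))))) (nat_lit 104) (nat_lit 2),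
  Rule.mk (nat_lit 0) (nat_lit 94) (Steps.fwd (nat_lit 1572864) (Steps.fwd (nat_lit 1048576) (Steps.fwd (nat_lit 1310720) (Steps.fwd (nat_lit 1048576) Steps.nil)))) (nat_lit 22) (nat_lit 3),
  Rule.mk (nat_lit 0) (nat_lit 94) (Steps.bwd (nat_lit 7) (Steps.fwd (nat_lit 1048576) (Steps.fwd (nat_lit 1835008) (Steps.fwd (nat_lit 1048576) Steps.nil)))) (nat_lit 30) (nat_lit 0),
  Rule.mk (nat_lit 4) (nat_lit 154) (Steps.fwd (nat_lit 1835008) (Steps.fwd (nat_lit 786432) (Steps.bwd (nat_lit 5) (Steps.bwd (nat_lit 4) (Steps.bwd (nat_lit 7) (Steps.bwd (nat_lit 2) (Steps.fwd (nat_lit 1572864) Steps.nil))))))) (nat_lit 86) (nat_lit 7),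
  Rule.mk (nat_lit 0) (nat_lit 174) (Steps.bwd (nat_lit 7) (Steps.bwd (nat_lit 4) (Steps.fwd (nat_lit 786432) (Steps.fwd (nat_lit 1310720) (Steps.bwd (nat_lit 7) (Steps.bwd (nat_lit 4) (Steps.fwd (nat_lit 786432) (Steps.bwd (nat_lit 6) Steps.nil)))))))) (nat_lit 88) (nat_lit 6),
  Rule.mk (nat_lit 4) (nat_lit 114) (Steps.fwd (nat_lit 1835008) (Steps.bwd (nat_lit 3) (Steps.fwd (nat_lit 1048576) (Steps.bwd (nat_lit 7) (Steps.fwd (nat_lit 524288) Steps.nil))))) (nat_lit 65) (nat_lit 1),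
  Rule.mk (nat_lit 2) (nat_lit 114) (Steps.fwd (nat_lit 1835008) (Steps.bwd (nat_lit 4) (Steps.bwd (nat_lit 2) (Steps.bwd (nat_lit 7) (Steps.bwd (nat_lit 4) Steps.nil))))) (nat_lit 64) (nat_lit 1),
  Rule.mk (nat_lit 9) (nat_lit 314) (Steps.fwd (nat_lit 1048576) (Steps.fwd (nat_lit 2359296) (Steps.bwd (nat_lit 4) (Steps.bwd (nat_lit 9) (Steps.fwd (nat_lit 1048576) (Steps.fwd (nat_lit 2359296) (Steps.bwd (nat_lit 4) (Steps.bwd (nat_lit 9) (Steps.fwd (nat_lit 1048576) (Steps.fwd (nat_lit 2359296) (Steps.fwd (nat_lit 1048576) (Steps.fwd (nat_lit 2097152) (Steps.fwd (nat_lit 1048576) (Steps.bwd (nat_lit 8) (Steps.bwd (nat_lit 4) Steps.nil))))))))))))))) (nat_lit 106) (nat_lit 3),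
  Rule.mk (nat_lit 0) (nat_lit 94) (Steps.bwd (nat_lit 7) (Steps.fwd (nat_lit 262144) (Steps.fwd (nat_lit 1835008) (Steps.fwd (nat_lit 262144) Steps.nil)))) (nat_lit 26) (nat_lit 0),
  Rule.mk (nat_lit 1) (nat_lit 114) (Steps.bwd (nat_lit 3) (Steps.bwd (nat_lit 9) (Steps.bwd (nat_lit 1) (Steps.bwd (nat_lit 8) (Steps.bwd (nat_lit 2) Steps.nil))))) (nat_lit 104) (nat_lit 3),
  Rule.mk (nat_lit 1) (nat_lit 154) (Steps.bwd (nat_lit 2) (Steps.bwd (nat_lit 1) (Steps.bwd (nat_lit 3) (Steps.bwd (nat_lit 1) (Steps.fwd (nat_lit 786432) (Steps.fwd (nat_lit 262144) (Steps.bwd (nat_lit 3) Steps.nil))))))) (nat_lit 68) (nat_lit 1),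
  Rule.mk (nat_lit 0) (nat_lit 174) (Steps.bwd (nat_lit 1) (Steps.bwd (nat_lit 3) (Steps.bwd (nat_lit 5) (Steps.bwd (nat_lit 1) (Steps.bwd (nat_lit 3) (Steps.bwd (nat_lit 1) (Steps.bwd (nat_lit 5) (Steps.bwd (nat_lit 3) Steps.nil)))))))) (nat_lit 71) (nat_lit 2),
  Rule.mk (nat_lit 3) (nat_lit 154) (Steps.bwd (nat_lit 1) (Steps.bwd (nat_lit 3) (Steps.fwd (nat_lit 1835008) (Steps.bwd (nat_lit 1) (Steps.bwd (nat_lit 3) (Steps.bwd (nat_lit 1) (Steps.bwd (nat_lit 7) Steps.nil))))))) (nat_lit 73) (nat_lit 2),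
  Rule.mk (nat_lit 1) (nat_lit 154) (Steps.fwd (nat_lit 524288) (Steps.bwd (nat_lit 7) (Steps.bwd (nat_lit 1) (Steps.bwd (nat_lit 3) (Steps.bwd (nat_lit 1) (Steps.bwd (nat_lit 7) (Steps.bwd (nat_lit 3) Steps.nil))))))) (nat_lit 73) (nat_lit 3),
  Rule.mk (nat_lit 0) (nat_lit 294) (Steps.bwd (nat_lit 1) (Steps.bwd (nat_lit 6) (Steps.fwd (nat_lit 1310720) (Steps.fwd (nat_lit 786432) (Steps.bwd (nat_lit 1) (Steps.bwd (nat_lit 6) (Steps.fwd (nat_lit 262144) (Steps.bwd (nat_lit 2) (Steps.bwd (nat_lit 1) (Steps.bwd (nat_lit 6) (Steps.bwd (nat_lit 1) (Steps.bwd (nat_lit 2) (Steps.bwd (nat_lit 1) (Steps.bwd (nat_lit 6) Steps.nil)))))))))))))) (nat_lit 34) (nat_lit 11),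
  Rule.mk (nat_lit 0) (nat_lit 134) (Steps.bwd (nat_lit 1) (Steps.fwd (nat_lit 1310720) (Steps.fwd (nat_lit 1835008) (Steps.bwd (nat_lit 1) (Steps.bwd (nat_lit 5) (Steps.fwd (nat_lit 1835008) Steps.nil)))))) (nat_lit 52) (nat_lit 0),
  Rule.mk (nat_lit 0) (nat_lit 134) (Steps.fwd (nat_lit 786432) (Steps.bwd (nat_lit 1) (Steps.fwd (nat_lit 786432) (Steps.bwd (nat_lit 1) (Steps.fwd (nat_lit 786432) (Steps.fwd (nat_lit 262144) Steps.nil)))))) (nat_lit 12) (nat_lit 1),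
  Rule.mk (nat_lit 1) (nat_lit 274) (Steps.fwd (nat_lit 1572864) (Steps.fwd (nat_lit 262144) (Steps.fwd (nat_lit 524288) (Steps.fwd (nat_lit 1310720) (Steps.fwd (nat_lit 1572864) (Steps.fwd (nat_lit 262144) (Steps.bwd (nat_lit 6) (Steps.fwd (nat_lit 262144) (Steps.bwd (nat_lit 3) (Steps.bwd (nat_lit 1) (Steps.bwd (nat_lit 6) (Steps.bwd (nat_lit 1) (Steps.bwd (nat_lit 3) Steps.nil))))))))))))) (nat_lit 35) (nat_lit 11),
  Rule.mk (nat_lit 2) (nat_lit 114) (Steps.fwd (nat_lit 1310720) (Steps.bwd (nat_lit 7) (Steps.bwd (nat_lit 3) (Steps.bwd (nat_lit 5) (Steps.fwd (nat_lit 1835008) Steps.nil))))) (nat_lit 60) (nat_lit 1),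
  Rule.mk (nat_lit 7) (nat_lit 154) (Steps.bwd (nat_lit 3) (Steps.bwd (nat_lit 5) (Steps.bwd (nat_lit 3) (Steps.fwd (nat_lit 1572864) (Steps.fwd (nat_lit 1310720) (Steps.fwd (nat_lit 524288) (Steps.fwd (nat_lit 1572864) Steps.nil))))))) (nat_lit 85) (nat_lit 5),
  Rule.mk (nat_lit 3) (nat_lit 154) (Steps.fwd (nat_lit 1572864) (Steps.fwd (nat_lit 1310720) (Steps.bwd (nat_lit 3) (Steps.fwd (nat_lit 1572864) (Steps.bwd (nat_lit 7) (Steps.bwd (nat_lit 3) (Steps.bwd (nat_lit 5) Steps.nil))))))) (nat_lit 85) (nat_lit 0),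
  Rule.mk (nat_lit 0) (nat_lit 174) (Steps.bwd (nat_lit 1) (Steps.bwd (nat_lit 3) (Steps.fwd (nat_lit 1310720) (Steps.fwd (nat_lit 262144) (Steps.bwd (nat_lit 3) (Steps.bwd (nat_lit 1) (Steps.bwd (nat_lit 5) (Steps.bwd (nat_lit 3) Steps.nil)))))))) (nat_lit 71) (nat_lit 2),
  Rule.mk (nat_lit 1) (nat_lit 154) (Steps.bwd (nat_lit 3) (Steps.fwd (nat_lit 262144) (Steps.bwd (nat_lit 5) (Steps.fwd (nat_lit 524288) (Steps.fwd (nat_lit 262144) (Steps.bwd (nat_lit 3) (Steps.bwd (nat_lit 5) Steps.nil))))))) (nat_lit 71) (nat_lit 6),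
  Rule.mk (nat_lit 0) (nat_lit 174) (Steps.bwd (nat_lit 1) (Steps.bwd (nat_lit 3) (Steps.fwd (nat_lit 1835008) (Steps.fwd (nat_lit 262144) (Steps.bwd (nat_lit 3) (Steps.bwd (nat_lit 1) (Steps.fwd (nat_lit 1835008) (Steps.bwd (nat_lit 3) Steps.nil)))))))) (nat_lit 73) (nat_lit 2),
  Rule.mk (nat_lit 1) (nat_lit 154) (Steps.bwd (nat_lit 3) (Steps.fwd (nat_lit 262144) (Steps.fwd (nat_lit 1835008) (Steps.fwd (nat_lit 524288) (Steps.fwd (nat_lit 262144) (Steps.bwd (nat_lit 3) (Steps.fwd (nat_lit 1835008) Steps.nil))))))) (nat_lit 73) (nat_lit 6),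
  Rule.mk (nat_lit 8) (nat_lit 114) (Steps.bwd (nat_lit 2) (Steps.bwd (nat_lit 1) (Steps.bwd (nat_lit 3) (Steps.fwd (nat_lit 2097152) (Steps.bwd (nat_lit 1) Steps.nil))))) (nat_lit 104) (nat_lit 1),
  Rule.mk (nat_lit 1) (nat_lit 154) (Steps.fwd (nat_lit 786432) (Steps.fwd (nat_lit 1835008) (Steps.bwd (nat_lit 1) (Steps.fwd (nat_lit 786432) (Steps.bwd (nat_lit 1) (Steps.fwd (nat_lit 1835008) (Steps.bwd (nat_lit 2) Steps.nil))))))) (nat_lit 72) (nat_lit 6),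
  Rule.mk (nat_lit 0) (nat_lit 294) (Steps.bwd (nat_lit 6) (Steps.bwd (nat_lit 1) (Steps.bwd (nat_lit 3) (Steps.fwd (nat_lit 1310720) (Steps.bwd (nat_lit 6) (Steps.fwd (nat_lit 262144) (Steps.fwd (nat_lit 1572864) (Steps.bwd (nat_lit 1) (Steps.bwd (nat_lit 3) (Steps.fwd (nat_lit 262144) (Steps.bwd (nat_lit 6) (Steps.bwd (nat_lit 1) (Steps.bwd (nat_lit 3) (Steps.fwd (nat_lit 262144) Steps.nil)))))))))))))) (nat_lit 35) (nat_lit 11),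
  Rule.mk (nat_lit 3) (nat_lit 154) (Steps.fwd (nat_lit 1835008) (Steps.fwd (nat_lit 262144) (Steps.fwd (nat_lit 524288) (Steps.fwd (nat_lit 262144) (Steps.bwd (nat_lit 7) (Steps.bwd (nat_lit 3) (Steps.fwd (nat_lit 262144) Steps.nil))))))) (nat_lit 73) (nat_lit 4),
  Rule.mk (nat_lit 1) (nat_lit 154) (Steps.fwd (nat_lit 524288) (Steps.fwd (nat_lit 262144) (Steps.bwd (nat_lit 5) (Steps.bwd (nat_lit 3) (Steps.fwd (nat_lit 262144) (Steps.bwd (nat_lit 3) (Steps.bwd (nat_lit 5) Steps.nil))))))) (nat_lit 71) (nat_lit 6),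
  Rule.mk (nat_lit 0) (nat_lit 294) (Steps.bwd (nat_lit 1) (Steps.bwd (nat_lit 3) (Steps.fwd (nat_lit 1310720) (Steps.bwd (nat_lit 6) (Steps.fwd (nat_lit 262144) (Steps.fwd (nat_lit 1572864) (Steps.fwd (nat_lit 262144) (Steps.fwd (nat_lit 524288) (Steps.bwd (nat_lit 1) (Steps.fwd (nat_lit 1572864) (Steps.fwd (nat_lit 262144) (Steps.bwd (nat_lit 3) (Steps.fwd (nat_lit 262144) (Steps.bwd (nat_lit 6) Steps.nil)))))))))))))) (nat_lit 35) (nat_lit 12),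
  Rule.mk (nat_lit 4) (nat_lit 154) (Steps.fwd (nat_lit 262144) (Steps.bwd (nat_lit 6) (Steps.fwd (nat_lit 262144) (Steps.bwd (nat_lit 4) (Steps.fwd (nat_lit 262144) (Steps.fwd (nat_lit 1572864) (Steps.fwd (nat_lit 262144) Steps.nil))))))) (nat_lit 74) (nat_lit 2),
  Rule.mk (nat_lit 2) (nat_lit 114) (Steps.bwd (nat_lit 6) (Steps.bwd (nat_lit 4) (Steps.fwd (nat_lit 786432) (Steps.fwd (nat_lit 1310720) (Steps.fwd (nat_lit 1048576) Steps.nil))))) (nat_lit 58) (nat_lit 4),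
  Rule.mk (nat_lit 6) (nat_lit 114) (Steps.bwd (nat_lit 4) (Steps.bwd (nat_lit 2) (Steps.bwd (nat_lit 5) (Steps.bwd (nat_lit 4) (Steps.fwd (nat_lit 786432) Steps.nil))))) (nat_lit 58) (nat_lit 5),
  Rule.mk (nat_lit 4) (nat_lit 154) (Steps.bwd (nat_lit 3) (Steps.fwd (nat_lit 1835008) (Steps.bwd (nat_lit 5) (Steps.bwd (nat_lit 4) (Steps.fwd (nat_lit 524288) (Steps.fwd (nat_lit 1835008) (Steps.bwd (nat_lit 6) Steps.nil))))))) (nat_lit 79) (nat_lit 3),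
  Rule.mk (nat_lit 0) (nat_lit 174) (Steps.bwd (nat_lit 4) (Steps.fwd (nat_lit 1835008) (Steps.bwd (nat_lit 2) (Steps.bwd (nat_lit 5) (Steps.bwd (nat_lit 4) (Steps.fwd (nat_lit 1835008) (Steps.fwd (nat_lit 786432) (Steps.bwd (nat_lit 6) Steps.nil)))))))) (nat_lit 86) (nat_lit 6),
  Rule.mk (nat_lit 4) (nat_lit 154) (Steps.bwd (nat_lit 2) (Steps.fwd (nat_lit 1572864) (Steps.bwd (nat_lit 7) (Steps.bwd (nat_lit 4) (Steps.fwd (nat_lit 786432) (Steps.fwd (nat_lit 1310720) (Steps.bwd (nat_lit 7) Steps.nil))))))) (nat_lit 88) (nat_lit 4),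
  Rule.mk (nat_lit 6) (nat_lit 154) (Steps.bwd (nat_lit 2) (Steps.bwd (nat_lit 7) (Steps.bwd (nat_lit 4) (Steps.fwd (nat_lit 1310720) (Steps.fwd (nat_lit 786432) (Steps.bwd (nat_lit 7) (Steps.bwd (nat_lit 4) Steps.nil))))))) (nat_lit 90) (nat_lit 0),
  Rule.mk (nat_lit 7) (nat_lit 154) (Steps.fwd (nat_lit 1048576) (Steps.bwd (nat_lit 3) (Steps.fwd (nat_lit 1310720) (Steps.bwd (nat_lit 7) (Steps.fwd (nat_lit 1048576) (Steps.fwd (nat_lit 524288) (Steps.fwd (nat_lit 1572864) Steps.nil))))))) (nat_lit 81) (nat_lit 2),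
  Rule.mk (nat_lit 3) (nat_lit 114) (Steps.bwd (nat_lit 5) (Steps.bwd (nat_lit 7) (Steps.bwd (nat_lit 2) (Steps.fwd (nat_lit 1310720) (Steps.fwd (nat_lit 1835008) Steps.nil))))) (nat_lit 60) (nat_lit 4),
  Rule.mk (nat_lit 0) (nat_lit 174) (Steps.bwd (nat_lit 4) (Steps.bwd (nat_lit 1) (Steps.fwd (nat_lit 1835008) (Steps.bwd (nat_lit 4) (Steps.fwd (nat_lit 262144) (Steps.fwd (nat_lit 1048576) (Steps.bwd (nat_lit 7) (Steps.bwd (nat_lit 1) Steps.nil)))))))) (nat_lit 76) (nat_lit 1),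
  Rule.mk (nat_lit 3) (nat_lit 154) (Steps.bwd (nat_lit 5) (Steps.fwd (nat_lit 524288) (Steps.bwd (nat_lit 7) (Steps.bwd (nat_lit 6) (Steps.fwd (nat_lit 524288) (Steps.bwd (nat_lit 5) (Steps.bwd (nat_lit 6) Steps.nil))))))) (nat_lit 83) (nat_lit 6),
  Rule.mk (nat_lit 4) (nat_lit 154) (Steps.fwd (nat_lit 786432) (Steps.bwd (nat_lit 5) (Steps.bwd (nat_lit 7) (Steps.fwd (nat_lit 1048576) (Steps.fwd (nat_lit 786432) (Steps.bwd (nat_lit 6) (Steps.fwd (nat_lit 1835008) Steps.nil))))))) (nat_lit 88) (nat_lit 0),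
  Rule.mk (nat_lit 4) (nat_lit 154) (Steps.fwd (nat_lit 1835008) (Steps.fwd (nat_lit 1572864) (Steps.fwd (nat_lit 524288) (Steps.fwd (nat_lit 1048576) (Steps.bwd (nat_lit 7) (Steps.fwd (nat_lit 1310720) (Steps.fwd (nat_lit 524288) Steps.nil))))))) (nat_lit 89) (nat_lit 1),
  Rule.mk (nat_lit 4) (nat_lit 154) (Steps.bwd (nat_lit 5) (Steps.bwd (nat_lit 7) (Steps.bwd (nat_lit 3) (Steps.fwd (nat_lit 1048576) (Steps.bwd (nat_lit 6) (Steps.fwd (nat_lit 1835008) (Steps.bwd (nat_lit 3) Steps.nil))))))) (nat_lit 93) (nat_lit 5),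
  Rule.mk (nat_lit 1) (nat_lit 154) (Steps.bwd (nat_lit 4) (Steps.bwd (nat_lit 1) (Steps.bwd (nat_lit 7) (Steps.bwd (nat_lit 4) (Steps.bwd (nat_lit 1) (Steps.bwd (nat_lit 4) (Steps.bwd (nat_lit 7) Steps.nil))))))) (nat_lit 76) (nat_lit 1),
  Rule.mk (nat_lit 3) (nat_lit 154) (Steps.bwd (nat_lit 7) (Steps.fwd (nat_lit 1310720) (Steps.bwd (nat_lit 4) (Steps.bwd (nat_lit 3) (Steps.fwd (nat_lit 1835008) (Steps.bwd (nat_lit 6) (Steps.fwd (nat_lit 1048576) Steps.nil))))))) (nat_lit 79) (nat_lit 4),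
  Rule.mk (nat_lit 4) (nat_lit 314) (Steps.bwd (nat_lit 9) (Steps.bwd (nat_lit 4) (Steps.fwd (nat_lit 2359296) (Steps.fwd (nat_lit 1048576) (Steps.bwd (nat_lit 9) (Steps.fwd (nat_lit 1048576) (Steps.bwd (nat_lit 8) (Steps.bwd (nat_lit 4) (Steps.fwd (nat_lit 2097152) (Steps.fwd (nat_lit 1048576) (Steps.fwd (nat_lit 2359296) (Steps.fwd (nat_lit 1048576) (Steps.fwd (nat_lit 2097152) (Steps.bwd (nat_lit 4) (Steps.fwd (nat_lit 2359296) Steps.nil))))))))))))))) (nat_lit 106) (nat_lit 2),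
  Rule.mk (nat_lit 4) (nat_lit 154) (Steps.bwd (nat_lit 7) (Steps.fwd (nat_lit 262144) (Steps.fwd (nat_lit 1048576) (Steps.fwd (nat_lit 262144) (Steps.fwd (nat_lit 1835008) (Steps.fwd (nat_lit 1048576) (Steps.fwd (nat_lit 262144) Steps.nil))))))) (nat_lit 76) (nat_lit 7),
  Rule.mk (nat_lit 4) (nat_lit 114) (Steps.fwd (nat_lit 1572864) (Steps.fwd (nat_lit 786432) (Steps.bwd (nat_lit 4) (Steps.fwd (nat_lit 1310720) (Steps.bwd (nat_lit 2) Steps.nil))))) (nat_lit 54) (nat_lit 5)]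
noncomputable def R_76 : List (Rule) := [Rule.mk (nat_lit 4) (nat_lit 154) (Steps.bwd (nat_lit 1) (Steps.bwd (nat_lit 7) (Steps.bwd (nat_lit 4) (Steps.bwd (nat_lit 1) (Steps.bwd (nat_lit 4) (Steps.bwd (nat_lit 7) (Steps.fwd (nat_lit 262144) Steps.nil))))))) (nat_lit 76) (nat_lit 2),
  Rule.mk (nat_lit 7) (nat_lit 154) (Steps.fwd (nat_lit 262144) (Steps.bwd (nat_lit 4) (Steps.bwd (nat_lit 1) (Steps.bwd (nat_lit 7) (Steps.fwd (nat_lit 1048576) (Steps.fwd (nat_lit 262144) (Steps.bwd (nat_lit 4) Steps.nil))))))) (nat_lit 76) (nat_lit 0),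
  Rule.mk (nat_lit 4) (nat_lit 154) (Steps.fwd (nat_lit 1572864) (Steps.bwd (nat_lit 7) (Steps.fwd (nat_lit 786432) (Steps.bwd (nat_lit 4) (Steps.fwd (nat_lit 1310720) (Steps.bwd (nat_lit 7) (Steps.bwd (nat_lit 2) Steps.nil))))))) (nat_lit 78) (nat_lit 6),
  Rule.mk (nat_lit 0) (nat_lit 334) (Steps.bwd (nat_lit 4) (Steps.bwd (nat_lit 8) (Steps.bwd (nat_lit 4) (Steps.fwd (nat_lit 2097152) (Steps.fwd (nat_lit 1048576) (Steps.bwd (nat_lit 8) (Steps.fwd (nat_lit 1048576) (Steps.bwd (nat_lit 9) (Steps.bwd (nat_lit 4) (Steps.bwd (nat_lit 8) (Steps.bwd (nat_lit 4) (Steps.bwd (nat_lit 9) (Steps.bwd (nat_lit 4) (Steps.fwd (nat_lit 2359296) (Steps.fwd (nat_lit 1048576) (Steps.fwd (nat_lit 2097152) Steps.nil)))))))))))))))) (nat_lit 106) (nat_lit 3),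
  Rule.mk (nat_lit 0) (nat_lit 94) (Steps.bwd (nat_lit 4) (Steps.fwd (nat_lit 524288) (Steps.fwd (nat_lit 1048576) (Steps.bwd (nat_lit 3) Steps.nil)))) (nat_lit 15) (nat_lit 1),
  Rule.mk (nat_lit 0) (nat_lit 134) (Steps.bwd (nat_lit 4) (Steps.bwd (nat_lit 7) (Steps.fwd (nat_lit 1572864) (Steps.fwd (nat_lit 1048576) (Steps.bwd (nat_lit 7) (Steps.bwd (nat_lit 5) Steps.nil)))))) (nat_lit 67) (nat_lit 5),
  Rule.mk (nat_lit 0) (nat_lit 174) (Steps.bwd (nat_lit 4) (Steps.bwd (nat_lit 5) (Steps.fwd (nat_lit 1835008) (Steps.bwd (nat_lit 2) (Steps.bwd (nat_lit 4) (Steps.bwd (nat_lit 6) (Steps.fwd (nat_lit 1835008) (Steps.fwd (nat_lit 786432) Steps.nil)))))))) (nat_lit 78) (nat_lit 1),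
  Rule.mk (nat_lit 7) (nat_lit 154) (Steps.bwd (nat_lit 1) (Steps.fwd (nat_lit 1048576) (Steps.fwd (nat_lit 262144) (Steps.fwd (nat_lit 1835008) (Steps.bwd (nat_lit 4) (Steps.fwd (nat_lit 262144) (Steps.bwd (nat_lit 4) Steps.nil))))))) (nat_lit 76) (nat_lit 0),
  Rule.mk (nat_lit 3) (nat_lit 114) (Steps.bwd (nat_lit 7) (Steps.bwd (nat_lit 4) (Steps.bwd (nat_lit 3) (Steps.fwd (nat_lit 1835008) (Steps.fwd (nat_lit 1048576) Steps.nil))))) (nat_lit 57) (nat_lit 0),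
  Rule.mk (nat_lit 2) (nat_lit 114) (Steps.bwd (nat_lit 7) (Steps.fwd (nat_lit 1310720) (Steps.bwd (nat_lit 3) (Steps.bwd (nat_lit 7) (Steps.fwd (nat_lit 1310720) Steps.nil))))) (nat_lit 61) (nat_lit 3),
  Rule.mk (nat_lit 7) (nat_lit 154) (Steps.bwd (nat_lit 3) (Steps.bwd (nat_lit 1) (Steps.bwd (nat_lit 3) (Steps.bwd (nat_lit 7) (Steps.bwd (nat_lit 1) (Steps.bwd (nat_lit 3) (Steps.fwd (nat_lit 262144) Steps.nil))))))) (nat_lit 73) (nat_lit 1),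
  Rule.mk (nat_lit 2) (nat_lit 154) (Steps.fwd (nat_lit 1310720) (Steps.bwd (nat_lit 7) (Steps.bwd (nat_lit 4) (Steps.bwd (nat_lit 2) (Steps.bwd (nat_lit 6) (Steps.bwd (nat_lit 7) (Steps.fwd (nat_lit 1048576) Steps.nil))))))) (nat_lit 88) (nat_lit 1),
  Rule.mk (nat_lit 3) (nat_lit 154) (Steps.bwd (nat_lit 4) (Steps.bwd (nat_lit 7) (Steps.fwd (nat_lit 1572864) (Steps.bwd (nat_lit 3) (Steps.bwd (nat_lit 4) (Steps.bwd (nat_lit 7) (Steps.fwd (nat_lit 1310720) Steps.nil))))))) (nat_lit 89) (nat_lit 0),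
  Rule.mk (nat_lit 0) (nat_lit 174) (Steps.bwd (nat_lit 1) (Steps.fwd (nat_lit 524288) (Steps.fwd (nat_lit 1835008) (Steps.fwd (nat_lit 262144) (Steps.bwd (nat_lit 3) (Steps.bwd (nat_lit 1) (Steps.fwd (nat_lit 1835008) (Steps.fwd (nat_lit 524288) Steps.nil)))))))) (nat_lit 73) (nat_lit 2),
  Rule.mk (nat_lit 3) (nat_lit 154) (Steps.fwd (nat_lit 1310720) (Steps.bwd (nat_lit 1) (Steps.bwd (nat_lit 3) (Steps.fwd (nat_lit 262144) (Steps.bwd (nat_lit 5) (Steps.fwd (nat_lit 524288) (Steps.bwd (nat_lit 1) Steps.nil))))))) (nat_lit 71) (nat_lit 4),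
  Rule.mk (nat_lit 4) (nat_lit 114) (Steps.bwd (nat_lit 3) (Steps.bwd (nat_lit 6) (Steps.fwd (nat_lit 1048576) (Steps.bwd (nat_lit 3) (Steps.fwd (nat_lit 1310720) Steps.nil))))) (nat_lit 55) (nat_lit 5),
  Rule.mk (nat_lit 0) (nat_lit 134) (Steps.bwd (nat_lit 5) (Steps.fwd (nat_lit 786432) (Steps.bwd (nat_lit 7) (Steps.fwd (nat_lit 1310720) (Steps.fwd (nat_lit 524288) (Steps.bwd (nat_lit 7) Steps.nil)))))) (nat_lit 61) (nat_lit 1),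
  Rule.mk (nat_lit 4) (nat_lit 154) (Steps.fwd (nat_lit 524288) (Steps.fwd (nat_lit 1835008) (Steps.fwd (nat_lit 1310720) (Steps.fwd (nat_lit 1048576) (Steps.bwd (nat_lit 3) (Steps.bwd (nat_lit 7) (Steps.bwd (nat_lit 6) Steps.nil))))))) (nat_lit 79) (nat_lit 3),
  Rule.mk (nat_lit 6) (nat_lit 154) (Steps.bwd (nat_lit 3) (Steps.bwd (nat_lit 5) (Steps.fwd (nat_lit 524288) (Steps.bwd (nat_lit 7) (Steps.bwd (nat_lit 6) (Steps.bwd (nat_lit 3) (Steps.bwd (nat_lit 5) Steps.nil))))))) (nat_lit 83) (nat_lit 5),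
  Rule.mk (nat_lit 8) (nat_lit 114) (Steps.fwd (nat_lit 786432) (Steps.bwd (nat_lit 1) (Steps.bwd (nat_lit 3) (Steps.fwd (nat_lit 2097152) (Steps.bwd (nat_lit 1) Steps.nil))))) (nat_lit 104) (nat_lit 1),
  Rule.mk (nat_lit 4) (nat_lit 154) (Steps.bwd (nat_lit 1) (Steps.bwd (nat_lit 6) (Steps.bwd (nat_lit 1) (Steps.fwd (nat_lit 1048576) (Steps.bwd (nat_lit 1) (Steps.fwd (nat_lit 1572864) (Steps.fwd (nat_lit 262144) Steps.nil))))))) (nat_lit 74) (nat_lit 2),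
  Rule.mk (nat_lit 0) (nat_lit 294) (Steps.bwd (nat_lit 5) (Steps.fwd (nat_lit 786432) (Steps.fwd (nat_lit 262144) (Steps.fwd (nat_lit 1572864) (Steps.fwd (nat_lit 262144) (Steps.fwd (nat_lit 786432) (Steps.fwd (nat_lit 262144) (Steps.bwd (nat_lit 6) (Steps.fwd (nat_lit 262144) (Steps.bwd (nat_lit 2) (Steps.fwd (nat_lit 262144) (Steps.fwd (nat_lit 1572864) (Steps.bwd (nat_lit 1) (Steps.bwd (nat_lit 6) Steps.nil)))))))))))))) (nat_lit 34) (nat_lit 13),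
  Rule.mk (nat_lit 1) (nat_lit 154) (Steps.bwd (nat_lit 2) (Steps.bwd (nat_lit 1) (Steps.fwd (nat_lit 1310720) (Steps.fwd (nat_lit 786432) (Steps.fwd (nat_lit 262144) (Steps.fwd (nat_lit 786432) (Steps.bwd (nat_lit 5) Steps.nil))))))) (nat_lit 70) (nat_lit 1),
  Rule.mk (nat_lit 1) (nat_lit 274) (Steps.fwd (nat_lit 1572864) (Steps.bwd (nat_lit 1) (Steps.fwd (nat_lit 1572864) (Steps.bwd (nat_lit 5) (Steps.bwd (nat_lit 2) (Steps.fwd (nat_lit 262144) (Steps.bwd (nat_lit 6) (Steps.bwd (nat_lit 1) (Steps.bwd (nat_lit 2) (Steps.bwd (nat_lit 1) (Steps.fwd (nat_lit 1572864) (Steps.fwd (nat_lit 262144) (Steps.fwd (nat_lit 786432) Steps.nil))))))))))))) (nat_lit 34) (nat_lit 10),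
  Rule.mk (nat_lit 0) (nat_lit 174) (Steps.fwd (nat_lit 786432) (Steps.fwd (nat_lit 262144) (Steps.bwd (nat_lit 3) (Steps.fwd (nat_lit 262144) (Steps.fwd (nat_lit 786432) (Steps.bwd (nat_lit 1) (Steps.fwd (nat_lit 524288) (Steps.fwd (nat_lit 262144) Steps.nil)))))))) (nat_lit 68) (nat_lit 1),
  Rule.mk (nat_lit 2) (nat_lit 154) (Steps.fwd (nat_lit 262144) (Steps.fwd (nat_lit 786432) (Steps.fwd (nat_lit 1835008) (Steps.bwd (nat_lit 1) (Steps.fwd (nat_lit 786432) (Steps.bwd (nat_lit 1) (Steps.bwd (nat_lit 7) Steps.nil))))))) (nat_lit 72) (nat_lit 5),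
  Rule.mk (nat_lit 0) (nat_lit 174) (Steps.bwd (nat_lit 1) (Steps.bwd (nat_lit 4) (Steps.bwd (nat_lit 1) (Steps.bwd (nat_lit 6) (Steps.fwd (nat_lit 262144) (Steps.fwd (nat_lit 1048576) (Steps.fwd (nat_lit 262144) (Steps.bwd (nat_lit 6) Steps.nil)))))))) (nat_lit 74) (nat_lit 0),
  Rule.mk (nat_lit 1) (nat_lit 154) (Steps.bwd (nat_lit 3) (Steps.bwd (nat_lit 7) (Steps.fwd (nat_lit 262144) (Steps.bwd (nat_lit 3) (Steps.bwd (nat_lit 1) (Steps.bwd (nat_lit 7) (Steps.fwd (nat_lit 524288) Steps.nil))))))) (nat_lit 73) (nat_lit 3),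
  Rule.mk (nat_lit 2) (nat_lit 154) (Steps.fwd (nat_lit 1835008) (Steps.fwd (nat_lit 262144) (Steps.bwd (nat_lit 2) (Steps.fwd (nat_lit 262144) (Steps.fwd (nat_lit 1835008) (Steps.bwd (nat_lit 2) (Steps.bwd (nat_lit 1) Steps.nil))))))) (nat_lit 72) (nat_lit 7),
  Rule.mk (nat_lit 1) (nat_lit 154) (Steps.fwd (nat_lit 1835008) (Steps.bwd (nat_lit 2) (Steps.fwd (nat_lit 262144) (Steps.bwd (nat_lit 2) (Steps.bwd (nat_lit 7) (Steps.bwd (nat_lit 1) (Steps.bwd (nat_lit 2) Steps.nil))))))) (nat_lit 72) (nat_lit 3),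
  Rule.mk (nat_lit 4) (nat_lit 154) (Steps.bwd (nat_lit 1) (Steps.fwd (nat_lit 1048576) (Steps.fwd (nat_lit 1835008) (Steps.bwd (nat_lit 1) (Steps.fwd (nat_lit 1048576) (Steps.bwd (nat_lit 1) (Steps.bwd (nat_lit 7) Steps.nil))))))) (nat_lit 76) (nat_lit 5),
  Rule.mk (nat_lit 1) (nat_lit 274) (Steps.bwd (nat_lit 3) (Steps.bwd (nat_lit 5) (Steps.fwd (nat_lit 1572864) (Steps.bwd (nat_lit 1) (Steps.fwd (nat_lit 1572864) (Steps.bwd (nat_lit 1) (Steps.fwd (nat_lit 524288) (Steps.bwd (nat_lit 1) (Steps.bwd (nat_lit 6) (Steps.bwd (nat_lit 1) (Steps.bwd (nat_lit 3) (Steps.bwd (nat_lit 1) (Steps.bwd (nat_lit 6) Steps.nil))))))))))))) (nat_lit 35) (nat_lit 13),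
  Rule.mk (nat_lit 1) (nat_lit 274) (Steps.bwd (nat_lit 2) (Steps.bwd (nat_lit 1) (Steps.fwd (nat_lit 1572864) (Steps.fwd (nat_lit 262144) (Steps.fwd (nat_lit 786432) (Steps.bwd (nat_lit 1) (Steps.bwd (nat_lit 6) (Steps.bwd (nat_lit 1) (Steps.bwd (nat_lit 6) (Steps.fwd (nat_lit 1310720) (Steps.fwd (nat_lit 786432) (Steps.fwd (nat_lit 262144) (Steps.fwd (nat_lit 1572864) Steps.nil))))))))))))) (nat_lit 34) (nat_lit 4),
  Rule.mk (nat_lit 5) (nat_lit 274) (Steps.bwd (nat_lit 2) (Steps.bwd (nat_lit 1) (Steps.fwd (nat_lit 1572864) (Steps.fwd (nat_lit 262144) (Steps.fwd (nat_lit 786432) (Steps.bwd (nat_lit 1) (Steps.bwd (nat_lit 6) (Steps.bwd (nat_lit 1) (Steps.fwd (nat_lit 786432) (Steps.fwd (nat_lit 262144) (Steps.fwd (nat_lit 1572864) (Steps.bwd (nat_lit 1) (Steps.bwd (nat_lit 6) Steps.nil))))))))))))) (nat_lit 34) (nat_lit 0),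
  Rule.mk (nat_lit 0) (nat_lit 334) (Steps.bwd (nat_lit 9) (Steps.fwd (nat_lit 1048576) (Steps.fwd (nat_lit 2359296) (Steps.fwd (nat_lit 1048576) (Steps.bwd (nat_lit 9) (Steps.bwd (nat_lit 4) (Steps.fwd (nat_lit 2359296) (Steps.fwd (nat_lit 1048576) (Steps.bwd (nat_lit 9) (Steps.fwd (nat_lit 1048576) (Steps.bwd (nat_lit 8) (Steps.fwd (nat_lit 1048576) (Steps.bwd (nat_lit 9) (Steps.fwd (nat_lit 1048576) (Steps.fwd (nat_lit 2359296) (Steps.fwd (nat_lit 1048576) Steps.nil)))))))))))))))) (nat_lit 106) (nat_lit 2),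
  Rule.mk (nat_lit 4) (nat_lit 314) (Steps.bwd (nat_lit 9) (Steps.fwd (nat_lit 1048576) (Steps.fwd (nat_lit 2359296) (Steps.bwd (nat_lit 4) (Steps.bwd (nat_lit 9) (Steps.fwd (nat_lit 1048576) (Steps.fwd (nat_lit 2359296) (Steps.fwd (nat_lit 1048576) (Steps.fwd (nat_lit 2097152) (Steps.fwd (nat_lit 1048576) (Steps.bwd (nat_lit 8) (Steps.bwd (nat_lit 4) (Steps.bwd (nat_lit 9) (Steps.fwd (nat_lit 1048576) (Steps.fwd (nat_lit 2359296) Steps.nil))))))))))))))) (nat_lit 106) (nat_lit 2),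
  Rule.mk (nat_lit 9) (nat_lit 314) (Steps.bwd (nat_lit 4) (Steps.bwd (nat_lit 8) (Steps.bwd (nat_lit 4) (Steps.bwd (nat_lit 9) (Steps.bwd (nat_lit 4) (Steps.fwd (nat_lit 2359296) (Steps.fwd (nat_lit 1048576) (Steps.fwd (nat_lit 2097152) (Steps.fwd (nat_lit 1048576) (Steps.fwd (nat_lit 2359296) (Steps.fwd (nat_lit 1048576) (Steps.fwd (nat_lit 2097152) (Steps.fwd (nat_lit 1048576) (Steps.bwd (nat_lit 8) (Steps.bwd (nat_lit 4) Steps.nil))))))))))))))) (nat_lit 106) (nat_lit 3),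
  Rule.mk (nat_lit 4) (nat_lit 154) (Steps.fwd (nat_lit 1835008) (Steps.bwd (nat_lit 6) (Steps.bwd (nat_lit 3) (Steps.fwd (nat_lit 1048576) (Steps.bwd (nat_lit 7) (Steps.fwd (nat_lit 1310720) (Steps.fwd (nat_lit 524288) Steps.nil))))))) (nat_lit 89) (nat_lit 1),
  Rule.mk (nat_lit 4) (nat_lit 114) (Steps.bwd (nat_lit 7) (Steps.fwd (nat_lit 1572864) (Steps.bwd (nat_lit 4) (Steps.fwd (nat_lit 1835008) (Steps.bwd (nat_lit 5) Steps.nil))))) (nat_lit 67) (nat_lit 0),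
  Rule.mk (nat_lit 8) (nat_lit 114) (Steps.fwd (nat_lit 786432) (Steps.fwd (nat_lit 262144) (Steps.bwd (nat_lit 3) (Steps.bwd (nat_lit 9) (Steps.bwd (nat_lit 1) Steps.nil))))) (nat_lit 104) (nat_lit 1),
  Rule.mk (nat_lit 3) (nat_lit 274) (Steps.bwd (nat_lit 1) (Steps.fwd (nat_lit 1572864) (Steps.fwd (nat_lit 262144) (Steps.bwd (nat_lit 3) (Steps.bwd (nat_lit 5) (Steps.fwd (nat_lit 1572864) (Steps.bwd (nat_lit 1) (Steps.fwd (nat_lit 1572864) (Steps.fwd (nat_lit 262144) (Steps.bwd (nat_lit 3) (Steps.fwd (nat_lit 262144) (Steps.bwd (nat_lit 6) (Steps.bwd (nat_lit 1) Steps.nil))))))))))))) (nat_lit 35) (nat_lit 10),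
  Rule.mk (nat_lit 1) (nat_lit 114) (Steps.fwd (nat_lit 786432) (Steps.fwd (nat_lit 262144) (Steps.fwd (nat_lit 786432) (Steps.fwd (nat_lit 262144) (Steps.fwd (nat_lit 786432) Steps.nil))))) (nat_lit 12) (nat_lit 1),
  Rule.mk (nat_lit 1) (nat_lit 154) (Steps.fwd (nat_lit 524288) (Steps.fwd (nat_lit 262144) (Steps.fwd (nat_lit 786432) (Steps.fwd (nat_lit 262144) (Steps.fwd (nat_lit 524288) (Steps.fwd (nat_lit 262144) (Steps.fwd (nat_lit 786432) Steps.nil))))))) (nat_lit 68) (nat_lit 3),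
  Rule.mk (nat_lit 2) (nat_lit 114) (Steps.fwd (nat_lit 262144) (Steps.fwd (nat_lit 786432) (Steps.bwd (nat_lit 1) (Steps.bwd (nat_lit 2) (Steps.fwd (nat_lit 262144) Steps.nil))))) (nat_lit 12) (nat_lit 0),
  Rule.mk (nat_lit 2) (nat_lit 154) (Steps.fwd (nat_lit 1835008) (Steps.bwd (nat_lit 1) (Steps.bwd (nat_lit 2) (Steps.fwd (nat_lit 262144) (Steps.bwd (nat_lit 7) (Steps.fwd (nat_lit 786432) (Steps.bwd (nat_lit 1) Steps.nil))))))) (nat_lit 72) (nat_lit 7),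
  Rule.mk (nat_lit 4) (nat_lit 154) (Steps.fwd (nat_lit 1835008) (Steps.fwd (nat_lit 1310720) (Steps.bwd (nat_lit 3) (Steps.bwd (nat_lit 4) (Steps.bwd (nat_lit 7) (Steps.bwd (nat_lit 6) (Steps.fwd (nat_lit 524288) Steps.nil))))))) (nat_lit 89) (nat_lit 5),
  Rule.mk (nat_lit 4) (nat_lit 314) (Steps.bwd (nat_lit 8) (Steps.bwd (nat_lit 4) (Steps.bwd (nat_lit 9) (Steps.bwd (nat_lit 4) (Steps.fwd (nat_lit 2359296) (Steps.bwd (nat_lit 4) (Steps.fwd (nat_lit 2097152) (Steps.fwd (nat_lit 1048576) (Steps.fwd (nat_lit 2359296) (Steps.fwd (nat_lit 1048576) (Steps.bwd (nat_lit 9) (Steps.bwd (nat_lit 4) (Steps.fwd (nat_lit 2359296) (Steps.fwd (nat_lit 1048576) (Steps.fwd (nat_lit 2097152) Steps.nil))))))))))))))) (nat_lit 106) (nat_lit 0),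
  Rule.mk (nat_lit 4) (nat_lit 154) (Steps.fwd (nat_lit 1572864) (Steps.fwd (nat_lit 1835008) (Steps.bwd (nat_lit 2) (Steps.bwd (nat_lit 4) (Steps.bwd (nat_lit 5) (Steps.bwd (nat_lit 7) (Steps.bwd (nat_lit 2) Steps.nil))))))) (nat_lit 78) (nat_lit 6),
  Rule.mk (nat_lit 4) (nat_lit 154) (Steps.fwd (nat_lit 1310720) (Steps.fwd (nat_lit 524288) (Steps.bwd (nat_lit 7) (Steps.bwd (nat_lit 4) (Steps.bwd (nat_lit 6) (Steps.fwd (nat_lit 524288) (Steps.fwd (nat_lit 1835008) Steps.nil))))))) (nat_lit 87) (nat_lit 6),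
  Rule.mk (nat_lit 0) (nat_lit 334) (Steps.bwd (nat_lit 4) (Steps.bwd (nat_lit 8) (Steps.fwd (nat_lit 1048576) (Steps.bwd (nat_lit 9) (Steps.fwd (nat_lit 1048576) (Steps.bwd (nat_lit 8) (Steps.fwd (nat_lit 1048576) (Steps.bwd (nat_lit 9) (Steps.bwd (nat_lit 4) (Steps.bwd (nat_lit 8) (Steps.bwd (nat_lit 4) (Steps.bwd (nat_lit 9) (Steps.fwd (nat_lit 1048576) (Steps.fwd (nat_lit 2359296) (Steps.fwd (nat_lit 1048576) (Steps.fwd (nat_lit 2097152) Steps.nil)))))))))))))))) (nat_lit 106) (nat_lit 3),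
  Rule.mk (nat_lit 4) (nat_lit 154) (Steps.fwd (nat_lit 262144) (Steps.bwd (nat_lit 7) (Steps.bwd (nat_lit 4) (Steps.fwd (nat_lit 262144) (Steps.bwd (nat_lit 4) (Steps.bwd (nat_lit 7) (Steps.fwd (nat_lit 262144) Steps.nil))))))) (nat_lit 76) (nat_lit 2),
  Rule.mk (nat_lit 4) (nat_lit 154) (Steps.fwd (nat_lit 524288) (Steps.bwd (nat_lit 7) (Steps.bwd (nat_lit 5) (Steps.bwd (nat_lit 4) (Steps.bwd (nat_lit 3) (Steps.bwd (nat_lit 7) (Steps.fwd (nat_lit 1572864) Steps.nil))))))) (nat_lit 79) (nat_lit 3),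
  Rule.mk (nat_lit 4) (nat_lit 154) (Steps.fwd (nat_lit 1572864) (Steps.bwd (nat_lit 3) (Steps.bwd (nat_lit 7) (Steps.bwd (nat_lit 4) (Steps.bwd (nat_lit 5) (Steps.bwd (nat_lit 3) (Steps.bwd (nat_lit 7) Steps.nil))))))) (nat_lit 87) (nat_lit 2),
  Rule.mk (nat_lit 4) (nat_lit 154) (Steps.bwd (nat_lit 2) (Steps.bwd (nat_lit 5) (Steps.bwd (nat_lit 7) (Steps.bwd (nat_lit 4) (Steps.fwd (nat_lit 786432) (Steps.fwd (nat_lit 1572864) (Steps.fwd (nat_lit 1835008) Steps.nil))))))) (nat_lit 88) (nat_lit 0),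
  Rule.mk (nat_lit 2) (nat_lit 154) (Steps.fwd (nat_lit 1048576) (Steps.bwd (nat_lit 5) (Steps.fwd (nat_lit 1835008) (Steps.fwd (nat_lit 786432) (Steps.fwd (nat_lit 1048576) (Steps.bwd (nat_lit 6) (Steps.fwd (nat_lit 1835008) Steps.nil))))))) (nat_lit 78) (nat_lit 1),
  Rule.mk (nat_lit 7) (nat_lit 154) (Steps.fwd (nat_lit 1048576) (Steps.fwd (nat_lit 524288) (Steps.fwd (nat_lit 1572864) (Steps.fwd (nat_lit 1835008) (Steps.fwd (nat_lit 1048576) (Steps.bwd (nat_lit 3) (Steps.fwd (nat_lit 1310720) Steps.nil))))))) (nat_lit 81) (nat_lit 6),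
  Rule.mk (nat_lit 5) (nat_lit 114) (Steps.bwd (nat_lit 1) (Steps.fwd (nat_lit 1835008) (Steps.bwd (nat_lit 5) (Steps.bwd (nat_lit 1) (Steps.bwd (nat_lit 7) Steps.nil))))) (nat_lit 53) (nat_lit 2),
  Rule.mk (nat_lit 3) (nat_lit 114) (Steps.bwd (nat_lit 7) (Steps.fwd (nat_lit 1310720) (Steps.bwd (nat_lit 2) (Steps.bwd (nat_lit 7) (Steps.bwd (nat_lit 5) Steps.nil))))) (nat_lit 61) (nat_lit 0),
  Rule.mk (nat_lit 2) (nat_lit 114) (Steps.bwd (nat_lit 7) (Steps.fwd (nat_lit 1310720) (Steps.fwd (nat_lit 524288) (Steps.bwd (nat_lit 7) (Steps.bwd (nat_lit 5) Steps.nil))))) (nat_lit 61) (nat_lit 3),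
  Rule.mk (nat_lit 2) (nat_lit 114) (Steps.fwd (nat_lit 1572864) (Steps.bwd (nat_lit 7) (Steps.bwd (nat_lit 3) (Steps.fwd (nat_lit 1572864) (Steps.fwd (nat_lit 1835008) Steps.nil))))) (nat_lit 62) (nat_lit 1),
  Rule.mk (nat_lit 4) (nat_lit 114) (Steps.fwd (nat_lit 1835008) (Steps.fwd (nat_lit 1572864) (Steps.fwd (nat_lit 1048576) (Steps.bwd (nat_lit 7) (Steps.bwd (nat_lit 5) Steps.nil))))) (nat_lit 67) (nat_lit 0),
  Rule.mk (nat_lit 4) (nat_lit 114) (Steps.fwd (nat_lit 1835008) (Steps.fwd (nat_lit 1310720) (Steps.fwd (nat_lit 1048576) (Steps.bwd (nat_lit 7) (Steps.bwd (nat_lit 6) Steps.nil))))) (nat_lit 67) (nat_lit 3),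
  Rule.mk (nat_lit 4) (nat_lit 154) (Steps.bwd (nat_lit 2) (Steps.fwd (nat_lit 1572864) (Steps.bwd (nat_lit 7) (Steps.fwd (nat_lit 1048576) (Steps.fwd (nat_lit 786432) (Steps.bwd (nat_lit 5) (Steps.fwd (nat_lit 1835008) Steps.nil))))))) (nat_lit 88) (nat_lit 4),
  Rule.mk (nat_lit 4) (nat_lit 154) (Steps.fwd (nat_lit 1835008) (Steps.fwd (nat_lit 1310720) (Steps.fwd (nat_lit 524288) (Steps.fwd (nat_lit 1048576) (Steps.bwd (nat_lit 7) (Steps.bwd (nat_lit 6) (Steps.bwd (nat_lit 3) Steps.nil))))))) (nat_lit 89) (nat_lit 5)]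
noncomputable def R_77 : List (Rule) := [Rule.mk (nat_lit 0) (nat_lit 94) (Steps.bwd (nat_lit 6) (Steps.bwd (nat_lit 3) (Steps.bwd (nat_lit 6) (Steps.fwd (nat_lit 786432) Steps.nil)))) (nat_lit 40) (nat_lit 1),
  Rule.mk (nat_lit 2) (nat_lit 154) (Steps.fwd (nat_lit 1310720) (Steps.fwd (nat_lit 786432) (Steps.fwd (nat_lit 1572864) (Steps.fwd (nat_lit 1310720) (Steps.bwd (nat_lit 2) (Steps.bwd (nat_lit 6) (Steps.fwd (nat_lit 1835008) Steps.nil))))))) (nat_lit 82) (nat_lit 1),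
  Rule.mk (nat_lit 1) (nat_lit 154) (Steps.fwd (nat_lit 786432) (Steps.bwd (nat_lit 5) (Steps.bwd (nat_lit 1) (Steps.bwd (nat_lit 2) (Steps.bwd (nat_lit 1) (Steps.bwd (nat_lit 5) (Steps.fwd (nat_lit 786432) Steps.nil))))))) (nat_lit 70) (nat_lit 6),
  Rule.mk (nat_lit 1) (nat_lit 154) (Steps.fwd (nat_lit 524288) (Steps.bwd (nat_lit 5) (Steps.bwd (nat_lit 1) (Steps.bwd (nat_lit 3) (Steps.fwd (nat_lit 262144) (Steps.bwd (nat_lit 5) (Steps.bwd (nat_lit 3) Steps.nil))))))) (nat_lit 71) (nat_lit 3),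
  Rule.mk (nat_lit 4) (nat_lit 114) (Steps.fwd (nat_lit 262144) (Steps.bwd (nat_lit 4) (Steps.bwd (nat_lit 1) (Steps.bwd (nat_lit 4) (Steps.fwd (nat_lit 262144) Steps.nil))))) (nat_lit 16) (nat_lit 0),
  Rule.mk (nat_lit 1) (nat_lit 154) (Steps.bwd (nat_lit 2) (Steps.fwd (nat_lit 262144) (Steps.bwd (nat_lit 5) (Steps.bwd (nat_lit 2) (Steps.bwd (nat_lit 1) (Steps.bwd (nat_lit 2) (Steps.fwd (nat_lit 1310720) Steps.nil))))))) (nat_lit 70) (nat_lit 1),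
  Rule.mk (nat_lit 4) (nat_lit 154) (Steps.fwd (nat_lit 1835008) (Steps.fwd (nat_lit 262144) (Steps.bwd (nat_lit 4) (Steps.bwd (nat_lit 1) (Steps.bwd (nat_lit 7) (Steps.bwd (nat_lit 4) (Steps.fwd (nat_lit 262144) Steps.nil))))))) (nat_lit 76) (nat_lit 7),
  Rule.mk (nat_lit 1) (nat_lit 154) (Steps.bwd (nat_lit 4) (Steps.bwd (nat_lit 7) (Steps.bwd (nat_lit 1) (Steps.bwd (nat_lit 4) (Steps.fwd (nat_lit 262144) (Steps.bwd (nat_lit 7) (Steps.bwd (nat_lit 4) Steps.nil))))))) (nat_lit 76) (nat_lit 6),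
  Rule.mk (nat_lit 0) (nat_lit 174) (Steps.bwd (nat_lit 1) (Steps.bwd (nat_lit 4) (Steps.fwd (nat_lit 262144) (Steps.bwd (nat_lit 6) (Steps.bwd (nat_lit 1) (Steps.fwd (nat_lit 1048576) (Steps.fwd (nat_lit 262144) (Steps.fwd (nat_lit 1572864) Steps.nil)))))))) (nat_lit 74) (nat_lit 0),
  Rule.mk (nat_lit 6) (nat_lit 274) (Steps.bwd (nat_lit 1) (Steps.fwd (nat_lit 786432) (Steps.fwd (nat_lit 262144) (Steps.fwd (nat_lit 1572864) (Steps.bwd (nat_lit 1) (Steps.bwd (nat_lit 2) (Steps.bwd (nat_lit 1) (Steps.fwd (nat_lit 1572864) (Steps.fwd (nat_lit 262144) (Steps.bwd (nat_lit 6) (Steps.bwd (nat_lit 5) (Steps.fwd (nat_lit 786432) (Steps.fwd (nat_lit 262144) Steps.nil))))))))))))) (nat_lit 34) (nat_lit 3),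
  Rule.mk (nat_lit 2) (nat_lit 154) (Steps.fwd (nat_lit 1572864) (Steps.bwd (nat_lit 5) (Steps.bwd (nat_lit 2) (Steps.bwd (nat_lit 6) (Steps.bwd (nat_lit 7) (Steps.bwd (nat_lit 2) (Steps.fwd (nat_lit 1310720) Steps.nil))))))) (nat_lit 82) (nat_lit 3),
  Rule.mk (nat_lit 2) (nat_lit 154) (Steps.fwd (nat_lit 1572864) (Steps.fwd (nat_lit 1835008) (Steps.bwd (nat_lit 2) (Steps.bwd (nat_lit 5) (Steps.bwd (nat_lit 2) (Steps.bwd (nat_lit 6) (Steps.fwd (nat_lit 1310720) Steps.nil))))))) (nat_lit 82) (nat_lit 6),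
  Rule.mk (nat_lit 3) (nat_lit 154) (Steps.bwd (nat_lit 7) (Steps.fwd (nat_lit 1572864) (Steps.bwd (nat_lit 3) (Steps.bwd (nat_lit 5) (Steps.bwd (nat_lit 6) (Steps.fwd (nat_lit 524288) (Steps.bwd (nat_lit 5) Steps.nil))))))) (nat_lit 83) (nat_lit 0),
  Rule.mk (nat_lit 6) (nat_lit 154) (Steps.fwd (nat_lit 524288) (Steps.bwd (nat_lit 5) (Steps.bwd (nat_lit 3) (Steps.bwd (nat_lit 7) (Steps.bwd (nat_lit 6) (Steps.fwd (nat_lit 524288) (Steps.bwd (nat_lit 5) Steps.nil))))))) (nat_lit 83) (nat_lit 5),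
  Rule.mk (nat_lit 1) (nat_lit 154) (Steps.bwd (nat_lit 2) (Steps.bwd (nat_lit 1) (Steps.fwd (nat_lit 524288) (Steps.fwd (nat_lit 262144) (Steps.bwd (nat_lit 2) (Steps.bwd (nat_lit 1) (Steps.fwd (nat_lit 524288) Steps.nil))))))) (nat_lit 68) (nat_lit 1),
  Rule.mk (nat_lit 1) (nat_lit 154) (Steps.fwd (nat_lit 786432) (Steps.bwd (nat_lit 1) (Steps.bwd (nat_lit 7) (Steps.fwd (nat_lit 786432) (Steps.fwd (nat_lit 262144) (Steps.bwd (nat_lit 2) (Steps.bwd (nat_lit 7) Steps.nil))))))) (nat_lit 72) (nat_lit 1),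
  Rule.mk (nat_lit 6) (nat_lit 274) (Steps.fwd (nat_lit 1310720) (Steps.bwd (nat_lit 2) (Steps.bwd (nat_lit 1) (Steps.bwd (nat_lit 6) (Steps.fwd (nat_lit 262144) (Steps.bwd (nat_lit 2) (Steps.bwd (nat_lit 1) (Steps.fwd (nat_lit 1572864) (Steps.fwd (nat_lit 262144) (Steps.fwd (nat_lit 786432) (Steps.fwd (nat_lit 262144) (Steps.fwd (nat_lit 1572864) (Steps.fwd (nat_lit 262144) Steps.nil))))))))))))) (nat_lit 34) (nat_lit 13),
  Rule.mk (nat_lit 1) (nat_lit 154) (Steps.bwd (nat_lit 2) (Steps.bwd (nat_lit 1) (Steps.bwd (nat_lit 3) (Steps.fwd (nat_lit 262144) (Steps.fwd (nat_lit 786432) (Steps.bwd (nat_lit 1) (Steps.fwd (nat_lit 524288) Steps.nil))))))) (nat_lit 68) (nat_lit 1),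
  Rule.mk (nat_lit 4) (nat_lit 154) (Steps.bwd (nat_lit 1) (Steps.bwd (nat_lit 6) (Steps.fwd (nat_lit 262144) (Steps.bwd (nat_lit 4) (Steps.fwd (nat_lit 262144) (Steps.bwd (nat_lit 6) (Steps.bwd (nat_lit 1) Steps.nil))))))) (nat_lit 74) (nat_lit 2),
  Rule.mk (nat_lit 1) (nat_lit 154) (Steps.fwd (nat_lit 1835008) (Steps.bwd (nat_lit 4) (Steps.bwd (nat_lit 1) (Steps.fwd (nat_lit 1048576) (Steps.bwd (nat_lit 7) (Steps.bwd (nat_lit 1) (Steps.fwd (nat_lit 1048576) Steps.nil))))))) (nat_lit 76) (nat_lit 3),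
  Rule.mk (nat_lit 4) (nat_lit 154) (Steps.bwd (nat_lit 1) (Steps.bwd (nat_lit 7) (Steps.fwd (nat_lit 1048576) (Steps.fwd (nat_lit 262144) (Steps.bwd (nat_lit 4) (Steps.fwd (nat_lit 1835008) (Steps.fwd (nat_lit 262144) Steps.nil))))))) (nat_lit 76) (nat_lit 2),
  Rule.mk (nat_lit 2) (nat_lit 154) (Steps.bwd (nat_lit 6) (Steps.bwd (nat_lit 7) (Steps.fwd (nat_lit 1048576) (Steps.fwd (nat_lit 786432) (Steps.bwd (nat_lit 5) (Steps.fwd (nat_lit 1835008) (Steps.fwd (nat_lit 1048576) Steps.nil))))))) (nat_lit 88) (nat_lit 5),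
  Rule.mk (nat_lit 7) (nat_lit 114) (Steps.bwd (nat_lit 5) (Steps.bwd (nat_lit 4) (Steps.bwd (nat_lit 7) (Steps.bwd (nat_lit 6) (Steps.fwd (nat_lit 1048576) Steps.nil))))) (nat_lit 67) (nat_lit 4),
  Rule.mk (nat_lit 2) (nat_lit 154) (Steps.fwd (nat_lit 1310720) (Steps.bwd (nat_lit 7) (Steps.bwd (nat_lit 4) (Steps.fwd (nat_lit 786432) (Steps.bwd (nat_lit 6) (Steps.bwd (nat_lit 7) (Steps.fwd (nat_lit 1048576) Steps.nil))))))) (nat_lit 88) (nat_lit 1),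
  Rule.mk (nat_lit 7) (nat_lit 154) (Steps.bwd (nat_lit 6) (Steps.bwd (nat_lit 2) (Steps.bwd (nat_lit 4) (Steps.bwd (nat_lit 7) (Steps.fwd (nat_lit 1310720) (Steps.bwd (nat_lit 2) (Steps.fwd (nat_lit 1048576) Steps.nil))))))) (nat_lit 80) (nat_lit 7),
  Rule.mk (nat_lit 2) (nat_lit 154) (Steps.bwd (nat_lit 7) (Steps.bwd (nat_lit 6) (Steps.bwd (nat_lit 2) (Steps.fwd (nat_lit 1310720) (Steps.bwd (nat_lit 6) (Steps.fwd (nat_lit 786432) (Steps.fwd (nat_lit 1310720) Steps.nil))))))) (nat_lit 84) (nat_lit 3),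
  Rule.mk (nat_lit 6) (nat_lit 154) (Steps.bwd (nat_lit 4) (Steps.bwd (nat_lit 2) (Steps.bwd (nat_lit 7) (Steps.fwd (nat_lit 1310720) (Steps.fwd (nat_lit 1048576) (Steps.bwd (nat_lit 2) (Steps.bwd (nat_lit 7) Steps.nil))))))) (nat_lit 92) (nat_lit 7),
  Rule.mk (nat_lit 1) (nat_lit 154) (Steps.bwd (nat_lit 4) (Steps.bwd (nat_lit 1) (Steps.bwd (nat_lit 6) (Steps.bwd (nat_lit 1) (Steps.fwd (nat_lit 1048576) (Steps.bwd (nat_lit 1) (Steps.fwd (nat_lit 1572864) Steps.nil))))))) (nat_lit 74) (nat_lit 1),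
  Rule.mk (nat_lit 0) (nat_lit 174) (Steps.bwd (nat_lit 1) (Steps.bwd (nat_lit 7) (Steps.bwd (nat_lit 2) (Steps.bwd (nat_lit 1) (Steps.fwd (nat_lit 786432) (Steps.bwd (nat_lit 7) (Steps.fwd (nat_lit 262144) (Steps.bwd (nat_lit 2) Steps.nil)))))))) (nat_lit 72) (nat_lit 2),
  Rule.mk (nat_lit 4) (nat_lit 154) (Steps.bwd (nat_lit 1) (Steps.fwd (nat_lit 1572864) (Steps.bwd (nat_lit 1) (Steps.bwd (nat_lit 4) (Steps.bwd (nat_lit 1) (Steps.bwd (nat_lit 6) (Steps.fwd (nat_lit 262144) Steps.nil))))))) (nat_lit 74) (nat_lit 2),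
  Rule.mk (nat_lit 1) (nat_lit 154) (Steps.bwd (nat_lit 7) (Steps.bwd (nat_lit 4) (Steps.bwd (nat_lit 1) (Steps.bwd (nat_lit 4) (Steps.bwd (nat_lit 7) (Steps.bwd (nat_lit 1) (Steps.fwd (nat_lit 1048576) Steps.nil))))))) (nat_lit 76) (nat_lit 3),
  Rule.mk (nat_lit 2) (nat_lit 154) (Steps.bwd (nat_lit 1) (Steps.bwd (nat_lit 2) (Steps.bwd (nat_lit 7) (Steps.bwd (nat_lit 1) (Steps.bwd (nat_lit 2) (Steps.bwd (nat_lit 1) (Steps.bwd (nat_lit 7) Steps.nil))))))) (nat_lit 72) (nat_lit 5),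
  Rule.mk (nat_lit 2) (nat_lit 154) (Steps.fwd (nat_lit 1835008) (Steps.bwd (nat_lit 1) (Steps.fwd (nat_lit 786432) (Steps.bwd (nat_lit 1) (Steps.fwd (nat_lit 1835008) (Steps.bwd (nat_lit 2) (Steps.fwd (nat_lit 262144) Steps.nil))))))) (nat_lit 72) (nat_lit 7),
  Rule.mk (nat_lit 1) (nat_lit 274) (Steps.bwd (nat_lit 6) (Steps.bwd (nat_lit 5) (Steps.bwd (nat_lit 2) (Steps.bwd (nat_lit 1) (Steps.fwd (nat_lit 1572864) (Steps.fwd (nat_lit 262144) (Steps.bwd (nat_lit 2) (Steps.fwd (nat_lit 262144) (Steps.bwd (nat_lit 6) (Steps.bwd (nat_lit 1) (Steps.bwd (nat_lit 2) (Steps.bwd (nat_lit 1) (Steps.fwd (nat_lit 1572864) Steps.nil))))))))))))) (nat_lit 34) (nat_lit 12),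
  Rule.mk (nat_lit 0) (nat_lit 94) (Steps.fwd (nat_lit 786432) (Steps.fwd (nat_lit 1310720) (Steps.fwd (nat_lit 524288) (Steps.bwd (nat_lit 5) Steps.nil)))) (nat_lit 20) (nat_lit 0),
  Rule.mk (nat_lit 2) (nat_lit 154) (Steps.bwd (nat_lit 1) (Steps.fwd (nat_lit 1310720) (Steps.bwd (nat_lit 2) (Steps.fwd (nat_lit 262144) (Steps.bwd (nat_lit 2) (Steps.bwd (nat_lit 5) (Steps.fwd (nat_lit 262144) Steps.nil))))))) (nat_lit 70) (nat_lit 2),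
  Rule.mk (nat_lit 7) (nat_lit 154) (Steps.bwd (nat_lit 1) (Steps.fwd (nat_lit 786432) (Steps.bwd (nat_lit 1) (Steps.bwd (nat_lit 7) (Steps.bwd (nat_lit 2) (Steps.bwd (nat_lit 1) (Steps.bwd (nat_lit 2) Steps.nil))))))) (nat_lit 72) (nat_lit 0),
  Rule.mk (nat_lit 5) (nat_lit 94) (Steps.fwd (nat_lit 2097152) (Steps.fwd (nat_lit 1310720) (Steps.bwd (nat_lit 7) (Steps.fwd (nat_lit 2359296) Steps.nil)))) (nat_lit 100) (nat_lit 2),
  Rule.mk (nat_lit 3) (nat_lit 154) (Steps.fwd (nat_lit 1310720) (Steps.fwd (nat_lit 524288) (Steps.bwd (nat_lit 7) (Steps.fwd (nat_lit 1572864) (Steps.fwd (nat_lit 524288) (Steps.bwd (nat_lit 5) (Steps.bwd (nat_lit 6) Steps.nil))))))) (nat_lit 83) (nat_lit 6),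
  Rule.mk (nat_lit 3) (nat_lit 154) (Steps.fwd (nat_lit 1572864) (Steps.bwd (nat_lit 5) (Steps.bwd (nat_lit 3) (Steps.bwd (nat_lit 6) (Steps.bwd (nat_lit 7) (Steps.bwd (nat_lit 3) (Steps.bwd (nat_lit 5) Steps.nil))))))) (nat_lit 85) (nat_lit 0),
  Rule.mk (nat_lit 2) (nat_lit 114) (Steps.fwd (nat_lit 1835008) (Steps.bwd (nat_lit 5) (Steps.bwd (nat_lit 3) (Steps.fwd (nat_lit 1835008) (Steps.fwd (nat_lit 1310720) Steps.nil))))) (nat_lit 61) (nat_lit 3),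
  Rule.mk (nat_lit 0) (nat_lit 94) (Steps.fwd (nat_lit 1310720) (Steps.fwd (nat_lit 262144) (Steps.fwd (nat_lit 1310720) (Steps.fwd (nat_lit 262144) Steps.nil)))) (nat_lit 18) (nat_lit 1),
  Rule.mk (nat_lit 1) (nat_lit 114) (Steps.bwd (nat_lit 7) (Steps.bwd (nat_lit 5) (Steps.bwd (nat_lit 1) (Steps.fwd (nat_lit 1835008) (Steps.fwd (nat_lit 1310720) Steps.nil))))) (nat_lit 53) (nat_lit 0),
  Rule.mk (nat_lit 1) (nat_lit 154) (Steps.fwd (nat_lit 524288) (Steps.bwd (nat_lit 1) (Steps.fwd (nat_lit 786432) (Steps.fwd (nat_lit 262144) (Steps.bwd (nat_lit 3) (Steps.fwd (nat_lit 262144) (Steps.fwd (nat_lit 786432) Steps.nil))))))) (nat_lit 68) (nat_lit 3),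
  Rule.mk (nat_lit 2) (nat_lit 154) (Steps.bwd (nat_lit 1) (Steps.fwd (nat_lit 786432) (Steps.fwd (nat_lit 1310720) (Steps.bwd (nat_lit 1) (Steps.bwd (nat_lit 2) (Steps.bwd (nat_lit 1) (Steps.fwd (nat_lit 1310720) Steps.nil))))))) (nat_lit 70) (nat_lit 5),
  Rule.mk (nat_lit 1) (nat_lit 154) (Steps.bwd (nat_lit 2) (Steps.bwd (nat_lit 1) (Steps.fwd (nat_lit 1310720) (Steps.bwd (nat_lit 2) (Steps.bwd (nat_lit 1) (Steps.bwd (nat_lit 2) (Steps.bwd (nat_lit 5) Steps.nil))))))) (nat_lit 70) (nat_lit 1),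
  Rule.mk (nat_lit 2) (nat_lit 154) (Steps.fwd (nat_lit 1310720) (Steps.bwd (nat_lit 1) (Steps.fwd (nat_lit 786432) (Steps.fwd (nat_lit 262144) (Steps.fwd (nat_lit 1310720) (Steps.bwd (nat_lit 2) (Steps.bwd (nat_lit 1) Steps.nil))))))) (nat_lit 70) (nat_lit 7),
  Rule.mk (nat_lit 1) (nat_lit 154) (Steps.bwd (nat_lit 3) (Steps.fwd (nat_lit 1835008) (Steps.bwd (nat_lit 1) (Steps.fwd (nat_lit 524288) (Steps.bwd (nat_lit 1) (Steps.bwd (nat_lit 7) (Steps.bwd (nat_lit 3) Steps.nil))))))) (nat_lit 73) (nat_lit 3),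
  Rule.mk (nat_lit 0) (nat_lit 174) (Steps.bwd (nat_lit 6) (Steps.bwd (nat_lit 1) (Steps.bwd (nat_lit 4) (Steps.fwd (nat_lit 262144) (Steps.fwd (nat_lit 1572864) (Steps.fwd (nat_lit 262144) (Steps.bwd (nat_lit 4) (Steps.fwd (nat_lit 262144) Steps.nil)))))))) (nat_lit 74) (nat_lit 3),
  Rule.mk (nat_lit 1) (nat_lit 274) (Steps.bwd (nat_lit 6) (Steps.bwd (nat_lit 1) (Steps.fwd (nat_lit 524288) (Steps.bwd (nat_lit 1) (Steps.bwd (nat_lit 6) (Steps.bwd (nat_lit 1) (Steps.bwd (nat_lit 3) (Steps.fwd (nat_lit 1310720) (Steps.bwd (nat_lit 6) (Steps.bwd (nat_lit 1) (Steps.bwd (nat_lit 6) (Steps.fwd (nat_lit 262144) (Steps.fwd (nat_lit 524288) Steps.nil))))))))))))) (nat_lit 35) (nat_lit 7),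
  Rule.mk (nat_lit 1) (nat_lit 114) (Steps.fwd (nat_lit 786432) (Steps.fwd (nat_lit 262144) (Steps.bwd (nat_lit 2) (Steps.fwd (nat_lit 262144) (Steps.fwd (nat_lit 786432) Steps.nil))))) (nat_lit 12) (nat_lit 1),
  Rule.mk (nat_lit 9) (nat_lit 114) (Steps.fwd (nat_lit 262144) (Steps.fwd (nat_lit 2359296) (Steps.fwd (nat_lit 786432) (Steps.fwd (nat_lit 262144) (Steps.fwd (nat_lit 524288) Steps.nil))))) (nat_lit 104) (nat_lit 5),
  Rule.mk (nat_lit 4) (nat_lit 314) (Steps.fwd (nat_lit 2097152) (Steps.fwd (nat_lit 1048576) (Steps.bwd (nat_lit 8) (Steps.bwd (nat_lit 4) (Steps.bwd (nat_lit 9) (Steps.fwd (nat_lit 1048576) (Steps.fwd (nat_lit 2359296) (Steps.bwd (nat_lit 4) (Steps.bwd (nat_lit 9) (Steps.bwd (nat_lit 4) (Steps.fwd (nat_lit 2359296) (Steps.bwd (nat_lit 4) (Steps.bwd (nat_lit 9) (Steps.fwd (nat_lit 1048576) (Steps.fwd (nat_lit 2359296) Steps.nil)))))))))))))))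 (nat_lit 106) (nat_lit 2),
  Rule.mk (nat_lit 0) (nat_lit 334) (Steps.fwd (nat_lit 1048576) (Steps.fwd (nat_lit 2359296) (Steps.bwd (nat_lit 4) (Steps.fwd (nat_lit 2097152) (Steps.bwd (nat_lit 4) (Steps.fwd (nat_lit 2359296) (Steps.fwd (nat_lit 1048576) (Steps.fwd (nat_lit 2097152) (Steps.fwd (nat_lit 1048576) (Steps.bwd (nat_lit 8) (Steps.bwd (nat_lit 4) (Steps.bwd (nat_lit 9) (Steps.fwd (nat_lit 1048576) (Steps.bwd (nat_lit 8) (Steps.fwd (nat_lit 1048576) (Steps.bwd (nat_lit 9) Steps.nil)))))))))))))))) (nat_lit 106) (nat_lit 3),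
  Rule.mk (nat_lit 4) (nat_lit 314) (Steps.fwd (nat_lit 2097152) (Steps.fwd (nat_lit 1048576) (Steps.fwd (nat_lit 2359296) (Steps.fwd (nat_lit 1048576) (Steps.fwd (nat_lit 2097152) (Steps.bwd (nat_lit 4) (Steps.fwd (nat_lit 2359296) (Steps.fwd (nat_lit 1048576) (Steps.bwd (nat_lit 9) (Steps.fwd (nat_lit 1048576) (Steps.bwd (nat_lit 8) (Steps.bwd (nat_lit 4) (Steps.bwd (nat_lit 9) (Steps.bwd (nat_lit 4) (Steps.bwd (nat_lit 8) Steps.nil))))))))))))))) (nat_lit 106) (nat_lit 2),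
  Rule.mk (nat_lit 1) (nat_lit 154) (Steps.bwd (nat_lit 7) (Steps.fwd (nat_lit 1048576) (Steps.fwd (nat_lit 262144) (Steps.fwd (nat_lit 1048576) (Steps.fwd (nat_lit 1835008) (Steps.fwd (nat_lit 262144) (Steps.bwd (nat_lit 4) Steps.nil))))))) (nat_lit 76) (nat_lit 3),
  Rule.mk (nat_lit 1) (nat_lit 274) (Steps.fwd (nat_lit 1572864) (Steps.bwd (nat_lit 5) (Steps.fwd (nat_lit 786432) (Steps.bwd (nat_lit 1) (Steps.bwd (nat_lit 6) (Steps.bwd (nat_lit 1) (Steps.fwd (nat_lit 786432) (Steps.fwd (nat_lit 262144) (Steps.bwd (nat_lit 6) (Steps.bwd (nat_lit 1) (Steps.bwd (nat_lit 2) (Steps.fwd (nat_lit 262144) (Steps.fwd (nat_lit 1572864) Steps.nil))))))))))))) (nat_lit 34) (nat_lit 12),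
  Rule.mk (nat_lit 0) (nat_lit 94) (Steps.bwd (nat_lit 5) (Steps.bwd (nat_lit 1) (Steps.fwd (nat_lit 1310720) (Steps.fwd (nat_lit 262144) Steps.nil)))) (nat_lit 18) (nat_lit 1),
  Rule.mk (nat_lit 0) (nat_lit 94) (Steps.bwd (nat_lit 1) (Steps.bwd (nat_lit 7) (Steps.fwd (nat_lit 262144) (Steps.fwd (nat_lit 1835008) Steps.nil)))) (nat_lit 26) (nat_lit 1),
  Rule.mk (nat_lit 1) (nat_lit 154) (Steps.fwd (nat_lit 524288) (Steps.fwd (nat_lit 1835008) (Steps.fwd (nat_lit 262144) (Steps.bwd (nat_lit 3) (Steps.bwd (nat_lit 1) (Steps.fwd (nat_lit 1835008) (Steps.bwd (nat_lit 3) Steps.nil))))))) (nat_lit 73) (nat_lit 3),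
  Rule.mk (nat_lit 4) (nat_lit 154) (Steps.bwd (nat_lit 7) (Steps.bwd (nat_lit 1) (Steps.bwd (nat_lit 4) (Steps.fwd (nat_lit 262144) (Steps.fwd (nat_lit 1835008) (Steps.bwd (nat_lit 4) (Steps.fwd (nat_lit 262144) Steps.nil))))))) (nat_lit 76) (nat_lit 7),
  Rule.mk (nat_lit 0) (nat_lit 134) (Steps.bwd (nat_lit 1) (Steps.bwd (nat_lit 4) (Steps.fwd (nat_lit 262144) (Steps.bwd (nat_lit 4) (Steps.fwd (nat_lit 262144) (Steps.fwd (nat_lit 1048576) Steps.nil)))))) (nat_lit 16) (nat_lit 0),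
  Rule.mk (nat_lit 0) (nat_lit 134) (Steps.bwd (nat_lit 4) (Steps.fwd (nat_lit 524288) (Steps.bwd (nat_lit 6) (Steps.fwd (nat_lit 1048576) (Steps.fwd (nat_lit 524288) (Steps.fwd (nat_lit 1310720) Steps.nil)))))) (nat_lit 55) (nat_lit 4),
  Rule.mk (nat_lit 4) (nat_lit 114) (Steps.fwd (nat_lit 1572864) (Steps.bwd (nat_lit 2) (Steps.bwd (nat_lit 4) (Steps.bwd (nat_lit 5) (Steps.fwd (nat_lit 786432) Steps.nil))))) (nat_lit 54) (nat_lit 5)]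
noncomputable def R_78 : List (Rule) := [Rule.mk (nat_lit 0) (nat_lit 134) (Steps.bwd (nat_lit 4) (Steps.bwd (nat_lit 3) (Steps.fwd (nat_lit 1572864) (Steps.bwd (nat_lit 4) (Steps.bwd (nat_lit 3) (Steps.fwd (nat_lit 1310720) Steps.nil)))))) (nat_lit 55) (nat_lit 4),
  Rule.mk (nat_lit 4) (nat_lit 114) (Steps.bwd (nat_lit 7) (Steps.fwd (nat_lit 1572864) (Steps.bwd (nat_lit 4) (Steps.bwd (nat_lit 7) (Steps.bwd (nat_lit 5) Steps.nil))))) (nat_lit 67) (nat_lit 0),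
  Rule.mk (nat_lit 5) (nat_lit 154) (Steps.bwd (nat_lit 7) (Steps.bwd (nat_lit 2) (Steps.bwd (nat_lit 4) (Steps.fwd (nat_lit 1572864) (Steps.bwd (nat_lit 7) (Steps.fwd (nat_lit 786432) (Steps.fwd (nat_lit 1048576) Steps.nil))))))) (nat_lit 78) (nat_lit 3),
  Rule.mk (nat_lit 4) (nat_lit 154) (Steps.fwd (nat_lit 1572864) (Steps.bwd (nat_lit 7) (Steps.bwd (nat_lit 2) (Steps.bwd (nat_lit 4) (Steps.bwd (nat_lit 5) (Steps.bwd (nat_lit 7) (Steps.fwd (nat_lit 786432) Steps.nil))))))) (nat_lit 78) (nat_lit 6),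
  Rule.mk (nat_lit 4) (nat_lit 154) (Steps.fwd (nat_lit 1835008) (Steps.fwd (nat_lit 1572864) (Steps.fwd (nat_lit 524288) (Steps.bwd (nat_lit 4) (Steps.bwd (nat_lit 7) (Steps.bwd (nat_lit 5) (Steps.fwd (nat_lit 524288) Steps.nil))))))) (nat_lit 89) (nat_lit 1),
  Rule.mk (nat_lit 2) (nat_lit 154) (Steps.fwd (nat_lit 1048576) (Steps.fwd (nat_lit 1310720) (Steps.bwd (nat_lit 7) (Steps.fwd (nat_lit 786432) (Steps.fwd (nat_lit 1048576) (Steps.bwd (nat_lit 6) (Steps.fwd (nat_lit 1835008) Steps.nil))))))) (nat_lit 78) (nat_lit 1),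
  Rule.mk (nat_lit 4) (nat_lit 114) (Steps.bwd (nat_lit 5) (Steps.bwd (nat_lit 2) (Steps.fwd (nat_lit 1048576) (Steps.bwd (nat_lit 6) (Steps.fwd (nat_lit 786432) Steps.nil))))) (nat_lit 54) (nat_lit 2),
  Rule.mk (nat_lit 0) (nat_lit 134) (Steps.bwd (nat_lit 4) (Steps.bwd (nat_lit 5) (Steps.fwd (nat_lit 524288) (Steps.fwd (nat_lit 1048576) (Steps.fwd (nat_lit 1572864) (Steps.bwd (nat_lit 3) Steps.nil)))))) (nat_lit 59) (nat_lit 3),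
  Rule.mk (nat_lit 3) (nat_lit 114) (Steps.bwd (nat_lit 5) (Steps.fwd (nat_lit 1835008) (Steps.bwd (nat_lit 2) (Steps.fwd (nat_lit 1310720) (Steps.bwd (nat_lit 7) Steps.nil))))) (nat_lit 60) (nat_lit 4),
  Rule.mk (nat_lit 4) (nat_lit 154) (Steps.bwd (nat_lit 5) (Steps.fwd (nat_lit 1835008) (Steps.bwd (nat_lit 2) (Steps.fwd (nat_lit 1048576) (Steps.bwd (nat_lit 6) (Steps.fwd (nat_lit 1835008) (Steps.fwd (nat_lit 786432) Steps.nil))))))) (nat_lit 78) (nat_lit 2),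
  Rule.mk (nat_lit 4) (nat_lit 154) (Steps.fwd (nat_lit 786432) (Steps.fwd (nat_lit 1572864) (Steps.bwd (nat_lit 7) (Steps.bwd (nat_lit 4) (Steps.bwd (nat_lit 2) (Steps.fwd (nat_lit 1310720) (Steps.bwd (nat_lit 7) Steps.nil))))))) (nat_lit 88) (nat_lit 4),
  Rule.mk (nat_lit 0) (nat_lit 294) (Steps.bwd (nat_lit 1) (Steps.bwd (nat_lit 6) (Steps.fwd (nat_lit 262144) (Steps.fwd (nat_lit 524288) (Steps.bwd (nat_lit 1) (Steps.bwd (nat_lit 6) (Steps.bwd (nat_lit 1) (Steps.bwd (nat_lit 3) (Steps.bwd (nat_lit 1) (Steps.bwd (nat_lit 6) (Steps.bwd (nat_lit 1) (Steps.bwd (nat_lit 3) (Steps.bwd (nat_lit 5) (Steps.fwd (nat_lit 1572864) Steps.nil)))))))))))))) (nat_lit 35) (nat_lit 2),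
  Rule.mk (nat_lit 0) (nat_lit 134) (Steps.bwd (nat_lit 1) (Steps.bwd (nat_lit 4) (Steps.fwd (nat_lit 262144) (Steps.bwd (nat_lit 4) (Steps.bwd (nat_lit 1) (Steps.bwd (nat_lit 4) Steps.nil)))))) (nat_lit 16) (nat_lit 0),
  Rule.mk (nat_lit 5) (nat_lit 114) (Steps.fwd (nat_lit 786432) (Steps.bwd (nat_lit 4) (Steps.bwd (nat_lit 6) (Steps.fwd (nat_lit 786432) (Steps.fwd (nat_lit 1048576) Steps.nil))))) (nat_lit 54) (nat_lit 3),
  Rule.mk (nat_lit 2) (nat_lit 114) (Steps.fwd (nat_lit 1572864) (Steps.bwd (nat_lit 4) (Steps.bwd (nat_lit 2) (Steps.fwd (nat_lit 1310720) (Steps.fwd (nat_lit 1048576) Steps.nil))))) (nat_lit 58) (nat_lit 4),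
  Rule.mk (nat_lit 0) (nat_lit 134) (Steps.bwd (nat_lit 2) (Steps.fwd (nat_lit 1310720) (Steps.bwd (nat_lit 4) (Steps.bwd (nat_lit 2) (Steps.bwd (nat_lit 6) (Steps.fwd (nat_lit 1048576) Steps.nil)))))) (nat_lit 58) (nat_lit 0),
  Rule.mk (nat_lit 4) (nat_lit 114) (Steps.fwd (nat_lit 1572864) (Steps.bwd (nat_lit 7) (Steps.bwd (nat_lit 4) (Steps.bwd (nat_lit 5) (Steps.bwd (nat_lit 7) Steps.nil))))) (nat_lit 66) (nat_lit 4),
  Rule.mk (nat_lit 6) (nat_lit 154) (Steps.fwd (nat_lit 1835008) (Steps.fwd (nat_lit 786432) (Steps.bwd (nat_lit 4) (Steps.bwd (nat_lit 5) (Steps.bwd (nat_lit 7) (Steps.fwd (nat_lit 786432) (Steps.fwd (nat_lit 1048576) Steps.nil))))))) (nat_lit 78) (nat_lit 7),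
  Rule.mk (nat_lit 2) (nat_lit 154) (Steps.fwd (nat_lit 1572864) (Steps.bwd (nat_lit 7) (Steps.bwd (nat_lit 4) (Steps.bwd (nat_lit 2) (Steps.fwd (nat_lit 1310720) (Steps.fwd (nat_lit 1835008) (Steps.fwd (nat_lit 1048576) Steps.nil))))))) (nat_lit 88) (nat_lit 5),
  Rule.mk (nat_lit 2) (nat_lit 154) (Steps.bwd (nat_lit 5) (Steps.bwd (nat_lit 7) (Steps.bwd (nat_lit 4) (Steps.bwd (nat_lit 2) (Steps.bwd (nat_lit 6) (Steps.fwd (nat_lit 1835008) (Steps.fwd (nat_lit 1048576) Steps.nil))))))) (nat_lit 88) (nat_lit 1),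
  Rule.mk (nat_lit 1) (nat_lit 154) (Steps.bwd (nat_lit 2) (Steps.fwd (nat_lit 262144) (Steps.bwd (nat_lit 3) (Steps.fwd (nat_lit 262144) (Steps.bwd (nat_lit 2) (Steps.bwd (nat_lit 1) (Steps.fwd (nat_lit 524288) Steps.nil))))))) (nat_lit 68) (nat_lit 1),
  Rule.mk (nat_lit 2) (nat_lit 154) (Steps.bwd (nat_lit 5) (Steps.bwd (nat_lit 2) (Steps.bwd (nat_lit 6) (Steps.fwd (nat_lit 1310720) (Steps.bwd (nat_lit 2) (Steps.fwd (nat_lit 1572864) (Steps.fwd (nat_lit 1835008) Steps.nil))))))) (nat_lit 82) (nat_lit 1),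
  Rule.mk (nat_lit 2) (nat_lit 154) (Steps.bwd (nat_lit 6) (Steps.fwd (nat_lit 1835008) (Steps.bwd (nat_lit 2) (Steps.bwd (nat_lit 5) (Steps.fwd (nat_lit 786432) (Steps.bwd (nat_lit 6) (Steps.fwd (nat_lit 1310720) Steps.nil))))))) (nat_lit 82) (nat_lit 6),
  Rule.mk (nat_lit 4) (nat_lit 154) (Steps.bwd (nat_lit 2) (Steps.bwd (nat_lit 5) (Steps.fwd (nat_lit 1835008) (Steps.fwd (nat_lit 1048576) (Steps.bwd (nat_lit 2) (Steps.fwd (nat_lit 1572864) (Steps.fwd (nat_lit 1835008) Steps.nil))))))) (nat_lit 88) (nat_lit 0),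
  Rule.mk (nat_lit 5) (nat_lit 114) (Steps.fwd (nat_lit 786432) (Steps.bwd (nat_lit 4) (Steps.fwd (nat_lit 1572864) (Steps.fwd (nat_lit 786432) (Steps.fwd (nat_lit 1048576) Steps.nil))))) (nat_lit 54) (nat_lit 3),
  Rule.mk (nat_lit 3) (nat_lit 114) (Steps.fwd (nat_lit 1310720) (Steps.bwd (nat_lit 7) (Steps.bwd (nat_lit 2) (Steps.bwd (nat_lit 5) (Steps.bwd (nat_lit 7) Steps.nil))))) (nat_lit 60) (nat_lit 4),
  Rule.mk (nat_lit 1) (nat_lit 154) (Steps.fwd (nat_lit 524288) (Steps.bwd (nat_lit 5) (Steps.fwd (nat_lit 262144) (Steps.fwd (nat_lit 524288) (Steps.fwd (nat_lit 262144) (Steps.fwd (nat_lit 1310720) (Steps.bwd (nat_lit 3) Steps.nil))))))) (nat_lit 71) (nat_lit 3),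
  Rule.mk (nat_lit 1) (nat_lit 114) (Steps.fwd (nat_lit 1048576) (Steps.fwd (nat_lit 262144) (Steps.fwd (nat_lit 1048576) (Steps.bwd (nat_lit 1) (Steps.fwd (nat_lit 1048576) Steps.nil))))) (nat_lit 16) (nat_lit 1),
  Rule.mk (nat_lit 0) (nat_lit 294) (Steps.bwd (nat_lit 1) (Steps.bwd (nat_lit 6) (Steps.fwd (nat_lit 262144) (Steps.fwd (nat_lit 786432) (Steps.bwd (nat_lit 1) (Steps.fwd (nat_lit 1572864) (Steps.bwd (nat_lit 1) (Steps.bwd (nat_lit 6) (Steps.bwd (nat_lit 5) (Steps.fwd (nat_lit 786432) (Steps.fwd (nat_lit 262144) (Steps.fwd (nat_lit 1572864) (Steps.fwd (nat_lit 262144) (Steps.bwd (nat_lit 2) Steps.nil)))))))))))))) (nat_lit 34) (nat_lit 5),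
  Rule.mk (nat_lit 4) (nat_lit 314) (Steps.fwd (nat_lit 2097152) (Steps.bwd (nat_lit 4) (Steps.bwd (nat_lit 8) (Steps.bwd (nat_lit 4) (Steps.bwd (nat_lit 9) (Steps.fwd (nat_lit 1048576) (Steps.fwd (nat_lit 2359296) (Steps.fwd (nat_lit 1048576) (Steps.bwd (nat_lit 9) (Steps.bwd (nat_lit 4) (Steps.fwd (nat_lit 2359296) (Steps.fwd (nat_lit 1048576) (Steps.fwd (nat_lit 2097152) (Steps.fwd (nat_lit 1048576) (Steps.bwd (nat_lit 8) Steps.nil))))))))))))))) (nat_lit 106) (nat_lit 2),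
  Rule.mk (nat_lit 3) (nat_lit 154) (Steps.fwd (nat_lit 1572864) (Steps.fwd (nat_lit 1310720) (Steps.bwd (nat_lit 3) (Steps.bwd (nat_lit 6) (Steps.bwd (nat_lit 7) (Steps.bwd (nat_lit 3) (Steps.fwd (nat_lit 1310720) Steps.nil))))))) (nat_lit 85) (nat_lit 0),
  Rule.mk (nat_lit 3) (nat_lit 154) (Steps.bwd (nat_lit 5) (Steps.fwd (nat_lit 262144) (Steps.fwd (nat_lit 524288) (Steps.fwd (nat_lit 262144) (Steps.fwd (nat_lit 1310720) (Steps.bwd (nat_lit 3) (Steps.bwd (nat_lit 1) Steps.nil))))))) (nat_lit 71) (nat_lit 4),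
  Rule.mk (nat_lit 7) (nat_lit 154) (Steps.fwd (nat_lit 524288) (Steps.bwd (nat_lit 1) (Steps.fwd (nat_lit 524288) (Steps.fwd (nat_lit 1835008) (Steps.fwd (nat_lit 262144) (Steps.bwd (nat_lit 3) (Steps.bwd (nat_lit 1) Steps.nil))))))) (nat_lit 73) (nat_lit 1),
  Rule.mk (nat_lit 1) (nat_lit 274) (Steps.fwd (nat_lit 524288) (Steps.fwd (nat_lit 262144) (Steps.fwd (nat_lit 1572864) (Steps.fwd (nat_lit 262144) (Steps.bwd (nat_lit 3) (Steps.fwd (nat_lit 1310720) (Steps.bwd (nat_lit 6) (Steps.bwd (nat_lit 1) (Steps.bwd (nat_lit 6) (Steps.fwd (nat_lit 262144) (Steps.bwd (nat_lit 3) (Steps.bwd (nat_lit 1) (Steps.fwd (nat_lit 1572864) Steps.nil))))))))))))) (nat_lit 35) (nat_lit 9),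
  Rule.mk (nat_lit 5) (nat_lit 154) (Steps.bwd (nat_lit 2) (Steps.bwd (nat_lit 1) (Steps.fwd (nat_lit 786432) (Steps.fwd (nat_lit 1310720) (Steps.bwd (nat_lit 1) (Steps.fwd (nat_lit 786432) (Steps.fwd (nat_lit 262144) Steps.nil))))))) (nat_lit 70) (nat_lit 4),
  Rule.mk (nat_lit 2) (nat_lit 154) (Steps.bwd (nat_lit 6) (Steps.fwd (nat_lit 1835008) (Steps.fwd (nat_lit 786432) (Steps.bwd (nat_lit 5) (Steps.bwd (nat_lit 2) (Steps.bwd (nat_lit 6) (Steps.fwd (nat_lit 1310720) Steps.nil))))))) (nat_lit 82) (nat_lit 6),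
  Rule.mk (nat_lit 1) (nat_lit 274) (Steps.fwd (nat_lit 1572864) (Steps.bwd (nat_lit 1) (Steps.fwd (nat_lit 524288) (Steps.bwd (nat_lit 5) (Steps.fwd (nat_lit 1572864) (Steps.bwd (nat_lit 1) (Steps.fwd (nat_lit 1572864) (Steps.fwd (nat_lit 262144) (Steps.bwd (nat_lit 3) (Steps.bwd (nat_lit 1) (Steps.fwd (nat_lit 1572864) (Steps.fwd (nat_lit 262144) (Steps.bwd (nat_lit 3) Steps.nil))))))))))))) (nat_lit 35) (nat_lit 11),
  Rule.mk (nat_lit 1) (nat_lit 274) (Steps.bwd (nat_lit 3) (Steps.fwd (nat_lit 1310720) (Steps.bwd (nat_lit 6) (Steps.bwd (nat_lit 1) (Steps.fwd (nat_lit 1572864) (Steps.bwd (nat_lit 1) (Steps.fwd (nat_lit 524288) (Steps.bwd (nat_lit 1) (Steps.fwd (nat_lit 1572864) (Steps.fwd (nat_lit 262144) (Steps.bwd (nat_lit 3) (Steps.bwd (nat_lit 1) (Steps.fwd (nat_lit 1572864) Steps.nil))))))))))))) (nat_lit 35) (nat_lit 13),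
  Rule.mk (nat_lit 0) (nat_lit 134) (Steps.bwd (nat_lit 1) (Steps.bwd (nat_lit 3) (Steps.bwd (nat_lit 9) (Steps.bwd (nat_lit 1) (Steps.fwd (nat_lit 2359296) (Steps.fwd (nat_lit 786432) Steps.nil)))))) (nat_lit 104) (nat_lit 2),
  Rule.mk (nat_lit 1) (nat_lit 154) (Steps.bwd (nat_lit 4) (Steps.bwd (nat_lit 7) (Steps.fwd (nat_lit 262144) (Steps.fwd (nat_lit 1048576) (Steps.bwd (nat_lit 1) (Steps.fwd (nat_lit 1835008) (Steps.fwd (nat_lit 1048576) Steps.nil))))))) (nat_lit 76) (nat_lit 6),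
  Rule.mk (nat_lit 0) (nat_lit 134) (Steps.fwd (nat_lit 786432) (Steps.bwd (nat_lit 1) (Steps.fwd (nat_lit 786432) (Steps.bwd (nat_lit 1) (Steps.bwd (nat_lit 2) (Steps.fwd (nat_lit 262144) Steps.nil)))))) (nat_lit 12) (nat_lit 1),
  Rule.mk (nat_lit 1) (nat_lit 154) (Steps.bwd (nat_lit 2) (Steps.bwd (nat_lit 1) (Steps.fwd (nat_lit 524288) (Steps.bwd (nat_lit 1) (Steps.fwd (nat_lit 786432) (Steps.bwd (nat_lit 1) (Steps.bwd (nat_lit 3) Steps.nil))))))) (nat_lit 68) (nat_lit 1),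
  Rule.mk (nat_lit 1) (nat_lit 154) (Steps.fwd (nat_lit 524288) (Steps.bwd (nat_lit 1) (Steps.fwd (nat_lit 1835008) (Steps.fwd (nat_lit 524288) (Steps.bwd (nat_lit 1) (Steps.bwd (nat_lit 3) (Steps.fwd (nat_lit 1835008) Steps.nil))))))) (nat_lit 73) (nat_lit 6),
  Rule.mk (nat_lit 1) (nat_lit 154) (Steps.fwd (nat_lit 1048576) (Steps.bwd (nat_lit 1) (Steps.bwd (nat_lit 6) (Steps.bwd (nat_lit 1) (Steps.bwd (nat_lit 4) (Steps.bwd (nat_lit 1) (Steps.bwd (nat_lit 6) Steps.nil))))))) (nat_lit 74) (nat_lit 1),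
  Rule.mk (nat_lit 0) (nat_lit 294) (Steps.bwd (nat_lit 1) (Steps.bwd (nat_lit 3) (Steps.bwd (nat_lit 5) (Steps.fwd (nat_lit 1572864) (Steps.fwd (nat_lit 262144) (Steps.bwd (nat_lit 6) (Steps.fwd (nat_lit 262144) (Steps.bwd (nat_lit 3) (Steps.bwd (nat_lit 1) (Steps.bwd (nat_lit 6) (Steps.fwd (nat_lit 262144) (Steps.bwd (nat_lit 3) (Steps.fwd (nat_lit 262144) (Steps.fwd (nat_lit 1572864) Steps.nil)))))))))))))) (nat_lit 35) (nat_lit 12),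
  Rule.mk (nat_lit 6) (nat_lit 274) (Steps.fwd (nat_lit 262144) (Steps.bwd (nat_lit 6) (Steps.fwd (nat_lit 1310720) (Steps.fwd (nat_lit 786432) (Steps.bwd (nat_lit 1) (Steps.fwd (nat_lit 1572864) (Steps.bwd (nat_lit 1) (Steps.bwd (nat_lit 2) (Steps.fwd (nat_lit 262144) (Steps.fwd (nat_lit 1572864) (Steps.bwd (nat_lit 1) (Steps.bwd (nat_lit 2) (Steps.fwd (nat_lit 262144) Steps.nil))))))))))))) (nat_lit 34) (nat_lit 11),
  Rule.mk (nat_lit 1) (nat_lit 274) (Steps.fwd (nat_lit 1572864) (Steps.fwd (nat_lit 262144) (Steps.bwd (nat_lit 3) (Steps.bwd (nat_lit 1) (Steps.bwd (nat_lit 6) (Steps.fwd (nat_lit 262144) (Steps.fwd (nat_lit 524288) (Steps.bwd (nat_lit 1) (Steps.fwd (nat_lit 1572864) (Steps.bwd (nat_lit 1) (Steps.bwd (nat_lit 3) (Steps.bwd (nat_lit 5) (Steps.fwd (nat_lit 1572864) Steps.nil))))))))))))) (nat_lit 35) (nat_lit 3),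
  Rule.mk (nat_lit 0) (nat_lit 174) (Steps.fwd (nat_lit 524288) (Steps.bwd (nat_lit 7) (Steps.bwd (nat_lit 1) (Steps.fwd (nat_lit 524288) (Steps.bwd (nat_lit 1) (Steps.fwd (nat_lit 1835008) (Steps.bwd (nat_lit 3) (Steps.fwd (nat_lit 262144) Steps.nil)))))))) (nat_lit 73) (nat_lit 3),
  Rule.mk (nat_lit 1) (nat_lit 274) (Steps.fwd (nat_lit 1572864) (Steps.bwd (nat_lit 1) (Steps.fwd (nat_lit 524288) (Steps.bwd (nat_lit 1) (Steps.fwd (nat_lit 1572864) (Steps.fwd (nat_lit 262144) (Steps.fwd (nat_lit 524288) (Steps.bwd (nat_lit 1) (Steps.bwd (nat_lit 6) (Steps.fwd (nat_lit 262144) (Steps.bwd (nat_lit 3) (Steps.bwd (nat_lit 5) (Steps.bwd (nat_lit 6) Steps.nil))))))))))))) (nat_lit 35) (nat_lit 3),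
  Rule.mk (nat_lit 6) (nat_lit 274) (Steps.fwd (nat_lit 1310720) (Steps.bwd (nat_lit 2) (Steps.bwd (nat_lit 1) (Steps.bwd (nat_lit 6) (Steps.bwd (nat_lit 1) (Steps.fwd (nat_lit 786432) (Steps.bwd (nat_lit 1) (Steps.bwd (nat_lit 6) (Steps.bwd (nat_lit 1) (Steps.fwd (nat_lit 786432) (Steps.fwd (nat_lit 262144) (Steps.bwd (nat_lit 6) (Steps.fwd (nat_lit 262144) Steps.nil))))))))))))) (nat_lit 34) (nat_lit 13),
  Rule.mk (nat_lit 2) (nat_lit 274) (Steps.bwd (nat_lit 1) (Steps.bwd (nat_lit 6) (Steps.bwd (nat_lit 1) (Steps.fwd (nat_lit 1572864) (Steps.bwd (nat_lit 5) (Steps.fwd (nat_lit 786432) (Steps.bwd (nat_lit 1) (Steps.bwd (nat_lit 6) (Steps.bwd (nat_lit 1) (Steps.fwd (nat_lit 786432) (Steps.fwd (nat_lit 262144) (Steps.bwd (nat_lit 6) (Steps.fwd (nat_lit 262144) Steps.nil))))))))))))) (nat_lit 34) (nat_lit 9),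
  Rule.mk (nat_lit 4) (nat_lit 314) (Steps.bwd (nat_lit 8) (Steps.fwd (nat_lit 1048576) (Steps.bwd (nat_lit 9) (Steps.bwd (nat_lit 4) (Steps.bwd (nat_lit 8) (Steps.fwd (nat_lit 1048576) (Steps.bwd (nat_lit 9) (Steps.fwd (nat_lit 1048576) (Steps.fwd (nat_lit 2359296) (Steps.fwd (nat_lit 1048576) (Steps.fwd (nat_lit 2097152) (Steps.fwd (nat_lit 1048576) (Steps.fwd (nat_lit 2359296) (Steps.bwd (nat_lit 4) (Steps.bwd (nat_lit 9) Steps.nil))))))))))))))) (nat_lit 106) (nat_lit 0),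
  Rule.mk (nat_lit 3) (nat_lit 74) (Steps.fwd (nat_lit 1048576) (Steps.fwd (nat_lit 524288) (Steps.bwd (nat_lit 4) Steps.nil))) (nat_lit 15) (nat_lit 1),
  Rule.mk (nat_lit 3) (nat_lit 114) (Steps.fwd (nat_lit 1048576) (Steps.fwd (nat_lit 1310720) (Steps.fwd (nat_lit 524288) (Steps.bwd (nat_lit 4) (Steps.fwd (nat_lit 1572864) Steps.nil))))) (nat_lit 59) (nat_lit 3),
  Rule.mk (nat_lit 7) (nat_lit 114) (Steps.fwd (nat_lit 1048576) (Steps.fwd (nat_lit 1310720) (Steps.fwd (nat_lit 1835008) (Steps.bwd (nat_lit 4) (Steps.fwd (nat_lit 1572864) Steps.nil))))) (nat_lit 66) (nat_lit 0),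
  Rule.mk (nat_lit 5) (nat_lit 114) (Steps.fwd (nat_lit 1048576) (Steps.bwd (nat_lit 7) (Steps.fwd (nat_lit 1572864) (Steps.bwd (nat_lit 4) (Steps.fwd (nat_lit 1835008) Steps.nil))))) (nat_lit 67) (nat_lit 5),
  Rule.mk (nat_lit 3) (nat_lit 274) (Steps.bwd (nat_lit 1) (Steps.bwd (nat_lit 6) (Steps.fwd (nat_lit 262144) (Steps.fwd (nat_lit 524288) (Steps.bwd (nat_lit 1) (Steps.bwd (nat_lit 6) (Steps.bwd (nat_lit 1) (Steps.bwd (nat_lit 3) (Steps.bwd (nat_lit 5) (Steps.bwd (nat_lit 6) (Steps.bwd (nat_lit 1) (Steps.fwd (nat_lit 1572864) (Steps.fwd (nat_lit 262144) Steps.nil))))))))))))) (nat_lit 35) (nat_lit 6),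
  Rule.mk (nat_lit 3) (nat_lit 274) (Steps.bwd (nat_lit 5) (Steps.fwd (nat_lit 1572864) (Steps.bwd (nat_lit 1) (Steps.bwd (nat_lit 6) (Steps.fwd (nat_lit 262144) (Steps.fwd (nat_lit 524288) (Steps.bwd (nat_lit 1) (Steps.bwd (nat_lit 6) (Steps.bwd (nat_lit 1) (Steps.bwd (nat_lit 3) (Steps.fwd (nat_lit 262144) (Steps.fwd (nat_lit 1572864) (Steps.fwd (nat_lit 262144) Steps.nil))))))))))))) (nat_lit 35) (nat_lit 0),
  Rule.mk (nat_lit 5) (nat_lit 274) (Steps.bwd (nat_lit 6) (Steps.bwd (nat_lit 1) (Steps.bwd (nat_lit 6) (Steps.bwd (nat_lit 1) (Steps.fwd (nat_lit 524288) (Steps.bwd (nat_lit 1) (Steps.bwd (nat_lit 6) (Steps.fwd (nat_lit 262144) (Steps.bwd (nat_lit 3) (Steps.bwd (nat_lit 1) (Steps.fwd (nat_lit 1572864) (Steps.fwd (nat_lit 262144) (Steps.fwd (nat_lit 524288) Steps.nil))))))))))))) (nat_lit 35) (nat_lit 1),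
  Rule.mk (nat_lit 3) (nat_lit 154) (Steps.fwd (nat_lit 1310720) (Steps.fwd (nat_lit 1572864) (Steps.fwd (nat_lit 524288) (Steps.bwd (nat_lit 5) (Steps.bwd (nat_lit 3) (Steps.fwd (nat_lit 1835008) (Steps.fwd (nat_lit 1572864) Steps.nil))))))) (nat_lit 83) (nat_lit 3),
  Rule.mk (nat_lit 2) (nat_lit 74) (Steps.fwd (nat_lit 1310720) (Steps.bwd (nat_lit 3) (Steps.fwd (nat_lit 1310720) Steps.nil))) (nat_lit 20) (nat_lit 1),
  Rule.mk (nat_lit 4) (nat_lit 154) (Steps.fwd (nat_lit 524288) (Steps.fwd (nat_lit 1835008) (Steps.fwd (nat_lit 1310720) (Steps.bwd (nat_lit 4) (Steps.bwd (nat_lit 3) (Steps.fwd (nat_lit 1835008) (Steps.bwd (nat_lit 6) Steps.nil))))))) (nat_lit 79) (nat_lit 3),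
  Rule.mk (nat_lit 4) (nat_lit 114) (Steps.bwd (nat_lit 2) (Steps.fwd (nat_lit 1572864) (Steps.fwd (nat_lit 1048576) (Steps.fwd (nat_lit 786432) (Steps.fwd (nat_lit 1310720) Steps.nil))))) (nat_lit 58) (nat_lit 3),
  Rule.mk (nat_lit 0) (nat_lit 134) (Steps.bwd (nat_lit 4) (Steps.bwd (nat_lit 2) (Steps.bwd (nat_lit 6) (Steps.bwd (nat_lit 4) (Steps.bwd (nat_lit 2) (Steps.bwd (nat_lit 5) Steps.nil)))))) (nat_lit 58) (nat_lit 2)]
noncomputable def R_79 : List (Rule) := [Rule.mk (nat_lit 7) (nat_lit 114) (Steps.fwd (nat_lit 1048576) (Steps.fwd (nat_lit 1572864) (Steps.fwd (nat_lit 1835008) (Steps.bwd (nat_lit 4) (Steps.bwd (nat_lit 5) Steps.nil))))) (nat_lit 66) (nat_lit 3),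
  Rule.mk (nat_lit 7) (nat_lit 154) (Steps.bwd (nat_lit 1) (Steps.fwd (nat_lit 1048576) (Steps.fwd (nat_lit 262144) (Steps.fwd (nat_lit 1835008) (Steps.fwd (nat_lit 1048576) (Steps.bwd (nat_lit 1) (Steps.bwd (nat_lit 4) Steps.nil))))))) (nat_lit 76) (nat_lit 0),
  Rule.mk (nat_lit 5) (nat_lit 154) (Steps.bwd (nat_lit 2) (Steps.bwd (nat_lit 4) (Steps.fwd (nat_lit 1835008) (Steps.fwd (nat_lit 1572864) (Steps.fwd (nat_lit 786432) (Steps.bwd (nat_lit 4) (Steps.bwd (nat_lit 7) Steps.nil))))))) (nat_lit 80) (nat_lit 4),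
  Rule.mk (nat_lit 2) (nat_lit 154) (Steps.fwd (nat_lit 1310720) (Steps.bwd (nat_lit 4) (Steps.fwd (nat_lit 1835008) (Steps.bwd (nat_lit 2) (Steps.bwd (nat_lit 6) (Steps.bwd (nat_lit 4) (Steps.bwd (nat_lit 7) Steps.nil))))))) (nat_lit 86) (nat_lit 1),
  Rule.mk (nat_lit 2) (nat_lit 154) (Steps.fwd (nat_lit 1048576) (Steps.bwd (nat_lit 6) (Steps.bwd (nat_lit 7) (Steps.bwd (nat_lit 2) (Steps.fwd (nat_lit 1048576) (Steps.bwd (nat_lit 5) (Steps.fwd (nat_lit 1835008) Steps.nil))))))) (nat_lit 78) (nat_lit 5),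
  Rule.mk (nat_lit 1) (nat_lit 154) (Steps.bwd (nat_lit 2) (Steps.bwd (nat_lit 1) (Steps.bwd (nat_lit 3) (Steps.fwd (nat_lit 262144) (Steps.fwd (nat_lit 786432) (Steps.bwd (nat_lit 1) (Steps.bwd (nat_lit 3) Steps.nil))))))) (nat_lit 68) (nat_lit 1),
  Rule.mk (nat_lit 1) (nat_lit 154) (Steps.fwd (nat_lit 1835008) (Steps.bwd (nat_lit 2) (Steps.bwd (nat_lit 1) (Steps.fwd (nat_lit 786432) (Steps.bwd (nat_lit 7) (Steps.fwd (nat_lit 262144) (Steps.fwd (nat_lit 786432) Steps.nil))))))) (nat_lit 72) (nat_lit 3),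
  Rule.mk (nat_lit 1) (nat_lit 274) (Steps.bwd (nat_lit 6) (Steps.fwd (nat_lit 262144) (Steps.fwd (nat_lit 786432) (Steps.bwd (nat_lit 1) (Steps.bwd (nat_lit 6) (Steps.bwd (nat_lit 1) (Steps.bwd (nat_lit 2) (Steps.fwd (nat_lit 262144) (Steps.bwd (nat_lit 6) (Steps.bwd (nat_lit 1) (Steps.fwd (nat_lit 1572864) (Steps.bwd (nat_lit 5) (Steps.fwd (nat_lit 786432) Steps.nil))))))))))))) (nat_lit 34) (nat_lit 2),
  Rule.mk (nat_lit 0) (nat_lit 334) (Steps.bwd (nat_lit 4) (Steps.fwd (nat_lit 2359296) (Steps.bwd (nat_lit 4) (Steps.bwd (nat_lit 9) (Steps.bwd (nat_lit 4) (Steps.fwd (nat_lit 2359296) (Steps.bwd (nat_lit 4) (Steps.fwd (nat_lit 2097152) (Steps.bwd (nat_lit 4) (Steps.fwd (nat_lit 2359296) (Steps.fwd (nat_lit 1048576) (Steps.bwd (nat_lit 9) (Steps.fwd (nat_lit 1048576) (Steps.fwd (nat_lit 2359296) (Steps.bwd (nat_lit 4) (Steps.bwd (nat_lit 9) Steps.nil))))))))))))))))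 (nat_lit 106) (nat_lit 3),
  Rule.mk (nat_lit 0) (nat_lit 134) (Steps.bwd (nat_lit 1) (Steps.bwd (nat_lit 4) (Steps.bwd (nat_lit 1) (Steps.fwd (nat_lit 1048576) (Steps.fwd (nat_lit 262144) (Steps.fwd (nat_lit 1048576) Steps.nil)))))) (nat_lit 16) (nat_lit 0),
  Rule.mk (nat_lit 4) (nat_lit 154) (Steps.fwd (nat_lit 524288) (Steps.fwd (nat_lit 1835008) (Steps.fwd (nat_lit 1572864) (Steps.bwd (nat_lit 4) (Steps.bwd (nat_lit 3) (Steps.bwd (nat_lit 7) (Steps.fwd (nat_lit 1310720) Steps.nil))))))) (nat_lit 79) (nat_lit 7),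
  Rule.mk (nat_lit 0) (nat_lit 334) (Steps.bwd (nat_lit 8) (Steps.fwd (nat_lit 1048576) (Steps.bwd (nat_lit 9) (Steps.bwd (nat_lit 4) (Steps.bwd (nat_lit 8) (Steps.bwd (nat_lit 4) (Steps.bwd (nat_lit 9) (Steps.fwd (nat_lit 1048576) (Steps.bwd (nat_lit 8) (Steps.fwd (nat_lit 1048576) (Steps.fwd (nat_lit 2097152) (Steps.fwd (nat_lit 1048576) (Steps.fwd (nat_lit 2359296) (Steps.fwd (nat_lit 1048576) (Steps.fwd (nat_lit 2097152) (Steps.fwd (nat_lit 1048576) Steps.nil)))))))))))))))) (nat_lit 106) (nat_lit 0),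
  Rule.mk (nat_lit 1) (nat_lit 154) (Steps.fwd (nat_lit 1310720) (Steps.bwd (nat_lit 2) (Steps.bwd (nat_lit 1) (Steps.fwd (nat_lit 786432) (Steps.fwd (nat_lit 1310720) (Steps.fwd (nat_lit 262144) (Steps.bwd (nat_lit 2) Steps.nil))))))) (nat_lit 70) (nat_lit 3),
  Rule.mk (nat_lit 1) (nat_lit 154) (Steps.fwd (nat_lit 1835008) (Steps.bwd (nat_lit 2) (Steps.bwd (nat_lit 1) (Steps.fwd (nat_lit 786432) (Steps.fwd (nat_lit 1835008) (Steps.fwd (nat_lit 262144) (Steps.fwd (nat_lit 786432) Steps.nil))))))) (nat_lit 72) (nat_lit 3),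
  Rule.mk (nat_lit 1) (nat_lit 274) (Steps.fwd (nat_lit 1572864) (Steps.fwd (nat_lit 1310720) (Steps.bwd (nat_lit 2) (Steps.bwd (nat_lit 1) (Steps.fwd (nat_lit 1572864) (Steps.bwd (nat_lit 1) (Steps.fwd (nat_lit 786432) (Steps.bwd (nat_lit 1) (Steps.fwd (nat_lit 1572864) (Steps.fwd (nat_lit 262144) (Steps.bwd (nat_lit 2) (Steps.fwd (nat_lit 262144) (Steps.bwd (nat_lit 6) Steps.nil))))))))))))) (nat_lit 34) (nat_lit 12),
  Rule.mk (nat_lit 4) (nat_lit 154) (Steps.bwd (nat_lit 1) (Steps.bwd (nat_lit 7) (Steps.bwd (nat_lit 4) (Steps.bwd (nat_lit 1) (Steps.bwd (nat_lit 4) (Steps.fwd (nat_lit 1835008) (Steps.fwd (nat_lit 262144) Steps.nil))))))) (nat_lit 76) (nat_lit 2),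
  Rule.mk (nat_lit 4) (nat_lit 154) (Steps.fwd (nat_lit 1835008) (Steps.bwd (nat_lit 1) (Steps.fwd (nat_lit 1048576) (Steps.fwd (nat_lit 262144) (Steps.bwd (nat_lit 7) (Steps.fwd (nat_lit 1048576) (Steps.fwd (nat_lit 262144) Steps.nil))))))) (nat_lit 76) (nat_lit 7),
  Rule.mk (nat_lit 3) (nat_lit 114) (Steps.bwd (nat_lit 9) (Steps.bwd (nat_lit 1) (Steps.bwd (nat_lit 8) (Steps.fwd (nat_lit 786432) (Steps.bwd (nat_lit 1) Steps.nil))))) (nat_lit 104) (nat_lit 4),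
  Rule.mk (nat_lit 0) (nat_lit 174) (Steps.bwd (nat_lit 1) (Steps.fwd (nat_lit 524288) (Steps.bwd (nat_lit 1) (Steps.fwd (nat_lit 1835008) (Steps.bwd (nat_lit 3) (Steps.bwd (nat_lit 1) (Steps.bwd (nat_lit 3) (Steps.bwd (nat_lit 7) Steps.nil)))))))) (nat_lit 73) (nat_lit 5),
  Rule.mk (nat_lit 3) (nat_lit 154) (Steps.bwd (nat_lit 5) (Steps.bwd (nat_lit 3) (Steps.bwd (nat_lit 7) (Steps.fwd (nat_lit 1572864) (Steps.bwd (nat_lit 3) (Steps.fwd (nat_lit 1310720) (Steps.bwd (nat_lit 6) Steps.nil))))))) (nat_lit 83) (nat_lit 6),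
  Rule.mk (nat_lit 3) (nat_lit 274) (Steps.fwd (nat_lit 1310720) (Steps.bwd (nat_lit 6) (Steps.bwd (nat_lit 1) (Steps.bwd (nat_lit 6) (Steps.bwd (nat_lit 1) (Steps.fwd (nat_lit 524288) (Steps.fwd (nat_lit 262144) (Steps.fwd (nat_lit 1572864) (Steps.bwd (nat_lit 1) (Steps.bwd (nat_lit 3) (Steps.bwd (nat_lit 1) (Steps.bwd (nat_lit 6) (Steps.fwd (nat_lit 262144) Steps.nil))))))))))))) (nat_lit 35) (nat_lit 0),
  Rule.mk (nat_lit 4) (nat_lit 114) (Steps.bwd (nat_lit 3) (Steps.fwd (nat_lit 1310720) (Steps.fwd (nat_lit 1048576) (Steps.bwd (nat_lit 3) (Steps.fwd (nat_lit 1572864) Steps.nil))))) (nat_lit 55) (nat_lit 2),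
  Rule.mk (nat_lit 4) (nat_lit 114) (Steps.bwd (nat_lit 6) (Steps.bwd (nat_lit 3) (Steps.bwd (nat_lit 4) (Steps.bwd (nat_lit 5) (Steps.bwd (nat_lit 3) Steps.nil))))) (nat_lit 59) (nat_lit 1),
  Rule.mk (nat_lit 6) (nat_lit 114) (Steps.bwd (nat_lit 7) (Steps.bwd (nat_lit 3) (Steps.bwd (nat_lit 6) (Steps.bwd (nat_lit 7) (Steps.bwd (nat_lit 2) Steps.nil))))) (nat_lit 62) (nat_lit 2),
  Rule.mk (nat_lit 4) (nat_lit 154) (Steps.bwd (nat_lit 3) (Steps.fwd (nat_lit 1835008) (Steps.fwd (nat_lit 1310720) (Steps.bwd (nat_lit 4) (Steps.bwd (nat_lit 3) (Steps.fwd (nat_lit 1835008) (Steps.bwd (nat_lit 6) Steps.nil))))))) (nat_lit 79) (nat_lit 3),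
  Rule.mk (nat_lit 4) (nat_lit 154) (Steps.bwd (nat_lit 7) (Steps.bwd (nat_lit 6) (Steps.bwd (nat_lit 3) (Steps.bwd (nat_lit 4) (Steps.bwd (nat_lit 7) (Steps.bwd (nat_lit 5) (Steps.bwd (nat_lit 3) Steps.nil))))))) (nat_lit 89) (nat_lit 1),
  Rule.mk (nat_lit 4) (nat_lit 314) (Steps.fwd (nat_lit 2359296) (Steps.fwd (nat_lit 1048576) (Steps.bwd (nat_lit 9) (Steps.bwd (nat_lit 4) (Steps.fwd (nat_lit 2359296) (Steps.fwd (nat_lit 1048576) (Steps.bwd (nat_lit 9) (Steps.bwd (nat_lit 4) (Steps.fwd (nat_lit 2359296) (Steps.fwd (nat_lit 1048576) (Steps.bwd (nat_lit 9) (Steps.fwd (nat_lit 1048576) (Steps.fwd (nat_lit 2359296) (Steps.fwd (nat_lit 1048576) (Steps.fwd (nat_lit 2097152) Steps.nil))))))))))))))) (nat_lit 106) (nat_lit 0),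
  Rule.mk (nat_lit 6) (nat_lit 114) (Steps.bwd (nat_lit 4) (Steps.bwd (nat_lit 3) (Steps.bwd (nat_lit 5) (Steps.fwd (nat_lit 1048576) (Steps.bwd (nat_lit 3) Steps.nil))))) (nat_lit 55) (nat_lit 1),
  Rule.mk (nat_lit 3) (nat_lit 114) (Steps.bwd (nat_lit 4) (Steps.fwd (nat_lit 1310720) (Steps.bwd (nat_lit 3) (Steps.fwd (nat_lit 1048576) (Steps.fwd (nat_lit 1572864) Steps.nil))))) (nat_lit 59) (nat_lit 3),
  Rule.mk (nat_lit 4) (nat_lit 314) (Steps.fwd (nat_lit 2359296) (Steps.bwd (nat_lit 4) (Steps.bwd (nat_lit 9) (Steps.fwd (nat_lit 1048576) (Steps.fwd (nat_lit 2359296) (Steps.bwd (nat_lit 4) (Steps.bwd (nat_lit 9) (Steps.bwd (nat_lit 4) (Steps.bwd (nat_lit 8) (Steps.fwd (nat_lit 1048576) (Steps.bwd (nat_lit 9) (Steps.fwd (nat_lit 1048576) (Steps.bwd (nat_lit 8) (Steps.bwd (nat_lit 4) (Steps.fwd (nat_lit 2097152) Steps.nil))))))))))))))) (nat_lit 106) (nat_lit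 0),
  Rule.mk (nat_lit 4) (nat_lit 154) (Steps.bwd (nat_lit 6) (Steps.fwd (nat_lit 524288) (Steps.bwd (nat_lit 7) (Steps.bwd (nat_lit 4) (Steps.bwd (nat_lit 5) (Steps.bwd (nat_lit 3) (Steps.bwd (nat_lit 7) Steps.nil))))))) (nat_lit 87) (nat_lit 2),
  Rule.mk (nat_lit 4) (nat_lit 154) (Steps.fwd (nat_lit 1572864) (Steps.bwd (nat_lit 2) (Steps.bwd (nat_lit 7) (Steps.bwd (nat_lit 4) (Steps.bwd (nat_lit 5) (Steps.bwd (nat_lit 2) (Steps.bwd (nat_lit 7) Steps.nil))))))) (nat_lit 90) (nat_lit 7),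
  Rule.mk (nat_lit 4) (nat_lit 314) (Steps.bwd (nat_lit 8) (Steps.fwd (nat_lit 1048576) (Steps.bwd (nat_lit 9) (Steps.bwd (nat_lit 4) (Steps.fwd (nat_lit 2359296) (Steps.fwd (nat_lit 1048576) (Steps.fwd (nat_lit 2097152) (Steps.fwd (nat_lit 1048576) (Steps.bwd (nat_lit 8) (Steps.bwd (nat_lit 4) (Steps.fwd (nat_lit 2097152) (Steps.fwd (nat_lit 1048576) (Steps.fwd (nat_lit 2359296) (Steps.fwd (nat_lit 1048576) (Steps.fwd (nat_lit 2097152) Steps.nil))))))))))))))) (nat_lit 106) (nat_lit 0),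
  Rule.mk (nat_lit 0) (nat_lit 174) (Steps.fwd (nat_lit 524288) (Steps.bwd (nat_lit 7) (Steps.bwd (nat_lit 6) (Steps.fwd (nat_lit 1048576) (Steps.fwd (nat_lit 524288) (Steps.bwd (nat_lit 7) (Steps.bwd (nat_lit 5) (Steps.fwd (nat_lit 1048576) Steps.nil)))))))) (nat_lit 79) (nat_lit 7),
  Rule.mk (nat_lit 4) (nat_lit 154) (Steps.fwd (nat_lit 524288) (Steps.fwd (nat_lit 1835008) (Steps.bwd (nat_lit 5) (Steps.bwd (nat_lit 4) (Steps.fwd (nat_lit 524288) (Steps.bwd (nat_lit 7) (Steps.bwd (nat_lit 6) Steps.nil))))))) (nat_lit 79) (nat_lit 3),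
  Rule.mk (nat_lit 1) (nat_lit 154) (Steps.bwd (nat_lit 4) (Steps.bwd (nat_lit 1) (Steps.bwd (nat_lit 7) (Steps.bwd (nat_lit 4) (Steps.bwd (nat_lit 1) (Steps.bwd (nat_lit 4) (Steps.fwd (nat_lit 1835008) Steps.nil))))))) (nat_lit 76) (nat_lit 1),
  Rule.mk (nat_lit 4) (nat_lit 154) (Steps.fwd (nat_lit 524288) (Steps.bwd (nat_lit 7) (Steps.fwd (nat_lit 1310720) (Steps.bwd (nat_lit 4) (Steps.fwd (nat_lit 524288) (Steps.fwd (nat_lit 1835008) (Steps.bwd (nat_lit 6) Steps.nil))))))) (nat_lit 79) (nat_lit 3),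
  Rule.mk (nat_lit 4) (nat_lit 314) (Steps.fwd (nat_lit 2359296) (Steps.bwd (nat_lit 4) (Steps.bwd (nat_lit 9) (Steps.fwd (nat_lit 1048576) (Steps.bwd (nat_lit 8) (Steps.fwd (nat_lit 1048576) (Steps.bwd (nat_lit 9) (Steps.fwd (nat_lit 1048576) (Steps.fwd (nat_lit 2359296) (Steps.bwd (nat_lit 4) (Steps.bwd (nat_lit 9) (Steps.fwd (nat_lit 1048576) (Steps.bwd (nat_lit 8) (Steps.fwd (nat_lit 1048576) (Steps.fwd (nat_lit 2097152) Steps.nil))))))))))))))) (nat_lit 106) (nat_lit 0),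
  Rule.mk (nat_lit 1) (nat_lit 154) (Steps.fwd (nat_lit 524288) (Steps.fwd (nat_lit 262144) (Steps.bwd (nat_lit 7) (Steps.bwd (nat_lit 3) (Steps.bwd (nat_lit 1) (Steps.bwd (nat_lit 3) (Steps.fwd (nat_lit 1835008) Steps.nil))))))) (nat_lit 73) (nat_lit 6),
  Rule.mk (nat_lit 7) (nat_lit 154) (Steps.bwd (nat_lit 2) (Steps.fwd (nat_lit 262144) (Steps.fwd (nat_lit 786432) (Steps.bwd (nat_lit 7) (Steps.bwd (nat_lit 1) (Steps.fwd (nat_lit 786432) (Steps.bwd (nat_lit 1) Steps.nil))))))) (nat_lit 72) (nat_lit 4),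
  Rule.mk (nat_lit 3) (nat_lit 154) (Steps.bwd (nat_lit 1) (Steps.bwd (nat_lit 7) (Steps.bwd (nat_lit 3) (Steps.bwd (nat_lit 1) (Steps.fwd (nat_lit 524288) (Steps.fwd (nat_lit 1835008) (Steps.fwd (nat_lit 262144) Steps.nil))))))) (nat_lit 73) (nat_lit 7),
  Rule.mk (nat_lit 0) (nat_lit 294) (Steps.fwd (nat_lit 1572864) (Steps.fwd (nat_lit 262144) (Steps.fwd (nat_lit 786432) (Steps.fwd (nat_lit 262144) (Steps.bwd (nat_lit 6) (Steps.fwd (nat_lit 262144) (Steps.bwd (nat_lit 2) (Steps.fwd (nat_lit 262144) (Steps.bwd (nat_lit 6) (Steps.bwd (nat_lit 1) (Steps.bwd (nat_lit 6) (Steps.fwd (nat_lit 1310720) (Steps.fwd (nat_lit 786432) (Steps.fwd (nat_lit 262144) Steps.nil)))))))))))))) (nat_lit 34) (nat_lit 2),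
  Rule.mk (nat_lit 4) (nat_lit 314) (Steps.bwd (nat_lit 9) (Steps.fwd (nat_lit 1048576) (Steps.fwd (nat_lit 2359296) (Steps.bwd (nat_lit 4) (Steps.bwd (nat_lit 9) (Steps.fwd (nat_lit 1048576) (Steps.fwd (nat_lit 2359296) (Steps.bwd (nat_lit 4) (Steps.bwd (nat_lit 9) (Steps.bwd (nat_lit 4) (Steps.fwd (nat_lit 2359296) (Steps.bwd (nat_lit 4) (Steps.bwd (nat_lit 9) (Steps.fwd (nat_lit 1048576) (Steps.fwd (nat_lit 2359296) Steps.nil))))))))))))))) (nat_lit 106) (nat_lit 2),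
  Rule.mk (nat_lit 1) (nat_lit 154) (Steps.bwd (nat_lit 3) (Steps.bwd (nat_lit 1) (Steps.fwd (nat_lit 786432) (Steps.bwd (nat_lit 1) (Steps.bwd (nat_lit 3) (Steps.bwd (nat_lit 1) (Steps.fwd (nat_lit 786432) Steps.nil))))))) (nat_lit 68) (nat_lit 3),
  Rule.mk (nat_lit 0) (nat_lit 174) (Steps.bwd (nat_lit 4) (Steps.fwd (nat_lit 262144) (Steps.bwd (nat_lit 6) (Steps.fwd (nat_lit 262144) (Steps.bwd (nat_lit 4) (Steps.bwd (nat_lit 1) (Steps.fwd (nat_lit 1572864) (Steps.fwd (nat_lit 262144) Steps.nil)))))))) (nat_lit 74) (nat_lit 1),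
  Rule.mk (nat_lit 9) (nat_lit 114) (Steps.fwd (nat_lit 262144) (Steps.fwd (nat_lit 2359296) (Steps.fwd (nat_lit 786432) (Steps.bwd (nat_lit 1) (Steps.bwd (nat_lit 3) Steps.nil))))) (nat_lit 104) (nat_lit 5),
  Rule.mk (nat_lit 1) (nat_lit 154) (Steps.fwd (nat_lit 1048576) (Steps.fwd (nat_lit 262144) (Steps.bwd (nat_lit 7) (Steps.fwd (nat_lit 1048576) (Steps.bwd (nat_lit 1) (Steps.bwd (nat_lit 4) (Steps.bwd (nat_lit 7) Steps.nil))))))) (nat_lit 76) (nat_lit 1),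
  Rule.mk (nat_lit 1) (nat_lit 154) (Steps.fwd (nat_lit 524288) (Steps.fwd (nat_lit 1835008) (Steps.bwd (nat_lit 1) (Steps.bwd (nat_lit 3) (Steps.bwd (nat_lit 1) (Steps.bwd (nat_lit 7) (Steps.fwd (nat_lit 524288) Steps.nil))))))) (nat_lit 73) (nat_lit 3),
  Rule.mk (nat_lit 1) (nat_lit 274) (Steps.bwd (nat_lit 6) (Steps.fwd (nat_lit 262144) (Steps.fwd (nat_lit 786432) (Steps.bwd (nat_lit 1) (Steps.fwd (nat_lit 1572864) (Steps.fwd (nat_lit 262144) (Steps.bwd (nat_lit 2) (Steps.bwd (nat_lit 1) (Steps.bwd (nat_lit 6) (Steps.bwd (nat_lit 1) (Steps.fwd (nat_lit 1572864) (Steps.bwd (nat_lit 5) (Steps.fwd (nat_lit 786432) Steps.nil))))))))))))) (nat_lit 34) (nat_lit 2),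
  Rule.mk (nat_lit 1) (nat_lit 274) (Steps.bwd (nat_lit 6) (Steps.bwd (nat_lit 5) (Steps.bwd (nat_lit 2) (Steps.bwd (nat_lit 1) (Steps.fwd (nat_lit 1572864) (Steps.bwd (nat_lit 1) (Steps.fwd (nat_lit 786432) (Steps.fwd (nat_lit 262144) (Steps.fwd (nat_lit 1572864) (Steps.bwd (nat_lit 1) (Steps.bwd (nat_lit 2) (Steps.bwd (nat_lit 1) (Steps.fwd (nat_lit 1572864) Steps.nil))))))))))))) (nat_lit 34) (nat_lit 12),
  Rule.mk (nat_lit 5) (nat_lit 114) (Steps.bwd (nat_lit 1) (Steps.bwd (nat_lit 7) (Steps.fwd (nat_lit 1310720) (Steps.bwd (nat_lit 1) (Steps.fwd (nat_lit 1835008) Steps.nil))))) (nat_lit 53) (nat_lit 2),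
  Rule.mk (nat_lit 1) (nat_lit 154) (Steps.bwd (nat_lit 3) (Steps.fwd (nat_lit 1835008) (Steps.fwd (nat_lit 262144) (Steps.bwd (nat_lit 3) (Steps.bwd (nat_lit 1) (Steps.fwd (nat_lit 1835008) (Steps.bwd (nat_lit 3) Steps.nil))))))) (nat_lit 73) (nat_lit 3),
  Rule.mk (nat_lit 1) (nat_lit 154) (Steps.bwd (nat_lit 3) (Steps.bwd (nat_lit 7) (Steps.bwd (nat_lit 1) (Steps.fwd (nat_lit 524288) (Steps.bwd (nat_lit 1) (Steps.fwd (nat_lit 1835008) (Steps.bwd (nat_lit 3) Steps.nil))))))) (nat_lit 73) (nat_lit 3),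
  Rule.mk (nat_lit 1) (nat_lit 274) (Steps.fwd (nat_lit 524288) (Steps.bwd (nat_lit 5) (Steps.fwd (nat_lit 1572864) (Steps.bwd (nat_lit 1) (Steps.bwd (nat_lit 6) (Steps.bwd (nat_lit 1) (Steps.bwd (nat_lit 3) (Steps.bwd (nat_lit 1) (Steps.bwd (nat_lit 6) (Steps.fwd (nat_lit 262144) (Steps.bwd (nat_lit 3) (Steps.fwd (nat_lit 262144) (Steps.bwd (nat_lit 6) Steps.nil))))))))))))) (nat_lit 35) (nat_lit 13),
  Rule.mk (nat_lit 1) (nat_lit 274) (Steps.fwd (nat_lit 1572864) (Steps.fwd (nat_lit 262144) (Steps.bwd (nat_lit 2) (Steps.fwd (nat_lit 262144) (Steps.bwd (nat_lit 6) (Steps.bwd (nat_lit 1) (Steps.bwd (nat_lit 2) (Steps.bwd (nat_lit 1) (Steps.bwd (nat_lit 6) (Steps.bwd (nat_lit 1) (Steps.bwd (nat_lit 6) (Steps.bwd (nat_lit 5) (Steps.fwd (nat_lit 786432) Steps.nil))))))))))))) (nat_lit 34) (nat_lit 2),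
  Rule.mk (nat_lit 1) (nat_lit 154) (Steps.bwd (nat_lit 3) (Steps.bwd (nat_lit 1) (Steps.fwd (nat_lit 1310720) (Steps.fwd (nat_lit 524288) (Steps.fwd (nat_lit 262144) (Steps.bwd (nat_lit 3) (Steps.bwd (nat_lit 5) Steps.nil))))))) (nat_lit 71) (nat_lit 6),
  Rule.mk (nat_lit 1) (nat_lit 274) (Steps.bwd (nat_lit 6) (Steps.bwd (nat_lit 1) (Steps.fwd (nat_lit 524288) (Steps.bwd (nat_lit 5) (Steps.bwd (nat_lit 6) (Steps.fwd (nat_lit 262144) (Steps.fwd (nat_lit 1572864) (Steps.bwd (nat_lit 1) (Steps.fwd (nat_lit 524288) (Steps.fwd (nat_lit 262144) (Steps.bwd (nat_lit 6) (Steps.fwd (nat_lit 262144) (Steps.bwd (nat_lit 3) Steps.nil))))))))))))) (nat_lit 35) (nat_lit 11),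
  Rule.mk (nat_lit 1) (nat_lit 154) (Steps.fwd (nat_lit 524288) (Steps.bwd (nat_lit 5) (Steps.fwd (nat_lit 262144) (Steps.bwd (nat_lit 3) (Steps.bwd (nat_lit 1) (Steps.fwd (nat_lit 1310720) (Steps.bwd (nat_lit 3) Steps.nil))))))) (nat_lit 71) (nat_lit 3),
  Rule.mk (nat_lit 1) (nat_lit 274) (Steps.bwd (nat_lit 6) (Steps.bwd (nat_lit 1) (Steps.fwd (nat_lit 524288) (Steps.bwd (nat_lit 1) (Steps.bwd (nat_lit 6) (Steps.bwd (nat_lit 1) (Steps.fwd (nat_lit 524288) (Steps.fwd (nat_lit 262144) (Steps.bwd (nat_lit 6) (Steps.fwd (nat_lit 262144) (Steps.bwd (nat_lit 3) (Steps.bwd (nat_lit 5) (Steps.fwd (nat_lit 1572864) Steps.nil))))))))))))) (nat_lit 35) (nat_lit 3),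
  Rule.mk (nat_lit 1) (nat_lit 274) (Steps.bwd (nat_lit 6) (Steps.fwd (nat_lit 1310720) (Steps.fwd (nat_lit 786432) (Steps.bwd (nat_lit 1) (Steps.bwd (nat_lit 6) (Steps.bwd (nat_lit 1) (Steps.fwd (nat_lit 786432) (Steps.fwd (nat_lit 262144) (Steps.bwd (nat_lit 6) (Steps.bwd (nat_lit 1) (Steps.bwd (nat_lit 2) (Steps.bwd (nat_lit 1) (Steps.bwd (nat_lit 6) Steps.nil))))))))))))) (nat_lit 34) (nat_lit 12),
  Rule.mk (nat_lit 6) (nat_lit 274) (Steps.bwd (nat_lit 1) (Steps.bwd (nat_lit 3) (Steps.bwd (nat_lit 1) (Steps.bwd (nat_lit 6) (Steps.bwd (nat_lit 1) (Steps.fwd (nat_lit 524288) (Steps.fwd (nat_lit 1310720) (Steps.bwd (nat_lit 6) (Steps.bwd (nat_lit 1) (Steps.bwd (nat_lit 6) (Steps.bwd (nat_lit 1) (Steps.fwd (nat_lit 524288) (Steps.fwd (nat_lit 262144) Steps.nil))))))))))))) (nat_lit 35) (nat_lit 8),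
  Rule.mk (nat_lit 0) (nat_lit 94) (Steps.bwd (nat_lit 3) (Steps.bwd (nat_lit 6) (Steps.bwd (nat_lit 2) (Steps.bwd (nat_lit 6) Steps.nil)))) (nat_lit 40) (nat_lit 2),
  Rule.mk (nat_lit 4) (nat_lit 114) (Steps.bwd (nat_lit 6) (Steps.bwd (nat_lit 3) (Steps.fwd (nat_lit 1048576) (Steps.bwd (nat_lit 5) (Steps.fwd (nat_lit 524288) Steps.nil))))) (nat_lit 59) (nat_lit 1),
  Rule.mk (nat_lit 4) (nat_lit 154) (Steps.bwd (nat_lit 7) (Steps.bwd (nat_lit 6) (Steps.bwd (nat_lit 2) (Steps.bwd (nat_lit 4) (Steps.bwd (nat_lit 7) (Steps.fwd (nat_lit 1310720) (Steps.fwd (nat_lit 786432) Steps.nil))))))) (nat_lit 80) (nat_lit 6)]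
noncomputable def R_80 : List (Rule) := [Rule.mk (nat_lit 3) (nat_lit 114) (Steps.fwd (nat_lit 1835008) (Steps.bwd (nat_lit 6) (Steps.fwd (nat_lit 786432) (Steps.bwd (nat_lit 7) (Steps.fwd (nat_lit 1572864) Steps.nil))))) (nat_lit 63) (nat_lit 0),
  Rule.mk (nat_lit 1) (nat_lit 154) (Steps.bwd (nat_lit 3) (Steps.fwd (nat_lit 1835008) (Steps.bwd (nat_lit 1) (Steps.fwd (nat_lit 524288) (Steps.fwd (nat_lit 262144) (Steps.fwd (nat_lit 1835008) (Steps.fwd (nat_lit 524288) Steps.nil))))))) (nat_lit 73) (nat_lit 3),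
  Rule.mk (nat_lit 4) (nat_lit 154) (Steps.fwd (nat_lit 262144) (Steps.bwd (nat_lit 6) (Steps.bwd (nat_lit 1) (Steps.fwd (nat_lit 1048576) (Steps.fwd (nat_lit 262144) (Steps.bwd (nat_lit 6) (Steps.bwd (nat_lit 1) Steps.nil))))))) (nat_lit 74) (nat_lit 2),
  Rule.mk (nat_lit 9) (nat_lit 314) (Steps.bwd (nat_lit 4) (Steps.fwd (nat_lit 2359296) (Steps.bwd (nat_lit 4) (Steps.bwd (nat_lit 9) (Steps.bwd (nat_lit 4) (Steps.fwd (nat_lit 2359296) (Steps.fwd (nat_lit 1048576) (Steps.fwd (nat_lit 2097152) (Steps.fwd (nat_lit 1048576) (Steps.fwd (nat_lit 2359296) (Steps.bwd (nat_lit 4) (Steps.bwd (nat_lit 9) (Steps.fwd (nat_lit 1048576) (Steps.fwd (nat_lit 2359296) (Steps.fwd (nat_lit 1048576) Steps.nil))))))))))))))) (nat_lit 106) (nat_lit 3),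
  Rule.mk (nat_lit 1) (nat_lit 154) (Steps.fwd (nat_lit 786432) (Steps.fwd (nat_lit 262144) (Steps.bwd (nat_lit 3) (Steps.bwd (nat_lit 1) (Steps.fwd (nat_lit 786432) (Steps.bwd (nat_lit 1) (Steps.bwd (nat_lit 3) Steps.nil))))))) (nat_lit 68) (nat_lit 1),
  Rule.mk (nat_lit 4) (nat_lit 154) (Steps.fwd (nat_lit 262144) (Steps.fwd (nat_lit 1835008) (Steps.bwd (nat_lit 4) (Steps.bwd (nat_lit 1) (Steps.bwd (nat_lit 4) (Steps.bwd (nat_lit 7) (Steps.fwd (nat_lit 262144) Steps.nil))))))) (nat_lit 76) (nat_lit 2),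
  Rule.mk (nat_lit 1) (nat_lit 274) (Steps.bwd (nat_lit 6) (Steps.bwd (nat_lit 5) (Steps.bwd (nat_lit 2) (Steps.fwd (nat_lit 262144) (Steps.fwd (nat_lit 1572864) (Steps.bwd (nat_lit 1) (Steps.bwd (nat_lit 2) (Steps.bwd (nat_lit 1) (Steps.bwd (nat_lit 6) (Steps.fwd (nat_lit 262144) (Steps.fwd (nat_lit 786432) (Steps.fwd (nat_lit 262144) (Steps.fwd (nat_lit 1572864) Steps.nil))))))))))))) (nat_lit 34) (nat_lit 12),
  Rule.mk (nat_lit 0) (nat_lit 94) (Steps.bwd (nat_lit 4) (Steps.bwd (nat_lit 6) (Steps.bwd (nat_lit 4) (Steps.bwd (nat_lit 5) Steps.nil)))) (nat_lit 22) (nat_lit 2),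
  Rule.mk (nat_lit 2) (nat_lit 114) (Steps.bwd (nat_lit 4) (Steps.bwd (nat_lit 7) (Steps.fwd (nat_lit 786432) (Steps.bwd (nat_lit 4) (Steps.bwd (nat_lit 7) Steps.nil))))) (nat_lit 56) (nat_lit 1),
  Rule.mk (nat_lit 3) (nat_lit 114) (Steps.bwd (nat_lit 4) (Steps.bwd (nat_lit 7) (Steps.bwd (nat_lit 3) (Steps.bwd (nat_lit 4) (Steps.bwd (nat_lit 7) Steps.nil))))) (nat_lit 65) (nat_lit 0),
  Rule.mk (nat_lit 6) (nat_lit 114) (Steps.bwd (nat_lit 4) (Steps.bwd (nat_lit 7) (Steps.bwd (nat_lit 5) (Steps.bwd (nat_lit 4) (Steps.bwd (nat_lit 7) Steps.nil))))) (nat_lit 67) (nat_lit 2),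
  Rule.mk (nat_lit 4) (nat_lit 154) (Steps.fwd (nat_lit 262144) (Steps.bwd (nat_lit 6) (Steps.fwd (nat_lit 262144) (Steps.bwd (nat_lit 4) (Steps.bwd (nat_lit 1) (Steps.bwd (nat_lit 6) (Steps.fwd (nat_lit 262144) Steps.nil))))))) (nat_lit 74) (nat_lit 2),
  Rule.mk (nat_lit 0) (nat_lit 134) (Steps.bwd (nat_lit 4) (Steps.fwd (nat_lit 1835008) (Steps.bwd (nat_lit 6) (Steps.fwd (nat_lit 1048576) (Steps.bwd (nat_lit 7) (Steps.fwd (nat_lit 1310720) Steps.nil)))))) (nat_lit 67) (nat_lit 5),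
  Rule.mk (nat_lit 1) (nat_lit 154) (Steps.bwd (nat_lit 4) (Steps.fwd (nat_lit 262144) (Steps.bwd (nat_lit 7) (Steps.bwd (nat_lit 4) (Steps.fwd (nat_lit 262144) (Steps.bwd (nat_lit 4) (Steps.fwd (nat_lit 1835008) Steps.nil))))))) (nat_lit 76) (nat_lit 1),
  Rule.mk (nat_lit 3) (nat_lit 154) (Steps.fwd (nat_lit 1310720) (Steps.bwd (nat_lit 1) (Steps.fwd (nat_lit 524288) (Steps.fwd (nat_lit 262144) (Steps.bwd (nat_lit 5) (Steps.fwd (nat_lit 524288) (Steps.bwd (nat_lit 1) Steps.nil))))))) (nat_lit 71) (nat_lit 4),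
  Rule.mk (nat_lit 2) (nat_lit 274) (Steps.bwd (nat_lit 1) (Steps.fwd (nat_lit 1572864) (Steps.fwd (nat_lit 262144) (Steps.bwd (nat_lit 2) (Steps.bwd (nat_lit 1) (Steps.fwd (nat_lit 1572864) (Steps.bwd (nat_lit 1) (Steps.fwd (nat_lit 1572864) (Steps.bwd (nat_lit 5) (Steps.fwd (nat_lit 786432) (Steps.fwd (nat_lit 262144) (Steps.fwd (nat_lit 1572864) (Steps.fwd (nat_lit 262144) Steps.nil))))))))))))) (nat_lit 34) (nat_lit 5),
  Rule.mk (nat_lit 3) (nat_lit 74) (Steps.fwd (nat_lit 1835008) (Steps.bwd (nat_lit 2) (Steps.fwd (nat_lit 1835008) Steps.nil))) (nat_lit 28) (nat_lit 0),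
  Rule.mk (nat_lit 6) (nat_lit 154) (Steps.fwd (nat_lit 1835008) (Steps.bwd (nat_lit 2) (Steps.fwd (nat_lit 1310720) (Steps.bwd (nat_lit 2) (Steps.bwd (nat_lit 6) (Steps.fwd (nat_lit 1310720) (Steps.fwd (nat_lit 786432) Steps.nil))))))) (nat_lit 82) (nat_lit 7),
  Rule.mk (nat_lit 6) (nat_lit 154) (Steps.bwd (nat_lit 2) (Steps.fwd (nat_lit 1310720) (Steps.bwd (nat_lit 2) (Steps.fwd (nat_lit 1835008) (Steps.bwd (nat_lit 6) (Steps.bwd (nat_lit 2) (Steps.bwd (nat_lit 5) Steps.nil))))))) (nat_lit 84) (nat_lit 0),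
  Rule.mk (nat_lit 4) (nat_lit 154) (Steps.bwd (nat_lit 7) (Steps.bwd (nat_lit 3) (Steps.fwd (nat_lit 1310720) (Steps.bwd (nat_lit 4) (Steps.fwd (nat_lit 1835008) (Steps.bwd (nat_lit 3) (Steps.bwd (nat_lit 6) Steps.nil))))))) (nat_lit 91) (nat_lit 2),
  Rule.mk (nat_lit 4) (nat_lit 314) (Steps.fwd (nat_lit 2359296) (Steps.bwd (nat_lit 4) (Steps.bwd (nat_lit 9) (Steps.fwd (nat_lit 1048576) (Steps.fwd (nat_lit 2359296) (Steps.bwd (nat_lit 4) (Steps.bwd (nat_lit 9) (Steps.bwd (nat_lit 4) (Steps.fwd (nat_lit 2359296) (Steps.fwd (nat_lit 1048576) (Steps.bwd (nat_lit 9) (Steps.fwd (nat_lit 1048576) (Steps.fwd (nat_lit 2359296) (Steps.bwd (nat_lit 4) (Steps.fwd (nat_lit 2097152) Steps.nil))))))))))))))) (nat_lit 106) (nat_lit 0),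
  Rule.mk (nat_lit 4) (nat_lit 114) (Steps.fwd (nat_lit 1835008) (Steps.bwd (nat_lit 6) (Steps.bwd (nat_lit 4) (Steps.bwd (nat_lit 7) (Steps.bwd (nat_lit 5) Steps.nil))))) (nat_lit 67) (nat_lit 0),
  Rule.mk (nat_lit 4) (nat_lit 314) (Steps.bwd (nat_lit 8) (Steps.fwd (nat_lit 1048576) (Steps.fwd (nat_lit 2097152) (Steps.bwd (nat_lit 4) (Steps.fwd (nat_lit 2359296) (Steps.fwd (nat_lit 1048576) (Steps.fwd (nat_lit 2097152) (Steps.bwd (nat_lit 4) (Steps.bwd (nat_lit 8) (Steps.bwd (nat_lit 4) (Steps.fwd (nat_lit 2097152) (Steps.fwd (nat_lit 1048576) (Steps.fwd (nat_lit 2359296) (Steps.bwd (nat_lit 4) (Steps.bwd (nat_lit 9) Steps.nil))))))))))))))) (nat_lit 106) (nat_lit 0),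
  Rule.mk (nat_lit 6) (nat_lit 154) (Steps.bwd (nat_lit 3) (Steps.fwd (nat_lit 1048576) (Steps.bwd (nat_lit 7) (Steps.fwd (nat_lit 1310720) (Steps.bwd (nat_lit 3) (Steps.bwd (nat_lit 4) (Steps.fwd (nat_lit 1835008) Steps.nil))))))) (nat_lit 89) (nat_lit 3),
  Rule.mk (nat_lit 7) (nat_lit 154) (Steps.bwd (nat_lit 3) (Steps.fwd (nat_lit 1048576) (Steps.fwd (nat_lit 1310720) (Steps.bwd (nat_lit 7) (Steps.bwd (nat_lit 3) (Steps.bwd (nat_lit 4) (Steps.bwd (nat_lit 6) Steps.nil))))))) (nat_lit 93) (nat_lit 3),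
  Rule.mk (nat_lit 3) (nat_lit 114) (Steps.bwd (nat_lit 5) (Steps.bwd (nat_lit 7) (Steps.bwd (nat_lit 2) (Steps.bwd (nat_lit 5) (Steps.bwd (nat_lit 7) Steps.nil))))) (nat_lit 60) (nat_lit 4),
  Rule.mk (nat_lit 2) (nat_lit 154) (Steps.bwd (nat_lit 4) (Steps.bwd (nat_lit 6) (Steps.bwd (nat_lit 7) (Steps.fwd (nat_lit 786432) (Steps.fwd (nat_lit 1048576) (Steps.bwd (nat_lit 5) (Steps.bwd (nat_lit 7) Steps.nil))))))) (nat_lit 78) (nat_lit 5),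
  Rule.mk (nat_lit 2) (nat_lit 154) (Steps.fwd (nat_lit 1310720) (Steps.fwd (nat_lit 786432) (Steps.bwd (nat_lit 7) (Steps.bwd (nat_lit 6) (Steps.bwd (nat_lit 2) (Steps.bwd (nat_lit 5) (Steps.fwd (nat_lit 1572864) Steps.nil))))))) (nat_lit 84) (nat_lit 1),
  Rule.mk (nat_lit 0) (nat_lit 174) (Steps.bwd (nat_lit 1) (Steps.bwd (nat_lit 4) (Steps.fwd (nat_lit 262144) (Steps.fwd (nat_lit 1572864) (Steps.bwd (nat_lit 1) (Steps.bwd (nat_lit 4) (Steps.bwd (nat_lit 1) (Steps.bwd (nat_lit 6) Steps.nil)))))))) (nat_lit 74) (nat_lit 0),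
  Rule.mk (nat_lit 0) (nat_lit 174) (Steps.bwd (nat_lit 4) (Steps.bwd (nat_lit 1) (Steps.bwd (nat_lit 7) (Steps.fwd (nat_lit 1048576) (Steps.fwd (nat_lit 262144) (Steps.bwd (nat_lit 4) (Steps.bwd (nat_lit 7) (Steps.fwd (nat_lit 262144) Steps.nil)))))))) (nat_lit 76) (nat_lit 1),
  Rule.mk (nat_lit 6) (nat_lit 114) (Steps.bwd (nat_lit 4) (Steps.bwd (nat_lit 7) (Steps.fwd (nat_lit 1310720) (Steps.bwd (nat_lit 4) (Steps.fwd (nat_lit 1835008) Steps.nil))))) (nat_lit 67) (nat_lit 2),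
  Rule.mk (nat_lit 1) (nat_lit 154) (Steps.bwd (nat_lit 4) (Steps.bwd (nat_lit 7) (Steps.fwd (nat_lit 262144) (Steps.bwd (nat_lit 4) (Steps.bwd (nat_lit 1) (Steps.fwd (nat_lit 1835008) (Steps.fwd (nat_lit 1048576) Steps.nil))))))) (nat_lit 76) (nat_lit 6),
  Rule.mk (nat_lit 8) (nat_lit 314) (Steps.bwd (nat_lit 4) (Steps.bwd (nat_lit 9) (Steps.fwd (nat_lit 1048576) (Steps.bwd (nat_lit 8) (Steps.bwd (nat_lit 4) (Steps.bwd (nat_lit 9) (Steps.fwd (nat_lit 1048576) (Steps.fwd (nat_lit 2359296) (Steps.fwd (nat_lit 1048576) (Steps.bwd (nat_lit 9) (Steps.bwd (nat_lit 4) (Steps.bwd (nat_lit 8) (Steps.fwd (nat_lit 1048576) (Steps.bwd (nat_lit 9) (Steps.fwd (nat_lit 1048576) Steps.nil))))))))))))))) (nat_lit 106) (nat_lit 1),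
  Rule.mk (nat_lit 1) (nat_lit 154) (Steps.fwd (nat_lit 786432) (Steps.fwd (nat_lit 262144) (Steps.bwd (nat_lit 5) (Steps.bwd (nat_lit 2) (Steps.bwd (nat_lit 1) (Steps.bwd (nat_lit 2) (Steps.fwd (nat_lit 1310720) Steps.nil))))))) (nat_lit 70) (nat_lit 1),
  Rule.mk (nat_lit 0) (nat_lit 134) (Steps.bwd (nat_lit 9) (Steps.bwd (nat_lit 1) (Steps.fwd (nat_lit 2359296) (Steps.bwd (nat_lit 2) (Steps.bwd (nat_lit 1) (Steps.fwd (nat_lit 524288) Steps.nil)))))) (nat_lit 104) (nat_lit 4),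
  Rule.mk (nat_lit 6) (nat_lit 114) (Steps.fwd (nat_lit 524288) (Steps.bwd (nat_lit 7) (Steps.fwd (nat_lit 1572864) (Steps.fwd (nat_lit 786432) (Steps.fwd (nat_lit 1835008) Steps.nil))))) (nat_lit 63) (nat_lit 5),
  Rule.mk (nat_lit 1) (nat_lit 154) (Steps.bwd (nat_lit 3) (Steps.bwd (nat_lit 1) (Steps.bwd (nat_lit 7) (Steps.bwd (nat_lit 3) (Steps.fwd (nat_lit 262144) (Steps.fwd (nat_lit 524288) (Steps.bwd (nat_lit 7) Steps.nil))))))) (nat_lit 73) (nat_lit 6),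
  Rule.mk (nat_lit 1) (nat_lit 154) (Steps.bwd (nat_lit 4) (Steps.fwd (nat_lit 262144) (Steps.fwd (nat_lit 1572864) (Steps.fwd (nat_lit 262144) (Steps.fwd (nat_lit 1048576) (Steps.bwd (nat_lit 1) (Steps.fwd (nat_lit 1572864) Steps.nil))))))) (nat_lit 74) (nat_lit 1),
  Rule.mk (nat_lit 1) (nat_lit 154) (Steps.fwd (nat_lit 524288) (Steps.bwd (nat_lit 1) (Steps.bwd (nat_lit 2) (Steps.fwd (nat_lit 262144) (Steps.bwd (nat_lit 3) (Steps.bwd (nat_lit 1) (Steps.bwd (nat_lit 2) Steps.nil))))))) (nat_lit 68) (nat_lit 3),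
  Rule.mk (nat_lit 1) (nat_lit 154) (Steps.bwd (nat_lit 4) (Steps.fwd (nat_lit 262144) (Steps.fwd (nat_lit 1572864) (Steps.bwd (nat_lit 1) (Steps.fwd (nat_lit 1048576) (Steps.bwd (nat_lit 1) (Steps.fwd (nat_lit 1572864) Steps.nil))))))) (nat_lit 74) (nat_lit 1),
  Rule.mk (nat_lit 0) (nat_lit 174) (Steps.bwd (nat_lit 1) (Steps.fwd (nat_lit 1310720) (Steps.bwd (nat_lit 3) (Steps.fwd (nat_lit 262144) (Steps.bwd (nat_lit 3) (Steps.fwd (nat_lit 1310720) (Steps.bwd (nat_lit 1) (Steps.fwd (nat_lit 524288) Steps.nil)))))))) (nat_lit 71) (nat_lit 7),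
  Rule.mk (nat_lit 8) (nat_lit 314) (Steps.bwd (nat_lit 4) (Steps.bwd (nat_lit 9) (Steps.bwd (nat_lit 4) (Steps.bwd (nat_lit 8) (Steps.bwd (nat_lit 4) (Steps.bwd (nat_lit 9) (Steps.fwd (nat_lit 1048576) (Steps.fwd (nat_lit 2359296) (Steps.bwd (nat_lit 4) (Steps.bwd (nat_lit 9) (Steps.fwd (nat_lit 1048576) (Steps.fwd (nat_lit 2359296) (Steps.fwd (nat_lit 1048576) (Steps.bwd (nat_lit 9) (Steps.fwd (nat_lit 1048576) Steps.nil))))))))))))))) (nat_lit 106) (nat_lit 1),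
  Rule.mk (nat_lit 4) (nat_lit 154) (Steps.bwd (nat_lit 1) (Steps.bwd (nat_lit 4) (Steps.fwd (nat_lit 1835008) (Steps.fwd (nat_lit 262144) (Steps.bwd (nat_lit 4) (Steps.bwd (nat_lit 1) (Steps.bwd (nat_lit 7) Steps.nil))))))) (nat_lit 76) (nat_lit 5),
  Rule.mk (nat_lit 0) (nat_lit 174) (Steps.bwd (nat_lit 4) (Steps.fwd (nat_lit 262144) (Steps.fwd (nat_lit 1048576) (Steps.bwd (nat_lit 7) (Steps.bwd (nat_lit 1) (Steps.fwd (nat_lit 1048576) (Steps.fwd (nat_lit 262144) (Steps.fwd (nat_lit 1835008) Steps.nil)))))))) (nat_lit 76) (nat_lit 4),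
  Rule.mk (nat_lit 4) (nat_lit 314) (Steps.bwd (nat_lit 9) (Steps.bwd (nat_lit 4) (Steps.fwd (nat_lit 2359296) (Steps.bwd (nat_lit 4) (Steps.fwd (nat_lit 2097152) (Steps.bwd (nat_lit 4) (Steps.fwd (nat_lit 2359296) (Steps.fwd (nat_lit 1048576) (Steps.bwd (nat_lit 9) (Steps.bwd (nat_lit 4) (Steps.fwd (nat_lit 2359296) (Steps.fwd (nat_lit 1048576) (Steps.bwd (nat_lit 9) (Steps.fwd (nat_lit 1048576) (Steps.bwd (nat_lit 8) Steps.nil))))))))))))))) (nat_lit 106) (nat_lit 2),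
  Rule.mk (nat_lit 4) (nat_lit 114) (Steps.bwd (nat_lit 3) (Steps.fwd (nat_lit 1572864) (Steps.bwd (nat_lit 4) (Steps.fwd (nat_lit 524288) (Steps.fwd (nat_lit 1310720) Steps.nil))))) (nat_lit 55) (nat_lit 5),
  Rule.mk (nat_lit 4) (nat_lit 154) (Steps.fwd (nat_lit 1310720) (Steps.fwd (nat_lit 1835008) (Steps.fwd (nat_lit 786432) (Steps.bwd (nat_lit 4) (Steps.bwd (nat_lit 6) (Steps.bwd (nat_lit 7) (Steps.fwd (nat_lit 786432) Steps.nil))))))) (nat_lit 78) (nat_lit 2),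
  Rule.mk (nat_lit 4) (nat_lit 314) (Steps.bwd (nat_lit 9) (Steps.bwd (nat_lit 4) (Steps.bwd (nat_lit 8) (Steps.bwd (nat_lit 4) (Steps.bwd (nat_lit 9) (Steps.bwd (nat_lit 4) (Steps.bwd (nat_lit 8) (Steps.bwd (nat_lit 4) (Steps.bwd (nat_lit 9) (Steps.bwd (nat_lit 4) (Steps.bwd (nat_lit 8) (Steps.bwd (nat_lit 4) (Steps.bwd (nat_lit 9) (Steps.fwd (nat_lit 1048576) (Steps.bwd (nat_lit 8) Steps.nil))))))))))))))) (nat_lit 106) (nat_lit 2),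
  Rule.mk (nat_lit 2) (nat_lit 114) (Steps.fwd (nat_lit 1048576) (Steps.bwd (nat_lit 5) (Steps.bwd (nat_lit 2) (Steps.bwd (nat_lit 4) (Steps.bwd (nat_lit 6) Steps.nil))))) (nat_lit 54) (nat_lit 1),
  Rule.mk (nat_lit 7) (nat_lit 114) (Steps.bwd (nat_lit 4) (Steps.fwd (nat_lit 1310720) (Steps.fwd (nat_lit 1835008) (Steps.bwd (nat_lit 4) (Steps.bwd (nat_lit 6) Steps.nil))))) (nat_lit 66) (nat_lit 0),
  Rule.mk (nat_lit 4) (nat_lit 154) (Steps.fwd (nat_lit 524288) (Steps.bwd (nat_lit 6) (Steps.fwd (nat_lit 1835008) (Steps.bwd (nat_lit 4) (Steps.fwd (nat_lit 524288) (Steps.bwd (nat_lit 5) (Steps.fwd (nat_lit 1835008) Steps.nil))))))) (nat_lit 81) (nat_lit 7),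
  Rule.mk (nat_lit 0) (nat_lit 174) (Steps.bwd (nat_lit 5) (Steps.fwd (nat_lit 1835008) (Steps.fwd (nat_lit 1048576) (Steps.bwd (nat_lit 2) (Steps.bwd (nat_lit 6) (Steps.fwd (nat_lit 1835008) (Steps.fwd (nat_lit 1048576) (Steps.bwd (nat_lit 2) Steps.nil)))))))) (nat_lit 88) (nat_lit 1),
  Rule.mk (nat_lit 0) (nat_lit 174) (Steps.bwd (nat_lit 4) (Steps.fwd (nat_lit 262144) (Steps.bwd (nat_lit 6) (Steps.bwd (nat_lit 1) (Steps.bwd (nat_lit 4) (Steps.bwd (nat_lit 1) (Steps.fwd (nat_lit 1572864) (Steps.fwd (nat_lit 262144) Steps.nil)))))))) (nat_lit 74) (nat_lit 1),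
  Rule.mk (nat_lit 4) (nat_lit 154) (Steps.fwd (nat_lit 524288) (Steps.bwd (nat_lit 7) (Steps.bwd (nat_lit 5) (Steps.bwd (nat_lit 4) (Steps.fwd (nat_lit 524288) (Steps.bwd (nat_lit 7) (Steps.fwd (nat_lit 1572864) Steps.nil))))))) (nat_lit 79) (nat_lit 3),
  Rule.mk (nat_lit 6) (nat_lit 154) (Steps.bwd (nat_lit 7) (Steps.bwd (nat_lit 4) (Steps.bwd (nat_lit 2) (Steps.bwd (nat_lit 5) (Steps.fwd (nat_lit 1835008) (Steps.bwd (nat_lit 4) (Steps.fwd (nat_lit 786432) Steps.nil))))))) (nat_lit 88) (nat_lit 6),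
  Rule.mk (nat_lit 4) (nat_lit 114) (Steps.fwd (nat_lit 1572864) (Steps.bwd (nat_lit 3) (Steps.fwd (nat_lit 1048576) (Steps.fwd (nat_lit 1310720) (Steps.fwd (nat_lit 524288) Steps.nil))))) (nat_lit 59) (nat_lit 1),
  Rule.mk (nat_lit 2) (nat_lit 114) (Steps.bwd (nat_lit 4) (Steps.bwd (nat_lit 5) (Steps.fwd (nat_lit 786432) (Steps.bwd (nat_lit 4) (Steps.fwd (nat_lit 1572864) Steps.nil))))) (nat_lit 54) (nat_lit 1),
  Rule.mk (nat_lit 5) (nat_lit 114) (Steps.bwd (nat_lit 1) (Steps.bwd (nat_lit 7) (Steps.fwd (nat_lit 1310720) (Steps.fwd (nat_lit 262144) (Steps.bwd (nat_lit 7) Steps.nil))))) (nat_lit 53) (nat_lit 2),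
  Rule.mk (nat_lit 6) (nat_lit 114) (Steps.bwd (nat_lit 7) (Steps.bwd (nat_lit 4) (Steps.bwd (nat_lit 5) (Steps.fwd (nat_lit 1835008) (Steps.fwd (nat_lit 1048576) Steps.nil))))) (nat_lit 66) (nat_lit 5),
  Rule.mk (nat_lit 2) (nat_lit 154) (Steps.fwd (nat_lit 1048576) (Steps.bwd (nat_lit 7) (Steps.fwd (nat_lit 1572864) (Steps.bwd (nat_lit 2) (Steps.bwd (nat_lit 4) (Steps.bwd (nat_lit 7) (Steps.bwd (nat_lit 5) Steps.nil))))))) (nat_lit 80) (nat_lit 5),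
  Rule.mk (nat_lit 6) (nat_lit 94) (Steps.fwd (nat_lit 1310720) (Steps.fwd (nat_lit 1835008) (Steps.fwd (nat_lit 1572864) (Steps.fwd (nat_lit 1310720) Steps.nil)))) (nat_lit 24) (nat_lit 3),
  Rule.mk (nat_lit 0) (nat_lit 174) (Steps.bwd (nat_lit 2) (Steps.fwd (nat_lit 1310720) (Steps.fwd (nat_lit 262144) (Steps.fwd (nat_lit 786432) (Steps.bwd (nat_lit 1) (Steps.bwd (nat_lit 5) (Steps.fwd (nat_lit 786432) (Steps.fwd (nat_lit 262144) Steps.nil)))))))) (nat_lit 70) (nat_lit 6),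
  Rule.mk (nat_lit 8) (nat_lit 314) (Steps.bwd (nat_lit 4) (Steps.bwd (nat_lit 9) (Steps.fwd (nat_lit 1048576) (Steps.bwd (nat_lit 8) (Steps.bwd (nat_lit 4) (Steps.fwd (nat_lit 2097152) (Steps.bwd (nat_lit 4) (Steps.bwd (nat_lit 8) (Steps.fwd (nat_lit 1048576) (Steps.bwd (nat_lit 9) (Steps.fwd (nat_lit 1048576) (Steps.fwd (nat_lit 2359296) (Steps.bwd (nat_lit 4) (Steps.fwd (nat_lit 2097152) (Steps.bwd (nat_lit 4) Steps.nil))))))))))))))) (nat_lit 106) (nat_lit 1),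
  Rule.mk (nat_lit 0) (nat_lit 94) (Steps.fwd (nat_lit 786432) (Steps.bwd (nat_lit 8) (Steps.fwd (nat_lit 524288) (Steps.bwd (nat_lit 9) Steps.nil)))) (nat_lit 97) (nat_lit 0)]
noncomputable def R_81 : List (Rule) := [Rule.mk (nat_lit 4) (nat_lit 314) (Steps.bwd (nat_lit 9) (Steps.bwd (nat_lit 4) (Steps.bwd (nat_lit 8) (Steps.bwd (nat_lit 4) (Steps.bwd (nat_lit 9) (Steps.fwd (nat_lit 1048576) (Steps.fwd (nat_lit 2359296) (Steps.fwd (nat_lit 1048576) (Steps.bwd (nat_lit 9) (Steps.bwd (nat_lit 4) (Steps.fwd (nat_lit 2359296) (Steps.fwd (nat_lit 1048576) (Steps.bwd (nat_lit 9) (Steps.fwd (nat_lit 1048576) (Steps.fwd (nat_lit 2359296) Steps.nil))))))))))))))) (nat_lit 106) (nat_lit 2),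
  Rule.mk (nat_lit 0) (nat_lit 94) (Steps.bwd (nat_lit 4) (Steps.bwd (nat_lit 7) (Steps.bwd (nat_lit 4) (Steps.fwd (nat_lit 1835008) Steps.nil)))) (nat_lit 30) (nat_lit 1),
  Rule.mk (nat_lit 0) (nat_lit 134) (Steps.bwd (nat_lit 4) (Steps.bwd (nat_lit 1) (Steps.bwd (nat_lit 4) (Steps.fwd (nat_lit 262144) (Steps.fwd (nat_lit 1048576) (Steps.fwd (nat_lit 262144) Steps.nil)))))) (nat_lit 16) (nat_lit 1),
  Rule.mk (nat_lit 8) (nat_lit 314) (Steps.fwd (nat_lit 1048576) (Steps.fwd (nat_lit 2097152) (Steps.bwd (nat_lit 4) (Steps.bwd (nat_lit 8) (Steps.bwd (nat_lit 4) (Steps.fwd (nat_lit 2097152) (Steps.fwd (nat_lit 1048576) (Steps.fwd (nat_lit 2359296) (Steps.bwd (nat_lit 4) (Steps.bwd (nat_lit 9) (Steps.fwd (nat_lit 1048576) (Steps.fwd (nat_lit 2359296) (Steps.fwd (nat_lit 1048576) (Steps.bwd (nat_lit 9) (Steps.fwd (nat_lit 1048576) Steps.nil))))))))))))))) (nat_lit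 106) (nat_lit 1),
  Rule.mk (nat_lit 8) (nat_lit 314) (Steps.bwd (nat_lit 4) (Steps.bwd (nat_lit 9) (Steps.bwd (nat_lit 4) (Steps.fwd (nat_lit 2359296) (Steps.bwd (nat_lit 4) (Steps.bwd (nat_lit 9) (Steps.fwd (nat_lit 1048576) (Steps.fwd (nat_lit 2359296) (Steps.fwd (nat_lit 1048576) (Steps.fwd (nat_lit 2097152) (Steps.fwd (nat_lit 1048576) (Steps.bwd (nat_lit 8) (Steps.bwd (nat_lit 4) (Steps.bwd (nat_lit 9) (Steps.bwd (nat_lit 4) Steps.nil))))))))))))))) (nat_lit 106) (nat_lit 1),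
  Rule.mk (nat_lit 3) (nat_lit 154) (Steps.fwd (nat_lit 1835008) (Steps.fwd (nat_lit 1572864) (Steps.bwd (nat_lit 3) (Steps.fwd (nat_lit 1310720) (Steps.fwd (nat_lit 1572864) (Steps.bwd (nat_lit 3) (Steps.bwd (nat_lit 5) Steps.nil))))))) (nat_lit 83) (nat_lit 0),
  Rule.mk (nat_lit 0) (nat_lit 134) (Steps.fwd (nat_lit 1835008) (Steps.bwd (nat_lit 3) (Steps.fwd (nat_lit 1572864) (Steps.fwd (nat_lit 1835008) (Steps.fwd (nat_lit 786432) (Steps.fwd (nat_lit 1572864) Steps.nil)))))) (nat_lit 62) (nat_lit 2),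
  Rule.mk (nat_lit 3) (nat_lit 154) (Steps.fwd (nat_lit 262144) (Steps.fwd (nat_lit 786432) (Steps.fwd (nat_lit 262144) (Steps.bwd (nat_lit 3) (Steps.bwd (nat_lit 1) (Steps.bwd (nat_lit 2) (Steps.bwd (nat_lit 1) Steps.nil))))))) (nat_lit 68) (nat_lit 0),
  Rule.mk (nat_lit 7) (nat_lit 154) (Steps.bwd (nat_lit 5) (Steps.bwd (nat_lit 3) (Steps.fwd (nat_lit 1048576) (Steps.bwd (nat_lit 7) (Steps.fwd (nat_lit 1572864) (Steps.fwd (nat_lit 524288) (Steps.fwd (nat_lit 1048576) Steps.nil))))))) (nat_lit 89) (nat_lit 6),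
  Rule.mk (nat_lit 9) (nat_lit 94) (Steps.bwd (nat_lit 5) (Steps.bwd (nat_lit 7) (Steps.fwd (nat_lit 2359296) (Steps.fwd (nat_lit 1310720) Steps.nil)))) (nat_lit 100) (nat_lit 3),
  Rule.mk (nat_lit 4) (nat_lit 154) (Steps.bwd (nat_lit 1) (Steps.fwd (nat_lit 1048576) (Steps.bwd (nat_lit 7) (Steps.bwd (nat_lit 1) (Steps.bwd (nat_lit 4) (Steps.fwd (nat_lit 262144) (Steps.bwd (nat_lit 7) Steps.nil))))))) (nat_lit 76) (nat_lit 5),
  Rule.mk (nat_lit 0) (nat_lit 174) (Steps.bwd (nat_lit 4) (Steps.bwd (nat_lit 1) (Steps.bwd (nat_lit 6) (Steps.fwd (nat_lit 262144) (Steps.bwd (nat_lit 4) (Steps.bwd (nat_lit 1) (Steps.fwd (nat_lit 1572864) (Steps.fwd (nat_lit 262144) Steps.nil)))))))) (nat_lit 74) (nat_lit 1),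
  Rule.mk (nat_lit 4) (nat_lit 314) (Steps.bwd (nat_lit 8) (Steps.bwd (nat_lit 4) (Steps.bwd (nat_lit 9) (Steps.fwd (nat_lit 1048576) (Steps.fwd (nat_lit 2359296) (Steps.bwd (nat_lit 4) (Steps.bwd (nat_lit 9) (Steps.fwd (nat_lit 1048576) (Steps.fwd (nat_lit 2359296) (Steps.bwd (nat_lit 4) (Steps.bwd (nat_lit 9) (Steps.fwd (nat_lit 1048576) (Steps.fwd (nat_lit 2359296) (Steps.bwd (nat_lit 4) (Steps.bwd (nat_lit 9) Steps.nil))))))))))))))) (nat_lit 106) (nat_lit 0),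
  Rule.mk (nat_lit 0) (nat_lit 134) (Steps.bwd (nat_lit 4) (Steps.bwd (nat_lit 3) (Steps.bwd (nat_lit 7) (Steps.bwd (nat_lit 4) (Steps.fwd (nat_lit 524288) (Steps.bwd (nat_lit 7) Steps.nil)))))) (nat_lit 57) (nat_lit 1),
  Rule.mk (nat_lit 4) (nat_lit 154) (Steps.bwd (nat_lit 3) (Steps.fwd (nat_lit 1835008) (Steps.bwd (nat_lit 5) (Steps.bwd (nat_lit 4) (Steps.fwd (nat_lit 524288) (Steps.bwd (nat_lit 7) (Steps.fwd (nat_lit 1572864) Steps.nil))))))) (nat_lit 79) (nat_lit 3),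
  Rule.mk (nat_lit 4) (nat_lit 154) (Steps.bwd (nat_lit 3) (Steps.fwd (nat_lit 1835008) (Steps.bwd (nat_lit 6) (Steps.bwd (nat_lit 4) (Steps.fwd (nat_lit 524288) (Steps.bwd (nat_lit 7) (Steps.bwd (nat_lit 5) Steps.nil))))))) (nat_lit 79) (nat_lit 7),
  Rule.mk (nat_lit 4) (nat_lit 154) (Steps.bwd (nat_lit 1) (Steps.fwd (nat_lit 1835008) (Steps.bwd (nat_lit 4) (Steps.fwd (nat_lit 262144) (Steps.bwd (nat_lit 4) (Steps.bwd (nat_lit 7) (Steps.fwd (nat_lit 262144) Steps.nil))))))) (nat_lit 76) (nat_lit 2),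
  Rule.mk (nat_lit 0) (nat_lit 94) (Steps.fwd (nat_lit 786432) (Steps.bwd (nat_lit 4) (Steps.bwd (nat_lit 2) (Steps.bwd (nat_lit 4) Steps.nil)))) (nat_lit 14) (nat_lit 1),
  Rule.mk (nat_lit 1) (nat_lit 154) (Steps.bwd (nat_lit 4) (Steps.fwd (nat_lit 262144) (Steps.fwd (nat_lit 1835008) (Steps.bwd (nat_lit 4) (Steps.fwd (nat_lit 262144) (Steps.bwd (nat_lit 4) (Steps.fwd (nat_lit 1835008) Steps.nil))))))) (nat_lit 76) (nat_lit 1),
  Rule.mk (nat_lit 8) (nat_lit 314) (Steps.bwd (nat_lit 4) (Steps.bwd (nat_lit 9) (Steps.bwd (nat_lit 4) (Steps.bwd (nat_lit 8) (Steps.bwd (nat_lit 4) (Steps.fwd (nat_lit 2097152) (Steps.bwd (nat_lit 4) (Steps.fwd (nat_lit 2359296) (Steps.bwd (nat_lit 4) (Steps.fwd (nat_lit 2097152) (Steps.bwd (nat_lit 4) (Steps.fwd (nat_lit 2359296) (Steps.fwd (nat_lit 1048576) (Steps.fwd (nat_lit 2097152) (Steps.fwd (nat_lit 1048576) Steps.nil)))))))))))))))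 (nat_lit 106) (nat_lit 1),
  Rule.mk (nat_lit 3) (nat_lit 274) (Steps.fwd (nat_lit 262144) (Steps.bwd (nat_lit 6) (Steps.fwd (nat_lit 262144) (Steps.bwd (nat_lit 3) (Steps.bwd (nat_lit 1) (Steps.bwd (nat_lit 6) (Steps.bwd (nat_lit 1) (Steps.fwd (nat_lit 524288) (Steps.fwd (nat_lit 1310720) (Steps.fwd (nat_lit 1572864) (Steps.bwd (nat_lit 1) (Steps.bwd (nat_lit 6) (Steps.fwd (nat_lit 262144) Steps.nil))))))))))))) (nat_lit 35) (nat_lit 6),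
  Rule.mk (nat_lit 1) (nat_lit 274) (Steps.fwd (nat_lit 524288) (Steps.bwd (nat_lit 1) (Steps.fwd (nat_lit 1572864) (Steps.fwd (nat_lit 262144) (Steps.bwd (nat_lit 3) (Steps.fwd (nat_lit 1310720) (Steps.fwd (nat_lit 1572864) (Steps.bwd (nat_lit 1) (Steps.fwd (nat_lit 1572864) (Steps.bwd (nat_lit 1) (Steps.bwd (nat_lit 3) (Steps.bwd (nat_lit 1) (Steps.fwd (nat_lit 1572864) Steps.nil))))))))))))) (nat_lit 35) (nat_lit 9),
  Rule.mk (nat_lit 9) (nat_lit 114) (Steps.fwd (nat_lit 262144) (Steps.bwd (nat_lit 8) (Steps.bwd (nat_lit 2) (Steps.bwd (nat_lit 1) (Steps.fwd (nat_lit 524288) Steps.nil))))) (nat_lit 104) (nat_lit 5),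
  Rule.mk (nat_lit 2) (nat_lit 154) (Steps.bwd (nat_lit 1) (Steps.fwd (nat_lit 786432) (Steps.bwd (nat_lit 7) (Steps.fwd (nat_lit 262144) (Steps.bwd (nat_lit 2) (Steps.bwd (nat_lit 1) (Steps.bwd (nat_lit 7) Steps.nil))))))) (nat_lit 72) (nat_lit 5),
  Rule.mk (nat_lit 0) (nat_lit 174) (Steps.bwd (nat_lit 7) (Steps.bwd (nat_lit 4) (Steps.bwd (nat_lit 1) (Steps.bwd (nat_lit 4) (Steps.fwd (nat_lit 1835008) (Steps.bwd (nat_lit 1) (Steps.fwd (nat_lit 1048576) (Steps.bwd (nat_lit 1) Steps.nil)))))))) (nat_lit 76) (nat_lit 3),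
  Rule.mk (nat_lit 1) (nat_lit 274) (Steps.fwd (nat_lit 1572864) (Steps.bwd (nat_lit 5) (Steps.bwd (nat_lit 2) (Steps.fwd (nat_lit 262144) (Steps.bwd (nat_lit 6) (Steps.fwd (nat_lit 262144) (Steps.bwd (nat_lit 2) (Steps.fwd (nat_lit 262144) (Steps.bwd (nat_lit 6) (Steps.fwd (nat_lit 262144) (Steps.bwd (nat_lit 2) (Steps.bwd (nat_lit 1) (Steps.fwd (nat_lit 1572864) Steps.nil))))))))))))) (nat_lit 34) (nat_lit 12),
  Rule.mk (nat_lit 4) (nat_lit 154) (Steps.bwd (nat_lit 1) (Steps.fwd (nat_lit 1835008) (Steps.bwd (nat_lit 4) (Steps.bwd (nat_lit 1) (Steps.bwd (nat_lit 4) (Steps.fwd (nat_lit 1835008) (Steps.fwd (nat_lit 262144) Steps.nil))))))) (nat_lit 76) (nat_lit 2),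
  Rule.mk (nat_lit 4) (nat_lit 114) (Steps.fwd (nat_lit 1835008) (Steps.bwd (nat_lit 5) (Steps.bwd (nat_lit 4) (Steps.fwd (nat_lit 1835008) (Steps.fwd (nat_lit 1572864) Steps.nil))))) (nat_lit 67) (nat_lit 3),
  Rule.mk (nat_lit 4) (nat_lit 154) (Steps.bwd (nat_lit 3) (Steps.fwd (nat_lit 1835008) (Steps.bwd (nat_lit 5) (Steps.bwd (nat_lit 4) (Steps.bwd (nat_lit 3) (Steps.bwd (nat_lit 7) (Steps.fwd (nat_lit 1572864) Steps.nil))))))) (nat_lit 79) (nat_lit 3),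
  Rule.mk (nat_lit 4) (nat_lit 154) (Steps.bwd (nat_lit 3) (Steps.fwd (nat_lit 1835008) (Steps.bwd (nat_lit 6) (Steps.bwd (nat_lit 4) (Steps.bwd (nat_lit 3) (Steps.bwd (nat_lit 7) (Steps.fwd (nat_lit 1310720) Steps.nil))))))) (nat_lit 79) (nat_lit 7),
  Rule.mk (nat_lit 4) (nat_lit 114) (Steps.fwd (nat_lit 524288) (Steps.fwd (nat_lit 1310720) (Steps.bwd (nat_lit 4) (Steps.fwd (nat_lit 524288) (Steps.bwd (nat_lit 6) Steps.nil))))) (nat_lit 55) (nat_lit 2),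
  Rule.mk (nat_lit 0) (nat_lit 134) (Steps.bwd (nat_lit 4) (Steps.fwd (nat_lit 1835008) (Steps.fwd (nat_lit 1572864) (Steps.fwd (nat_lit 1048576) (Steps.bwd (nat_lit 7) (Steps.bwd (nat_lit 5) Steps.nil)))))) (nat_lit 67) (nat_lit 5),
  Rule.mk (nat_lit 4) (nat_lit 314) (Steps.fwd (nat_lit 2097152) (Steps.fwd (nat_lit 1048576) (Steps.bwd (nat_lit 8) (Steps.bwd (nat_lit 4) (Steps.bwd (nat_lit 9) (Steps.bwd (nat_lit 4) (Steps.fwd (nat_lit 2359296) (Steps.fwd (nat_lit 1048576) (Steps.bwd (nat_lit 9) (Steps.fwd (nat_lit 1048576) (Steps.fwd (nat_lit 2359296) (Steps.bwd (nat_lit 4) (Steps.fwd (nat_lit 2097152) (Steps.bwd (nat_lit 4) (Steps.fwd (nat_lit 2359296) Steps.nil))))))))))))))) (nat_lit 106) (nat_lit 2),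
  Rule.mk (nat_lit 0) (nat_lit 94) (Steps.bwd (nat_lit 4) (Steps.fwd (nat_lit 1310720) (Steps.bwd (nat_lit 4) (Steps.bwd (nat_lit 6) Steps.nil)))) (nat_lit 22) (nat_lit 0),
  Rule.mk (nat_lit 4) (nat_lit 154) (Steps.bwd (nat_lit 3) (Steps.fwd (nat_lit 1835008) (Steps.fwd (nat_lit 1310720) (Steps.bwd (nat_lit 4) (Steps.bwd (nat_lit 3) (Steps.fwd (nat_lit 1835008) (Steps.fwd (nat_lit 1572864) Steps.nil))))))) (nat_lit 79) (nat_lit 3),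
  Rule.mk (nat_lit 4) (nat_lit 314) (Steps.bwd (nat_lit 9) (Steps.bwd (nat_lit 4) (Steps.bwd (nat_lit 8) (Steps.bwd (nat_lit 4) (Steps.bwd (nat_lit 9) (Steps.bwd (nat_lit 4) (Steps.bwd (nat_lit 8) (Steps.bwd (nat_lit 4) (Steps.bwd (nat_lit 9) (Steps.fwd (nat_lit 1048576) (Steps.fwd (nat_lit 2359296) (Steps.fwd (nat_lit 1048576) (Steps.bwd (nat_lit 9) (Steps.fwd (nat_lit 1048576) (Steps.fwd (nat_lit 2359296) Steps.nil))))))))))))))) (nat_lit 106) (nat_lit 2),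
  Rule.mk (nat_lit 4) (nat_lit 154) (Steps.bwd (nat_lit 3) (Steps.fwd (nat_lit 1835008) (Steps.bwd (nat_lit 5) (Steps.bwd (nat_lit 4) (Steps.bwd (nat_lit 3) (Steps.fwd (nat_lit 1835008) (Steps.fwd (nat_lit 1572864) Steps.nil))))))) (nat_lit 79) (nat_lit 3),
  Rule.mk (nat_lit 4) (nat_lit 154) (Steps.bwd (nat_lit 3) (Steps.fwd (nat_lit 1835008) (Steps.bwd (nat_lit 6) (Steps.bwd (nat_lit 4) (Steps.bwd (nat_lit 3) (Steps.fwd (nat_lit 1835008) (Steps.fwd (nat_lit 1310720) Steps.nil))))))) (nat_lit 79) (nat_lit 7),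
  Rule.mk (nat_lit 4) (nat_lit 154) (Steps.fwd (nat_lit 1572864) (Steps.bwd (nat_lit 7) (Steps.bwd (nat_lit 2) (Steps.bwd (nat_lit 4) (Steps.fwd (nat_lit 1310720) (Steps.fwd (nat_lit 1835008) (Steps.fwd (nat_lit 786432) Steps.nil))))))) (nat_lit 78) (nat_lit 6),
  Rule.mk (nat_lit 4) (nat_lit 154) (Steps.fwd (nat_lit 524288) (Steps.fwd (nat_lit 1835008) (Steps.bwd (nat_lit 6) (Steps.bwd (nat_lit 4) (Steps.bwd (nat_lit 3) (Steps.fwd (nat_lit 1835008) (Steps.bwd (nat_lit 5) Steps.nil))))))) (nat_lit 79) (nat_lit 7),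
  Rule.mk (nat_lit 9) (nat_lit 314) (Steps.bwd (nat_lit 4) (Steps.fwd (nat_lit 2359296) (Steps.bwd (nat_lit 4) (Steps.bwd (nat_lit 9) (Steps.bwd (nat_lit 4) (Steps.fwd (nat_lit 2359296) (Steps.fwd (nat_lit 1048576) (Steps.bwd (nat_lit 9) (Steps.bwd (nat_lit 4) (Steps.fwd (nat_lit 2359296) (Steps.bwd (nat_lit 4) (Steps.fwd (nat_lit 2097152) (Steps.bwd (nat_lit 4) (Steps.fwd (nat_lit 2359296) (Steps.fwd (nat_lit 1048576) Steps.nil))))))))))))))) (nat_lit 106) (nat_lit 3),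
  Rule.mk (nat_lit 8) (nat_lit 314) (Steps.bwd (nat_lit 4) (Steps.bwd (nat_lit 9) (Steps.bwd (nat_lit 4) (Steps.fwd (nat_lit 2359296) (Steps.fwd (nat_lit 1048576) (Steps.bwd (nat_lit 9) (Steps.fwd (nat_lit 1048576) (Steps.fwd (nat_lit 2359296) (Steps.bwd (nat_lit 4) (Steps.bwd (nat_lit 9) (Steps.bwd (nat_lit 4) (Steps.fwd (nat_lit 2359296) (Steps.fwd (nat_lit 1048576) (Steps.fwd (nat_lit 2097152) (Steps.fwd (nat_lit 1048576) Steps.nil))))))))))))))) (nat_lit 106) (nat_lit 1),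
  Rule.mk (nat_lit 4) (nat_lit 154) (Steps.bwd (nat_lit 7) (Steps.fwd (nat_lit 1310720) (Steps.bwd (nat_lit 2) (Steps.bwd (nat_lit 4) (Steps.bwd (nat_lit 7) (Steps.bwd (nat_lit 6) (Steps.bwd (nat_lit 2) Steps.nil))))))) (nat_lit 80) (nat_lit 2),
  Rule.mk (nat_lit 7) (nat_lit 154) (Steps.bwd (nat_lit 4) (Steps.fwd (nat_lit 524288) (Steps.fwd (nat_lit 1310720) (Steps.bwd (nat_lit 7) (Steps.bwd (nat_lit 4) (Steps.bwd (nat_lit 3) (Steps.bwd (nat_lit 6) Steps.nil))))))) (nat_lit 81) (nat_lit 2),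
  Rule.mk (nat_lit 4) (nat_lit 154) (Steps.fwd (nat_lit 1835008) (Steps.bwd (nat_lit 5) (Steps.fwd (nat_lit 524288) (Steps.bwd (nat_lit 4) (Steps.bwd (nat_lit 7) (Steps.bwd (nat_lit 6) (Steps.bwd (nat_lit 3) Steps.nil))))))) (nat_lit 89) (nat_lit 5),
  Rule.mk (nat_lit 6) (nat_lit 74) (Steps.fwd (nat_lit 1835008) (Steps.fwd (nat_lit 1572864) (Steps.fwd (nat_lit 1835008) Steps.nil))) (nat_lit 48) (nat_lit 1),
  Rule.mk (nat_lit 2) (nat_lit 114) (Steps.fwd (nat_lit 1835008) (Steps.fwd (nat_lit 1572864) (Steps.fwd (nat_lit 524288) (Steps.fwd (nat_lit 1835008) (Steps.fwd (nat_lit 1572864) Steps.nil))))) (nat_lit 63) (nat_lit 3),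
  Rule.mk (nat_lit 3) (nat_lit 114) (Steps.fwd (nat_lit 1835008) (Steps.fwd (nat_lit 1572864) (Steps.fwd (nat_lit 786432) (Steps.fwd (nat_lit 1835008) (Steps.bwd (nat_lit 6) Steps.nil))))) (nat_lit 63) (nat_lit 0),
  Rule.mk (nat_lit 4) (nat_lit 154) (Steps.bwd (nat_lit 3) (Steps.fwd (nat_lit 1835008) (Steps.fwd (nat_lit 1572864) (Steps.fwd (nat_lit 1048576) (Steps.bwd (nat_lit 3) (Steps.fwd (nat_lit 1835008) (Steps.bwd (nat_lit 5) Steps.nil))))))) (nat_lit 79) (nat_lit 7),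
  Rule.mk (nat_lit 4) (nat_lit 154) (Steps.bwd (nat_lit 7) (Steps.fwd (nat_lit 786432) (Steps.fwd (nat_lit 1572864) (Steps.fwd (nat_lit 1048576) (Steps.bwd (nat_lit 7) (Steps.bwd (nat_lit 2) (Steps.fwd (nat_lit 1310720) Steps.nil))))))) (nat_lit 86) (nat_lit 3),
  Rule.mk (nat_lit 1) (nat_lit 274) (Steps.fwd (nat_lit 524288) (Steps.bwd (nat_lit 5) (Steps.fwd (nat_lit 1572864) (Steps.bwd (nat_lit 1) (Steps.fwd (nat_lit 1572864) (Steps.fwd (nat_lit 262144) (Steps.fwd (nat_lit 524288) (Steps.bwd (nat_lit 1) (Steps.bwd (nat_lit 6) (Steps.bwd (nat_lit 1) (Steps.bwd (nat_lit 3) (Steps.fwd (nat_lit 262144) (Steps.bwd (nat_lit 6) Steps.nil))))))))))))) (nat_lit 35) (nat_lit 13),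
  Rule.mk (nat_lit 1) (nat_lit 154) (Steps.bwd (nat_lit 7) (Steps.bwd (nat_lit 3) (Steps.fwd (nat_lit 262144) (Steps.fwd (nat_lit 524288) (Steps.bwd (nat_lit 7) (Steps.bwd (nat_lit 1) (Steps.fwd (nat_lit 524288) Steps.nil))))))) (nat_lit 73) (nat_lit 0),
  Rule.mk (nat_lit 0) (nat_lit 174) (Steps.fwd (nat_lit 1835008) (Steps.bwd (nat_lit 2) (Steps.fwd (nat_lit 262144) (Steps.fwd (nat_lit 786432) (Steps.bwd (nat_lit 7) (Steps.bwd (nat_lit 1) (Steps.fwd (nat_lit 786432) (Steps.fwd (nat_lit 262144) Steps.nil)))))))) (nat_lit 72) (nat_lit 3),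
  Rule.mk (nat_lit 4) (nat_lit 154) (Steps.fwd (nat_lit 262144) (Steps.fwd (nat_lit 1048576) (Steps.bwd (nat_lit 7) (Steps.bwd (nat_lit 1) (Steps.fwd (nat_lit 1048576) (Steps.bwd (nat_lit 1) (Steps.bwd (nat_lit 7) Steps.nil))))))) (nat_lit 76) (nat_lit 5),
  Rule.mk (nat_lit 1) (nat_lit 154) (Steps.bwd (nat_lit 2) (Steps.bwd (nat_lit 5) (Steps.fwd (nat_lit 262144) (Steps.bwd (nat_lit 2) (Steps.fwd (nat_lit 262144) (Steps.fwd (nat_lit 1310720) (Steps.bwd (nat_lit 2) Steps.nil))))))) (nat_lit 70) (nat_lit 6),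
  Rule.mk (nat_lit 1) (nat_lit 154) (Steps.bwd (nat_lit 2) (Steps.fwd (nat_lit 1310720) (Steps.fwd (nat_lit 262144) (Steps.fwd (nat_lit 786432) (Steps.bwd (nat_lit 1) (Steps.bwd (nat_lit 5) (Steps.bwd (nat_lit 2) Steps.nil))))))) (nat_lit 70) (nat_lit 6),
  Rule.mk (nat_lit 2) (nat_lit 154) (Steps.fwd (nat_lit 1835008) (Steps.fwd (nat_lit 262144) (Steps.fwd (nat_lit 786432) (Steps.bwd (nat_lit 1) (Steps.fwd (nat_lit 1835008) (Steps.fwd (nat_lit 786432) (Steps.fwd (nat_lit 262144) Steps.nil))))))) (nat_lit 72) (nat_lit 7),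
  Rule.mk (nat_lit 4) (nat_lit 114) (Steps.fwd (nat_lit 1310720) (Steps.fwd (nat_lit 786432) (Steps.bwd (nat_lit 4) (Steps.bwd (nat_lit 6) (Steps.bwd (nat_lit 2) Steps.nil))))) (nat_lit 54) (nat_lit 2),
  Rule.mk (nat_lit 6) (nat_lit 114) (Steps.fwd (nat_lit 786432) (Steps.bwd (nat_lit 4) (Steps.fwd (nat_lit 1310720) (Steps.fwd (nat_lit 786432) (Steps.fwd (nat_lit 1048576) Steps.nil))))) (nat_lit 54) (nat_lit 0),
  Rule.mk (nat_lit 4) (nat_lit 114) (Steps.fwd (nat_lit 1835008) (Steps.fwd (nat_lit 786432) (Steps.bwd (nat_lit 4) (Steps.fwd (nat_lit 1835008) (Steps.bwd (nat_lit 2) Steps.nil))))) (nat_lit 56) (nat_lit 2),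
  Rule.mk (nat_lit 7) (nat_lit 154) (Steps.bwd (nat_lit 6) (Steps.fwd (nat_lit 786432) (Steps.bwd (nat_lit 4) (Steps.fwd (nat_lit 1835008) (Steps.fwd (nat_lit 1310720) (Steps.bwd (nat_lit 2) (Steps.bwd (nat_lit 4) Steps.nil))))))) (nat_lit 80) (nat_lit 7),
  Rule.mk (nat_lit 8) (nat_lit 94) (Steps.fwd (nat_lit 1310720) (Steps.bwd (nat_lit 9) (Steps.bwd (nat_lit 7) (Steps.bwd (nat_lit 5) Steps.nil)))) (nat_lit 101) (nat_lit 3),
  Rule.mk (nat_lit 1) (nat_lit 114) (Steps.fwd (nat_lit 1835008) (Steps.fwd (nat_lit 1310720) (Steps.fwd (nat_lit 262144) (Steps.bwd (nat_lit 7) (Steps.bwd (nat_lit 5) Steps.nil))))) (nat_lit 53) (nat_lit 0),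
  Rule.mk (nat_lit 2) (nat_lit 114) (Steps.bwd (nat_lit 7) (Steps.bwd (nat_lit 6) (Steps.fwd (nat_lit 524288) (Steps.bwd (nat_lit 7) (Steps.fwd (nat_lit 1572864) Steps.nil))))) (nat_lit 63) (nat_lit 3)]
noncomputable def R_82 : List (Rule) := [Rule.mk (nat_lit 2) (nat_lit 154) (Steps.bwd (nat_lit 6) (Steps.bwd (nat_lit 5) (Steps.fwd (nat_lit 786432) (Steps.fwd (nat_lit 1572864) (Steps.bwd (nat_lit 7) (Steps.bwd (nat_lit 2) (Steps.bwd (nat_lit 5) Steps.nil))))))) (nat_lit 82) (nat_lit 3),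
  Rule.mk (nat_lit 6) (nat_lit 154) (Steps.fwd (nat_lit 524288) (Steps.fwd (nat_lit 1310720) (Steps.fwd (nat_lit 524288) (Steps.bwd (nat_lit 7) (Steps.bwd (nat_lit 6) (Steps.fwd (nat_lit 524288) (Steps.fwd (nat_lit 1310720) Steps.nil))))))) (nat_lit 83) (nat_lit 5),
  Rule.mk (nat_lit 2) (nat_lit 114) (Steps.bwd (nat_lit 6) (Steps.bwd (nat_lit 7) (Steps.fwd (nat_lit 524288) (Steps.bwd (nat_lit 6) (Steps.bwd (nat_lit 7) Steps.nil))))) (nat_lit 62) (nat_lit 1),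
  Rule.mk (nat_lit 3) (nat_lit 74) (Steps.fwd (nat_lit 1835008) (Steps.fwd (nat_lit 786432) (Steps.bwd (nat_lit 7) Steps.nil))) (nat_lit 28) (nat_lit 0),
  Rule.mk (nat_lit 3) (nat_lit 114) (Steps.fwd (nat_lit 1835008) (Steps.fwd (nat_lit 1310720) (Steps.fwd (nat_lit 786432) (Steps.bwd (nat_lit 7) (Steps.fwd (nat_lit 1310720) Steps.nil))))) (nat_lit 61) (nat_lit 0),
  Rule.mk (nat_lit 4) (nat_lit 114) (Steps.bwd (nat_lit 7) (Steps.fwd (nat_lit 1572864) (Steps.bwd (nat_lit 4) (Steps.bwd (nat_lit 7) (Steps.fwd (nat_lit 1310720) Steps.nil))))) (nat_lit 67) (nat_lit 0),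
  Rule.mk (nat_lit 3) (nat_lit 154) (Steps.bwd (nat_lit 5) (Steps.fwd (nat_lit 524288) (Steps.bwd (nat_lit 7) (Steps.bwd (nat_lit 6) (Steps.bwd (nat_lit 3) (Steps.bwd (nat_lit 5) (Steps.bwd (nat_lit 6) Steps.nil))))))) (nat_lit 83) (nat_lit 6),
  Rule.mk (nat_lit 0) (nat_lit 334) (Steps.bwd (nat_lit 9) (Steps.bwd (nat_lit 4) (Steps.fwd (nat_lit 2359296) (Steps.bwd (nat_lit 4) (Steps.fwd (nat_lit 2097152) (Steps.bwd (nat_lit 4) (Steps.bwd (nat_lit 8) (Steps.fwd (nat_lit 1048576) (Steps.bwd (nat_lit 9) (Steps.bwd (nat_lit 4) (Steps.bwd (nat_lit 8) (Steps.bwd (nat_lit 4) (Steps.fwd (nat_lit 2097152) (Steps.bwd (nat_lit 4) (Steps.fwd (nat_lit 2359296) (Steps.fwd (nat_lit 1048576) Steps.nil)))))))))))))))) (nat_lit 106) (nat_lit 2),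
  Rule.mk (nat_lit 3) (nat_lit 114) (Steps.bwd (nat_lit 6) (Steps.bwd (nat_lit 7) (Steps.fwd (nat_lit 786432) (Steps.fwd (nat_lit 1572864) (Steps.bwd (nat_lit 7) Steps.nil))))) (nat_lit 62) (nat_lit 4),
  Rule.mk (nat_lit 2) (nat_lit 114) (Steps.fwd (nat_lit 1835008) (Steps.bwd (nat_lit 6) (Steps.fwd (nat_lit 524288) (Steps.bwd (nat_lit 7) (Steps.bwd (nat_lit 6) Steps.nil))))) (nat_lit 63) (nat_lit 3),
  Rule.mk (nat_lit 4) (nat_lit 154) (Steps.fwd (nat_lit 1310720) (Steps.bwd (nat_lit 7) (Steps.bwd (nat_lit 2) (Steps.fwd (nat_lit 1048576) (Steps.bwd (nat_lit 6) (Steps.bwd (nat_lit 7) (Steps.fwd (nat_lit 786432) Steps.nil))))))) (nat_lit 78) (nat_lit 2),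
  Rule.mk (nat_lit 4) (nat_lit 154) (Steps.bwd (nat_lit 3) (Steps.fwd (nat_lit 1835008) (Steps.bwd (nat_lit 6) (Steps.fwd (nat_lit 1048576) (Steps.fwd (nat_lit 524288) (Steps.bwd (nat_lit 7) (Steps.fwd (nat_lit 1310720) Steps.nil))))))) (nat_lit 79) (nat_lit 7),
  Rule.mk (nat_lit 4) (nat_lit 154) (Steps.bwd (nat_lit 3) (Steps.bwd (nat_lit 6) (Steps.bwd (nat_lit 7) (Steps.fwd (nat_lit 1048576) (Steps.fwd (nat_lit 524288) (Steps.fwd (nat_lit 1310720) (Steps.bwd (nat_lit 7) Steps.nil))))))) (nat_lit 81) (nat_lit 7),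
  Rule.mk (nat_lit 3) (nat_lit 154) (Steps.fwd (nat_lit 1310720) (Steps.bwd (nat_lit 3) (Steps.fwd (nat_lit 1835008) (Steps.bwd (nat_lit 6) (Steps.fwd (nat_lit 524288) (Steps.fwd (nat_lit 1310720) (Steps.bwd (nat_lit 6) Steps.nil))))))) (nat_lit 83) (nat_lit 6),
  Rule.mk (nat_lit 6) (nat_lit 154) (Steps.fwd (nat_lit 786432) (Steps.fwd (nat_lit 1310720) (Steps.bwd (nat_lit 2) (Steps.fwd (nat_lit 1835008) (Steps.bwd (nat_lit 6) (Steps.fwd (nat_lit 786432) (Steps.bwd (nat_lit 5) Steps.nil))))))) (nat_lit 84) (nat_lit 0),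
  Rule.mk (nat_lit 3) (nat_lit 154) (Steps.bwd (nat_lit 5) (Steps.bwd (nat_lit 3) (Steps.bwd (nat_lit 6) (Steps.fwd (nat_lit 1310720) (Steps.fwd (nat_lit 524288) (Steps.bwd (nat_lit 6) (Steps.bwd (nat_lit 7) Steps.nil))))))) (nat_lit 85) (nat_lit 6),
  Rule.mk (nat_lit 4) (nat_lit 154) (Steps.bwd (nat_lit 7) (Steps.bwd (nat_lit 2) (Steps.bwd (nat_lit 6) (Steps.fwd (nat_lit 1048576) (Steps.bwd (nat_lit 7) (Steps.bwd (nat_lit 2) (Steps.bwd (nat_lit 5) Steps.nil))))))) (nat_lit 86) (nat_lit 3),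
  Rule.mk (nat_lit 3) (nat_lit 114) (Steps.bwd (nat_lit 7) (Steps.bwd (nat_lit 6) (Steps.bwd (nat_lit 2) (Steps.bwd (nat_lit 7) (Steps.bwd (nat_lit 6) Steps.nil))))) (nat_lit 63) (nat_lit 0),
  Rule.mk (nat_lit 6) (nat_lit 274) (Steps.fwd (nat_lit 262144) (Steps.fwd (nat_lit 524288) (Steps.bwd (nat_lit 1) (Steps.fwd (nat_lit 1572864) (Steps.fwd (nat_lit 262144) (Steps.bwd (nat_lit 3) (Steps.fwd (nat_lit 1310720) (Steps.fwd (nat_lit 1572864) (Steps.fwd (nat_lit 262144) (Steps.bwd (nat_lit 6) (Steps.bwd (nat_lit 1) (Steps.bwd (nat_lit 3) (Steps.fwd (nat_lit 262144) Steps.nil))))))))))))) (nat_lit 35) (nat_lit 8),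
  Rule.mk (nat_lit 4) (nat_lit 154) (Steps.bwd (nat_lit 7) (Steps.fwd (nat_lit 786432) (Steps.bwd (nat_lit 6) (Steps.bwd (nat_lit 4) (Steps.fwd (nat_lit 1835008) (Steps.bwd (nat_lit 2) (Steps.fwd (nat_lit 1310720) Steps.nil))))))) (nat_lit 86) (nat_lit 3),
  Rule.mk (nat_lit 4) (nat_lit 114) (Steps.bwd (nat_lit 6) (Steps.fwd (nat_lit 786432) (Steps.bwd (nat_lit 4) (Steps.fwd (nat_lit 1310720) (Steps.fwd (nat_lit 786432) Steps.nil))))) (nat_lit 54) (nat_lit 5),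
  Rule.mk (nat_lit 0) (nat_lit 174) (Steps.bwd (nat_lit 4) (Steps.bwd (nat_lit 3) (Steps.fwd (nat_lit 1835008) (Steps.bwd (nat_lit 5) (Steps.fwd (nat_lit 1048576) (Steps.bwd (nat_lit 3) (Steps.fwd (nat_lit 1835008) (Steps.fwd (nat_lit 1572864) Steps.nil)))))))) (nat_lit 79) (nat_lit 2),
  Rule.mk (nat_lit 4) (nat_lit 154) (Steps.fwd (nat_lit 1572864) (Steps.bwd (nat_lit 3) (Steps.bwd (nat_lit 7) (Steps.bwd (nat_lit 4) (Steps.fwd (nat_lit 1310720) (Steps.bwd (nat_lit 3) (Steps.fwd (nat_lit 1835008) Steps.nil))))))) (nat_lit 87) (nat_lit 2),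
  Rule.mk (nat_lit 2) (nat_lit 154) (Steps.bwd (nat_lit 6) (Steps.bwd (nat_lit 7) (Steps.bwd (nat_lit 4) (Steps.fwd (nat_lit 786432) (Steps.bwd (nat_lit 5) (Steps.fwd (nat_lit 1835008) (Steps.bwd (nat_lit 4) Steps.nil))))))) (nat_lit 88) (nat_lit 5),
  Rule.mk (nat_lit 2) (nat_lit 154) (Steps.fwd (nat_lit 1048576) (Steps.bwd (nat_lit 7) (Steps.fwd (nat_lit 1310720) (Steps.fwd (nat_lit 786432) (Steps.fwd (nat_lit 1048576) (Steps.fwd (nat_lit 1835008) (Steps.fwd (nat_lit 1572864) Steps.nil))))))) (nat_lit 80) (nat_lit 1),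
  Rule.mk (nat_lit 0) (nat_lit 94) (Steps.fwd (nat_lit 262144) (Steps.fwd (nat_lit 1310720) (Steps.bwd (nat_lit 1) (Steps.fwd (nat_lit 1310720) Steps.nil)))) (nat_lit 18) (nat_lit 0),
  Rule.mk (nat_lit 1) (nat_lit 114) (Steps.fwd (nat_lit 524288) (Steps.fwd (nat_lit 2097152) (Steps.bwd (nat_lit 1) (Steps.fwd (nat_lit 2359296) (Steps.fwd (nat_lit 786432) Steps.nil))))) (nat_lit 104) (nat_lit 3),
  Rule.mk (nat_lit 1) (nat_lit 154) (Steps.bwd (nat_lit 3) (Steps.bwd (nat_lit 5) (Steps.fwd (nat_lit 262144) (Steps.bwd (nat_lit 3) (Steps.bwd (nat_lit 1) (Steps.fwd (nat_lit 1310720) (Steps.bwd (nat_lit 3) Steps.nil))))))) (nat_lit 71) (nat_lit 3),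
  Rule.mk (nat_lit 0) (nat_lit 174) (Steps.bwd (nat_lit 1) (Steps.bwd (nat_lit 2) (Steps.bwd (nat_lit 7) (Steps.bwd (nat_lit 1) (Steps.bwd (nat_lit 2) (Steps.fwd (nat_lit 262144) (Steps.fwd (nat_lit 1835008) (Steps.fwd (nat_lit 786432) Steps.nil)))))))) (nat_lit 72) (nat_lit 5),
  Rule.mk (nat_lit 0) (nat_lit 294) (Steps.bwd (nat_lit 1) (Steps.bwd (nat_lit 6) (Steps.fwd (nat_lit 262144) (Steps.fwd (nat_lit 1572864) (Steps.bwd (nat_lit 5) (Steps.fwd (nat_lit 786432) (Steps.bwd (nat_lit 1) (Steps.bwd (nat_lit 6) (Steps.fwd (nat_lit 262144) (Steps.bwd (nat_lit 2) (Steps.fwd (nat_lit 262144) (Steps.bwd (nat_lit 6) (Steps.bwd (nat_lit 1) (Steps.bwd (nat_lit 2) Steps.nil)))))))))))))) (nat_lit 34) (nat_lit 9),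
  Rule.mk (nat_lit 2) (nat_lit 274) (Steps.bwd (nat_lit 1) (Steps.fwd (nat_lit 1572864) (Steps.fwd (nat_lit 262144) (Steps.bwd (nat_lit 6) (Steps.bwd (nat_lit 5) (Steps.bwd (nat_lit 2) (Steps.fwd (nat_lit 262144) (Steps.bwd (nat_lit 6) (Steps.bwd (nat_lit 1) (Steps.bwd (nat_lit 2) (Steps.fwd (nat_lit 262144) (Steps.bwd (nat_lit 6) (Steps.fwd (nat_lit 262144) Steps.nil))))))))))))) (nat_lit 34) (nat_lit 9),
  Rule.mk (nat_lit 0) (nat_lit 294) (Steps.bwd (nat_lit 6) (Steps.fwd (nat_lit 262144) (Steps.fwd (nat_lit 786432) (Steps.bwd (nat_lit 1) (Steps.fwd (nat_lit 1572864) (Steps.bwd (nat_lit 1) (Steps.fwd (nat_lit 786432) (Steps.bwd (nat_lit 1) (Steps.bwd (nat_lit 6) (Steps.fwd (nat_lit 262144) (Steps.bwd (nat_lit 6) (Steps.fwd (nat_lit 1310720) (Steps.fwd (nat_lit 786432) (Steps.fwd (nat_lit 262144) Steps.nil)))))))))))))) (nat_lit 34) (nat_lit 2),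
  Rule.mk (nat_lit 1) (nat_lit 114) (Steps.fwd (nat_lit 524288) (Steps.bwd (nat_lit 1) (Steps.fwd (nat_lit 524288) (Steps.fwd (nat_lit 262144) (Steps.fwd (nat_lit 524288) Steps.nil))))) (nat_lit 13) (nat_lit 0),
  Rule.mk (nat_lit 1) (nat_lit 154) (Steps.fwd (nat_lit 524288) (Steps.bwd (nat_lit 1) (Steps.bwd (nat_lit 2) (Steps.fwd (nat_lit 262144) (Steps.fwd (nat_lit 524288) (Steps.bwd (nat_lit 1) (Steps.fwd (nat_lit 786432) Steps.nil))))))) (nat_lit 68) (nat_lit 3),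
  Rule.mk (nat_lit 1) (nat_lit 154) (Steps.fwd (nat_lit 524288) (Steps.fwd (nat_lit 1310720) (Steps.bwd (nat_lit 1) (Steps.fwd (nat_lit 524288) (Steps.fwd (nat_lit 262144) (Steps.bwd (nat_lit 5) (Steps.bwd (nat_lit 3) Steps.nil))))))) (nat_lit 71) (nat_lit 3),
  Rule.mk (nat_lit 1) (nat_lit 154) (Steps.bwd (nat_lit 3) (Steps.bwd (nat_lit 7) (Steps.fwd (nat_lit 262144) (Steps.fwd (nat_lit 524288) (Steps.bwd (nat_lit 1) (Steps.bwd (nat_lit 7) (Steps.fwd (nat_lit 524288) Steps.nil))))))) (nat_lit 73) (nat_lit 3),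
  Rule.mk (nat_lit 4) (nat_lit 154) (Steps.fwd (nat_lit 262144) (Steps.fwd (nat_lit 1048576) (Steps.bwd (nat_lit 7) (Steps.bwd (nat_lit 1) (Steps.fwd (nat_lit 1048576) (Steps.bwd (nat_lit 1) (Steps.fwd (nat_lit 1835008) Steps.nil))))))) (nat_lit 76) (nat_lit 5),
  Rule.mk (nat_lit 1) (nat_lit 274) (Steps.fwd (nat_lit 524288) (Steps.bwd (nat_lit 1) (Steps.fwd (nat_lit 1572864) (Steps.bwd (nat_lit 1) (Steps.bwd (nat_lit 3) (Steps.fwd (nat_lit 1310720) (Steps.bwd (nat_lit 6) (Steps.fwd (nat_lit 262144) (Steps.fwd (nat_lit 1572864) (Steps.fwd (nat_lit 262144) (Steps.fwd (nat_lit 524288) (Steps.bwd (nat_lit 1) (Steps.bwd (nat_lit 6) Steps.nil))))))))))))) (nat_lit 35) (nat_lit 9),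
  Rule.mk (nat_lit 0) (nat_lit 134) (Steps.bwd (nat_lit 1) (Steps.fwd (nat_lit 524288) (Steps.fwd (nat_lit 2097152) (Steps.fwd (nat_lit 262144) (Steps.fwd (nat_lit 2359296) (Steps.fwd (nat_lit 786432) Steps.nil)))))) (nat_lit 104) (nat_lit 2),
  Rule.mk (nat_lit 1) (nat_lit 154) (Steps.bwd (nat_lit 2) (Steps.fwd (nat_lit 1310720) (Steps.bwd (nat_lit 1) (Steps.bwd (nat_lit 2) (Steps.bwd (nat_lit 1) (Steps.bwd (nat_lit 5) (Steps.bwd (nat_lit 2) Steps.nil))))))) (nat_lit 70) (nat_lit 6),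
  Rule.mk (nat_lit 0) (nat_lit 174) (Steps.bwd (nat_lit 1) (Steps.bwd (nat_lit 3) (Steps.fwd (nat_lit 1310720) (Steps.bwd (nat_lit 1) (Steps.fwd (nat_lit 524288) (Steps.bwd (nat_lit 1) (Steps.fwd (nat_lit 1310720) (Steps.bwd (nat_lit 3) Steps.nil)))))))) (nat_lit 71) (nat_lit 2),
  Rule.mk (nat_lit 1) (nat_lit 154) (Steps.bwd (nat_lit 3) (Steps.bwd (nat_lit 7) (Steps.bwd (nat_lit 1) (Steps.bwd (nat_lit 3) (Steps.bwd (nat_lit 1) (Steps.bwd (nat_lit 7) (Steps.fwd (nat_lit 524288) Steps.nil))))))) (nat_lit 73) (nat_lit 3),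
  Rule.mk (nat_lit 4) (nat_lit 154) (Steps.bwd (nat_lit 1) (Steps.fwd (nat_lit 1572864) (Steps.bwd (nat_lit 1) (Steps.bwd (nat_lit 4) (Steps.bwd (nat_lit 1) (Steps.bwd (nat_lit 6) (Steps.bwd (nat_lit 1) Steps.nil))))))) (nat_lit 74) (nat_lit 2),
  Rule.mk (nat_lit 1) (nat_lit 274) (Steps.fwd (nat_lit 1572864) (Steps.fwd (nat_lit 262144) (Steps.bwd (nat_lit 2) (Steps.fwd (nat_lit 262144) (Steps.bwd (nat_lit 6) (Steps.fwd (nat_lit 262144) (Steps.bwd (nat_lit 2) (Steps.bwd (nat_lit 1) (Steps.bwd (nat_lit 6) (Steps.bwd (nat_lit 1) (Steps.bwd (nat_lit 6) (Steps.fwd (nat_lit 1310720) (Steps.bwd (nat_lit 2) Steps.nil))))))))))))) (nat_lit 34) (nat_lit 2),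
  Rule.mk (nat_lit 1) (nat_lit 274) (Steps.fwd (nat_lit 1572864) (Steps.fwd (nat_lit 1310720) (Steps.fwd (nat_lit 786432) (Steps.bwd (nat_lit 1) (Steps.fwd (nat_lit 1572864) (Steps.fwd (nat_lit 262144) (Steps.bwd (nat_lit 2) (Steps.fwd (nat_lit 262144) (Steps.bwd (nat_lit 6) (Steps.bwd (nat_lit 1) (Steps.bwd (nat_lit 2) (Steps.bwd (nat_lit 1) (Steps.bwd (nat_lit 6) Steps.nil))))))))))))) (nat_lit 34) (nat_lit 12),
  Rule.mk (nat_lit 6) (nat_lit 274) (Steps.bwd (nat_lit 1) (Steps.bwd (nat_lit 3) (Steps.fwd (nat_lit 262144) (Steps.fwd (nat_lit 1572864) (Steps.fwd (nat_lit 262144) (Steps.fwd (nat_lit 524288) (Steps.bwd (nat_lit 1) (Steps.bwd (nat_lit 6) (Steps.bwd (nat_lit 1) (Steps.fwd (nat_lit 524288) (Steps.fwd (nat_lit 1310720) (Steps.bwd (nat_lit 6) (Steps.fwd (nat_lit 262144) Steps.nil))))))))))))) (nat_lit 35) (nat_lit 4),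
  Rule.mk (nat_lit 0) (nat_lit 294) (Steps.bwd (nat_lit 1) (Steps.bwd (nat_lit 3) (Steps.fwd (nat_lit 1310720) (Steps.bwd (nat_lit 6) (Steps.bwd (nat_lit 1) (Steps.bwd (nat_lit 6) (Steps.bwd (nat_lit 1) (Steps.fwd (nat_lit 524288) (Steps.bwd (nat_lit 1) (Steps.fwd (nat_lit 1572864) (Steps.bwd (nat_lit 1) (Steps.fwd (nat_lit 524288) (Steps.fwd (nat_lit 262144) (Steps.fwd (nat_lit 1572864) Steps.nil)))))))))))))) (nat_lit 35) (nat_lit 12),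
  Rule.mk (nat_lit 3) (nat_lit 114) (Steps.fwd (nat_lit 262144) (Steps.bwd (nat_lit 3) (Steps.fwd (nat_lit 262144) (Steps.fwd (nat_lit 524288) (Steps.bwd (nat_lit 1) Steps.nil))))) (nat_lit 13) (nat_lit 1),
  Rule.mk (nat_lit 0) (nat_lit 134) (Steps.bwd (nat_lit 1) (Steps.bwd (nat_lit 5) (Steps.fwd (nat_lit 1835008) (Steps.bwd (nat_lit 1) (Steps.bwd (nat_lit 5) (Steps.bwd (nat_lit 7) Steps.nil)))))) (nat_lit 52) (nat_lit 0),
  Rule.mk (nat_lit 2) (nat_lit 154) (Steps.bwd (nat_lit 7) (Steps.bwd (nat_lit 1) (Steps.fwd (nat_lit 786432) (Steps.bwd (nat_lit 1) (Steps.bwd (nat_lit 7) (Steps.bwd (nat_lit 2) (Steps.fwd (nat_lit 262144) Steps.nil))))))) (nat_lit 72) (nat_lit 7),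
  Rule.mk (nat_lit 1) (nat_lit 154) (Steps.bwd (nat_lit 3) (Steps.fwd (nat_lit 1835008) (Steps.bwd (nat_lit 1) (Steps.bwd (nat_lit 3) (Steps.fwd (nat_lit 262144) (Steps.bwd (nat_lit 7) (Steps.bwd (nat_lit 3) Steps.nil))))))) (nat_lit 73) (nat_lit 3),
  Rule.mk (nat_lit 0) (nat_lit 174) (Steps.bwd (nat_lit 4) (Steps.bwd (nat_lit 1) (Steps.bwd (nat_lit 6) (Steps.bwd (nat_lit 1) (Steps.fwd (nat_lit 1048576) (Steps.fwd (nat_lit 262144) (Steps.fwd (nat_lit 1572864) (Steps.fwd (nat_lit 262144) Steps.nil)))))))) (nat_lit 74) (nat_lit 1),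
  Rule.mk (nat_lit 4) (nat_lit 154) (Steps.fwd (nat_lit 1835008) (Steps.bwd (nat_lit 1) (Steps.bwd (nat_lit 4) (Steps.fwd (nat_lit 262144) (Steps.fwd (nat_lit 1835008) (Steps.bwd (nat_lit 4) (Steps.bwd (nat_lit 1) Steps.nil))))))) (nat_lit 76) (nat_lit 7),
  Rule.mk (nat_lit 1) (nat_lit 274) (Steps.bwd (nat_lit 6) (Steps.fwd (nat_lit 262144) (Steps.fwd (nat_lit 524288) (Steps.bwd (nat_lit 1) (Steps.bwd (nat_lit 6) (Steps.bwd (nat_lit 1) (Steps.bwd (nat_lit 3) (Steps.fwd (nat_lit 262144) (Steps.bwd (nat_lit 6) (Steps.bwd (nat_lit 1) (Steps.fwd (nat_lit 524288) (Steps.fwd (nat_lit 1310720) (Steps.bwd (nat_lit 6) Steps.nil))))))))))))) (nat_lit 35) (nat_lit 3),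
  Rule.mk (nat_lit 0) (nat_lit 294) (Steps.bwd (nat_lit 3) (Steps.fwd (nat_lit 1310720) (Steps.bwd (nat_lit 6) (Steps.bwd (nat_lit 1) (Steps.fwd (nat_lit 1572864) (Steps.bwd (nat_lit 1) (Steps.fwd (nat_lit 524288) (Steps.bwd (nat_lit 1) (Steps.fwd (nat_lit 1572864) (Steps.bwd (nat_lit 1) (Steps.fwd (nat_lit 524288) (Steps.fwd (nat_lit 262144) (Steps.bwd (nat_lit 6) (Steps.fwd (nat_lit 262144) Steps.nil)))))))))))))) (nat_lit 35) (nat_lit 13),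
  Rule.mk (nat_lit 4) (nat_lit 114) (Steps.fwd (nat_lit 262144) (Steps.fwd (nat_lit 1048576) (Steps.fwd (nat_lit 262144) (Steps.fwd (nat_lit 1048576) (Steps.fwd (nat_lit 262144) Steps.nil))))) (nat_lit 16) (nat_lit 0),
  Rule.mk (nat_lit 0) (nat_lit 334) (Steps.bwd (nat_lit 4) (Steps.fwd (nat_lit 2359296) (Steps.fwd (nat_lit 1048576) (Steps.fwd (nat_lit 2097152) (Steps.bwd (nat_lit 4) (Steps.fwd (nat_lit 2359296) (Steps.fwd (nat_lit 1048576) (Steps.bwd (nat_lit 9) (Steps.bwd (nat_lit 4) (Steps.bwd (nat_lit 8) (Steps.bwd (nat_lit 4) (Steps.bwd (nat_lit 9) (Steps.bwd (nat_lit 4) (Steps.bwd (nat_lit 8) (Steps.fwd (nat_lit 1048576) (Steps.bwd (nat_lit 9) Steps.nil)))))))))))))))) (nat_lit 106) (nat_lit 3),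
  Rule.mk (nat_lit 0) (nat_lit 94) (Steps.bwd (nat_lit 4) (Steps.bwd (nat_lit 7) (Steps.fwd (nat_lit 1048576) (Steps.bwd (nat_lit 7) Steps.nil)))) (nat_lit 30) (nat_lit 1),
  Rule.mk (nat_lit 1) (nat_lit 154) (Steps.fwd (nat_lit 1572864) (Steps.fwd (nat_lit 262144) (Steps.bwd (nat_lit 4) (Steps.bwd (nat_lit 1) (Steps.fwd (nat_lit 1572864) (Steps.fwd (nat_lit 262144) (Steps.bwd (nat_lit 4) Steps.nil))))))) (nat_lit 74) (nat_lit 3),
  Rule.mk (nat_lit 0) (nat_lit 174) (Steps.bwd (nat_lit 4) (Steps.bwd (nat_lit 3) (Steps.fwd (nat_lit 1835008) (Steps.fwd (nat_lit 1572864) (Steps.fwd (nat_lit 1048576) (Steps.bwd (nat_lit 3) (Steps.fwd (nat_lit 1835008) (Steps.fwd (nat_lit 1310720) Steps.nil)))))))) (nat_lit 79) (nat_lit 6),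
  Rule.mk (nat_lit 0) (nat_lit 94) (Steps.bwd (nat_lit 4) (Steps.fwd (nat_lit 1572864) (Steps.fwd (nat_lit 1048576) (Steps.bwd (nat_lit 5) Steps.nil)))) (nat_lit 22) (nat_lit 2),
  Rule.mk (nat_lit 4) (nat_lit 314) (Steps.fwd (nat_lit 2097152) (Steps.bwd (nat_lit 4) (Steps.bwd (nat_lit 8) (Steps.bwd (nat_lit 4) (Steps.fwd (nat_lit 2097152) (Steps.bwd (nat_lit 4) (Steps.fwd (nat_lit 2359296) (Steps.fwd (nat_lit 1048576) (Steps.fwd (nat_lit 2097152) (Steps.fwd (nat_lit 1048576) (Steps.bwd (nat_lit 8) (Steps.fwd (nat_lit 1048576) (Steps.fwd (nat_lit 2097152) (Steps.bwd (nat_lit 4) (Steps.fwd (nat_lit 2359296) Steps.nil))))))))))))))) (nat_lit 106) (nat_lit 2),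
  Rule.mk (nat_lit 4) (nat_lit 154) (Steps.fwd (nat_lit 262144) (Steps.bwd (nat_lit 7) (Steps.fwd (nat_lit 1048576) (Steps.bwd (nat_lit 1) (Steps.bwd (nat_lit 4) (Steps.fwd (nat_lit 1835008) (Steps.bwd (nat_lit 1) Steps.nil))))))) (nat_lit 76) (nat_lit 2),
  Rule.mk (nat_lit 1) (nat_lit 154) (Steps.fwd (nat_lit 1835008) (Steps.bwd (nat_lit 4) (Steps.fwd (nat_lit 262144) (Steps.bwd (nat_lit 4) (Steps.fwd (nat_lit 1835008) (Steps.fwd (nat_lit 262144) (Steps.fwd (nat_lit 1048576) Steps.nil))))))) (nat_lit 76) (nat_lit 3)]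
noncomputable def R_83 : List (Rule) := [Rule.mk (nat_lit 5) (nat_lit 154) (Steps.bwd (nat_lit 1) (Steps.bwd (nat_lit 2) (Steps.bwd (nat_lit 1) (Steps.bwd (nat_lit 5) (Steps.fwd (nat_lit 786432) (Steps.fwd (nat_lit 262144) (Steps.fwd (nat_lit 786432) Steps.nil))))))) (nat_lit 70) (nat_lit 0),
  Rule.mk (nat_lit 1) (nat_lit 154) (Steps.fwd (nat_lit 786432) (Steps.bwd (nat_lit 1) (Steps.bwd (nat_lit 7) (Steps.bwd (nat_lit 2) (Steps.bwd (nat_lit 1) (Steps.bwd (nat_lit 2) (Steps.fwd (nat_lit 1835008) Steps.nil))))))) (nat_lit 72) (nat_lit 1),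
  Rule.mk (nat_lit 3) (nat_lit 154) (Steps.fwd (nat_lit 1835008) (Steps.bwd (nat_lit 1) (Steps.fwd (nat_lit 524288) (Steps.bwd (nat_lit 1) (Steps.bwd (nat_lit 7) (Steps.bwd (nat_lit 3) (Steps.bwd (nat_lit 1) Steps.nil))))))) (nat_lit 73) (nat_lit 4),
  Rule.mk (nat_lit 1) (nat_lit 274) (Steps.fwd (nat_lit 1572864) (Steps.fwd (nat_lit 262144) (Steps.bwd (nat_lit 2) (Steps.bwd (nat_lit 1) (Steps.fwd (nat_lit 1572864) (Steps.fwd (nat_lit 262144) (Steps.fwd (nat_lit 786432) (Steps.bwd (nat_lit 1) (Steps.bwd (nat_lit 6) (Steps.bwd (nat_lit 1) (Steps.fwd (nat_lit 1572864) (Steps.fwd (nat_lit 1310720) (Steps.fwd (nat_lit 786432) Steps.nil))))))))))))) (nat_lit 34) (nat_lit 2),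
  Rule.mk (nat_lit 4) (nat_lit 114) (Steps.fwd (nat_lit 262144) (Steps.bwd (nat_lit 4) (Steps.bwd (nat_lit 1) (Steps.fwd (nat_lit 1048576) (Steps.fwd (nat_lit 262144) Steps.nil))))) (nat_lit 16) (nat_lit 0),
  Rule.mk (nat_lit 1) (nat_lit 154) (Steps.fwd (nat_lit 786432) (Steps.fwd (nat_lit 262144) (Steps.bwd (nat_lit 7) (Steps.fwd (nat_lit 786432) (Steps.bwd (nat_lit 1) (Steps.fwd (nat_lit 786432) (Steps.bwd (nat_lit 7) Steps.nil))))))) (nat_lit 72) (nat_lit 1),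
  Rule.mk (nat_lit 1) (nat_lit 274) (Steps.bwd (nat_lit 6) (Steps.fwd (nat_lit 1310720) (Steps.bwd (nat_lit 2) (Steps.bwd (nat_lit 1) (Steps.bwd (nat_lit 6) (Steps.fwd (nat_lit 262144) (Steps.fwd (nat_lit 786432) (Steps.bwd (nat_lit 1) (Steps.fwd (nat_lit 1572864) (Steps.fwd (nat_lit 262144) (Steps.fwd (nat_lit 786432) (Steps.bwd (nat_lit 1) (Steps.fwd (nat_lit 1572864) Steps.nil))))))))))))) (nat_lit 34) (nat_lit 12),
  Rule.mk (nat_lit 1) (nat_lit 274) (Steps.fwd (nat_lit 524288) (Steps.bwd (nat_lit 5) (Steps.bwd (nat_lit 6) (Steps.bwd (nat_lit 1) (Steps.fwd (nat_lit 1572864) (Steps.fwd (nat_lit 262144) (Steps.fwd (nat_lit 524288) (Steps.bwd (nat_lit 1) (Steps.fwd (nat_lit 1572864) (Steps.bwd (nat_lit 1) (Steps.bwd (nat_lit 3) (Steps.bwd (nat_lit 1) (Steps.fwd (nat_lit 1572864) Steps.nil))))))))))))) (nat_lit 35) (nat_lit 13),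
  Rule.mk (nat_lit 1) (nat_lit 114) (Steps.fwd (nat_lit 786432) (Steps.bwd (nat_lit 1) (Steps.fwd (nat_lit 786432) (Steps.bwd (nat_lit 1) (Steps.bwd (nat_lit 2) Steps.nil))))) (nat_lit 12) (nat_lit 1),
  Rule.mk (nat_lit 1) (nat_lit 154) (Steps.fwd (nat_lit 786432) (Steps.bwd (nat_lit 1) (Steps.bwd (nat_lit 7) (Steps.fwd (nat_lit 786432) (Steps.bwd (nat_lit 1) (Steps.bwd (nat_lit 2) (Steps.fwd (nat_lit 1835008) Steps.nil))))))) (nat_lit 72) (nat_lit 1),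
  Rule.mk (nat_lit 4) (nat_lit 154) (Steps.fwd (nat_lit 262144) (Steps.fwd (nat_lit 1048576) (Steps.bwd (nat_lit 7) (Steps.bwd (nat_lit 1) (Steps.bwd (nat_lit 4) (Steps.bwd (nat_lit 1) (Steps.bwd (nat_lit 7) Steps.nil))))))) (nat_lit 76) (nat_lit 5),
  Rule.mk (nat_lit 1) (nat_lit 274) (Steps.fwd (nat_lit 1572864) (Steps.bwd (nat_lit 5) (Steps.bwd (nat_lit 2) (Steps.bwd (nat_lit 1) (Steps.bwd (nat_lit 6) (Steps.fwd (nat_lit 262144) (Steps.fwd (nat_lit 786432) (Steps.bwd (nat_lit 1) (Steps.fwd (nat_lit 1572864) (Steps.bwd (nat_lit 1) (Steps.fwd (nat_lit 786432) (Steps.bwd (nat_lit 1) (Steps.bwd (nat_lit 6) Steps.nil))))))))))))) (nat_lit 34) (nat_lit 12),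
  Rule.mk (nat_lit 0) (nat_lit 174) (Steps.bwd (nat_lit 1) (Steps.fwd (nat_lit 1048576) (Steps.fwd (nat_lit 262144) (Steps.fwd (nat_lit 1572864) (Steps.fwd (nat_lit 262144) (Steps.fwd (nat_lit 1048576) (Steps.fwd (nat_lit 262144) (Steps.fwd (nat_lit 1572864) Steps.nil)))))))) (nat_lit 74) (nat_lit 0),
  Rule.mk (nat_lit 3) (nat_lit 114) (Steps.bwd (nat_lit 9) (Steps.bwd (nat_lit 1) (Steps.bwd (nat_lit 8) (Steps.bwd (nat_lit 2) (Steps.bwd (nat_lit 1) Steps.nil))))) (nat_lit 104) (nat_lit 4),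
  Rule.mk (nat_lit 1) (nat_lit 154) (Steps.fwd (nat_lit 786432) (Steps.fwd (nat_lit 262144) (Steps.fwd (nat_lit 1310720) (Steps.fwd (nat_lit 786432) (Steps.bwd (nat_lit 1) (Steps.bwd (nat_lit 2) (Steps.bwd (nat_lit 5) Steps.nil))))))) (nat_lit 70) (nat_lit 1),
  Rule.mk (nat_lit 1) (nat_lit 154) (Steps.fwd (nat_lit 524288) (Steps.bwd (nat_lit 5) (Steps.bwd (nat_lit 1) (Steps.bwd (nat_lit 3) (Steps.bwd (nat_lit 1) (Steps.bwd (nat_lit 5) (Steps.fwd (nat_lit 524288) Steps.nil))))))) (nat_lit 71) (nat_lit 3),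
  Rule.mk (nat_lit 4) (nat_lit 154) (Steps.bwd (nat_lit 1) (Steps.bwd (nat_lit 6) (Steps.bwd (nat_lit 1) (Steps.fwd (nat_lit 1048576) (Steps.fwd (nat_lit 262144) (Steps.bwd (nat_lit 6) (Steps.fwd (nat_lit 262144) Steps.nil))))))) (nat_lit 74) (nat_lit 2),
  Rule.mk (nat_lit 4) (nat_lit 154) (Steps.fwd (nat_lit 1835008) (Steps.fwd (nat_lit 262144) (Steps.bwd (nat_lit 4) (Steps.bwd (nat_lit 1) (Steps.bwd (nat_lit 7) (Steps.fwd (nat_lit 1048576) (Steps.fwd (nat_lit 262144) Steps.nil))))))) (nat_lit 76) (nat_lit 7),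
  Rule.mk (nat_lit 1) (nat_lit 274) (Steps.fwd (nat_lit 1572864) (Steps.bwd (nat_lit 1) (Steps.fwd (nat_lit 524288) (Steps.fwd (nat_lit 262144) (Steps.bwd (nat_lit 6) (Steps.fwd (nat_lit 262144) (Steps.bwd (nat_lit 3) (Steps.fwd (nat_lit 262144) (Steps.bwd (nat_lit 6) (Steps.bwd (nat_lit 1) (Steps.bwd (nat_lit 3) (Steps.fwd (nat_lit 1310720) (Steps.fwd (nat_lit 1572864) Steps.nil))))))))))))) (nat_lit 35) (nat_lit 3),
  Rule.mk (nat_lit 2) (nat_lit 154) (Steps.bwd (nat_lit 1) (Steps.bwd (nat_lit 7) (Steps.fwd (nat_lit 786432) (Steps.bwd (nat_lit 1) (Steps.fwd (nat_lit 786432) (Steps.fwd (nat_lit 1835008) (Steps.bwd (nat_lit 1) Steps.nil))))))) (nat_lit 72) (nat_lit 2),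
  Rule.mk (nat_lit 4) (nat_lit 114) (Steps.fwd (nat_lit 1572864) (Steps.bwd (nat_lit 2) (Steps.bwd (nat_lit 4) (Steps.bwd (nat_lit 5) (Steps.bwd (nat_lit 2) Steps.nil))))) (nat_lit 54) (nat_lit 5),
  Rule.mk (nat_lit 4) (nat_lit 314) (Steps.bwd (nat_lit 8) (Steps.fwd (nat_lit 1048576) (Steps.fwd (nat_lit 2097152) (Steps.fwd (nat_lit 1048576) (Steps.fwd (nat_lit 2359296) (Steps.bwd (nat_lit 4) (Steps.bwd (nat_lit 9) (Steps.bwd (nat_lit 4) (Steps.bwd (nat_lit 8) (Steps.bwd (nat_lit 4) (Steps.bwd (nat_lit 9) (Steps.bwd (nat_lit 4) (Steps.bwd (nat_lit 8) (Steps.fwd (nat_lit 1048576) (Steps.fwd (nat_lit 2097152) Steps.nil))))))))))))))) (nat_lit 106) (nat_lit 0),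
  Rule.mk (nat_lit 1) (nat_lit 154) (Steps.fwd (nat_lit 1835008) (Steps.bwd (nat_lit 4) (Steps.bwd (nat_lit 1) (Steps.bwd (nat_lit 4) (Steps.bwd (nat_lit 7) (Steps.bwd (nat_lit 1) (Steps.fwd (nat_lit 1048576) Steps.nil))))))) (nat_lit 76) (nat_lit 3),
  Rule.mk (nat_lit 4) (nat_lit 154) (Steps.fwd (nat_lit 524288) (Steps.fwd (nat_lit 1835008) (Steps.fwd (nat_lit 1310720) (Steps.bwd (nat_lit 4) (Steps.fwd (nat_lit 524288) (Steps.bwd (nat_lit 7) (Steps.fwd (nat_lit 1572864) Steps.nil))))))) (nat_lit 79) (nat_lit 3),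
  Rule.mk (nat_lit 4) (nat_lit 154) (Steps.fwd (nat_lit 1835008) (Steps.fwd (nat_lit 786432) (Steps.fwd (nat_lit 1572864) (Steps.bwd (nat_lit 4) (Steps.bwd (nat_lit 7) (Steps.bwd (nat_lit 2) (Steps.fwd (nat_lit 1310720) Steps.nil))))))) (nat_lit 86) (nat_lit 3),
  Rule.mk (nat_lit 0) (nat_lit 134) (Steps.bwd (nat_lit 4) (Steps.fwd (nat_lit 262144) (Steps.bwd (nat_lit 4) (Steps.fwd (nat_lit 262144) (Steps.bwd (nat_lit 4) (Steps.bwd (nat_lit 1) Steps.nil)))))) (nat_lit 16) (nat_lit 1),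
  Rule.mk (nat_lit 4) (nat_lit 154) (Steps.fwd (nat_lit 262144) (Steps.fwd (nat_lit 1835008) (Steps.bwd (nat_lit 4) (Steps.fwd (nat_lit 262144) (Steps.bwd (nat_lit 4) (Steps.fwd (nat_lit 1835008) (Steps.bwd (nat_lit 1) Steps.nil))))))) (nat_lit 76) (nat_lit 2),
  Rule.mk (nat_lit 4) (nat_lit 114) (Steps.bwd (nat_lit 3) (Steps.fwd (nat_lit 1310720) (Steps.bwd (nat_lit 4) (Steps.fwd (nat_lit 524288) (Steps.bwd (nat_lit 6) Steps.nil))))) (nat_lit 55) (nat_lit 2),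
  Rule.mk (nat_lit 6) (nat_lit 154) (Steps.bwd (nat_lit 4) (Steps.bwd (nat_lit 3) (Steps.bwd (nat_lit 7) (Steps.fwd (nat_lit 1310720) (Steps.bwd (nat_lit 4) (Steps.fwd (nat_lit 524288) (Steps.bwd (nat_lit 7) Steps.nil))))))) (nat_lit 79) (nat_lit 2),
  Rule.mk (nat_lit 0) (nat_lit 174) (Steps.bwd (nat_lit 4) (Steps.bwd (nat_lit 5) (Steps.fwd (nat_lit 1835008) (Steps.bwd (nat_lit 2) (Steps.fwd (nat_lit 1048576) (Steps.fwd (nat_lit 1572864) (Steps.fwd (nat_lit 1835008) (Steps.bwd (nat_lit 2) Steps.nil)))))))) (nat_lit 78) (nat_lit 1),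
  Rule.mk (nat_lit 0) (nat_lit 174) (Steps.bwd (nat_lit 4) (Steps.bwd (nat_lit 1) (Steps.bwd (nat_lit 6) (Steps.fwd (nat_lit 262144) (Steps.bwd (nat_lit 4) (Steps.fwd (nat_lit 262144) (Steps.bwd (nat_lit 6) (Steps.fwd (nat_lit 262144) Steps.nil)))))))) (nat_lit 74) (nat_lit 1),
  Rule.mk (nat_lit 1) (nat_lit 274) (Steps.bwd (nat_lit 6) (Steps.bwd (nat_lit 1) (Steps.bwd (nat_lit 3) (Steps.fwd (nat_lit 262144) (Steps.bwd (nat_lit 6) (Steps.fwd (nat_lit 262144) (Steps.fwd (nat_lit 524288) (Steps.bwd (nat_lit 1) (Steps.bwd (nat_lit 6) (Steps.fwd (nat_lit 262144) (Steps.fwd (nat_lit 524288) (Steps.fwd (nat_lit 1310720) (Steps.bwd (nat_lit 6) Steps.nil))))))))))))) (nat_lit 35) (nat_lit 3),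
  Rule.mk (nat_lit 0) (nat_lit 134) (Steps.fwd (nat_lit 262144) (Steps.fwd (nat_lit 1048576) (Steps.fwd (nat_lit 262144) (Steps.bwd (nat_lit 4) (Steps.fwd (nat_lit 262144) (Steps.fwd (nat_lit 1048576) Steps.nil)))))) (nat_lit 16) (nat_lit 0),
  Rule.mk (nat_lit 3) (nat_lit 114) (Steps.bwd (nat_lit 5) (Steps.bwd (nat_lit 4) (Steps.bwd (nat_lit 3) (Steps.bwd (nat_lit 6) (Steps.fwd (nat_lit 1048576) Steps.nil))))) (nat_lit 55) (nat_lit 3),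
  Rule.mk (nat_lit 2) (nat_lit 114) (Steps.bwd (nat_lit 5) (Steps.bwd (nat_lit 4) (Steps.bwd (nat_lit 2) (Steps.fwd (nat_lit 1572864) (Steps.fwd (nat_lit 1048576) Steps.nil))))) (nat_lit 58) (nat_lit 1),
  Rule.mk (nat_lit 2) (nat_lit 114) (Steps.fwd (nat_lit 1835008) (Steps.bwd (nat_lit 5) (Steps.fwd (nat_lit 524288) (Steps.bwd (nat_lit 7) (Steps.bwd (nat_lit 5) Steps.nil))))) (nat_lit 61) (nat_lit 3),
  Rule.mk (nat_lit 4) (nat_lit 114) (Steps.bwd (nat_lit 7) (Steps.bwd (nat_lit 5) (Steps.bwd (nat_lit 4) (Steps.fwd (nat_lit 1835008) (Steps.bwd (nat_lit 6) Steps.nil))))) (nat_lit 67) (nat_lit 3),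
  Rule.mk (nat_lit 1) (nat_lit 154) (Steps.bwd (nat_lit 5) (Steps.fwd (nat_lit 786432) (Steps.bwd (nat_lit 1) (Steps.bwd (nat_lit 2) (Steps.bwd (nat_lit 5) (Steps.fwd (nat_lit 262144) (Steps.fwd (nat_lit 786432) Steps.nil))))))) (nat_lit 70) (nat_lit 3),
  Rule.mk (nat_lit 0) (nat_lit 174) (Steps.bwd (nat_lit 1) (Steps.fwd (nat_lit 786432) (Steps.bwd (nat_lit 1) (Steps.fwd (nat_lit 1310720) (Steps.fwd (nat_lit 786432) (Steps.fwd (nat_lit 262144) (Steps.bwd (nat_lit 2) (Steps.fwd (nat_lit 1310720) Steps.nil)))))))) (nat_lit 70) (nat_lit 0),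
  Rule.mk (nat_lit 4) (nat_lit 154) (Steps.bwd (nat_lit 6) (Steps.bwd (nat_lit 7) (Steps.bwd (nat_lit 2) (Steps.bwd (nat_lit 4) (Steps.bwd (nat_lit 5) (Steps.fwd (nat_lit 1835008) (Steps.fwd (nat_lit 786432) Steps.nil))))))) (nat_lit 78) (nat_lit 6),
  Rule.mk (nat_lit 4) (nat_lit 154) (Steps.fwd (nat_lit 1835008) (Steps.bwd (nat_lit 6) (Steps.bwd (nat_lit 2) (Steps.bwd (nat_lit 4) (Steps.bwd (nat_lit 7) (Steps.bwd (nat_lit 5) (Steps.bwd (nat_lit 2) Steps.nil))))))) (nat_lit 80) (nat_lit 6),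
  Rule.mk (nat_lit 2) (nat_lit 154) (Steps.bwd (nat_lit 7) (Steps.bwd (nat_lit 5) (Steps.bwd (nat_lit 4) (Steps.bwd (nat_lit 2) (Steps.bwd (nat_lit 7) (Steps.fwd (nat_lit 1572864) (Steps.fwd (nat_lit 1048576) Steps.nil))))))) (nat_lit 92) (nat_lit 1),
  Rule.mk (nat_lit 1) (nat_lit 154) (Steps.bwd (nat_lit 2) (Steps.bwd (nat_lit 1) (Steps.fwd (nat_lit 1835008) (Steps.bwd (nat_lit 2) (Steps.bwd (nat_lit 1) (Steps.fwd (nat_lit 786432) (Steps.bwd (nat_lit 7) Steps.nil))))))) (nat_lit 72) (nat_lit 1),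
  Rule.mk (nat_lit 4) (nat_lit 154) (Steps.fwd (nat_lit 786432) (Steps.bwd (nat_lit 5) (Steps.bwd (nat_lit 7) (Steps.fwd (nat_lit 1048576) (Steps.bwd (nat_lit 2) (Steps.bwd (nat_lit 6) (Steps.fwd (nat_lit 1835008) Steps.nil))))))) (nat_lit 88) (nat_lit 0),
  Rule.mk (nat_lit 6) (nat_lit 114) (Steps.bwd (nat_lit 4) (Steps.fwd (nat_lit 1835008) (Steps.bwd (nat_lit 5) (Steps.bwd (nat_lit 4) (Steps.fwd (nat_lit 1835008) Steps.nil))))) (nat_lit 67) (nat_lit 2),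
  Rule.mk (nat_lit 0) (nat_lit 134) (Steps.bwd (nat_lit 4) (Steps.bwd (nat_lit 1) (Steps.bwd (nat_lit 4) (Steps.fwd (nat_lit 262144) (Steps.bwd (nat_lit 4) (Steps.fwd (nat_lit 262144) Steps.nil)))))) (nat_lit 16) (nat_lit 1),
  Rule.mk (nat_lit 4) (nat_lit 314) (Steps.bwd (nat_lit 8) (Steps.fwd (nat_lit 1048576) (Steps.fwd (nat_lit 2097152) (Steps.fwd (nat_lit 1048576) (Steps.bwd (nat_lit 8) (Steps.fwd (nat_lit 1048576) (Steps.fwd (nat_lit 2097152) (Steps.fwd (nat_lit 1048576) (Steps.fwd (nat_lit 2359296) (Steps.fwd (nat_lit 1048576) (Steps.bwd (nat_lit 9) (Steps.bwd (nat_lit 4) (Steps.fwd (nat_lit 2359296) (Steps.bwd (nat_lit 4) (Steps.bwd (nat_lit 9) Steps.nil))))))))))))))) (nat_lit 106) (nat_lit 0),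
  Rule.mk (nat_lit 0) (nat_lit 94) (Steps.bwd (nat_lit 4) (Steps.bwd (nat_lit 2) (Steps.fwd (nat_lit 1048576) (Steps.bwd (nat_lit 2) Steps.nil)))) (nat_lit 14) (nat_lit 0),
  Rule.mk (nat_lit 2) (nat_lit 114) (Steps.bwd (nat_lit 6) (Steps.bwd (nat_lit 4) (Steps.bwd (nat_lit 2) (Steps.fwd (nat_lit 1310720) (Steps.fwd (nat_lit 1048576) Steps.nil))))) (nat_lit 58) (nat_lit 4),
  Rule.mk (nat_lit 7) (nat_lit 114) (Steps.bwd (nat_lit 6) (Steps.bwd (nat_lit 4) (Steps.fwd (nat_lit 1835008) (Steps.fwd (nat_lit 1310720) (Steps.fwd (nat_lit 1048576) Steps.nil))))) (nat_lit 67) (nat_lit 1),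
  Rule.mk (nat_lit 8) (nat_lit 314) (Steps.fwd (nat_lit 1048576) (Steps.bwd (nat_lit 9) (Steps.bwd (nat_lit 4) (Steps.fwd (nat_lit 2359296) (Steps.bwd (nat_lit 4) (Steps.fwd (nat_lit 2097152) (Steps.fwd (nat_lit 1048576) (Steps.bwd (nat_lit 8) (Steps.bwd (nat_lit 4) (Steps.bwd (nat_lit 9) (Steps.bwd (nat_lit 4) (Steps.bwd (nat_lit 8) (Steps.bwd (nat_lit 4) (Steps.bwd (nat_lit 9) (Steps.fwd (nat_lit 1048576) Steps.nil))))))))))))))) (nat_lit 106) (nat_lit 1),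
  Rule.mk (nat_lit 1) (nat_lit 154) (Steps.bwd (nat_lit 3) (Steps.fwd (nat_lit 1310720) (Steps.bwd (nat_lit 1) (Steps.fwd (nat_lit 524288) (Steps.bwd (nat_lit 1) (Steps.fwd (nat_lit 1310720) (Steps.fwd (nat_lit 524288) Steps.nil))))))) (nat_lit 71) (nat_lit 3),
  Rule.mk (nat_lit 1) (nat_lit 274) (Steps.fwd (nat_lit 1572864) (Steps.bwd (nat_lit 1) (Steps.bwd (nat_lit 3) (Steps.fwd (nat_lit 262144) (Steps.bwd (nat_lit 6) (Steps.bwd (nat_lit 1) (Steps.fwd (nat_lit 524288) (Steps.bwd (nat_lit 1) (Steps.bwd (nat_lit 6) (Steps.bwd (nat_lit 1) (Steps.bwd (nat_lit 3) (Steps.fwd (nat_lit 1310720) (Steps.fwd (nat_lit 1572864) Steps.nil))))))))))))) (nat_lit 35) (nat_lit 3),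
  Rule.mk (nat_lit 3) (nat_lit 274) (Steps.bwd (nat_lit 1) (Steps.bwd (nat_lit 6) (Steps.bwd (nat_lit 1) (Steps.fwd (nat_lit 524288) (Steps.bwd (nat_lit 1) (Steps.fwd (nat_lit 1572864) (Steps.fwd (nat_lit 262144) (Steps.fwd (nat_lit 524288) (Steps.fwd (nat_lit 1310720) (Steps.bwd (nat_lit 6) (Steps.bwd (nat_lit 1) (Steps.bwd (nat_lit 6) (Steps.fwd (nat_lit 262144) Steps.nil))))))))))))) (nat_lit 35) (nat_lit 6),
  Rule.mk (nat_lit 7) (nat_lit 154) (Steps.bwd (nat_lit 1) (Steps.bwd (nat_lit 3) (Steps.bwd (nat_lit 1) (Steps.fwd (nat_lit 1835008) (Steps.fwd (nat_lit 524288) (Steps.fwd (nat_lit 262144) (Steps.bwd (nat_lit 3) Steps.nil))))))) (nat_lit 73) (nat_lit 5),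
  Rule.mk (nat_lit 4) (nat_lit 154) (Steps.bwd (nat_lit 5) (Steps.bwd (nat_lit 3) (Steps.bwd (nat_lit 7) (Steps.fwd (nat_lit 1048576) (Steps.bwd (nat_lit 6) (Steps.bwd (nat_lit 3) (Steps.bwd (nat_lit 7) Steps.nil))))))) (nat_lit 87) (nat_lit 6),
  Rule.mk (nat_lit 0) (nat_lit 134) (Steps.bwd (nat_lit 4) (Steps.fwd (nat_lit 262144) (Steps.bwd (nat_lit 4) (Steps.fwd (nat_lit 262144) (Steps.fwd (nat_lit 1048576) (Steps.fwd (nat_lit 262144) Steps.nil)))))) (nat_lit 16) (nat_lit 1),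
  Rule.mk (nat_lit 0) (nat_lit 174) (Steps.bwd (nat_lit 4) (Steps.bwd (nat_lit 1) (Steps.bwd (nat_lit 7) (Steps.bwd (nat_lit 4) (Steps.bwd (nat_lit 1) (Steps.fwd (nat_lit 1048576) (Steps.fwd (nat_lit 1835008) (Steps.bwd (nat_lit 1) Steps.nil)))))))) (nat_lit 76) (nat_lit 1),
  Rule.mk (nat_lit 0) (nat_lit 334) (Steps.bwd (nat_lit 8) (Steps.bwd (nat_lit 4) (Steps.bwd (nat_lit 9) (Steps.fwd (nat_lit 1048576) (Steps.bwd (nat_lit 8) (Steps.bwd (nat_lit 4) (Steps.fwd (nat_lit 2097152) (Steps.fwd (nat_lit 1048576) (Steps.bwd (nat_lit 8) (Steps.fwd (nat_lit 1048576) (Steps.fwd (nat_lit 2097152) (Steps.fwd (nat_lit 1048576) (Steps.fwd (nat_lit 2359296) (Steps.bwd (nat_lit 4) (Steps.fwd (nat_lit 2097152) (Steps.fwd (nat_lit 1048576) Steps.nil)))))))))))))))) (nat_lit 106) (nat_lit 0),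
  Rule.mk (nat_lit 4) (nat_lit 74) (Steps.fwd (nat_lit 1572864) (Steps.fwd (nat_lit 1048576) (Steps.fwd (nat_lit 1310720) Steps.nil))) (nat_lit 22) (nat_lit 3),
  Rule.mk (nat_lit 2) (nat_lit 114) (Steps.fwd (nat_lit 1048576) (Steps.fwd (nat_lit 1310720) (Steps.fwd (nat_lit 786432) (Steps.fwd (nat_lit 1048576) (Steps.fwd (nat_lit 1572864) Steps.nil))))) (nat_lit 54) (nat_lit 1),
  Rule.mk (nat_lit 2) (nat_lit 114) (Steps.bwd (nat_lit 4) (Steps.fwd (nat_lit 1572864) (Steps.fwd (nat_lit 786432) (Steps.fwd (nat_lit 1048576) (Steps.fwd (nat_lit 1310720) Steps.nil))))) (nat_lit 54) (nat_lit 4),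
  Rule.mk (nat_lit 7) (nat_lit 114) (Steps.bwd (nat_lit 4) (Steps.fwd (nat_lit 1572864) (Steps.bwd (nat_lit 7) (Steps.fwd (nat_lit 1048576) (Steps.fwd (nat_lit 1310720) Steps.nil))))) (nat_lit 66) (nat_lit 3),
  Rule.mk (nat_lit 4) (nat_lit 154) (Steps.fwd (nat_lit 1835008) (Steps.bwd (nat_lit 2) (Steps.fwd (nat_lit 1572864) (Steps.fwd (nat_lit 1048576) (Steps.fwd (nat_lit 1835008) (Steps.bwd (nat_lit 2) (Steps.bwd (nat_lit 5) Steps.nil))))))) (nat_lit 86) (nat_lit 3)]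
noncomputable def R_84 : List (Rule) := [Rule.mk (nat_lit 7) (nat_lit 154) (Steps.bwd (nat_lit 4) (Steps.fwd (nat_lit 786432) (Steps.fwd (nat_lit 1572864) (Steps.bwd (nat_lit 7) (Steps.fwd (nat_lit 1048576) (Steps.fwd (nat_lit 786432) (Steps.fwd (nat_lit 1310720) Steps.nil))))))) (nat_lit 88) (nat_lit 3),
  Rule.mk (nat_lit 0) (nat_lit 114) (Steps.fwd (nat_lit 1572864) (Steps.fwd (nat_lit 1835008) (Steps.bwd (nat_lit 5) (Steps.bwd (nat_lit 6) (Steps.bwd (nat_lit 5) Steps.nil))))) (nat_lit 25) (nat_lit 4),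
  Rule.mk (nat_lit 1) (nat_lit 114) (Steps.bwd (nat_lit 7) (Steps.fwd (nat_lit 1310720) (Steps.fwd (nat_lit 262144) (Steps.fwd (nat_lit 1835008) (Steps.fwd (nat_lit 1310720) Steps.nil))))) (nat_lit 53) (nat_lit 0),
  Rule.mk (nat_lit 1) (nat_lit 154) (Steps.fwd (nat_lit 524288) (Steps.bwd (nat_lit 7) (Steps.bwd (nat_lit 1) (Steps.fwd (nat_lit 524288) (Steps.fwd (nat_lit 262144) (Steps.fwd (nat_lit 1835008) (Steps.fwd (nat_lit 524288) Steps.nil))))))) (nat_lit 73) (nat_lit 3),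
  Rule.mk (nat_lit 1) (nat_lit 154) (Steps.fwd (nat_lit 1835008) (Steps.fwd (nat_lit 786432) (Steps.fwd (nat_lit 262144) (Steps.fwd (nat_lit 786432) (Steps.fwd (nat_lit 1835008) (Steps.bwd (nat_lit 1) (Steps.bwd (nat_lit 2) Steps.nil))))))) (nat_lit 72) (nat_lit 3),
  Rule.mk (nat_lit 1) (nat_lit 154) (Steps.fwd (nat_lit 524288) (Steps.fwd (nat_lit 1310720) (Steps.fwd (nat_lit 262144) (Steps.fwd (nat_lit 524288) (Steps.fwd (nat_lit 262144) (Steps.bwd (nat_lit 5) (Steps.fwd (nat_lit 524288) Steps.nil))))))) (nat_lit 71) (nat_lit 3),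
  Rule.mk (nat_lit 3) (nat_lit 154) (Steps.bwd (nat_lit 5) (Steps.bwd (nat_lit 1) (Steps.fwd (nat_lit 524288) (Steps.fwd (nat_lit 262144) (Steps.fwd (nat_lit 1310720) (Steps.fwd (nat_lit 524288) (Steps.fwd (nat_lit 262144) Steps.nil))))))) (nat_lit 71) (nat_lit 4),
  Rule.mk (nat_lit 1) (nat_lit 154) (Steps.fwd (nat_lit 1835008) (Steps.fwd (nat_lit 524288) (Steps.fwd (nat_lit 262144) (Steps.bwd (nat_lit 3) (Steps.fwd (nat_lit 1835008) (Steps.bwd (nat_lit 1) (Steps.bwd (nat_lit 3) Steps.nil))))))) (nat_lit 73) (nat_lit 0),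
  Rule.mk (nat_lit 1) (nat_lit 154) (Steps.bwd (nat_lit 3) (Steps.fwd (nat_lit 1835008) (Steps.bwd (nat_lit 1) (Steps.bwd (nat_lit 3) (Steps.fwd (nat_lit 262144) (Steps.fwd (nat_lit 1835008) (Steps.bwd (nat_lit 3) Steps.nil))))))) (nat_lit 73) (nat_lit 3),
  Rule.mk (nat_lit 1) (nat_lit 114) (Steps.fwd (nat_lit 2359296) (Steps.bwd (nat_lit 2) (Steps.bwd (nat_lit 1) (Steps.bwd (nat_lit 3) (Steps.fwd (nat_lit 2097152) Steps.nil))))) (nat_lit 104) (nat_lit 0),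
  Rule.mk (nat_lit 4) (nat_lit 154) (Steps.fwd (nat_lit 262144) (Steps.bwd (nat_lit 4) (Steps.fwd (nat_lit 1835008) (Steps.fwd (nat_lit 262144) (Steps.bwd (nat_lit 4) (Steps.bwd (nat_lit 1) (Steps.bwd (nat_lit 7) Steps.nil))))))) (nat_lit 76) (nat_lit 5),
  Rule.mk (nat_lit 0) (nat_lit 134) (Steps.fwd (nat_lit 524288) (Steps.bwd (nat_lit 5) (Steps.fwd (nat_lit 1048576) (Steps.bwd (nat_lit 3) (Steps.fwd (nat_lit 1572864) (Steps.fwd (nat_lit 1048576) Steps.nil)))))) (nat_lit 55) (nat_lit 2),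
  Rule.mk (nat_lit 4) (nat_lit 114) (Steps.fwd (nat_lit 524288) (Steps.fwd (nat_lit 1572864) (Steps.bwd (nat_lit 4) (Steps.fwd (nat_lit 524288) (Steps.bwd (nat_lit 5) Steps.nil))))) (nat_lit 55) (nat_lit 5),
  Rule.mk (nat_lit 4) (nat_lit 114) (Steps.fwd (nat_lit 524288) (Steps.bwd (nat_lit 7) (Steps.bwd (nat_lit 4) (Steps.fwd (nat_lit 524288) (Steps.fwd (nat_lit 1835008) Steps.nil))))) (nat_lit 57) (nat_lit 2),
  Rule.mk (nat_lit 4) (nat_lit 154) (Steps.bwd (nat_lit 1) (Steps.fwd (nat_lit 1048576) (Steps.bwd (nat_lit 7) (Steps.fwd (nat_lit 262144) (Steps.fwd (nat_lit 1048576) (Steps.fwd (nat_lit 262144) (Steps.bwd (nat_lit 7) Steps.nil))))))) (nat_lit 76) (nat_lit 5),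
  Rule.mk (nat_lit 4) (nat_lit 314) (Steps.fwd (nat_lit 2097152) (Steps.bwd (nat_lit 4) (Steps.fwd (nat_lit 2359296) (Steps.fwd (nat_lit 1048576) (Steps.bwd (nat_lit 9) (Steps.bwd (nat_lit 4) (Steps.bwd (nat_lit 8) (Steps.bwd (nat_lit 4) (Steps.fwd (nat_lit 2097152) (Steps.fwd (nat_lit 1048576) (Steps.fwd (nat_lit 2359296) (Steps.fwd (nat_lit 1048576) (Steps.fwd (nat_lit 2097152) (Steps.fwd (nat_lit 1048576) (Steps.fwd (nat_lit 2359296) Steps.nil))))))))))))))) (nat_lit 106) (nat_lit 2),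
  Rule.mk (nat_lit 3) (nat_lit 114) (Steps.fwd (nat_lit 1572864) (Steps.bwd (nat_lit 4) (Steps.fwd (nat_lit 524288) (Steps.bwd (nat_lit 5) (Steps.fwd (nat_lit 1048576) Steps.nil))))) (nat_lit 55) (nat_lit 0),
  Rule.mk (nat_lit 7) (nat_lit 114) (Steps.fwd (nat_lit 1572864) (Steps.bwd (nat_lit 4) (Steps.fwd (nat_lit 1835008) (Steps.bwd (nat_lit 5) (Steps.fwd (nat_lit 1048576) Steps.nil))))) (nat_lit 67) (nat_lit 1),
  Rule.mk (nat_lit 3) (nat_lit 154) (Steps.bwd (nat_lit 7) (Steps.fwd (nat_lit 1310720) (Steps.bwd (nat_lit 4) (Steps.fwd (nat_lit 524288) (Steps.fwd (nat_lit 1835008) (Steps.bwd (nat_lit 6) (Steps.fwd (nat_lit 1048576) Steps.nil))))))) (nat_lit 79) (nat_lit 4),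
  Rule.mk (nat_lit 4) (nat_lit 114) (Steps.bwd (nat_lit 5) (Steps.fwd (nat_lit 786432) (Steps.fwd (nat_lit 1048576) (Steps.bwd (nat_lit 6) (Steps.fwd (nat_lit 786432) Steps.nil))))) (nat_lit 54) (nat_lit 2),
  Rule.mk (nat_lit 4) (nat_lit 114) (Steps.bwd (nat_lit 7) (Steps.fwd (nat_lit 786432) (Steps.fwd (nat_lit 1048576) (Steps.bwd (nat_lit 7) (Steps.fwd (nat_lit 786432) Steps.nil))))) (nat_lit 56) (nat_lit 2),
  Rule.mk (nat_lit 4) (nat_lit 154) (Steps.bwd (nat_lit 5) (Steps.bwd (nat_lit 7) (Steps.fwd (nat_lit 786432) (Steps.fwd (nat_lit 1048576) (Steps.bwd (nat_lit 6) (Steps.bwd (nat_lit 7) (Steps.bwd (nat_lit 2) Steps.nil))))))) (nat_lit 78) (nat_lit 2),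
  Rule.mk (nat_lit 5) (nat_lit 154) (Steps.bwd (nat_lit 4) (Steps.bwd (nat_lit 7) (Steps.fwd (nat_lit 786432) (Steps.fwd (nat_lit 1572864) (Steps.fwd (nat_lit 1048576) (Steps.bwd (nat_lit 7) (Steps.fwd (nat_lit 786432) Steps.nil))))))) (nat_lit 86) (nat_lit 2),
  Rule.mk (nat_lit 0) (nat_lit 114) (Steps.bwd (nat_lit 8) (Steps.bwd (nat_lit 5) (Steps.bwd (nat_lit 9) (Steps.bwd (nat_lit 5) (Steps.bwd (nat_lit 7) Steps.nil))))) (nat_lit 100) (nat_lit 0),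
  Rule.mk (nat_lit 1) (nat_lit 114) (Steps.fwd (nat_lit 1310720) (Steps.fwd (nat_lit 1835008) (Steps.fwd (nat_lit 262144) (Steps.bwd (nat_lit 5) (Steps.bwd (nat_lit 7) Steps.nil))))) (nat_lit 52) (nat_lit 1),
  Rule.mk (nat_lit 2) (nat_lit 114) (Steps.bwd (nat_lit 5) (Steps.fwd (nat_lit 1835008) (Steps.fwd (nat_lit 524288) (Steps.bwd (nat_lit 5) (Steps.bwd (nat_lit 7) Steps.nil))))) (nat_lit 60) (nat_lit 1),
  Rule.mk (nat_lit 1) (nat_lit 114) (Steps.fwd (nat_lit 1048576) (Steps.bwd (nat_lit 1) (Steps.fwd (nat_lit 1048576) (Steps.bwd (nat_lit 1) (Steps.fwd (nat_lit 1048576) Steps.nil))))) (nat_lit 16) (nat_lit 1),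
  Rule.mk (nat_lit 1) (nat_lit 154) (Steps.bwd (nat_lit 2) (Steps.bwd (nat_lit 1) (Steps.bwd (nat_lit 7) (Steps.fwd (nat_lit 786432) (Steps.bwd (nat_lit 1) (Steps.fwd (nat_lit 786432) (Steps.bwd (nat_lit 7) Steps.nil))))))) (nat_lit 72) (nat_lit 1),
  Rule.mk (nat_lit 1) (nat_lit 154) (Steps.fwd (nat_lit 1835008) (Steps.fwd (nat_lit 1048576) (Steps.bwd (nat_lit 1) (Steps.bwd (nat_lit 4) (Steps.bwd (nat_lit 7) (Steps.fwd (nat_lit 262144) (Steps.fwd (nat_lit 1048576) Steps.nil))))))) (nat_lit 76) (nat_lit 3),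
  Rule.mk (nat_lit 2) (nat_lit 154) (Steps.bwd (nat_lit 1) (Steps.bwd (nat_lit 5) (Steps.fwd (nat_lit 786432) (Steps.bwd (nat_lit 1) (Steps.fwd (nat_lit 786432) (Steps.bwd (nat_lit 5) (Steps.fwd (nat_lit 262144) Steps.nil))))))) (nat_lit 70) (nat_lit 2),
  Rule.mk (nat_lit 3) (nat_lit 114) (Steps.fwd (nat_lit 262144) (Steps.fwd (nat_lit 524288) (Steps.fwd (nat_lit 262144) (Steps.fwd (nat_lit 524288) (Steps.bwd (nat_lit 1) Steps.nil))))) (nat_lit 13) (nat_lit 1),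
  Rule.mk (nat_lit 3) (nat_lit 114) (Steps.bwd (nat_lit 6) (Steps.bwd (nat_lit 4) (Steps.bwd (nat_lit 3) (Steps.bwd (nat_lit 5) (Steps.fwd (nat_lit 1048576) Steps.nil))))) (nat_lit 55) (nat_lit 0),
  Rule.mk (nat_lit 4) (nat_lit 114) (Steps.fwd (nat_lit 1310720) (Steps.bwd (nat_lit 3) (Steps.fwd (nat_lit 1048576) (Steps.bwd (nat_lit 6) (Steps.bwd (nat_lit 3) Steps.nil))))) (nat_lit 59) (nat_lit 4),
  Rule.mk (nat_lit 3) (nat_lit 154) (Steps.bwd (nat_lit 1) (Steps.bwd (nat_lit 2) (Steps.fwd (nat_lit 262144) (Steps.bwd (nat_lit 3) (Steps.bwd (nat_lit 1) (Steps.bwd (nat_lit 2) (Steps.bwd (nat_lit 1) Steps.nil))))))) (nat_lit 68) (nat_lit 0),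
  Rule.mk (nat_lit 7) (nat_lit 154) (Steps.bwd (nat_lit 6) (Steps.bwd (nat_lit 4) (Steps.bwd (nat_lit 3) (Steps.fwd (nat_lit 1835008) (Steps.bwd (nat_lit 5) (Steps.fwd (nat_lit 1048576) (Steps.bwd (nat_lit 3) Steps.nil))))))) (nat_lit 79) (nat_lit 1),
  Rule.mk (nat_lit 4) (nat_lit 154) (Steps.bwd (nat_lit 7) (Steps.fwd (nat_lit 1310720) (Steps.bwd (nat_lit 3) (Steps.fwd (nat_lit 1048576) (Steps.fwd (nat_lit 1835008) (Steps.fwd (nat_lit 1572864) (Steps.bwd (nat_lit 3) Steps.nil))))))) (nat_lit 89) (nat_lit 5),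
  Rule.mk (nat_lit 1) (nat_lit 154) (Steps.fwd (nat_lit 1572864) (Steps.bwd (nat_lit 1) (Steps.bwd (nat_lit 4) (Steps.bwd (nat_lit 1) (Steps.fwd (nat_lit 1572864) (Steps.bwd (nat_lit 1) (Steps.bwd (nat_lit 4) Steps.nil))))))) (nat_lit 74) (nat_lit 3),
  Rule.mk (nat_lit 1) (nat_lit 154) (Steps.fwd (nat_lit 1835008) (Steps.bwd (nat_lit 4) (Steps.bwd (nat_lit 1) (Steps.bwd (nat_lit 4) (Steps.bwd (nat_lit 7) (Steps.fwd (nat_lit 262144) (Steps.fwd (nat_lit 1048576) Steps.nil))))))) (nat_lit 76) (nat_lit 3),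
  Rule.mk (nat_lit 5) (nat_lit 154) (Steps.fwd (nat_lit 1835008) (Steps.bwd (nat_lit 4) (Steps.fwd (nat_lit 524288) (Steps.fwd (nat_lit 1572864) (Steps.fwd (nat_lit 1835008) (Steps.fwd (nat_lit 1048576) (Steps.bwd (nat_lit 3) Steps.nil))))))) (nat_lit 81) (nat_lit 5),
  Rule.mk (nat_lit 8) (nat_lit 314) (Steps.bwd (nat_lit 4) (Steps.bwd (nat_lit 9) (Steps.bwd (nat_lit 4) (Steps.fwd (nat_lit 2359296) (Steps.bwd (nat_lit 4) (Steps.bwd (nat_lit 9) (Steps.fwd (nat_lit 1048576) (Steps.fwd (nat_lit 2359296) (Steps.bwd (nat_lit 4) (Steps.bwd (nat_lit 9) (Steps.fwd (nat_lit 1048576) (Steps.bwd (nat_lit 8) (Steps.fwd (nat_lit 1048576) (Steps.fwd (nat_lit 2097152) (Steps.bwd (nat_lit 4) Steps.nil))))))))))))))) (nat_lit 106) (nat_lit 1),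
  Rule.mk (nat_lit 0) (nat_lit 114) (Steps.bwd (nat_lit 8) (Steps.bwd (nat_lit 5) (Steps.fwd (nat_lit 2097152) (Steps.bwd (nat_lit 7) (Steps.fwd (nat_lit 1310720) Steps.nil))))) (nat_lit 101) (nat_lit 2),
  Rule.mk (nat_lit 0) (nat_lit 134) (Steps.bwd (nat_lit 1) (Steps.bwd (nat_lit 3) (Steps.fwd (nat_lit 2097152) (Steps.fwd (nat_lit 262144) (Steps.bwd (nat_lit 8) (Steps.fwd (nat_lit 786432) Steps.nil)))))) (nat_lit 104) (nat_lit 2),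
  Rule.mk (nat_lit 4) (nat_lit 154) (Steps.fwd (nat_lit 524288) (Steps.bwd (nat_lit 7) (Steps.fwd (nat_lit 1310720) (Steps.bwd (nat_lit 4) (Steps.bwd (nat_lit 3) (Steps.fwd (nat_lit 1835008) (Steps.fwd (nat_lit 1572864) Steps.nil))))))) (nat_lit 79) (nat_lit 3),
  Rule.mk (nat_lit 4) (nat_lit 154) (Steps.bwd (nat_lit 1) (Steps.fwd (nat_lit 1835008) (Steps.bwd (nat_lit 4) (Steps.bwd (nat_lit 1) (Steps.fwd (nat_lit 1048576) (Steps.bwd (nat_lit 7) (Steps.bwd (nat_lit 1) Steps.nil))))))) (nat_lit 76) (nat_lit 2),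
  Rule.mk (nat_lit 4) (nat_lit 154) (Steps.fwd (nat_lit 786432) (Steps.bwd (nat_lit 6) (Steps.bwd (nat_lit 7) (Steps.bwd (nat_lit 4) (Steps.bwd (nat_lit 2) (Steps.fwd (nat_lit 1310720) (Steps.bwd (nat_lit 7) Steps.nil))))))) (nat_lit 88) (nat_lit 4),
  Rule.mk (nat_lit 4) (nat_lit 154) (Steps.fwd (nat_lit 262144) (Steps.bwd (nat_lit 7) (Steps.bwd (nat_lit 4) (Steps.bwd (nat_lit 1) (Steps.fwd (nat_lit 1048576) (Steps.bwd (nat_lit 7) (Steps.fwd (nat_lit 262144) Steps.nil))))))) (nat_lit 76) (nat_lit 2),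
  Rule.mk (nat_lit 4) (nat_lit 314) (Steps.fwd (nat_lit 2359296) (Steps.bwd (nat_lit 4) (Steps.bwd (nat_lit 9) (Steps.bwd (nat_lit 4) (Steps.bwd (nat_lit 8) (Steps.bwd (nat_lit 4) (Steps.bwd (nat_lit 9) (Steps.bwd (nat_lit 4) (Steps.bwd (nat_lit 8) (Steps.bwd (nat_lit 4) (Steps.bwd (nat_lit 9) (Steps.bwd (nat_lit 4) (Steps.fwd (nat_lit 2359296) (Steps.fwd (nat_lit 1048576) (Steps.bwd (nat_lit 9) Steps.nil))))))))))))))) (nat_lit 106) (nat_lit 0),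
  Rule.mk (nat_lit 0) (nat_lit 174) (Steps.bwd (nat_lit 4) (Steps.bwd (nat_lit 1) (Steps.fwd (nat_lit 1572864) (Steps.bwd (nat_lit 1) (Steps.fwd (nat_lit 1048576) (Steps.bwd (nat_lit 1) (Steps.fwd (nat_lit 1572864) (Steps.fwd (nat_lit 262144) Steps.nil)))))))) (nat_lit 74) (nat_lit 1),
  Rule.mk (nat_lit 1) (nat_lit 154) (Steps.bwd (nat_lit 4) (Steps.fwd (nat_lit 1835008) (Steps.fwd (nat_lit 262144) (Steps.bwd (nat_lit 4) (Steps.fwd (nat_lit 262144) (Steps.fwd (nat_lit 1835008) (Steps.bwd (nat_lit 4) Steps.nil))))))) (nat_lit 76) (nat_lit 6),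
  Rule.mk (nat_lit 0) (nat_lit 174) (Steps.bwd (nat_lit 1) (Steps.bwd (nat_lit 4) (Steps.bwd (nat_lit 1) (Steps.bwd (nat_lit 7) (Steps.fwd (nat_lit 1048576) (Steps.fwd (nat_lit 262144) (Steps.bwd (nat_lit 4) (Steps.bwd (nat_lit 7) Steps.nil)))))))) (nat_lit 76) (nat_lit 0),
  Rule.mk (nat_lit 1) (nat_lit 154) (Steps.bwd (nat_lit 3) (Steps.bwd (nat_lit 1) (Steps.fwd (nat_lit 1310720) (Steps.fwd (nat_lit 524288) (Steps.bwd (nat_lit 1) (Steps.bwd (nat_lit 3) (Steps.fwd (nat_lit 1310720) Steps.nil))))))) (nat_lit 71) (nat_lit 6),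
  Rule.mk (nat_lit 3) (nat_lit 154) (Steps.fwd (nat_lit 262144) (Steps.fwd (nat_lit 524288) (Steps.fwd (nat_lit 1835008) (Steps.bwd (nat_lit 1) (Steps.bwd (nat_lit 3) (Steps.bwd (nat_lit 1) (Steps.fwd (nat_lit 1835008) Steps.nil))))))) (nat_lit 73) (nat_lit 2),
  Rule.mk (nat_lit 1) (nat_lit 154) (Steps.bwd (nat_lit 3) (Steps.fwd (nat_lit 262144) (Steps.fwd (nat_lit 1835008) (Steps.fwd (nat_lit 524288) (Steps.bwd (nat_lit 1) (Steps.bwd (nat_lit 3) (Steps.bwd (nat_lit 7) Steps.nil))))))) (nat_lit 73) (nat_lit 6),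
  Rule.mk (nat_lit 1) (nat_lit 274) (Steps.bwd (nat_lit 3) (Steps.fwd (nat_lit 1310720) (Steps.fwd (nat_lit 1572864) (Steps.bwd (nat_lit 1) (Steps.fwd (nat_lit 1572864) (Steps.fwd (nat_lit 262144) (Steps.bwd (nat_lit 3) (Steps.fwd (nat_lit 262144) (Steps.bwd (nat_lit 6) (Steps.bwd (nat_lit 1) (Steps.bwd (nat_lit 3) (Steps.fwd (nat_lit 262144) (Steps.bwd (nat_lit 6) Steps.nil))))))))))))) (nat_lit 35) (nat_lit 13),
  Rule.mk (nat_lit 4) (nat_lit 114) (Steps.bwd (nat_lit 1) (Steps.fwd (nat_lit 1048576) (Steps.fwd (nat_lit 262144) (Steps.bwd (nat_lit 4) (Steps.bwd (nat_lit 1) Steps.nil))))) (nat_lit 16) (nat_lit 0),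
  Rule.mk (nat_lit 2) (nat_lit 154) (Steps.bwd (nat_lit 5) (Steps.bwd (nat_lit 1) (Steps.fwd (nat_lit 786432) (Steps.bwd (nat_lit 1) (Steps.bwd (nat_lit 5) (Steps.fwd (nat_lit 786432) (Steps.bwd (nat_lit 1) Steps.nil))))))) (nat_lit 70) (nat_lit 7),
  Rule.mk (nat_lit 1) (nat_lit 154) (Steps.fwd (nat_lit 1310720) (Steps.fwd (nat_lit 786432) (Steps.bwd (nat_lit 1) (Steps.bwd (nat_lit 2) (Steps.bwd (nat_lit 5) (Steps.bwd (nat_lit 1) (Steps.bwd (nat_lit 2) Steps.nil))))))) (nat_lit 70) (nat_lit 3),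
  Rule.mk (nat_lit 2) (nat_lit 154) (Steps.fwd (nat_lit 1310720) (Steps.bwd (nat_lit 4) (Steps.bwd (nat_lit 7) (Steps.bwd (nat_lit 2) (Steps.fwd (nat_lit 1572864) (Steps.fwd (nat_lit 1048576) (Steps.fwd (nat_lit 1835008) Steps.nil))))))) (nat_lit 86) (nat_lit 1),
  Rule.mk (nat_lit 1) (nat_lit 154) (Steps.bwd (nat_lit 5) (Steps.bwd (nat_lit 2) (Steps.bwd (nat_lit 1) (Steps.bwd (nat_lit 2) (Steps.fwd (nat_lit 1310720) (Steps.bwd (nat_lit 1) (Steps.bwd (nat_lit 2) Steps.nil))))))) (nat_lit 70) (nat_lit 3),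
  Rule.mk (nat_lit 1) (nat_lit 154) (Steps.bwd (nat_lit 2) (Steps.fwd (nat_lit 262144) (Steps.fwd (nat_lit 1835008) (Steps.bwd (nat_lit 2) (Steps.bwd (nat_lit 1) (Steps.fwd (nat_lit 786432) (Steps.bwd (nat_lit 7) Steps.nil))))))) (nat_lit 72) (nat_lit 1),
  Rule.mk (nat_lit 3) (nat_lit 114) (Steps.fwd (nat_lit 262144) (Steps.fwd (nat_lit 524288) (Steps.bwd (nat_lit 1) (Steps.bwd (nat_lit 3) (Steps.bwd (nat_lit 1) Steps.nil))))) (nat_lit 13) (nat_lit 1),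
  Rule.mk (nat_lit 4) (nat_lit 114) (Steps.fwd (nat_lit 262144) (Steps.fwd (nat_lit 1048576) (Steps.fwd (nat_lit 262144) (Steps.fwd (nat_lit 1048576) (Steps.bwd (nat_lit 1) Steps.nil))))) (nat_lit 16) (nat_lit 0),
  Rule.mk (nat_lit 7) (nat_lit 114) (Steps.fwd (nat_lit 262144) (Steps.fwd (nat_lit 1310720) (Steps.bwd (nat_lit 7) (Steps.bwd (nat_lit 1) (Steps.bwd (nat_lit 5) Steps.nil))))) (nat_lit 52) (nat_lit 0),
  Rule.mk (nat_lit 3) (nat_lit 154) (Steps.fwd (nat_lit 262144) (Steps.fwd (nat_lit 524288) (Steps.fwd (nat_lit 1835008) (Steps.bwd (nat_lit 1) (Steps.bwd (nat_lit 3) (Steps.bwd (nat_lit 1) (Steps.bwd (nat_lit 7) Steps.nil))))))) (nat_lit 73) (nat_lit 2)]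
noncomputable def R_85 : List (Rule) := [Rule.mk (nat_lit 6) (nat_lit 154) (Steps.fwd (nat_lit 262144) (Steps.fwd (nat_lit 1048576) (Steps.fwd (nat_lit 262144) (Steps.bwd (nat_lit 6) (Steps.fwd (nat_lit 262144) (Steps.fwd (nat_lit 1048576) (Steps.bwd (nat_lit 1) Steps.nil))))))) (nat_lit 74) (nat_lit 0),
  Rule.mk (nat_lit 4) (nat_lit 154) (Steps.fwd (nat_lit 262144) (Steps.fwd (nat_lit 1048576) (Steps.fwd (nat_lit 1835008) (Steps.fwd (nat_lit 262144) (Steps.fwd (nat_lit 1048576) (Steps.bwd (nat_lit 1) (Steps.bwd (nat_lit 7) Steps.nil))))))) (nat_lit 76) (nat_lit 5),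
  Rule.mk (nat_lit 6) (nat_lit 114) (Steps.bwd (nat_lit 4) (Steps.fwd (nat_lit 524288) (Steps.fwd (nat_lit 1310720) (Steps.bwd (nat_lit 4) (Steps.bwd (nat_lit 3) Steps.nil))))) (nat_lit 55) (nat_lit 1),
  Rule.mk (nat_lit 2) (nat_lit 114) (Steps.bwd (nat_lit 5) (Steps.bwd (nat_lit 4) (Steps.fwd (nat_lit 786432) (Steps.fwd (nat_lit 1572864) (Steps.bwd (nat_lit 4) Steps.nil))))) (nat_lit 58) (nat_lit 1),
  Rule.mk (nat_lit 6) (nat_lit 114) (Steps.fwd (nat_lit 1048576) (Steps.bwd (nat_lit 7) (Steps.bwd (nat_lit 5) (Steps.bwd (nat_lit 4) (Steps.bwd (nat_lit 7) Steps.nil))))) (nat_lit 67) (nat_lit 2),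
  Rule.mk (nat_lit 8) (nat_lit 314) (Steps.bwd (nat_lit 4) (Steps.bwd (nat_lit 9) (Steps.fwd (nat_lit 1048576) (Steps.fwd (nat_lit 2359296) (Steps.fwd (nat_lit 1048576) (Steps.fwd (nat_lit 2097152) (Steps.bwd (nat_lit 4) (Steps.fwd (nat_lit 2359296) (Steps.fwd (nat_lit 1048576) (Steps.fwd (nat_lit 2097152) (Steps.fwd (nat_lit 1048576) (Steps.fwd (nat_lit 2359296) (Steps.bwd (nat_lit 4) (Steps.fwd (nat_lit 2097152) (Steps.bwd (nat_lit 4) Steps.nil))))))))))))))) (nat_lit 106) (nat_lit 1),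
  Rule.mk (nat_lit 0) (nat_lit 94) (Steps.bwd (nat_lit 3) (Steps.bwd (nat_lit 4) (Steps.fwd (nat_lit 524288) (Steps.fwd (nat_lit 1048576) Steps.nil)))) (nat_lit 15) (nat_lit 0),
  Rule.mk (nat_lit 4) (nat_lit 114) (Steps.fwd (nat_lit 524288) (Steps.bwd (nat_lit 6) (Steps.fwd (nat_lit 1048576) (Steps.fwd (nat_lit 524288) (Steps.bwd (nat_lit 5) Steps.nil))))) (nat_lit 55) (nat_lit 5),
  Rule.mk (nat_lit 7) (nat_lit 154) (Steps.bwd (nat_lit 4) (Steps.bwd (nat_lit 3) (Steps.bwd (nat_lit 6) (Steps.bwd (nat_lit 7) (Steps.fwd (nat_lit 1048576) (Steps.fwd (nat_lit 524288) (Steps.bwd (nat_lit 5) Steps.nil))))))) (nat_lit 81) (nat_lit 6),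
  Rule.mk (nat_lit 0) (nat_lit 114) (Steps.bwd (nat_lit 6) (Steps.bwd (nat_lit 7) (Steps.bwd (nat_lit 5) (Steps.fwd (nat_lit 1572864) (Steps.fwd (nat_lit 1310720) Steps.nil))))) (nat_lit 25) (nat_lit 4),
  Rule.mk (nat_lit 8) (nat_lit 94) (Steps.fwd (nat_lit 1310720) (Steps.fwd (nat_lit 2097152) (Steps.bwd (nat_lit 7) (Steps.bwd (nat_lit 5) Steps.nil)))) (nat_lit 101) (nat_lit 3),
  Rule.mk (nat_lit 5) (nat_lit 114) (Steps.fwd (nat_lit 786432) (Steps.bwd (nat_lit 7) (Steps.bwd (nat_lit 5) (Steps.fwd (nat_lit 524288) (Steps.bwd (nat_lit 7) Steps.nil))))) (nat_lit 61) (nat_lit 2),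
  Rule.mk (nat_lit 6) (nat_lit 154) (Steps.fwd (nat_lit 786432) (Steps.bwd (nat_lit 7) (Steps.bwd (nat_lit 4) (Steps.bwd (nat_lit 5) (Steps.fwd (nat_lit 786432) (Steps.bwd (nat_lit 7) (Steps.fwd (nat_lit 1048576) Steps.nil))))))) (nat_lit 90) (nat_lit 0),
  Rule.mk (nat_lit 3) (nat_lit 274) (Steps.bwd (nat_lit 1) (Steps.fwd (nat_lit 1572864) (Steps.bwd (nat_lit 1) (Steps.bwd (nat_lit 3) (Steps.fwd (nat_lit 262144) (Steps.fwd (nat_lit 1572864) (Steps.fwd (nat_lit 262144) (Steps.fwd (nat_lit 524288) (Steps.bwd (nat_lit 5) (Steps.bwd (nat_lit 6) (Steps.bwd (nat_lit 1) (Steps.bwd (nat_lit 6) (Steps.fwd (nat_lit 262144) Steps.nil))))))))))))) (nat_lit 35) (nat_lit 6),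
  Rule.mk (nat_lit 4) (nat_lit 114) (Steps.bwd (nat_lit 7) (Steps.bwd (nat_lit 3) (Steps.bwd (nat_lit 4) (Steps.fwd (nat_lit 1835008) (Steps.fwd (nat_lit 524288) Steps.nil))))) (nat_lit 65) (nat_lit 1),
  Rule.mk (nat_lit 6) (nat_lit 154) (Steps.bwd (nat_lit 7) (Steps.bwd (nat_lit 3) (Steps.bwd (nat_lit 4) (Steps.fwd (nat_lit 1310720) (Steps.fwd (nat_lit 1835008) (Steps.fwd (nat_lit 524288) (Steps.fwd (nat_lit 1048576) Steps.nil))))))) (nat_lit 93) (nat_lit 2),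
  Rule.mk (nat_lit 0) (nat_lit 294) (Steps.fwd (nat_lit 1572864) (Steps.fwd (nat_lit 262144) (Steps.bwd (nat_lit 6) (Steps.bwd (nat_lit 1) (Steps.bwd (nat_lit 3) (Steps.fwd (nat_lit 262144) (Steps.fwd (nat_lit 1572864) (Steps.bwd (nat_lit 1) (Steps.bwd (nat_lit 3) (Steps.bwd (nat_lit 1) (Steps.bwd (nat_lit 6) (Steps.fwd (nat_lit 262144) (Steps.bwd (nat_lit 3) (Steps.fwd (nat_lit 1310720) Steps.nil)))))))))))))) (nat_lit 35) (nat_lit 1),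
  Rule.mk (nat_lit 7) (nat_lit 94) (Steps.bwd (nat_lit 6) (Steps.bwd (nat_lit 5) (Steps.fwd (nat_lit 1572864) (Steps.fwd (nat_lit 1310720) Steps.nil)))) (nat_lit 24) (nat_lit 0),
  Rule.mk (nat_lit 3) (nat_lit 114) (Steps.bwd (nat_lit 6) (Steps.bwd (nat_lit 4) (Steps.bwd (nat_lit 3) (Steps.fwd (nat_lit 1310720) (Steps.fwd (nat_lit 1048576) Steps.nil))))) (nat_lit 55) (nat_lit 0),
  Rule.mk (nat_lit 2) (nat_lit 114) (Steps.bwd (nat_lit 6) (Steps.bwd (nat_lit 4) (Steps.bwd (nat_lit 2) (Steps.bwd (nat_lit 5) (Steps.fwd (nat_lit 1048576) Steps.nil))))) (nat_lit 58) (nat_lit 4),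
  Rule.mk (nat_lit 5) (nat_lit 114) (Steps.fwd (nat_lit 1835008) (Steps.bwd (nat_lit 2) (Steps.bwd (nat_lit 5) (Steps.bwd (nat_lit 7) (Steps.bwd (nat_lit 3) Steps.nil))))) (nat_lit 60) (nat_lit 5),
  Rule.mk (nat_lit 1) (nat_lit 154) (Steps.bwd (nat_lit 2) (Steps.fwd (nat_lit 262144) (Steps.fwd (nat_lit 1835008) (Steps.fwd (nat_lit 786432) (Steps.bwd (nat_lit 1) (Steps.bwd (nat_lit 2) (Steps.bwd (nat_lit 7) Steps.nil))))))) (nat_lit 72) (nat_lit 1),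
  Rule.mk (nat_lit 1) (nat_lit 114) (Steps.fwd (nat_lit 786432) (Steps.bwd (nat_lit 1) (Steps.bwd (nat_lit 2) (Steps.fwd (nat_lit 262144) (Steps.fwd (nat_lit 786432) Steps.nil))))) (nat_lit 12) (nat_lit 1),
  Rule.mk (nat_lit 2) (nat_lit 274) (Steps.bwd (nat_lit 1) (Steps.fwd (nat_lit 1572864) (Steps.bwd (nat_lit 1) (Steps.bwd (nat_lit 2) (Steps.fwd (nat_lit 262144) (Steps.bwd (nat_lit 6) (Steps.bwd (nat_lit 1) (Steps.fwd (nat_lit 1572864) (Steps.bwd (nat_lit 5) (Steps.fwd (nat_lit 786432) (Steps.fwd (nat_lit 262144) (Steps.bwd (nat_lit 6) (Steps.fwd (nat_lit 262144) Steps.nil))))))))))))) (nat_lit 34) (nat_lit 5),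
  Rule.mk (nat_lit 5) (nat_lit 274) (Steps.bwd (nat_lit 2) (Steps.bwd (nat_lit 1) (Steps.fwd (nat_lit 1572864) (Steps.bwd (nat_lit 1) (Steps.bwd (nat_lit 2) (Steps.fwd (nat_lit 262144) (Steps.bwd (nat_lit 6) (Steps.bwd (nat_lit 1) (Steps.fwd (nat_lit 786432) (Steps.fwd (nat_lit 262144) (Steps.fwd (nat_lit 1572864) (Steps.bwd (nat_lit 1) (Steps.bwd (nat_lit 6) Steps.nil))))))))))))) (nat_lit 34) (nat_lit 0),
  Rule.mk (nat_lit 1) (nat_lit 114) (Steps.bwd (nat_lit 7) (Steps.bwd (nat_lit 5) (Steps.bwd (nat_lit 1) (Steps.bwd (nat_lit 7) (Steps.fwd (nat_lit 1310720) Steps.nil))))) (nat_lit 53) (nat_lit 0),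
  Rule.mk (nat_lit 1) (nat_lit 154) (Steps.bwd (nat_lit 3) (Steps.bwd (nat_lit 5) (Steps.bwd (nat_lit 1) (Steps.bwd (nat_lit 3) (Steps.fwd (nat_lit 262144) (Steps.bwd (nat_lit 5) (Steps.fwd (nat_lit 524288) Steps.nil))))))) (nat_lit 71) (nat_lit 3),
  Rule.mk (nat_lit 0) (nat_lit 134) (Steps.bwd (nat_lit 1) (Steps.fwd (nat_lit 1048576) (Steps.fwd (nat_lit 262144) (Steps.fwd (nat_lit 1048576) (Steps.bwd (nat_lit 1) (Steps.bwd (nat_lit 4) Steps.nil)))))) (nat_lit 16) (nat_lit 0),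
  Rule.mk (nat_lit 1) (nat_lit 154) (Steps.fwd (nat_lit 786432) (Steps.bwd (nat_lit 1) (Steps.bwd (nat_lit 5) (Steps.bwd (nat_lit 2) (Steps.fwd (nat_lit 262144) (Steps.fwd (nat_lit 786432) (Steps.bwd (nat_lit 5) Steps.nil))))))) (nat_lit 70) (nat_lit 1),
  Rule.mk (nat_lit 1) (nat_lit 274) (Steps.fwd (nat_lit 786432) (Steps.fwd (nat_lit 262144) (Steps.fwd (nat_lit 1572864) (Steps.bwd (nat_lit 1) (Steps.fwd (nat_lit 786432) (Steps.fwd (nat_lit 262144) (Steps.fwd (nat_lit 1572864) (Steps.fwd (nat_lit 262144) (Steps.bwd (nat_lit 6) (Steps.bwd (nat_lit 5) (Steps.bwd (nat_lit 2) (Steps.fwd (nat_lit 262144) (Steps.fwd (nat_lit 1572864) Steps.nil))))))))))))) (nat_lit 34) (nat_lit 4),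
  Rule.mk (nat_lit 0) (nat_lit 294) (Steps.bwd (nat_lit 1) (Steps.bwd (nat_lit 6) (Steps.fwd (nat_lit 1310720) (Steps.bwd (nat_lit 2) (Steps.bwd (nat_lit 1) (Steps.bwd (nat_lit 6) (Steps.fwd (nat_lit 262144) (Steps.bwd (nat_lit 2) (Steps.fwd (nat_lit 262144) (Steps.bwd (nat_lit 6) (Steps.bwd (nat_lit 1) (Steps.fwd (nat_lit 786432) (Steps.fwd (nat_lit 262144) (Steps.fwd (nat_lit 1572864) Steps.nil)))))))))))))) (nat_lit 34) (nat_lit 11),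
  Rule.mk (nat_lit 1) (nat_lit 274) (Steps.fwd (nat_lit 1572864) (Steps.bwd (nat_lit 1) (Steps.bwd (nat_lit 6) (Steps.bwd (nat_lit 5) (Steps.bwd (nat_lit 2) (Steps.fwd (nat_lit 262144) (Steps.bwd (nat_lit 6) (Steps.bwd (nat_lit 1) (Steps.fwd (nat_lit 786432) (Steps.fwd (nat_lit 262144) (Steps.fwd (nat_lit 1572864) (Steps.fwd (nat_lit 262144) (Steps.bwd (nat_lit 2) Steps.nil))))))))))))) (nat_lit 34) (nat_lit 10),
  Rule.mk (nat_lit 1) (nat_lit 154) (Steps.fwd (nat_lit 786432) (Steps.bwd (nat_lit 1) (Steps.fwd (nat_lit 1835008) (Steps.bwd (nat_lit 2) (Steps.fwd (nat_lit 262144) (Steps.fwd (nat_lit 786432) (Steps.fwd (nat_lit 1835008) Steps.nil))))))) (nat_lit 72) (nat_lit 1),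
  Rule.mk (nat_lit 1) (nat_lit 274) (Steps.bwd (nat_lit 6) (Steps.bwd (nat_lit 1) (Steps.fwd (nat_lit 524288) (Steps.fwd (nat_lit 262144) (Steps.bwd (nat_lit 6) (Steps.bwd (nat_lit 1) (Steps.fwd (nat_lit 524288) (Steps.bwd (nat_lit 1) (Steps.bwd (nat_lit 6) (Steps.fwd (nat_lit 262144) (Steps.fwd (nat_lit 524288) (Steps.bwd (nat_lit 5) (Steps.fwd (nat_lit 1572864) Steps.nil))))))))))))) (nat_lit 35) (nat_lit 3),
  Rule.mk (nat_lit 1) (nat_lit 154) (Steps.fwd (nat_lit 1310720) (Steps.bwd (nat_lit 2) (Steps.bwd (nat_lit 1) (Steps.bwd (nat_lit 2) (Steps.fwd (nat_lit 1310720) (Steps.bwd (nat_lit 1) (Steps.fwd (nat_lit 786432) Steps.nil))))))) (nat_lit 70) (nat_lit 3),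
  Rule.mk (nat_lit 0) (nat_lit 94) (Steps.bwd (nat_lit 1) (Steps.fwd (nat_lit 1310720) (Steps.fwd (nat_lit 262144) (Steps.bwd (nat_lit 5) Steps.nil)))) (nat_lit 18) (nat_lit 0),
  Rule.mk (nat_lit 0) (nat_lit 134) (Steps.bwd (nat_lit 1) (Steps.fwd (nat_lit 524288) (Steps.bwd (nat_lit 1) (Steps.fwd (nat_lit 524288) (Steps.fwd (nat_lit 262144) (Steps.bwd (nat_lit 3) Steps.nil)))))) (nat_lit 13) (nat_lit 1),
  Rule.mk (nat_lit 1) (nat_lit 274) (Steps.bwd (nat_lit 2) (Steps.fwd (nat_lit 262144) (Steps.fwd (nat_lit 1572864) (Steps.bwd (nat_lit 1) (Steps.fwd (nat_lit 786432) (Steps.fwd (nat_lit 262144) (Steps.fwd (nat_lit 1572864) (Steps.fwd (nat_lit 262144) (Steps.bwd (nat_lit 6) (Steps.bwd (nat_lit 5) (Steps.bwd (nat_lit 2) (Steps.bwd (nat_lit 1) (Steps.bwd (nat_lit 6) Steps.nil))))))))))))) (nat_lit 34) (nat_lit 4),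
  Rule.mk (nat_lit 1) (nat_lit 274) (Steps.bwd (nat_lit 6) (Steps.bwd (nat_lit 5) (Steps.fwd (nat_lit 786432) (Steps.fwd (nat_lit 262144) (Steps.fwd (nat_lit 1572864) (Steps.bwd (nat_lit 1) (Steps.fwd (nat_lit 786432) (Steps.fwd (nat_lit 262144) (Steps.bwd (nat_lit 6) (Steps.bwd (nat_lit 1) (Steps.fwd (nat_lit 786432) (Steps.fwd (nat_lit 262144) (Steps.fwd (nat_lit 1572864) Steps.nil))))))))))))) (nat_lit 34) (nat_lit 12),
  Rule.mk (nat_lit 0) (nat_lit 134) (Steps.bwd (nat_lit 1) (Steps.bwd (nat_lit 2) (Steps.bwd (nat_lit 1) (Steps.bwd (nat_lit 2) (Steps.fwd (nat_lit 262144) (Steps.fwd (nat_lit 786432) Steps.nil)))))) (nat_lit 12) (nat_lit 0),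
  Rule.mk (nat_lit 1) (nat_lit 154) (Steps.fwd (nat_lit 786432) (Steps.bwd (nat_lit 1) (Steps.fwd (nat_lit 1835008) (Steps.bwd (nat_lit 2) (Steps.bwd (nat_lit 1) (Steps.bwd (nat_lit 2) (Steps.bwd (nat_lit 7) Steps.nil))))))) (nat_lit 72) (nat_lit 1),
  Rule.mk (nat_lit 1) (nat_lit 154) (Steps.fwd (nat_lit 524288) (Steps.fwd (nat_lit 1835008) (Steps.bwd (nat_lit 1) (Steps.bwd (nat_lit 3) (Steps.fwd (nat_lit 262144) (Steps.bwd (nat_lit 7) (Steps.fwd (nat_lit 524288) Steps.nil))))))) (nat_lit 73) (nat_lit 3),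
  Rule.mk (nat_lit 1) (nat_lit 274) (Steps.bwd (nat_lit 3) (Steps.fwd (nat_lit 262144) (Steps.fwd (nat_lit 1572864) (Steps.bwd (nat_lit 1) (Steps.fwd (nat_lit 524288) (Steps.fwd (nat_lit 262144) (Steps.fwd (nat_lit 1572864) (Steps.bwd (nat_lit 1) (Steps.bwd (nat_lit 3) (Steps.bwd (nat_lit 5) (Steps.bwd (nat_lit 6) (Steps.fwd (nat_lit 262144) (Steps.fwd (nat_lit 1572864) Steps.nil))))))))))))) (nat_lit 35) (nat_lit 5),
  Rule.mk (nat_lit 4) (nat_lit 154) (Steps.bwd (nat_lit 1) (Steps.fwd (nat_lit 1572864) (Steps.bwd (nat_lit 1) (Steps.fwd (nat_lit 1048576) (Steps.fwd (nat_lit 262144) (Steps.bwd (nat_lit 6) (Steps.fwd (nat_lit 262144) Steps.nil))))))) (nat_lit 74) (nat_lit 2),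
  Rule.mk (nat_lit 5) (nat_lit 114) (Steps.bwd (nat_lit 7) (Steps.bwd (nat_lit 1) (Steps.bwd (nat_lit 5) (Steps.bwd (nat_lit 7) (Steps.fwd (nat_lit 262144) Steps.nil))))) (nat_lit 52) (nat_lit 2),
  Rule.mk (nat_lit 2) (nat_lit 154) (Steps.bwd (nat_lit 5) (Steps.bwd (nat_lit 7) (Steps.bwd (nat_lit 4) (Steps.bwd (nat_lit 2) (Steps.fwd (nat_lit 1572864) (Steps.fwd (nat_lit 1835008) (Steps.fwd (nat_lit 1048576) Steps.nil))))))) (nat_lit 88) (nat_lit 1),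
  Rule.mk (nat_lit 0) (nat_lit 134) (Steps.bwd (nat_lit 8) (Steps.bwd (nat_lit 2) (Steps.bwd (nat_lit 1) (Steps.bwd (nat_lit 3) (Steps.fwd (nat_lit 2097152) (Steps.bwd (nat_lit 1) Steps.nil)))))) (nat_lit 104) (nat_lit 0),
  Rule.mk (nat_lit 4) (nat_lit 314) (Steps.bwd (nat_lit 9) (Steps.bwd (nat_lit 4) (Steps.fwd (nat_lit 2359296) (Steps.fwd (nat_lit 1048576) (Steps.fwd (nat_lit 2097152) (Steps.fwd (nat_lit 1048576) (Steps.bwd (nat_lit 8) (Steps.fwd (nat_lit 1048576) (Steps.bwd (nat_lit 9) (Steps.fwd (nat_lit 1048576) (Steps.fwd (nat_lit 2359296) (Steps.bwd (nat_lit 4) (Steps.bwd (nat_lit 9) (Steps.bwd (nat_lit 4) (Steps.fwd (nat_lit 2359296) Steps.nil))))))))))))))) (nat_lit 106) (nat_lit 2),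
  Rule.mk (nat_lit 1) (nat_lit 154) (Steps.fwd (nat_lit 786432) (Steps.bwd (nat_lit 1) (Steps.fwd (nat_lit 524288) (Steps.bwd (nat_lit 1) (Steps.bwd (nat_lit 2) (Steps.bwd (nat_lit 1) (Steps.bwd (nat_lit 3) Steps.nil))))))) (nat_lit 68) (nat_lit 1),
  Rule.mk (nat_lit 0) (nat_lit 134) (Steps.fwd (nat_lit 786432) (Steps.fwd (nat_lit 262144) (Steps.fwd (nat_lit 786432) (Steps.fwd (nat_lit 262144) (Steps.fwd (nat_lit 786432) (Steps.fwd (nat_lit 262144) Steps.nil)))))) (nat_lit 12) (nat_lit 1),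
  Rule.mk (nat_lit 1) (nat_lit 274) (Steps.fwd (nat_lit 1572864) (Steps.fwd (nat_lit 262144) (Steps.fwd (nat_lit 1572864) (Steps.fwd (nat_lit 1310720) (Steps.fwd (nat_lit 786432) (Steps.bwd (nat_lit 1) (Steps.bwd (nat_lit 6) (Steps.bwd (nat_lit 1) (Steps.fwd (nat_lit 786432) (Steps.bwd (nat_lit 1) (Steps.fwd (nat_lit 1572864) (Steps.bwd (nat_lit 1) (Steps.fwd (nat_lit 786432) Steps.nil))))))))))))) (nat_lit 34) (nat_lit 10),
  Rule.mk (nat_lit 1) (nat_lit 154) (Steps.fwd (nat_lit 1835008) (Steps.bwd (nat_lit 4) (Steps.bwd (nat_lit 1) (Steps.fwd (nat_lit 1048576) (Steps.bwd (nat_lit 7) (Steps.fwd (nat_lit 262144) (Steps.fwd (nat_lit 1048576) Steps.nil))))))) (nat_lit 76) (nat_lit 3),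
  Rule.mk (nat_lit 7) (nat_lit 154) (Steps.bwd (nat_lit 1) (Steps.bwd (nat_lit 4) (Steps.bwd (nat_lit 1) (Steps.fwd (nat_lit 1835008) (Steps.fwd (nat_lit 1048576) (Steps.fwd (nat_lit 262144) (Steps.fwd (nat_lit 1048576) Steps.nil))))))) (nat_lit 76) (nat_lit 0),
  Rule.mk (nat_lit 4) (nat_lit 314) (Steps.bwd (nat_lit 8) (Steps.bwd (nat_lit 4) (Steps.fwd (nat_lit 2097152) (Steps.bwd (nat_lit 4) (Steps.fwd (nat_lit 2359296) (Steps.bwd (nat_lit 4) (Steps.bwd (nat_lit 9) (Steps.bwd (nat_lit 4) (Steps.fwd (nat_lit 2359296) (Steps.bwd (nat_lit 4) (Steps.fwd (nat_lit 2097152) (Steps.bwd (nat_lit 4) (Steps.fwd (nat_lit 2359296) (Steps.fwd (nat_lit 1048576) (Steps.bwd (nat_lit 9) Steps.nil))))))))))))))) (nat_lit 106) (nat_lit 0),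
  Rule.mk (nat_lit 4) (nat_lit 114) (Steps.bwd (nat_lit 3) (Steps.bwd (nat_lit 7) (Steps.bwd (nat_lit 4) (Steps.bwd (nat_lit 3) (Steps.fwd (nat_lit 1835008) Steps.nil))))) (nat_lit 57) (nat_lit 2),
  Rule.mk (nat_lit 3) (nat_lit 274) (Steps.bwd (nat_lit 1) (Steps.fwd (nat_lit 1572864) (Steps.fwd (nat_lit 262144) (Steps.bwd (nat_lit 3) (Steps.fwd (nat_lit 262144) (Steps.fwd (nat_lit 1572864) (Steps.bwd (nat_lit 1) (Steps.bwd (nat_lit 3) (Steps.bwd (nat_lit 5) (Steps.fwd (nat_lit 1572864) (Steps.bwd (nat_lit 1) (Steps.fwd (nat_lit 1572864) (Steps.fwd (nat_lit 262144) Steps.nil))))))))))))) (nat_lit 35) (nat_lit 6),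
  Rule.mk (nat_lit 2) (nat_lit 74) (Steps.fwd (nat_lit 1835008) (Steps.bwd (nat_lit 3) (Steps.bwd (nat_lit 7) Steps.nil))) (nat_lit 28) (nat_lit 2),
  Rule.mk (nat_lit 2) (nat_lit 114) (Steps.fwd (nat_lit 1835008) (Steps.bwd (nat_lit 5) (Steps.bwd (nat_lit 3) (Steps.bwd (nat_lit 7) (Steps.bwd (nat_lit 5) Steps.nil))))) (nat_lit 61) (nat_lit 3),
  Rule.mk (nat_lit 4) (nat_lit 154) (Steps.bwd (nat_lit 3) (Steps.fwd (nat_lit 1835008) (Steps.fwd (nat_lit 1572864) (Steps.bwd (nat_lit 4) (Steps.bwd (nat_lit 3) (Steps.bwd (nat_lit 7) (Steps.bwd (nat_lit 5) Steps.nil))))))) (nat_lit 79) (nat_lit 7),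
  Rule.mk (nat_lit 7) (nat_lit 154) (Steps.bwd (nat_lit 4) (Steps.bwd (nat_lit 3) (Steps.fwd (nat_lit 1572864) (Steps.fwd (nat_lit 1835008) (Steps.bwd (nat_lit 4) (Steps.bwd (nat_lit 3) (Steps.bwd (nat_lit 5) Steps.nil))))))) (nat_lit 81) (nat_lit 6),
  Rule.mk (nat_lit 8) (nat_lit 94) (Steps.bwd (nat_lit 5) (Steps.fwd (nat_lit 2097152) (Steps.bwd (nat_lit 7) (Steps.fwd (nat_lit 1310720) Steps.nil)))) (nat_lit 101) (nat_lit 3),
  Rule.mk (nat_lit 4) (nat_lit 314) (Steps.fwd (nat_lit 2359296) (Steps.fwd (nat_lit 1048576) (Steps.fwd (nat_lit 2097152) (Steps.fwd (nat_lit 1048576) (Steps.bwd (nat_lit 8) (Steps.fwd (nat_lit 1048576) (Steps.bwd (nat_lit 9) (Steps.bwd (nat_lit 4) (Steps.fwd (nat_lit 2359296) (Steps.fwd (nat_lit 1048576) (Steps.bwd (nat_lit 9) (Steps.bwd (nat_lit 4) (Steps.bwd (nat_lit 8) (Steps.fwd (nat_lit 1048576) (Steps.bwd (nat_lit 9) Steps.nil)))))))))))))))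 (nat_lit 106) (nat_lit 0),
  Rule.mk (nat_lit 0) (nat_lit 134) (Steps.bwd (nat_lit 4) (Steps.bwd (nat_lit 3) (Steps.bwd (nat_lit 5) (Steps.fwd (nat_lit 1048576) (Steps.fwd (nat_lit 524288) (Steps.bwd (nat_lit 6) Steps.nil)))))) (nat_lit 55) (nat_lit 1),
  Rule.mk (nat_lit 4) (nat_lit 154) (Steps.fwd (nat_lit 524288) (Steps.fwd (nat_lit 1835008) (Steps.bwd (nat_lit 6) (Steps.bwd (nat_lit 4) (Steps.fwd (nat_lit 524288) (Steps.bwd (nat_lit 7) (Steps.fwd (nat_lit 1310720) Steps.nil))))))) (nat_lit 79) (nat_lit 7)]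
noncomputable def R_86 : List (Rule) := [Rule.mk (nat_lit 6) (nat_lit 154) (Steps.fwd (nat_lit 1835008) (Steps.bwd (nat_lit 4) (Steps.fwd (nat_lit 524288) (Steps.bwd (nat_lit 5) (Steps.bwd (nat_lit 7) (Steps.bwd (nat_lit 4) (Steps.fwd (nat_lit 524288) Steps.nil))))))) (nat_lit 81) (nat_lit 1),
  Rule.mk (nat_lit 2) (nat_lit 154) (Steps.bwd (nat_lit 6) (Steps.fwd (nat_lit 1835008) (Steps.bwd (nat_lit 4) (Steps.bwd (nat_lit 2) (Steps.fwd (nat_lit 1310720) (Steps.fwd (nat_lit 1835008) (Steps.bwd (nat_lit 4) Steps.nil))))))) (nat_lit 88) (nat_lit 5),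
  Rule.mk (nat_lit 4) (nat_lit 314) (Steps.fwd (nat_lit 2359296) (Steps.bwd (nat_lit 4) (Steps.bwd (nat_lit 9) (Steps.fwd (nat_lit 1048576) (Steps.bwd (nat_lit 8) (Steps.bwd (nat_lit 4) (Steps.bwd (nat_lit 9) (Steps.bwd (nat_lit 4) (Steps.fwd (nat_lit 2359296) (Steps.bwd (nat_lit 4) (Steps.bwd (nat_lit 9) (Steps.bwd (nat_lit 4) (Steps.fwd (nat_lit 2359296) (Steps.fwd (nat_lit 1048576) (Steps.fwd (nat_lit 2097152) Steps.nil))))))))))))))) (nat_lit 106) (nat_lit 0),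
  Rule.mk (nat_lit 8) (nat_lit 314) (Steps.fwd (nat_lit 1048576) (Steps.bwd (nat_lit 9) (Steps.fwd (nat_lit 1048576) (Steps.fwd (nat_lit 2359296) (Steps.fwd (nat_lit 1048576) (Steps.bwd (nat_lit 9) (Steps.bwd (nat_lit 4) (Steps.bwd (nat_lit 8) (Steps.bwd (nat_lit 4) (Steps.fwd (nat_lit 2097152) (Steps.bwd (nat_lit 4) (Steps.fwd (nat_lit 2359296) (Steps.fwd (nat_lit 1048576) (Steps.bwd (nat_lit 9) (Steps.bwd (nat_lit 4) Steps.nil))))))))))))))) (nat_lit 106) (nat_lit 1),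
  Rule.mk (nat_lit 8) (nat_lit 314) (Steps.fwd (nat_lit 1048576) (Steps.bwd (nat_lit 9) (Steps.fwd (nat_lit 1048576) (Steps.bwd (nat_lit 8) (Steps.bwd (nat_lit 4) (Steps.bwd (nat_lit 9) (Steps.fwd (nat_lit 1048576) (Steps.fwd (nat_lit 2359296) (Steps.fwd (nat_lit 1048576) (Steps.bwd (nat_lit 9) (Steps.fwd (nat_lit 1048576) (Steps.bwd (nat_lit 8) (Steps.bwd (nat_lit 4) (Steps.bwd (nat_lit 9) (Steps.fwd (nat_lit 1048576) Steps.nil))))))))))))))) (nat_lit 106) (nat_lit 1),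
  Rule.mk (nat_lit 5) (nat_lit 94) (Steps.fwd (nat_lit 1572864) (Steps.bwd (nat_lit 5) (Steps.bwd (nat_lit 7) (Steps.fwd (nat_lit 1572864) Steps.nil)))) (nat_lit 24) (nat_lit 2),
  Rule.mk (nat_lit 1) (nat_lit 114) (Steps.fwd (nat_lit 1835008) (Steps.bwd (nat_lit 5) (Steps.bwd (nat_lit 1) (Steps.bwd (nat_lit 7) (Steps.fwd (nat_lit 1310720) Steps.nil))))) (nat_lit 53) (nat_lit 0),
  Rule.mk (nat_lit 1) (nat_lit 154) (Steps.bwd (nat_lit 5) (Steps.fwd (nat_lit 786432) (Steps.bwd (nat_lit 1) (Steps.bwd (nat_lit 2) (Steps.fwd (nat_lit 1310720) (Steps.fwd (nat_lit 262144) (Steps.fwd (nat_lit 786432) Steps.nil))))))) (nat_lit 70) (nat_lit 3),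
  Rule.mk (nat_lit 5) (nat_lit 74) (Steps.fwd (nat_lit 262144) (Steps.fwd (nat_lit 1310720) (Steps.fwd (nat_lit 262144) Steps.nil))) (nat_lit 18) (nat_lit 0),
  Rule.mk (nat_lit 7) (nat_lit 114) (Steps.bwd (nat_lit 5) (Steps.fwd (nat_lit 262144) (Steps.fwd (nat_lit 1835008) (Steps.fwd (nat_lit 1310720) (Steps.fwd (nat_lit 262144) Steps.nil))))) (nat_lit 53) (nat_lit 1),
  Rule.mk (nat_lit 4) (nat_lit 154) (Steps.fwd (nat_lit 262144) (Steps.fwd (nat_lit 1572864) (Steps.fwd (nat_lit 262144) (Steps.bwd (nat_lit 4) (Steps.fwd (nat_lit 262144) (Steps.fwd (nat_lit 1572864) (Steps.fwd (nat_lit 262144) Steps.nil))))))) (nat_lit 74) (nat_lit 2),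
  Rule.mk (nat_lit 6) (nat_lit 114) (Steps.bwd (nat_lit 4) (Steps.fwd (nat_lit 524288) (Steps.bwd (nat_lit 5) (Steps.fwd (nat_lit 1048576) (Steps.bwd (nat_lit 3) Steps.nil))))) (nat_lit 55) (nat_lit 1),
  Rule.mk (nat_lit 6) (nat_lit 154) (Steps.bwd (nat_lit 7) (Steps.bwd (nat_lit 4) (Steps.fwd (nat_lit 524288) (Steps.bwd (nat_lit 5) (Steps.bwd (nat_lit 7) (Steps.fwd (nat_lit 1048576) (Steps.fwd (nat_lit 524288) Steps.nil))))))) (nat_lit 81) (nat_lit 1),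
  Rule.mk (nat_lit 4) (nat_lit 314) (Steps.fwd (nat_lit 2097152) (Steps.bwd (nat_lit 4) (Steps.bwd (nat_lit 8) (Steps.fwd (nat_lit 1048576) (Steps.bwd (nat_lit 9) (Steps.fwd (nat_lit 1048576) (Steps.bwd (nat_lit 8) (Steps.bwd (nat_lit 4) (Steps.fwd (nat_lit 2097152) (Steps.bwd (nat_lit 4) (Steps.bwd (nat_lit 8) (Steps.bwd (nat_lit 4) (Steps.fwd (nat_lit 2097152) (Steps.fwd (nat_lit 1048576) (Steps.fwd (nat_lit 2359296) Steps.nil))))))))))))))) (nat_lit 106) (nat_lit 2),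
  Rule.mk (nat_lit 4) (nat_lit 154) (Steps.fwd (nat_lit 262144) (Steps.bwd (nat_lit 6) (Steps.bwd (nat_lit 1) (Steps.bwd (nat_lit 4) (Steps.fwd (nat_lit 262144) (Steps.fwd (nat_lit 1572864) (Steps.fwd (nat_lit 262144) Steps.nil))))))) (nat_lit 74) (nat_lit 2),
  Rule.mk (nat_lit 0) (nat_lit 174) (Steps.fwd (nat_lit 1048576) (Steps.bwd (nat_lit 1) (Steps.bwd (nat_lit 6) (Steps.bwd (nat_lit 1) (Steps.fwd (nat_lit 1048576) (Steps.fwd (nat_lit 262144) (Steps.bwd (nat_lit 6) (Steps.fwd (nat_lit 262144) Steps.nil)))))))) (nat_lit 74) (nat_lit 1),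
  Rule.mk (nat_lit 0) (nat_lit 94) (Steps.bwd (nat_lit 9) (Steps.bwd (nat_lit 2) (Steps.bwd (nat_lit 8) (Steps.fwd (nat_lit 524288) Steps.nil)))) (nat_lit 97) (nat_lit 3),
  Rule.mk (nat_lit 0) (nat_lit 134) (Steps.bwd (nat_lit 3) (Steps.bwd (nat_lit 9) (Steps.bwd (nat_lit 1) (Steps.bwd (nat_lit 8) (Steps.bwd (nat_lit 2) (Steps.fwd (nat_lit 262144) Steps.nil)))))) (nat_lit 104) (nat_lit 3),
  Rule.mk (nat_lit 4) (nat_lit 314) (Steps.bwd (nat_lit 9) (Steps.fwd (nat_lit 1048576) (Steps.bwd (nat_lit 8) (Steps.fwd (nat_lit 1048576) (Steps.bwd (nat_lit 9) (Steps.bwd (nat_lit 4) (Steps.fwd (nat_lit 2359296) (Steps.fwd (nat_lit 1048576) (Steps.fwd (nat_lit 2097152) (Steps.bwd (nat_lit 4) (Steps.bwd (nat_lit 8) (Steps.bwd (nat_lit 4) (Steps.fwd (nat_lit 2097152) (Steps.bwd (nat_lit 4) (Steps.bwd (nat_lit 8) Steps.nil))))))))))))))) (nat_lit 106) (nat_lit 2),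
  Rule.mk (nat_lit 5) (nat_lit 114) (Steps.fwd (nat_lit 1048576) (Steps.bwd (nat_lit 3) (Steps.bwd (nat_lit 6) (Steps.bwd (nat_lit 4) (Steps.fwd (nat_lit 524288) Steps.nil))))) (nat_lit 55) (nat_lit 4),
  Rule.mk (nat_lit 4) (nat_lit 114) (Steps.fwd (nat_lit 786432) (Steps.bwd (nat_lit 5) (Steps.bwd (nat_lit 4) (Steps.bwd (nat_lit 2) (Steps.fwd (nat_lit 1572864) Steps.nil))))) (nat_lit 58) (nat_lit 0),
  Rule.mk (nat_lit 6) (nat_lit 114) (Steps.bwd (nat_lit 3) (Steps.fwd (nat_lit 1048576) (Steps.fwd (nat_lit 1310720) (Steps.bwd (nat_lit 3) (Steps.bwd (nat_lit 4) Steps.nil))))) (nat_lit 59) (nat_lit 2),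
  Rule.mk (nat_lit 0) (nat_lit 134) (Steps.fwd (nat_lit 1048576) (Steps.fwd (nat_lit 1310720) (Steps.bwd (nat_lit 7) (Steps.bwd (nat_lit 4) (Steps.bwd (nat_lit 6) (Steps.fwd (nat_lit 1835008) Steps.nil)))))) (nat_lit 66) (nat_lit 0),
  Rule.mk (nat_lit 7) (nat_lit 154) (Steps.fwd (nat_lit 1048576) (Steps.bwd (nat_lit 3) (Steps.fwd (nat_lit 1572864) (Steps.bwd (nat_lit 7) (Steps.bwd (nat_lit 4) (Steps.fwd (nat_lit 524288) (Steps.bwd (nat_lit 5) Steps.nil))))))) (nat_lit 81) (nat_lit 6),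
  Rule.mk (nat_lit 7) (nat_lit 154) (Steps.fwd (nat_lit 1048576) (Steps.bwd (nat_lit 2) (Steps.fwd (nat_lit 1310720) (Steps.bwd (nat_lit 7) (Steps.bwd (nat_lit 4) (Steps.bwd (nat_lit 2) (Steps.fwd (nat_lit 1572864) Steps.nil))))))) (nat_lit 88) (nat_lit 7),
  Rule.mk (nat_lit 3) (nat_lit 154) (Steps.fwd (nat_lit 1048576) (Steps.bwd (nat_lit 7) (Steps.bwd (nat_lit 6) (Steps.bwd (nat_lit 3) (Steps.bwd (nat_lit 4) (Steps.bwd (nat_lit 7) (Steps.bwd (nat_lit 5) Steps.nil))))))) (nat_lit 89) (nat_lit 0),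
  Rule.mk (nat_lit 2) (nat_lit 154) (Steps.bwd (nat_lit 7) (Steps.fwd (nat_lit 1048576) (Steps.fwd (nat_lit 1310720) (Steps.fwd (nat_lit 786432) (Steps.bwd (nat_lit 7) (Steps.bwd (nat_lit 4) (Steps.bwd (nat_lit 6) Steps.nil))))))) (nat_lit 90) (nat_lit 1),
  Rule.mk (nat_lit 2) (nat_lit 114) (Steps.fwd (nat_lit 1048576) (Steps.bwd (nat_lit 6) (Steps.fwd (nat_lit 786432) (Steps.bwd (nat_lit 4) (Steps.fwd (nat_lit 1310720) Steps.nil))))) (nat_lit 54) (nat_lit 4),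
  Rule.mk (nat_lit 0) (nat_lit 134) (Steps.fwd (nat_lit 524288) (Steps.fwd (nat_lit 1048576) (Steps.fwd (nat_lit 1572864) (Steps.fwd (nat_lit 524288) (Steps.bwd (nat_lit 4) (Steps.fwd (nat_lit 1310720) Steps.nil)))))) (nat_lit 59) (nat_lit 5),
  Rule.mk (nat_lit 3) (nat_lit 114) (Steps.fwd (nat_lit 1048576) (Steps.bwd (nat_lit 6) (Steps.bwd (nat_lit 3) (Steps.bwd (nat_lit 4) (Steps.fwd (nat_lit 1310720) Steps.nil))))) (nat_lit 59) (nat_lit 0),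
  Rule.mk (nat_lit 0) (nat_lit 94) (Steps.bwd (nat_lit 7) (Steps.fwd (nat_lit 262144) (Steps.bwd (nat_lit 7) (Steps.fwd (nat_lit 262144) Steps.nil)))) (nat_lit 26) (nat_lit 0),
  Rule.mk (nat_lit 0) (nat_lit 134) (Steps.bwd (nat_lit 1) (Steps.fwd (nat_lit 2359296) (Steps.bwd (nat_lit 2) (Steps.bwd (nat_lit 1) (Steps.fwd (nat_lit 524288) (Steps.fwd (nat_lit 2097152) Steps.nil)))))) (nat_lit 104) (nat_lit 5),
  Rule.mk (nat_lit 4) (nat_lit 154) (Steps.bwd (nat_lit 1) (Steps.fwd (nat_lit 1048576) (Steps.bwd (nat_lit 7) (Steps.bwd (nat_lit 1) (Steps.bwd (nat_lit 4) (Steps.bwd (nat_lit 1) (Steps.bwd (nat_lit 7) Steps.nil))))))) (nat_lit 76) (nat_lit 5),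
  Rule.mk (nat_lit 0) (nat_lit 134) (Steps.bwd (nat_lit 8) (Steps.fwd (nat_lit 786432) (Steps.bwd (nat_lit 1) (Steps.fwd (nat_lit 524288) (Steps.bwd (nat_lit 9) (Steps.fwd (nat_lit 262144) Steps.nil)))))) (nat_lit 104) (nat_lit 0),
  Rule.mk (nat_lit 7) (nat_lit 114) (Steps.bwd (nat_lit 2) (Steps.bwd (nat_lit 5) (Steps.bwd (nat_lit 7) (Steps.fwd (nat_lit 524288) (Steps.fwd (nat_lit 1310720) Steps.nil))))) (nat_lit 60) (nat_lit 0),
  Rule.mk (nat_lit 1) (nat_lit 154) (Steps.fwd (nat_lit 786432) (Steps.fwd (nat_lit 262144) (Steps.bwd (nat_lit 7) (Steps.fwd (nat_lit 786432) (Steps.bwd (nat_lit 1) (Steps.fwd (nat_lit 786432) (Steps.fwd (nat_lit 1835008) Steps.nil))))))) (nat_lit 72) (nat_lit 1),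
  Rule.mk (nat_lit 5) (nat_lit 154) (Steps.bwd (nat_lit 2) (Steps.bwd (nat_lit 7) (Steps.fwd (nat_lit 1572864) (Steps.fwd (nat_lit 786432) (Steps.fwd (nat_lit 1310720) (Steps.fwd (nat_lit 1572864) (Steps.fwd (nat_lit 786432) Steps.nil))))))) (nat_lit 84) (nat_lit 2),
  Rule.mk (nat_lit 2) (nat_lit 114) (Steps.bwd (nat_lit 5) (Steps.fwd (nat_lit 1835008) (Steps.fwd (nat_lit 524288) (Steps.fwd (nat_lit 1310720) (Steps.fwd (nat_lit 1835008) Steps.nil))))) (nat_lit 60) (nat_lit 1),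
  Rule.mk (nat_lit 1) (nat_lit 154) (Steps.fwd (nat_lit 786432) (Steps.fwd (nat_lit 262144) (Steps.fwd (nat_lit 1835008) (Steps.bwd (nat_lit 2) (Steps.bwd (nat_lit 1) (Steps.fwd (nat_lit 786432) (Steps.bwd (nat_lit 7) Steps.nil))))))) (nat_lit 72) (nat_lit 1),
  Rule.mk (nat_lit 1) (nat_lit 154) (Steps.bwd (nat_lit 2) (Steps.bwd (nat_lit 1) (Steps.bwd (nat_lit 7) (Steps.bwd (nat_lit 2) (Steps.bwd (nat_lit 1) (Steps.fwd (nat_lit 786432) (Steps.fwd (nat_lit 1835008) Steps.nil))))))) (nat_lit 72) (nat_lit 1),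
  Rule.mk (nat_lit 1) (nat_lit 274) (Steps.bwd (nat_lit 6) (Steps.fwd (nat_lit 1310720) (Steps.bwd (nat_lit 2) (Steps.fwd (nat_lit 262144) (Steps.bwd (nat_lit 6) (Steps.bwd (nat_lit 1) (Steps.bwd (nat_lit 2) (Steps.bwd (nat_lit 1) (Steps.bwd (nat_lit 6) (Steps.bwd (nat_lit 1) (Steps.bwd (nat_lit 2) (Steps.bwd (nat_lit 1) (Steps.fwd (nat_lit 1572864) Steps.nil))))))))))))) (nat_lit 34) (nat_lit 12),
  Rule.mk (nat_lit 1) (nat_lit 274) (Steps.bwd (nat_lit 6) (Steps.bwd (nat_lit 1) (Steps.bwd (nat_lit 6) (Steps.fwd (nat_lit 1310720) (Steps.bwd (nat_lit 2) (Steps.bwd (nat_lit 1) (Steps.bwd (nat_lit 6) (Steps.bwd (nat_lit 1) (Steps.bwd (nat_lit 2) (Steps.bwd (nat_lit 1) (Steps.fwd (nat_lit 1572864) (Steps.bwd (nat_lit 1) (Steps.bwd (nat_lit 2) Steps.nil))))))))))))) (nat_lit 34) (nat_lit 10),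
  Rule.mk (nat_lit 6) (nat_lit 274) (Steps.bwd (nat_lit 1) (Steps.bwd (nat_lit 6) (Steps.fwd (nat_lit 1310720) (Steps.bwd (nat_lit 2) (Steps.bwd (nat_lit 1) (Steps.fwd (nat_lit 1572864) (Steps.bwd (nat_lit 1) (Steps.bwd (nat_lit 2) (Steps.bwd (nat_lit 1) (Steps.bwd (nat_lit 6) (Steps.bwd (nat_lit 1) (Steps.bwd (nat_lit 2) (Steps.fwd (nat_lit 262144) Steps.nil))))))))))))) (nat_lit 34) (nat_lit 11),
  Rule.mk (nat_lit 4) (nat_lit 114) (Steps.fwd (nat_lit 1835008) (Steps.bwd (nat_lit 6) (Steps.bwd (nat_lit 4) (Steps.fwd (nat_lit 1835008) (Steps.fwd (nat_lit 1310720) Steps.nil))))) (nat_lit 67) (nat_lit 0),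
  Rule.mk (nat_lit 6) (nat_lit 154) (Steps.bwd (nat_lit 7) (Steps.fwd (nat_lit 786432) (Steps.fwd (nat_lit 1310720) (Steps.bwd (nat_lit 2) (Steps.bwd (nat_lit 6) (Steps.fwd (nat_lit 1310720) (Steps.bwd (nat_lit 2) Steps.nil))))))) (nat_lit 82) (nat_lit 7),
  Rule.mk (nat_lit 0) (nat_lit 174) (Steps.bwd (nat_lit 1) (Steps.bwd (nat_lit 6) (Steps.fwd (nat_lit 262144) (Steps.bwd (nat_lit 4) (Steps.fwd (nat_lit 262144) (Steps.bwd (nat_lit 6) (Steps.fwd (nat_lit 262144) (Steps.fwd (nat_lit 1048576) Steps.nil)))))))) (nat_lit 74) (nat_lit 2),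
  Rule.mk (nat_lit 4) (nat_lit 314) (Steps.bwd (nat_lit 8) (Steps.bwd (nat_lit 4) (Steps.bwd (nat_lit 9) (Steps.fwd (nat_lit 1048576) (Steps.fwd (nat_lit 2359296) (Steps.bwd (nat_lit 4) (Steps.bwd (nat_lit 9) (Steps.bwd (nat_lit 4) (Steps.fwd (nat_lit 2359296) (Steps.bwd (nat_lit 4) (Steps.bwd (nat_lit 9) (Steps.fwd (nat_lit 1048576) (Steps.fwd (nat_lit 2359296) (Steps.fwd (nat_lit 1048576) (Steps.bwd (nat_lit 9) Steps.nil))))))))))))))) (nat_lit 106) (nat_lit 0),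
  Rule.mk (nat_lit 4) (nat_lit 154) (Steps.fwd (nat_lit 262144) (Steps.bwd (nat_lit 6) (Steps.fwd (nat_lit 262144) (Steps.bwd (nat_lit 4) (Steps.fwd (nat_lit 262144) (Steps.bwd (nat_lit 6) (Steps.fwd (nat_lit 262144) Steps.nil))))))) (nat_lit 74) (nat_lit 2),
  Rule.mk (nat_lit 4) (nat_lit 154) (Steps.bwd (nat_lit 6) (Steps.bwd (nat_lit 3) (Steps.fwd (nat_lit 1835008) (Steps.bwd (nat_lit 4) (Steps.fwd (nat_lit 1310720) (Steps.bwd (nat_lit 3) (Steps.fwd (nat_lit 1835008) Steps.nil))))))) (nat_lit 87) (nat_lit 2),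
  Rule.mk (nat_lit 1) (nat_lit 114) (Steps.fwd (nat_lit 1048576) (Steps.fwd (nat_lit 262144) (Steps.bwd (nat_lit 4) (Steps.fwd (nat_lit 262144) (Steps.bwd (nat_lit 4) Steps.nil))))) (nat_lit 16) (nat_lit 1),
  Rule.mk (nat_lit 8) (nat_lit 314) (Steps.bwd (nat_lit 4) (Steps.fwd (nat_lit 2097152) (Steps.fwd (nat_lit 1048576) (Steps.bwd (nat_lit 8) (Steps.fwd (nat_lit 1048576) (Steps.fwd (nat_lit 2097152) (Steps.fwd (nat_lit 1048576) (Steps.bwd (nat_lit 8) (Steps.bwd (nat_lit 4) (Steps.bwd (nat_lit 9) (Steps.fwd (nat_lit 1048576) (Steps.fwd (nat_lit 2359296) (Steps.fwd (nat_lit 1048576) (Steps.bwd (nat_lit 9) (Steps.bwd (nat_lit 4) Steps.nil))))))))))))))) (nat_lit 106) (nat_lit 1),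
  Rule.mk (nat_lit 4) (nat_lit 114) (Steps.fwd (nat_lit 524288) (Steps.fwd (nat_lit 1572864) (Steps.bwd (nat_lit 4) (Steps.fwd (nat_lit 524288) (Steps.fwd (nat_lit 1310720) Steps.nil))))) (nat_lit 55) (nat_lit 5),
  Rule.mk (nat_lit 4) (nat_lit 154) (Steps.bwd (nat_lit 3) (Steps.bwd (nat_lit 7) (Steps.fwd (nat_lit 1572864) (Steps.bwd (nat_lit 4) (Steps.fwd (nat_lit 524288) (Steps.bwd (nat_lit 7) (Steps.bwd (nat_lit 5) Steps.nil))))))) (nat_lit 79) (nat_lit 7),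
  Rule.mk (nat_lit 1) (nat_lit 114) (Steps.fwd (nat_lit 1048576) (Steps.bwd (nat_lit 1) (Steps.bwd (nat_lit 4) (Steps.bwd (nat_lit 1) (Steps.bwd (nat_lit 4) Steps.nil))))) (nat_lit 16) (nat_lit 1),
  Rule.mk (nat_lit 1) (nat_lit 154) (Steps.fwd (nat_lit 1310720) (Steps.bwd (nat_lit 3) (Steps.bwd (nat_lit 1) (Steps.bwd (nat_lit 3) (Steps.fwd (nat_lit 1310720) (Steps.bwd (nat_lit 1) (Steps.fwd (nat_lit 524288) Steps.nil))))))) (nat_lit 71) (nat_lit 0),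
  Rule.mk (nat_lit 1) (nat_lit 274) (Steps.fwd (nat_lit 1572864) (Steps.bwd (nat_lit 1) (Steps.bwd (nat_lit 3) (Steps.fwd (nat_lit 1310720) (Steps.fwd (nat_lit 1572864) (Steps.fwd (nat_lit 262144) (Steps.bwd (nat_lit 6) (Steps.bwd (nat_lit 1) (Steps.fwd (nat_lit 524288) (Steps.bwd (nat_lit 1) (Steps.bwd (nat_lit 6) (Steps.bwd (nat_lit 1) (Steps.bwd (nat_lit 3) Steps.nil))))))))))))) (nat_lit 35) (nat_lit 11),
  Rule.mk (nat_lit 3) (nat_lit 154) (Steps.fwd (nat_lit 262144) (Steps.fwd (nat_lit 786432) (Steps.fwd (nat_lit 262144) (Steps.bwd (nat_lit 3) (Steps.bwd (nat_lit 1) (Steps.bwd (nat_lit 2) (Steps.fwd (nat_lit 262144) Steps.nil))))))) (nat_lit 68) (nat_lit 0),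
  Rule.mk (nat_lit 1) (nat_lit 154) (Steps.fwd (nat_lit 1048576) (Steps.bwd (nat_lit 1) (Steps.bwd (nat_lit 6) (Steps.bwd (nat_lit 1) (Steps.bwd (nat_lit 4) (Steps.fwd (nat_lit 262144) (Steps.bwd (nat_lit 6) Steps.nil))))))) (nat_lit 74) (nat_lit 1),
  Rule.mk (nat_lit 1) (nat_lit 114) (Steps.fwd (nat_lit 1835008) (Steps.fwd (nat_lit 1310720) (Steps.bwd (nat_lit 1) (Steps.bwd (nat_lit 7) (Steps.bwd (nat_lit 5) Steps.nil))))) (nat_lit 53) (nat_lit 0),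
  Rule.mk (nat_lit 2) (nat_lit 274) (Steps.fwd (nat_lit 262144) (Steps.bwd (nat_lit 6) (Steps.fwd (nat_lit 262144) (Steps.bwd (nat_lit 6) (Steps.fwd (nat_lit 1310720) (Steps.fwd (nat_lit 786432) (Steps.fwd (nat_lit 262144) (Steps.fwd (nat_lit 1572864) (Steps.fwd (nat_lit 262144) (Steps.bwd (nat_lit 2) (Steps.bwd (nat_lit 1) (Steps.bwd (nat_lit 6) (Steps.bwd (nat_lit 1) Steps.nil))))))))))))) (nat_lit 34) (nat_lit 9),
  Rule.mk (nat_lit 0) (nat_lit 174) (Steps.bwd (nat_lit 4) (Steps.bwd (nat_lit 1) (Steps.bwd (nat_lit 4) (Steps.bwd (nat_lit 7) (Steps.bwd (nat_lit 1) (Steps.fwd (nat_lit 1048576) (Steps.fwd (nat_lit 262144) (Steps.fwd (nat_lit 1835008) Steps.nil)))))))) (nat_lit 76) (nat_lit 4),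
  Rule.mk (nat_lit 2) (nat_lit 154) (Steps.fwd (nat_lit 1310720) (Steps.bwd (nat_lit 6) (Steps.fwd (nat_lit 786432) (Steps.bwd (nat_lit 5) (Steps.bwd (nat_lit 2) (Steps.bwd (nat_lit 7) (Steps.bwd (nat_lit 6) Steps.nil))))))) (nat_lit 84) (nat_lit 6),
  Rule.mk (nat_lit 4) (nat_lit 154) (Steps.fwd (nat_lit 1310720) (Steps.fwd (nat_lit 1835008) (Steps.bwd (nat_lit 2) (Steps.bwd (nat_lit 4) (Steps.fwd (nat_lit 1572864) (Steps.bwd (nat_lit 7) (Steps.bwd (nat_lit 2) Steps.nil))))))) (nat_lit 78) (nat_lit 2),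
  Rule.mk (nat_lit 1) (nat_lit 154) (Steps.fwd (nat_lit 1048576) (Steps.fwd (nat_lit 262144) (Steps.bwd (nat_lit 6) (Steps.bwd (nat_lit 1) (Steps.bwd (nat_lit 4) (Steps.bwd (nat_lit 1) (Steps.fwd (nat_lit 1572864) Steps.nil))))))) (nat_lit 74) (nat_lit 1)]
noncomputable def R_87 : List (Rule) := [Rule.mk (nat_lit 0) (nat_lit 334) (Steps.bwd (nat_lit 4) (Steps.bwd (nat_lit 9) (Steps.bwd (nat_lit 4) (Steps.fwd (nat_lit 2359296) (Steps.fwd (nat_lit 1048576) (Steps.bwd (nat_lit 9) (Steps.bwd (nat_lit 4) (Steps.bwd (nat_lit 8) (Steps.fwd (nat_lit 1048576) (Steps.bwd (nat_lit 9) (Steps.bwd (nat_lit 4) (Steps.fwd (nat_lit 2359296) (Steps.fwd (nat_lit 1048576) (Steps.fwd (nat_lit 2097152) (Steps.fwd (nat_lit 1048576) (Steps.fwd (nat_lit 2359296) Steps.nil)))))))))))))))) (nat_lit 106) (nat_lit 1),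
  Rule.mk (nat_lit 0) (nat_lit 134) (Steps.bwd (nat_lit 4) (Steps.fwd (nat_lit 262144) (Steps.fwd (nat_lit 1048576) (Steps.bwd (nat_lit 1) (Steps.bwd (nat_lit 4) (Steps.fwd (nat_lit 262144) Steps.nil)))))) (nat_lit 16) (nat_lit 1),
  Rule.mk (nat_lit 1) (nat_lit 154) (Steps.bwd (nat_lit 4) (Steps.fwd (nat_lit 262144) (Steps.fwd (nat_lit 1572864) (Steps.fwd (nat_lit 262144) (Steps.bwd (nat_lit 4) (Steps.bwd (nat_lit 1) (Steps.bwd (nat_lit 6) Steps.nil))))))) (nat_lit 74) (nat_lit 1),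
  Rule.mk (nat_lit 0) (nat_lit 174) (Steps.bwd (nat_lit 1) (Steps.bwd (nat_lit 2) (Steps.bwd (nat_lit 1) (Steps.bwd (nat_lit 3) (Steps.bwd (nat_lit 1) (Steps.bwd (nat_lit 2) (Steps.bwd (nat_lit 1) (Steps.fwd (nat_lit 524288) Steps.nil)))))))) (nat_lit 68) (nat_lit 0),
  Rule.mk (nat_lit 3) (nat_lit 154) (Steps.bwd (nat_lit 5) (Steps.bwd (nat_lit 1) (Steps.fwd (nat_lit 524288) (Steps.fwd (nat_lit 262144) (Steps.bwd (nat_lit 5) (Steps.bwd (nat_lit 3) (Steps.fwd (nat_lit 262144) Steps.nil))))))) (nat_lit 71) (nat_lit 4),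
  Rule.mk (nat_lit 3) (nat_lit 154) (Steps.fwd (nat_lit 1835008) (Steps.bwd (nat_lit 1) (Steps.fwd (nat_lit 524288) (Steps.fwd (nat_lit 262144) (Steps.fwd (nat_lit 1835008) (Steps.fwd (nat_lit 524288) (Steps.fwd (nat_lit 262144) Steps.nil))))))) (nat_lit 73) (nat_lit 4),
  Rule.mk (nat_lit 1) (nat_lit 154) (Steps.bwd (nat_lit 4) (Steps.bwd (nat_lit 1) (Steps.bwd (nat_lit 6) (Steps.fwd (nat_lit 262144) (Steps.bwd (nat_lit 4) (Steps.bwd (nat_lit 1) (Steps.fwd (nat_lit 1572864) Steps.nil))))))) (nat_lit 74) (nat_lit 1),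
  Rule.mk (nat_lit 0) (nat_lit 294) (Steps.bwd (nat_lit 1) (Steps.bwd (nat_lit 3) (Steps.bwd (nat_lit 5) (Steps.bwd (nat_lit 6) (Steps.fwd (nat_lit 262144) (Steps.fwd (nat_lit 1572864) (Steps.fwd (nat_lit 262144) (Steps.bwd (nat_lit 3) (Steps.bwd (nat_lit 1) (Steps.bwd (nat_lit 6) (Steps.bwd (nat_lit 1) (Steps.fwd (nat_lit 524288) (Steps.fwd (nat_lit 262144) (Steps.bwd (nat_lit 6) Steps.nil)))))))))))))) (nat_lit 35) (nat_lit 12),
  Rule.mk (nat_lit 6) (nat_lit 274) (Steps.fwd (nat_lit 262144) (Steps.fwd (nat_lit 524288) (Steps.bwd (nat_lit 1) (Steps.bwd (nat_lit 6) (Steps.bwd (nat_lit 1) (Steps.fwd (nat_lit 524288) (Steps.fwd (nat_lit 262144) (Steps.fwd (nat_lit 1572864) (Steps.fwd (nat_lit 262144) (Steps.bwd (nat_lit 3) (Steps.fwd (nat_lit 1310720) (Steps.bwd (nat_lit 6) (Steps.fwd (nat_lit 262144) Steps.nil))))))))))))) (nat_lit 35) (nat_lit 4),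
  Rule.mk (nat_lit 1) (nat_lit 274) (Steps.bwd (nat_lit 6) (Steps.fwd (nat_lit 1310720) (Steps.bwd (nat_lit 2) (Steps.fwd (nat_lit 262144) (Steps.fwd (nat_lit 1572864) (Steps.fwd (nat_lit 262144) (Steps.bwd (nat_lit 2) (Steps.bwd (nat_lit 1) (Steps.fwd (nat_lit 1572864) (Steps.bwd (nat_lit 1) (Steps.bwd (nat_lit 2) (Steps.fwd (nat_lit 262144) (Steps.bwd (nat_lit 6) Steps.nil))))))))))))) (nat_lit 34) (nat_lit 12),
  Rule.mk (nat_lit 1) (nat_lit 154) (Steps.fwd (nat_lit 786432) (Steps.fwd (nat_lit 262144) (Steps.bwd (nat_lit 3) (Steps.bwd (nat_lit 1) (Steps.bwd (nat_lit 2) (Steps.bwd (nat_lit 1) (Steps.fwd (nat_lit 524288) Steps.nil))))))) (nat_lit 68) (nat_lit 1),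
  Rule.mk (nat_lit 0) (nat_lit 174) (Steps.fwd (nat_lit 1310720) (Steps.bwd (nat_lit 3) (Steps.fwd (nat_lit 262144) (Steps.fwd (nat_lit 524288) (Steps.fwd (nat_lit 1310720) (Steps.bwd (nat_lit 1) (Steps.bwd (nat_lit 3) (Steps.fwd (nat_lit 262144) Steps.nil)))))))) (nat_lit 71) (nat_lit 0),
  Rule.mk (nat_lit 2) (nat_lit 154) (Steps.bwd (nat_lit 5) (Steps.bwd (nat_lit 1) (Steps.fwd (nat_lit 786432) (Steps.bwd (nat_lit 1) (Steps.bwd (nat_lit 5) (Steps.fwd (nat_lit 786432) (Steps.fwd (nat_lit 262144) Steps.nil))))))) (nat_lit 70) (nat_lit 7),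
  Rule.mk (nat_lit 0) (nat_lit 174) (Steps.fwd (nat_lit 1835008) (Steps.bwd (nat_lit 3) (Steps.fwd (nat_lit 262144) (Steps.fwd (nat_lit 524288) (Steps.bwd (nat_lit 7) (Steps.bwd (nat_lit 1) (Steps.bwd (nat_lit 3) (Steps.fwd (nat_lit 262144) Steps.nil)))))))) (nat_lit 73) (nat_lit 0),
  Rule.mk (nat_lit 2) (nat_lit 154) (Steps.fwd (nat_lit 1835008) (Steps.bwd (nat_lit 1) (Steps.fwd (nat_lit 786432) (Steps.bwd (nat_lit 1) (Steps.fwd (nat_lit 1835008) (Steps.fwd (nat_lit 786432) (Steps.fwd (nat_lit 262144) Steps.nil))))))) (nat_lit 72) (nat_lit 7),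
  Rule.mk (nat_lit 3) (nat_lit 154) (Steps.fwd (nat_lit 1835008) (Steps.bwd (nat_lit 1) (Steps.fwd (nat_lit 524288) (Steps.bwd (nat_lit 1) (Steps.bwd (nat_lit 7) (Steps.bwd (nat_lit 3) (Steps.fwd (nat_lit 262144) Steps.nil))))))) (nat_lit 73) (nat_lit 4),
  Rule.mk (nat_lit 4) (nat_lit 154) (Steps.fwd (nat_lit 1835008) (Steps.bwd (nat_lit 1) (Steps.fwd (nat_lit 1048576) (Steps.bwd (nat_lit 1) (Steps.fwd (nat_lit 1835008) (Steps.fwd (nat_lit 1048576) (Steps.fwd (nat_lit 262144) Steps.nil))))))) (nat_lit 76) (nat_lit 7),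
  Rule.mk (nat_lit 1) (nat_lit 274) (Steps.fwd (nat_lit 1572864) (Steps.fwd (nat_lit 262144) (Steps.fwd (nat_lit 1572864) (Steps.fwd (nat_lit 1310720) (Steps.bwd (nat_lit 2) (Steps.bwd (nat_lit 1) (Steps.fwd (nat_lit 1572864) (Steps.bwd (nat_lit 1) (Steps.bwd (nat_lit 2) (Steps.bwd (nat_lit 1) (Steps.bwd (nat_lit 6) (Steps.bwd (nat_lit 1) (Steps.bwd (nat_lit 2) Steps.nil))))))))))))) (nat_lit 34) (nat_lit 10),
  Rule.mk (nat_lit 6) (nat_lit 274) (Steps.bwd (nat_lit 5) (Steps.bwd (nat_lit 2) (Steps.bwd (nat_lit 1) (Steps.bwd (nat_lit 6) (Steps.bwd (nat_lit 1) (Steps.bwd (nat_lit 2) (Steps.bwd (nat_lit 1) (Steps.fwd (nat_lit 1572864) (Steps.fwd (nat_lit 262144) (Steps.fwd (nat_lit 786432) (Steps.bwd (nat_lit 1) (Steps.fwd (nat_lit 1572864) (Steps.fwd (nat_lit 262144) Steps.nil))))))))))))) (nat_lit 34) (nat_lit 13),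
  Rule.mk (nat_lit 6) (nat_lit 274) (Steps.bwd (nat_lit 1) (Steps.bwd (nat_lit 3) (Steps.fwd (nat_lit 262144) (Steps.fwd (nat_lit 1572864) (Steps.bwd (nat_lit 1) (Steps.fwd (nat_lit 524288) (Steps.fwd (nat_lit 1310720) (Steps.bwd (nat_lit 6) (Steps.bwd (nat_lit 1) (Steps.bwd (nat_lit 6) (Steps.bwd (nat_lit 1) (Steps.bwd (nat_lit 3) (Steps.fwd (nat_lit 262144) Steps.nil))))))))))))) (nat_lit 35) (nat_lit 8),
  Rule.mk (nat_lit 4) (nat_lit 154) (Steps.bwd (nat_lit 5) (Steps.fwd (nat_lit 786432) (Steps.fwd (nat_lit 1835008) (Steps.bwd (nat_lit 4) (Steps.bwd (nat_lit 6) (Steps.bwd (nat_lit 2) (Steps.fwd (nat_lit 1835008) Steps.nil))))))) (nat_lit 90) (nat_lit 3),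
  Rule.mk (nat_lit 4) (nat_lit 314) (Steps.bwd (nat_lit 8) (Steps.fwd (nat_lit 1048576) (Steps.fwd (nat_lit 2097152) (Steps.bwd (nat_lit 4) (Steps.bwd (nat_lit 8) (Steps.bwd (nat_lit 4) (Steps.fwd (nat_lit 2097152) (Steps.fwd (nat_lit 1048576) (Steps.bwd (nat_lit 8) (Steps.fwd (nat_lit 1048576) (Steps.fwd (nat_lit 2097152) (Steps.fwd (nat_lit 1048576) (Steps.bwd (nat_lit 8) (Steps.bwd (nat_lit 4) (Steps.fwd (nat_lit 2097152) Steps.nil))))))))))))))) (nat_lit 106) (nat_lit 0),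
  Rule.mk (nat_lit 4) (nat_lit 114) (Steps.fwd (nat_lit 1310720) (Steps.bwd (nat_lit 7) (Steps.fwd (nat_lit 1048576) (Steps.bwd (nat_lit 6) (Steps.fwd (nat_lit 1835008) Steps.nil))))) (nat_lit 66) (nat_lit 1),
  Rule.mk (nat_lit 4) (nat_lit 154) (Steps.bwd (nat_lit 6) (Steps.bwd (nat_lit 7) (Steps.bwd (nat_lit 2) (Steps.fwd (nat_lit 1048576) (Steps.fwd (nat_lit 1310720) (Steps.bwd (nat_lit 7) (Steps.fwd (nat_lit 786432) Steps.nil))))))) (nat_lit 78) (nat_lit 6),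
  Rule.mk (nat_lit 4) (nat_lit 314) (Steps.bwd (nat_lit 9) (Steps.bwd (nat_lit 4) (Steps.fwd (nat_lit 2359296) (Steps.bwd (nat_lit 4) (Steps.bwd (nat_lit 9) (Steps.bwd (nat_lit 4) (Steps.bwd (nat_lit 8) (Steps.fwd (nat_lit 1048576) (Steps.fwd (nat_lit 2097152) (Steps.fwd (nat_lit 1048576) (Steps.fwd (nat_lit 2359296) (Steps.fwd (nat_lit 1048576) (Steps.bwd (nat_lit 9) (Steps.fwd (nat_lit 1048576) (Steps.fwd (nat_lit 2359296) Steps.nil))))))))))))))) (nat_lit 106) (nat_lit 2),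
  Rule.mk (nat_lit 4) (nat_lit 314) (Steps.fwd (nat_lit 2359296) (Steps.fwd (nat_lit 1048576) (Steps.bwd (nat_lit 9) (Steps.bwd (nat_lit 4) (Steps.fwd (nat_lit 2359296) (Steps.bwd (nat_lit 4) (Steps.bwd (nat_lit 9) (Steps.bwd (nat_lit 4) (Steps.fwd (nat_lit 2359296) (Steps.fwd (nat_lit 1048576) (Steps.fwd (nat_lit 2097152) (Steps.bwd (nat_lit 4) (Steps.bwd (nat_lit 8) (Steps.fwd (nat_lit 1048576) (Steps.fwd (nat_lit 2097152) Steps.nil))))))))))))))) (nat_lit 106) (nat_lit 0),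
  Rule.mk (nat_lit 4) (nat_lit 314) (Steps.bwd (nat_lit 9) (Steps.bwd (nat_lit 4) (Steps.fwd (nat_lit 2359296) (Steps.bwd (nat_lit 4) (Steps.bwd (nat_lit 9) (Steps.fwd (nat_lit 1048576) (Steps.fwd (nat_lit 2359296) (Steps.fwd (nat_lit 1048576) (Steps.fwd (nat_lit 2097152) (Steps.fwd (nat_lit 1048576) (Steps.bwd (nat_lit 8) (Steps.bwd (nat_lit 4) (Steps.bwd (nat_lit 9) (Steps.fwd (nat_lit 1048576) (Steps.fwd (nat_lit 2359296) Steps.nil))))))))))))))) (nat_lit 106) (nat_lit 2),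
  Rule.mk (nat_lit 4) (nat_lit 154) (Steps.bwd (nat_lit 5) (Steps.fwd (nat_lit 1835008) (Steps.fwd (nat_lit 786432) (Steps.bwd (nat_lit 4) (Steps.fwd (nat_lit 1572864) (Steps.fwd (nat_lit 1835008) (Steps.bwd (nat_lit 2) Steps.nil))))))) (nat_lit 78) (nat_lit 2),
  Rule.mk (nat_lit 4) (nat_lit 154) (Steps.bwd (nat_lit 3) (Steps.fwd (nat_lit 1835008) (Steps.bwd (nat_lit 6) (Steps.bwd (nat_lit 4) (Steps.bwd (nat_lit 3) (Steps.bwd (nat_lit 7) (Steps.bwd (nat_lit 5) Steps.nil))))))) (nat_lit 79) (nat_lit 7),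
  Rule.mk (nat_lit 2) (nat_lit 114) (Steps.bwd (nat_lit 4) (Steps.fwd (nat_lit 1310720) (Steps.bwd (nat_lit 2) (Steps.bwd (nat_lit 4) (Steps.fwd (nat_lit 1572864) Steps.nil))))) (nat_lit 54) (nat_lit 1),
  Rule.mk (nat_lit 4) (nat_lit 114) (Steps.bwd (nat_lit 3) (Steps.fwd (nat_lit 1572864) (Steps.fwd (nat_lit 1048576) (Steps.fwd (nat_lit 524288) (Steps.fwd (nat_lit 1310720) Steps.nil))))) (nat_lit 55) (nat_lit 5),
  Rule.mk (nat_lit 4) (nat_lit 114) (Steps.fwd (nat_lit 262144) (Steps.bwd (nat_lit 4) (Steps.bwd (nat_lit 1) (Steps.bwd (nat_lit 4) (Steps.bwd (nat_lit 1) Steps.nil))))) (nat_lit 16) (nat_lit 0),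
  Rule.mk (nat_lit 2) (nat_lit 114) (Steps.fwd (nat_lit 1310720) (Steps.bwd (nat_lit 4) (Steps.fwd (nat_lit 786432) (Steps.bwd (nat_lit 6) (Steps.fwd (nat_lit 1048576) Steps.nil))))) (nat_lit 58) (nat_lit 1),
  Rule.mk (nat_lit 3) (nat_lit 154) (Steps.fwd (nat_lit 1048576) (Steps.bwd (nat_lit 7) (Steps.fwd (nat_lit 1310720) (Steps.bwd (nat_lit 3) (Steps.bwd (nat_lit 4) (Steps.fwd (nat_lit 1835008) (Steps.fwd (nat_lit 1572864) Steps.nil))))))) (nat_lit 89) (nat_lit 4),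
  Rule.mk (nat_lit 1) (nat_lit 274) (Steps.fwd (nat_lit 524288) (Steps.fwd (nat_lit 1310720) (Steps.bwd (nat_lit 6) (Steps.fwd (nat_lit 262144) (Steps.fwd (nat_lit 1572864) (Steps.bwd (nat_lit 1) (Steps.bwd (nat_lit 3) (Steps.fwd (nat_lit 262144) (Steps.bwd (nat_lit 6) (Steps.bwd (nat_lit 1) (Steps.bwd (nat_lit 3) (Steps.bwd (nat_lit 1) (Steps.bwd (nat_lit 6) Steps.nil))))))))))))) (nat_lit 35) (nat_lit 13),
  Rule.mk (nat_lit 2) (nat_lit 154) (Steps.bwd (nat_lit 1) (Steps.fwd (nat_lit 524288) (Steps.bwd (nat_lit 1) (Steps.fwd (nat_lit 786432) (Steps.fwd (nat_lit 262144) (Steps.fwd (nat_lit 524288) (Steps.fwd (nat_lit 262144) Steps.nil))))))) (nat_lit 68) (nat_lit 2),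
  Rule.mk (nat_lit 1) (nat_lit 154) (Steps.bwd (nat_lit 3) (Steps.bwd (nat_lit 1) (Steps.fwd (nat_lit 786432) (Steps.fwd (nat_lit 262144) (Steps.bwd (nat_lit 3) (Steps.bwd (nat_lit 1) (Steps.fwd (nat_lit 786432) Steps.nil))))))) (nat_lit 68) (nat_lit 3),
  Rule.mk (nat_lit 1) (nat_lit 154) (Steps.bwd (nat_lit 2) (Steps.fwd (nat_lit 1835008) (Steps.fwd (nat_lit 262144) (Steps.bwd (nat_lit 2) (Steps.bwd (nat_lit 1) (Steps.fwd (nat_lit 1835008) (Steps.fwd (nat_lit 786432) Steps.nil))))))) (nat_lit 72) (nat_lit 6),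
  Rule.mk (nat_lit 4) (nat_lit 154) (Steps.bwd (nat_lit 1) (Steps.fwd (nat_lit 1835008) (Steps.bwd (nat_lit 4) (Steps.bwd (nat_lit 1) (Steps.bwd (nat_lit 4) (Steps.fwd (nat_lit 1835008) (Steps.bwd (nat_lit 1) Steps.nil))))))) (nat_lit 76) (nat_lit 2),
  Rule.mk (nat_lit 6) (nat_lit 274) (Steps.bwd (nat_lit 5) (Steps.bwd (nat_lit 2) (Steps.bwd (nat_lit 1) (Steps.bwd (nat_lit 6) (Steps.bwd (nat_lit 1) (Steps.bwd (nat_lit 2) (Steps.fwd (nat_lit 262144) (Steps.fwd (nat_lit 1572864) (Steps.fwd (nat_lit 262144) (Steps.bwd (nat_lit 2) (Steps.fwd (nat_lit 262144) (Steps.bwd (nat_lit 6) (Steps.fwd (nat_lit 262144) Steps.nil))))))))))))) (nat_lit 34) (nat_lit 13),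
  Rule.mk (nat_lit 9) (nat_lit 114) (Steps.fwd (nat_lit 262144) (Steps.fwd (nat_lit 2359296) (Steps.bwd (nat_lit 2) (Steps.fwd (nat_lit 262144) (Steps.fwd (nat_lit 524288) Steps.nil))))) (nat_lit 104) (nat_lit 5),
  Rule.mk (nat_lit 4) (nat_lit 114) (Steps.bwd (nat_lit 2) (Steps.bwd (nat_lit 6) (Steps.bwd (nat_lit 4) (Steps.fwd (nat_lit 786432) (Steps.bwd (nat_lit 5) Steps.nil))))) (nat_lit 58) (nat_lit 3),
  Rule.mk (nat_lit 4) (nat_lit 114) (Steps.bwd (nat_lit 5) (Steps.fwd (nat_lit 524288) (Steps.bwd (nat_lit 4) (Steps.bwd (nat_lit 6) (Steps.fwd (nat_lit 524288) Steps.nil))))) (nat_lit 59) (nat_lit 4),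
  Rule.mk (nat_lit 4) (nat_lit 154) (Steps.bwd (nat_lit 5) (Steps.fwd (nat_lit 524288) (Steps.fwd (nat_lit 1835008) (Steps.bwd (nat_lit 4) (Steps.bwd (nat_lit 6) (Steps.fwd (nat_lit 524288) (Steps.bwd (nat_lit 7) Steps.nil))))))) (nat_lit 87) (nat_lit 6),
  Rule.mk (nat_lit 3) (nat_lit 114) (Steps.bwd (nat_lit 5) (Steps.bwd (nat_lit 4) (Steps.fwd (nat_lit 524288) (Steps.fwd (nat_lit 1572864) (Steps.fwd (nat_lit 1048576) Steps.nil))))) (nat_lit 55) (nat_lit 3),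
  Rule.mk (nat_lit 0) (nat_lit 134) (Steps.bwd (nat_lit 4) (Steps.bwd (nat_lit 6) (Steps.bwd (nat_lit 3) (Steps.fwd (nat_lit 1048576) (Steps.fwd (nat_lit 1310720) (Steps.bwd (nat_lit 3) Steps.nil)))))) (nat_lit 59) (nat_lit 0),
  Rule.mk (nat_lit 0) (nat_lit 174) (Steps.bwd (nat_lit 5) (Steps.fwd (nat_lit 524288) (Steps.bwd (nat_lit 7) (Steps.bwd (nat_lit 4) (Steps.fwd (nat_lit 1572864) (Steps.fwd (nat_lit 524288) (Steps.fwd (nat_lit 1835008) (Steps.fwd (nat_lit 1048576) Steps.nil)))))))) (nat_lit 87) (nat_lit 6),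
  Rule.mk (nat_lit 4) (nat_lit 114) (Steps.bwd (nat_lit 5) (Steps.fwd (nat_lit 786432) (Steps.fwd (nat_lit 1048576) (Steps.bwd (nat_lit 6) (Steps.bwd (nat_lit 2) Steps.nil))))) (nat_lit 54) (nat_lit 2),
  Rule.mk (nat_lit 7) (nat_lit 154) (Steps.bwd (nat_lit 4) (Steps.bwd (nat_lit 5) (Steps.fwd (nat_lit 786432) (Steps.bwd (nat_lit 7) (Steps.fwd (nat_lit 1048576) (Steps.bwd (nat_lit 6) (Steps.bwd (nat_lit 2) Steps.nil))))))) (nat_lit 90) (nat_lit 2),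
  Rule.mk (nat_lit 3) (nat_lit 154) (Steps.bwd (nat_lit 4) (Steps.fwd (nat_lit 1310720) (Steps.bwd (nat_lit 7) (Steps.fwd (nat_lit 524288) (Steps.fwd (nat_lit 1048576) (Steps.bwd (nat_lit 6) (Steps.bwd (nat_lit 7) Steps.nil))))))) (nat_lit 93) (nat_lit 4),
  Rule.mk (nat_lit 4) (nat_lit 114) (Steps.fwd (nat_lit 262144) (Steps.fwd (nat_lit 1048576) (Steps.bwd (nat_lit 1) (Steps.bwd (nat_lit 4) (Steps.fwd (nat_lit 262144) Steps.nil))))) (nat_lit 16) (nat_lit 0),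
  Rule.mk (nat_lit 1) (nat_lit 154) (Steps.bwd (nat_lit 3) (Steps.fwd (nat_lit 262144) (Steps.bwd (nat_lit 2) (Steps.bwd (nat_lit 1) (Steps.fwd (nat_lit 524288) (Steps.fwd (nat_lit 262144) (Steps.fwd (nat_lit 786432) Steps.nil))))))) (nat_lit 68) (nat_lit 3),
  Rule.mk (nat_lit 0) (nat_lit 174) (Steps.fwd (nat_lit 262144) (Steps.fwd (nat_lit 1835008) (Steps.fwd (nat_lit 1048576) (Steps.bwd (nat_lit 1) (Steps.bwd (nat_lit 4) (Steps.bwd (nat_lit 7) (Steps.fwd (nat_lit 262144) (Steps.fwd (nat_lit 1048576) Steps.nil)))))))) (nat_lit 76) (nat_lit 2),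
  Rule.mk (nat_lit 4) (nat_lit 114) (Steps.fwd (nat_lit 1572864) (Steps.fwd (nat_lit 786432) (Steps.fwd (nat_lit 1048576) (Steps.bwd (nat_lit 5) (Steps.bwd (nat_lit 2) Steps.nil))))) (nat_lit 54) (nat_lit 5),
  Rule.mk (nat_lit 4) (nat_lit 114) (Steps.bwd (nat_lit 2) (Steps.bwd (nat_lit 5) (Steps.fwd (nat_lit 1048576) (Steps.bwd (nat_lit 2) (Steps.fwd (nat_lit 1572864) Steps.nil))))) (nat_lit 58) (nat_lit 0),
  Rule.mk (nat_lit 4) (nat_lit 154) (Steps.fwd (nat_lit 1835008) (Steps.bwd (nat_lit 2) (Steps.bwd (nat_lit 5) (Steps.fwd (nat_lit 1048576) (Steps.bwd (nat_lit 7) (Steps.fwd (nat_lit 786432) (Steps.bwd (nat_lit 6) Steps.nil))))))) (nat_lit 86) (nat_lit 7),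
  Rule.mk (nat_lit 0) (nat_lit 94) (Steps.bwd (nat_lit 5) (Steps.fwd (nat_lit 2359296) (Steps.fwd (nat_lit 1835008) (Steps.bwd (nat_lit 9) Steps.nil)))) (nat_lit 98) (nat_lit 3),
  Rule.mk (nat_lit 4) (nat_lit 154) (Steps.fwd (nat_lit 524288) (Steps.bwd (nat_lit 7) (Steps.fwd (nat_lit 1310720) (Steps.fwd (nat_lit 1048576) (Steps.fwd (nat_lit 524288) (Steps.fwd (nat_lit 1835008) (Steps.bwd (nat_lit 6) Steps.nil))))))) (nat_lit 79) (nat_lit 3),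
  Rule.mk (nat_lit 4) (nat_lit 154) (Steps.bwd (nat_lit 1) (Steps.bwd (nat_lit 4) (Steps.bwd (nat_lit 7) (Steps.fwd (nat_lit 262144) (Steps.fwd (nat_lit 1048576) (Steps.bwd (nat_lit 1) (Steps.bwd (nat_lit 7) Steps.nil))))))) (nat_lit 76) (nat_lit 5),
  Rule.mk (nat_lit 0) (nat_lit 94) (Steps.fwd (nat_lit 1572864) (Steps.bwd (nat_lit 4) (Steps.bwd (nat_lit 5) (Steps.bwd (nat_lit 4) Steps.nil)))) (nat_lit 22) (nat_lit 3),
  Rule.mk (nat_lit 3) (nat_lit 114) (Steps.fwd (nat_lit 1048576) (Steps.bwd (nat_lit 6) (Steps.fwd (nat_lit 524288) (Steps.bwd (nat_lit 4) (Steps.fwd (nat_lit 1310720) Steps.nil))))) (nat_lit 59) (nat_lit 0),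
  Rule.mk (nat_lit 4) (nat_lit 154) (Steps.bwd (nat_lit 5) (Steps.bwd (nat_lit 7) (Steps.fwd (nat_lit 786432) (Steps.bwd (nat_lit 4) (Steps.fwd (nat_lit 1572864) (Steps.fwd (nat_lit 1835008) (Steps.bwd (nat_lit 2) Steps.nil))))))) (nat_lit 78) (nat_lit 2),
  Rule.mk (nat_lit 9) (nat_lit 314) (Steps.bwd (nat_lit 4) (Steps.fwd (nat_lit 2359296) (Steps.fwd (nat_lit 1048576) (Steps.fwd (nat_lit 2097152) (Steps.bwd (nat_lit 4) (Steps.fwd (nat_lit 2359296) (Steps.bwd (nat_lit 4) (Steps.fwd (nat_lit 2097152) (Steps.bwd (nat_lit 4) (Steps.fwd (nat_lit 2359296) (Steps.fwd (nat_lit 1048576) (Steps.fwd (nat_lit 2097152) (Steps.fwd (nat_lit 1048576) (Steps.fwd (nat_lit 2359296) (Steps.bwd (nat_lit 4) Steps.nil))))))))))))))) (nat_lit 106) (nat_lit 3),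
  Rule.mk (nat_lit 4) (nat_lit 114) (Steps.bwd (nat_lit 7) (Steps.bwd (nat_lit 3) (Steps.fwd (nat_lit 1048576) (Steps.fwd (nat_lit 1835008) (Steps.bwd (nat_lit 3) Steps.nil))))) (nat_lit 65) (nat_lit 1)]
noncomputable def R_88 : List (Rule) := [Rule.mk (nat_lit 4) (nat_lit 154) (Steps.bwd (nat_lit 7) (Steps.bwd (nat_lit 6) (Steps.bwd (nat_lit 3) (Steps.fwd (nat_lit 1048576) (Steps.fwd (nat_lit 1835008) (Steps.bwd (nat_lit 5) (Steps.bwd (nat_lit 3) Steps.nil))))))) (nat_lit 89) (nat_lit 1),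
  Rule.mk (nat_lit 8) (nat_lit 314) (Steps.bwd (nat_lit 4) (Steps.bwd (nat_lit 9) (Steps.fwd (nat_lit 1048576) (Steps.bwd (nat_lit 8) (Steps.fwd (nat_lit 1048576) (Steps.bwd (nat_lit 9) (Steps.bwd (nat_lit 4) (Steps.fwd (nat_lit 2359296) (Steps.fwd (nat_lit 1048576) (Steps.fwd (nat_lit 2097152) (Steps.fwd (nat_lit 1048576) (Steps.fwd (nat_lit 2359296) (Steps.fwd (nat_lit 1048576) (Steps.bwd (nat_lit 9) (Steps.fwd (nat_lit 1048576) Steps.nil))))))))))))))) (nat_lit 106) (nat_lit 1),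
  Rule.mk (nat_lit 4) (nat_lit 314) (Steps.bwd (nat_lit 9) (Steps.bwd (nat_lit 4) (Steps.bwd (nat_lit 8) (Steps.fwd (nat_lit 1048576) (Steps.fwd (nat_lit 2097152) (Steps.bwd (nat_lit 4) (Steps.fwd (nat_lit 2359296) (Steps.fwd (nat_lit 1048576) (Steps.bwd (nat_lit 9) (Steps.fwd (nat_lit 1048576) (Steps.fwd (nat_lit 2359296) (Steps.fwd (nat_lit 1048576) (Steps.bwd (nat_lit 9) (Steps.fwd (nat_lit 1048576) (Steps.fwd (nat_lit 2359296) Steps.nil))))))))))))))) (nat_lit 106) (nat_lit 2),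
  Rule.mk (nat_lit 4) (nat_lit 154) (Steps.fwd (nat_lit 262144) (Steps.fwd (nat_lit 1835008) (Steps.bwd (nat_lit 4) (Steps.bwd (nat_lit 1) (Steps.bwd (nat_lit 4) (Steps.fwd (nat_lit 1835008) (Steps.fwd (nat_lit 262144) Steps.nil))))))) (nat_lit 76) (nat_lit 2),
  Rule.mk (nat_lit 4) (nat_lit 154) (Steps.bwd (nat_lit 1) (Steps.fwd (nat_lit 1572864) (Steps.fwd (nat_lit 262144) (Steps.fwd (nat_lit 1048576) (Steps.fwd (nat_lit 262144) (Steps.fwd (nat_lit 1572864) (Steps.bwd (nat_lit 1) Steps.nil))))))) (nat_lit 74) (nat_lit 2),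
  Rule.mk (nat_lit 6) (nat_lit 274) (Steps.bwd (nat_lit 1) (Steps.bwd (nat_lit 2) (Steps.bwd (nat_lit 1) (Steps.bwd (nat_lit 6) (Steps.fwd (nat_lit 262144) (Steps.bwd (nat_lit 2) (Steps.bwd (nat_lit 1) (Steps.bwd (nat_lit 6) (Steps.bwd (nat_lit 1) (Steps.fwd (nat_lit 1572864) (Steps.bwd (nat_lit 5) (Steps.fwd (nat_lit 786432) (Steps.fwd (nat_lit 262144) Steps.nil))))))))))))) (nat_lit 34) (nat_lit 3),
  Rule.mk (nat_lit 0) (nat_lit 294) (Steps.bwd (nat_lit 6) (Steps.bwd (nat_lit 1) (Steps.bwd (nat_lit 3) (Steps.fwd (nat_lit 262144) (Steps.bwd (nat_lit 6) (Steps.fwd (nat_lit 262144) (Steps.fwd (nat_lit 524288) (Steps.fwd (nat_lit 262144) (Steps.bwd (nat_lit 6) (Steps.bwd (nat_lit 1) (Steps.fwd (nat_lit 524288) (Steps.bwd (nat_lit 5) (Steps.bwd (nat_lit 6) (Steps.fwd (nat_lit 262144) Steps.nil)))))))))))))) (nat_lit 35) (nat_lit 3),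
  Rule.mk (nat_lit 0) (nat_lit 294) (Steps.bwd (nat_lit 6) (Steps.bwd (nat_lit 1) (Steps.bwd (nat_lit 3) (Steps.fwd (nat_lit 262144) (Steps.fwd (nat_lit 1572864) (Steps.fwd (nat_lit 262144) (Steps.fwd (nat_lit 524288) (Steps.bwd (nat_lit 1) (Steps.bwd (nat_lit 6) (Steps.bwd (nat_lit 1) (Steps.fwd (nat_lit 524288) (Steps.fwd (nat_lit 1310720) (Steps.bwd (nat_lit 6) (Steps.fwd (nat_lit 262144) Steps.nil)))))))))))))) (nat_lit 35) (nat_lit 3),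
  Rule.mk (nat_lit 1) (nat_lit 154) (Steps.bwd (nat_lit 2) (Steps.bwd (nat_lit 1) (Steps.fwd (nat_lit 1310720) (Steps.bwd (nat_lit 2) (Steps.bwd (nat_lit 1) (Steps.fwd (nat_lit 786432) (Steps.fwd (nat_lit 1310720) Steps.nil))))))) (nat_lit 70) (nat_lit 1),
  Rule.mk (nat_lit 5) (nat_lit 154) (Steps.bwd (nat_lit 1) (Steps.bwd (nat_lit 2) (Steps.fwd (nat_lit 262144) (Steps.fwd (nat_lit 1310720) (Steps.fwd (nat_lit 786432) (Steps.bwd (nat_lit 1) (Steps.bwd (nat_lit 2) Steps.nil))))))) (nat_lit 70) (nat_lit 0),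
  Rule.mk (nat_lit 7) (nat_lit 154) (Steps.bwd (nat_lit 1) (Steps.bwd (nat_lit 2) (Steps.fwd (nat_lit 262144) (Steps.fwd (nat_lit 1835008) (Steps.fwd (nat_lit 786432) (Steps.bwd (nat_lit 1) (Steps.bwd (nat_lit 2) Steps.nil))))))) (nat_lit 72) (nat_lit 0),
  Rule.mk (nat_lit 7) (nat_lit 154) (Steps.bwd (nat_lit 3) (Steps.bwd (nat_lit 1) (Steps.bwd (nat_lit 3) (Steps.fwd (nat_lit 1835008) (Steps.bwd (nat_lit 1) (Steps.fwd (nat_lit 524288) (Steps.fwd (nat_lit 262144) Steps.nil))))))) (nat_lit 73) (nat_lit 1),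
  Rule.mk (nat_lit 4) (nat_lit 154) (Steps.bwd (nat_lit 1) (Steps.fwd (nat_lit 1572864) (Steps.fwd (nat_lit 262144) (Steps.bwd (nat_lit 4) (Steps.fwd (nat_lit 262144) (Steps.fwd (nat_lit 1572864) (Steps.bwd (nat_lit 1) Steps.nil))))))) (nat_lit 74) (nat_lit 2),
  Rule.mk (nat_lit 6) (nat_lit 274) (Steps.bwd (nat_lit 1) (Steps.bwd (nat_lit 3) (Steps.bwd (nat_lit 1) (Steps.bwd (nat_lit 6) (Steps.fwd (nat_lit 262144) (Steps.bwd (nat_lit 3) (Steps.bwd (nat_lit 1) (Steps.bwd (nat_lit 6) (Steps.bwd (nat_lit 1) (Steps.fwd (nat_lit 524288) (Steps.bwd (nat_lit 5) (Steps.bwd (nat_lit 6) (Steps.fwd (nat_lit 262144) Steps.nil))))))))))))) (nat_lit 35) (nat_lit 4),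
  Rule.mk (nat_lit 1) (nat_lit 274) (Steps.fwd (nat_lit 1572864) (Steps.fwd (nat_lit 262144) (Steps.bwd (nat_lit 2) (Steps.fwd (nat_lit 262144) (Steps.bwd (nat_lit 6) (Steps.bwd (nat_lit 1) (Steps.fwd (nat_lit 786432) (Steps.fwd (nat_lit 262144) (Steps.bwd (nat_lit 6) (Steps.bwd (nat_lit 1) (Steps.fwd (nat_lit 1572864) (Steps.bwd (nat_lit 5) (Steps.bwd (nat_lit 2) Steps.nil))))))))))))) (nat_lit 34) (nat_lit 2),
  Rule.mk (nat_lit 1) (nat_lit 154) (Steps.fwd (nat_lit 524288) (Steps.bwd (nat_lit 1) (Steps.bwd (nat_lit 2) (Steps.fwd (nat_lit 262144) (Steps.fwd (nat_lit 524288) (Steps.fwd (nat_lit 262144) (Steps.bwd (nat_lit 2) Steps.nil))))))) (nat_lit 68) (nat_lit 3),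
  Rule.mk (nat_lit 2) (nat_lit 274) (Steps.bwd (nat_lit 1) (Steps.fwd (nat_lit 1572864) (Steps.fwd (nat_lit 262144) (Steps.fwd (nat_lit 786432) (Steps.bwd (nat_lit 1) (Steps.bwd (nat_lit 6) (Steps.fwd (nat_lit 262144) (Steps.fwd (nat_lit 1572864) (Steps.fwd (nat_lit 1310720) (Steps.fwd (nat_lit 786432) (Steps.bwd (nat_lit 1) (Steps.bwd (nat_lit 6) (Steps.fwd (nat_lit 262144) Steps.nil))))))))))))) (nat_lit 34) (nat_lit 5),
  Rule.mk (nat_lit 6) (nat_lit 274) (Steps.bwd (nat_lit 5) (Steps.bwd (nat_lit 2) (Steps.bwd (nat_lit 1) (Steps.fwd (nat_lit 1572864) (Steps.fwd (nat_lit 262144) (Steps.fwd (nat_lit 786432) (Steps.bwd (nat_lit 1) (Steps.bwd (nat_lit 6) (Steps.fwd (nat_lit 262144) (Steps.fwd (nat_lit 786432) (Steps.bwd (nat_lit 1) (Steps.fwd (nat_lit 1572864) (Steps.fwd (nat_lit 262144) Steps.nil))))))))))))) (nat_lit 34) (nat_lit 13),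
  Rule.mk (nat_lit 4) (nat_lit 114) (Steps.fwd (nat_lit 1310720) (Steps.fwd (nat_lit 786432) (Steps.fwd (nat_lit 1048576) (Steps.bwd (nat_lit 6) (Steps.bwd (nat_lit 2) Steps.nil))))) (nat_lit 54) (nat_lit 2),
  Rule.mk (nat_lit 0) (nat_lit 134) (Steps.bwd (nat_lit 4) (Steps.bwd (nat_lit 3) (Steps.bwd (nat_lit 6) (Steps.fwd (nat_lit 1048576) (Steps.bwd (nat_lit 3) (Steps.fwd (nat_lit 1310720) Steps.nil)))))) (nat_lit 55) (nat_lit 4),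
  Rule.mk (nat_lit 1) (nat_lit 274) (Steps.bwd (nat_lit 6) (Steps.bwd (nat_lit 5) (Steps.fwd (nat_lit 786432) (Steps.fwd (nat_lit 262144) (Steps.bwd (nat_lit 6) (Steps.bwd (nat_lit 1) (Steps.bwd (nat_lit 2) (Steps.fwd (nat_lit 262144) (Steps.fwd (nat_lit 1572864) (Steps.bwd (nat_lit 1) (Steps.fwd (nat_lit 786432) (Steps.bwd (nat_lit 1) (Steps.fwd (nat_lit 1572864) Steps.nil))))))))))))) (nat_lit 34) (nat_lit 12),
  Rule.mk (nat_lit 3) (nat_lit 154) (Steps.bwd (nat_lit 7) (Steps.fwd (nat_lit 1572864) (Steps.bwd (nat_lit 3) (Steps.bwd (nat_lit 5) (Steps.bwd (nat_lit 6) (Steps.bwd (nat_lit 3) (Steps.fwd (nat_lit 1310720) Steps.nil))))))) (nat_lit 83) (nat_lit 0),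
  Rule.mk (nat_lit 2) (nat_lit 114) (Steps.bwd (nat_lit 4) (Steps.bwd (nat_lit 6) (Steps.bwd (nat_lit 2) (Steps.bwd (nat_lit 4) (Steps.bwd (nat_lit 5) Steps.nil))))) (nat_lit 54) (nat_lit 4),
  Rule.mk (nat_lit 4) (nat_lit 314) (Steps.bwd (nat_lit 9) (Steps.bwd (nat_lit 4) (Steps.fwd (nat_lit 2359296) (Steps.bwd (nat_lit 4) (Steps.fwd (nat_lit 2097152) (Steps.bwd (nat_lit 4) (Steps.bwd (nat_lit 8) (Steps.bwd (nat_lit 4) (Steps.bwd (nat_lit 9) (Steps.fwd (nat_lit 1048576) (Steps.bwd (nat_lit 8) (Steps.fwd (nat_lit 1048576) (Steps.fwd (nat_lit 2097152) (Steps.bwd (nat_lit 4) (Steps.bwd (nat_lit 8) Steps.nil))))))))))))))) (nat_lit 106) (nat_lit 2),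
  Rule.mk (nat_lit 0) (nat_lit 174) (Steps.fwd (nat_lit 1572864) (Steps.bwd (nat_lit 7) (Steps.bwd (nat_lit 2) (Steps.bwd (nat_lit 4) (Steps.bwd (nat_lit 5) (Steps.fwd (nat_lit 1835008) (Steps.bwd (nat_lit 2) (Steps.fwd (nat_lit 1048576) Steps.nil)))))))) (nat_lit 78) (nat_lit 6),
  Rule.mk (nat_lit 3) (nat_lit 154) (Steps.bwd (nat_lit 6) (Steps.bwd (nat_lit 7) (Steps.bwd (nat_lit 4) (Steps.fwd (nat_lit 524288) (Steps.bwd (nat_lit 5) (Steps.fwd (nat_lit 1835008) (Steps.fwd (nat_lit 1048576) Steps.nil))))))) (nat_lit 81) (nat_lit 0),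
  Rule.mk (nat_lit 8) (nat_lit 314) (Steps.fwd (nat_lit 1048576) (Steps.fwd (nat_lit 2097152) (Steps.bwd (nat_lit 4) (Steps.fwd (nat_lit 2359296) (Steps.bwd (nat_lit 4) (Steps.fwd (nat_lit 2097152) (Steps.bwd (nat_lit 4) (Steps.fwd (nat_lit 2359296) (Steps.bwd (nat_lit 4) (Steps.bwd (nat_lit 9) (Steps.bwd (nat_lit 4) (Steps.bwd (nat_lit 8) (Steps.bwd (nat_lit 4) (Steps.bwd (nat_lit 9) (Steps.fwd (nat_lit 1048576) Steps.nil))))))))))))))) (nat_lit 106) (nat_lit 1),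
  Rule.mk (nat_lit 5) (nat_lit 154) (Steps.bwd (nat_lit 4) (Steps.bwd (nat_lit 2) (Steps.bwd (nat_lit 7) (Steps.fwd (nat_lit 1572864) (Steps.fwd (nat_lit 1048576) (Steps.bwd (nat_lit 2) (Steps.bwd (nat_lit 7) Steps.nil))))))) (nat_lit 92) (nat_lit 3),
  Rule.mk (nat_lit 1) (nat_lit 154) (Steps.bwd (nat_lit 3) (Steps.bwd (nat_lit 5) (Steps.bwd (nat_lit 1) (Steps.fwd (nat_lit 524288) (Steps.fwd (nat_lit 262144) (Steps.bwd (nat_lit 5) (Steps.bwd (nat_lit 3) Steps.nil))))))) (nat_lit 71) (nat_lit 3),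
  Rule.mk (nat_lit 3) (nat_lit 114) (Steps.bwd (nat_lit 4) (Steps.bwd (nat_lit 7) (Steps.fwd (nat_lit 524288) (Steps.bwd (nat_lit 4) (Steps.fwd (nat_lit 1835008) Steps.nil))))) (nat_lit 65) (nat_lit 0),
  Rule.mk (nat_lit 6) (nat_lit 114) (Steps.bwd (nat_lit 4) (Steps.fwd (nat_lit 1835008) (Steps.fwd (nat_lit 1310720) (Steps.bwd (nat_lit 4) (Steps.fwd (nat_lit 1835008) Steps.nil))))) (nat_lit 67) (nat_lit 2),
  Rule.mk (nat_lit 4) (nat_lit 154) (Steps.fwd (nat_lit 262144) (Steps.fwd (nat_lit 1572864) (Steps.fwd (nat_lit 262144) (Steps.bwd (nat_lit 4) (Steps.bwd (nat_lit 1) (Steps.bwd (nat_lit 6) (Steps.fwd (nat_lit 262144) Steps.nil))))))) (nat_lit 74) (nat_lit 2),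
  Rule.mk (nat_lit 8) (nat_lit 314) (Steps.bwd (nat_lit 4) (Steps.fwd (nat_lit 2097152) (Steps.fwd (nat_lit 1048576) (Steps.bwd (nat_lit 8) (Steps.fwd (nat_lit 1048576) (Steps.bwd (nat_lit 9) (Steps.bwd (nat_lit 4) (Steps.fwd (nat_lit 2359296) (Steps.bwd (nat_lit 4) (Steps.bwd (nat_lit 9) (Steps.bwd (nat_lit 4) (Steps.fwd (nat_lit 2359296) (Steps.bwd (nat_lit 4) (Steps.fwd (nat_lit 2097152) (Steps.fwd (nat_lit 1048576) Steps.nil))))))))))))))) (nat_lit 106) (nat_lit 1),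
  Rule.mk (nat_lit 0) (nat_lit 334) (Steps.bwd (nat_lit 8) (Steps.bwd (nat_lit 4) (Steps.bwd (nat_lit 9) (Steps.fwd (nat_lit 1048576) (Steps.fwd (nat_lit 2359296) (Steps.bwd (nat_lit 4) (Steps.bwd (nat_lit 9) (Steps.fwd (nat_lit 1048576) (Steps.fwd (nat_lit 2359296) (Steps.fwd (nat_lit 1048576) (Steps.bwd (nat_lit 9) (Steps.fwd (nat_lit 1048576) (Steps.fwd (nat_lit 2359296) (Steps.bwd (nat_lit 4) (Steps.bwd (nat_lit 9) (Steps.bwd (nat_lit 4) Steps.nil)))))))))))))))) (nat_lit 106) (nat_lit 0),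
  Rule.mk (nat_lit 5) (nat_lit 94) (Steps.bwd (nat_lit 8) (Steps.fwd (nat_lit 1310720) (Steps.bwd (nat_lit 9) (Steps.bwd (nat_lit 7) Steps.nil)))) (nat_lit 101) (nat_lit 2),
  Rule.mk (nat_lit 3) (nat_lit 74) (Steps.fwd (nat_lit 1310720) (Steps.fwd (nat_lit 786432) (Steps.bwd (nat_lit 5) Steps.nil))) (nat_lit 20) (nat_lit 3),
  Rule.mk (nat_lit 1) (nat_lit 154) (Steps.bwd (nat_lit 2) (Steps.fwd (nat_lit 262144) (Steps.bwd (nat_lit 3) (Steps.bwd (nat_lit 1) (Steps.fwd (nat_lit 786432) (Steps.bwd (nat_lit 1) (Steps.fwd (nat_lit 524288) Steps.nil))))))) (nat_lit 68) (nat_lit 1),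
  Rule.mk (nat_lit 1) (nat_lit 154) (Steps.fwd (nat_lit 786432) (Steps.bwd (nat_lit 7) (Steps.fwd (nat_lit 262144) (Steps.bwd (nat_lit 2) (Steps.bwd (nat_lit 1) (Steps.fwd (nat_lit 1835008) (Steps.fwd (nat_lit 786432) Steps.nil))))))) (nat_lit 72) (nat_lit 6),
  Rule.mk (nat_lit 0) (nat_lit 134) (Steps.fwd (nat_lit 786432) (Steps.bwd (nat_lit 1) (Steps.fwd (nat_lit 524288) (Steps.bwd (nat_lit 9) (Steps.fwd (nat_lit 262144) (Steps.fwd (nat_lit 2359296) Steps.nil)))))) (nat_lit 104) (nat_lit 1),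
  Rule.mk (nat_lit 4) (nat_lit 114) (Steps.bwd (nat_lit 7) (Steps.fwd (nat_lit 1310720) (Steps.fwd (nat_lit 1048576) (Steps.bwd (nat_lit 7) (Steps.fwd (nat_lit 1572864) Steps.nil))))) (nat_lit 67) (nat_lit 3),
  Rule.mk (nat_lit 9) (nat_lit 314) (Steps.bwd (nat_lit 4) (Steps.fwd (nat_lit 2359296) (Steps.bwd (nat_lit 4) (Steps.bwd (nat_lit 9) (Steps.bwd (nat_lit 4) (Steps.fwd (nat_lit 2359296) (Steps.fwd (nat_lit 1048576) (Steps.fwd (nat_lit 2097152) (Steps.bwd (nat_lit 4) (Steps.bwd (nat_lit 8) (Steps.fwd (nat_lit 1048576) (Steps.bwd (nat_lit 9) (Steps.fwd (nat_lit 1048576) (Steps.fwd (nat_lit 2359296) (Steps.fwd (nat_lit 1048576) Steps.nil))))))))))))))) (nat_lit 106) (nat_lit 3),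
  Rule.mk (nat_lit 1) (nat_lit 114) (Steps.fwd (nat_lit 2359296) (Steps.fwd (nat_lit 786432) (Steps.fwd (nat_lit 262144) (Steps.fwd (nat_lit 524288) (Steps.bwd (nat_lit 9) Steps.nil))))) (nat_lit 104) (nat_lit 0),
  Rule.mk (nat_lit 1) (nat_lit 154) (Steps.bwd (nat_lit 4) (Steps.fwd (nat_lit 262144) (Steps.bwd (nat_lit 7) (Steps.fwd (nat_lit 1048576) (Steps.bwd (nat_lit 1) (Steps.bwd (nat_lit 4) (Steps.bwd (nat_lit 7) Steps.nil))))))) (nat_lit 76) (nat_lit 1),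
  Rule.mk (nat_lit 2) (nat_lit 274) (Steps.bwd (nat_lit 1) (Steps.bwd (nat_lit 6) (Steps.bwd (nat_lit 1) (Steps.fwd (nat_lit 786432) (Steps.fwd (nat_lit 262144) (Steps.bwd (nat_lit 6) (Steps.bwd (nat_lit 1) (Steps.fwd (nat_lit 786432) (Steps.bwd (nat_lit 1) (Steps.fwd (nat_lit 1572864) (Steps.bwd (nat_lit 1) (Steps.fwd (nat_lit 1572864) (Steps.bwd (nat_lit 5) Steps.nil))))))))))))) (nat_lit 34) (nat_lit 1),
  Rule.mk (nat_lit 6) (nat_lit 114) (Steps.bwd (nat_lit 4) (Steps.bwd (nat_lit 2) (Steps.fwd (nat_lit 1310720) (Steps.fwd (nat_lit 1048576) (Steps.bwd (nat_lit 2) Steps.nil))))) (nat_lit 58) (nat_lit 5),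
  Rule.mk (nat_lit 4) (nat_lit 114) (Steps.fwd (nat_lit 786432) (Steps.bwd (nat_lit 6) (Steps.fwd (nat_lit 1048576) (Steps.bwd (nat_lit 2) (Steps.fwd (nat_lit 1310720) Steps.nil))))) (nat_lit 58) (nat_lit 3),
  Rule.mk (nat_lit 9) (nat_lit 314) (Steps.bwd (nat_lit 4) (Steps.bwd (nat_lit 8) (Steps.bwd (nat_lit 4) (Steps.fwd (nat_lit 2097152) (Steps.fwd (nat_lit 1048576) (Steps.bwd (nat_lit 8) (Steps.fwd (nat_lit 1048576) (Steps.fwd (nat_lit 2097152) (Steps.fwd (nat_lit 1048576) (Steps.bwd (nat_lit 8) (Steps.fwd (nat_lit 1048576) (Steps.bwd (nat_lit 9) (Steps.fwd (nat_lit 1048576) (Steps.fwd (nat_lit 2359296) (Steps.fwd (nat_lit 1048576) Steps.nil))))))))))))))) (nat_lit 106) (nat_lit 3),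
  Rule.mk (nat_lit 0) (nat_lit 134) (Steps.bwd (nat_lit 1) (Steps.fwd (nat_lit 1048576) (Steps.fwd (nat_lit 262144) (Steps.bwd (nat_lit 4) (Steps.fwd (nat_lit 262144) (Steps.fwd (nat_lit 1048576) Steps.nil)))))) (nat_lit 16) (nat_lit 0),
  Rule.mk (nat_lit 1) (nat_lit 154) (Steps.bwd (nat_lit 4) (Steps.bwd (nat_lit 1) (Steps.bwd (nat_lit 7) (Steps.fwd (nat_lit 1048576) (Steps.bwd (nat_lit 1) (Steps.bwd (nat_lit 4) (Steps.bwd (nat_lit 7) Steps.nil))))))) (nat_lit 76) (nat_lit 1),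
  Rule.mk (nat_lit 1) (nat_lit 274) (Steps.fwd (nat_lit 1572864) (Steps.bwd (nat_lit 5) (Steps.bwd (nat_lit 2) (Steps.fwd (nat_lit 262144) (Steps.fwd (nat_lit 1572864) (Steps.bwd (nat_lit 1) (Steps.fwd (nat_lit 786432) (Steps.bwd (nat_lit 1) (Steps.fwd (nat_lit 1572864) (Steps.bwd (nat_lit 1) (Steps.fwd (nat_lit 786432) (Steps.fwd (nat_lit 262144) (Steps.fwd (nat_lit 1572864) Steps.nil))))))))))))) (nat_lit 34) (nat_lit 12),
  Rule.mk (nat_lit 2) (nat_lit 154) (Steps.fwd (nat_lit 1310720) (Steps.bwd (nat_lit 1) (Steps.fwd (nat_lit 786432) (Steps.bwd (nat_lit 1) (Steps.bwd (nat_lit 5) (Steps.fwd (nat_lit 786432) (Steps.fwd (nat_lit 262144) Steps.nil))))))) (nat_lit 70) (nat_lit 7),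
  Rule.mk (nat_lit 2) (nat_lit 114) (Steps.fwd (nat_lit 1835008) (Steps.bwd (nat_lit 4) (Steps.bwd (nat_lit 2) (Steps.fwd (nat_lit 1835008) (Steps.bwd (nat_lit 4) Steps.nil))))) (nat_lit 64) (nat_lit 1),
  Rule.mk (nat_lit 2) (nat_lit 154) (Steps.fwd (nat_lit 1572864) (Steps.bwd (nat_lit 5) (Steps.bwd (nat_lit 2) (Steps.fwd (nat_lit 1572864) (Steps.fwd (nat_lit 1835008) (Steps.bwd (nat_lit 2) (Steps.fwd (nat_lit 1310720) Steps.nil))))))) (nat_lit 82) (nat_lit 3),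
  Rule.mk (nat_lit 4) (nat_lit 154) (Steps.fwd (nat_lit 1835008) (Steps.bwd (nat_lit 2) (Steps.bwd (nat_lit 6) (Steps.bwd (nat_lit 4) (Steps.fwd (nat_lit 1835008) (Steps.fwd (nat_lit 786432) (Steps.bwd (nat_lit 5) Steps.nil))))))) (nat_lit 86) (nat_lit 3),
  Rule.mk (nat_lit 2) (nat_lit 154) (Steps.fwd (nat_lit 1048576) (Steps.fwd (nat_lit 1310720) (Steps.fwd (nat_lit 1835008) (Steps.bwd (nat_lit 2) (Steps.fwd (nat_lit 1048576) (Steps.bwd (nat_lit 6) (Steps.fwd (nat_lit 1835008) Steps.nil))))))) (nat_lit 78) (nat_lit 1),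
  Rule.mk (nat_lit 8) (nat_lit 314) (Steps.fwd (nat_lit 1048576) (Steps.bwd (nat_lit 9) (Steps.bwd (nat_lit 4) (Steps.fwd (nat_lit 2359296) (Steps.fwd (nat_lit 1048576) (Steps.bwd (nat_lit 9) (Steps.bwd (nat_lit 4) (Steps.fwd (nat_lit 2359296) (Steps.fwd (nat_lit 1048576) (Steps.fwd (nat_lit 2097152) (Steps.bwd (nat_lit 4) (Steps.fwd (nat_lit 2359296) (Steps.fwd (nat_lit 1048576) (Steps.fwd (nat_lit 2097152) (Steps.fwd (nat_lit 1048576) Steps.nil))))))))))))))) (nat_lit 106) (nat_lit 1),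
  Rule.mk (nat_lit 8) (nat_lit 314) (Steps.bwd (nat_lit 4) (Steps.bwd (nat_lit 9) (Steps.bwd (nat_lit 4) (Steps.fwd (nat_lit 2359296) (Steps.bwd (nat_lit 4) (Steps.fwd (nat_lit 2097152) (Steps.bwd (nat_lit 4) (Steps.bwd (nat_lit 8) (Steps.fwd (nat_lit 1048576) (Steps.bwd (nat_lit 9) (Steps.bwd (nat_lit 4) (Steps.fwd (nat_lit 2359296) (Steps.fwd (nat_lit 1048576) (Steps.bwd (nat_lit 9) (Steps.fwd (nat_lit 1048576) Steps.nil))))))))))))))) (nat_lit 106) (nat_lit 1),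
  Rule.mk (nat_lit 0) (nat_lit 134) (Steps.bwd (nat_lit 1) (Steps.bwd (nat_lit 2) (Steps.fwd (nat_lit 262144) (Steps.fwd (nat_lit 786432) (Steps.bwd (nat_lit 1) (Steps.bwd (nat_lit 2) Steps.nil)))))) (nat_lit 12) (nat_lit 0),
  Rule.mk (nat_lit 3) (nat_lit 154) (Steps.bwd (nat_lit 1) (Steps.fwd (nat_lit 786432) (Steps.fwd (nat_lit 262144) (Steps.bwd (nat_lit 3) (Steps.bwd (nat_lit 1) (Steps.bwd (nat_lit 2) (Steps.fwd (nat_lit 262144) Steps.nil))))))) (nat_lit 68) (nat_lit 0),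
  Rule.mk (nat_lit 4) (nat_lit 154) (Steps.fwd (nat_lit 262144) (Steps.fwd (nat_lit 1572864) (Steps.bwd (nat_lit 1) (Steps.bwd (nat_lit 4) (Steps.fwd (nat_lit 262144) (Steps.bwd (nat_lit 6) (Steps.bwd (nat_lit 1) Steps.nil))))))) (nat_lit 74) (nat_lit 2),
  Rule.mk (nat_lit 0) (nat_lit 294) (Steps.bwd (nat_lit 6) (Steps.fwd (nat_lit 262144) (Steps.fwd (nat_lit 524288) (Steps.bwd (nat_lit 1) (Steps.bwd (nat_lit 6) (Steps.fwd (nat_lit 262144) (Steps.fwd (nat_lit 524288) (Steps.fwd (nat_lit 262144) (Steps.fwd (nat_lit 1572864) (Steps.bwd (nat_lit 1) (Steps.fwd (nat_lit 524288) (Steps.bwd (nat_lit 5) (Steps.fwd (nat_lit 1572864) (Steps.fwd (nat_lit 262144) Steps.nil)))))))))))))) (nat_lit 35) (nat_lit 3),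
  Rule.mk (nat_lit 1) (nat_lit 274) (Steps.fwd (nat_lit 524288) (Steps.fwd (nat_lit 1310720) (Steps.fwd (nat_lit 1572864) (Steps.bwd (nat_lit 1) (Steps.bwd (nat_lit 6) (Steps.fwd (nat_lit 262144) (Steps.fwd (nat_lit 524288) (Steps.fwd (nat_lit 262144) (Steps.fwd (nat_lit 1572864) (Steps.bwd (nat_lit 1) (Steps.fwd (nat_lit 524288) (Steps.bwd (nat_lit 1) (Steps.bwd (nat_lit 6) Steps.nil))))))))))))) (nat_lit 35) (nat_lit 13),
  Rule.mk (nat_lit 2) (nat_lit 154) (Steps.bwd (nat_lit 1) (Steps.bwd (nat_lit 5) (Steps.bwd (nat_lit 2) (Steps.bwd (nat_lit 1) (Steps.fwd (nat_lit 786432) (Steps.fwd (nat_lit 1310720) (Steps.fwd (nat_lit 262144) Steps.nil))))))) (nat_lit 70) (nat_lit 2),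
  Rule.mk (nat_lit 4) (nat_lit 154) (Steps.fwd (nat_lit 1835008) (Steps.fwd (nat_lit 262144) (Steps.fwd (nat_lit 1048576) (Steps.bwd (nat_lit 1) (Steps.bwd (nat_lit 7) (Steps.bwd (nat_lit 4) (Steps.fwd (nat_lit 262144) Steps.nil))))))) (nat_lit 76) (nat_lit 7)]
noncomputable def R_89 : List (Rule) := [Rule.mk (nat_lit 1) (nat_lit 154) (Steps.fwd (nat_lit 1048576) (Steps.bwd (nat_lit 1) (Steps.fwd (nat_lit 1835008) (Steps.fwd (nat_lit 1048576) (Steps.fwd (nat_lit 262144) (Steps.bwd (nat_lit 4) (Steps.bwd (nat_lit 7) Steps.nil))))))) (nat_lit 76) (nat_lit 1),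
  Rule.mk (nat_lit 1) (nat_lit 154) (Steps.fwd (nat_lit 1310720) (Steps.fwd (nat_lit 524288) (Steps.fwd (nat_lit 262144) (Steps.bwd (nat_lit 3) (Steps.bwd (nat_lit 5) (Steps.bwd (nat_lit 1) (Steps.bwd (nat_lit 3) Steps.nil))))))) (nat_lit 71) (nat_lit 0),
  Rule.mk (nat_lit 1) (nat_lit 274) (Steps.fwd (nat_lit 786432) (Steps.fwd (nat_lit 262144) (Steps.bwd (nat_lit 6) (Steps.fwd (nat_lit 262144) (Steps.bwd (nat_lit 2) (Steps.bwd (nat_lit 1) (Steps.bwd (nat_lit 6) (Steps.bwd (nat_lit 1) (Steps.bwd (nat_lit 6) (Steps.fwd (nat_lit 1310720) (Steps.bwd (nat_lit 2) (Steps.fwd (nat_lit 262144) (Steps.bwd (nat_lit 6) Steps.nil))))))))))))) (nat_lit 34) (nat_lit 4),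
  Rule.mk (nat_lit 3) (nat_lit 274) (Steps.bwd (nat_lit 1) (Steps.bwd (nat_lit 6) (Steps.fwd (nat_lit 262144) (Steps.bwd (nat_lit 3) (Steps.bwd (nat_lit 1) (Steps.bwd (nat_lit 6) (Steps.bwd (nat_lit 1) (Steps.bwd (nat_lit 3) (Steps.fwd (nat_lit 1310720) (Steps.bwd (nat_lit 6) (Steps.fwd (nat_lit 262144) (Steps.bwd (nat_lit 6) (Steps.bwd (nat_lit 1) Steps.nil))))))))))))) (nat_lit 35) (nat_lit 6),
  Rule.mk (nat_lit 4) (nat_lit 114) (Steps.bwd (nat_lit 6) (Steps.fwd (nat_lit 524288) (Steps.fwd (nat_lit 1048576) (Steps.fwd (nat_lit 1310720) (Steps.bwd (nat_lit 3) Steps.nil))))) (nat_lit 59) (nat_lit 1),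
  Rule.mk (nat_lit 3) (nat_lit 154) (Steps.bwd (nat_lit 7) (Steps.bwd (nat_lit 1) (Steps.bwd (nat_lit 3) (Steps.bwd (nat_lit 1) (Steps.fwd (nat_lit 1835008) (Steps.fwd (nat_lit 524288) (Steps.fwd (nat_lit 262144) Steps.nil))))))) (nat_lit 73) (nat_lit 4),
  Rule.mk (nat_lit 4) (nat_lit 154) (Steps.bwd (nat_lit 6) (Steps.fwd (nat_lit 524288) (Steps.bwd (nat_lit 7) (Steps.fwd (nat_lit 1048576) (Steps.fwd (nat_lit 1310720) (Steps.bwd (nat_lit 3) (Steps.fwd (nat_lit 1835008) Steps.nil))))))) (nat_lit 87) (nat_lit 2),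
  Rule.mk (nat_lit 7) (nat_lit 154) (Steps.bwd (nat_lit 4) (Steps.fwd (nat_lit 1572864) (Steps.bwd (nat_lit 3) (Steps.fwd (nat_lit 1835008) (Steps.bwd (nat_lit 4) (Steps.fwd (nat_lit 1310720) (Steps.bwd (nat_lit 3) Steps.nil))))))) (nat_lit 87) (nat_lit 1),
  Rule.mk (nat_lit 4) (nat_lit 154) (Steps.fwd (nat_lit 1835008) (Steps.fwd (nat_lit 1572864) (Steps.bwd (nat_lit 3) (Steps.bwd (nat_lit 4) (Steps.fwd (nat_lit 1835008) (Steps.fwd (nat_lit 1310720) (Steps.bwd (nat_lit 3) Steps.nil))))))) (nat_lit 89) (nat_lit 1),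
  Rule.mk (nat_lit 0) (nat_lit 134) (Steps.fwd (nat_lit 786432) (Steps.bwd (nat_lit 5) (Steps.fwd (nat_lit 1048576) (Steps.fwd (nat_lit 786432) (Steps.bwd (nat_lit 6) (Steps.fwd (nat_lit 1048576) Steps.nil)))))) (nat_lit 58) (nat_lit 0),
  Rule.mk (nat_lit 6) (nat_lit 114) (Steps.fwd (nat_lit 1835008) (Steps.bwd (nat_lit 4) (Steps.fwd (nat_lit 1310720) (Steps.bwd (nat_lit 7) (Steps.fwd (nat_lit 1048576) Steps.nil))))) (nat_lit 66) (nat_lit 5),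
  Rule.mk (nat_lit 0) (nat_lit 174) (Steps.bwd (nat_lit 1) (Steps.fwd (nat_lit 1572864) (Steps.fwd (nat_lit 262144) (Steps.bwd (nat_lit 4) (Steps.bwd (nat_lit 1) (Steps.fwd (nat_lit 1572864) (Steps.bwd (nat_lit 1) (Steps.fwd (nat_lit 1048576) Steps.nil)))))))) (nat_lit 74) (nat_lit 2),
  Rule.mk (nat_lit 4) (nat_lit 154) (Steps.fwd (nat_lit 1835008) (Steps.fwd (nat_lit 262144) (Steps.bwd (nat_lit 4) (Steps.bwd (nat_lit 1) (Steps.fwd (nat_lit 1835008) (Steps.bwd (nat_lit 4) (Steps.fwd (nat_lit 262144) Steps.nil))))))) (nat_lit 76) (nat_lit 7),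
  Rule.mk (nat_lit 3) (nat_lit 154) (Steps.bwd (nat_lit 4) (Steps.fwd (nat_lit 1835008) (Steps.fwd (nat_lit 1572864) (Steps.bwd (nat_lit 3) (Steps.bwd (nat_lit 4) (Steps.fwd (nat_lit 1835008) (Steps.fwd (nat_lit 1310720) Steps.nil))))))) (nat_lit 89) (nat_lit 0),
  Rule.mk (nat_lit 9) (nat_lit 314) (Steps.fwd (nat_lit 1048576) (Steps.bwd (nat_lit 8) (Steps.fwd (nat_lit 1048576) (Steps.bwd (nat_lit 9) (Steps.bwd (nat_lit 4) (Steps.bwd (nat_lit 8) (Steps.bwd (nat_lit 4) (Steps.fwd (nat_lit 2097152) (Steps.fwd (nat_lit 1048576) (Steps.fwd (nat_lit 2359296) (Steps.fwd (nat_lit 1048576) (Steps.bwd (nat_lit 9) (Steps.fwd (nat_lit 1048576) (Steps.fwd (nat_lit 2359296) (Steps.bwd (nat_lit 4) Steps.nil))))))))))))))) (nat_lit 106) (nat_lit 3),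
  Rule.mk (nat_lit 1) (nat_lit 154) (Steps.fwd (nat_lit 1048576) (Steps.bwd (nat_lit 1) (Steps.bwd (nat_lit 7) (Steps.fwd (nat_lit 1048576) (Steps.fwd (nat_lit 262144) (Steps.fwd (nat_lit 1048576) (Steps.bwd (nat_lit 7) Steps.nil))))))) (nat_lit 76) (nat_lit 1),
  Rule.mk (nat_lit 1) (nat_lit 154) (Steps.bwd (nat_lit 5) (Steps.bwd (nat_lit 3) (Steps.bwd (nat_lit 1) (Steps.fwd (nat_lit 524288) (Steps.bwd (nat_lit 5) (Steps.bwd (nat_lit 1) (Steps.fwd (nat_lit 524288) Steps.nil))))))) (nat_lit 71) (nat_lit 0),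
  Rule.mk (nat_lit 3) (nat_lit 154) (Steps.fwd (nat_lit 1835008) (Steps.fwd (nat_lit 262144) (Steps.bwd (nat_lit 3) (Steps.bwd (nat_lit 1) (Steps.fwd (nat_lit 1835008) (Steps.fwd (nat_lit 524288) (Steps.fwd (nat_lit 262144) Steps.nil))))))) (nat_lit 73) (nat_lit 4),
  Rule.mk (nat_lit 3) (nat_lit 154) (Steps.bwd (nat_lit 5) (Steps.bwd (nat_lit 1) (Steps.fwd (nat_lit 524288) (Steps.bwd (nat_lit 1) (Steps.bwd (nat_lit 5) (Steps.fwd (nat_lit 524288) (Steps.fwd (nat_lit 262144) Steps.nil))))))) (nat_lit 71) (nat_lit 4),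
  Rule.mk (nat_lit 3) (nat_lit 154) (Steps.bwd (nat_lit 1) (Steps.bwd (nat_lit 2) (Steps.fwd (nat_lit 262144) (Steps.bwd (nat_lit 3) (Steps.bwd (nat_lit 1) (Steps.fwd (nat_lit 786432) (Steps.fwd (nat_lit 262144) Steps.nil))))))) (nat_lit 68) (nat_lit 0),
  Rule.mk (nat_lit 1) (nat_lit 154) (Steps.bwd (nat_lit 5) (Steps.bwd (nat_lit 3) (Steps.bwd (nat_lit 1) (Steps.bwd (nat_lit 3) (Steps.fwd (nat_lit 1310720) (Steps.bwd (nat_lit 1) (Steps.bwd (nat_lit 3) Steps.nil))))))) (nat_lit 71) (nat_lit 0),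
  Rule.mk (nat_lit 1) (nat_lit 154) (Steps.bwd (nat_lit 4) (Steps.bwd (nat_lit 1) (Steps.fwd (nat_lit 1572864) (Steps.fwd (nat_lit 262144) (Steps.fwd (nat_lit 1048576) (Steps.bwd (nat_lit 1) (Steps.bwd (nat_lit 6) Steps.nil))))))) (nat_lit 74) (nat_lit 1),
  Rule.mk (nat_lit 0) (nat_lit 174) (Steps.fwd (nat_lit 1572864) (Steps.fwd (nat_lit 262144) (Steps.bwd (nat_lit 4) (Steps.bwd (nat_lit 1) (Steps.bwd (nat_lit 6) (Steps.bwd (nat_lit 1) (Steps.fwd (nat_lit 1048576) (Steps.fwd (nat_lit 262144) Steps.nil)))))))) (nat_lit 74) (nat_lit 3),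
  Rule.mk (nat_lit 0) (nat_lit 134) (Steps.bwd (nat_lit 4) (Steps.bwd (nat_lit 5) (Steps.bwd (nat_lit 2) (Steps.bwd (nat_lit 4) (Steps.bwd (nat_lit 6) (Steps.bwd (nat_lit 2) Steps.nil)))))) (nat_lit 54) (nat_lit 1),
  Rule.mk (nat_lit 3) (nat_lit 114) (Steps.bwd (nat_lit 7) (Steps.bwd (nat_lit 6) (Steps.bwd (nat_lit 2) (Steps.bwd (nat_lit 7) (Steps.fwd (nat_lit 1572864) Steps.nil))))) (nat_lit 63) (nat_lit 0),
  Rule.mk (nat_lit 4) (nat_lit 154) (Steps.fwd (nat_lit 1310720) (Steps.fwd (nat_lit 1835008) (Steps.bwd (nat_lit 2) (Steps.bwd (nat_lit 4) (Steps.bwd (nat_lit 6) (Steps.fwd (nat_lit 1835008) (Steps.bwd (nat_lit 2) Steps.nil))))))) (nat_lit 78) (nat_lit 2),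
  Rule.mk (nat_lit 4) (nat_lit 154) (Steps.bwd (nat_lit 3) (Steps.bwd (nat_lit 7) (Steps.bwd (nat_lit 6) (Steps.fwd (nat_lit 1048576) (Steps.fwd (nat_lit 524288) (Steps.bwd (nat_lit 7) (Steps.fwd (nat_lit 1310720) Steps.nil))))))) (nat_lit 79) (nat_lit 7),
  Rule.mk (nat_lit 3) (nat_lit 114) (Steps.bwd (nat_lit 4) (Steps.fwd (nat_lit 1572864) (Steps.fwd (nat_lit 524288) (Steps.bwd (nat_lit 4) (Steps.bwd (nat_lit 5) Steps.nil))))) (nat_lit 59) (nat_lit 0),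
  Rule.mk (nat_lit 1) (nat_lit 154) (Steps.bwd (nat_lit 4) (Steps.fwd (nat_lit 1835008) (Steps.bwd (nat_lit 1) (Steps.bwd (nat_lit 4) (Steps.fwd (nat_lit 262144) (Steps.bwd (nat_lit 7) (Steps.bwd (nat_lit 4) Steps.nil))))))) (nat_lit 76) (nat_lit 6),
  Rule.mk (nat_lit 1) (nat_lit 114) (Steps.fwd (nat_lit 1048576) (Steps.fwd (nat_lit 262144) (Steps.fwd (nat_lit 1048576) (Steps.fwd (nat_lit 262144) (Steps.fwd (nat_lit 1048576) Steps.nil))))) (nat_lit 16) (nat_lit 1),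
  Rule.mk (nat_lit 1) (nat_lit 274) (Steps.bwd (nat_lit 2) (Steps.bwd (nat_lit 1) (Steps.bwd (nat_lit 6) (Steps.bwd (nat_lit 1) (Steps.fwd (nat_lit 1572864) (Steps.fwd (nat_lit 1310720) (Steps.bwd (nat_lit 2) (Steps.bwd (nat_lit 1) (Steps.bwd (nat_lit 6) (Steps.bwd (nat_lit 1) (Steps.fwd (nat_lit 786432) (Steps.bwd (nat_lit 1) (Steps.bwd (nat_lit 6) Steps.nil))))))))))))) (nat_lit 34) (nat_lit 8),
  Rule.mk (nat_lit 1) (nat_lit 274) (Steps.fwd (nat_lit 1572864) (Steps.bwd (nat_lit 1) (Steps.bwd (nat_lit 3) (Steps.fwd (nat_lit 1310720) (Steps.bwd (nat_lit 6) (Steps.bwd (nat_lit 1) (Steps.bwd (nat_lit 6) (Steps.fwd (nat_lit 262144) (Steps.bwd (nat_lit 3) (Steps.fwd (nat_lit 262144) (Steps.fwd (nat_lit 1572864) (Steps.fwd (nat_lit 262144) (Steps.fwd (nat_lit 524288) Steps.nil))))))))))))) (nat_lit 35) (nat_lit 11),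
  Rule.mk (nat_lit 1) (nat_lit 154) (Steps.fwd (nat_lit 1572864) (Steps.bwd (nat_lit 1) (Steps.fwd (nat_lit 1048576) (Steps.fwd (nat_lit 262144) (Steps.bwd (nat_lit 6) (Steps.fwd (nat_lit 262144) (Steps.bwd (nat_lit 4) Steps.nil))))))) (nat_lit 74) (nat_lit 3),
  Rule.mk (nat_lit 1) (nat_lit 154) (Steps.fwd (nat_lit 1048576) (Steps.fwd (nat_lit 262144) (Steps.fwd (nat_lit 1572864) (Steps.fwd (nat_lit 262144) (Steps.fwd (nat_lit 1048576) (Steps.fwd (nat_lit 262144) (Steps.fwd (nat_lit 1572864) Steps.nil))))))) (nat_lit 74) (nat_lit 1),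
  Rule.mk (nat_lit 1) (nat_lit 154) (Steps.fwd (nat_lit 524288) (Steps.fwd (nat_lit 1310720) (Steps.fwd (nat_lit 262144) (Steps.bwd (nat_lit 3) (Steps.bwd (nat_lit 1) (Steps.fwd (nat_lit 1310720) (Steps.bwd (nat_lit 3) Steps.nil))))))) (nat_lit 71) (nat_lit 3),
  Rule.mk (nat_lit 1) (nat_lit 154) (Steps.fwd (nat_lit 1310720) (Steps.bwd (nat_lit 3) (Steps.bwd (nat_lit 1) (Steps.fwd (nat_lit 524288) (Steps.bwd (nat_lit 5) (Steps.bwd (nat_lit 1) (Steps.fwd (nat_lit 524288) Steps.nil))))))) (nat_lit 71) (nat_lit 0),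
  Rule.mk (nat_lit 1) (nat_lit 154) (Steps.fwd (nat_lit 1835008) (Steps.bwd (nat_lit 3) (Steps.bwd (nat_lit 1) (Steps.fwd (nat_lit 524288) (Steps.bwd (nat_lit 7) (Steps.bwd (nat_lit 1) (Steps.bwd (nat_lit 3) Steps.nil))))))) (nat_lit 73) (nat_lit 0),
  Rule.mk (nat_lit 1) (nat_lit 274) (Steps.fwd (nat_lit 1572864) (Steps.fwd (nat_lit 262144) (Steps.bwd (nat_lit 3) (Steps.bwd (nat_lit 1) (Steps.bwd (nat_lit 6) (Steps.fwd (nat_lit 262144) (Steps.fwd (nat_lit 524288) (Steps.fwd (nat_lit 262144) (Steps.fwd (nat_lit 1572864) (Steps.bwd (nat_lit 1) (Steps.fwd (nat_lit 524288) (Steps.bwd (nat_lit 5) (Steps.fwd (nat_lit 1572864) Steps.nil))))))))))))) (nat_lit 35) (nat_lit 3),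
  Rule.mk (nat_lit 1) (nat_lit 274) (Steps.fwd (nat_lit 524288) (Steps.fwd (nat_lit 1310720) (Steps.bwd (nat_lit 6) (Steps.fwd (nat_lit 262144) (Steps.bwd (nat_lit 6) (Steps.fwd (nat_lit 262144) (Steps.bwd (nat_lit 3) (Steps.bwd (nat_lit 1) (Steps.bwd (nat_lit 6) (Steps.fwd (nat_lit 262144) (Steps.bwd (nat_lit 3) (Steps.bwd (nat_lit 1) (Steps.fwd (nat_lit 1572864) Steps.nil))))))))))))) (nat_lit 35) (nat_lit 13),
  Rule.mk (nat_lit 2) (nat_lit 154) (Steps.fwd (nat_lit 262144) (Steps.bwd (nat_lit 2) (Steps.fwd (nat_lit 1310720) (Steps.fwd (nat_lit 262144) (Steps.bwd (nat_lit 2) (Steps.fwd (nat_lit 262144) (Steps.bwd (nat_lit 5) Steps.nil))))))) (nat_lit 70) (nat_lit 5),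
  Rule.mk (nat_lit 2) (nat_lit 154) (Steps.fwd (nat_lit 262144) (Steps.fwd (nat_lit 786432) (Steps.bwd (nat_lit 7) (Steps.fwd (nat_lit 262144) (Steps.bwd (nat_lit 2) (Steps.fwd (nat_lit 262144) (Steps.bwd (nat_lit 7) Steps.nil))))))) (nat_lit 72) (nat_lit 5),
  Rule.mk (nat_lit 3) (nat_lit 274) (Steps.fwd (nat_lit 1310720) (Steps.bwd (nat_lit 6) (Steps.fwd (nat_lit 262144) (Steps.fwd (nat_lit 1572864) (Steps.fwd (nat_lit 262144) (Steps.fwd (nat_lit 524288) (Steps.fwd (nat_lit 262144) (Steps.bwd (nat_lit 6) (Steps.bwd (nat_lit 1) (Steps.bwd (nat_lit 3) (Steps.fwd (nat_lit 262144) (Steps.bwd (nat_lit 6) (Steps.fwd (nat_lit 262144) Steps.nil))))))))))))) (nat_lit 35) (nat_lit 0),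
  Rule.mk (nat_lit 0) (nat_lit 174) (Steps.fwd (nat_lit 1835008) (Steps.fwd (nat_lit 786432) (Steps.bwd (nat_lit 5) (Steps.fwd (nat_lit 786432) (Steps.bwd (nat_lit 6) (Steps.bwd (nat_lit 5) (Steps.bwd (nat_lit 2) (Steps.bwd (nat_lit 6) Steps.nil)))))))) (nat_lit 82) (nat_lit 7),
  Rule.mk (nat_lit 0) (nat_lit 174) (Steps.bwd (nat_lit 4) (Steps.bwd (nat_lit 1) (Steps.fwd (nat_lit 1835008) (Steps.fwd (nat_lit 1048576) (Steps.fwd (nat_lit 262144) (Steps.bwd (nat_lit 4) (Steps.fwd (nat_lit 1835008) (Steps.fwd (nat_lit 262144) Steps.nil)))))))) (nat_lit 76) (nat_lit 1),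
  Rule.mk (nat_lit 3) (nat_lit 114) (Steps.bwd (nat_lit 7) (Steps.fwd (nat_lit 1048576) (Steps.fwd (nat_lit 524288) (Steps.bwd (nat_lit 7) (Steps.fwd (nat_lit 1048576) Steps.nil))))) (nat_lit 57) (nat_lit 0),
  Rule.mk (nat_lit 2) (nat_lit 154) (Steps.bwd (nat_lit 7) (Steps.bwd (nat_lit 1) (Steps.bwd (nat_lit 2) (Steps.fwd (nat_lit 262144) (Steps.fwd (nat_lit 1835008) (Steps.fwd (nat_lit 786432) (Steps.fwd (nat_lit 262144) Steps.nil))))))) (nat_lit 72) (nat_lit 7),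
  Rule.mk (nat_lit 4) (nat_lit 154) (Steps.bwd (nat_lit 2) (Steps.bwd (nat_lit 7) (Steps.fwd (nat_lit 1572864) (Steps.bwd (nat_lit 4) (Steps.bwd (nat_lit 2) (Steps.fwd (nat_lit 1835008) (Steps.fwd (nat_lit 1310720) Steps.nil))))))) (nat_lit 92) (nat_lit 4),
  Rule.mk (nat_lit 8) (nat_lit 314) (Steps.bwd (nat_lit 4) (Steps.bwd (nat_lit 9) (Steps.bwd (nat_lit 4) (Steps.bwd (nat_lit 8) (Steps.bwd (nat_lit 4) (Steps.bwd (nat_lit 9) (Steps.bwd (nat_lit 4) (Steps.fwd (nat_lit 2359296) (Steps.fwd (nat_lit 1048576) (Steps.fwd (nat_lit 2097152) (Steps.fwd (nat_lit 1048576) (Steps.fwd (nat_lit 2359296) (Steps.bwd (nat_lit 4) (Steps.fwd (nat_lit 2097152) (Steps.bwd (nat_lit 4) Steps.nil))))))))))))))) (nat_lit 106) (nat_lit 1),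
  Rule.mk (nat_lit 2) (nat_lit 114) (Steps.bwd (nat_lit 1) (Steps.fwd (nat_lit 524288) (Steps.fwd (nat_lit 2097152) (Steps.fwd (nat_lit 262144) (Steps.bwd (nat_lit 8) Steps.nil))))) (nat_lit 104) (nat_lit 2),
  Rule.mk (nat_lit 3) (nat_lit 114) (Steps.fwd (nat_lit 1835008) (Steps.bwd (nat_lit 5) (Steps.bwd (nat_lit 2) (Steps.bwd (nat_lit 7) (Steps.bwd (nat_lit 5) Steps.nil))))) (nat_lit 61) (nat_lit 0),
  Rule.mk (nat_lit 2) (nat_lit 154) (Steps.bwd (nat_lit 5) (Steps.bwd (nat_lit 2) (Steps.fwd (nat_lit 1835008) (Steps.bwd (nat_lit 6) (Steps.bwd (nat_lit 2) (Steps.fwd (nat_lit 1310720) (Steps.bwd (nat_lit 6) Steps.nil))))))) (nat_lit 84) (nat_lit 1),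
  Rule.mk (nat_lit 2) (nat_lit 154) (Steps.bwd (nat_lit 7) (Steps.fwd (nat_lit 1572864) (Steps.fwd (nat_lit 786432) (Steps.fwd (nat_lit 1310720) (Steps.bwd (nat_lit 6) (Steps.bwd (nat_lit 2) (Steps.fwd (nat_lit 1310720) Steps.nil))))))) (nat_lit 84) (nat_lit 3),
  Rule.mk (nat_lit 3) (nat_lit 114) (Steps.bwd (nat_lit 5) (Steps.fwd (nat_lit 1835008) (Steps.bwd (nat_lit 2) (Steps.bwd (nat_lit 5) (Steps.bwd (nat_lit 7) Steps.nil))))) (nat_lit 60) (nat_lit 4),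
  Rule.mk (nat_lit 1) (nat_lit 274) (Steps.fwd (nat_lit 786432) (Steps.fwd (nat_lit 262144) (Steps.fwd (nat_lit 1572864) (Steps.fwd (nat_lit 262144) (Steps.bwd (nat_lit 2) (Steps.bwd (nat_lit 1) (Steps.bwd (nat_lit 6) (Steps.bwd (nat_lit 1) (Steps.bwd (nat_lit 6) (Steps.fwd (nat_lit 1310720) (Steps.fwd (nat_lit 786432) (Steps.fwd (nat_lit 262144) (Steps.fwd (nat_lit 1572864) Steps.nil))))))))))))) (nat_lit 34) (nat_lit 4),
  Rule.mk (nat_lit 4) (nat_lit 154) (Steps.bwd (nat_lit 1) (Steps.bwd (nat_lit 6) (Steps.fwd (nat_lit 262144) (Steps.fwd (nat_lit 1048576) (Steps.fwd (nat_lit 262144) (Steps.fwd (nat_lit 1572864) (Steps.bwd (nat_lit 1) Steps.nil))))))) (nat_lit 74) (nat_lit 2),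
  Rule.mk (nat_lit 4) (nat_lit 154) (Steps.fwd (nat_lit 1835008) (Steps.fwd (nat_lit 262144) (Steps.fwd (nat_lit 1048576) (Steps.bwd (nat_lit 1) (Steps.fwd (nat_lit 1835008) (Steps.bwd (nat_lit 4) (Steps.bwd (nat_lit 1) Steps.nil))))))) (nat_lit 76) (nat_lit 7),
  Rule.mk (nat_lit 4) (nat_lit 154) (Steps.fwd (nat_lit 262144) (Steps.fwd (nat_lit 1048576) (Steps.fwd (nat_lit 1835008) (Steps.bwd (nat_lit 1) (Steps.bwd (nat_lit 4) (Steps.bwd (nat_lit 1) (Steps.bwd (nat_lit 7) Steps.nil))))))) (nat_lit 76) (nat_lit 5),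
  Rule.mk (nat_lit 4) (nat_lit 154) (Steps.fwd (nat_lit 1835008) (Steps.bwd (nat_lit 1) (Steps.bwd (nat_lit 4) (Steps.fwd (nat_lit 262144) (Steps.fwd (nat_lit 1835008) (Steps.fwd (nat_lit 1048576) (Steps.bwd (nat_lit 1) Steps.nil))))))) (nat_lit 76) (nat_lit 7),
  Rule.mk (nat_lit 4) (nat_lit 154) (Steps.fwd (nat_lit 262144) (Steps.bwd (nat_lit 6) (Steps.bwd (nat_lit 1) (Steps.bwd (nat_lit 4) (Steps.bwd (nat_lit 1) (Steps.fwd (nat_lit 1572864) (Steps.bwd (nat_lit 1) Steps.nil))))))) (nat_lit 74) (nat_lit 2),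
  Rule.mk (nat_lit 1) (nat_lit 154) (Steps.bwd (nat_lit 6) (Steps.bwd (nat_lit 1) (Steps.fwd (nat_lit 1048576) (Steps.bwd (nat_lit 1) (Steps.bwd (nat_lit 6) (Steps.fwd (nat_lit 262144) (Steps.fwd (nat_lit 1048576) Steps.nil))))))) (nat_lit 74) (nat_lit 3),
  Rule.mk (nat_lit 3) (nat_lit 114) (Steps.bwd (nat_lit 5) (Steps.bwd (nat_lit 4) (Steps.bwd (nat_lit 3) (Steps.fwd (nat_lit 1572864) (Steps.bwd (nat_lit 4) Steps.nil))))) (nat_lit 55) (nat_lit 3),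
  Rule.mk (nat_lit 3) (nat_lit 114) (Steps.bwd (nat_lit 7) (Steps.bwd (nat_lit 4) (Steps.bwd (nat_lit 3) (Steps.fwd (nat_lit 1835008) (Steps.bwd (nat_lit 4) Steps.nil))))) (nat_lit 57) (nat_lit 0),
  Rule.mk (nat_lit 1) (nat_lit 154) (Steps.bwd (nat_lit 7) (Steps.bwd (nat_lit 4) (Steps.bwd (nat_lit 1) (Steps.bwd (nat_lit 4) (Steps.bwd (nat_lit 7) (Steps.bwd (nat_lit 1) (Steps.bwd (nat_lit 4) Steps.nil))))))) (nat_lit 76) (nat_lit 3),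
  Rule.mk (nat_lit 4) (nat_lit 314) (Steps.bwd (nat_lit 8) (Steps.bwd (nat_lit 4) (Steps.fwd (nat_lit 2097152) (Steps.bwd (nat_lit 4) (Steps.fwd (nat_lit 2359296) (Steps.fwd (nat_lit 1048576) (Steps.bwd (nat_lit 9) (Steps.bwd (nat_lit 4) (Steps.bwd (nat_lit 8) (Steps.bwd (nat_lit 4) (Steps.fwd (nat_lit 2097152) (Steps.fwd (nat_lit 1048576) (Steps.fwd (nat_lit 2359296) (Steps.fwd (nat_lit 1048576) (Steps.fwd (nat_lit 2097152) Steps.nil))))))))))))))) (nat_lit 106) (nat_lit 0)]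
noncomputable def R_90 : List (Rule) := [Rule.mk (nat_lit 4) (nat_lit 314) (Steps.fwd (nat_lit 2359296) (Steps.fwd (nat_lit 1048576) (Steps.fwd (nat_lit 2097152) (Steps.fwd (nat_lit 1048576) (Steps.fwd (nat_lit 2359296) (Steps.bwd (nat_lit 4) (Steps.bwd (nat_lit 9) (Steps.fwd (nat_lit 1048576) (Steps.fwd (nat_lit 2359296) (Steps.fwd (nat_lit 1048576) (Steps.bwd (nat_lit 9) (Steps.bwd (nat_lit 4) (Steps.bwd (nat_lit 8) (Steps.bwd (nat_lit 4) (Steps.bwd (nat_lit 9) Steps.nil))))))))))))))) (nat_lit 106) (nat_lit 0),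
  Rule.mk (nat_lit 6) (nat_lit 274) (Steps.bwd (nat_lit 1) (Steps.fwd (nat_lit 786432) (Steps.bwd (nat_lit 1) (Steps.bwd (nat_lit 6) (Steps.bwd (nat_lit 1) (Steps.fwd (nat_lit 1572864) (Steps.bwd (nat_lit 5) (Steps.fwd (nat_lit 786432) (Steps.bwd (nat_lit 1) (Steps.bwd (nat_lit 6) (Steps.bwd (nat_lit 1) (Steps.fwd (nat_lit 786432) (Steps.fwd (nat_lit 262144) Steps.nil))))))))))))) (nat_lit 34) (nat_lit 7),
  Rule.mk (nat_lit 2) (nat_lit 114) (Steps.bwd (nat_lit 6) (Steps.bwd (nat_lit 7) (Steps.bwd (nat_lit 3) (Steps.bwd (nat_lit 6) (Steps.bwd (nat_lit 7) Steps.nil))))) (nat_lit 62) (nat_lit 1),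
  Rule.mk (nat_lit 4) (nat_lit 154) (Steps.bwd (nat_lit 2) (Steps.bwd (nat_lit 6) (Steps.bwd (nat_lit 7) (Steps.bwd (nat_lit 4) (Steps.bwd (nat_lit 2) (Steps.bwd (nat_lit 5) (Steps.fwd (nat_lit 1835008) Steps.nil))))))) (nat_lit 88) (nat_lit 4),
  Rule.mk (nat_lit 6) (nat_lit 74) (Steps.fwd (nat_lit 786432) (Steps.fwd (nat_lit 1572864) (Steps.fwd (nat_lit 524288) Steps.nil))) (nat_lit 40) (nat_lit 0),
  Rule.mk (nat_lit 3) (nat_lit 154) (Steps.fwd (nat_lit 1310720) (Steps.bwd (nat_lit 3) (Steps.fwd (nat_lit 1835008) (Steps.bwd (nat_lit 6) (Steps.bwd (nat_lit 3) (Steps.fwd (nat_lit 1310720) (Steps.bwd (nat_lit 6) Steps.nil))))))) (nat_lit 83) (nat_lit 6),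
  Rule.mk (nat_lit 9) (nat_lit 314) (Steps.fwd (nat_lit 1048576) (Steps.bwd (nat_lit 8) (Steps.fwd (nat_lit 1048576) (Steps.bwd (nat_lit 9) (Steps.fwd (nat_lit 1048576) (Steps.bwd (nat_lit 8) (Steps.bwd (nat_lit 4) (Steps.bwd (nat_lit 9) (Steps.bwd (nat_lit 4) (Steps.bwd (nat_lit 8) (Steps.bwd (nat_lit 4) (Steps.bwd (nat_lit 9) (Steps.fwd (nat_lit 1048576) (Steps.bwd (nat_lit 8) (Steps.bwd (nat_lit 4) Steps.nil))))))))))))))) (nat_lit 106) (nat_lit 3),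
  Rule.mk (nat_lit 0) (nat_lit 334) (Steps.fwd (nat_lit 2097152) (Steps.bwd (nat_lit 4) (Steps.bwd (nat_lit 8) (Steps.bwd (nat_lit 4) (Steps.bwd (nat_lit 9) (Steps.fwd (nat_lit 1048576) (Steps.fwd (nat_lit 2359296) (Steps.fwd (nat_lit 1048576) (Steps.bwd (nat_lit 9) (Steps.fwd (nat_lit 1048576) (Steps.fwd (nat_lit 2359296) (Steps.bwd (nat_lit 4) (Steps.bwd (nat_lit 9) (Steps.bwd (nat_lit 4) (Steps.fwd (nat_lit 2359296) (Steps.fwd (nat_lit 1048576) Steps.nil)))))))))))))))) (nat_lit 106) (nat_lit 2),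
  Rule.mk (nat_lit 1) (nat_lit 154) (Steps.bwd (nat_lit 2) (Steps.fwd (nat_lit 1835008) (Steps.bwd (nat_lit 1) (Steps.bwd (nat_lit 2) (Steps.fwd (nat_lit 262144) (Steps.bwd (nat_lit 7) (Steps.fwd (nat_lit 786432) Steps.nil))))))) (nat_lit 72) (nat_lit 6),
  Rule.mk (nat_lit 1) (nat_lit 154) (Steps.bwd (nat_lit 3) (Steps.bwd (nat_lit 7) (Steps.bwd (nat_lit 1) (Steps.fwd (nat_lit 524288) (Steps.fwd (nat_lit 262144) (Steps.bwd (nat_lit 7) (Steps.bwd (nat_lit 3) Steps.nil))))))) (nat_lit 73) (nat_lit 3),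
  Rule.mk (nat_lit 0) (nat_lit 174) (Steps.bwd (nat_lit 1) (Steps.bwd (nat_lit 4) (Steps.bwd (nat_lit 1) (Steps.fwd (nat_lit 1835008) (Steps.bwd (nat_lit 4) (Steps.bwd (nat_lit 1) (Steps.fwd (nat_lit 1048576) (Steps.bwd (nat_lit 7) Steps.nil)))))))) (nat_lit 76) (nat_lit 0),
  Rule.mk (nat_lit 6) (nat_lit 154) (Steps.bwd (nat_lit 4) (Steps.bwd (nat_lit 7) (Steps.fwd (nat_lit 786432) (Steps.bwd (nat_lit 5) (Steps.fwd (nat_lit 1048576) (Steps.bwd (nat_lit 7) (Steps.fwd (nat_lit 786432) Steps.nil))))))) (nat_lit 86) (nat_lit 6),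
  Rule.mk (nat_lit 1) (nat_lit 154) (Steps.fwd (nat_lit 1048576) (Steps.bwd (nat_lit 1) (Steps.bwd (nat_lit 6) (Steps.fwd (nat_lit 262144) (Steps.fwd (nat_lit 1048576) (Steps.fwd (nat_lit 262144) (Steps.bwd (nat_lit 6) Steps.nil))))))) (nat_lit 74) (nat_lit 1),
  Rule.mk (nat_lit 0) (nat_lit 134) (Steps.bwd (nat_lit 1) (Steps.bwd (nat_lit 3) (Steps.fwd (nat_lit 262144) (Steps.fwd (nat_lit 524288) (Steps.fwd (nat_lit 262144) (Steps.bwd (nat_lit 3) Steps.nil)))))) (nat_lit 13) (nat_lit 1),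
  Rule.mk (nat_lit 1) (nat_lit 154) (Steps.bwd (nat_lit 5) (Steps.fwd (nat_lit 524288) (Steps.bwd (nat_lit 1) (Steps.bwd (nat_lit 3) (Steps.bwd (nat_lit 5) (Steps.bwd (nat_lit 1) (Steps.bwd (nat_lit 3) Steps.nil))))))) (nat_lit 71) (nat_lit 0),
  Rule.mk (nat_lit 0) (nat_lit 174) (Steps.fwd (nat_lit 1310720) (Steps.fwd (nat_lit 524288) (Steps.fwd (nat_lit 262144) (Steps.bwd (nat_lit 3) (Steps.fwd (nat_lit 1310720) (Steps.fwd (nat_lit 262144) (Steps.fwd (nat_lit 524288) (Steps.fwd (nat_lit 262144) Steps.nil)))))))) (nat_lit 71) (nat_lit 0),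
  Rule.mk (nat_lit 1) (nat_lit 154) (Steps.bwd (nat_lit 3) (Steps.fwd (nat_lit 1310720) (Steps.fwd (nat_lit 262144) (Steps.fwd (nat_lit 524288) (Steps.bwd (nat_lit 1) (Steps.bwd (nat_lit 5) (Steps.fwd (nat_lit 524288) Steps.nil))))))) (nat_lit 71) (nat_lit 3),
  Rule.mk (nat_lit 2) (nat_lit 274) (Steps.fwd (nat_lit 262144) (Steps.fwd (nat_lit 1572864) (Steps.bwd (nat_lit 1) (Steps.fwd (nat_lit 786432) (Steps.bwd (nat_lit 1) (Steps.bwd (nat_lit 6) (Steps.fwd (nat_lit 262144) (Steps.bwd (nat_lit 6) (Steps.bwd (nat_lit 5) (Steps.fwd (nat_lit 786432) (Steps.bwd (nat_lit 1) (Steps.bwd (nat_lit 6) (Steps.fwd (nat_lit 262144) Steps.nil))))))))))))) (nat_lit 34) (nat_lit 5),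
  Rule.mk (nat_lit 5) (nat_lit 274) (Steps.bwd (nat_lit 2) (Steps.fwd (nat_lit 262144) (Steps.fwd (nat_lit 1572864) (Steps.bwd (nat_lit 1) (Steps.fwd (nat_lit 786432) (Steps.bwd (nat_lit 1) (Steps.bwd (nat_lit 6) (Steps.fwd (nat_lit 262144) (Steps.bwd (nat_lit 2) (Steps.bwd (nat_lit 1) (Steps.bwd (nat_lit 6) (Steps.fwd (nat_lit 262144) (Steps.bwd (nat_lit 6) Steps.nil))))))))))))) (nat_lit 34) (nat_lit 0),
  Rule.mk (nat_lit 0) (nat_lit 294) (Steps.bwd (nat_lit 1) (Steps.fwd (nat_lit 786432) (Steps.bwd (nat_lit 1) (Steps.fwd (nat_lit 1572864) (Steps.fwd (nat_lit 262144) (Steps.fwd (nat_lit 1572864) (Steps.bwd (nat_lit 5) (Steps.fwd (nat_lit 786432) (Steps.bwd (nat_lit 1) (Steps.bwd (nat_lit 6) (Steps.bwd (nat_lit 1) (Steps.bwd (nat_lit 2) (Steps.fwd (nat_lit 262144) (Steps.fwd (nat_lit 1572864) Steps.nil)))))))))))))) (nat_lit 34) (nat_lit 7),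
  Rule.mk (nat_lit 3) (nat_lit 154) (Steps.bwd (nat_lit 1) (Steps.fwd (nat_lit 786432) (Steps.bwd (nat_lit 1) (Steps.bwd (nat_lit 3) (Steps.fwd (nat_lit 262144) (Steps.bwd (nat_lit 2) (Steps.fwd (nat_lit 262144) Steps.nil))))))) (nat_lit 68) (nat_lit 0),
  Rule.mk (nat_lit 1) (nat_lit 274) (Steps.bwd (nat_lit 6) (Steps.bwd (nat_lit 1) (Steps.bwd (nat_lit 3) (Steps.bwd (nat_lit 1) (Steps.bwd (nat_lit 6) (Steps.fwd (nat_lit 262144) (Steps.bwd (nat_lit 3) (Steps.bwd (nat_lit 1) (Steps.bwd (nat_lit 6) (Steps.bwd (nat_lit 1) (Steps.fwd (nat_lit 524288) (Steps.bwd (nat_lit 5) (Steps.fwd (nat_lit 1572864) Steps.nil))))))))))))) (nat_lit 35) (nat_lit 3),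
  Rule.mk (nat_lit 0) (nat_lit 134) (Steps.bwd (nat_lit 4) (Steps.fwd (nat_lit 1572864) (Steps.fwd (nat_lit 786432) (Steps.bwd (nat_lit 4) (Steps.fwd (nat_lit 1310720) (Steps.bwd (nat_lit 2) Steps.nil)))))) (nat_lit 54) (nat_lit 4),
  Rule.mk (nat_lit 4) (nat_lit 154) (Steps.fwd (nat_lit 262144) (Steps.fwd (nat_lit 1572864) (Steps.bwd (nat_lit 1) (Steps.bwd (nat_lit 4) (Steps.bwd (nat_lit 1) (Steps.bwd (nat_lit 6) (Steps.fwd (nat_lit 262144) Steps.nil))))))) (nat_lit 74) (nat_lit 2),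
  Rule.mk (nat_lit 7) (nat_lit 114) (Steps.bwd (nat_lit 4) (Steps.fwd (nat_lit 524288) (Steps.bwd (nat_lit 7) (Steps.fwd (nat_lit 1048576) (Steps.fwd (nat_lit 524288) Steps.nil))))) (nat_lit 57) (nat_lit 1),
  Rule.mk (nat_lit 4) (nat_lit 74) (Steps.fwd (nat_lit 1835008) (Steps.fwd (nat_lit 1048576) (Steps.fwd (nat_lit 1835008) Steps.nil))) (nat_lit 30) (nat_lit 0),
  Rule.mk (nat_lit 4) (nat_lit 314) (Steps.fwd (nat_lit 2359296) (Steps.fwd (nat_lit 1048576) (Steps.bwd (nat_lit 9) (Steps.bwd (nat_lit 4) (Steps.bwd (nat_lit 8) (Steps.bwd (nat_lit 4) (Steps.bwd (nat_lit 9) (Steps.fwd (nat_lit 1048576) (Steps.bwd (nat_lit 8) (Steps.fwd (nat_lit 1048576) (Steps.fwd (nat_lit 2097152) (Steps.bwd (nat_lit 4) (Steps.bwd (nat_lit 8) (Steps.fwd (nat_lit 1048576) (Steps.bwd (nat_lit 9) Steps.nil))))))))))))))) (nat_lit 106) (nat_lit 0),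
  Rule.mk (nat_lit 1) (nat_lit 154) (Steps.bwd (nat_lit 4) (Steps.fwd (nat_lit 262144) (Steps.bwd (nat_lit 7) (Steps.bwd (nat_lit 4) (Steps.bwd (nat_lit 1) (Steps.bwd (nat_lit 4) (Steps.bwd (nat_lit 7) Steps.nil))))))) (nat_lit 76) (nat_lit 1),
  Rule.mk (nat_lit 1) (nat_lit 154) (Steps.bwd (nat_lit 7) (Steps.fwd (nat_lit 1048576) (Steps.bwd (nat_lit 1) (Steps.fwd (nat_lit 1048576) (Steps.fwd (nat_lit 1835008) (Steps.fwd (nat_lit 262144) (Steps.fwd (nat_lit 1048576) Steps.nil))))))) (nat_lit 76) (nat_lit 3),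
  Rule.mk (nat_lit 2) (nat_lit 154) (Steps.bwd (nat_lit 1) (Steps.bwd (nat_lit 3) (Steps.fwd (nat_lit 262144) (Steps.bwd (nat_lit 2) (Steps.bwd (nat_lit 1) (Steps.fwd (nat_lit 524288) (Steps.fwd (nat_lit 262144) Steps.nil))))))) (nat_lit 68) (nat_lit 2),
  Rule.mk (nat_lit 0) (nat_lit 174) (Steps.bwd (nat_lit 4) (Steps.bwd (nat_lit 5) (Steps.bwd (nat_lit 3) (Steps.bwd (nat_lit 7) (Steps.fwd (nat_lit 1048576) (Steps.bwd (nat_lit 6) (Steps.bwd (nat_lit 3) (Steps.bwd (nat_lit 7) Steps.nil)))))))) (nat_lit 87) (nat_lit 5),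
  Rule.mk (nat_lit 3) (nat_lit 114) (Steps.bwd (nat_lit 4) (Steps.fwd (nat_lit 1835008) (Steps.fwd (nat_lit 524288) (Steps.bwd (nat_lit 4) (Steps.fwd (nat_lit 1835008) Steps.nil))))) (nat_lit 65) (nat_lit 0),
  Rule.mk (nat_lit 0) (nat_lit 174) (Steps.fwd (nat_lit 1048576) (Steps.bwd (nat_lit 1) (Steps.bwd (nat_lit 6) (Steps.fwd (nat_lit 262144) (Steps.fwd (nat_lit 1048576) (Steps.bwd (nat_lit 1) (Steps.fwd (nat_lit 1572864) (Steps.fwd (nat_lit 262144) Steps.nil)))))))) (nat_lit 74) (nat_lit 1),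
  Rule.mk (nat_lit 0) (nat_lit 174) (Steps.bwd (nat_lit 4) (Steps.fwd (nat_lit 262144) (Steps.bwd (nat_lit 6) (Steps.bwd (nat_lit 1) (Steps.fwd (nat_lit 1048576) (Steps.fwd (nat_lit 262144) (Steps.bwd (nat_lit 6) (Steps.fwd (nat_lit 262144) Steps.nil)))))))) (nat_lit 74) (nat_lit 1),
  Rule.mk (nat_lit 4) (nat_lit 314) (Steps.fwd (nat_lit 2097152) (Steps.bwd (nat_lit 4) (Steps.fwd (nat_lit 2359296) (Steps.bwd (nat_lit 4) (Steps.fwd (nat_lit 2097152) (Steps.fwd (nat_lit 1048576) (Steps.fwd (nat_lit 2359296) (Steps.fwd (nat_lit 1048576) (Steps.bwd (nat_lit 9) (Steps.bwd (nat_lit 4) (Steps.fwd (nat_lit 2359296) (Steps.fwd (nat_lit 1048576) (Steps.fwd (nat_lit 2097152) (Steps.bwd (nat_lit 4) (Steps.fwd (nat_lit 2359296) Steps.nil))))))))))))))) (nat_lit 106) (nat_lit 2),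
  Rule.mk (nat_lit 4) (nat_lit 314) (Steps.fwd (nat_lit 2359296) (Steps.bwd (nat_lit 4) (Steps.bwd (nat_lit 9) (Steps.bwd (nat_lit 4) (Steps.bwd (nat_lit 8) (Steps.bwd (nat_lit 4) (Steps.bwd (nat_lit 9) (Steps.fwd (nat_lit 1048576) (Steps.fwd (nat_lit 2359296) (Steps.fwd (nat_lit 1048576) (Steps.fwd (nat_lit 2097152) (Steps.fwd (nat_lit 1048576) (Steps.fwd (nat_lit 2359296) (Steps.bwd (nat_lit 4) (Steps.fwd (nat_lit 2097152) Steps.nil))))))))))))))) (nat_lit 106) (nat_lit 0),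
  Rule.mk (nat_lit 4) (nat_lit 314) (Steps.bwd (nat_lit 9) (Steps.bwd (nat_lit 4) (Steps.bwd (nat_lit 8) (Steps.bwd (nat_lit 4) (Steps.bwd (nat_lit 9) (Steps.bwd (nat_lit 4) (Steps.bwd (nat_lit 8) (Steps.bwd (nat_lit 4) (Steps.bwd (nat_lit 9) (Steps.fwd (nat_lit 1048576) (Steps.fwd (nat_lit 2359296) (Steps.fwd (nat_lit 1048576) (Steps.fwd (nat_lit 2097152) (Steps.bwd (nat_lit 4) (Steps.fwd (nat_lit 2359296) Steps.nil))))))))))))))) (nat_lit 106) (nat_lit 2),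
  Rule.mk (nat_lit 4) (nat_lit 154) (Steps.bwd (nat_lit 1) (Steps.bwd (nat_lit 7) (Steps.bwd (nat_lit 4) (Steps.bwd (nat_lit 1) (Steps.fwd (nat_lit 1048576) (Steps.bwd (nat_lit 7) (Steps.bwd (nat_lit 1) Steps.nil))))))) (nat_lit 76) (nat_lit 2),
  Rule.mk (nat_lit 1) (nat_lit 154) (Steps.bwd (nat_lit 7) (Steps.fwd (nat_lit 1048576) (Steps.fwd (nat_lit 262144) (Steps.bwd (nat_lit 4) (Steps.fwd (nat_lit 1835008) (Steps.fwd (nat_lit 262144) (Steps.bwd (nat_lit 4) Steps.nil))))))) (nat_lit 76) (nat_lit 3),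
  Rule.mk (nat_lit 1) (nat_lit 154) (Steps.fwd (nat_lit 1572864) (Steps.fwd (nat_lit 262144) (Steps.bwd (nat_lit 4) (Steps.bwd (nat_lit 1) (Steps.fwd (nat_lit 1572864) (Steps.fwd (nat_lit 262144) (Steps.fwd (nat_lit 1048576) Steps.nil))))))) (nat_lit 74) (nat_lit 3),
  Rule.mk (nat_lit 1) (nat_lit 274) (Steps.bwd (nat_lit 3) (Steps.fwd (nat_lit 1310720) (Steps.bwd (nat_lit 6) (Steps.bwd (nat_lit 1) (Steps.fwd (nat_lit 1572864) (Steps.fwd (nat_lit 262144) (Steps.bwd (nat_lit 3) (Steps.bwd (nat_lit 1) (Steps.bwd (nat_lit 6) (Steps.fwd (nat_lit 262144) (Steps.fwd (nat_lit 524288) (Steps.bwd (nat_lit 1) (Steps.fwd (nat_lit 1572864) Steps.nil))))))))))))) (nat_lit 35) (nat_lit 13),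
  Rule.mk (nat_lit 2) (nat_lit 154) (Steps.fwd (nat_lit 1310720) (Steps.fwd (nat_lit 262144) (Steps.fwd (nat_lit 786432) (Steps.bwd (nat_lit 1) (Steps.fwd (nat_lit 1310720) (Steps.bwd (nat_lit 2) (Steps.bwd (nat_lit 1) Steps.nil))))))) (nat_lit 70) (nat_lit 7),
  Rule.mk (nat_lit 1) (nat_lit 154) (Steps.fwd (nat_lit 1310720) (Steps.fwd (nat_lit 786432) (Steps.bwd (nat_lit 1) (Steps.bwd (nat_lit 2) (Steps.fwd (nat_lit 1310720) (Steps.bwd (nat_lit 1) (Steps.bwd (nat_lit 2) Steps.nil))))))) (nat_lit 70) (nat_lit 3),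
  Rule.mk (nat_lit 4) (nat_lit 314) (Steps.bwd (nat_lit 9) (Steps.bwd (nat_lit 4) (Steps.bwd (nat_lit 8) (Steps.bwd (nat_lit 4) (Steps.bwd (nat_lit 9) (Steps.fwd (nat_lit 1048576) (Steps.bwd (nat_lit 8) (Steps.bwd (nat_lit 4) (Steps.fwd (nat_lit 2097152) (Steps.bwd (nat_lit 4) (Steps.fwd (nat_lit 2359296) (Steps.fwd (nat_lit 1048576) (Steps.bwd (nat_lit 9) (Steps.fwd (nat_lit 1048576) (Steps.fwd (nat_lit 2359296) Steps.nil))))))))))))))) (nat_lit 106) (nat_lit 2),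
  Rule.mk (nat_lit 5) (nat_lit 114) (Steps.fwd (nat_lit 524288) (Steps.bwd (nat_lit 4) (Steps.bwd (nat_lit 6) (Steps.bwd (nat_lit 3) (Steps.bwd (nat_lit 4) Steps.nil))))) (nat_lit 59) (nat_lit 5),
  Rule.mk (nat_lit 4) (nat_lit 114) (Steps.bwd (nat_lit 2) (Steps.bwd (nat_lit 7) (Steps.bwd (nat_lit 4) (Steps.fwd (nat_lit 786432) (Steps.bwd (nat_lit 7) Steps.nil))))) (nat_lit 64) (nat_lit 0),
  Rule.mk (nat_lit 7) (nat_lit 154) (Steps.bwd (nat_lit 2) (Steps.bwd (nat_lit 4) (Steps.bwd (nat_lit 6) (Steps.bwd (nat_lit 7) (Steps.bwd (nat_lit 2) (Steps.bwd (nat_lit 4) (Steps.fwd (nat_lit 1310720) Steps.nil))))))) (nat_lit 78) (nat_lit 4),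
  Rule.mk (nat_lit 2) (nat_lit 154) (Steps.fwd (nat_lit 1835008) (Steps.fwd (nat_lit 1048576) (Steps.fwd (nat_lit 1572864) (Steps.bwd (nat_lit 2) (Steps.bwd (nat_lit 7) (Steps.bwd (nat_lit 4) (Steps.fwd (nat_lit 1310720) Steps.nil))))))) (nat_lit 90) (nat_lit 5),
  Rule.mk (nat_lit 6) (nat_lit 114) (Steps.fwd (nat_lit 1048576) (Steps.fwd (nat_lit 524288) (Steps.bwd (nat_lit 5) (Steps.fwd (nat_lit 1048576) (Steps.fwd (nat_lit 524288) Steps.nil))))) (nat_lit 55) (nat_lit 1),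
  Rule.mk (nat_lit 1) (nat_lit 114) (Steps.fwd (nat_lit 786432) (Steps.bwd (nat_lit 1) (Steps.bwd (nat_lit 2) (Steps.bwd (nat_lit 1) (Steps.fwd (nat_lit 786432) Steps.nil))))) (nat_lit 12) (nat_lit 1),
  Rule.mk (nat_lit 0) (nat_lit 134) (Steps.bwd (nat_lit 1) (Steps.bwd (nat_lit 2) (Steps.bwd (nat_lit 1) (Steps.fwd (nat_lit 786432) (Steps.fwd (nat_lit 262144) (Steps.bwd (nat_lit 2) Steps.nil)))))) (nat_lit 12) (nat_lit 0),
  Rule.mk (nat_lit 1) (nat_lit 154) (Steps.fwd (nat_lit 1048576) (Steps.bwd (nat_lit 1) (Steps.fwd (nat_lit 1572864) (Steps.bwd (nat_lit 1) (Steps.bwd (nat_lit 4) (Steps.fwd (nat_lit 262144) (Steps.bwd (nat_lit 6) Steps.nil))))))) (nat_lit 74) (nat_lit 1),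
  Rule.mk (nat_lit 0) (nat_lit 294) (Steps.fwd (nat_lit 1572864) (Steps.bwd (nat_lit 1) (Steps.bwd (nat_lit 2) (Steps.bwd (nat_lit 1) (Steps.fwd (nat_lit 1572864) (Steps.fwd (nat_lit 262144) (Steps.fwd (nat_lit 786432) (Steps.bwd (nat_lit 1) (Steps.fwd (nat_lit 1572864) (Steps.fwd (nat_lit 262144) (Steps.bwd (nat_lit 6) (Steps.bwd (nat_lit 5) (Steps.fwd (nat_lit 786432) (Steps.fwd (nat_lit 262144) Steps.nil)))))))))))))) (nat_lit 34) (nat_lit 2),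
  Rule.mk (nat_lit 1) (nat_lit 274) (Steps.fwd (nat_lit 524288) (Steps.bwd (nat_lit 5) (Steps.fwd (nat_lit 1572864) (Steps.bwd (nat_lit 1) (Steps.fwd (nat_lit 1572864) (Steps.bwd (nat_lit 1) (Steps.fwd (nat_lit 524288) (Steps.bwd (nat_lit 1) (Steps.fwd (nat_lit 1572864) (Steps.fwd (nat_lit 262144) (Steps.fwd (nat_lit 524288) (Steps.fwd (nat_lit 262144) (Steps.bwd (nat_lit 6) Steps.nil))))))))))))) (nat_lit 35) (nat_lit 13),
  Rule.mk (nat_lit 1) (nat_lit 154) (Steps.fwd (nat_lit 1572864) (Steps.fwd (nat_lit 262144) (Steps.bwd (nat_lit 4) (Steps.fwd (nat_lit 262144) (Steps.bwd (nat_lit 6) (Steps.bwd (nat_lit 1) (Steps.fwd (nat_lit 1048576) Steps.nil))))))) (nat_lit 74) (nat_lit 3),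
  Rule.mk (nat_lit 1) (nat_lit 154) (Steps.bwd (nat_lit 3) (Steps.bwd (nat_lit 1) (Steps.bwd (nat_lit 5) (Steps.fwd (nat_lit 524288) (Steps.bwd (nat_lit 1) (Steps.bwd (nat_lit 3) (Steps.fwd (nat_lit 1310720) Steps.nil))))))) (nat_lit 71) (nat_lit 6),
  Rule.mk (nat_lit 5) (nat_lit 154) (Steps.bwd (nat_lit 1) (Steps.bwd (nat_lit 3) (Steps.bwd (nat_lit 1) (Steps.bwd (nat_lit 5) (Steps.bwd (nat_lit 3) (Steps.bwd (nat_lit 1) (Steps.bwd (nat_lit 3) Steps.nil))))))) (nat_lit 71) (nat_lit 5),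
  Rule.mk (nat_lit 1) (nat_lit 154) (Steps.fwd (nat_lit 1048576) (Steps.bwd (nat_lit 7) (Steps.bwd (nat_lit 1) (Steps.fwd (nat_lit 1048576) (Steps.bwd (nat_lit 1) (Steps.fwd (nat_lit 1835008) (Steps.fwd (nat_lit 1048576) Steps.nil))))))) (nat_lit 76) (nat_lit 6),
  Rule.mk (nat_lit 6) (nat_lit 274) (Steps.bwd (nat_lit 1) (Steps.bwd (nat_lit 2) (Steps.bwd (nat_lit 1) (Steps.fwd (nat_lit 1572864) (Steps.fwd (nat_lit 262144) (Steps.fwd (nat_lit 786432) (Steps.bwd (nat_lit 1) (Steps.fwd (nat_lit 1572864) (Steps.bwd (nat_lit 1) (Steps.bwd (nat_lit 6) (Steps.fwd (nat_lit 1310720) (Steps.fwd (nat_lit 786432) (Steps.fwd (nat_lit 262144) Steps.nil))))))))))))) (nat_lit 34) (nat_lit 3),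
  Rule.mk (nat_lit 1) (nat_lit 154) (Steps.bwd (nat_lit 4) (Steps.fwd (nat_lit 262144) (Steps.bwd (nat_lit 7) (Steps.bwd (nat_lit 4) (Steps.fwd (nat_lit 262144) (Steps.bwd (nat_lit 4) (Steps.bwd (nat_lit 7) Steps.nil))))))) (nat_lit 76) (nat_lit 1),
  Rule.mk (nat_lit 7) (nat_lit 114) (Steps.fwd (nat_lit 1310720) (Steps.fwd (nat_lit 262144) (Steps.fwd (nat_lit 1835008) (Steps.bwd (nat_lit 5) (Steps.fwd (nat_lit 262144) Steps.nil))))) (nat_lit 53) (nat_lit 1),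
  Rule.mk (nat_lit 1) (nat_lit 274) (Steps.fwd (nat_lit 1572864) (Steps.bwd (nat_lit 1) (Steps.fwd (nat_lit 524288) (Steps.bwd (nat_lit 1) (Steps.fwd (nat_lit 1572864) (Steps.fwd (nat_lit 262144) (Steps.bwd (nat_lit 3) (Steps.fwd (nat_lit 262144) (Steps.fwd (nat_lit 1572864) (Steps.fwd (nat_lit 262144) (Steps.bwd (nat_lit 3) (Steps.fwd (nat_lit 1310720) (Steps.fwd (nat_lit 1572864) Steps.nil))))))))))))) (nat_lit 35) (nat_lit 3),
  Rule.mk (nat_lit 1) (nat_lit 154) (Steps.fwd (nat_lit 786432) (Steps.fwd (nat_lit 1835008) (Steps.fwd (nat_lit 262144) (Steps.fwd (nat_lit 786432) (Steps.bwd (nat_lit 1) (Steps.fwd (nat_lit 1835008) (Steps.bwd (nat_lit 2) Steps.nil))))))) (nat_lit 72) (nat_lit 6),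
  Rule.mk (nat_lit 2) (nat_lit 114) (Steps.fwd (nat_lit 262144) (Steps.fwd (nat_lit 524288) (Steps.fwd (nat_lit 2097152) (Steps.bwd (nat_lit 1) (Steps.bwd (nat_lit 8) Steps.nil))))) (nat_lit 104) (nat_lit 2)]
noncomputable def R_91 : List (Rule) := [Rule.mk (nat_lit 4) (nat_lit 154) (Steps.bwd (nat_lit 1) (Steps.fwd (nat_lit 1048576) (Steps.fwd (nat_lit 1835008) (Steps.bwd (nat_lit 1) (Steps.fwd (nat_lit 1048576) (Steps.bwd (nat_lit 1) (Steps.fwd (nat_lit 1835008) Steps.nil))))))) (nat_lit 76) (nat_lit 5),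
  Rule.mk (nat_lit 1) (nat_lit 274) (Steps.bwd (nat_lit 3) (Steps.fwd (nat_lit 1310720) (Steps.fwd (nat_lit 1572864) (Steps.bwd (nat_lit 1) (Steps.fwd (nat_lit 1572864) (Steps.fwd (nat_lit 262144) (Steps.fwd (nat_lit 524288) (Steps.bwd (nat_lit 1) (Steps.fwd (nat_lit 1572864) (Steps.bwd (nat_lit 1) (Steps.fwd (nat_lit 524288) (Steps.fwd (nat_lit 262144) (Steps.bwd (nat_lit 6) Steps.nil))))))))))))) (nat_lit 35) (nat_lit 13),
  Rule.mk (nat_lit 0) (nat_lit 174) (Steps.bwd (nat_lit 4) (Steps.bwd (nat_lit 1) (Steps.bwd (nat_lit 6) (Steps.bwd (nat_lit 1) (Steps.bwd (nat_lit 4) (Steps.fwd (nat_lit 262144) (Steps.fwd (nat_lit 1572864) (Steps.bwd (nat_lit 1) Steps.nil)))))))) (nat_lit 74) (nat_lit 1),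
  Rule.mk (nat_lit 3) (nat_lit 114) (Steps.fwd (nat_lit 1048576) (Steps.fwd (nat_lit 1572864) (Steps.bwd (nat_lit 3) (Steps.bwd (nat_lit 4) (Steps.bwd (nat_lit 5) Steps.nil))))) (nat_lit 59) (nat_lit 0),
  Rule.mk (nat_lit 4) (nat_lit 154) (Steps.bwd (nat_lit 1) (Steps.fwd (nat_lit 1572864) (Steps.fwd (nat_lit 262144) (Steps.bwd (nat_lit 4) (Steps.bwd (nat_lit 1) (Steps.fwd (nat_lit 1572864) (Steps.bwd (nat_lit 1) Steps.nil))))))) (nat_lit 74) (nat_lit 2),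
  Rule.mk (nat_lit 0) (nat_lit 174) (Steps.bwd (nat_lit 1) (Steps.bwd (nat_lit 4) (Steps.bwd (nat_lit 7) (Steps.bwd (nat_lit 1) (Steps.fwd (nat_lit 1048576) (Steps.bwd (nat_lit 1) (Steps.fwd (nat_lit 1835008) (Steps.bwd (nat_lit 4) Steps.nil)))))))) (nat_lit 76) (nat_lit 5),
  Rule.mk (nat_lit 3) (nat_lit 274) (Steps.bwd (nat_lit 5) (Steps.bwd (nat_lit 6) (Steps.bwd (nat_lit 1) (Steps.bwd (nat_lit 6) (Steps.fwd (nat_lit 262144) (Steps.bwd (nat_lit 3) (Steps.bwd (nat_lit 1) (Steps.fwd (nat_lit 1572864) (Steps.bwd (nat_lit 1) (Steps.bwd (nat_lit 3) (Steps.bwd (nat_lit 1) (Steps.fwd (nat_lit 1572864) (Steps.fwd (nat_lit 262144) Steps.nil))))))))))))) (nat_lit 35) (nat_lit 0),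
  Rule.mk (nat_lit 0) (nat_lit 174) (Steps.bwd (nat_lit 7) (Steps.bwd (nat_lit 1) (Steps.fwd (nat_lit 1048576) (Steps.fwd (nat_lit 262144) (Steps.bwd (nat_lit 7) (Steps.bwd (nat_lit 4) (Steps.fwd (nat_lit 262144) (Steps.fwd (nat_lit 1048576) Steps.nil)))))))) (nat_lit 76) (nat_lit 7),
  Rule.mk (nat_lit 0) (nat_lit 134) (Steps.bwd (nat_lit 1) (Steps.bwd (nat_lit 7) (Steps.bwd (nat_lit 5) (Steps.fwd (nat_lit 262144) (Steps.fwd (nat_lit 1835008) (Steps.bwd (nat_lit 5) Steps.nil)))))) (nat_lit 53) (nat_lit 2),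
  Rule.mk (nat_lit 5) (nat_lit 114) (Steps.fwd (nat_lit 1835008) (Steps.bwd (nat_lit 1) (Steps.bwd (nat_lit 5) (Steps.bwd (nat_lit 7) (Steps.fwd (nat_lit 262144) Steps.nil))))) (nat_lit 52) (nat_lit 2),
  Rule.mk (nat_lit 1) (nat_lit 154) (Steps.bwd (nat_lit 2) (Steps.bwd (nat_lit 1) (Steps.fwd (nat_lit 1835008) (Steps.bwd (nat_lit 2) (Steps.bwd (nat_lit 1) (Steps.fwd (nat_lit 786432) (Steps.fwd (nat_lit 1835008) Steps.nil))))))) (nat_lit 72) (nat_lit 1),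
  Rule.mk (nat_lit 7) (nat_lit 154) (Steps.fwd (nat_lit 786432) (Steps.fwd (nat_lit 262144) (Steps.fwd (nat_lit 786432) (Steps.fwd (nat_lit 1835008) (Steps.bwd (nat_lit 1) (Steps.fwd (nat_lit 786432) (Steps.fwd (nat_lit 262144) Steps.nil))))))) (nat_lit 72) (nat_lit 4),
  Rule.mk (nat_lit 1) (nat_lit 274) (Steps.bwd (nat_lit 6) (Steps.bwd (nat_lit 1) (Steps.fwd (nat_lit 1572864) (Steps.bwd (nat_lit 5) (Steps.bwd (nat_lit 2) (Steps.bwd (nat_lit 1) (Steps.bwd (nat_lit 6) (Steps.bwd (nat_lit 1) (Steps.fwd (nat_lit 786432) (Steps.fwd (nat_lit 262144) (Steps.bwd (nat_lit 6) (Steps.bwd (nat_lit 1) (Steps.fwd (nat_lit 786432) Steps.nil))))))))))))) (nat_lit 34) (nat_lit 10),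
  Rule.mk (nat_lit 1) (nat_lit 274) (Steps.bwd (nat_lit 6) (Steps.bwd (nat_lit 1) (Steps.bwd (nat_lit 3) (Steps.bwd (nat_lit 5) (Steps.bwd (nat_lit 6) (Steps.bwd (nat_lit 1) (Steps.bwd (nat_lit 6) (Steps.bwd (nat_lit 1) (Steps.bwd (nat_lit 3) (Steps.bwd (nat_lit 1) (Steps.bwd (nat_lit 6) (Steps.bwd (nat_lit 1) (Steps.bwd (nat_lit 3) Steps.nil))))))))))))) (nat_lit 35) (nat_lit 11),
  Rule.mk (nat_lit 1) (nat_lit 154) (Steps.fwd (nat_lit 524288) (Steps.fwd (nat_lit 262144) (Steps.bwd (nat_lit 2) (Steps.fwd (nat_lit 262144) (Steps.fwd (nat_lit 524288) (Steps.fwd (nat_lit 262144) (Steps.fwd (nat_lit 786432) Steps.nil))))))) (nat_lit 68) (nat_lit 3),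
  Rule.mk (nat_lit 2) (nat_lit 154) (Steps.bwd (nat_lit 1) (Steps.bwd (nat_lit 3) (Steps.fwd (nat_lit 262144) (Steps.fwd (nat_lit 786432) (Steps.fwd (nat_lit 262144) (Steps.bwd (nat_lit 3) (Steps.fwd (nat_lit 262144) Steps.nil))))))) (nat_lit 68) (nat_lit 2),
  Rule.mk (nat_lit 1) (nat_lit 154) (Steps.bwd (nat_lit 3) (Steps.fwd (nat_lit 1310720) (Steps.fwd (nat_lit 262144) (Steps.fwd (nat_lit 524288) (Steps.fwd (nat_lit 262144) (Steps.fwd (nat_lit 1310720) (Steps.fwd (nat_lit 524288) Steps.nil))))))) (nat_lit 71) (nat_lit 3),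
  Rule.mk (nat_lit 1) (nat_lit 154) (Steps.fwd (nat_lit 524288) (Steps.bwd (nat_lit 1) (Steps.fwd (nat_lit 1310720) (Steps.bwd (nat_lit 3) (Steps.fwd (nat_lit 262144) (Steps.fwd (nat_lit 524288) (Steps.fwd (nat_lit 1310720) Steps.nil))))))) (nat_lit 71) (nat_lit 6),
  Rule.mk (nat_lit 0) (nat_lit 134) (Steps.bwd (nat_lit 3) (Steps.fwd (nat_lit 262144) (Steps.bwd (nat_lit 3) (Steps.bwd (nat_lit 1) (Steps.bwd (nat_lit 3) (Steps.fwd (nat_lit 262144) Steps.nil)))))) (nat_lit 13) (nat_lit 0),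
  Rule.mk (nat_lit 3) (nat_lit 114) (Steps.fwd (nat_lit 2097152) (Steps.bwd (nat_lit 1) (Steps.bwd (nat_lit 8) (Steps.fwd (nat_lit 786432) (Steps.bwd (nat_lit 1) Steps.nil))))) (nat_lit 104) (nat_lit 4),
  Rule.mk (nat_lit 5) (nat_lit 154) (Steps.bwd (nat_lit 1) (Steps.bwd (nat_lit 3) (Steps.fwd (nat_lit 262144) (Steps.fwd (nat_lit 1310720) (Steps.bwd (nat_lit 3) (Steps.bwd (nat_lit 1) (Steps.fwd (nat_lit 524288) Steps.nil))))))) (nat_lit 71) (nat_lit 5),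
  Rule.mk (nat_lit 3) (nat_lit 154) (Steps.bwd (nat_lit 1) (Steps.bwd (nat_lit 3) (Steps.fwd (nat_lit 1835008) (Steps.bwd (nat_lit 1) (Steps.bwd (nat_lit 3) (Steps.bwd (nat_lit 1) (Steps.fwd (nat_lit 1835008) Steps.nil))))))) (nat_lit 73) (nat_lit 2),
  Rule.mk (nat_lit 7) (nat_lit 154) (Steps.bwd (nat_lit 1) (Steps.bwd (nat_lit 3) (Steps.fwd (nat_lit 262144) (Steps.fwd (nat_lit 1835008) (Steps.bwd (nat_lit 3) (Steps.bwd (nat_lit 1) (Steps.fwd (nat_lit 524288) Steps.nil))))))) (nat_lit 73) (nat_lit 5),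
  Rule.mk (nat_lit 1) (nat_lit 154) (Steps.fwd (nat_lit 1048576) (Steps.bwd (nat_lit 1) (Steps.fwd (nat_lit 1572864) (Steps.fwd (nat_lit 262144) (Steps.bwd (nat_lit 4) (Steps.bwd (nat_lit 1) (Steps.bwd (nat_lit 6) Steps.nil))))))) (nat_lit 74) (nat_lit 1),
  Rule.mk (nat_lit 6) (nat_lit 274) (Steps.bwd (nat_lit 1) (Steps.fwd (nat_lit 786432) (Steps.bwd (nat_lit 1) (Steps.fwd (nat_lit 1572864) (Steps.bwd (nat_lit 1) (Steps.bwd (nat_lit 6) (Steps.fwd (nat_lit 1310720) (Steps.bwd (nat_lit 2) (Steps.bwd (nat_lit 1) (Steps.bwd (nat_lit 6) (Steps.fwd (nat_lit 262144) (Steps.fwd (nat_lit 786432) (Steps.fwd (nat_lit 262144) Steps.nil))))))))))))) (nat_lit 34) (nat_lit 7),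
  Rule.mk (nat_lit 1) (nat_lit 274) (Steps.bwd (nat_lit 6) (Steps.fwd (nat_lit 262144) (Steps.bwd (nat_lit 2) (Steps.bwd (nat_lit 1) (Steps.fwd (nat_lit 1572864) (Steps.fwd (nat_lit 262144) (Steps.fwd (nat_lit 786432) (Steps.bwd (nat_lit 1) (Steps.bwd (nat_lit 6) (Steps.bwd (nat_lit 1) (Steps.bwd (nat_lit 6) (Steps.fwd (nat_lit 1310720) (Steps.bwd (nat_lit 2) Steps.nil))))))))))))) (nat_lit 34) (nat_lit 2),
  Rule.mk (nat_lit 1) (nat_lit 274) (Steps.fwd (nat_lit 1572864) (Steps.fwd (nat_lit 262144) (Steps.fwd (nat_lit 1572864) (Steps.bwd (nat_lit 5) (Steps.fwd (nat_lit 786432) (Steps.bwd (nat_lit 1) (Steps.fwd (nat_lit 1572864) (Steps.bwd (nat_lit 1) (Steps.bwd (nat_lit 2) (Steps.bwd (nat_lit 1) (Steps.bwd (nat_lit 6) (Steps.bwd (nat_lit 1) (Steps.bwd (nat_lit 2) Steps.nil))))))))))))) (nat_lit 34) (nat_lit 10),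
  Rule.mk (nat_lit 0) (nat_lit 94) (Steps.bwd (nat_lit 1) (Steps.fwd (nat_lit 1835008) (Steps.bwd (nat_lit 1) (Steps.bwd (nat_lit 7) Steps.nil)))) (nat_lit 26) (nat_lit 1),
  Rule.mk (nat_lit 7) (nat_lit 114) (Steps.bwd (nat_lit 1) (Steps.fwd (nat_lit 1310720) (Steps.fwd (nat_lit 1835008) (Steps.bwd (nat_lit 1) (Steps.bwd (nat_lit 5) Steps.nil))))) (nat_lit 52) (nat_lit 0),
  Rule.mk (nat_lit 1) (nat_lit 154) (Steps.bwd (nat_lit 3) (Steps.bwd (nat_lit 5) (Steps.bwd (nat_lit 1) (Steps.bwd (nat_lit 3) (Steps.fwd (nat_lit 262144) (Steps.bwd (nat_lit 5) (Steps.bwd (nat_lit 3) Steps.nil))))))) (nat_lit 71) (nat_lit 3),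
  Rule.mk (nat_lit 1) (nat_lit 154) (Steps.fwd (nat_lit 524288) (Steps.fwd (nat_lit 1835008) (Steps.bwd (nat_lit 1) (Steps.bwd (nat_lit 3) (Steps.fwd (nat_lit 262144) (Steps.bwd (nat_lit 7) (Steps.bwd (nat_lit 3) Steps.nil))))))) (nat_lit 73) (nat_lit 3),
  Rule.mk (nat_lit 1) (nat_lit 274) (Steps.bwd (nat_lit 6) (Steps.bwd (nat_lit 1) (Steps.fwd (nat_lit 786432) (Steps.bwd (nat_lit 1) (Steps.fwd (nat_lit 1572864) (Steps.fwd (nat_lit 262144) (Steps.fwd (nat_lit 1572864) (Steps.bwd (nat_lit 5) (Steps.bwd (nat_lit 2) (Steps.bwd (nat_lit 1) (Steps.bwd (nat_lit 6) (Steps.fwd (nat_lit 262144) (Steps.fwd (nat_lit 786432) Steps.nil))))))))))))) (nat_lit 34) (nat_lit 6),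
  Rule.mk (nat_lit 5) (nat_lit 274) (Steps.fwd (nat_lit 786432) (Steps.bwd (nat_lit 1) (Steps.bwd (nat_lit 6) (Steps.bwd (nat_lit 1) (Steps.fwd (nat_lit 786432) (Steps.bwd (nat_lit 1) (Steps.fwd (nat_lit 1572864) (Steps.fwd (nat_lit 262144) (Steps.fwd (nat_lit 786432) (Steps.bwd (nat_lit 1) (Steps.bwd (nat_lit 6) (Steps.fwd (nat_lit 262144) (Steps.fwd (nat_lit 1572864) Steps.nil))))))))))))) (nat_lit 34) (nat_lit 0),
  Rule.mk (nat_lit 5) (nat_lit 274) (Steps.bwd (nat_lit 6) (Steps.fwd (nat_lit 262144) (Steps.fwd (nat_lit 1572864) (Steps.fwd (nat_lit 262144) (Steps.bwd (nat_lit 3) (Steps.bwd (nat_lit 1) (Steps.fwd (nat_lit 1572864) (Steps.fwd (nat_lit 262144) (Steps.fwd (nat_lit 524288) (Steps.fwd (nat_lit 262144) (Steps.bwd (nat_lit 6) (Steps.bwd (nat_lit 1) (Steps.bwd (nat_lit 3) Steps.nil))))))))))))) (nat_lit 35) (nat_lit 1),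
  Rule.mk (nat_lit 4) (nat_lit 114) (Steps.fwd (nat_lit 786432) (Steps.bwd (nat_lit 5) (Steps.fwd (nat_lit 1048576) (Steps.fwd (nat_lit 786432) (Steps.bwd (nat_lit 6) Steps.nil))))) (nat_lit 58) (nat_lit 0),
  Rule.mk (nat_lit 4) (nat_lit 114) (Steps.bwd (nat_lit 7) (Steps.bwd (nat_lit 5) (Steps.fwd (nat_lit 1048576) (Steps.bwd (nat_lit 7) (Steps.bwd (nat_lit 6) Steps.nil))))) (nat_lit 67) (nat_lit 3),
  Rule.mk (nat_lit 2) (nat_lit 154) (Steps.bwd (nat_lit 6) (Steps.bwd (nat_lit 5) (Steps.bwd (nat_lit 2) (Steps.fwd (nat_lit 1572864) (Steps.fwd (nat_lit 1835008) (Steps.bwd (nat_lit 2) (Steps.fwd (nat_lit 1310720) Steps.nil))))))) (nat_lit 82) (nat_lit 3),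
  Rule.mk (nat_lit 1) (nat_lit 274) (Steps.fwd (nat_lit 786432) (Steps.bwd (nat_lit 1) (Steps.bwd (nat_lit 6) (Steps.fwd (nat_lit 262144) (Steps.bwd (nat_lit 6) (Steps.bwd (nat_lit 5) (Steps.bwd (nat_lit 2) (Steps.bwd (nat_lit 1) (Steps.bwd (nat_lit 6) (Steps.fwd (nat_lit 262144) (Steps.bwd (nat_lit 2) (Steps.bwd (nat_lit 1) (Steps.bwd (nat_lit 6) Steps.nil))))))))))))) (nat_lit 34) (nat_lit 8),
  Rule.mk (nat_lit 3) (nat_lit 114) (Steps.fwd (nat_lit 262144) (Steps.bwd (nat_lit 3) (Steps.bwd (nat_lit 1) (Steps.bwd (nat_lit 3) (Steps.bwd (nat_lit 1) Steps.nil))))) (nat_lit 13) (nat_lit 1),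
  Rule.mk (nat_lit 2) (nat_lit 114) (Steps.fwd (nat_lit 262144) (Steps.bwd (nat_lit 3) (Steps.bwd (nat_lit 9) (Steps.bwd (nat_lit 1) (Steps.fwd (nat_lit 2359296) Steps.nil))))) (nat_lit 104) (nat_lit 2),
  Rule.mk (nat_lit 0) (nat_lit 174) (Steps.bwd (nat_lit 1) (Steps.bwd (nat_lit 2) (Steps.bwd (nat_lit 5) (Steps.bwd (nat_lit 1) (Steps.fwd (nat_lit 786432) (Steps.bwd (nat_lit 1) (Steps.fwd (nat_lit 1310720) (Steps.fwd (nat_lit 786432) Steps.nil)))))))) (nat_lit 70) (nat_lit 5),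
  Rule.mk (nat_lit 1) (nat_lit 274) (Steps.fwd (nat_lit 524288) (Steps.fwd (nat_lit 262144) (Steps.fwd (nat_lit 1572864) (Steps.bwd (nat_lit 1) (Steps.bwd (nat_lit 3) (Steps.bwd (nat_lit 1) (Steps.bwd (nat_lit 6) (Steps.bwd (nat_lit 1) (Steps.fwd (nat_lit 524288) (Steps.bwd (nat_lit 5) (Steps.bwd (nat_lit 6) (Steps.bwd (nat_lit 1) (Steps.bwd (nat_lit 6) Steps.nil))))))))))))) (nat_lit 35) (nat_lit 5),
  Rule.mk (nat_lit 5) (nat_lit 154) (Steps.bwd (nat_lit 3) (Steps.fwd (nat_lit 262144) (Steps.bwd (nat_lit 3) (Steps.fwd (nat_lit 1310720) (Steps.bwd (nat_lit 1) (Steps.bwd (nat_lit 3) (Steps.fwd (nat_lit 262144) Steps.nil))))))) (nat_lit 71) (nat_lit 1),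
  Rule.mk (nat_lit 1) (nat_lit 114) (Steps.fwd (nat_lit 1310720) (Steps.bwd (nat_lit 7) (Steps.fwd (nat_lit 262144) (Steps.bwd (nat_lit 5) (Steps.bwd (nat_lit 7) Steps.nil))))) (nat_lit 52) (nat_lit 1),
  Rule.mk (nat_lit 6) (nat_lit 114) (Steps.fwd (nat_lit 524288) (Steps.fwd (nat_lit 1048576) (Steps.bwd (nat_lit 5) (Steps.bwd (nat_lit 3) (Steps.bwd (nat_lit 4) Steps.nil))))) (nat_lit 59) (nat_lit 2),
  Rule.mk (nat_lit 0) (nat_lit 134) (Steps.bwd (nat_lit 4) (Steps.bwd (nat_lit 6) (Steps.bwd (nat_lit 7) (Steps.fwd (nat_lit 1048576) (Steps.fwd (nat_lit 1310720) (Steps.fwd (nat_lit 1835008) Steps.nil)))))) (nat_lit 66) (nat_lit 3),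
  Rule.mk (nat_lit 6) (nat_lit 154) (Steps.fwd (nat_lit 1835008) (Steps.bwd (nat_lit 2) (Steps.fwd (nat_lit 1048576) (Steps.bwd (nat_lit 5) (Steps.bwd (nat_lit 7) (Steps.fwd (nat_lit 786432) (Steps.bwd (nat_lit 4) Steps.nil))))))) (nat_lit 78) (nat_lit 7),
  Rule.mk (nat_lit 7) (nat_lit 154) (Steps.bwd (nat_lit 6) (Steps.bwd (nat_lit 2) (Steps.bwd (nat_lit 4) (Steps.bwd (nat_lit 7) (Steps.bwd (nat_lit 5) (Steps.fwd (nat_lit 786432) (Steps.bwd (nat_lit 4) Steps.nil))))))) (nat_lit 80) (nat_lit 7),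
  Rule.mk (nat_lit 3) (nat_lit 154) (Steps.bwd (nat_lit 6) (Steps.fwd (nat_lit 1835008) (Steps.bwd (nat_lit 4) (Steps.bwd (nat_lit 3) (Steps.bwd (nat_lit 5) (Steps.bwd (nat_lit 7) (Steps.bwd (nat_lit 4) Steps.nil))))))) (nat_lit 81) (nat_lit 0),
  Rule.mk (nat_lit 4) (nat_lit 154) (Steps.fwd (nat_lit 786432) (Steps.bwd (nat_lit 5) (Steps.bwd (nat_lit 7) (Steps.bwd (nat_lit 4) (Steps.fwd (nat_lit 786432) (Steps.bwd (nat_lit 6) (Steps.bwd (nat_lit 7) Steps.nil))))))) (nat_lit 88) (nat_lit 0),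
  Rule.mk (nat_lit 4) (nat_lit 154) (Steps.fwd (nat_lit 1835008) (Steps.bwd (nat_lit 3) (Steps.bwd (nat_lit 5) (Steps.bwd (nat_lit 4) (Steps.fwd (nat_lit 1835008) (Steps.bwd (nat_lit 3) (Steps.bwd (nat_lit 6) Steps.nil))))))) (nat_lit 91) (nat_lit 2),
  Rule.mk (nat_lit 2) (nat_lit 154) (Steps.bwd (nat_lit 7) (Steps.bwd (nat_lit 6) (Steps.bwd (nat_lit 4) (Steps.bwd (nat_lit 2) (Steps.bwd (nat_lit 7) (Steps.bwd (nat_lit 5) (Steps.bwd (nat_lit 4) Steps.nil))))))) (nat_lit 92) (nat_lit 5),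
  Rule.mk (nat_lit 7) (nat_lit 114) (Steps.bwd (nat_lit 3) (Steps.fwd (nat_lit 1310720) (Steps.bwd (nat_lit 7) (Steps.bwd (nat_lit 2) (Steps.bwd (nat_lit 5) Steps.nil))))) (nat_lit 60) (nat_lit 3),
  Rule.mk (nat_lit 5) (nat_lit 114) (Steps.bwd (nat_lit 3) (Steps.fwd (nat_lit 1835008) (Steps.bwd (nat_lit 5) (Steps.bwd (nat_lit 2) (Steps.bwd (nat_lit 7) Steps.nil))))) (nat_lit 61) (nat_lit 5),
  Rule.mk (nat_lit 4) (nat_lit 154) (Steps.bwd (nat_lit 7) (Steps.fwd (nat_lit 262144) (Steps.bwd (nat_lit 4) (Steps.fwd (nat_lit 262144) (Steps.fwd (nat_lit 1835008) (Steps.bwd (nat_lit 4) (Steps.fwd (nat_lit 262144) Steps.nil))))))) (nat_lit 76) (nat_lit 7),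
  Rule.mk (nat_lit 4) (nat_lit 114) (Steps.fwd (nat_lit 1835008) (Steps.fwd (nat_lit 1310720) (Steps.bwd (nat_lit 4) (Steps.bwd (nat_lit 7) (Steps.fwd (nat_lit 1572864) Steps.nil))))) (nat_lit 67) (nat_lit 3),
  Rule.mk (nat_lit 0) (nat_lit 174) (Steps.fwd (nat_lit 1835008) (Steps.fwd (nat_lit 1048576) (Steps.bwd (nat_lit 1) (Steps.bwd (nat_lit 4) (Steps.bwd (nat_lit 7) (Steps.bwd (nat_lit 1) (Steps.fwd (nat_lit 1048576) (Steps.fwd (nat_lit 262144) Steps.nil)))))))) (nat_lit 76) (nat_lit 3),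
  Rule.mk (nat_lit 5) (nat_lit 154) (Steps.fwd (nat_lit 524288) (Steps.bwd (nat_lit 6) (Steps.fwd (nat_lit 1310720) (Steps.bwd (nat_lit 3) (Steps.fwd (nat_lit 1572864) (Steps.bwd (nat_lit 7) (Steps.bwd (nat_lit 3) Steps.nil))))))) (nat_lit 85) (nat_lit 7),
  Rule.mk (nat_lit 4) (nat_lit 154) (Steps.fwd (nat_lit 1835008) (Steps.bwd (nat_lit 6) (Steps.fwd (nat_lit 524288) (Steps.bwd (nat_lit 4) (Steps.bwd (nat_lit 7) (Steps.bwd (nat_lit 5) (Steps.bwd (nat_lit 3) Steps.nil))))))) (nat_lit 89) (nat_lit 1),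
  Rule.mk (nat_lit 8) (nat_lit 314) (Steps.fwd (nat_lit 1048576) (Steps.bwd (nat_lit 9) (Steps.fwd (nat_lit 1048576) (Steps.bwd (nat_lit 8) (Steps.bwd (nat_lit 4) (Steps.fwd (nat_lit 2097152) (Steps.bwd (nat_lit 4) (Steps.fwd (nat_lit 2359296) (Steps.fwd (nat_lit 1048576) (Steps.bwd (nat_lit 9) (Steps.fwd (nat_lit 1048576) (Steps.fwd (nat_lit 2359296) (Steps.fwd (nat_lit 1048576) (Steps.bwd (nat_lit 9) (Steps.fwd (nat_lit 1048576) Steps.nil))))))))))))))) (nat_lit 106) (nat_lit 1),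
  Rule.mk (nat_lit 0) (nat_lit 94) (Steps.fwd (nat_lit 1310720) (Steps.bwd (nat_lit 8) (Steps.bwd (nat_lit 7) (Steps.fwd (nat_lit 2097152) Steps.nil)))) (nat_lit 98) (nat_lit 3),
  Rule.mk (nat_lit 2) (nat_lit 274) (Steps.bwd (nat_lit 1) (Steps.bwd (nat_lit 6) (Steps.fwd (nat_lit 262144) (Steps.bwd (nat_lit 2) (Steps.bwd (nat_lit 1) (Steps.bwd (nat_lit 6) (Steps.bwd (nat_lit 1) (Steps.bwd (nat_lit 6) (Steps.bwd (nat_lit 5) (Steps.fwd (nat_lit 786432) (Steps.fwd (nat_lit 262144) (Steps.bwd (nat_lit 6) (Steps.fwd (nat_lit 262144) Steps.nil))))))))))))) (nat_lit 34) (nat_lit 5),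
  Rule.mk (nat_lit 0) (nat_lit 94) (Steps.bwd (nat_lit 4) (Steps.fwd (nat_lit 524288) (Steps.bwd (nat_lit 4) (Steps.fwd (nat_lit 524288) Steps.nil)))) (nat_lit 15) (nat_lit 1),
  Rule.mk (nat_lit 0) (nat_lit 134) (Steps.bwd (nat_lit 1) (Steps.bwd (nat_lit 4) (Steps.fwd (nat_lit 262144) (Steps.bwd (nat_lit 4) (Steps.bwd (nat_lit 1) (Steps.fwd (nat_lit 1048576) Steps.nil)))))) (nat_lit 16) (nat_lit 0)]
noncomputable def R_92 : List (Rule) := [Rule.mk (nat_lit 4) (nat_lit 154) (Steps.fwd (nat_lit 262144) (Steps.fwd (nat_lit 1572864) (Steps.fwd (nat_lit 262144) (Steps.bwd (nat_lit 4) (Steps.bwd (nat_lit 1) (Steps.fwd (nat_lit 1572864) (Steps.bwd (nat_lit 1) Steps.nil))))))) (nat_lit 74) (nat_lit 2),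
  Rule.mk (nat_lit 1) (nat_lit 154) (Steps.fwd (nat_lit 1048576) (Steps.bwd (nat_lit 1) (Steps.fwd (nat_lit 1835008) (Steps.bwd (nat_lit 4) (Steps.fwd (nat_lit 262144) (Steps.fwd (nat_lit 1048576) (Steps.bwd (nat_lit 7) Steps.nil))))))) (nat_lit 76) (nat_lit 1),
  Rule.mk (nat_lit 7) (nat_lit 154) (Steps.fwd (nat_lit 262144) (Steps.bwd (nat_lit 4) (Steps.bwd (nat_lit 1) (Steps.fwd (nat_lit 1835008) (Steps.fwd (nat_lit 1048576) (Steps.fwd (nat_lit 262144) (Steps.fwd (nat_lit 1048576) Steps.nil))))))) (nat_lit 76) (nat_lit 0),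
  Rule.mk (nat_lit 3) (nat_lit 114) (Steps.fwd (nat_lit 1572864) (Steps.bwd (nat_lit 7) (Steps.bwd (nat_lit 2) (Steps.bwd (nat_lit 6) (Steps.bwd (nat_lit 7) Steps.nil))))) (nat_lit 62) (nat_lit 4),
  Rule.mk (nat_lit 7) (nat_lit 114) (Steps.fwd (nat_lit 786432) (Steps.fwd (nat_lit 1572864) (Steps.bwd (nat_lit 7) (Steps.bwd (nat_lit 3) (Steps.bwd (nat_lit 6) Steps.nil))))) (nat_lit 62) (nat_lit 0),
  Rule.mk (nat_lit 1) (nat_lit 154) (Steps.fwd (nat_lit 524288) (Steps.bwd (nat_lit 1) (Steps.bwd (nat_lit 7) (Steps.bwd (nat_lit 3) (Steps.fwd (nat_lit 262144) (Steps.bwd (nat_lit 3) (Steps.bwd (nat_lit 7) Steps.nil))))))) (nat_lit 73) (nat_lit 6),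
  Rule.mk (nat_lit 2) (nat_lit 154) (Steps.bwd (nat_lit 1) (Steps.fwd (nat_lit 524288) (Steps.bwd (nat_lit 1) (Steps.bwd (nat_lit 2) (Steps.bwd (nat_lit 1) (Steps.fwd (nat_lit 524288) (Steps.fwd (nat_lit 262144) Steps.nil))))))) (nat_lit 68) (nat_lit 2),
  Rule.mk (nat_lit 1) (nat_lit 154) (Steps.bwd (nat_lit 3) (Steps.fwd (nat_lit 1310720) (Steps.bwd (nat_lit 1) (Steps.fwd (nat_lit 524288) (Steps.bwd (nat_lit 1) (Steps.bwd (nat_lit 5) (Steps.bwd (nat_lit 3) Steps.nil))))))) (nat_lit 71) (nat_lit 3),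
  Rule.mk (nat_lit 1) (nat_lit 274) (Steps.fwd (nat_lit 1572864) (Steps.bwd (nat_lit 1) (Steps.fwd (nat_lit 524288) (Steps.bwd (nat_lit 1) (Steps.fwd (nat_lit 1572864) (Steps.bwd (nat_lit 1) (Steps.bwd (nat_lit 3) (Steps.fwd (nat_lit 1310720) (Steps.fwd (nat_lit 1572864) (Steps.fwd (nat_lit 262144) (Steps.fwd (nat_lit 1572864) (Steps.bwd (nat_lit 1) (Steps.fwd (nat_lit 524288) Steps.nil))))))))))))) (nat_lit 35) (nat_lit 7),
  Rule.mk (nat_lit 0) (nat_lit 94) (Steps.bwd (nat_lit 1) (Steps.bwd (nat_lit 5) (Steps.bwd (nat_lit 1) (Steps.fwd (nat_lit 1310720) Steps.nil)))) (nat_lit 18) (nat_lit 0),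
  Rule.mk (nat_lit 1) (nat_lit 154) (Steps.fwd (nat_lit 786432) (Steps.bwd (nat_lit 1) (Steps.fwd (nat_lit 1310720) (Steps.bwd (nat_lit 2) (Steps.bwd (nat_lit 1) (Steps.fwd (nat_lit 786432) (Steps.fwd (nat_lit 1310720) Steps.nil))))))) (nat_lit 70) (nat_lit 1),
  Rule.mk (nat_lit 3) (nat_lit 154) (Steps.bwd (nat_lit 1) (Steps.fwd (nat_lit 524288) (Steps.fwd (nat_lit 1310720) (Steps.bwd (nat_lit 1) (Steps.fwd (nat_lit 524288) (Steps.bwd (nat_lit 1) (Steps.fwd (nat_lit 1310720) Steps.nil))))))) (nat_lit 71) (nat_lit 2),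
  Rule.mk (nat_lit 0) (nat_lit 334) (Steps.bwd (nat_lit 4) (Steps.bwd (nat_lit 8) (Steps.bwd (nat_lit 4) (Steps.bwd (nat_lit 9) (Steps.bwd (nat_lit 4) (Steps.fwd (nat_lit 2359296) (Steps.fwd (nat_lit 1048576) (Steps.bwd (nat_lit 9) (Steps.fwd (nat_lit 1048576) (Steps.fwd (nat_lit 2359296) (Steps.fwd (nat_lit 1048576) (Steps.fwd (nat_lit 2097152) (Steps.bwd (nat_lit 4) (Steps.bwd (nat_lit 8) (Steps.fwd (nat_lit 1048576) (Steps.bwd (nat_lit 9) Steps.nil)))))))))))))))) (nat_lit 106) (nat_lit 3),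
  Rule.mk (nat_lit 0) (nat_lit 134) (Steps.bwd (nat_lit 4) (Steps.fwd (nat_lit 1310720) (Steps.fwd (nat_lit 786432) (Steps.bwd (nat_lit 4) (Steps.bwd (nat_lit 6) (Steps.bwd (nat_lit 2) Steps.nil)))))) (nat_lit 54) (nat_lit 1),
  Rule.mk (nat_lit 0) (nat_lit 134) (Steps.bwd (nat_lit 4) (Steps.fwd (nat_lit 1835008) (Steps.fwd (nat_lit 786432) (Steps.bwd (nat_lit 4) (Steps.fwd (nat_lit 1835008) (Steps.bwd (nat_lit 2) Steps.nil)))))) (nat_lit 56) (nat_lit 1),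
  Rule.mk (nat_lit 1) (nat_lit 154) (Steps.fwd (nat_lit 1835008) (Steps.bwd (nat_lit 4) (Steps.fwd (nat_lit 262144) (Steps.bwd (nat_lit 4) (Steps.fwd (nat_lit 1835008) (Steps.bwd (nat_lit 1) (Steps.bwd (nat_lit 4) Steps.nil))))))) (nat_lit 76) (nat_lit 3),
  Rule.mk (nat_lit 1) (nat_lit 154) (Steps.bwd (nat_lit 2) (Steps.bwd (nat_lit 1) (Steps.bwd (nat_lit 3) (Steps.fwd (nat_lit 262144) (Steps.bwd (nat_lit 2) (Steps.bwd (nat_lit 1) (Steps.bwd (nat_lit 3) Steps.nil))))))) (nat_lit 68) (nat_lit 1),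
  Rule.mk (nat_lit 1) (nat_lit 274) (Steps.bwd (nat_lit 6) (Steps.bwd (nat_lit 1) (Steps.bwd (nat_lit 3) (Steps.bwd (nat_lit 1) (Steps.fwd (nat_lit 1572864) (Steps.fwd (nat_lit 262144) (Steps.fwd (nat_lit 524288) (Steps.fwd (nat_lit 262144) (Steps.bwd (nat_lit 6) (Steps.fwd (nat_lit 262144) (Steps.fwd (nat_lit 524288) (Steps.bwd (nat_lit 5) (Steps.bwd (nat_lit 6) Steps.nil))))))))))))) (nat_lit 35) (nat_lit 3),
  Rule.mk (nat_lit 5) (nat_lit 114) (Steps.bwd (nat_lit 4) (Steps.fwd (nat_lit 1835008) (Steps.bwd (nat_lit 6) (Steps.bwd (nat_lit 4) (Steps.fwd (nat_lit 1835008) Steps.nil))))) (nat_lit 67) (nat_lit 5),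
  Rule.mk (nat_lit 1) (nat_lit 154) (Steps.fwd (nat_lit 1835008) (Steps.bwd (nat_lit 4) (Steps.bwd (nat_lit 1) (Steps.bwd (nat_lit 4) (Steps.fwd (nat_lit 1835008) (Steps.bwd (nat_lit 1) (Steps.fwd (nat_lit 1048576) Steps.nil))))))) (nat_lit 76) (nat_lit 3),
  Rule.mk (nat_lit 4) (nat_lit 314) (Steps.bwd (nat_lit 9) (Steps.fwd (nat_lit 1048576) (Steps.fwd (nat_lit 2359296) (Steps.bwd (nat_lit 4) (Steps.fwd (nat_lit 2097152) (Steps.fwd (nat_lit 1048576) (Steps.fwd (nat_lit 2359296) (Steps.fwd (nat_lit 1048576) (Steps.fwd (nat_lit 2097152) (Steps.bwd (nat_lit 4) (Steps.bwd (nat_lit 8) (Steps.bwd (nat_lit 4) (Steps.bwd (nat_lit 9) (Steps.fwd (nat_lit 1048576) (Steps.fwd (nat_lit 2359296) Steps.nil))))))))))))))) (nat_lit 106) (nat_lit 2),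
  Rule.mk (nat_lit 4) (nat_lit 314) (Steps.fwd (nat_lit 2359296) (Steps.bwd (nat_lit 4) (Steps.bwd (nat_lit 9) (Steps.fwd (nat_lit 1048576) (Steps.fwd (nat_lit 2359296) (Steps.bwd (nat_lit 4) (Steps.bwd (nat_lit 9) (Steps.bwd (nat_lit 4) (Steps.bwd (nat_lit 8) (Steps.fwd (nat_lit 1048576) (Steps.fwd (nat_lit 2097152) (Steps.bwd (nat_lit 4) (Steps.fwd (nat_lit 2359296) (Steps.fwd (nat_lit 1048576) (Steps.bwd (nat_lit 9) Steps.nil))))))))))))))) (nat_lit 106) (nat_lit 0),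
  Rule.mk (nat_lit 4) (nat_lit 114) (Steps.bwd (nat_lit 5) (Steps.fwd (nat_lit 524288) (Steps.bwd (nat_lit 4) (Steps.fwd (nat_lit 1572864) (Steps.bwd (nat_lit 3) Steps.nil))))) (nat_lit 59) (nat_lit 4),
  Rule.mk (nat_lit 4) (nat_lit 114) (Steps.fwd (nat_lit 1835008) (Steps.fwd (nat_lit 524288) (Steps.bwd (nat_lit 4) (Steps.fwd (nat_lit 1835008) (Steps.fwd (nat_lit 524288) Steps.nil))))) (nat_lit 65) (nat_lit 1),
  Rule.mk (nat_lit 2) (nat_lit 154) (Steps.bwd (nat_lit 4) (Steps.bwd (nat_lit 6) (Steps.fwd (nat_lit 1835008) (Steps.bwd (nat_lit 2) (Steps.bwd (nat_lit 4) (Steps.bwd (nat_lit 5) (Steps.fwd (nat_lit 1835008) Steps.nil))))))) (nat_lit 78) (nat_lit 5),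
  Rule.mk (nat_lit 0) (nat_lit 174) (Steps.bwd (nat_lit 4) (Steps.fwd (nat_lit 1835008) (Steps.bwd (nat_lit 6) (Steps.fwd (nat_lit 524288) (Steps.bwd (nat_lit 4) (Steps.fwd (nat_lit 1835008) (Steps.fwd (nat_lit 1310720) (Steps.fwd (nat_lit 524288) Steps.nil)))))))) (nat_lit 89) (nat_lit 0),
  Rule.mk (nat_lit 0) (nat_lit 174) (Steps.bwd (nat_lit 4) (Steps.fwd (nat_lit 262144) (Steps.bwd (nat_lit 4) (Steps.fwd (nat_lit 1835008) (Steps.fwd (nat_lit 262144) (Steps.bwd (nat_lit 4) (Steps.bwd (nat_lit 1) (Steps.bwd (nat_lit 7) Steps.nil)))))))) (nat_lit 76) (nat_lit 4),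
  Rule.mk (nat_lit 1) (nat_lit 154) (Steps.bwd (nat_lit 5) (Steps.bwd (nat_lit 3) (Steps.fwd (nat_lit 262144) (Steps.fwd (nat_lit 524288) (Steps.bwd (nat_lit 5) (Steps.bwd (nat_lit 1) (Steps.bwd (nat_lit 3) Steps.nil))))))) (nat_lit 71) (nat_lit 0),
  Rule.mk (nat_lit 6) (nat_lit 274) (Steps.bwd (nat_lit 1) (Steps.fwd (nat_lit 786432) (Steps.fwd (nat_lit 262144) (Steps.fwd (nat_lit 1572864) (Steps.bwd (nat_lit 1) (Steps.bwd (nat_lit 6) (Steps.bwd (nat_lit 5) (Steps.bwd (nat_lit 2) (Steps.bwd (nat_lit 1) (Steps.fwd (nat_lit 1572864) (Steps.fwd (nat_lit 262144) (Steps.fwd (nat_lit 786432) (Steps.bwd (nat_lit 1) Steps.nil))))))))))))) (nat_lit 34) (nat_lit 7),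
  Rule.mk (nat_lit 4) (nat_lit 154) (Steps.bwd (nat_lit 1) (Steps.bwd (nat_lit 6) (Steps.bwd (nat_lit 1) (Steps.fwd (nat_lit 1048576) (Steps.bwd (nat_lit 1) (Steps.bwd (nat_lit 6) (Steps.bwd (nat_lit 1) Steps.nil))))))) (nat_lit 74) (nat_lit 2),
  Rule.mk (nat_lit 7) (nat_lit 114) (Steps.fwd (nat_lit 1048576) (Steps.fwd (nat_lit 1310720) (Steps.bwd (nat_lit 7) (Steps.bwd (nat_lit 4) (Steps.fwd (nat_lit 1572864) Steps.nil))))) (nat_lit 66) (nat_lit 0),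
  Rule.mk (nat_lit 3) (nat_lit 154) (Steps.fwd (nat_lit 1048576) (Steps.bwd (nat_lit 7) (Steps.bwd (nat_lit 6) (Steps.fwd (nat_lit 524288) (Steps.bwd (nat_lit 4) (Steps.bwd (nat_lit 7) (Steps.fwd (nat_lit 1310720) Steps.nil))))))) (nat_lit 89) (nat_lit 0),
  Rule.mk (nat_lit 7) (nat_lit 114) (Steps.fwd (nat_lit 1572864) (Steps.bwd (nat_lit 3) (Steps.fwd (nat_lit 1835008) (Steps.bwd (nat_lit 6) (Steps.bwd (nat_lit 2) Steps.nil))))) (nat_lit 63) (nat_lit 4),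
  Rule.mk (nat_lit 4) (nat_lit 154) (Steps.bwd (nat_lit 7) (Steps.fwd (nat_lit 1572864) (Steps.bwd (nat_lit 3) (Steps.fwd (nat_lit 1048576) (Steps.bwd (nat_lit 7) (Steps.bwd (nat_lit 5) (Steps.fwd (nat_lit 524288) Steps.nil))))))) (nat_lit 89) (nat_lit 1),
  Rule.mk (nat_lit 4) (nat_lit 314) (Steps.bwd (nat_lit 8) (Steps.bwd (nat_lit 4) (Steps.fwd (nat_lit 2097152) (Steps.fwd (nat_lit 1048576) (Steps.fwd (nat_lit 2359296) (Steps.bwd (nat_lit 4) (Steps.fwd (nat_lit 2097152) (Steps.bwd (nat_lit 4) (Steps.bwd (nat_lit 8) (Steps.bwd (nat_lit 4) (Steps.fwd (nat_lit 2097152) (Steps.fwd (nat_lit 1048576) (Steps.fwd (nat_lit 2359296) (Steps.fwd (nat_lit 1048576) (Steps.fwd (nat_lit 2097152) Steps.nil))))))))))))))) (nat_lit 106) (nat_lit 0),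
  Rule.mk (nat_lit 0) (nat_lit 134) (Steps.bwd (nat_lit 4) (Steps.bwd (nat_lit 6) (Steps.bwd (nat_lit 7) (Steps.bwd (nat_lit 4) (Steps.bwd (nat_lit 5) (Steps.bwd (nat_lit 7) Steps.nil)))))) (nat_lit 66) (nat_lit 3),
  Rule.mk (nat_lit 7) (nat_lit 154) (Steps.bwd (nat_lit 4) (Steps.bwd (nat_lit 2) (Steps.bwd (nat_lit 6) (Steps.bwd (nat_lit 7) (Steps.bwd (nat_lit 4) (Steps.bwd (nat_lit 2) (Steps.fwd (nat_lit 1310720) Steps.nil))))))) (nat_lit 88) (nat_lit 3),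
  Rule.mk (nat_lit 5) (nat_lit 74) (Steps.fwd (nat_lit 2359296) (Steps.bwd (nat_lit 7) (Steps.fwd (nat_lit 2097152) Steps.nil))) (nat_lit 98) (nat_lit 0),
  Rule.mk (nat_lit 1) (nat_lit 154) (Steps.fwd (nat_lit 786432) (Steps.fwd (nat_lit 1835008) (Steps.bwd (nat_lit 1) (Steps.bwd (nat_lit 2) (Steps.fwd (nat_lit 262144) (Steps.bwd (nat_lit 7) (Steps.bwd (nat_lit 2) Steps.nil))))))) (nat_lit 72) (nat_lit 6),
  Rule.mk (nat_lit 8) (nat_lit 314) (Steps.bwd (nat_lit 4) (Steps.fwd (nat_lit 2097152) (Steps.bwd (nat_lit 4) (Steps.bwd (nat_lit 8) (Steps.bwd (nat_lit 4) (Steps.fwd (nat_lit 2097152) (Steps.bwd (nat_lit 4) (Steps.bwd (nat_lit 8) (Steps.bwd (nat_lit 4) (Steps.bwd (nat_lit 9) (Steps.fwd (nat_lit 1048576) (Steps.fwd (nat_lit 2359296) (Steps.fwd (nat_lit 1048576) (Steps.bwd (nat_lit 9) (Steps.fwd (nat_lit 1048576) Steps.nil))))))))))))))) (nat_lit 106) (nat_lit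 1),
  Rule.mk (nat_lit 0) (nat_lit 334) (Steps.bwd (nat_lit 4) (Steps.bwd (nat_lit 8) (Steps.bwd (nat_lit 4) (Steps.bwd (nat_lit 9) (Steps.fwd (nat_lit 1048576) (Steps.bwd (nat_lit 8) (Steps.fwd (nat_lit 1048576) (Steps.bwd (nat_lit 9) (Steps.bwd (nat_lit 4) (Steps.fwd (nat_lit 2359296) (Steps.bwd (nat_lit 4) (Steps.bwd (nat_lit 9) (Steps.fwd (nat_lit 1048576) (Steps.fwd (nat_lit 2359296) (Steps.fwd (nat_lit 1048576) (Steps.fwd (nat_lit 2097152) Steps.nil)))))))))))))))) (nat_lit 106) (nat_lit 3),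
  Rule.mk (nat_lit 4) (nat_lit 154) (Steps.fwd (nat_lit 524288) (Steps.fwd (nat_lit 1835008) (Steps.fwd (nat_lit 1310720) (Steps.bwd (nat_lit 4) (Steps.bwd (nat_lit 3) (Steps.bwd (nat_lit 7) (Steps.fwd (nat_lit 1572864) Steps.nil))))))) (nat_lit 79) (nat_lit 3),
  Rule.mk (nat_lit 4) (nat_lit 314) (Steps.fwd (nat_lit 2359296) (Steps.fwd (nat_lit 1048576) (Steps.fwd (nat_lit 2097152) (Steps.bwd (nat_lit 4) (Steps.fwd (nat_lit 2359296) (Steps.fwd (nat_lit 1048576) (Steps.fwd (nat_lit 2097152) (Steps.bwd (nat_lit 4) (Steps.fwd (nat_lit 2359296) (Steps.bwd (nat_lit 4) (Steps.fwd (nat_lit 2097152) (Steps.bwd (nat_lit 4) (Steps.bwd (nat_lit 8) (Steps.bwd (nat_lit 4) (Steps.bwd (nat_lit 9) Steps.nil))))))))))))))) (nat_lit 106) (nat_lit 0),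
  Rule.mk (nat_lit 1) (nat_lit 154) (Steps.fwd (nat_lit 1572864) (Steps.bwd (nat_lit 1) (Steps.bwd (nat_lit 4) (Steps.bwd (nat_lit 1) (Steps.bwd (nat_lit 6) (Steps.bwd (nat_lit 1) (Steps.fwd (nat_lit 1048576) Steps.nil))))))) (nat_lit 74) (nat_lit 3),
  Rule.mk (nat_lit 2) (nat_lit 114) (Steps.bwd (nat_lit 4) (Steps.fwd (nat_lit 1310720) (Steps.bwd (nat_lit 2) (Steps.bwd (nat_lit 4) (Steps.bwd (nat_lit 6) Steps.nil))))) (nat_lit 54) (nat_lit 1),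
  Rule.mk (nat_lit 4) (nat_lit 154) (Steps.bwd (nat_lit 3) (Steps.fwd (nat_lit 1835008) (Steps.fwd (nat_lit 1310720) (Steps.bwd (nat_lit 4) (Steps.fwd (nat_lit 524288) (Steps.fwd (nat_lit 1835008) (Steps.bwd (nat_lit 6) Steps.nil))))))) (nat_lit 79) (nat_lit 3),
  Rule.mk (nat_lit 3) (nat_lit 154) (Steps.bwd (nat_lit 4) (Steps.fwd (nat_lit 1835008) (Steps.fwd (nat_lit 1310720) (Steps.bwd (nat_lit 3) (Steps.bwd (nat_lit 4) (Steps.fwd (nat_lit 1835008) (Steps.bwd (nat_lit 6) Steps.nil))))))) (nat_lit 89) (nat_lit 4),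
  Rule.mk (nat_lit 0) (nat_lit 334) (Steps.bwd (nat_lit 4) (Steps.fwd (nat_lit 2359296) (Steps.fwd (nat_lit 1048576) (Steps.fwd (nat_lit 2097152) (Steps.bwd (nat_lit 4) (Steps.bwd (nat_lit 8) (Steps.bwd (nat_lit 4) (Steps.bwd (nat_lit 9) (Steps.fwd (nat_lit 1048576) (Steps.fwd (nat_lit 2359296) (Steps.fwd (nat_lit 1048576) (Steps.bwd (nat_lit 9) (Steps.bwd (nat_lit 4) (Steps.fwd (nat_lit 2359296) (Steps.fwd (nat_lit 1048576) (Steps.fwd (nat_lit 2097152) Steps.nil)))))))))))))))) (nat_lit 106) (nat_lit 3),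
  Rule.mk (nat_lit 4) (nat_lit 114) (Steps.bwd (nat_lit 6) (Steps.bwd (nat_lit 7) (Steps.fwd (nat_lit 1048576) (Steps.bwd (nat_lit 5) (Steps.fwd (nat_lit 1835008) Steps.nil))))) (nat_lit 66) (nat_lit 4),
  Rule.mk (nat_lit 1) (nat_lit 154) (Steps.bwd (nat_lit 4) (Steps.bwd (nat_lit 1) (Steps.fwd (nat_lit 1835008) (Steps.bwd (nat_lit 4) (Steps.fwd (nat_lit 262144) (Steps.fwd (nat_lit 1048576) (Steps.bwd (nat_lit 7) Steps.nil))))))) (nat_lit 76) (nat_lit 1),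
  Rule.mk (nat_lit 0) (nat_lit 174) (Steps.bwd (nat_lit 7) (Steps.fwd (nat_lit 1048576) (Steps.bwd (nat_lit 1) (Steps.fwd (nat_lit 1048576) (Steps.fwd (nat_lit 1835008) (Steps.bwd (nat_lit 1) (Steps.fwd (nat_lit 1048576) (Steps.fwd (nat_lit 262144) Steps.nil)))))))) (nat_lit 76) (nat_lit 3),
  Rule.mk (nat_lit 4) (nat_lit 154) (Steps.bwd (nat_lit 2) (Steps.bwd (nat_lit 6) (Steps.fwd (nat_lit 1835008) (Steps.fwd (nat_lit 1048576) (Steps.fwd (nat_lit 786432) (Steps.bwd (nat_lit 5) (Steps.bwd (nat_lit 7) Steps.nil))))))) (nat_lit 88) (nat_lit 4),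
  Rule.mk (nat_lit 4) (nat_lit 154) (Steps.bwd (nat_lit 7) (Steps.fwd (nat_lit 1310720) (Steps.bwd (nat_lit 3) (Steps.bwd (nat_lit 4) (Steps.fwd (nat_lit 1835008) (Steps.bwd (nat_lit 6) (Steps.bwd (nat_lit 3) Steps.nil))))))) (nat_lit 89) (nat_lit 5),
  Rule.mk (nat_lit 1) (nat_lit 154) (Steps.fwd (nat_lit 1835008) (Steps.fwd (nat_lit 786432) (Steps.fwd (nat_lit 262144) (Steps.bwd (nat_lit 2) (Steps.bwd (nat_lit 7) (Steps.bwd (nat_lit 1) (Steps.bwd (nat_lit 2) Steps.nil))))))) (nat_lit 72) (nat_lit 3),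
  Rule.mk (nat_lit 1) (nat_lit 154) (Steps.bwd (nat_lit 3) (Steps.bwd (nat_lit 1) (Steps.bwd (nat_lit 2) (Steps.bwd (nat_lit 1) (Steps.fwd (nat_lit 524288) (Steps.fwd (nat_lit 262144) (Steps.fwd (nat_lit 786432) Steps.nil))))))) (nat_lit 68) (nat_lit 3),
  Rule.mk (nat_lit 1) (nat_lit 274) (Steps.bwd (nat_lit 6) (Steps.bwd (nat_lit 5) (Steps.bwd (nat_lit 2) (Steps.bwd (nat_lit 1) (Steps.fwd (nat_lit 1572864) (Steps.fwd (nat_lit 262144) (Steps.fwd (nat_lit 786432) (Steps.fwd (nat_lit 262144) (Steps.bwd (nat_lit 6) (Steps.bwd (nat_lit 1) (Steps.bwd (nat_lit 2) (Steps.bwd (nat_lit 1) (Steps.fwd (nat_lit 1572864) Steps.nil))))))))))))) (nat_lit 34) (nat_lit 12),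
  Rule.mk (nat_lit 2) (nat_lit 154) (Steps.bwd (nat_lit 1) (Steps.bwd (nat_lit 2) (Steps.fwd (nat_lit 1310720) (Steps.bwd (nat_lit 1) (Steps.bwd (nat_lit 2) (Steps.bwd (nat_lit 1) (Steps.bwd (nat_lit 5) Steps.nil))))))) (nat_lit 70) (nat_lit 5),
  Rule.mk (nat_lit 1) (nat_lit 154) (Steps.fwd (nat_lit 786432) (Steps.fwd (nat_lit 262144) (Steps.bwd (nat_lit 7) (Steps.bwd (nat_lit 2) (Steps.bwd (nat_lit 1) (Steps.fwd (nat_lit 786432) (Steps.fwd (nat_lit 1835008) Steps.nil))))))) (nat_lit 72) (nat_lit 1),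
  Rule.mk (nat_lit 2) (nat_lit 154) (Steps.bwd (nat_lit 4) (Steps.fwd (nat_lit 1572864) (Steps.fwd (nat_lit 1835008) (Steps.fwd (nat_lit 786432) (Steps.bwd (nat_lit 4) (Steps.bwd (nat_lit 5) (Steps.fwd (nat_lit 1835008) Steps.nil))))))) (nat_lit 78) (nat_lit 5),
  Rule.mk (nat_lit 8) (nat_lit 314) (Steps.bwd (nat_lit 4) (Steps.fwd (nat_lit 2097152) (Steps.bwd (nat_lit 4) (Steps.bwd (nat_lit 8) (Steps.bwd (nat_lit 4) (Steps.bwd (nat_lit 9) (Steps.fwd (nat_lit 1048576) (Steps.bwd (nat_lit 8) (Steps.fwd (nat_lit 1048576) (Steps.bwd (nat_lit 9) (Steps.fwd (nat_lit 1048576) (Steps.fwd (nat_lit 2359296) (Steps.bwd (nat_lit 4) (Steps.bwd (nat_lit 9) (Steps.bwd (nat_lit 4) Steps.nil))))))))))))))) (nat_lit 106) (nat_lit 1),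
  Rule.mk (nat_lit 4) (nat_lit 314) (Steps.bwd (nat_lit 9) (Steps.bwd (nat_lit 4) (Steps.fwd (nat_lit 2359296) (Steps.bwd (nat_lit 4) (Steps.fwd (nat_lit 2097152) (Steps.fwd (nat_lit 1048576) (Steps.bwd (nat_lit 8) (Steps.fwd (nat_lit 1048576) (Steps.fwd (nat_lit 2097152) (Steps.fwd (nat_lit 1048576) (Steps.bwd (nat_lit 8) (Steps.bwd (nat_lit 4) (Steps.bwd (nat_lit 9) (Steps.fwd (nat_lit 1048576) (Steps.fwd (nat_lit 2359296) Steps.nil))))))))))))))) (nat_lit 106) (nat_lit 2),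
  Rule.mk (nat_lit 0) (nat_lit 134) (Steps.fwd (nat_lit 524288) (Steps.fwd (nat_lit 1572864) (Steps.fwd (nat_lit 1048576) (Steps.bwd (nat_lit 3) (Steps.bwd (nat_lit 5) (Steps.fwd (nat_lit 1048576) Steps.nil)))))) (nat_lit 55) (nat_lit 5),
  Rule.mk (nat_lit 0) (nat_lit 134) (Steps.bwd (nat_lit 4) (Steps.bwd (nat_lit 6) (Steps.fwd (nat_lit 786432) (Steps.fwd (nat_lit 1048576) (Steps.bwd (nat_lit 5) (Steps.fwd (nat_lit 786432) Steps.nil)))))) (nat_lit 54) (nat_lit 4),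
  Rule.mk (nat_lit 5) (nat_lit 114) (Steps.bwd (nat_lit 4) (Steps.bwd (nat_lit 2) (Steps.fwd (nat_lit 1572864) (Steps.bwd (nat_lit 4) (Steps.bwd (nat_lit 2) Steps.nil))))) (nat_lit 58) (nat_lit 2)]
noncomputable def R_93 : List (Rule) := [Rule.mk (nat_lit 2) (nat_lit 154) (Steps.fwd (nat_lit 1048576) (Steps.fwd (nat_lit 1310720) (Steps.bwd (nat_lit 7) (Steps.fwd (nat_lit 786432) (Steps.fwd (nat_lit 1048576) (Steps.bwd (nat_lit 6) (Steps.bwd (nat_lit 7) Steps.nil))))))) (nat_lit 78) (nat_lit 1),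
  Rule.mk (nat_lit 3) (nat_lit 114) (Steps.bwd (nat_lit 5) (Steps.bwd (nat_lit 7) (Steps.bwd (nat_lit 2) (Steps.fwd (nat_lit 1310720) (Steps.bwd (nat_lit 7) Steps.nil))))) (nat_lit 60) (nat_lit 4),
  Rule.mk (nat_lit 4) (nat_lit 154) (Steps.bwd (nat_lit 5) (Steps.bwd (nat_lit 7) (Steps.bwd (nat_lit 2) (Steps.fwd (nat_lit 1048576) (Steps.fwd (nat_lit 1572864) (Steps.fwd (nat_lit 1835008) (Steps.bwd (nat_lit 2) Steps.nil))))))) (nat_lit 78) (nat_lit 2),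
  Rule.mk (nat_lit 4) (nat_lit 114) (Steps.fwd (nat_lit 524288) (Steps.fwd (nat_lit 1835008) (Steps.bwd (nat_lit 4) (Steps.fwd (nat_lit 524288) (Steps.fwd (nat_lit 1835008) Steps.nil))))) (nat_lit 57) (nat_lit 2),
  Rule.mk (nat_lit 6) (nat_lit 274) (Steps.bwd (nat_lit 1) (Steps.fwd (nat_lit 524288) (Steps.fwd (nat_lit 1310720) (Steps.fwd (nat_lit 1572864) (Steps.bwd (nat_lit 1) (Steps.fwd (nat_lit 1572864) (Steps.fwd (nat_lit 262144) (Steps.fwd (nat_lit 524288) (Steps.fwd (nat_lit 262144) (Steps.bwd (nat_lit 6) (Steps.bwd (nat_lit 1) (Steps.fwd (nat_lit 524288) (Steps.fwd (nat_lit 262144) Steps.nil))))))))))))) (nat_lit 35) (nat_lit 12),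
  Rule.mk (nat_lit 8) (nat_lit 314) (Steps.fwd (nat_lit 1048576) (Steps.fwd (nat_lit 2097152) (Steps.bwd (nat_lit 4) (Steps.fwd (nat_lit 2359296) (Steps.fwd (nat_lit 1048576) (Steps.bwd (nat_lit 9) (Steps.fwd (nat_lit 1048576) (Steps.fwd (nat_lit 2359296) (Steps.bwd (nat_lit 4) (Steps.fwd (nat_lit 2097152) (Steps.fwd (nat_lit 1048576) (Steps.bwd (nat_lit 8) (Steps.fwd (nat_lit 1048576) (Steps.bwd (nat_lit 9) (Steps.bwd (nat_lit 4) Steps.nil))))))))))))))) (nat_lit 106) (nat_lit 1),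
  Rule.mk (nat_lit 4) (nat_lit 314) (Steps.fwd (nat_lit 2097152) (Steps.fwd (nat_lit 1048576) (Steps.bwd (nat_lit 8) (Steps.bwd (nat_lit 4) (Steps.bwd (nat_lit 9) (Steps.bwd (nat_lit 4) (Steps.bwd (nat_lit 8) (Steps.bwd (nat_lit 4) (Steps.bwd (nat_lit 9) (Steps.bwd (nat_lit 4) (Steps.fwd (nat_lit 2359296) (Steps.fwd (nat_lit 1048576) (Steps.fwd (nat_lit 2097152) (Steps.fwd (nat_lit 1048576) (Steps.fwd (nat_lit 2359296) Steps.nil))))))))))))))) (nat_lit 106) (nat_lit 2),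
  Rule.mk (nat_lit 4) (nat_lit 154) (Steps.fwd (nat_lit 1835008) (Steps.bwd (nat_lit 5) (Steps.bwd (nat_lit 3) (Steps.bwd (nat_lit 4) (Steps.fwd (nat_lit 1835008) (Steps.fwd (nat_lit 1572864) (Steps.bwd (nat_lit 3) Steps.nil))))))) (nat_lit 89) (nat_lit 5),
  Rule.mk (nat_lit 7) (nat_lit 154) (Steps.bwd (nat_lit 6) (Steps.fwd (nat_lit 786432) (Steps.fwd (nat_lit 1048576) (Steps.fwd (nat_lit 1835008) (Steps.fwd (nat_lit 1310720) (Steps.bwd (nat_lit 2) (Steps.fwd (nat_lit 1048576) Steps.nil))))))) (nat_lit 80) (nat_lit 7),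
  Rule.mk (nat_lit 4) (nat_lit 114) (Steps.bwd (nat_lit 7) (Steps.fwd (nat_lit 524288) (Steps.fwd (nat_lit 1048576) (Steps.bwd (nat_lit 7) (Steps.bwd (nat_lit 3) Steps.nil))))) (nat_lit 65) (nat_lit 1),
  Rule.mk (nat_lit 4) (nat_lit 114) (Steps.bwd (nat_lit 7) (Steps.bwd (nat_lit 6) (Steps.fwd (nat_lit 1048576) (Steps.bwd (nat_lit 7) (Steps.bwd (nat_lit 5) Steps.nil))))) (nat_lit 67) (nat_lit 0),
  Rule.mk (nat_lit 4) (nat_lit 154) (Steps.bwd (nat_lit 3) (Steps.bwd (nat_lit 7) (Steps.bwd (nat_lit 6) (Steps.bwd (nat_lit 4) (Steps.bwd (nat_lit 3) (Steps.fwd (nat_lit 1835008) (Steps.fwd (nat_lit 1310720) Steps.nil))))))) (nat_lit 79) (nat_lit 7),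
  Rule.mk (nat_lit 1) (nat_lit 154) (Steps.bwd (nat_lit 7) (Steps.bwd (nat_lit 3) (Steps.bwd (nat_lit 1) (Steps.bwd (nat_lit 3) (Steps.fwd (nat_lit 1835008) (Steps.fwd (nat_lit 262144) (Steps.bwd (nat_lit 3) Steps.nil))))))) (nat_lit 73) (nat_lit 0),
  Rule.mk (nat_lit 1) (nat_lit 274) (Steps.bwd (nat_lit 6) (Steps.bwd (nat_lit 1) (Steps.bwd (nat_lit 6) (Steps.bwd (nat_lit 5) (Steps.bwd (nat_lit 2) (Steps.bwd (nat_lit 1) (Steps.fwd (nat_lit 1572864) (Steps.fwd (nat_lit 262144) (Steps.fwd (nat_lit 786432) (Steps.fwd (nat_lit 262144) (Steps.fwd (nat_lit 1572864) (Steps.bwd (nat_lit 1) (Steps.fwd (nat_lit 786432) Steps.nil))))))))))))) (nat_lit 34) (nat_lit 10),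
  Rule.mk (nat_lit 4) (nat_lit 154) (Steps.fwd (nat_lit 262144) (Steps.fwd (nat_lit 1572864) (Steps.fwd (nat_lit 262144) (Steps.fwd (nat_lit 1048576) (Steps.bwd (nat_lit 1) (Steps.fwd (nat_lit 1572864) (Steps.fwd (nat_lit 262144) Steps.nil))))))) (nat_lit 74) (nat_lit 2),
  Rule.mk (nat_lit 1) (nat_lit 154) (Steps.bwd (nat_lit 7) (Steps.bwd (nat_lit 4) (Steps.bwd (nat_lit 1) (Steps.fwd (nat_lit 1048576) (Steps.fwd (nat_lit 1835008) (Steps.bwd (nat_lit 1) (Steps.bwd (nat_lit 4) Steps.nil))))))) (nat_lit 76) (nat_lit 3),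
  Rule.mk (nat_lit 1) (nat_lit 114) (Steps.bwd (nat_lit 7) (Steps.fwd (nat_lit 1310720) (Steps.bwd (nat_lit 1) (Steps.bwd (nat_lit 7) (Steps.bwd (nat_lit 5) Steps.nil))))) (nat_lit 53) (nat_lit 0),
  Rule.mk (nat_lit 9) (nat_lit 114) (Steps.fwd (nat_lit 262144) (Steps.bwd (nat_lit 8) (Steps.fwd (nat_lit 786432) (Steps.bwd (nat_lit 1) (Steps.bwd (nat_lit 3) Steps.nil))))) (nat_lit 104) (nat_lit 5),
  Rule.mk (nat_lit 7) (nat_lit 154) (Steps.bwd (nat_lit 1) (Steps.fwd (nat_lit 786432) (Steps.bwd (nat_lit 1) (Steps.fwd (nat_lit 1835008) (Steps.bwd (nat_lit 2) (Steps.bwd (nat_lit 1) (Steps.bwd (nat_lit 2) Steps.nil))))))) (nat_lit 72) (nat_lit 0),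
  Rule.mk (nat_lit 6) (nat_lit 154) (Steps.fwd (nat_lit 786432) (Steps.bwd (nat_lit 5) (Steps.fwd (nat_lit 1572864) (Steps.fwd (nat_lit 786432) (Steps.fwd (nat_lit 1310720) (Steps.bwd (nat_lit 2) (Steps.bwd (nat_lit 7) Steps.nil))))))) (nat_lit 84) (nat_lit 5),
  Rule.mk (nat_lit 4) (nat_lit 154) (Steps.fwd (nat_lit 786432) (Steps.fwd (nat_lit 1310720) (Steps.bwd (nat_lit 7) (Steps.bwd (nat_lit 4) (Steps.bwd (nat_lit 2) (Steps.bwd (nat_lit 6) (Steps.fwd (nat_lit 1835008) Steps.nil))))))) (nat_lit 88) (nat_lit 0),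
  Rule.mk (nat_lit 4) (nat_lit 154) (Steps.fwd (nat_lit 1572864) (Steps.bwd (nat_lit 2) (Steps.bwd (nat_lit 7) (Steps.bwd (nat_lit 4) (Steps.fwd (nat_lit 1310720) (Steps.bwd (nat_lit 2) (Steps.bwd (nat_lit 7) Steps.nil))))))) (nat_lit 90) (nat_lit 7),
  Rule.mk (nat_lit 5) (nat_lit 154) (Steps.fwd (nat_lit 1048576) (Steps.bwd (nat_lit 2) (Steps.bwd (nat_lit 7) (Steps.fwd (nat_lit 1572864) (Steps.bwd (nat_lit 4) (Steps.bwd (nat_lit 2) (Steps.bwd (nat_lit 7) Steps.nil))))))) (nat_lit 92) (nat_lit 3),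
  Rule.mk (nat_lit 3) (nat_lit 114) (Steps.bwd (nat_lit 5) (Steps.fwd (nat_lit 1048576) (Steps.bwd (nat_lit 3) (Steps.bwd (nat_lit 6) (Steps.fwd (nat_lit 1048576) Steps.nil))))) (nat_lit 55) (nat_lit 3),
  Rule.mk (nat_lit 0) (nat_lit 134) (Steps.bwd (nat_lit 4) (Steps.bwd (nat_lit 6) (Steps.fwd (nat_lit 786432) (Steps.fwd (nat_lit 1048576) (Steps.bwd (nat_lit 5) (Steps.bwd (nat_lit 2) Steps.nil)))))) (nat_lit 54) (nat_lit 4),
  Rule.mk (nat_lit 0) (nat_lit 174) (Steps.fwd (nat_lit 1048576) (Steps.bwd (nat_lit 1) (Steps.fwd (nat_lit 1572864) (Steps.fwd (nat_lit 262144) (Steps.bwd (nat_lit 4) (Steps.bwd (nat_lit 1) (Steps.fwd (nat_lit 1572864) (Steps.fwd (nat_lit 262144) Steps.nil)))))))) (nat_lit 74) (nat_lit 1),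
  Rule.mk (nat_lit 4) (nat_lit 314) (Steps.fwd (nat_lit 2359296) (Steps.bwd (nat_lit 4) (Steps.fwd (nat_lit 2097152) (Steps.bwd (nat_lit 4) (Steps.fwd (nat_lit 2359296) (Steps.fwd (nat_lit 1048576) (Steps.bwd (nat_lit 9) (Steps.fwd (nat_lit 1048576) (Steps.fwd (nat_lit 2359296) (Steps.bwd (nat_lit 4) (Steps.fwd (nat_lit 2097152) (Steps.bwd (nat_lit 4) (Steps.bwd (nat_lit 8) (Steps.fwd (nat_lit 1048576) (Steps.fwd (nat_lit 2097152) Steps.nil))))))))))))))) (nat_lit 106) (nat_lit 0),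
  Rule.mk (nat_lit 4) (nat_lit 314) (Steps.bwd (nat_lit 8) (Steps.bwd (nat_lit 4) (Steps.bwd (nat_lit 9) (Steps.bwd (nat_lit 4) (Steps.bwd (nat_lit 8) (Steps.bwd (nat_lit 4) (Steps.fwd (nat_lit 2097152) (Steps.fwd (nat_lit 1048576) (Steps.fwd (nat_lit 2359296) (Steps.fwd (nat_lit 1048576) (Steps.fwd (nat_lit 2097152) (Steps.bwd (nat_lit 4) (Steps.fwd (nat_lit 2359296) (Steps.bwd (nat_lit 4) (Steps.fwd (nat_lit 2097152) Steps.nil))))))))))))))) (nat_lit 106) (nat_lit 0),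
  Rule.mk (nat_lit 4) (nat_lit 154) (Steps.bwd (nat_lit 5) (Steps.bwd (nat_lit 7) (Steps.bwd (nat_lit 2) (Steps.bwd (nat_lit 4) (Steps.bwd (nat_lit 6) (Steps.fwd (nat_lit 1835008) (Steps.bwd (nat_lit 2) Steps.nil))))))) (nat_lit 78) (nat_lit 2),
  Rule.mk (nat_lit 0) (nat_lit 174) (Steps.bwd (nat_lit 1) (Steps.bwd (nat_lit 7) (Steps.bwd (nat_lit 4) (Steps.fwd (nat_lit 262144) (Steps.fwd (nat_lit 1048576) (Steps.bwd (nat_lit 7) (Steps.fwd (nat_lit 262144) (Steps.fwd (nat_lit 1048576) Steps.nil)))))))) (nat_lit 76) (nat_lit 2),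
  Rule.mk (nat_lit 0) (nat_lit 94) (Steps.bwd (nat_lit 1) (Steps.fwd (nat_lit 1310720) (Steps.fwd (nat_lit 262144) (Steps.fwd (nat_lit 1310720) Steps.nil)))) (nat_lit 18) (nat_lit 0),
  Rule.mk (nat_lit 0) (nat_lit 134) (Steps.bwd (nat_lit 7) (Steps.fwd (nat_lit 1310720) (Steps.fwd (nat_lit 262144) (Steps.bwd (nat_lit 7) (Steps.bwd (nat_lit 5) (Steps.fwd (nat_lit 262144) Steps.nil)))))) (nat_lit 53) (nat_lit 0),
  Rule.mk (nat_lit 0) (nat_lit 134) (Steps.bwd (nat_lit 1) (Steps.fwd (nat_lit 2359296) (Steps.fwd (nat_lit 786432) (Steps.bwd (nat_lit 1) (Steps.fwd (nat_lit 524288) (Steps.bwd (nat_lit 9) Steps.nil)))))) (nat_lit 104) (nat_lit 5),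
  Rule.mk (nat_lit 1) (nat_lit 154) (Steps.fwd (nat_lit 786432) (Steps.bwd (nat_lit 1) (Steps.fwd (nat_lit 524288) (Steps.fwd (nat_lit 262144) (Steps.fwd (nat_lit 786432) (Steps.fwd (nat_lit 262144) (Steps.fwd (nat_lit 524288) Steps.nil))))))) (nat_lit 68) (nat_lit 1),
  Rule.mk (nat_lit 1) (nat_lit 154) (Steps.fwd (nat_lit 524288) (Steps.bwd (nat_lit 1) (Steps.bwd (nat_lit 2) (Steps.bwd (nat_lit 1) (Steps.bwd (nat_lit 3) (Steps.bwd (nat_lit 1) (Steps.bwd (nat_lit 2) Steps.nil))))))) (nat_lit 68) (nat_lit 3),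
  Rule.mk (nat_lit 1) (nat_lit 154) (Steps.fwd (nat_lit 786432) (Steps.fwd (nat_lit 262144) (Steps.fwd (nat_lit 1310720) (Steps.fwd (nat_lit 786432) (Steps.bwd (nat_lit 1) (Steps.bwd (nat_lit 2) (Steps.fwd (nat_lit 1310720) Steps.nil))))))) (nat_lit 70) (nat_lit 1),
  Rule.mk (nat_lit 1) (nat_lit 154) (Steps.bwd (nat_lit 7) (Steps.fwd (nat_lit 786432) (Steps.bwd (nat_lit 1) (Steps.bwd (nat_lit 2) (Steps.fwd (nat_lit 1835008) (Steps.fwd (nat_lit 262144) (Steps.fwd (nat_lit 786432) Steps.nil))))))) (nat_lit 72) (nat_lit 3),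
  Rule.mk (nat_lit 0) (nat_lit 294) (Steps.bwd (nat_lit 1) (Steps.bwd (nat_lit 6) (Steps.bwd (nat_lit 1) (Steps.bwd (nat_lit 2) (Steps.fwd (nat_lit 262144) (Steps.fwd (nat_lit 1572864) (Steps.bwd (nat_lit 1) (Steps.bwd (nat_lit 2) (Steps.bwd (nat_lit 1) (Steps.bwd (nat_lit 6) (Steps.bwd (nat_lit 1) (Steps.fwd (nat_lit 1572864) (Steps.bwd (nat_lit 5) (Steps.bwd (nat_lit 2) Steps.nil)))))))))))))) (nat_lit 34) (nat_lit 1),
  Rule.mk (nat_lit 1) (nat_lit 274) (Steps.fwd (nat_lit 524288) (Steps.bwd (nat_lit 1) (Steps.bwd (nat_lit 6) (Steps.bwd (nat_lit 1) (Steps.bwd (nat_lit 3) (Steps.bwd (nat_lit 1) (Steps.fwd (nat_lit 1572864) (Steps.bwd (nat_lit 1) (Steps.fwd (nat_lit 524288) (Steps.fwd (nat_lit 1310720) (Steps.bwd (nat_lit 6) (Steps.bwd (nat_lit 1) (Steps.bwd (nat_lit 6) Steps.nil))))))))))))) (nat_lit 35) (nat_lit 5),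
  Rule.mk (nat_lit 1) (nat_lit 154) (Steps.bwd (nat_lit 5) (Steps.bwd (nat_lit 2) (Steps.bwd (nat_lit 1) (Steps.bwd (nat_lit 2) (Steps.bwd (nat_lit 5) (Steps.fwd (nat_lit 262144) (Steps.bwd (nat_lit 2) Steps.nil))))))) (nat_lit 70) (nat_lit 3),
  Rule.mk (nat_lit 0) (nat_lit 174) (Steps.bwd (nat_lit 1) (Steps.fwd (nat_lit 524288) (Steps.bwd (nat_lit 1) (Steps.fwd (nat_lit 1835008) (Steps.bwd (nat_lit 3) (Steps.fwd (nat_lit 262144) (Steps.fwd (nat_lit 524288) (Steps.bwd (nat_lit 7) Steps.nil)))))))) (nat_lit 73) (nat_lit 5),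
  Rule.mk (nat_lit 1) (nat_lit 274) (Steps.bwd (nat_lit 3) (Steps.fwd (nat_lit 1310720) (Steps.fwd (nat_lit 1572864) (Steps.bwd (nat_lit 1) (Steps.bwd (nat_lit 6) (Steps.bwd (nat_lit 1) (Steps.bwd (nat_lit 3) (Steps.bwd (nat_lit 1) (Steps.fwd (nat_lit 1572864) (Steps.fwd (nat_lit 262144) (Steps.fwd (nat_lit 524288) (Steps.bwd (nat_lit 1) (Steps.fwd (nat_lit 1572864) Steps.nil))))))))))))) (nat_lit 35) (nat_lit 13),
  Rule.mk (nat_lit 0) (nat_lit 294) (Steps.fwd (nat_lit 786432) (Steps.fwd (nat_lit 262144) (Steps.bwd (nat_lit 6) (Steps.bwd (nat_lit 1) (Steps.bwd (nat_lit 6) (Steps.fwd (nat_lit 1310720) (Steps.bwd (nat_lit 2) (Steps.bwd (nat_lit 1) (Steps.bwd (nat_lit 6) (Steps.bwd (nat_lit 1) (Steps.fwd (nat_lit 786432) (Steps.bwd (nat_lit 1) (Steps.fwd (nat_lit 1572864) (Steps.fwd (nat_lit 262144) Steps.nil)))))))))))))) (nat_lit 34) (nat_lit 8),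
  Rule.mk (nat_lit 1) (nat_lit 274) (Steps.fwd (nat_lit 1572864) (Steps.fwd (nat_lit 262144) (Steps.bwd (nat_lit 3) (Steps.fwd (nat_lit 1310720) (Steps.bwd (nat_lit 6) (Steps.fwd (nat_lit 262144) (Steps.fwd (nat_lit 1572864) (Steps.fwd (nat_lit 262144) (Steps.fwd (nat_lit 524288) (Steps.bwd (nat_lit 1) (Steps.fwd (nat_lit 1572864) (Steps.fwd (nat_lit 262144) (Steps.fwd (nat_lit 524288) Steps.nil))))))))))))) (nat_lit 35) (nat_lit 11),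
  Rule.mk (nat_lit 1) (nat_lit 154) (Steps.bwd (nat_lit 5) (Steps.fwd (nat_lit 786432) (Steps.bwd (nat_lit 1) (Steps.fwd (nat_lit 786432) (Steps.fwd (nat_lit 1310720) (Steps.fwd (nat_lit 262144) (Steps.fwd (nat_lit 786432) Steps.nil))))))) (nat_lit 70) (nat_lit 3),
  Rule.mk (nat_lit 1) (nat_lit 154) (Steps.bwd (nat_lit 2) (Steps.fwd (nat_lit 262144) (Steps.fwd (nat_lit 1835008) (Steps.fwd (nat_lit 786432) (Steps.bwd (nat_lit 1) (Steps.fwd (nat_lit 786432) (Steps.fwd (nat_lit 1835008) Steps.nil))))))) (nat_lit 72) (nat_lit 1),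
  Rule.mk (nat_lit 1) (nat_lit 274) (Steps.bwd (nat_lit 6) (Steps.bwd (nat_lit 1) (Steps.fwd (nat_lit 786432) (Steps.bwd (nat_lit 1) (Steps.bwd (nat_lit 6) (Steps.bwd (nat_lit 1) (Steps.fwd (nat_lit 1572864) (Steps.bwd (nat_lit 5) (Steps.fwd (nat_lit 786432) (Steps.fwd (nat_lit 262144) (Steps.bwd (nat_lit 6) (Steps.fwd (nat_lit 262144) (Steps.bwd (nat_lit 2) Steps.nil))))))))))))) (nat_lit 34) (nat_lit 6),
  Rule.mk (nat_lit 1) (nat_lit 274) (Steps.fwd (nat_lit 1572864) (Steps.bwd (nat_lit 5) (Steps.fwd (nat_lit 786432) (Steps.bwd (nat_lit 1) (Steps.fwd (nat_lit 1572864) (Steps.fwd (nat_lit 262144) (Steps.bwd (nat_lit 2) (Steps.bwd (nat_lit 1) (Steps.fwd (nat_lit 1572864) (Steps.fwd (nat_lit 262144) (Steps.bwd (nat_lit 2) (Steps.bwd (nat_lit 1) (Steps.bwd (nat_lit 6) Steps.nil))))))))))))) (nat_lit 34) (nat_lit 12),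
  Rule.mk (nat_lit 1) (nat_lit 274) (Steps.fwd (nat_lit 524288) (Steps.fwd (nat_lit 1310720) (Steps.fwd (nat_lit 1572864) (Steps.bwd (nat_lit 1) (Steps.fwd (nat_lit 1572864) (Steps.fwd (nat_lit 262144) (Steps.fwd (nat_lit 524288) (Steps.bwd (nat_lit 1) (Steps.fwd (nat_lit 1572864) (Steps.fwd (nat_lit 262144) (Steps.bwd (nat_lit 3) (Steps.bwd (nat_lit 1) (Steps.bwd (nat_lit 6) Steps.nil))))))))))))) (nat_lit 35) (nat_lit 13),
  Rule.mk (nat_lit 0) (nat_lit 174) (Steps.bwd (nat_lit 1) (Steps.bwd (nat_lit 5) (Steps.bwd (nat_lit 3) (Steps.fwd (nat_lit 262144) (Steps.bwd (nat_lit 3) (Steps.bwd (nat_lit 5) (Steps.bwd (nat_lit 1) (Steps.bwd (nat_lit 3) Steps.nil)))))))) (nat_lit 71) (nat_lit 7),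
  Rule.mk (nat_lit 1) (nat_lit 274) (Steps.fwd (nat_lit 1572864) (Steps.bwd (nat_lit 1) (Steps.bwd (nat_lit 2) (Steps.bwd (nat_lit 1) (Steps.bwd (nat_lit 6) (Steps.fwd (nat_lit 262144) (Steps.fwd (nat_lit 786432) (Steps.bwd (nat_lit 1) (Steps.bwd (nat_lit 6) (Steps.bwd (nat_lit 1) (Steps.bwd (nat_lit 6) (Steps.fwd (nat_lit 1310720) (Steps.bwd (nat_lit 2) Steps.nil))))))))))))) (nat_lit 34) (nat_lit 2),
  Rule.mk (nat_lit 1) (nat_lit 274) (Steps.fwd (nat_lit 1572864) (Steps.bwd (nat_lit 5) (Steps.fwd (nat_lit 786432) (Steps.fwd (nat_lit 262144) (Steps.fwd (nat_lit 1572864) (Steps.bwd (nat_lit 1) (Steps.bwd (nat_lit 2) (Steps.bwd (nat_lit 1) (Steps.bwd (nat_lit 6) (Steps.fwd (nat_lit 262144) (Steps.fwd (nat_lit 786432) (Steps.bwd (nat_lit 1) (Steps.bwd (nat_lit 6) Steps.nil))))))))))))) (nat_lit 34) (nat_lit 12),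
  Rule.mk (nat_lit 1) (nat_lit 274) (Steps.fwd (nat_lit 1572864) (Steps.bwd (nat_lit 1) (Steps.bwd (nat_lit 3) (Steps.fwd (nat_lit 1310720) (Steps.fwd (nat_lit 1572864) (Steps.bwd (nat_lit 1) (Steps.bwd (nat_lit 6) (Steps.bwd (nat_lit 1) (Steps.fwd (nat_lit 524288) (Steps.fwd (nat_lit 262144) (Steps.bwd (nat_lit 6) (Steps.bwd (nat_lit 1) (Steps.bwd (nat_lit 3) Steps.nil))))))))))))) (nat_lit 35) (nat_lit 11),
  Rule.mk (nat_lit 1) (nat_lit 154) (Steps.fwd (nat_lit 1310720) (Steps.bwd (nat_lit 2) (Steps.bwd (nat_lit 1) (Steps.bwd (nat_lit 2) (Steps.fwd (nat_lit 1310720) (Steps.fwd (nat_lit 262144) (Steps.bwd (nat_lit 2) Steps.nil))))))) (nat_lit 70) (nat_lit 3),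
  Rule.mk (nat_lit 4) (nat_lit 154) (Steps.bwd (nat_lit 1) (Steps.fwd (nat_lit 1572864) (Steps.bwd (nat_lit 1) (Steps.fwd (nat_lit 1048576) (Steps.fwd (nat_lit 262144) (Steps.fwd (nat_lit 1572864) (Steps.fwd (nat_lit 262144) Steps.nil))))))) (nat_lit 74) (nat_lit 2),
  Rule.mk (nat_lit 4) (nat_lit 154) (Steps.fwd (nat_lit 1835008) (Steps.bwd (nat_lit 1) (Steps.fwd (nat_lit 1048576) (Steps.fwd (nat_lit 262144) (Steps.fwd (nat_lit 1835008) (Steps.bwd (nat_lit 4) (Steps.bwd (nat_lit 1) Steps.nil))))))) (nat_lit 76) (nat_lit 7),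
  Rule.mk (nat_lit 1) (nat_lit 274) (Steps.fwd (nat_lit 786432) (Steps.fwd (nat_lit 262144) (Steps.bwd (nat_lit 6) (Steps.bwd (nat_lit 1) (Steps.bwd (nat_lit 2) (Steps.bwd (nat_lit 1) (Steps.fwd (nat_lit 1572864) (Steps.bwd (nat_lit 1) (Steps.fwd (nat_lit 1572864) (Steps.fwd (nat_lit 1310720) (Steps.bwd (nat_lit 2) (Steps.bwd (nat_lit 1) (Steps.fwd (nat_lit 1572864) Steps.nil))))))))))))) (nat_lit 34) (nat_lit 4),
  Rule.mk (nat_lit 0) (nat_lit 294) (Steps.bwd (nat_lit 1) (Steps.bwd (nat_lit 6) (Steps.bwd (nat_lit 1) (Steps.fwd (nat_lit 786432) (Steps.fwd (nat_lit 262144) (Steps.bwd (nat_lit 6) (Steps.fwd (nat_lit 262144) (Steps.fwd (nat_lit 786432) (Steps.fwd (nat_lit 262144) (Steps.fwd (nat_lit 1572864) (Steps.bwd (nat_lit 1) (Steps.bwd (nat_lit 6) (Steps.bwd (nat_lit 5) (Steps.fwd (nat_lit 786432) Steps.nil)))))))))))))) (nat_lit 34) (nat_lit 1),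
  Rule.mk (nat_lit 1) (nat_lit 154) (Steps.fwd (nat_lit 786432) (Steps.bwd (nat_lit 1) (Steps.bwd (nat_lit 5) (Steps.fwd (nat_lit 786432) (Steps.bwd (nat_lit 1) (Steps.bwd (nat_lit 2) (Steps.fwd (nat_lit 1310720) Steps.nil))))))) (nat_lit 70) (nat_lit 1),
  Rule.mk (nat_lit 4) (nat_lit 154) (Steps.fwd (nat_lit 262144) (Steps.bwd (nat_lit 6) (Steps.bwd (nat_lit 1) (Steps.fwd (nat_lit 1048576) (Steps.bwd (nat_lit 1) (Steps.fwd (nat_lit 1572864) (Steps.fwd (nat_lit 262144) Steps.nil))))))) (nat_lit 74) (nat_lit 2),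
  Rule.mk (nat_lit 1) (nat_lit 274) (Steps.fwd (nat_lit 524288) (Steps.bwd (nat_lit 5) (Steps.bwd (nat_lit 6) (Steps.bwd (nat_lit 1) (Steps.fwd (nat_lit 1572864) (Steps.bwd (nat_lit 1) (Steps.bwd (nat_lit 3) (Steps.bwd (nat_lit 1) (Steps.fwd (nat_lit 1572864) (Steps.fwd (nat_lit 262144) (Steps.fwd (nat_lit 524288) (Steps.bwd (nat_lit 1) (Steps.fwd (nat_lit 1572864) Steps.nil))))))))))))) (nat_lit 35) (nat_lit 13),
  Rule.mk (nat_lit 3) (nat_lit 154) (Steps.bwd (nat_lit 7) (Steps.fwd (nat_lit 1310720) (Steps.bwd (nat_lit 4) (Steps.bwd (nat_lit 3) (Steps.fwd (nat_lit 1835008) (Steps.fwd (nat_lit 1572864) (Steps.fwd (nat_lit 1048576) Steps.nil))))))) (nat_lit 79) (nat_lit 4),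
  Rule.mk (nat_lit 7) (nat_lit 154) (Steps.bwd (nat_lit 3) (Steps.fwd (nat_lit 1310720) (Steps.bwd (nat_lit 4) (Steps.fwd (nat_lit 1835008) (Steps.bwd (nat_lit 3) (Steps.fwd (nat_lit 1572864) (Steps.fwd (nat_lit 1048576) Steps.nil))))))) (nat_lit 91) (nat_lit 3),
  Rule.mk (nat_lit 2) (nat_lit 154) (Steps.bwd (nat_lit 7) (Steps.fwd (nat_lit 1310720) (Steps.bwd (nat_lit 4) (Steps.bwd (nat_lit 2) (Steps.fwd (nat_lit 1835008) (Steps.bwd (nat_lit 6) (Steps.bwd (nat_lit 4) Steps.nil))))))) (nat_lit 92) (nat_lit 1)]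
noncomputable def R_94 : List (Rule) := [Rule.mk (nat_lit 2) (nat_lit 274) (Steps.fwd (nat_lit 262144) (Steps.bwd (nat_lit 6) (Steps.bwd (nat_lit 1) (Steps.fwd (nat_lit 1572864) (Steps.bwd (nat_lit 5) (Steps.bwd (nat_lit 2) (Steps.bwd (nat_lit 1) (Steps.bwd (nat_lit 6) (Steps.fwd (nat_lit 262144) (Steps.fwd (nat_lit 786432) (Steps.fwd (nat_lit 262144) (Steps.fwd (nat_lit 1572864) (Steps.fwd (nat_lit 262144) Steps.nil))))))))))))) (nat_lit 34) (nat_lit 9),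
  Rule.mk (nat_lit 4) (nat_lit 114) (Steps.bwd (nat_lit 7) (Steps.bwd (nat_lit 2) (Steps.fwd (nat_lit 1048576) (Steps.bwd (nat_lit 7) (Steps.fwd (nat_lit 786432) Steps.nil))))) (nat_lit 56) (nat_lit 2),
  Rule.mk (nat_lit 1) (nat_lit 154) (Steps.bwd (nat_lit 7) (Steps.bwd (nat_lit 2) (Steps.fwd (nat_lit 262144) (Steps.fwd (nat_lit 786432) (Steps.fwd (nat_lit 1835008) (Steps.bwd (nat_lit 1) (Steps.bwd (nat_lit 2) Steps.nil))))))) (nat_lit 72) (nat_lit 3),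
  Rule.mk (nat_lit 5) (nat_lit 154) (Steps.bwd (nat_lit 7) (Steps.bwd (nat_lit 2) (Steps.fwd (nat_lit 1048576) (Steps.bwd (nat_lit 6) (Steps.bwd (nat_lit 7) (Steps.bwd (nat_lit 2) (Steps.fwd (nat_lit 1048576) Steps.nil))))))) (nat_lit 78) (nat_lit 3),
  Rule.mk (nat_lit 3) (nat_lit 114) (Steps.bwd (nat_lit 5) (Steps.fwd (nat_lit 1048576) (Steps.bwd (nat_lit 3) (Steps.fwd (nat_lit 1572864) (Steps.bwd (nat_lit 4) Steps.nil))))) (nat_lit 55) (nat_lit 3),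
  Rule.mk (nat_lit 4) (nat_lit 114) (Steps.fwd (nat_lit 1572864) (Steps.bwd (nat_lit 3) (Steps.fwd (nat_lit 1048576) (Steps.bwd (nat_lit 5) (Steps.fwd (nat_lit 524288) Steps.nil))))) (nat_lit 59) (nat_lit 1),
  Rule.mk (nat_lit 4) (nat_lit 154) (Steps.fwd (nat_lit 1572864) (Steps.bwd (nat_lit 3) (Steps.fwd (nat_lit 1835008) (Steps.fwd (nat_lit 1048576) (Steps.bwd (nat_lit 5) (Steps.fwd (nat_lit 524288) (Steps.bwd (nat_lit 7) Steps.nil))))))) (nat_lit 87) (nat_lit 2),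
  Rule.mk (nat_lit 1) (nat_lit 274) (Steps.bwd (nat_lit 3) (Steps.bwd (nat_lit 1) (Steps.bwd (nat_lit 6) (Steps.fwd (nat_lit 262144) (Steps.bwd (nat_lit 3) (Steps.bwd (nat_lit 5) (Steps.bwd (nat_lit 6) (Steps.bwd (nat_lit 1) (Steps.bwd (nat_lit 6) (Steps.fwd (nat_lit 262144) (Steps.bwd (nat_lit 3) (Steps.fwd (nat_lit 262144) (Steps.bwd (nat_lit 6) Steps.nil))))))))))))) (nat_lit 35) (nat_lit 9),
  Rule.mk (nat_lit 3) (nat_lit 154) (Steps.fwd (nat_lit 1835008) (Steps.bwd (nat_lit 1) (Steps.bwd (nat_lit 3) (Steps.bwd (nat_lit 1) (Steps.bwd (nat_lit 7) (Steps.bwd (nat_lit 3) (Steps.fwd (nat_lit 262144) Steps.nil))))))) (nat_lit 73) (nat_lit 4),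
  Rule.mk (nat_lit 0) (nat_lit 134) (Steps.bwd (nat_lit 4) (Steps.bwd (nat_lit 6) (Steps.fwd (nat_lit 786432) (Steps.fwd (nat_lit 1048576) (Steps.fwd (nat_lit 1310720) (Steps.fwd (nat_lit 786432) Steps.nil)))))) (nat_lit 54) (nat_lit 4),
  Rule.mk (nat_lit 4) (nat_lit 154) (Steps.bwd (nat_lit 3) (Steps.bwd (nat_lit 7) (Steps.fwd (nat_lit 1572864) (Steps.bwd (nat_lit 4) (Steps.bwd (nat_lit 3) (Steps.fwd (nat_lit 1835008) (Steps.fwd (nat_lit 1310720) Steps.nil))))))) (nat_lit 79) (nat_lit 7),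
  Rule.mk (nat_lit 4) (nat_lit 154) (Steps.bwd (nat_lit 7) (Steps.bwd (nat_lit 2) (Steps.bwd (nat_lit 6) (Steps.bwd (nat_lit 4) (Steps.bwd (nat_lit 7) (Steps.fwd (nat_lit 786432) (Steps.fwd (nat_lit 1310720) Steps.nil))))))) (nat_lit 86) (nat_lit 3),
  Rule.mk (nat_lit 4) (nat_lit 154) (Steps.bwd (nat_lit 1) (Steps.fwd (nat_lit 1835008) (Steps.fwd (nat_lit 1048576) (Steps.fwd (nat_lit 262144) (Steps.bwd (nat_lit 4) (Steps.fwd (nat_lit 1835008) (Steps.bwd (nat_lit 1) Steps.nil))))))) (nat_lit 76) (nat_lit 2),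
  Rule.mk (nat_lit 4) (nat_lit 154) (Steps.fwd (nat_lit 1572864) (Steps.bwd (nat_lit 7) (Steps.fwd (nat_lit 786432) (Steps.bwd (nat_lit 4) (Steps.bwd (nat_lit 5) (Steps.bwd (nat_lit 7) (Steps.fwd (nat_lit 786432) Steps.nil))))))) (nat_lit 78) (nat_lit 6),
  Rule.mk (nat_lit 4) (nat_lit 154) (Steps.bwd (nat_lit 6) (Steps.bwd (nat_lit 7) (Steps.fwd (nat_lit 786432) (Steps.bwd (nat_lit 4) (Steps.fwd (nat_lit 1310720) (Steps.bwd (nat_lit 7) (Steps.fwd (nat_lit 786432) Steps.nil))))))) (nat_lit 78) (nat_lit 6),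
  Rule.mk (nat_lit 0) (nat_lit 334) (Steps.bwd (nat_lit 8) (Steps.bwd (nat_lit 4) (Steps.bwd (nat_lit 9) (Steps.bwd (nat_lit 4) (Steps.fwd (nat_lit 2359296) (Steps.fwd (nat_lit 1048576) (Steps.fwd (nat_lit 2097152) (Steps.fwd (nat_lit 1048576) (Steps.bwd (nat_lit 8) (Steps.bwd (nat_lit 4) (Steps.fwd (nat_lit 2097152) (Steps.bwd (nat_lit 4) (Steps.fwd (nat_lit 2359296) (Steps.fwd (nat_lit 1048576) (Steps.bwd (nat_lit 9) (Steps.fwd (nat_lit 1048576) Steps.nil)))))))))))))))) (nat_lit 106) (nat_lit 0),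
  Rule.mk (nat_lit 0) (nat_lit 94) (Steps.fwd (nat_lit 786432) (Steps.bwd (nat_lit 9) (Steps.bwd (nat_lit 3) (Steps.fwd (nat_lit 2359296) Steps.nil)))) (nat_lit 96) (nat_lit 1),
  Rule.mk (nat_lit 4) (nat_lit 114) (Steps.fwd (nat_lit 786432) (Steps.fwd (nat_lit 1310720) (Steps.fwd (nat_lit 1048576) (Steps.bwd (nat_lit 2) (Steps.bwd (nat_lit 6) Steps.nil))))) (nat_lit 58) (nat_lit 0),
  Rule.mk (nat_lit 7) (nat_lit 114) (Steps.bwd (nat_lit 6) (Steps.bwd (nat_lit 2) (Steps.fwd (nat_lit 1835008) (Steps.bwd (nat_lit 6) (Steps.bwd (nat_lit 3) Steps.nil))))) (nat_lit 63) (nat_lit 1),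
  Rule.mk (nat_lit 4) (nat_lit 114) (Steps.bwd (nat_lit 2) (Steps.fwd (nat_lit 1835008) (Steps.fwd (nat_lit 1048576) (Steps.bwd (nat_lit 2) (Steps.fwd (nat_lit 1835008) Steps.nil))))) (nat_lit 64) (nat_lit 0),
  Rule.mk (nat_lit 2) (nat_lit 154) (Steps.fwd (nat_lit 1310720) (Steps.fwd (nat_lit 786432) (Steps.bwd (nat_lit 6) (Steps.fwd (nat_lit 1310720) (Steps.bwd (nat_lit 2) (Steps.bwd (nat_lit 6) (Steps.fwd (nat_lit 1835008) Steps.nil))))))) (nat_lit 82) (nat_lit 1),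
  Rule.mk (nat_lit 2) (nat_lit 154) (Steps.bwd (nat_lit 5) (Steps.fwd (nat_lit 786432) (Steps.bwd (nat_lit 7) (Steps.bwd (nat_lit 6) (Steps.bwd (nat_lit 2) (Steps.bwd (nat_lit 5) (Steps.fwd (nat_lit 1572864) Steps.nil))))))) (nat_lit 84) (nat_lit 1),
  Rule.mk (nat_lit 4) (nat_lit 154) (Steps.fwd (nat_lit 786432) (Steps.bwd (nat_lit 5) (Steps.fwd (nat_lit 1835008) (Steps.fwd (nat_lit 1048576) (Steps.bwd (nat_lit 2) (Steps.bwd (nat_lit 6) (Steps.fwd (nat_lit 1835008) Steps.nil))))))) (nat_lit 88) (nat_lit 0),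
  Rule.mk (nat_lit 4) (nat_lit 154) (Steps.bwd (nat_lit 2) (Steps.bwd (nat_lit 6) (Steps.fwd (nat_lit 1835008) (Steps.fwd (nat_lit 1048576) (Steps.bwd (nat_lit 2) (Steps.bwd (nat_lit 5) (Steps.bwd (nat_lit 7) Steps.nil))))))) (nat_lit 88) (nat_lit 4),
  Rule.mk (nat_lit 2) (nat_lit 114) (Steps.fwd (nat_lit 1572864) (Steps.bwd (nat_lit 4) (Steps.bwd (nat_lit 2) (Steps.bwd (nat_lit 5) (Steps.fwd (nat_lit 1048576) Steps.nil))))) (nat_lit 58) (nat_lit 4),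
  Rule.mk (nat_lit 7) (nat_lit 154) (Steps.bwd (nat_lit 2) (Steps.fwd (nat_lit 1572864) (Steps.bwd (nat_lit 4) (Steps.fwd (nat_lit 1835008) (Steps.fwd (nat_lit 786432) (Steps.fwd (nat_lit 1310720) (Steps.fwd (nat_lit 1048576) Steps.nil))))))) (nat_lit 86) (nat_lit 4),
  Rule.mk (nat_lit 2) (nat_lit 114) (Steps.fwd (nat_lit 1835008) (Steps.fwd (nat_lit 1310720) (Steps.bwd (nat_lit 3) (Steps.bwd (nat_lit 7) (Steps.fwd (nat_lit 1310720) Steps.nil))))) (nat_lit 61) (nat_lit 3),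
  Rule.mk (nat_lit 2) (nat_lit 74) (Steps.fwd (nat_lit 1835008) (Steps.fwd (nat_lit 524288) (Steps.bwd (nat_lit 7) Steps.nil))) (nat_lit 28) (nat_lit 2),
  Rule.mk (nat_lit 0) (nat_lit 174) (Steps.bwd (nat_lit 4) (Steps.fwd (nat_lit 1835008) (Steps.fwd (nat_lit 262144) (Steps.bwd (nat_lit 4) (Steps.bwd (nat_lit 1) (Steps.bwd (nat_lit 7) (Steps.bwd (nat_lit 4) (Steps.bwd (nat_lit 1) Steps.nil)))))))) (nat_lit 76) (nat_lit 6),
  Rule.mk (nat_lit 8) (nat_lit 314) (Steps.bwd (nat_lit 4) (Steps.bwd (nat_lit 9) (Steps.bwd (nat_lit 4) (Steps.bwd (nat_lit 8) (Steps.bwd (nat_lit 4) (Steps.bwd (nat_lit 9) (Steps.bwd (nat_lit 4) (Steps.fwd (nat_lit 2359296) (Steps.bwd (nat_lit 4) (Steps.bwd (nat_lit 9) (Steps.bwd (nat_lit 4) (Steps.fwd (nat_lit 2359296) (Steps.fwd (nat_lit 1048576) (Steps.fwd (nat_lit 2097152) (Steps.fwd (nat_lit 1048576) Steps.nil))))))))))))))) (nat_lit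 106) (nat_lit 1),
  Rule.mk (nat_lit 4) (nat_lit 154) (Steps.bwd (nat_lit 1) (Steps.bwd (nat_lit 7) (Steps.bwd (nat_lit 4) (Steps.fwd (nat_lit 262144) (Steps.bwd (nat_lit 4) (Steps.bwd (nat_lit 7) (Steps.bwd (nat_lit 1) Steps.nil))))))) (nat_lit 76) (nat_lit 2),
  Rule.mk (nat_lit 4) (nat_lit 154) (Steps.bwd (nat_lit 1) (Steps.bwd (nat_lit 6) (Steps.bwd (nat_lit 1) (Steps.bwd (nat_lit 4) (Steps.bwd (nat_lit 1) (Steps.fwd (nat_lit 1572864) (Steps.fwd (nat_lit 262144) Steps.nil))))))) (nat_lit 74) (nat_lit 2),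
  Rule.mk (nat_lit 4) (nat_lit 154) (Steps.bwd (nat_lit 6) (Steps.bwd (nat_lit 7) (Steps.bwd (nat_lit 2) (Steps.bwd (nat_lit 4) (Steps.bwd (nat_lit 5) (Steps.fwd (nat_lit 1835008) (Steps.bwd (nat_lit 2) Steps.nil))))))) (nat_lit 78) (nat_lit 6),
  Rule.mk (nat_lit 4) (nat_lit 154) (Steps.bwd (nat_lit 7) (Steps.fwd (nat_lit 786432) (Steps.bwd (nat_lit 5) (Steps.bwd (nat_lit 4) (Steps.bwd (nat_lit 7) (Steps.fwd (nat_lit 786432) (Steps.bwd (nat_lit 6) Steps.nil))))))) (nat_lit 86) (nat_lit 7),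
  Rule.mk (nat_lit 4) (nat_lit 314) (Steps.bwd (nat_lit 9) (Steps.fwd (nat_lit 1048576) (Steps.fwd (nat_lit 2359296) (Steps.fwd (nat_lit 1048576) (Steps.bwd (nat_lit 9) (Steps.bwd (nat_lit 4) (Steps.bwd (nat_lit 8) (Steps.fwd (nat_lit 1048576) (Steps.bwd (nat_lit 9) (Steps.fwd (nat_lit 1048576) (Steps.fwd (nat_lit 2359296) (Steps.fwd (nat_lit 1048576) (Steps.bwd (nat_lit 9) (Steps.bwd (nat_lit 4) (Steps.bwd (nat_lit 8) Steps.nil))))))))))))))) (nat_lit 106) (nat_lit 2),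
  Rule.mk (nat_lit 3) (nat_lit 154) (Steps.fwd (nat_lit 1572864) (Steps.fwd (nat_lit 1835008) (Steps.fwd (nat_lit 1048576) (Steps.fwd (nat_lit 524288) (Steps.bwd (nat_lit 5) (Steps.fwd (nat_lit 1835008) (Steps.fwd (nat_lit 1048576) Steps.nil))))))) (nat_lit 81) (nat_lit 0),
  Rule.mk (nat_lit 4) (nat_lit 154) (Steps.fwd (nat_lit 1835008) (Steps.bwd (nat_lit 5) (Steps.bwd (nat_lit 3) (Steps.bwd (nat_lit 4) (Steps.bwd (nat_lit 7) (Steps.bwd (nat_lit 6) (Steps.bwd (nat_lit 3) Steps.nil))))))) (nat_lit 89) (nat_lit 5),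
  Rule.mk (nat_lit 2) (nat_lit 114) (Steps.bwd (nat_lit 4) (Steps.bwd (nat_lit 6) (Steps.bwd (nat_lit 2) (Steps.bwd (nat_lit 4) (Steps.fwd (nat_lit 1310720) Steps.nil))))) (nat_lit 54) (nat_lit 4),
  Rule.mk (nat_lit 2) (nat_lit 114) (Steps.bwd (nat_lit 4) (Steps.bwd (nat_lit 7) (Steps.bwd (nat_lit 2) (Steps.bwd (nat_lit 4) (Steps.fwd (nat_lit 1835008) Steps.nil))))) (nat_lit 56) (nat_lit 1),
  Rule.mk (nat_lit 6) (nat_lit 154) (Steps.bwd (nat_lit 4) (Steps.fwd (nat_lit 1835008) (Steps.bwd (nat_lit 3) (Steps.bwd (nat_lit 5) (Steps.bwd (nat_lit 4) (Steps.fwd (nat_lit 1835008) (Steps.fwd (nat_lit 524288) Steps.nil))))))) (nat_lit 91) (nat_lit 1),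
  Rule.mk (nat_lit 4) (nat_lit 314) (Steps.bwd (nat_lit 9) (Steps.bwd (nat_lit 4) (Steps.bwd (nat_lit 8) (Steps.fwd (nat_lit 1048576) (Steps.fwd (nat_lit 2097152) (Steps.bwd (nat_lit 4) (Steps.bwd (nat_lit 8) (Steps.fwd (nat_lit 1048576) (Steps.fwd (nat_lit 2097152) (Steps.fwd (nat_lit 1048576) (Steps.fwd (nat_lit 2359296) (Steps.fwd (nat_lit 1048576) (Steps.fwd (nat_lit 2097152) (Steps.bwd (nat_lit 4) (Steps.fwd (nat_lit 2359296) Steps.nil))))))))))))))) (nat_lit 106) (nat_lit 2),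
  Rule.mk (nat_lit 4) (nat_lit 154) (Steps.fwd (nat_lit 1310720) (Steps.bwd (nat_lit 7) (Steps.bwd (nat_lit 2) (Steps.bwd (nat_lit 4) (Steps.bwd (nat_lit 6) (Steps.bwd (nat_lit 7) (Steps.fwd (nat_lit 786432) Steps.nil))))))) (nat_lit 78) (nat_lit 2),
  Rule.mk (nat_lit 1) (nat_lit 154) (Steps.fwd (nat_lit 786432) (Steps.fwd (nat_lit 262144) (Steps.fwd (nat_lit 524288) (Steps.bwd (nat_lit 1) (Steps.fwd (nat_lit 786432) (Steps.bwd (nat_lit 1) (Steps.bwd (nat_lit 3) Steps.nil))))))) (nat_lit 68) (nat_lit 1),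
  Rule.mk (nat_lit 1) (nat_lit 154) (Steps.bwd (nat_lit 3) (Steps.bwd (nat_lit 1) (Steps.bwd (nat_lit 2) (Steps.bwd (nat_lit 1) (Steps.fwd (nat_lit 524288) (Steps.bwd (nat_lit 1) (Steps.bwd (nat_lit 2) Steps.nil))))))) (nat_lit 68) (nat_lit 3),
  Rule.mk (nat_lit 4) (nat_lit 114) (Steps.fwd (nat_lit 1572864) (Steps.fwd (nat_lit 524288) (Steps.bwd (nat_lit 4) (Steps.fwd (nat_lit 1310720) (Steps.fwd (nat_lit 524288) Steps.nil))))) (nat_lit 59) (nat_lit 1),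
  Rule.mk (nat_lit 4) (nat_lit 154) (Steps.bwd (nat_lit 6) (Steps.fwd (nat_lit 524288) (Steps.bwd (nat_lit 7) (Steps.bwd (nat_lit 4) (Steps.fwd (nat_lit 1310720) (Steps.fwd (nat_lit 524288) (Steps.fwd (nat_lit 1835008) Steps.nil))))))) (nat_lit 87) (nat_lit 2),
  Rule.mk (nat_lit 9) (nat_lit 314) (Steps.bwd (nat_lit 4) (Steps.bwd (nat_lit 8) (Steps.fwd (nat_lit 1048576) (Steps.bwd (nat_lit 9) (Steps.fwd (nat_lit 1048576) (Steps.fwd (nat_lit 2359296) (Steps.fwd (nat_lit 1048576) (Steps.bwd (nat_lit 9) (Steps.bwd (nat_lit 4) (Steps.fwd (nat_lit 2359296) (Steps.bwd (nat_lit 4) (Steps.bwd (nat_lit 9) (Steps.bwd (nat_lit 4) (Steps.fwd (nat_lit 2359296) (Steps.bwd (nat_lit 4) Steps.nil))))))))))))))) (nat_lit 106) (nat_lit 3),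
  Rule.mk (nat_lit 0) (nat_lit 334) (Steps.bwd (nat_lit 8) (Steps.bwd (nat_lit 4) (Steps.bwd (nat_lit 9) (Steps.bwd (nat_lit 4) (Steps.fwd (nat_lit 2359296) (Steps.fwd (nat_lit 1048576) (Steps.fwd (nat_lit 2097152) (Steps.fwd (nat_lit 1048576) (Steps.fwd (nat_lit 2359296) (Steps.fwd (nat_lit 1048576) (Steps.bwd (nat_lit 9) (Steps.bwd (nat_lit 4) (Steps.fwd (nat_lit 2359296) (Steps.bwd (nat_lit 4) (Steps.bwd (nat_lit 9) (Steps.fwd (nat_lit 1048576) Steps.nil)))))))))))))))) (nat_lit 106) (nat_lit 0),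
  Rule.mk (nat_lit 5) (nat_lit 94) (Steps.bwd (nat_lit 8) (Steps.fwd (nat_lit 1310720) (Steps.bwd (nat_lit 9) (Steps.fwd (nat_lit 1835008) Steps.nil)))) (nat_lit 101) (nat_lit 2),
  Rule.mk (nat_lit 0) (nat_lit 94) (Steps.fwd (nat_lit 1310720) (Steps.bwd (nat_lit 4) (Steps.fwd (nat_lit 1572864) (Steps.fwd (nat_lit 1048576) Steps.nil)))) (nat_lit 22) (nat_lit 1),
  Rule.mk (nat_lit 0) (nat_lit 94) (Steps.fwd (nat_lit 786432) (Steps.fwd (nat_lit 1048576) (Steps.bwd (nat_lit 2) (Steps.fwd (nat_lit 1048576) Steps.nil)))) (nat_lit 14) (nat_lit 1),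
  Rule.mk (nat_lit 0) (nat_lit 134) (Steps.bwd (nat_lit 1) (Steps.bwd (nat_lit 3) (Steps.fwd (nat_lit 2097152) (Steps.bwd (nat_lit 1) (Steps.fwd (nat_lit 2359296) (Steps.bwd (nat_lit 2) Steps.nil)))))) (nat_lit 104) (nat_lit 2),
  Rule.mk (nat_lit 0) (nat_lit 174) (Steps.bwd (nat_lit 1) (Steps.fwd (nat_lit 524288) (Steps.fwd (nat_lit 262144) (Steps.bwd (nat_lit 2) (Steps.fwd (nat_lit 262144) (Steps.bwd (nat_lit 3) (Steps.fwd (nat_lit 262144) (Steps.bwd (nat_lit 2) Steps.nil)))))))) (nat_lit 68) (nat_lit 2),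
  Rule.mk (nat_lit 1) (nat_lit 154) (Steps.fwd (nat_lit 1048576) (Steps.bwd (nat_lit 1) (Steps.bwd (nat_lit 6) (Steps.fwd (nat_lit 262144) (Steps.bwd (nat_lit 4) (Steps.bwd (nat_lit 1) (Steps.bwd (nat_lit 6) Steps.nil))))))) (nat_lit 74) (nat_lit 1),
  Rule.mk (nat_lit 0) (nat_lit 294) (Steps.fwd (nat_lit 524288) (Steps.bwd (nat_lit 5) (Steps.fwd (nat_lit 1572864) (Steps.fwd (nat_lit 262144) (Steps.bwd (nat_lit 6) (Steps.bwd (nat_lit 1) (Steps.fwd (nat_lit 524288) (Steps.bwd (nat_lit 1) (Steps.fwd (nat_lit 1572864) (Steps.bwd (nat_lit 1) (Steps.fwd (nat_lit 524288) (Steps.fwd (nat_lit 262144) (Steps.fwd (nat_lit 1572864) (Steps.fwd (nat_lit 262144) Steps.nil)))))))))))))) (nat_lit 35) (nat_lit 13),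
  Rule.mk (nat_lit 1) (nat_lit 154) (Steps.fwd (nat_lit 1835008) (Steps.bwd (nat_lit 4) (Steps.bwd (nat_lit 1) (Steps.fwd (nat_lit 1048576) (Steps.bwd (nat_lit 7) (Steps.bwd (nat_lit 1) (Steps.bwd (nat_lit 4) Steps.nil))))))) (nat_lit 76) (nat_lit 3),
  Rule.mk (nat_lit 1) (nat_lit 274) (Steps.fwd (nat_lit 1572864) (Steps.fwd (nat_lit 262144) (Steps.fwd (nat_lit 524288) (Steps.bwd (nat_lit 1) (Steps.fwd (nat_lit 1572864) (Steps.fwd (nat_lit 262144) (Steps.bwd (nat_lit 3) (Steps.fwd (nat_lit 262144) (Steps.bwd (nat_lit 6) (Steps.bwd (nat_lit 1) (Steps.fwd (nat_lit 524288) (Steps.fwd (nat_lit 1310720) (Steps.fwd (nat_lit 1572864) Steps.nil))))))))))))) (nat_lit 35) (nat_lit 3),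
  Rule.mk (nat_lit 1) (nat_lit 154) (Steps.bwd (nat_lit 2) (Steps.fwd (nat_lit 262144) (Steps.fwd (nat_lit 524288) (Steps.bwd (nat_lit 1) (Steps.bwd (nat_lit 2) (Steps.fwd (nat_lit 262144) (Steps.fwd (nat_lit 524288) Steps.nil))))))) (nat_lit 68) (nat_lit 1),
  Rule.mk (nat_lit 1) (nat_lit 274) (Steps.fwd (nat_lit 1572864) (Steps.fwd (nat_lit 262144) (Steps.fwd (nat_lit 524288) (Steps.bwd (nat_lit 1) (Steps.fwd (nat_lit 1572864) (Steps.fwd (nat_lit 262144) (Steps.fwd (nat_lit 524288) (Steps.bwd (nat_lit 1) (Steps.bwd (nat_lit 6) (Steps.fwd (nat_lit 262144) (Steps.bwd (nat_lit 3) (Steps.bwd (nat_lit 5) (Steps.bwd (nat_lit 6) Steps.nil))))))))))))) (nat_lit 35) (nat_lit 3),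
  Rule.mk (nat_lit 1) (nat_lit 274) (Steps.bwd (nat_lit 6) (Steps.bwd (nat_lit 5) (Steps.fwd (nat_lit 786432) (Steps.bwd (nat_lit 1) (Steps.fwd (nat_lit 1572864) (Steps.bwd (nat_lit 1) (Steps.fwd (nat_lit 786432) (Steps.bwd (nat_lit 1) (Steps.bwd (nat_lit 6) (Steps.fwd (nat_lit 262144) (Steps.bwd (nat_lit 2) (Steps.bwd (nat_lit 1) (Steps.fwd (nat_lit 1572864) Steps.nil))))))))))))) (nat_lit 34) (nat_lit 12),
  Rule.mk (nat_lit 1) (nat_lit 154) (Steps.fwd (nat_lit 1310720) (Steps.bwd (nat_lit 3) (Steps.bwd (nat_lit 1) (Steps.bwd (nat_lit 3) (Steps.fwd (nat_lit 1310720) (Steps.bwd (nat_lit 1) (Steps.bwd (nat_lit 3) Steps.nil))))))) (nat_lit 71) (nat_lit 0),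
  Rule.mk (nat_lit 5) (nat_lit 114) (Steps.fwd (nat_lit 262144) (Steps.fwd (nat_lit 1835008) (Steps.fwd (nat_lit 1310720) (Steps.fwd (nat_lit 262144) (Steps.fwd (nat_lit 1835008) Steps.nil))))) (nat_lit 53) (nat_lit 2),
  Rule.mk (nat_lit 4) (nat_lit 154) (Steps.fwd (nat_lit 1572864) (Steps.fwd (nat_lit 524288) (Steps.fwd (nat_lit 1835008) (Steps.bwd (nat_lit 4) (Steps.bwd (nat_lit 5) (Steps.bwd (nat_lit 3) (Steps.bwd (nat_lit 7) Steps.nil))))))) (nat_lit 87) (nat_lit 2),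
  Rule.mk (nat_lit 9) (nat_lit 314) (Steps.fwd (nat_lit 1048576) (Steps.fwd (nat_lit 2359296) (Steps.bwd (nat_lit 4) (Steps.fwd (nat_lit 2097152) (Steps.fwd (nat_lit 1048576) (Steps.bwd (nat_lit 8) (Steps.bwd (nat_lit 4) (Steps.bwd (nat_lit 9) (Steps.fwd (nat_lit 1048576) (Steps.fwd (nat_lit 2359296) (Steps.fwd (nat_lit 1048576) (Steps.bwd (nat_lit 9) (Steps.bwd (nat_lit 4) (Steps.bwd (nat_lit 8) (Steps.bwd (nat_lit 4) Steps.nil))))))))))))))) (nat_lit 106) (nat_lit 3)]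
noncomputable def R_95 : List (Rule) := [Rule.mk (nat_lit 5) (nat_lit 154) (Steps.fwd (nat_lit 524288) (Steps.fwd (nat_lit 1835008) (Steps.bwd (nat_lit 6) (Steps.bwd (nat_lit 3) (Steps.bwd (nat_lit 5) (Steps.fwd (nat_lit 1572864) (Steps.fwd (nat_lit 524288) Steps.nil))))))) (nat_lit 83) (nat_lit 7),
  Rule.mk (nat_lit 0) (nat_lit 94) (Steps.bwd (nat_lit 7) (Steps.bwd (nat_lit 5) (Steps.bwd (nat_lit 7) (Steps.fwd (nat_lit 1310720) Steps.nil)))) (nat_lit 32) (nat_lit 0),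
  Rule.mk (nat_lit 4) (nat_lit 314) (Steps.fwd (nat_lit 2097152) (Steps.fwd (nat_lit 1048576) (Steps.bwd (nat_lit 8) (Steps.bwd (nat_lit 4) (Steps.fwd (nat_lit 2097152) (Steps.fwd (nat_lit 1048576) (Steps.fwd (nat_lit 2359296) (Steps.bwd (nat_lit 4) (Steps.bwd (nat_lit 9) (Steps.bwd (nat_lit 4) (Steps.fwd (nat_lit 2359296) (Steps.fwd (nat_lit 1048576) (Steps.bwd (nat_lit 9) (Steps.fwd (nat_lit 1048576) (Steps.fwd (nat_lit 2359296) Steps.nil))))))))))))))) (nat_lit 106) (nat_lit 2),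
  Rule.mk (nat_lit 4) (nat_lit 154) (Steps.bwd (nat_lit 6) (Steps.fwd (nat_lit 524288) (Steps.fwd (nat_lit 1835008) (Steps.bwd (nat_lit 4) (Steps.bwd (nat_lit 5) (Steps.fwd (nat_lit 524288) (Steps.fwd (nat_lit 1835008) Steps.nil))))))) (nat_lit 87) (nat_lit 2),
  Rule.mk (nat_lit 2) (nat_lit 114) (Steps.fwd (nat_lit 1310720) (Steps.bwd (nat_lit 4) (Steps.bwd (nat_lit 2) (Steps.fwd (nat_lit 1572864) (Steps.fwd (nat_lit 1048576) Steps.nil))))) (nat_lit 58) (nat_lit 1),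
  Rule.mk (nat_lit 2) (nat_lit 154) (Steps.fwd (nat_lit 1310720) (Steps.fwd (nat_lit 1835008) (Steps.bwd (nat_lit 4) (Steps.bwd (nat_lit 2) (Steps.fwd (nat_lit 1572864) (Steps.fwd (nat_lit 1835008) (Steps.fwd (nat_lit 1048576) Steps.nil))))))) (nat_lit 88) (nat_lit 1),
  Rule.mk (nat_lit 4) (nat_lit 314) (Steps.fwd (nat_lit 2359296) (Steps.fwd (nat_lit 1048576) (Steps.bwd (nat_lit 9) (Steps.bwd (nat_lit 4) (Steps.fwd (nat_lit 2359296) (Steps.fwd (nat_lit 1048576) (Steps.bwd (nat_lit 9) (Steps.fwd (nat_lit 1048576) (Steps.bwd (nat_lit 8) (Steps.bwd (nat_lit 4) (Steps.bwd (nat_lit 9) (Steps.bwd (nat_lit 4) (Steps.fwd (nat_lit 2359296) (Steps.fwd (nat_lit 1048576) (Steps.fwd (nat_lit 2097152) Steps.nil))))))))))))))) (nat_lit 106) (nat_lit 0),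
  Rule.mk (nat_lit 4) (nat_lit 114) (Steps.fwd (nat_lit 1835008) (Steps.bwd (nat_lit 2) (Steps.bwd (nat_lit 4) (Steps.fwd (nat_lit 1835008) (Steps.fwd (nat_lit 786432) Steps.nil))))) (nat_lit 56) (nat_lit 2),
  Rule.mk (nat_lit 4) (nat_lit 154) (Steps.bwd (nat_lit 6) (Steps.fwd (nat_lit 1835008) (Steps.bwd (nat_lit 2) (Steps.bwd (nat_lit 4) (Steps.bwd (nat_lit 5) (Steps.fwd (nat_lit 1835008) (Steps.fwd (nat_lit 786432) Steps.nil))))))) (nat_lit 78) (nat_lit 6),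
  Rule.mk (nat_lit 4) (nat_lit 154) (Steps.bwd (nat_lit 7) (Steps.bwd (nat_lit 5) (Steps.bwd (nat_lit 2) (Steps.bwd (nat_lit 4) (Steps.fwd (nat_lit 1835008) (Steps.bwd (nat_lit 6) (Steps.fwd (nat_lit 786432) Steps.nil))))))) (nat_lit 80) (nat_lit 2),
  Rule.mk (nat_lit 7) (nat_lit 154) (Steps.bwd (nat_lit 4) (Steps.bwd (nat_lit 2) (Steps.fwd (nat_lit 1310720) (Steps.fwd (nat_lit 1835008) (Steps.bwd (nat_lit 4) (Steps.fwd (nat_lit 786432) (Steps.bwd (nat_lit 6) Steps.nil))))))) (nat_lit 88) (nat_lit 7),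
  Rule.mk (nat_lit 4) (nat_lit 154) (Steps.bwd (nat_lit 7) (Steps.bwd (nat_lit 6) (Steps.fwd (nat_lit 524288) (Steps.fwd (nat_lit 1048576) (Steps.bwd (nat_lit 7) (Steps.bwd (nat_lit 5) (Steps.bwd (nat_lit 3) Steps.nil))))))) (nat_lit 89) (nat_lit 1),
  Rule.mk (nat_lit 1) (nat_lit 154) (Steps.fwd (nat_lit 1310720) (Steps.fwd (nat_lit 786432) (Steps.bwd (nat_lit 1) (Steps.bwd (nat_lit 2) (Steps.bwd (nat_lit 5) (Steps.bwd (nat_lit 1) (Steps.fwd (nat_lit 786432) Steps.nil))))))) (nat_lit 70) (nat_lit 3),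
  Rule.mk (nat_lit 0) (nat_lit 294) (Steps.bwd (nat_lit 1) (Steps.fwd (nat_lit 1572864) (Steps.fwd (nat_lit 1310720) (Steps.bwd (nat_lit 2) (Steps.bwd (nat_lit 1) (Steps.bwd (nat_lit 6) (Steps.fwd (nat_lit 262144) (Steps.bwd (nat_lit 2) (Steps.bwd (nat_lit 1) (Steps.fwd (nat_lit 1572864) (Steps.fwd (nat_lit 262144) (Steps.fwd (nat_lit 786432) (Steps.bwd (nat_lit 1) (Steps.bwd (nat_lit 6) Steps.nil)))))))))))))) (nat_lit 34) (nat_lit 11),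
  Rule.mk (nat_lit 2) (nat_lit 154) (Steps.fwd (nat_lit 262144) (Steps.bwd (nat_lit 3) (Steps.fwd (nat_lit 262144) (Steps.fwd (nat_lit 786432) (Steps.bwd (nat_lit 1) (Steps.bwd (nat_lit 3) (Steps.bwd (nat_lit 1) Steps.nil))))))) (nat_lit 68) (nat_lit 2),
  Rule.mk (nat_lit 1) (nat_lit 154) (Steps.bwd (nat_lit 3) (Steps.fwd (nat_lit 1310720) (Steps.bwd (nat_lit 1) (Steps.bwd (nat_lit 3) (Steps.bwd (nat_lit 1) (Steps.fwd (nat_lit 1310720) (Steps.bwd (nat_lit 3) Steps.nil))))))) (nat_lit 71) (nat_lit 3),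
  Rule.mk (nat_lit 4) (nat_lit 154) (Steps.bwd (nat_lit 1) (Steps.fwd (nat_lit 1048576) (Steps.bwd (nat_lit 7) (Steps.fwd (nat_lit 262144) (Steps.fwd (nat_lit 1048576) (Steps.bwd (nat_lit 1) (Steps.bwd (nat_lit 7) Steps.nil))))))) (nat_lit 76) (nat_lit 5),
  Rule.mk (nat_lit 9) (nat_lit 114) (Steps.fwd (nat_lit 262144) (Steps.bwd (nat_lit 8) (Steps.fwd (nat_lit 786432) (Steps.fwd (nat_lit 262144) (Steps.bwd (nat_lit 3) Steps.nil))))) (nat_lit 104) (nat_lit 5),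
  Rule.mk (nat_lit 4) (nat_lit 114) (Steps.bwd (nat_lit 7) (Steps.bwd (nat_lit 3) (Steps.fwd (nat_lit 1048576) (Steps.bwd (nat_lit 7) (Steps.bwd (nat_lit 3) Steps.nil))))) (nat_lit 65) (nat_lit 1),
  Rule.mk (nat_lit 8) (nat_lit 114) (Steps.bwd (nat_lit 2) (Steps.fwd (nat_lit 262144) (Steps.bwd (nat_lit 3) (Steps.bwd (nat_lit 9) (Steps.bwd (nat_lit 1) Steps.nil))))) (nat_lit 104) (nat_lit 1),
  Rule.mk (nat_lit 1) (nat_lit 154) (Steps.fwd (nat_lit 1572864) (Steps.bwd (nat_lit 1) (Steps.fwd (nat_lit 1048576) (Steps.bwd (nat_lit 1) (Steps.bwd (nat_lit 6) (Steps.bwd (nat_lit 1) (Steps.bwd (nat_lit 4) Steps.nil))))))) (nat_lit 74) (nat_lit 3),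
  Rule.mk (nat_lit 1) (nat_lit 154) (Steps.bwd (nat_lit 2) (Steps.fwd (nat_lit 262144) (Steps.bwd (nat_lit 7) (Steps.fwd (nat_lit 786432) (Steps.bwd (nat_lit 1) (Steps.bwd (nat_lit 2) (Steps.fwd (nat_lit 1835008) Steps.nil))))))) (nat_lit 72) (nat_lit 1),
  Rule.mk (nat_lit 1) (nat_lit 154) (Steps.fwd (nat_lit 786432) (Steps.fwd (nat_lit 262144) (Steps.fwd (nat_lit 1310720) (Steps.bwd (nat_lit 2) (Steps.bwd (nat_lit 1) (Steps.bwd (nat_lit 2) (Steps.bwd (nat_lit 5) Steps.nil))))))) (nat_lit 70) (nat_lit 1),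
  Rule.mk (nat_lit 1) (nat_lit 154) (Steps.bwd (nat_lit 4) (Steps.fwd (nat_lit 1835008) (Steps.bwd (nat_lit 1) (Steps.fwd (nat_lit 1048576) (Steps.bwd (nat_lit 1) (Steps.fwd (nat_lit 1835008) (Steps.fwd (nat_lit 1048576) Steps.nil))))))) (nat_lit 76) (nat_lit 6),
  Rule.mk (nat_lit 5) (nat_lit 274) (Steps.fwd (nat_lit 1572864) (Steps.fwd (nat_lit 262144) (Steps.bwd (nat_lit 6) (Steps.fwd (nat_lit 262144) (Steps.bwd (nat_lit 3) (Steps.bwd (nat_lit 1) (Steps.bwd (nat_lit 6) (Steps.bwd (nat_lit 1) (Steps.bwd (nat_lit 3) (Steps.bwd (nat_lit 1) (Steps.fwd (nat_lit 1572864) (Steps.fwd (nat_lit 262144) (Steps.fwd (nat_lit 524288) Steps.nil))))))))))))) (nat_lit 35) (nat_lit 1),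
  Rule.mk (nat_lit 8) (nat_lit 314) (Steps.bwd (nat_lit 4) (Steps.bwd (nat_lit 9) (Steps.bwd (nat_lit 4) (Steps.fwd (nat_lit 2359296) (Steps.bwd (nat_lit 4) (Steps.bwd (nat_lit 9) (Steps.fwd (nat_lit 1048576) (Steps.bwd (nat_lit 8) (Steps.bwd (nat_lit 4) (Steps.bwd (nat_lit 9) (Steps.bwd (nat_lit 4) (Steps.fwd (nat_lit 2359296) (Steps.fwd (nat_lit 1048576) (Steps.bwd (nat_lit 9) (Steps.fwd (nat_lit 1048576) Steps.nil))))))))))))))) (nat_lit 106) (nat_lit 1),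
  Rule.mk (nat_lit 0) (nat_lit 94) (Steps.bwd (nat_lit 5) (Steps.fwd (nat_lit 262144) (Steps.fwd (nat_lit 1310720) (Steps.fwd (nat_lit 262144) Steps.nil)))) (nat_lit 18) (nat_lit 1),
  Rule.mk (nat_lit 0) (nat_lit 94) (Steps.bwd (nat_lit 1) (Steps.fwd (nat_lit 1835008) (Steps.bwd (nat_lit 1) (Steps.fwd (nat_lit 1835008) Steps.nil)))) (nat_lit 26) (nat_lit 1),
  Rule.mk (nat_lit 0) (nat_lit 174) (Steps.bwd (nat_lit 1) (Steps.bwd (nat_lit 4) (Steps.fwd (nat_lit 1835008) (Steps.fwd (nat_lit 262144) (Steps.fwd (nat_lit 1048576) (Steps.fwd (nat_lit 262144) (Steps.bwd (nat_lit 7) (Steps.fwd (nat_lit 1048576) Steps.nil)))))))) (nat_lit 76) (nat_lit 5),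
  Rule.mk (nat_lit 4) (nat_lit 114) (Steps.fwd (nat_lit 786432) (Steps.bwd (nat_lit 7) (Steps.bwd (nat_lit 4) (Steps.bwd (nat_lit 2) (Steps.fwd (nat_lit 1835008) Steps.nil))))) (nat_lit 64) (nat_lit 0),
  Rule.mk (nat_lit 0) (nat_lit 134) (Steps.bwd (nat_lit 4) (Steps.fwd (nat_lit 1835008) (Steps.fwd (nat_lit 1310720) (Steps.fwd (nat_lit 1048576) (Steps.fwd (nat_lit 1835008) (Steps.fwd (nat_lit 1572864) Steps.nil)))))) (nat_lit 67) (nat_lit 2),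
  Rule.mk (nat_lit 4) (nat_lit 114) (Steps.bwd (nat_lit 7) (Steps.fwd (nat_lit 1572864) (Steps.fwd (nat_lit 1048576) (Steps.bwd (nat_lit 7) (Steps.fwd (nat_lit 1310720) Steps.nil))))) (nat_lit 67) (nat_lit 0),
  Rule.mk (nat_lit 4) (nat_lit 114) (Steps.bwd (nat_lit 7) (Steps.bwd (nat_lit 5) (Steps.fwd (nat_lit 1048576) (Steps.bwd (nat_lit 7) (Steps.fwd (nat_lit 1572864) Steps.nil))))) (nat_lit 67) (nat_lit 3),
  Rule.mk (nat_lit 4) (nat_lit 154) (Steps.bwd (nat_lit 7) (Steps.bwd (nat_lit 5) (Steps.fwd (nat_lit 786432) (Steps.fwd (nat_lit 1048576) (Steps.bwd (nat_lit 7) (Steps.fwd (nat_lit 1572864) (Steps.bwd (nat_lit 2) Steps.nil))))))) (nat_lit 80) (nat_lit 2),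
  Rule.mk (nat_lit 4) (nat_lit 154) (Steps.bwd (nat_lit 3) (Steps.fwd (nat_lit 1310720) (Steps.bwd (nat_lit 7) (Steps.bwd (nat_lit 4) (Steps.bwd (nat_lit 3) (Steps.fwd (nat_lit 1572864) (Steps.bwd (nat_lit 7) Steps.nil))))))) (nat_lit 81) (nat_lit 3),
  Rule.mk (nat_lit 4) (nat_lit 154) (Steps.fwd (nat_lit 1835008) (Steps.fwd (nat_lit 1572864) (Steps.bwd (nat_lit 3) (Steps.fwd (nat_lit 1048576) (Steps.bwd (nat_lit 7) (Steps.fwd (nat_lit 1310720) (Steps.bwd (nat_lit 3) Steps.nil))))))) (nat_lit 89) (nat_lit 1),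
  Rule.mk (nat_lit 4) (nat_lit 154) (Steps.fwd (nat_lit 1835008) (Steps.fwd (nat_lit 1310720) (Steps.bwd (nat_lit 3) (Steps.fwd (nat_lit 1048576) (Steps.bwd (nat_lit 7) (Steps.fwd (nat_lit 1572864) (Steps.fwd (nat_lit 524288) Steps.nil))))))) (nat_lit 89) (nat_lit 5),
  Rule.mk (nat_lit 1) (nat_lit 154) (Steps.bwd (nat_lit 4) (Steps.fwd (nat_lit 262144) (Steps.fwd (nat_lit 1572864) (Steps.bwd (nat_lit 1) (Steps.bwd (nat_lit 4) (Steps.bwd (nat_lit 1) (Steps.fwd (nat_lit 1572864) Steps.nil))))))) (nat_lit 74) (nat_lit 1),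
  Rule.mk (nat_lit 1) (nat_lit 154) (Steps.bwd (nat_lit 4) (Steps.bwd (nat_lit 1) (Steps.fwd (nat_lit 1835008) (Steps.fwd (nat_lit 1048576) (Steps.bwd (nat_lit 1) (Steps.bwd (nat_lit 4) (Steps.fwd (nat_lit 1835008) Steps.nil))))))) (nat_lit 76) (nat_lit 1),
  Rule.mk (nat_lit 2) (nat_lit 154) (Steps.bwd (nat_lit 1) (Steps.fwd (nat_lit 786432) (Steps.bwd (nat_lit 7) (Steps.bwd (nat_lit 1) (Steps.fwd (nat_lit 786432) (Steps.bwd (nat_lit 1) (Steps.fwd (nat_lit 1835008) Steps.nil))))))) (nat_lit 72) (nat_lit 5),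
  Rule.mk (nat_lit 4) (nat_lit 114) (Steps.fwd (nat_lit 786432) (Steps.fwd (nat_lit 1835008) (Steps.fwd (nat_lit 1048576) (Steps.bwd (nat_lit 2) (Steps.fwd (nat_lit 1835008) Steps.nil))))) (nat_lit 64) (nat_lit 0),
  Rule.mk (nat_lit 4) (nat_lit 154) (Steps.bwd (nat_lit 2) (Steps.bwd (nat_lit 6) (Steps.fwd (nat_lit 1835008) (Steps.fwd (nat_lit 1048576) (Steps.bwd (nat_lit 2) (Steps.fwd (nat_lit 1310720) (Steps.bwd (nat_lit 7) Steps.nil))))))) (nat_lit 88) (nat_lit 4),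
  Rule.mk (nat_lit 4) (nat_lit 154) (Steps.bwd (nat_lit 5) (Steps.fwd (nat_lit 524288) (Steps.bwd (nat_lit 7) (Steps.bwd (nat_lit 4) (Steps.bwd (nat_lit 6) (Steps.bwd (nat_lit 3) (Steps.fwd (nat_lit 1835008) Steps.nil))))))) (nat_lit 87) (nat_lit 6),
  Rule.mk (nat_lit 9) (nat_lit 314) (Steps.bwd (nat_lit 4) (Steps.bwd (nat_lit 8) (Steps.bwd (nat_lit 4) (Steps.bwd (nat_lit 9) (Steps.fwd (nat_lit 1048576) (Steps.bwd (nat_lit 8) (Steps.fwd (nat_lit 1048576) (Steps.bwd (nat_lit 9) (Steps.bwd (nat_lit 4) (Steps.bwd (nat_lit 8) (Steps.fwd (nat_lit 1048576) (Steps.bwd (nat_lit 9) (Steps.bwd (nat_lit 4) (Steps.bwd (nat_lit 8) (Steps.bwd (nat_lit 4) Steps.nil))))))))))))))) (nat_lit 106) (nat_lit 3),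
  Rule.mk (nat_lit 5) (nat_lit 154) (Steps.bwd (nat_lit 1) (Steps.fwd (nat_lit 786432) (Steps.bwd (nat_lit 1) (Steps.fwd (nat_lit 1310720) (Steps.bwd (nat_lit 2) (Steps.fwd (nat_lit 262144) (Steps.fwd (nat_lit 786432) Steps.nil))))))) (nat_lit 70) (nat_lit 0),
  Rule.mk (nat_lit 7) (nat_lit 154) (Steps.bwd (nat_lit 1) (Steps.fwd (nat_lit 786432) (Steps.bwd (nat_lit 1) (Steps.fwd (nat_lit 1835008) (Steps.fwd (nat_lit 786432) (Steps.fwd (nat_lit 262144) (Steps.fwd (nat_lit 786432) Steps.nil))))))) (nat_lit 72) (nat_lit 0),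
  Rule.mk (nat_lit 4) (nat_lit 154) (Steps.bwd (nat_lit 7) (Steps.bwd (nat_lit 1) (Steps.bwd (nat_lit 4) (Steps.bwd (nat_lit 1) (Steps.bwd (nat_lit 7) (Steps.bwd (nat_lit 4) (Steps.fwd (nat_lit 262144) Steps.nil))))))) (nat_lit 76) (nat_lit 7),
  Rule.mk (nat_lit 4) (nat_lit 154) (Steps.bwd (nat_lit 1) (Steps.bwd (nat_lit 4) (Steps.fwd (nat_lit 1835008) (Steps.fwd (nat_lit 262144) (Steps.bwd (nat_lit 4) (Steps.bwd (nat_lit 1) (Steps.fwd (nat_lit 1835008) Steps.nil))))))) (nat_lit 76) (nat_lit 5),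
  Rule.mk (nat_lit 4) (nat_lit 114) (Steps.fwd (nat_lit 262144) (Steps.fwd (nat_lit 1048576) (Steps.bwd (nat_lit 1) (Steps.fwd (nat_lit 1048576) (Steps.fwd (nat_lit 262144) Steps.nil))))) (nat_lit 16) (nat_lit 0),
  Rule.mk (nat_lit 2) (nat_lit 114) (Steps.bwd (nat_lit 6) (Steps.bwd (nat_lit 4) (Steps.fwd (nat_lit 786432) (Steps.fwd (nat_lit 1310720) (Steps.bwd (nat_lit 4) Steps.nil))))) (nat_lit 58) (nat_lit 4),
  Rule.mk (nat_lit 4) (nat_lit 314) (Steps.bwd (nat_lit 8) (Steps.fwd (nat_lit 1048576) (Steps.fwd (nat_lit 2097152) (Steps.fwd (nat_lit 1048576) (Steps.fwd (nat_lit 2359296) (Steps.fwd (nat_lit 1048576) (Steps.bwd (nat_lit 9) (Steps.bwd (nat_lit 4) (Steps.bwd (nat_lit 8) (Steps.fwd (nat_lit 1048576) (Steps.fwd (nat_lit 2097152) (Steps.bwd (nat_lit 4) (Steps.fwd (nat_lit 2359296) (Steps.bwd (nat_lit 4) (Steps.bwd (nat_lit 9) Steps.nil))))))))))))))) (nat_lit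 106) (nat_lit 0),
  Rule.mk (nat_lit 4) (nat_lit 154) (Steps.bwd (nat_lit 3) (Steps.fwd (nat_lit 1835008) (Steps.bwd (nat_lit 6) (Steps.bwd (nat_lit 4) (Steps.fwd (nat_lit 524288) (Steps.fwd (nat_lit 1835008) (Steps.fwd (nat_lit 1310720) Steps.nil))))))) (nat_lit 79) (nat_lit 7),
  Rule.mk (nat_lit 4) (nat_lit 314) (Steps.fwd (nat_lit 2359296) (Steps.fwd (nat_lit 1048576) (Steps.fwd (nat_lit 2097152) (Steps.bwd (nat_lit 4) (Steps.fwd (nat_lit 2359296) (Steps.fwd (nat_lit 1048576) (Steps.fwd (nat_lit 2097152) (Steps.fwd (nat_lit 1048576) (Steps.bwd (nat_lit 8) (Steps.bwd (nat_lit 4) (Steps.bwd (nat_lit 9) (Steps.fwd (nat_lit 1048576) (Steps.bwd (nat_lit 8) (Steps.bwd (nat_lit 4) (Steps.bwd (nat_lit 9) Steps.nil))))))))))))))) (nat_lit 106) (nat_lit 0),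
  Rule.mk (nat_lit 0) (nat_lit 334) (Steps.bwd (nat_lit 4) (Steps.bwd (nat_lit 9) (Steps.fwd (nat_lit 1048576) (Steps.fwd (nat_lit 2359296) (Steps.fwd (nat_lit 1048576) (Steps.bwd (nat_lit 9) (Steps.fwd (nat_lit 1048576) (Steps.fwd (nat_lit 2359296) (Steps.fwd (nat_lit 1048576) (Steps.bwd (nat_lit 9) (Steps.bwd (nat_lit 4) (Steps.fwd (nat_lit 2359296) (Steps.bwd (nat_lit 4) (Steps.bwd (nat_lit 9) (Steps.bwd (nat_lit 4) (Steps.fwd (nat_lit 2359296) Steps.nil)))))))))))))))) (nat_lit 106) (nat_lit 1),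
  Rule.mk (nat_lit 4) (nat_lit 314) (Steps.fwd (nat_lit 2359296) (Steps.bwd (nat_lit 4) (Steps.fwd (nat_lit 2097152) (Steps.fwd (nat_lit 1048576) (Steps.fwd (nat_lit 2359296) (Steps.fwd (nat_lit 1048576) (Steps.fwd (nat_lit 2097152) (Steps.bwd (nat_lit 4) (Steps.fwd (nat_lit 2359296) (Steps.fwd (nat_lit 1048576) (Steps.bwd (nat_lit 9) (Steps.bwd (nat_lit 4) (Steps.fwd (nat_lit 2359296) (Steps.fwd (nat_lit 1048576) (Steps.bwd (nat_lit 9) Steps.nil))))))))))))))) (nat_lit 106) (nat_lit 0),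
  Rule.mk (nat_lit 4) (nat_lit 154) (Steps.fwd (nat_lit 524288) (Steps.fwd (nat_lit 1835008) (Steps.bwd (nat_lit 6) (Steps.bwd (nat_lit 4) (Steps.bwd (nat_lit 3) (Steps.fwd (nat_lit 1835008) (Steps.fwd (nat_lit 1310720) Steps.nil))))))) (nat_lit 79) (nat_lit 7),
  Rule.mk (nat_lit 5) (nat_lit 114) (Steps.fwd (nat_lit 1048576) (Steps.bwd (nat_lit 3) (Steps.fwd (nat_lit 1572864) (Steps.bwd (nat_lit 4) (Steps.fwd (nat_lit 524288) Steps.nil))))) (nat_lit 55) (nat_lit 4),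
  Rule.mk (nat_lit 4) (nat_lit 154) (Steps.bwd (nat_lit 1) (Steps.bwd (nat_lit 7) (Steps.bwd (nat_lit 4) (Steps.fwd (nat_lit 262144) (Steps.fwd (nat_lit 1048576) (Steps.fwd (nat_lit 1835008) (Steps.fwd (nat_lit 262144) Steps.nil))))))) (nat_lit 76) (nat_lit 2),
  Rule.mk (nat_lit 4) (nat_lit 114) (Steps.fwd (nat_lit 1835008) (Steps.fwd (nat_lit 786432) (Steps.fwd (nat_lit 1048576) (Steps.fwd (nat_lit 1835008) (Steps.fwd (nat_lit 786432) Steps.nil))))) (nat_lit 56) (nat_lit 2),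
  Rule.mk (nat_lit 4) (nat_lit 314) (Steps.fwd (nat_lit 2359296) (Steps.bwd (nat_lit 4) (Steps.bwd (nat_lit 9) (Steps.fwd (nat_lit 1048576) (Steps.fwd (nat_lit 2359296) (Steps.fwd (nat_lit 1048576) (Steps.fwd (nat_lit 2097152) (Steps.bwd (nat_lit 4) (Steps.bwd (nat_lit 8) (Steps.bwd (nat_lit 4) (Steps.fwd (nat_lit 2097152) (Steps.bwd (nat_lit 4) (Steps.bwd (nat_lit 8) (Steps.bwd (nat_lit 4) (Steps.fwd (nat_lit 2097152) Steps.nil))))))))))))))) (nat_lit 106) (nat_lit 0),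
  Rule.mk (nat_lit 7) (nat_lit 154) (Steps.fwd (nat_lit 786432) (Steps.fwd (nat_lit 1048576) (Steps.bwd (nat_lit 5) (Steps.bwd (nat_lit 7) (Steps.bwd (nat_lit 2) (Steps.bwd (nat_lit 4) (Steps.bwd (nat_lit 6) Steps.nil))))))) (nat_lit 78) (nat_lit 0),
  Rule.mk (nat_lit 3) (nat_lit 154) (Steps.fwd (nat_lit 1048576) (Steps.fwd (nat_lit 1835008) (Steps.bwd (nat_lit 5) (Steps.bwd (nat_lit 3) (Steps.bwd (nat_lit 4) (Steps.bwd (nat_lit 7) (Steps.bwd (nat_lit 6) Steps.nil))))))) (nat_lit 89) (nat_lit 4),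
  Rule.mk (nat_lit 1) (nat_lit 154) (Steps.bwd (nat_lit 7) (Steps.bwd (nat_lit 3) (Steps.bwd (nat_lit 1) (Steps.bwd (nat_lit 3) (Steps.bwd (nat_lit 7) (Steps.bwd (nat_lit 1) (Steps.fwd (nat_lit 524288) Steps.nil))))))) (nat_lit 73) (nat_lit 0),
  Rule.mk (nat_lit 1) (nat_lit 274) (Steps.fwd (nat_lit 1572864) (Steps.bwd (nat_lit 1) (Steps.bwd (nat_lit 3) (Steps.fwd (nat_lit 262144) (Steps.bwd (nat_lit 6) (Steps.bwd (nat_lit 1) (Steps.fwd (nat_lit 524288) (Steps.fwd (nat_lit 262144) (Steps.fwd (nat_lit 1572864) (Steps.fwd (nat_lit 262144) (Steps.bwd (nat_lit 3) (Steps.fwd (nat_lit 1310720) (Steps.fwd (nat_lit 1572864) Steps.nil))))))))))))) (nat_lit 35) (nat_lit 3)]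
noncomputable def R_96 : List (Rule) := [Rule.mk (nat_lit 2) (nat_lit 154) (Steps.bwd (nat_lit 1) (Steps.bwd (nat_lit 7) (Steps.fwd (nat_lit 786432) (Steps.bwd (nat_lit 1) (Steps.bwd (nat_lit 2) (Steps.fwd (nat_lit 1835008) (Steps.fwd (nat_lit 262144) Steps.nil))))))) (nat_lit 72) (nat_lit 2),
  Rule.mk (nat_lit 1) (nat_lit 274) (Steps.fwd (nat_lit 1572864) (Steps.fwd (nat_lit 1310720) (Steps.bwd (nat_lit 2) (Steps.fwd (nat_lit 262144) (Steps.bwd (nat_lit 6) (Steps.fwd (nat_lit 262144) (Steps.bwd (nat_lit 2) (Steps.fwd (nat_lit 262144) (Steps.fwd (nat_lit 1572864) (Steps.bwd (nat_lit 1) (Steps.bwd (nat_lit 2) (Steps.fwd (nat_lit 262144) (Steps.fwd (nat_lit 1572864) Steps.nil))))))))))))) (nat_lit 34) (nat_lit 12),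
  Rule.mk (nat_lit 3) (nat_lit 274) (Steps.bwd (nat_lit 1) (Steps.bwd (nat_lit 6) (Steps.fwd (nat_lit 262144) (Steps.fwd (nat_lit 524288) (Steps.bwd (nat_lit 5) (Steps.fwd (nat_lit 1572864) (Steps.bwd (nat_lit 1) (Steps.fwd (nat_lit 1572864) (Steps.bwd (nat_lit 1) (Steps.bwd (nat_lit 3) (Steps.fwd (nat_lit 262144) (Steps.fwd (nat_lit 1572864) (Steps.bwd (nat_lit 1) Steps.nil))))))))))))) (nat_lit 35) (nat_lit 10),
  Rule.mk (nat_lit 5) (nat_lit 274) (Steps.fwd (nat_lit 786432) (Steps.fwd (nat_lit 262144) (Steps.bwd (nat_lit 6) (Steps.bwd (nat_lit 1) (Steps.fwd (nat_lit 786432) (Steps.fwd (nat_lit 262144) (Steps.bwd (nat_lit 6) (Steps.fwd (nat_lit 262144) (Steps.bwd (nat_lit 2) (Steps.bwd (nat_lit 1) (Steps.bwd (nat_lit 6) (Steps.fwd (nat_lit 262144) (Steps.bwd (nat_lit 6) Steps.nil))))))))))))) (nat_lit 34) (nat_lit 0),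
  Rule.mk (nat_lit 1) (nat_lit 274) (Steps.fwd (nat_lit 1572864) (Steps.bwd (nat_lit 1) (Steps.bwd (nat_lit 3) (Steps.bwd (nat_lit 1) (Steps.fwd (nat_lit 1572864) (Steps.bwd (nat_lit 1) (Steps.fwd (nat_lit 524288) (Steps.bwd (nat_lit 5) (Steps.fwd (nat_lit 1572864) (Steps.fwd (nat_lit 262144) (Steps.fwd (nat_lit 1572864) (Steps.bwd (nat_lit 1) (Steps.bwd (nat_lit 3) Steps.nil))))))))))))) (nat_lit 35) (nat_lit 7),
  Rule.mk (nat_lit 2) (nat_lit 154) (Steps.fwd (nat_lit 1310720) (Steps.bwd (nat_lit 1) (Steps.bwd (nat_lit 2) (Steps.fwd (nat_lit 262144) (Steps.bwd (nat_lit 5) (Steps.fwd (nat_lit 786432) (Steps.fwd (nat_lit 262144) Steps.nil))))))) (nat_lit 70) (nat_lit 7),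
  Rule.mk (nat_lit 2) (nat_lit 114) (Steps.bwd (nat_lit 4) (Steps.bwd (nat_lit 6) (Steps.fwd (nat_lit 786432) (Steps.bwd (nat_lit 4) (Steps.fwd (nat_lit 1310720) Steps.nil))))) (nat_lit 54) (nat_lit 4),
  Rule.mk (nat_lit 0) (nat_lit 334) (Steps.fwd (nat_lit 1048576) (Steps.bwd (nat_lit 8) (Steps.bwd (nat_lit 4) (Steps.bwd (nat_lit 9) (Steps.fwd (nat_lit 1048576) (Steps.fwd (nat_lit 2359296) (Steps.fwd (nat_lit 1048576) (Steps.bwd (nat_lit 9) (Steps.fwd (nat_lit 1048576) (Steps.fwd (nat_lit 2359296) (Steps.bwd (nat_lit 4) (Steps.bwd (nat_lit 9) (Steps.fwd (nat_lit 1048576) (Steps.bwd (nat_lit 8) (Steps.bwd (nat_lit 4) (Steps.fwd (nat_lit 2097152) Steps.nil)))))))))))))))) (nat_lit 106) (nat_lit 3),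
  Rule.mk (nat_lit 5) (nat_lit 94) (Steps.bwd (nat_lit 7) (Steps.fwd (nat_lit 1572864) (Steps.bwd (nat_lit 5) (Steps.bwd (nat_lit 6) Steps.nil)))) (nat_lit 24) (nat_lit 4),
  Rule.mk (nat_lit 4) (nat_lit 114) (Steps.bwd (nat_lit 2) (Steps.bwd (nat_lit 7) (Steps.fwd (nat_lit 1048576) (Steps.bwd (nat_lit 2) (Steps.bwd (nat_lit 7) Steps.nil))))) (nat_lit 64) (nat_lit 0),
  Rule.mk (nat_lit 4) (nat_lit 114) (Steps.bwd (nat_lit 7) (Steps.fwd (nat_lit 524288) (Steps.fwd (nat_lit 1048576) (Steps.bwd (nat_lit 7) (Steps.fwd (nat_lit 524288) Steps.nil))))) (nat_lit 65) (nat_lit 1),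
  Rule.mk (nat_lit 3) (nat_lit 154) (Steps.bwd (nat_lit 5) (Steps.bwd (nat_lit 7) (Steps.fwd (nat_lit 1048576) (Steps.fwd (nat_lit 524288) (Steps.fwd (nat_lit 1572864) (Steps.fwd (nat_lit 1835008) (Steps.fwd (nat_lit 1048576) Steps.nil))))))) (nat_lit 81) (nat_lit 4),
  Rule.mk (nat_lit 1) (nat_lit 154) (Steps.bwd (nat_lit 3) (Steps.bwd (nat_lit 7) (Steps.bwd (nat_lit 1) (Steps.fwd (nat_lit 524288) (Steps.fwd (nat_lit 262144) (Steps.fwd (nat_lit 1835008) (Steps.bwd (nat_lit 3) Steps.nil))))))) (nat_lit 73) (nat_lit 3),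
  Rule.mk (nat_lit 6) (nat_lit 274) (Steps.bwd (nat_lit 1) (Steps.bwd (nat_lit 3) (Steps.bwd (nat_lit 1) (Steps.fwd (nat_lit 1572864) (Steps.bwd (nat_lit 1) (Steps.bwd (nat_lit 3) (Steps.bwd (nat_lit 5) (Steps.bwd (nat_lit 6) (Steps.bwd (nat_lit 1) (Steps.fwd (nat_lit 1572864) (Steps.bwd (nat_lit 1) (Steps.fwd (nat_lit 524288) (Steps.fwd (nat_lit 262144) Steps.nil))))))))))))) (nat_lit 35) (nat_lit 8),
  Rule.mk (nat_lit 0) (nat_lit 334) (Steps.bwd (nat_lit 4) (Steps.bwd (nat_lit 9) (Steps.fwd (nat_lit 1048576) (Steps.bwd (nat_lit 8) (Steps.fwd (nat_lit 1048576) (Steps.bwd (nat_lit 9) (Steps.bwd (nat_lit 4) (Steps.fwd (nat_lit 2359296) (Steps.bwd (nat_lit 4) (Steps.bwd (nat_lit 9) (Steps.bwd (nat_lit 4) (Steps.fwd (nat_lit 2359296) (Steps.bwd (nat_lit 4) (Steps.bwd (nat_lit 9) (Steps.bwd (nat_lit 4) (Steps.fwd (nat_lit 2359296) Steps.nil)))))))))))))))) (nat_lit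 106) (nat_lit 1),
  Rule.mk (nat_lit 0) (nat_lit 134) (Steps.bwd (nat_lit 4) (Steps.bwd (nat_lit 3) (Steps.bwd (nat_lit 5) (Steps.fwd (nat_lit 1048576) (Steps.bwd (nat_lit 3) (Steps.bwd (nat_lit 6) Steps.nil)))))) (nat_lit 55) (nat_lit 1),
  Rule.mk (nat_lit 0) (nat_lit 134) (Steps.bwd (nat_lit 4) (Steps.bwd (nat_lit 3) (Steps.bwd (nat_lit 7) (Steps.fwd (nat_lit 1048576) (Steps.bwd (nat_lit 3) (Steps.fwd (nat_lit 1835008) Steps.nil)))))) (nat_lit 57) (nat_lit 1),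
  Rule.mk (nat_lit 0) (nat_lit 134) (Steps.bwd (nat_lit 4) (Steps.fwd (nat_lit 1310720) (Steps.bwd (nat_lit 7) (Steps.bwd (nat_lit 4) (Steps.bwd (nat_lit 6) (Steps.fwd (nat_lit 1835008) Steps.nil)))))) (nat_lit 66) (nat_lit 0),
  Rule.mk (nat_lit 4) (nat_lit 154) (Steps.bwd (nat_lit 1) (Steps.bwd (nat_lit 7) (Steps.fwd (nat_lit 1048576) (Steps.fwd (nat_lit 262144) (Steps.bwd (nat_lit 4) (Steps.bwd (nat_lit 7) (Steps.bwd (nat_lit 1) Steps.nil))))))) (nat_lit 76) (nat_lit 2),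
  Rule.mk (nat_lit 2) (nat_lit 114) (Steps.bwd (nat_lit 4) (Steps.bwd (nat_lit 6) (Steps.fwd (nat_lit 786432) (Steps.bwd (nat_lit 4) (Steps.bwd (nat_lit 5) Steps.nil))))) (nat_lit 54) (nat_lit 4),
  Rule.mk (nat_lit 4) (nat_lit 154) (Steps.bwd (nat_lit 1) (Steps.bwd (nat_lit 6) (Steps.fwd (nat_lit 262144) (Steps.bwd (nat_lit 4) (Steps.fwd (nat_lit 262144) (Steps.bwd (nat_lit 6) (Steps.fwd (nat_lit 262144) Steps.nil))))))) (nat_lit 74) (nat_lit 2),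
  Rule.mk (nat_lit 9) (nat_lit 314) (Steps.bwd (nat_lit 4) (Steps.bwd (nat_lit 8) (Steps.fwd (nat_lit 1048576) (Steps.bwd (nat_lit 9) (Steps.bwd (nat_lit 4) (Steps.bwd (nat_lit 8) (Steps.fwd (nat_lit 1048576) (Steps.bwd (nat_lit 9) (Steps.fwd (nat_lit 1048576) (Steps.bwd (nat_lit 8) (Steps.fwd (nat_lit 1048576) (Steps.bwd (nat_lit 9) (Steps.fwd (nat_lit 1048576) (Steps.fwd (nat_lit 2359296) (Steps.fwd (nat_lit 1048576) Steps.nil))))))))))))))) (nat_lit 106) (nat_lit 3),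
  Rule.mk (nat_lit 1) (nat_lit 154) (Steps.bwd (nat_lit 4) (Steps.bwd (nat_lit 1) (Steps.fwd (nat_lit 1572864) (Steps.fwd (nat_lit 262144) (Steps.fwd (nat_lit 1048576) (Steps.bwd (nat_lit 1) (Steps.fwd (nat_lit 1572864) Steps.nil))))))) (nat_lit 74) (nat_lit 1),
  Rule.mk (nat_lit 4) (nat_lit 154) (Steps.bwd (nat_lit 1) (Steps.fwd (nat_lit 1048576) (Steps.fwd (nat_lit 1835008) (Steps.fwd (nat_lit 262144) (Steps.fwd (nat_lit 1048576) (Steps.bwd (nat_lit 1) (Steps.bwd (nat_lit 7) Steps.nil))))))) (nat_lit 76) (nat_lit 5),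
  Rule.mk (nat_lit 9) (nat_lit 314) (Steps.bwd (nat_lit 4) (Steps.bwd (nat_lit 8) (Steps.bwd (nat_lit 4) (Steps.bwd (nat_lit 9) (Steps.fwd (nat_lit 1048576) (Steps.fwd (nat_lit 2359296) (Steps.fwd (nat_lit 1048576) (Steps.fwd (nat_lit 2097152) (Steps.bwd (nat_lit 4) (Steps.bwd (nat_lit 8) (Steps.bwd (nat_lit 4) (Steps.bwd (nat_lit 9) (Steps.fwd (nat_lit 1048576) (Steps.bwd (nat_lit 8) (Steps.bwd (nat_lit 4) Steps.nil))))))))))))))) (nat_lit 106) (nat_lit 3),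
  Rule.mk (nat_lit 1) (nat_lit 274) (Steps.fwd (nat_lit 1572864) (Steps.fwd (nat_lit 262144) (Steps.bwd (nat_lit 3) (Steps.bwd (nat_lit 1) (Steps.bwd (nat_lit 6) (Steps.fwd (nat_lit 262144) (Steps.bwd (nat_lit 3) (Steps.bwd (nat_lit 1) (Steps.bwd (nat_lit 6) (Steps.fwd (nat_lit 262144) (Steps.fwd (nat_lit 524288) (Steps.fwd (nat_lit 1310720) (Steps.fwd (nat_lit 1572864) Steps.nil))))))))))))) (nat_lit 35) (nat_lit 3),
  Rule.mk (nat_lit 9) (nat_lit 314) (Steps.fwd (nat_lit 1048576) (Steps.fwd (nat_lit 2359296) (Steps.bwd (nat_lit 4) (Steps.bwd (nat_lit 9) (Steps.fwd (nat_lit 1048576) (Steps.fwd (nat_lit 2359296) (Steps.bwd (nat_lit 4) (Steps.fwd (nat_lit 2097152) (Steps.bwd (nat_lit 4) (Steps.fwd (nat_lit 2359296) (Steps.fwd (nat_lit 1048576) (Steps.bwd (nat_lit 9) (Steps.bwd (nat_lit 4) (Steps.bwd (nat_lit 8) (Steps.bwd (nat_lit 4) Steps.nil))))))))))))))) (nat_lit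 106) (nat_lit 3),
  Rule.mk (nat_lit 1) (nat_lit 154) (Steps.bwd (nat_lit 4) (Steps.bwd (nat_lit 1) (Steps.bwd (nat_lit 7) (Steps.fwd (nat_lit 1048576) (Steps.bwd (nat_lit 1) (Steps.bwd (nat_lit 4) (Steps.fwd (nat_lit 1835008) Steps.nil))))))) (nat_lit 76) (nat_lit 1),
  Rule.mk (nat_lit 4) (nat_lit 114) (Steps.fwd (nat_lit 524288) (Steps.bwd (nat_lit 6) (Steps.fwd (nat_lit 1048576) (Steps.bwd (nat_lit 3) (Steps.fwd (nat_lit 1310720) Steps.nil))))) (nat_lit 55) (nat_lit 5),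
  Rule.mk (nat_lit 6) (nat_lit 154) (Steps.fwd (nat_lit 524288) (Steps.bwd (nat_lit 5) (Steps.bwd (nat_lit 3) (Steps.bwd (nat_lit 7) (Steps.fwd (nat_lit 1572864) (Steps.fwd (nat_lit 524288) (Steps.fwd (nat_lit 1310720) Steps.nil))))))) (nat_lit 83) (nat_lit 5),
  Rule.mk (nat_lit 3) (nat_lit 154) (Steps.fwd (nat_lit 1572864) (Steps.bwd (nat_lit 5) (Steps.bwd (nat_lit 3) (Steps.bwd (nat_lit 6) (Steps.bwd (nat_lit 7) (Steps.bwd (nat_lit 3) (Steps.fwd (nat_lit 1310720) Steps.nil))))))) (nat_lit 85) (nat_lit 0),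
  Rule.mk (nat_lit 8) (nat_lit 314) (Steps.bwd (nat_lit 4) (Steps.bwd (nat_lit 9) (Steps.fwd (nat_lit 1048576) (Steps.bwd (nat_lit 8) (Steps.bwd (nat_lit 4) (Steps.bwd (nat_lit 9) (Steps.bwd (nat_lit 4) (Steps.fwd (nat_lit 2359296) (Steps.fwd (nat_lit 1048576) (Steps.bwd (nat_lit 9) (Steps.fwd (nat_lit 1048576) (Steps.fwd (nat_lit 2359296) (Steps.bwd (nat_lit 4) (Steps.bwd (nat_lit 9) (Steps.fwd (nat_lit 1048576) Steps.nil))))))))))))))) (nat_lit 106) (nat_lit 1),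
  Rule.mk (nat_lit 6) (nat_lit 274) (Steps.fwd (nat_lit 1310720) (Steps.bwd (nat_lit 2) (Steps.bwd (nat_lit 1) (Steps.fwd (nat_lit 1572864) (Steps.fwd (nat_lit 262144) (Steps.fwd (nat_lit 786432) (Steps.fwd (nat_lit 262144) (Steps.bwd (nat_lit 6) (Steps.fwd (nat_lit 262144) (Steps.bwd (nat_lit 2) (Steps.bwd (nat_lit 1) (Steps.bwd (nat_lit 6) (Steps.bwd (nat_lit 1) Steps.nil))))))))))))) (nat_lit 34) (nat_lit 13),
  Rule.mk (nat_lit 4) (nat_lit 114) (Steps.fwd (nat_lit 1310720) (Steps.fwd (nat_lit 786432) (Steps.fwd (nat_lit 1048576) (Steps.bwd (nat_lit 6) (Steps.fwd (nat_lit 786432) Steps.nil))))) (nat_lit 54) (nat_lit 2),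
  Rule.mk (nat_lit 0) (nat_lit 134) (Steps.bwd (nat_lit 4) (Steps.bwd (nat_lit 2) (Steps.fwd (nat_lit 1572864) (Steps.bwd (nat_lit 4) (Steps.bwd (nat_lit 2) (Steps.fwd (nat_lit 1310720) Steps.nil)))))) (nat_lit 58) (nat_lit 2),
  Rule.mk (nat_lit 2) (nat_lit 114) (Steps.fwd (nat_lit 1835008) (Steps.bwd (nat_lit 6) (Steps.fwd (nat_lit 524288) (Steps.fwd (nat_lit 1835008) (Steps.bwd (nat_lit 6) Steps.nil))))) (nat_lit 63) (nat_lit 3),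
  Rule.mk (nat_lit 3) (nat_lit 114) (Steps.fwd (nat_lit 1835008) (Steps.bwd (nat_lit 6) (Steps.fwd (nat_lit 786432) (Steps.fwd (nat_lit 1835008) (Steps.fwd (nat_lit 1572864) Steps.nil))))) (nat_lit 63) (nat_lit 0),
  Rule.mk (nat_lit 4) (nat_lit 114) (Steps.fwd (nat_lit 1310720) (Steps.fwd (nat_lit 1835008) (Steps.fwd (nat_lit 1048576) (Steps.bwd (nat_lit 6) (Steps.fwd (nat_lit 1835008) Steps.nil))))) (nat_lit 66) (nat_lit 1),
  Rule.mk (nat_lit 4) (nat_lit 154) (Steps.bwd (nat_lit 7) (Steps.bwd (nat_lit 2) (Steps.bwd (nat_lit 6) (Steps.bwd (nat_lit 4) (Steps.fwd (nat_lit 1835008) (Steps.fwd (nat_lit 786432) (Steps.bwd (nat_lit 5) Steps.nil))))))) (nat_lit 86) (nat_lit 3),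
  Rule.mk (nat_lit 2) (nat_lit 114) (Steps.bwd (nat_lit 7) (Steps.bwd (nat_lit 6) (Steps.bwd (nat_lit 3) (Steps.bwd (nat_lit 7) (Steps.fwd (nat_lit 1572864) Steps.nil))))) (nat_lit 63) (nat_lit 3),
  Rule.mk (nat_lit 2) (nat_lit 154) (Steps.bwd (nat_lit 5) (Steps.bwd (nat_lit 6) (Steps.bwd (nat_lit 2) (Steps.fwd (nat_lit 1310720) (Steps.bwd (nat_lit 2) (Steps.fwd (nat_lit 1835008) (Steps.fwd (nat_lit 1572864) Steps.nil))))))) (nat_lit 84) (nat_lit 6),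
  Rule.mk (nat_lit 0) (nat_lit 294) (Steps.bwd (nat_lit 1) (Steps.bwd (nat_lit 6) (Steps.bwd (nat_lit 1) (Steps.fwd (nat_lit 524288) (Steps.fwd (nat_lit 262144) (Steps.fwd (nat_lit 1572864) (Steps.bwd (nat_lit 1) (Steps.bwd (nat_lit 3) (Steps.fwd (nat_lit 262144) (Steps.fwd (nat_lit 1572864) (Steps.fwd (nat_lit 262144) (Steps.bwd (nat_lit 3) (Steps.fwd (nat_lit 1310720) (Steps.fwd (nat_lit 1572864) Steps.nil)))))))))))))) (nat_lit 35) (nat_lit 2),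
  Rule.mk (nat_lit 4) (nat_lit 314) (Steps.bwd (nat_lit 9) (Steps.fwd (nat_lit 1048576) (Steps.fwd (nat_lit 2359296) (Steps.bwd (nat_lit 4) (Steps.fwd (nat_lit 2097152) (Steps.bwd (nat_lit 4) (Steps.fwd (nat_lit 2359296) (Steps.fwd (nat_lit 1048576) (Steps.bwd (nat_lit 9) (Steps.fwd (nat_lit 1048576) (Steps.fwd (nat_lit 2359296) (Steps.fwd (nat_lit 1048576) (Steps.fwd (nat_lit 2097152) (Steps.fwd (nat_lit 1048576) (Steps.bwd (nat_lit 8) Steps.nil))))))))))))))) (nat_lit 106) (nat_lit 2),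
  Rule.mk (nat_lit 4) (nat_lit 314) (Steps.bwd (nat_lit 9) (Steps.bwd (nat_lit 4) (Steps.fwd (nat_lit 2359296) (Steps.fwd (nat_lit 1048576) (Steps.bwd (nat_lit 9) (Steps.bwd (nat_lit 4) (Steps.fwd (nat_lit 2359296) (Steps.fwd (nat_lit 1048576) (Steps.fwd (nat_lit 2097152) (Steps.fwd (nat_lit 1048576) (Steps.bwd (nat_lit 8) (Steps.bwd (nat_lit 4) (Steps.bwd (nat_lit 9) (Steps.bwd (nat_lit 4) (Steps.fwd (nat_lit 2359296) Steps.nil))))))))))))))) (nat_lit 106) (nat_lit 2),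
  Rule.mk (nat_lit 0) (nat_lit 334) (Steps.bwd (nat_lit 4) (Steps.bwd (nat_lit 9) (Steps.fwd (nat_lit 1048576) (Steps.fwd (nat_lit 2359296) (Steps.bwd (nat_lit 4) (Steps.bwd (nat_lit 9) (Steps.bwd (nat_lit 4) (Steps.fwd (nat_lit 2359296) (Steps.bwd (nat_lit 4) (Steps.bwd (nat_lit 9) (Steps.bwd (nat_lit 4) (Steps.fwd (nat_lit 2359296) (Steps.fwd (nat_lit 1048576) (Steps.bwd (nat_lit 9) (Steps.fwd (nat_lit 1048576) (Steps.fwd (nat_lit 2359296) Steps.nil)))))))))))))))) (nat_lit 106) (nat_lit 1),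
  Rule.mk (nat_lit 4) (nat_lit 114) (Steps.bwd (nat_lit 6) (Steps.bwd (nat_lit 2) (Steps.fwd (nat_lit 1048576) (Steps.bwd (nat_lit 5) (Steps.bwd (nat_lit 2) Steps.nil))))) (nat_lit 54) (nat_lit 5),
  Rule.mk (nat_lit 7) (nat_lit 154) (Steps.fwd (nat_lit 786432) (Steps.fwd (nat_lit 1572864) (Steps.bwd (nat_lit 4) (Steps.bwd (nat_lit 7) (Steps.fwd (nat_lit 786432) (Steps.fwd (nat_lit 1310720) (Steps.bwd (nat_lit 4) Steps.nil))))))) (nat_lit 86) (nat_lit 4),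
  Rule.mk (nat_lit 1) (nat_lit 154) (Steps.bwd (nat_lit 4) (Steps.fwd (nat_lit 262144) (Steps.bwd (nat_lit 7) (Steps.fwd (nat_lit 1048576) (Steps.bwd (nat_lit 1) (Steps.fwd (nat_lit 1048576) (Steps.fwd (nat_lit 1835008) Steps.nil))))))) (nat_lit 76) (nat_lit 1),
  Rule.mk (nat_lit 2) (nat_lit 274) (Steps.bwd (nat_lit 1) (Steps.fwd (nat_lit 1572864) (Steps.bwd (nat_lit 1) (Steps.fwd (nat_lit 1572864) (Steps.bwd (nat_lit 5) (Steps.fwd (nat_lit 786432) (Steps.bwd (nat_lit 1) (Steps.fwd (nat_lit 1572864) (Steps.bwd (nat_lit 1) (Steps.fwd (nat_lit 786432) (Steps.fwd (nat_lit 262144) (Steps.bwd (nat_lit 6) (Steps.bwd (nat_lit 1) Steps.nil))))))))))))) (nat_lit 34) (nat_lit 9),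
  Rule.mk (nat_lit 5) (nat_lit 114) (Steps.bwd (nat_lit 4) (Steps.fwd (nat_lit 524288) (Steps.bwd (nat_lit 6) (Steps.bwd (nat_lit 4) (Steps.bwd (nat_lit 3) Steps.nil))))) (nat_lit 55) (nat_lit 4),
  Rule.mk (nat_lit 3) (nat_lit 114) (Steps.bwd (nat_lit 4) (Steps.fwd (nat_lit 1835008) (Steps.bwd (nat_lit 3) (Steps.bwd (nat_lit 4) (Steps.fwd (nat_lit 1835008) Steps.nil))))) (nat_lit 65) (nat_lit 0),
  Rule.mk (nat_lit 2) (nat_lit 154) (Steps.bwd (nat_lit 4) (Steps.bwd (nat_lit 6) (Steps.fwd (nat_lit 1835008) (Steps.fwd (nat_lit 786432) (Steps.bwd (nat_lit 4) (Steps.bwd (nat_lit 5) (Steps.fwd (nat_lit 1835008) Steps.nil))))))) (nat_lit 78) (nat_lit 5),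
  Rule.mk (nat_lit 5) (nat_lit 154) (Steps.bwd (nat_lit 4) (Steps.fwd (nat_lit 524288) (Steps.fwd (nat_lit 1835008) (Steps.bwd (nat_lit 6) (Steps.bwd (nat_lit 4) (Steps.bwd (nat_lit 3) (Steps.bwd (nat_lit 7) Steps.nil))))))) (nat_lit 79) (nat_lit 6),
  Rule.mk (nat_lit 3) (nat_lit 154) (Steps.bwd (nat_lit 4) (Steps.fwd (nat_lit 1835008) (Steps.bwd (nat_lit 6) (Steps.bwd (nat_lit 3) (Steps.bwd (nat_lit 4) (Steps.fwd (nat_lit 1835008) (Steps.fwd (nat_lit 1310720) Steps.nil))))))) (nat_lit 89) (nat_lit 0),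
  Rule.mk (nat_lit 5) (nat_lit 94) (Steps.bwd (nat_lit 7) (Steps.bwd (nat_lit 6) (Steps.bwd (nat_lit 5) (Steps.bwd (nat_lit 6) Steps.nil)))) (nat_lit 24) (nat_lit 4),
  Rule.mk (nat_lit 1) (nat_lit 154) (Steps.bwd (nat_lit 3) (Steps.fwd (nat_lit 1310720) (Steps.fwd (nat_lit 262144) (Steps.bwd (nat_lit 3) (Steps.bwd (nat_lit 1) (Steps.bwd (nat_lit 5) (Steps.fwd (nat_lit 524288) Steps.nil))))))) (nat_lit 71) (nat_lit 3),
  Rule.mk (nat_lit 3) (nat_lit 154) (Steps.fwd (nat_lit 1310720) (Steps.bwd (nat_lit 3) (Steps.bwd (nat_lit 7) (Steps.fwd (nat_lit 1572864) (Steps.fwd (nat_lit 524288) (Steps.fwd (nat_lit 1310720) (Steps.bwd (nat_lit 6) Steps.nil))))))) (nat_lit 83) (nat_lit 6),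
  Rule.mk (nat_lit 3) (nat_lit 154) (Steps.bwd (nat_lit 7) (Steps.bwd (nat_lit 6) (Steps.bwd (nat_lit 3) (Steps.fwd (nat_lit 1310720) (Steps.fwd (nat_lit 1572864) (Steps.fwd (nat_lit 524288) (Steps.bwd (nat_lit 5) Steps.nil))))))) (nat_lit 83) (nat_lit 0),
  Rule.mk (nat_lit 0) (nat_lit 134) (Steps.bwd (nat_lit 4) (Steps.fwd (nat_lit 262144) (Steps.bwd (nat_lit 4) (Steps.fwd (nat_lit 262144) (Steps.fwd (nat_lit 1048576) (Steps.bwd (nat_lit 1) Steps.nil)))))) (nat_lit 16) (nat_lit 1),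
  Rule.mk (nat_lit 1) (nat_lit 154) (Steps.bwd (nat_lit 3) (Steps.fwd (nat_lit 262144) (Steps.bwd (nat_lit 2) (Steps.fwd (nat_lit 262144) (Steps.bwd (nat_lit 3) (Steps.bwd (nat_lit 1) (Steps.fwd (nat_lit 786432) Steps.nil))))))) (nat_lit 68) (nat_lit 3),
  Rule.mk (nat_lit 1) (nat_lit 154) (Steps.fwd (nat_lit 786432) (Steps.fwd (nat_lit 1310720) (Steps.bwd (nat_lit 1) (Steps.fwd (nat_lit 786432) (Steps.bwd (nat_lit 1) (Steps.fwd (nat_lit 1310720) (Steps.bwd (nat_lit 2) Steps.nil))))))) (nat_lit 70) (nat_lit 6),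
  Rule.mk (nat_lit 3) (nat_lit 154) (Steps.bwd (nat_lit 7) (Steps.bwd (nat_lit 1) (Steps.fwd (nat_lit 524288) (Steps.fwd (nat_lit 262144) (Steps.fwd (nat_lit 1835008) (Steps.bwd (nat_lit 3) (Steps.bwd (nat_lit 1) Steps.nil))))))) (nat_lit 73) (nat_lit 4),
  Rule.mk (nat_lit 0) (nat_lit 174) (Steps.bwd (nat_lit 6) (Steps.bwd (nat_lit 1) (Steps.fwd (nat_lit 1048576) (Steps.fwd (nat_lit 262144) (Steps.fwd (nat_lit 1572864) (Steps.fwd (nat_lit 262144) (Steps.bwd (nat_lit 4) (Steps.fwd (nat_lit 262144) Steps.nil)))))))) (nat_lit 74) (nat_lit 3),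
  Rule.mk (nat_lit 1) (nat_lit 274) (Steps.bwd (nat_lit 6) (Steps.bwd (nat_lit 1) (Steps.fwd (nat_lit 786432) (Steps.fwd (nat_lit 262144) (Steps.bwd (nat_lit 6) (Steps.bwd (nat_lit 1) (Steps.bwd (nat_lit 2) (Steps.fwd (nat_lit 262144) (Steps.fwd (nat_lit 1572864) (Steps.fwd (nat_lit 262144) (Steps.bwd (nat_lit 6) (Steps.fwd (nat_lit 1310720) (Steps.bwd (nat_lit 2) Steps.nil))))))))))))) (nat_lit 34) (nat_lit 2)]
noncomputable def R_97 : List (Rule) := [Rule.mk (nat_lit 1) (nat_lit 274) (Steps.fwd (nat_lit 1572864) (Steps.fwd (nat_lit 262144) (Steps.bwd (nat_lit 3) (Steps.bwd (nat_lit 1) (Steps.bwd (nat_lit 6) (Steps.bwd (nat_lit 1) (Steps.bwd (nat_lit 3) (Steps.fwd (nat_lit 262144) (Steps.bwd (nat_lit 6) (Steps.fwd (nat_lit 262144) (Steps.fwd (nat_lit 524288) (Steps.fwd (nat_lit 1310720) (Steps.bwd (nat_lit 6) Steps.nil))))))))))))) (nat_lit 35) (nat_lit 3),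
  Rule.mk (nat_lit 2) (nat_lit 154) (Steps.bwd (nat_lit 7) (Steps.bwd (nat_lit 5) (Steps.fwd (nat_lit 1048576) (Steps.bwd (nat_lit 2) (Steps.bwd (nat_lit 7) (Steps.fwd (nat_lit 1572864) (Steps.fwd (nat_lit 1048576) Steps.nil))))))) (nat_lit 92) (nat_lit 1),
  Rule.mk (nat_lit 1) (nat_lit 154) (Steps.fwd (nat_lit 786432) (Steps.bwd (nat_lit 1) (Steps.bwd (nat_lit 3) (Steps.fwd (nat_lit 262144) (Steps.bwd (nat_lit 2) (Steps.bwd (nat_lit 1) (Steps.fwd (nat_lit 524288) Steps.nil))))))) (nat_lit 68) (nat_lit 1),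
  Rule.mk (nat_lit 1) (nat_lit 274) (Steps.bwd (nat_lit 6) (Steps.fwd (nat_lit 262144) (Steps.fwd (nat_lit 1572864) (Steps.bwd (nat_lit 5) (Steps.fwd (nat_lit 786432) (Steps.fwd (nat_lit 262144) (Steps.bwd (nat_lit 6) (Steps.bwd (nat_lit 1) (Steps.fwd (nat_lit 786432) (Steps.bwd (nat_lit 1) (Steps.bwd (nat_lit 6) (Steps.fwd (nat_lit 262144) (Steps.bwd (nat_lit 2) Steps.nil))))))))))))) (nat_lit 34) (nat_lit 10),
  Rule.mk (nat_lit 4) (nat_lit 314) (Steps.bwd (nat_lit 9) (Steps.bwd (nat_lit 4) (Steps.fwd (nat_lit 2359296) (Steps.bwd (nat_lit 4) (Steps.fwd (nat_lit 2097152) (Steps.fwd (nat_lit 1048576) (Steps.bwd (nat_lit 8) (Steps.bwd (nat_lit 4) (Steps.bwd (nat_lit 9) (Steps.bwd (nat_lit 4) (Steps.bwd (nat_lit 8) (Steps.bwd (nat_lit 4) (Steps.fwd (nat_lit 2097152) (Steps.bwd (nat_lit 4) (Steps.fwd (nat_lit 2359296) Steps.nil))))))))))))))) (nat_lit 106) (nat_lit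 2),
  Rule.mk (nat_lit 0) (nat_lit 134) (Steps.bwd (nat_lit 4) (Steps.fwd (nat_lit 1835008) (Steps.fwd (nat_lit 786432) (Steps.bwd (nat_lit 4) (Steps.bwd (nat_lit 7) (Steps.fwd (nat_lit 786432) Steps.nil)))))) (nat_lit 56) (nat_lit 1),
  Rule.mk (nat_lit 8) (nat_lit 314) (Steps.bwd (nat_lit 4) (Steps.bwd (nat_lit 9) (Steps.bwd (nat_lit 4) (Steps.bwd (nat_lit 8) (Steps.bwd (nat_lit 4) (Steps.fwd (nat_lit 2097152) (Steps.fwd (nat_lit 1048576) (Steps.bwd (nat_lit 8) (Steps.fwd (nat_lit 1048576) (Steps.fwd (nat_lit 2097152) (Steps.fwd (nat_lit 1048576) (Steps.fwd (nat_lit 2359296) (Steps.bwd (nat_lit 4) (Steps.fwd (nat_lit 2097152) (Steps.bwd (nat_lit 4) Steps.nil))))))))))))))) (nat_lit 106) (nat_lit 1),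
  Rule.mk (nat_lit 4) (nat_lit 314) (Steps.bwd (nat_lit 9) (Steps.fwd (nat_lit 1048576) (Steps.fwd (nat_lit 2359296) (Steps.bwd (nat_lit 4) (Steps.fwd (nat_lit 2097152) (Steps.bwd (nat_lit 4) (Steps.fwd (nat_lit 2359296) (Steps.bwd (nat_lit 4) (Steps.bwd (nat_lit 9) (Steps.fwd (nat_lit 1048576) (Steps.fwd (nat_lit 2359296) (Steps.fwd (nat_lit 1048576) (Steps.bwd (nat_lit 9) (Steps.bwd (nat_lit 4) (Steps.fwd (nat_lit 2359296) Steps.nil))))))))))))))) (nat_lit 106) (nat_lit 2),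
  Rule.mk (nat_lit 0) (nat_lit 134) (Steps.fwd (nat_lit 524288) (Steps.bwd (nat_lit 5) (Steps.bwd (nat_lit 4) (Steps.bwd (nat_lit 3) (Steps.fwd (nat_lit 1572864) (Steps.fwd (nat_lit 1048576) Steps.nil)))))) (nat_lit 55) (nat_lit 2),
  Rule.mk (nat_lit 4) (nat_lit 154) (Steps.fwd (nat_lit 524288) (Steps.bwd (nat_lit 7) (Steps.bwd (nat_lit 5) (Steps.bwd (nat_lit 4) (Steps.bwd (nat_lit 3) (Steps.fwd (nat_lit 1835008) (Steps.bwd (nat_lit 6) Steps.nil))))))) (nat_lit 79) (nat_lit 3),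
  Rule.mk (nat_lit 4) (nat_lit 154) (Steps.bwd (nat_lit 6) (Steps.bwd (nat_lit 3) (Steps.fwd (nat_lit 1835008) (Steps.bwd (nat_lit 4) (Steps.fwd (nat_lit 1310720) (Steps.fwd (nat_lit 524288) (Steps.fwd (nat_lit 1835008) Steps.nil))))))) (nat_lit 87) (nat_lit 2),
  Rule.mk (nat_lit 2) (nat_lit 154) (Steps.fwd (nat_lit 1048576) (Steps.bwd (nat_lit 7) (Steps.fwd (nat_lit 1310720) (Steps.fwd (nat_lit 786432) (Steps.fwd (nat_lit 1048576) (Steps.bwd (nat_lit 7) (Steps.bwd (nat_lit 6) Steps.nil))))))) (nat_lit 80) (nat_lit 1),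
  Rule.mk (nat_lit 6) (nat_lit 154) (Steps.bwd (nat_lit 5) (Steps.bwd (nat_lit 2) (Steps.bwd (nat_lit 6) (Steps.fwd (nat_lit 1835008) (Steps.fwd (nat_lit 786432) (Steps.bwd (nat_lit 5) (Steps.bwd (nat_lit 2) Steps.nil))))))) (nat_lit 82) (nat_lit 4),
  Rule.mk (nat_lit 1) (nat_lit 274) (Steps.bwd (nat_lit 2) (Steps.fwd (nat_lit 262144) (Steps.fwd (nat_lit 1572864) (Steps.fwd (nat_lit 262144) (Steps.fwd (nat_lit 786432) (Steps.bwd (nat_lit 1) (Steps.bwd (nat_lit 6) (Steps.fwd (nat_lit 262144) (Steps.bwd (nat_lit 6) (Steps.bwd (nat_lit 5) (Steps.bwd (nat_lit 2) (Steps.bwd (nat_lit 1) (Steps.bwd (nat_lit 6) Steps.nil))))))))))))) (nat_lit 34) (nat_lit 4),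
  Rule.mk (nat_lit 7) (nat_lit 114) (Steps.bwd (nat_lit 1) (Steps.bwd (nat_lit 5) (Steps.fwd (nat_lit 1835008) (Steps.bwd (nat_lit 1) (Steps.fwd (nat_lit 1310720) Steps.nil))))) (nat_lit 52) (nat_lit 0),
  Rule.mk (nat_lit 3) (nat_lit 114) (Steps.bwd (nat_lit 4) (Steps.bwd (nat_lit 7) (Steps.fwd (nat_lit 524288) (Steps.fwd (nat_lit 1048576) (Steps.bwd (nat_lit 7) Steps.nil))))) (nat_lit 65) (nat_lit 0),
  Rule.mk (nat_lit 8) (nat_lit 314) (Steps.fwd (nat_lit 1048576) (Steps.bwd (nat_lit 9) (Steps.bwd (nat_lit 4) (Steps.bwd (nat_lit 8) (Steps.fwd (nat_lit 1048576) (Steps.fwd (nat_lit 2097152) (Steps.fwd (nat_lit 1048576) (Steps.bwd (nat_lit 8) (Steps.bwd (nat_lit 4) (Steps.fwd (nat_lit 2097152) (Steps.fwd (nat_lit 1048576) (Steps.bwd (nat_lit 8) (Steps.fwd (nat_lit 1048576) (Steps.bwd (nat_lit 9) (Steps.fwd (nat_lit 1048576) Steps.nil))))))))))))))) (nat_lit 106)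 (nat_lit 1),
  Rule.mk (nat_lit 1) (nat_lit 154) (Steps.bwd (nat_lit 4) (Steps.fwd (nat_lit 262144) (Steps.bwd (nat_lit 7) (Steps.bwd (nat_lit 4) (Steps.fwd (nat_lit 262144) (Steps.fwd (nat_lit 1048576) (Steps.bwd (nat_lit 7) Steps.nil))))))) (nat_lit 76) (nat_lit 1),
  Rule.mk (nat_lit 2) (nat_lit 154) (Steps.bwd (nat_lit 6) (Steps.fwd (nat_lit 1310720) (Steps.fwd (nat_lit 786432) (Steps.fwd (nat_lit 1572864) (Steps.bwd (nat_lit 7) (Steps.fwd (nat_lit 786432) (Steps.fwd (nat_lit 1310720) Steps.nil))))))) (nat_lit 82) (nat_lit 3),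
  Rule.mk (nat_lit 1) (nat_lit 114) (Steps.fwd (nat_lit 2359296) (Steps.fwd (nat_lit 786432) (Steps.fwd (nat_lit 262144) (Steps.bwd (nat_lit 3) (Steps.fwd (nat_lit 2097152) Steps.nil))))) (nat_lit 104) (nat_lit 0),
  Rule.mk (nat_lit 4) (nat_lit 154) (Steps.bwd (nat_lit 7) (Steps.bwd (nat_lit 1) (Steps.fwd (nat_lit 1048576) (Steps.bwd (nat_lit 1) (Steps.fwd (nat_lit 1835008) (Steps.fwd (nat_lit 1048576) (Steps.fwd (nat_lit 262144) Steps.nil))))))) (nat_lit 76) (nat_lit 7),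
  Rule.mk (nat_lit 1) (nat_lit 274) (Steps.bwd (nat_lit 6) (Steps.fwd (nat_lit 1310720) (Steps.fwd (nat_lit 786432) (Steps.fwd (nat_lit 262144) (Steps.bwd (nat_lit 6) (Steps.bwd (nat_lit 1) (Steps.fwd (nat_lit 786432) (Steps.fwd (nat_lit 262144) (Steps.fwd (nat_lit 1572864) (Steps.bwd (nat_lit 1) (Steps.bwd (nat_lit 2) (Steps.fwd (nat_lit 262144) (Steps.fwd (nat_lit 1572864) Steps.nil))))))))))))) (nat_lit 34) (nat_lit 12),
  Rule.mk (nat_lit 1) (nat_lit 154) (Steps.fwd (nat_lit 1048576) (Steps.bwd (nat_lit 1) (Steps.fwd (nat_lit 1835008) (Steps.fwd (nat_lit 1048576) (Steps.bwd (nat_lit 1) (Steps.bwd (nat_lit 4) (Steps.bwd (nat_lit 7) Steps.nil))))))) (nat_lit 76) (nat_lit 1),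
  Rule.mk (nat_lit 4) (nat_lit 154) (Steps.bwd (nat_lit 1) (Steps.fwd (nat_lit 1048576) (Steps.bwd (nat_lit 7) (Steps.bwd (nat_lit 1) (Steps.fwd (nat_lit 1048576) (Steps.bwd (nat_lit 1) (Steps.fwd (nat_lit 1835008) Steps.nil))))))) (nat_lit 76) (nat_lit 5),
  Rule.mk (nat_lit 1) (nat_lit 274) (Steps.bwd (nat_lit 3) (Steps.bwd (nat_lit 1) (Steps.bwd (nat_lit 6) (Steps.fwd (nat_lit 262144) (Steps.bwd (nat_lit 3) (Steps.bwd (nat_lit 1) (Steps.bwd (nat_lit 6) (Steps.bwd (nat_lit 1) (Steps.bwd (nat_lit 3) (Steps.fwd (nat_lit 1310720) (Steps.bwd (nat_lit 6) (Steps.fwd (nat_lit 262144) (Steps.bwd (nat_lit 6) Steps.nil))))))))))))) (nat_lit 35) (nat_lit 5),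
  Rule.mk (nat_lit 1) (nat_lit 114) (Steps.fwd (nat_lit 786432) (Steps.bwd (nat_lit 1) (Steps.fwd (nat_lit 786432) (Steps.fwd (nat_lit 262144) (Steps.fwd (nat_lit 786432) Steps.nil))))) (nat_lit 12) (nat_lit 1),
  Rule.mk (nat_lit 1) (nat_lit 154) (Steps.fwd (nat_lit 786432) (Steps.fwd (nat_lit 1310720) (Steps.bwd (nat_lit 1) (Steps.fwd (nat_lit 786432) (Steps.fwd (nat_lit 262144) (Steps.bwd (nat_lit 5) (Steps.bwd (nat_lit 2) Steps.nil))))))) (nat_lit 70) (nat_lit 6),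
  Rule.mk (nat_lit 3) (nat_lit 154) (Steps.fwd (nat_lit 1310720) (Steps.bwd (nat_lit 1) (Steps.bwd (nat_lit 3) (Steps.bwd (nat_lit 1) (Steps.fwd (nat_lit 1310720) (Steps.fwd (nat_lit 524288) (Steps.bwd (nat_lit 1) Steps.nil))))))) (nat_lit 71) (nat_lit 4),
  Rule.mk (nat_lit 1) (nat_lit 154) (Steps.fwd (nat_lit 524288) (Steps.fwd (nat_lit 1835008) (Steps.bwd (nat_lit 1) (Steps.bwd (nat_lit 3) (Steps.bwd (nat_lit 1) (Steps.bwd (nat_lit 7) (Steps.bwd (nat_lit 3) Steps.nil))))))) (nat_lit 73) (nat_lit 3),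
  Rule.mk (nat_lit 4) (nat_lit 154) (Steps.fwd (nat_lit 262144) (Steps.fwd (nat_lit 1835008) (Steps.fwd (nat_lit 1048576) (Steps.bwd (nat_lit 1) (Steps.fwd (nat_lit 1048576) (Steps.bwd (nat_lit 7) (Steps.fwd (nat_lit 262144) Steps.nil))))))) (nat_lit 76) (nat_lit 2),
  Rule.mk (nat_lit 6) (nat_lit 114) (Steps.fwd (nat_lit 524288) (Steps.bwd (nat_lit 4) (Steps.bwd (nat_lit 5) (Steps.bwd (nat_lit 3) (Steps.bwd (nat_lit 4) Steps.nil))))) (nat_lit 59) (nat_lit 2),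
  Rule.mk (nat_lit 2) (nat_lit 154) (Steps.bwd (nat_lit 4) (Steps.bwd (nat_lit 5) (Steps.fwd (nat_lit 1835008) (Steps.fwd (nat_lit 786432) (Steps.bwd (nat_lit 4) (Steps.bwd (nat_lit 6) (Steps.fwd (nat_lit 1835008) Steps.nil))))))) (nat_lit 78) (nat_lit 1),
  Rule.mk (nat_lit 2) (nat_lit 154) (Steps.bwd (nat_lit 7) (Steps.bwd (nat_lit 4) (Steps.bwd (nat_lit 5) (Steps.fwd (nat_lit 786432) (Steps.fwd (nat_lit 1835008) (Steps.bwd (nat_lit 4) (Steps.bwd (nat_lit 6) Steps.nil))))))) (nat_lit 90) (nat_lit 1),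
  Rule.mk (nat_lit 4) (nat_lit 314) (Steps.bwd (nat_lit 8) (Steps.bwd (nat_lit 4) (Steps.fwd (nat_lit 2097152) (Steps.bwd (nat_lit 4) (Steps.fwd (nat_lit 2359296) (Steps.fwd (nat_lit 1048576) (Steps.fwd (nat_lit 2097152) (Steps.fwd (nat_lit 1048576) (Steps.fwd (nat_lit 2359296) (Steps.fwd (nat_lit 1048576) (Steps.fwd (nat_lit 2097152) (Steps.bwd (nat_lit 4) (Steps.fwd (nat_lit 2359296) (Steps.bwd (nat_lit 4) (Steps.fwd (nat_lit 2097152) Steps.nil))))))))))))))) (nat_lit 106) (nat_lit 0),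
  Rule.mk (nat_lit 0) (nat_lit 134) (Steps.bwd (nat_lit 4) (Steps.bwd (nat_lit 5) (Steps.bwd (nat_lit 2) (Steps.fwd (nat_lit 1048576) (Steps.bwd (nat_lit 6) (Steps.fwd (nat_lit 786432) Steps.nil)))))) (nat_lit 54) (nat_lit 1),
  Rule.mk (nat_lit 4) (nat_lit 314) (Steps.fwd (nat_lit 2359296) (Steps.fwd (nat_lit 1048576) (Steps.bwd (nat_lit 9) (Steps.bwd (nat_lit 4) (Steps.bwd (nat_lit 8) (Steps.fwd (nat_lit 1048576) (Steps.bwd (nat_lit 9) (Steps.bwd (nat_lit 4) (Steps.fwd (nat_lit 2359296) (Steps.fwd (nat_lit 1048576) (Steps.fwd (nat_lit 2097152) (Steps.fwd (nat_lit 1048576) (Steps.fwd (nat_lit 2359296) (Steps.bwd (nat_lit 4) (Steps.bwd (nat_lit 9) Steps.nil))))))))))))))) (nat_lit 106) (nat_lit 0),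
  Rule.mk (nat_lit 4) (nat_lit 154) (Steps.fwd (nat_lit 262144) (Steps.bwd (nat_lit 4) (Steps.bwd (nat_lit 7) (Steps.fwd (nat_lit 262144) (Steps.fwd (nat_lit 1048576) (Steps.fwd (nat_lit 262144) (Steps.bwd (nat_lit 7) Steps.nil))))))) (nat_lit 76) (nat_lit 5),
  Rule.mk (nat_lit 6) (nat_lit 114) (Steps.fwd (nat_lit 1835008) (Steps.bwd (nat_lit 4) (Steps.fwd (nat_lit 1310720) (Steps.bwd (nat_lit 7) (Steps.bwd (nat_lit 4) Steps.nil))))) (nat_lit 66) (nat_lit 5),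
  Rule.mk (nat_lit 4) (nat_lit 154) (Steps.fwd (nat_lit 262144) (Steps.bwd (nat_lit 7) (Steps.fwd (nat_lit 1048576) (Steps.fwd (nat_lit 262144) (Steps.bwd (nat_lit 4) (Steps.fwd (nat_lit 1835008) (Steps.bwd (nat_lit 1) Steps.nil))))))) (nat_lit 76) (nat_lit 2),
  Rule.mk (nat_lit 4) (nat_lit 154) (Steps.fwd (nat_lit 1310720) (Steps.bwd (nat_lit 7) (Steps.fwd (nat_lit 786432) (Steps.bwd (nat_lit 4) (Steps.bwd (nat_lit 6) (Steps.fwd (nat_lit 1835008) (Steps.fwd (nat_lit 786432) Steps.nil))))))) (nat_lit 78) (nat_lit 2),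
  Rule.mk (nat_lit 0) (nat_lit 334) (Steps.bwd (nat_lit 9) (Steps.bwd (nat_lit 4) (Steps.fwd (nat_lit 2359296) (Steps.fwd (nat_lit 1048576) (Steps.fwd (nat_lit 2097152) (Steps.fwd (nat_lit 1048576) (Steps.bwd (nat_lit 8) (Steps.fwd (nat_lit 1048576) (Steps.fwd (nat_lit 2097152) (Steps.fwd (nat_lit 1048576) (Steps.fwd (nat_lit 2359296) (Steps.fwd (nat_lit 1048576) (Steps.bwd (nat_lit 9) (Steps.bwd (nat_lit 4) (Steps.bwd (nat_lit 8) (Steps.fwd (nat_lit 1048576) Steps.nil)))))))))))))))) (nat_lit 106) (nat_lit 2),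
  Rule.mk (nat_lit 4) (nat_lit 114) (Steps.bwd (nat_lit 3) (Steps.bwd (nat_lit 7) (Steps.fwd (nat_lit 1048576) (Steps.bwd (nat_lit 3) (Steps.fwd (nat_lit 1835008) Steps.nil))))) (nat_lit 57) (nat_lit 2),
  Rule.mk (nat_lit 4) (nat_lit 154) (Steps.fwd (nat_lit 786432) (Steps.bwd (nat_lit 6) (Steps.bwd (nat_lit 7) (Steps.fwd (nat_lit 1048576) (Steps.bwd (nat_lit 2) (Steps.fwd (nat_lit 1310720) (Steps.fwd (nat_lit 1835008) Steps.nil))))))) (nat_lit 88) (nat_lit 4),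
  Rule.mk (nat_lit 4) (nat_lit 154) (Steps.fwd (nat_lit 1835008) (Steps.bwd (nat_lit 5) (Steps.bwd (nat_lit 3) (Steps.fwd (nat_lit 1048576) (Steps.bwd (nat_lit 7) (Steps.fwd (nat_lit 1572864) (Steps.bwd (nat_lit 3) Steps.nil))))))) (nat_lit 89) (nat_lit 5),
  Rule.mk (nat_lit 6) (nat_lit 114) (Steps.fwd (nat_lit 786432) (Steps.fwd (nat_lit 1048576) (Steps.fwd (nat_lit 1310720) (Steps.fwd (nat_lit 786432) (Steps.bwd (nat_lit 4) Steps.nil))))) (nat_lit 54) (nat_lit 0),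
  Rule.mk (nat_lit 1) (nat_lit 154) (Steps.fwd (nat_lit 1572864) (Steps.bwd (nat_lit 1) (Steps.bwd (nat_lit 4) (Steps.bwd (nat_lit 1) (Steps.bwd (nat_lit 6) (Steps.fwd (nat_lit 262144) (Steps.bwd (nat_lit 4) Steps.nil))))))) (nat_lit 74) (nat_lit 3),
  Rule.mk (nat_lit 1) (nat_lit 154) (Steps.bwd (nat_lit 2) (Steps.bwd (nat_lit 1) (Steps.bwd (nat_lit 3) (Steps.bwd (nat_lit 1) (Steps.bwd (nat_lit 2) (Steps.bwd (nat_lit 1) (Steps.bwd (nat_lit 3) Steps.nil))))))) (nat_lit 68) (nat_lit 1),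
  Rule.mk (nat_lit 2) (nat_lit 154) (Steps.bwd (nat_lit 1) (Steps.bwd (nat_lit 3) (Steps.fwd (nat_lit 262144) (Steps.fwd (nat_lit 786432) (Steps.fwd (nat_lit 262144) (Steps.fwd (nat_lit 524288) (Steps.bwd (nat_lit 1) Steps.nil))))))) (nat_lit 68) (nat_lit 2),
  Rule.mk (nat_lit 3) (nat_lit 154) (Steps.bwd (nat_lit 1) (Steps.fwd (nat_lit 524288) (Steps.bwd (nat_lit 7) (Steps.fwd (nat_lit 262144) (Steps.fwd (nat_lit 524288) (Steps.bwd (nat_lit 1) (Steps.fwd (nat_lit 1835008) Steps.nil))))))) (nat_lit 73) (nat_lit 2),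
  Rule.mk (nat_lit 0) (nat_lit 294) (Steps.bwd (nat_lit 6) (Steps.bwd (nat_lit 1) (Steps.bwd (nat_lit 3) (Steps.fwd (nat_lit 1310720) (Steps.bwd (nat_lit 6) (Steps.bwd (nat_lit 1) (Steps.fwd (nat_lit 1572864) (Steps.bwd (nat_lit 1) (Steps.bwd (nat_lit 3) (Steps.bwd (nat_lit 1) (Steps.bwd (nat_lit 6) (Steps.bwd (nat_lit 1) (Steps.fwd (nat_lit 524288) (Steps.fwd (nat_lit 262144) Steps.nil)))))))))))))) (nat_lit 35) (nat_lit 11),
  Rule.mk (nat_lit 0) (nat_lit 134) (Steps.bwd (nat_lit 5) (Steps.bwd (nat_lit 7) (Steps.bwd (nat_lit 1) (Steps.bwd (nat_lit 5) (Steps.fwd (nat_lit 1835008) (Steps.fwd (nat_lit 262144) Steps.nil)))))) (nat_lit 52) (nat_lit 1),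
  Rule.mk (nat_lit 1) (nat_lit 154) (Steps.bwd (nat_lit 3) (Steps.bwd (nat_lit 1) (Steps.fwd (nat_lit 786432) (Steps.bwd (nat_lit 1) (Steps.fwd (nat_lit 524288) (Steps.fwd (nat_lit 262144) (Steps.fwd (nat_lit 786432) Steps.nil))))))) (nat_lit 68) (nat_lit 3),
  Rule.mk (nat_lit 4) (nat_lit 154) (Steps.fwd (nat_lit 1835008) (Steps.bwd (nat_lit 1) (Steps.fwd (nat_lit 1048576) (Steps.fwd (nat_lit 262144) (Steps.bwd (nat_lit 7) (Steps.bwd (nat_lit 4) (Steps.fwd (nat_lit 262144) Steps.nil))))))) (nat_lit 76) (nat_lit 7),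
  Rule.mk (nat_lit 1) (nat_lit 274) (Steps.fwd (nat_lit 786432) (Steps.bwd (nat_lit 1) (Steps.fwd (nat_lit 1572864) (Steps.fwd (nat_lit 262144) (Steps.bwd (nat_lit 2) (Steps.bwd (nat_lit 1) (Steps.bwd (nat_lit 6) (Steps.bwd (nat_lit 1) (Steps.fwd (nat_lit 1572864) (Steps.bwd (nat_lit 5) (Steps.bwd (nat_lit 2) (Steps.bwd (nat_lit 1) (Steps.fwd (nat_lit 1572864) Steps.nil))))))))))))) (nat_lit 34) (nat_lit 4),
  Rule.mk (nat_lit 4) (nat_lit 154) (Steps.fwd (nat_lit 262144) (Steps.bwd (nat_lit 6) (Steps.fwd (nat_lit 262144) (Steps.bwd (nat_lit 4) (Steps.bwd (nat_lit 1) (Steps.fwd (nat_lit 1572864) (Steps.fwd (nat_lit 262144) Steps.nil))))))) (nat_lit 74) (nat_lit 2),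
  Rule.mk (nat_lit 3) (nat_lit 114) (Steps.bwd (nat_lit 4) (Steps.fwd (nat_lit 1835008) (Steps.bwd (nat_lit 3) (Steps.bwd (nat_lit 4) (Steps.bwd (nat_lit 7) Steps.nil))))) (nat_lit 65) (nat_lit 0),
  Rule.mk (nat_lit 3) (nat_lit 74) (Steps.fwd (nat_lit 2097152) (Steps.fwd (nat_lit 786432) (Steps.bwd (nat_lit 8) Steps.nil))) (nat_lit 97) (nat_lit 3),
  Rule.mk (nat_lit 4) (nat_lit 314) (Steps.bwd (nat_lit 9) (Steps.bwd (nat_lit 4) (Steps.fwd (nat_lit 2359296) (Steps.bwd (nat_lit 4) (Steps.bwd (nat_lit 9) (Steps.fwd (nat_lit 1048576) (Steps.fwd (nat_lit 2359296) (Steps.fwd (nat_lit 1048576) (Steps.bwd (nat_lit 9) (Steps.fwd (nat_lit 1048576) (Steps.fwd (nat_lit 2359296) (Steps.fwd (nat_lit 1048576) (Steps.bwd (nat_lit 9) (Steps.bwd (nat_lit 4) (Steps.bwd (nat_lit 8) Steps.nil))))))))))))))) (nat_lit 106) (nat_lit 2),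
  Rule.mk (nat_lit 4) (nat_lit 114) (Steps.bwd (nat_lit 7) (Steps.fwd (nat_lit 1572864) (Steps.bwd (nat_lit 4) (Steps.fwd (nat_lit 1835008) (Steps.fwd (nat_lit 1310720) Steps.nil))))) (nat_lit 67) (nat_lit 0),
  Rule.mk (nat_lit 2) (nat_lit 274) (Steps.bwd (nat_lit 1) (Steps.fwd (nat_lit 1572864) (Steps.bwd (nat_lit 1) (Steps.fwd (nat_lit 786432) (Steps.bwd (nat_lit 1) (Steps.fwd (nat_lit 1572864) (Steps.bwd (nat_lit 1) (Steps.fwd (nat_lit 1572864) (Steps.fwd (nat_lit 1310720) (Steps.bwd (nat_lit 2) (Steps.bwd (nat_lit 1) (Steps.fwd (nat_lit 1572864) (Steps.fwd (nat_lit 262144) Steps.nil))))))))))))) (nat_lit 34) (nat_lit 5),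
  Rule.mk (nat_lit 2) (nat_lit 274) (Steps.bwd (nat_lit 1) (Steps.fwd (nat_lit 1572864) (Steps.bwd (nat_lit 1) (Steps.fwd (nat_lit 1572864) (Steps.fwd (nat_lit 1310720) (Steps.fwd (nat_lit 786432) (Steps.bwd (nat_lit 1) (Steps.fwd (nat_lit 1572864) (Steps.bwd (nat_lit 1) (Steps.bwd (nat_lit 2) (Steps.bwd (nat_lit 1) (Steps.fwd (nat_lit 1572864) (Steps.fwd (nat_lit 262144) Steps.nil))))))))))))) (nat_lit 34) (nat_lit 9),
  Rule.mk (nat_lit 3) (nat_lit 114) (Steps.fwd (nat_lit 1572864) (Steps.bwd (nat_lit 7) (Steps.bwd (nat_lit 2) (Steps.fwd (nat_lit 1572864) (Steps.fwd (nat_lit 1835008) Steps.nil))))) (nat_lit 62) (nat_lit 4),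
  Rule.mk (nat_lit 1) (nat_lit 274) (Steps.fwd (nat_lit 1572864) (Steps.bwd (nat_lit 1) (Steps.fwd (nat_lit 1572864) (Steps.bwd (nat_lit 5) (Steps.bwd (nat_lit 2) (Steps.bwd (nat_lit 1) (Steps.fwd (nat_lit 1572864) (Steps.fwd (nat_lit 262144) (Steps.bwd (nat_lit 2) (Steps.bwd (nat_lit 1) (Steps.fwd (nat_lit 1572864) (Steps.bwd (nat_lit 1) (Steps.fwd (nat_lit 786432) Steps.nil))))))))))))) (nat_lit 34) (nat_lit 10),
  Rule.mk (nat_lit 4) (nat_lit 114) (Steps.fwd (nat_lit 1835008) (Steps.fwd (nat_lit 524288) (Steps.bwd (nat_lit 4) (Steps.fwd (nat_lit 1835008) (Steps.bwd (nat_lit 3) Steps.nil))))) (nat_lit 65) (nat_lit 1)]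
noncomputable def R_98 : List (Rule) := [Rule.mk (nat_lit 5) (nat_lit 154) (Steps.fwd (nat_lit 1048576) (Steps.fwd (nat_lit 524288) (Steps.fwd (nat_lit 1835008) (Steps.bwd (nat_lit 6) (Steps.bwd (nat_lit 4) (Steps.bwd (nat_lit 3) (Steps.fwd (nat_lit 1835008) Steps.nil))))))) (nat_lit 79) (nat_lit 6),
  Rule.mk (nat_lit 6) (nat_lit 114) (Steps.fwd (nat_lit 1048576) (Steps.fwd (nat_lit 786432) (Steps.bwd (nat_lit 5) (Steps.fwd (nat_lit 1048576) (Steps.fwd (nat_lit 786432) Steps.nil))))) (nat_lit 58) (nat_lit 5),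
  Rule.mk (nat_lit 3) (nat_lit 114) (Steps.fwd (nat_lit 1048576) (Steps.bwd (nat_lit 5) (Steps.bwd (nat_lit 3) (Steps.bwd (nat_lit 4) (Steps.bwd (nat_lit 6) Steps.nil))))) (nat_lit 59) (nat_lit 3),
  Rule.mk (nat_lit 4) (nat_lit 154) (Steps.bwd (nat_lit 6) (Steps.bwd (nat_lit 7) (Steps.bwd (nat_lit 3) (Steps.bwd (nat_lit 4) (Steps.fwd (nat_lit 1310720) (Steps.bwd (nat_lit 7) (Steps.fwd (nat_lit 524288) Steps.nil))))))) (nat_lit 93) (nat_lit 1),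
  Rule.mk (nat_lit 3) (nat_lit 114) (Steps.bwd (nat_lit 4) (Steps.bwd (nat_lit 6) (Steps.fwd (nat_lit 524288) (Steps.bwd (nat_lit 4) (Steps.fwd (nat_lit 1310720) Steps.nil))))) (nat_lit 59) (nat_lit 0),
  Rule.mk (nat_lit 5) (nat_lit 154) (Steps.bwd (nat_lit 7) (Steps.bwd (nat_lit 4) (Steps.bwd (nat_lit 3) (Steps.fwd (nat_lit 1572864) (Steps.bwd (nat_lit 7) (Steps.bwd (nat_lit 4) (Steps.fwd (nat_lit 524288) Steps.nil))))))) (nat_lit 81) (nat_lit 5),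
  Rule.mk (nat_lit 5) (nat_lit 154) (Steps.bwd (nat_lit 7) (Steps.bwd (nat_lit 2) (Steps.fwd (nat_lit 1048576) (Steps.bwd (nat_lit 6) (Steps.bwd (nat_lit 7) (Steps.fwd (nat_lit 786432) (Steps.fwd (nat_lit 1048576) Steps.nil))))))) (nat_lit 78) (nat_lit 3),
  Rule.mk (nat_lit 5) (nat_lit 94) (Steps.fwd (nat_lit 1835008) (Steps.bwd (nat_lit 6) (Steps.bwd (nat_lit 5) (Steps.bwd (nat_lit 6) Steps.nil)))) (nat_lit 24) (nat_lit 4),
  Rule.mk (nat_lit 4) (nat_lit 114) (Steps.fwd (nat_lit 1572864) (Steps.fwd (nat_lit 524288) (Steps.fwd (nat_lit 1048576) (Steps.bwd (nat_lit 5) (Steps.bwd (nat_lit 3) Steps.nil))))) (nat_lit 59) (nat_lit 1),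
  Rule.mk (nat_lit 5) (nat_lit 114) (Steps.fwd (nat_lit 786432) (Steps.bwd (nat_lit 7) (Steps.bwd (nat_lit 5) (Steps.bwd (nat_lit 3) (Steps.bwd (nat_lit 7) Steps.nil))))) (nat_lit 61) (nat_lit 2),
  Rule.mk (nat_lit 4) (nat_lit 154) (Steps.bwd (nat_lit 3) (Steps.bwd (nat_lit 7) (Steps.bwd (nat_lit 5) (Steps.bwd (nat_lit 4) (Steps.bwd (nat_lit 3) (Steps.bwd (nat_lit 7) (Steps.bwd (nat_lit 6) Steps.nil))))))) (nat_lit 79) (nat_lit 3),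
  Rule.mk (nat_lit 7) (nat_lit 154) (Steps.bwd (nat_lit 2) (Steps.bwd (nat_lit 5) (Steps.bwd (nat_lit 4) (Steps.bwd (nat_lit 7) (Steps.bwd (nat_lit 2) (Steps.fwd (nat_lit 1572864) (Steps.fwd (nat_lit 1048576) Steps.nil))))))) (nat_lit 86) (nat_lit 0),
  Rule.mk (nat_lit 4) (nat_lit 154) (Steps.fwd (nat_lit 1572864) (Steps.fwd (nat_lit 524288) (Steps.bwd (nat_lit 7) (Steps.fwd (nat_lit 1048576) (Steps.bwd (nat_lit 5) (Steps.bwd (nat_lit 3) (Steps.bwd (nat_lit 7) Steps.nil))))))) (nat_lit 87) (nat_lit 2),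
  Rule.mk (nat_lit 1) (nat_lit 154) (Steps.fwd (nat_lit 1835008) (Steps.fwd (nat_lit 786432) (Steps.fwd (nat_lit 262144) (Steps.bwd (nat_lit 2) (Steps.fwd (nat_lit 1835008) (Steps.bwd (nat_lit 1) (Steps.bwd (nat_lit 2) Steps.nil))))))) (nat_lit 72) (nat_lit 3),
  Rule.mk (nat_lit 0) (nat_lit 294) (Steps.bwd (nat_lit 1) (Steps.bwd (nat_lit 6) (Steps.fwd (nat_lit 262144) (Steps.fwd (nat_lit 524288) (Steps.fwd (nat_lit 1310720) (Steps.bwd (nat_lit 6) (Steps.fwd (nat_lit 262144) (Steps.fwd (nat_lit 1572864) (Steps.fwd (nat_lit 262144) (Steps.fwd (nat_lit 524288) (Steps.bwd (nat_lit 1) (Steps.bwd (nat_lit 6) (Steps.fwd (nat_lit 262144) (Steps.fwd (nat_lit 524288) Steps.nil)))))))))))))) (nat_lit 35) (nat_lit 10),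
  Rule.mk (nat_lit 1) (nat_lit 154) (Steps.fwd (nat_lit 1835008) (Steps.fwd (nat_lit 524288) (Steps.fwd (nat_lit 262144) (Steps.fwd (nat_lit 524288) (Steps.bwd (nat_lit 7) (Steps.bwd (nat_lit 1) (Steps.bwd (nat_lit 3) Steps.nil))))))) (nat_lit 73) (nat_lit 0),
  Rule.mk (nat_lit 1) (nat_lit 274) (Steps.fwd (nat_lit 1572864) (Steps.bwd (nat_lit 5) (Steps.fwd (nat_lit 786432) (Steps.fwd (nat_lit 262144) (Steps.bwd (nat_lit 6) (Steps.fwd (nat_lit 262144) (Steps.bwd (nat_lit 2) (Steps.fwd (nat_lit 262144) (Steps.bwd (nat_lit 6) (Steps.bwd (nat_lit 1) (Steps.bwd (nat_lit 2) (Steps.bwd (nat_lit 1) (Steps.fwd (nat_lit 1572864) Steps.nil))))))))))))) (nat_lit 34) (nat_lit 12),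
  Rule.mk (nat_lit 1) (nat_lit 274) (Steps.bwd (nat_lit 6) (Steps.fwd (nat_lit 262144) (Steps.bwd (nat_lit 3) (Steps.bwd (nat_lit 1) (Steps.fwd (nat_lit 1572864) (Steps.fwd (nat_lit 262144) (Steps.fwd (nat_lit 524288) (Steps.fwd (nat_lit 262144) (Steps.fwd (nat_lit 1572864) (Steps.bwd (nat_lit 1) (Steps.fwd (nat_lit 524288) (Steps.bwd (nat_lit 5) (Steps.fwd (nat_lit 1572864) Steps.nil))))))))))))) (nat_lit 35) (nat_lit 3),
  Rule.mk (nat_lit 1) (nat_lit 154) (Steps.bwd (nat_lit 2) (Steps.bwd (nat_lit 1) (Steps.fwd (nat_lit 1310720) (Steps.bwd (nat_lit 2) (Steps.bwd (nat_lit 1) (Steps.bwd (nat_lit 2) (Steps.fwd (nat_lit 1310720) Steps.nil))))))) (nat_lit 70) (nat_lit 1),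
  Rule.mk (nat_lit 6) (nat_lit 154) (Steps.bwd (nat_lit 4) (Steps.fwd (nat_lit 524288) (Steps.bwd (nat_lit 7) (Steps.bwd (nat_lit 5) (Steps.bwd (nat_lit 4) (Steps.fwd (nat_lit 524288) (Steps.fwd (nat_lit 1835008) Steps.nil))))))) (nat_lit 79) (nat_lit 2),
  Rule.mk (nat_lit 1) (nat_lit 274) (Steps.fwd (nat_lit 1572864) (Steps.bwd (nat_lit 5) (Steps.bwd (nat_lit 2) (Steps.bwd (nat_lit 1) (Steps.fwd (nat_lit 1572864) (Steps.bwd (nat_lit 1) (Steps.bwd (nat_lit 2) (Steps.fwd (nat_lit 262144) (Steps.bwd (nat_lit 6) (Steps.bwd (nat_lit 1) (Steps.fwd (nat_lit 786432) (Steps.fwd (nat_lit 262144) (Steps.bwd (nat_lit 6) Steps.nil))))))))))))) (nat_lit 34) (nat_lit 12),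
  Rule.mk (nat_lit 1) (nat_lit 274) (Steps.bwd (nat_lit 2) (Steps.bwd (nat_lit 1) (Steps.fwd (nat_lit 1572864) (Steps.fwd (nat_lit 262144) (Steps.bwd (nat_lit 2) (Steps.bwd (nat_lit 1) (Steps.fwd (nat_lit 1572864) (Steps.fwd (nat_lit 262144) (Steps.bwd (nat_lit 6) (Steps.fwd (nat_lit 1310720) (Steps.fwd (nat_lit 786432) (Steps.fwd (nat_lit 262144) (Steps.fwd (nat_lit 1572864) Steps.nil))))))))))))) (nat_lit 34) (nat_lit 4),
  Rule.mk (nat_lit 2) (nat_lit 274) (Steps.bwd (nat_lit 1) (Steps.bwd (nat_lit 6) (Steps.fwd (nat_lit 262144) (Steps.bwd (nat_lit 2) (Steps.fwd (nat_lit 262144) (Steps.fwd (nat_lit 1572864) (Steps.bwd (nat_lit 1) (Steps.fwd (nat_lit 1572864) (Steps.fwd (nat_lit 1310720) (Steps.fwd (nat_lit 786432) (Steps.bwd (nat_lit 1) (Steps.fwd (nat_lit 1572864) (Steps.fwd (nat_lit 262144) Steps.nil))))))))))))) (nat_lit 34) (nat_lit 5),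
  Rule.mk (nat_lit 3) (nat_lit 114) (Steps.fwd (nat_lit 1310720) (Steps.fwd (nat_lit 1835008) (Steps.bwd (nat_lit 2) (Steps.fwd (nat_lit 1310720) (Steps.fwd (nat_lit 1835008) Steps.nil))))) (nat_lit 60) (nat_lit 4),
  Rule.mk (nat_lit 0) (nat_lit 294) (Steps.bwd (nat_lit 6) (Steps.fwd (nat_lit 1310720) (Steps.fwd (nat_lit 786432) (Steps.bwd (nat_lit 1) (Steps.bwd (nat_lit 6) (Steps.fwd (nat_lit 262144) (Steps.fwd (nat_lit 786432) (Steps.fwd (nat_lit 262144) (Steps.fwd (nat_lit 1572864) (Steps.fwd (nat_lit 262144) (Steps.bwd (nat_lit 2) (Steps.fwd (nat_lit 262144) (Steps.bwd (nat_lit 6) (Steps.fwd (nat_lit 262144) Steps.nil)))))))))))))) (nat_lit 34) (nat_lit 12),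
  Rule.mk (nat_lit 5) (nat_lit 74) (Steps.fwd (nat_lit 1835008) (Steps.bwd (nat_lit 5) (Steps.bwd (nat_lit 7) Steps.nil))) (nat_lit 32) (nat_lit 0),
  Rule.mk (nat_lit 3) (nat_lit 114) (Steps.bwd (nat_lit 4) (Steps.fwd (nat_lit 1835008) (Steps.fwd (nat_lit 524288) (Steps.fwd (nat_lit 1048576) (Steps.bwd (nat_lit 7) Steps.nil))))) (nat_lit 65) (nat_lit 0),
  Rule.mk (nat_lit 2) (nat_lit 154) (Steps.bwd (nat_lit 6) (Steps.bwd (nat_lit 7) (Steps.fwd (nat_lit 1048576) (Steps.bwd (nat_lit 2) (Steps.bwd (nat_lit 5) (Steps.fwd (nat_lit 1835008) (Steps.fwd (nat_lit 1048576) Steps.nil))))))) (nat_lit 88) (nat_lit 5),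
  Rule.mk (nat_lit 2) (nat_lit 154) (Steps.fwd (nat_lit 1310720) (Steps.bwd (nat_lit 1) (Steps.fwd (nat_lit 786432) (Steps.bwd (nat_lit 1) (Steps.bwd (nat_lit 5) (Steps.bwd (nat_lit 2) (Steps.fwd (nat_lit 262144) Steps.nil))))))) (nat_lit 70) (nat_lit 7),
  Rule.mk (nat_lit 1) (nat_lit 154) (Steps.bwd (nat_lit 5) (Steps.fwd (nat_lit 524288) (Steps.bwd (nat_lit 1) (Steps.fwd (nat_lit 524288) (Steps.bwd (nat_lit 5) (Steps.bwd (nat_lit 1) (Steps.fwd (nat_lit 524288) Steps.nil))))))) (nat_lit 71) (nat_lit 0),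
  Rule.mk (nat_lit 1) (nat_lit 154) (Steps.bwd (nat_lit 7) (Steps.fwd (nat_lit 524288) (Steps.bwd (nat_lit 1) (Steps.fwd (nat_lit 524288) (Steps.bwd (nat_lit 7) (Steps.bwd (nat_lit 1) (Steps.bwd (nat_lit 3) Steps.nil))))))) (nat_lit 73) (nat_lit 0),
  Rule.mk (nat_lit 2) (nat_lit 154) (Steps.fwd (nat_lit 262144) (Steps.fwd (nat_lit 786432) (Steps.fwd (nat_lit 1835008) (Steps.fwd (nat_lit 262144) (Steps.bwd (nat_lit 2) (Steps.fwd (nat_lit 262144) (Steps.bwd (nat_lit 7) Steps.nil))))))) (nat_lit 72) (nat_lit 5),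
  Rule.mk (nat_lit 4) (nat_lit 154) (Steps.fwd (nat_lit 1310720) (Steps.bwd (nat_lit 7) (Steps.bwd (nat_lit 2) (Steps.bwd (nat_lit 4) (Steps.fwd (nat_lit 1572864) (Steps.bwd (nat_lit 7) (Steps.bwd (nat_lit 2) Steps.nil))))))) (nat_lit 78) (nat_lit 2),
  Rule.mk (nat_lit 0) (nat_lit 174) (Steps.bwd (nat_lit 4) (Steps.bwd (nat_lit 6) (Steps.bwd (nat_lit 7) (Steps.bwd (nat_lit 2) (Steps.bwd (nat_lit 4) (Steps.fwd (nat_lit 1310720) (Steps.fwd (nat_lit 1835008) (Steps.fwd (nat_lit 786432) Steps.nil)))))))) (nat_lit 78) (nat_lit 5),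
  Rule.mk (nat_lit 2) (nat_lit 154) (Steps.bwd (nat_lit 5) (Steps.bwd (nat_lit 2) (Steps.bwd (nat_lit 6) (Steps.bwd (nat_lit 5) (Steps.bwd (nat_lit 2) (Steps.bwd (nat_lit 6) (Steps.fwd (nat_lit 1835008) Steps.nil))))))) (nat_lit 82) (nat_lit 1),
  Rule.mk (nat_lit 4) (nat_lit 154) (Steps.bwd (nat_lit 2) (Steps.fwd (nat_lit 1572864) (Steps.bwd (nat_lit 7) (Steps.bwd (nat_lit 4) (Steps.bwd (nat_lit 2) (Steps.bwd (nat_lit 5) (Steps.fwd (nat_lit 1835008) Steps.nil))))))) (nat_lit 88) (nat_lit 4),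
  Rule.mk (nat_lit 4) (nat_lit 154) (Steps.bwd (nat_lit 5) (Steps.bwd (nat_lit 2) (Steps.bwd (nat_lit 7) (Steps.bwd (nat_lit 4) (Steps.bwd (nat_lit 6) (Steps.bwd (nat_lit 2) (Steps.fwd (nat_lit 1835008) Steps.nil))))))) (nat_lit 90) (nat_lit 3),
  Rule.mk (nat_lit 8) (nat_lit 314) (Steps.fwd (nat_lit 1048576) (Steps.bwd (nat_lit 9) (Steps.fwd (nat_lit 1048576) (Steps.fwd (nat_lit 2359296) (Steps.fwd (nat_lit 1048576) (Steps.fwd (nat_lit 2097152) (Steps.bwd (nat_lit 4) (Steps.fwd (nat_lit 2359296) (Steps.fwd (nat_lit 1048576) (Steps.bwd (nat_lit 9) (Steps.bwd (nat_lit 4) (Steps.bwd (nat_lit 8) (Steps.bwd (nat_lit 4) (Steps.bwd (nat_lit 9) (Steps.fwd (nat_lit 1048576) Steps.nil))))))))))))))) (nat_lit 106) (nat_lit 1),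
  Rule.mk (nat_lit 1) (nat_lit 154) (Steps.bwd (nat_lit 7) (Steps.bwd (nat_lit 3) (Steps.bwd (nat_lit 1) (Steps.fwd (nat_lit 524288) (Steps.fwd (nat_lit 1835008) (Steps.fwd (nat_lit 262144) (Steps.bwd (nat_lit 3) Steps.nil))))))) (nat_lit 73) (nat_lit 0),
  Rule.mk (nat_lit 4) (nat_lit 154) (Steps.fwd (nat_lit 262144) (Steps.bwd (nat_lit 6) (Steps.fwd (nat_lit 262144) (Steps.fwd (nat_lit 1048576) (Steps.bwd (nat_lit 1) (Steps.fwd (nat_lit 1572864) (Steps.fwd (nat_lit 262144) Steps.nil))))))) (nat_lit 74) (nat_lit 2),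
  Rule.mk (nat_lit 1) (nat_lit 154) (Steps.fwd (nat_lit 1048576) (Steps.bwd (nat_lit 1) (Steps.bwd (nat_lit 6) (Steps.bwd (nat_lit 1) (Steps.fwd (nat_lit 1048576) (Steps.bwd (nat_lit 1) (Steps.bwd (nat_lit 6) Steps.nil))))))) (nat_lit 74) (nat_lit 1),
  Rule.mk (nat_lit 9) (nat_lit 314) (Steps.fwd (nat_lit 1048576) (Steps.fwd (nat_lit 2359296) (Steps.fwd (nat_lit 1048576) (Steps.bwd (nat_lit 9) (Steps.bwd (nat_lit 4) (Steps.bwd (nat_lit 8) (Steps.bwd (nat_lit 4) (Steps.bwd (nat_lit 9) (Steps.fwd (nat_lit 1048576) (Steps.bwd (nat_lit 8) (Steps.bwd (nat_lit 4) (Steps.bwd (nat_lit 9) (Steps.bwd (nat_lit 4) (Steps.fwd (nat_lit 2359296) (Steps.fwd (nat_lit 1048576) Steps.nil))))))))))))))) (nat_lit 106) (nat_lit 3),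
  Rule.mk (nat_lit 0) (nat_lit 134) (Steps.bwd (nat_lit 1) (Steps.bwd (nat_lit 3) (Steps.bwd (nat_lit 1) (Steps.fwd (nat_lit 524288) (Steps.fwd (nat_lit 262144) (Steps.bwd (nat_lit 3) Steps.nil)))))) (nat_lit 13) (nat_lit 1),
  Rule.mk (nat_lit 1) (nat_lit 274) (Steps.fwd (nat_lit 1572864) (Steps.fwd (nat_lit 262144) (Steps.bwd (nat_lit 6) (Steps.fwd (nat_lit 1310720) (Steps.bwd (nat_lit 2) (Steps.fwd (nat_lit 262144) (Steps.bwd (nat_lit 6) (Steps.fwd (nat_lit 262144) (Steps.fwd (nat_lit 786432) (Steps.bwd (nat_lit 1) (Steps.fwd (nat_lit 1572864) (Steps.fwd (nat_lit 262144) (Steps.bwd (nat_lit 2) Steps.nil))))))))))))) (nat_lit 34) (nat_lit 10),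
  Rule.mk (nat_lit 2) (nat_lit 274) (Steps.bwd (nat_lit 1) (Steps.bwd (nat_lit 6) (Steps.bwd (nat_lit 1) (Steps.bwd (nat_lit 2) (Steps.fwd (nat_lit 262144) (Steps.fwd (nat_lit 1572864) (Steps.bwd (nat_lit 1) (Steps.fwd (nat_lit 1572864) (Steps.bwd (nat_lit 5) (Steps.fwd (nat_lit 786432) (Steps.fwd (nat_lit 262144) (Steps.fwd (nat_lit 1572864) (Steps.fwd (nat_lit 262144) Steps.nil))))))))))))) (nat_lit 34) (nat_lit 5),
  Rule.mk (nat_lit 1) (nat_lit 154) (Steps.fwd (nat_lit 524288) (Steps.bwd (nat_lit 5) (Steps.fwd (nat_lit 262144) (Steps.bwd (nat_lit 3) (Steps.bwd (nat_lit 1) (Steps.bwd (nat_lit 5) (Steps.bwd (nat_lit 3) Steps.nil))))))) (nat_lit 71) (nat_lit 3),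
  Rule.mk (nat_lit 9) (nat_lit 314) (Steps.bwd (nat_lit 4) (Steps.fwd (nat_lit 2359296) (Steps.bwd (nat_lit 4) (Steps.fwd (nat_lit 2097152) (Steps.fwd (nat_lit 1048576) (Steps.fwd (nat_lit 2359296) (Steps.fwd (nat_lit 1048576) (Steps.fwd (nat_lit 2097152) (Steps.bwd (nat_lit 4) (Steps.bwd (nat_lit 8) (Steps.bwd (nat_lit 4) (Steps.bwd (nat_lit 9) (Steps.bwd (nat_lit 4) (Steps.fwd (nat_lit 2359296) (Steps.bwd (nat_lit 4) Steps.nil))))))))))))))) (nat_lit 106) (nat_lit 3),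
  Rule.mk (nat_lit 1) (nat_lit 274) (Steps.fwd (nat_lit 1572864) (Steps.bwd (nat_lit 1) (Steps.bwd (nat_lit 3) (Steps.bwd (nat_lit 1) (Steps.bwd (nat_lit 6) (Steps.bwd (nat_lit 1) (Steps.fwd (nat_lit 524288) (Steps.fwd (nat_lit 262144) (Steps.bwd (nat_lit 6) (Steps.fwd (nat_lit 262144) (Steps.fwd (nat_lit 524288) (Steps.bwd (nat_lit 5) (Steps.bwd (nat_lit 6) Steps.nil))))))))))))) (nat_lit 35) (nat_lit 3),
  Rule.mk (nat_lit 5) (nat_lit 274) (Steps.bwd (nat_lit 2) (Steps.bwd (nat_lit 1) (Steps.fwd (nat_lit 1572864) (Steps.bwd (nat_lit 1) (Steps.bwd (nat_lit 2) (Steps.bwd (nat_lit 1) (Steps.bwd (nat_lit 6) (Steps.fwd (nat_lit 262144) (Steps.fwd (nat_lit 786432) (Steps.bwd (nat_lit 1) (Steps.bwd (nat_lit 6) (Steps.fwd (nat_lit 262144) (Steps.fwd (nat_lit 1572864) Steps.nil))))))))))))) (nat_lit 34) (nat_lit 0),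
  Rule.mk (nat_lit 4) (nat_lit 154) (Steps.bwd (nat_lit 6) (Steps.bwd (nat_lit 2) (Steps.bwd (nat_lit 7) (Steps.fwd (nat_lit 1048576) (Steps.bwd (nat_lit 5) (Steps.bwd (nat_lit 2) (Steps.fwd (nat_lit 1835008) Steps.nil))))))) (nat_lit 90) (nat_lit 7),
  Rule.mk (nat_lit 9) (nat_lit 314) (Steps.bwd (nat_lit 4) (Steps.bwd (nat_lit 8) (Steps.bwd (nat_lit 4) (Steps.fwd (nat_lit 2097152) (Steps.bwd (nat_lit 4) (Steps.fwd (nat_lit 2359296) (Steps.fwd (nat_lit 1048576) (Steps.bwd (nat_lit 9) (Steps.fwd (nat_lit 1048576) (Steps.bwd (nat_lit 8) (Steps.bwd (nat_lit 4) (Steps.bwd (nat_lit 9) (Steps.fwd (nat_lit 1048576) (Steps.fwd (nat_lit 2359296) (Steps.fwd (nat_lit 1048576) Steps.nil))))))))))))))) (nat_lit 106) (nat_lit 3),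
  Rule.mk (nat_lit 4) (nat_lit 114) (Steps.fwd (nat_lit 786432) (Steps.fwd (nat_lit 1572864) (Steps.fwd (nat_lit 1048576) (Steps.bwd (nat_lit 2) (Steps.fwd (nat_lit 1310720) Steps.nil))))) (nat_lit 58) (nat_lit 3),
  Rule.mk (nat_lit 8) (nat_lit 314) (Steps.fwd (nat_lit 1048576) (Steps.fwd (nat_lit 2097152) (Steps.bwd (nat_lit 4) (Steps.bwd (nat_lit 8) (Steps.bwd (nat_lit 4) (Steps.bwd (nat_lit 9) (Steps.bwd (nat_lit 4) (Steps.bwd (nat_lit 8) (Steps.bwd (nat_lit 4) (Steps.bwd (nat_lit 9) (Steps.bwd (nat_lit 4) (Steps.fwd (nat_lit 2359296) (Steps.fwd (nat_lit 1048576) (Steps.bwd (nat_lit 9) (Steps.fwd (nat_lit 1048576) Steps.nil))))))))))))))) (nat_lit 106) (nat_lit 1),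
  Rule.mk (nat_lit 3) (nat_lit 154) (Steps.bwd (nat_lit 7) (Steps.fwd (nat_lit 1572864) (Steps.bwd (nat_lit 4) (Steps.bwd (nat_lit 3) (Steps.bwd (nat_lit 7) (Steps.fwd (nat_lit 1310720) (Steps.fwd (nat_lit 1048576) Steps.nil))))))) (nat_lit 79) (nat_lit 0),
  Rule.mk (nat_lit 9) (nat_lit 314) (Steps.bwd (nat_lit 4) (Steps.bwd (nat_lit 8) (Steps.fwd (nat_lit 1048576) (Steps.bwd (nat_lit 9) (Steps.bwd (nat_lit 4) (Steps.fwd (nat_lit 2359296) (Steps.fwd (nat_lit 1048576) (Steps.bwd (nat_lit 9) (Steps.bwd (nat_lit 4) (Steps.fwd (nat_lit 2359296) (Steps.fwd (nat_lit 1048576) (Steps.fwd (nat_lit 2097152) (Steps.fwd (nat_lit 1048576) (Steps.fwd (nat_lit 2359296) (Steps.fwd (nat_lit 1048576) Steps.nil))))))))))))))) (nat_lit 106) (nat_lit 3),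
  Rule.mk (nat_lit 4) (nat_lit 114) (Steps.bwd (nat_lit 2) (Steps.fwd (nat_lit 1310720) (Steps.fwd (nat_lit 1048576) (Steps.bwd (nat_lit 2) (Steps.fwd (nat_lit 1572864) Steps.nil))))) (nat_lit 58) (nat_lit 0),
  Rule.mk (nat_lit 4) (nat_lit 314) (Steps.bwd (nat_lit 9) (Steps.fwd (nat_lit 1048576) (Steps.fwd (nat_lit 2359296) (Steps.bwd (nat_lit 4) (Steps.bwd (nat_lit 9) (Steps.fwd (nat_lit 1048576) (Steps.fwd (nat_lit 2359296) (Steps.fwd (nat_lit 1048576) (Steps.bwd (nat_lit 9) (Steps.fwd (nat_lit 1048576) (Steps.bwd (nat_lit 8) (Steps.fwd (nat_lit 1048576) (Steps.bwd (nat_lit 9) (Steps.fwd (nat_lit 1048576) (Steps.fwd (nat_lit 2359296) Steps.nil))))))))))))))) (nat_lit 106) (nat_lit 2),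
  Rule.mk (nat_lit 4) (nat_lit 114) (Steps.fwd (nat_lit 1835008) (Steps.fwd (nat_lit 786432) (Steps.bwd (nat_lit 4) (Steps.bwd (nat_lit 7) (Steps.fwd (nat_lit 786432) Steps.nil))))) (nat_lit 56) (nat_lit 2),
  Rule.mk (nat_lit 4) (nat_lit 114) (Steps.fwd (nat_lit 1572864) (Steps.fwd (nat_lit 524288) (Steps.bwd (nat_lit 4) (Steps.bwd (nat_lit 5) (Steps.fwd (nat_lit 524288) Steps.nil))))) (nat_lit 59) (nat_lit 1),
  Rule.mk (nat_lit 3) (nat_lit 114) (Steps.fwd (nat_lit 1048576) (Steps.fwd (nat_lit 1835008) (Steps.fwd (nat_lit 524288) (Steps.bwd (nat_lit 4) (Steps.bwd (nat_lit 7) Steps.nil))))) (nat_lit 65) (nat_lit 0),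
  Rule.mk (nat_lit 5) (nat_lit 154) (Steps.fwd (nat_lit 1835008) (Steps.fwd (nat_lit 786432) (Steps.bwd (nat_lit 4) (Steps.fwd (nat_lit 1572864) (Steps.bwd (nat_lit 7) (Steps.fwd (nat_lit 786432) (Steps.fwd (nat_lit 1048576) Steps.nil))))))) (nat_lit 78) (nat_lit 3),
  Rule.mk (nat_lit 0) (nat_lit 174) (Steps.bwd (nat_lit 4) (Steps.bwd (nat_lit 3) (Steps.fwd (nat_lit 1835008) (Steps.fwd (nat_lit 1310720) (Steps.fwd (nat_lit 1048576) (Steps.bwd (nat_lit 3) (Steps.bwd (nat_lit 7) (Steps.fwd (nat_lit 1572864) Steps.nil)))))))) (nat_lit 79) (nat_lit 2),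
  Rule.mk (nat_lit 7) (nat_lit 154) (Steps.fwd (nat_lit 786432) (Steps.fwd (nat_lit 1310720) (Steps.bwd (nat_lit 4) (Steps.bwd (nat_lit 7) (Steps.fwd (nat_lit 786432) (Steps.fwd (nat_lit 1572864) (Steps.fwd (nat_lit 1048576) Steps.nil))))))) (nat_lit 86) (nat_lit 0),
  Rule.mk (nat_lit 4) (nat_lit 154) (Steps.fwd (nat_lit 1310720) (Steps.fwd (nat_lit 524288) (Steps.fwd (nat_lit 1835008) (Steps.bwd (nat_lit 4) (Steps.fwd (nat_lit 1572864) (Steps.bwd (nat_lit 3) (Steps.fwd (nat_lit 1835008) Steps.nil))))))) (nat_lit 87) (nat_lit 6)]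
noncomputable def R_99 : List (Rule) := [Rule.mk (nat_lit 5) (nat_lit 154) (Steps.bwd (nat_lit 3) (Steps.fwd (nat_lit 1048576) (Steps.bwd (nat_lit 7) (Steps.fwd (nat_lit 1572864) (Steps.fwd (nat_lit 524288) (Steps.bwd (nat_lit 4) (Steps.bwd (nat_lit 7) Steps.nil))))))) (nat_lit 89) (nat_lit 7),
  Rule.mk (nat_lit 6) (nat_lit 154) (Steps.fwd (nat_lit 524288) (Steps.bwd (nat_lit 4) (Steps.fwd (nat_lit 1835008) (Steps.fwd (nat_lit 1310720) (Steps.fwd (nat_lit 524288) (Steps.bwd (nat_lit 4) (Steps.bwd (nat_lit 7) Steps.nil))))))) (nat_lit 89) (nat_lit 3),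
  Rule.mk (nat_lit 2) (nat_lit 114) (Steps.bwd (nat_lit 5) (Steps.bwd (nat_lit 4) (Steps.bwd (nat_lit 2) (Steps.bwd (nat_lit 6) (Steps.bwd (nat_lit 4) Steps.nil))))) (nat_lit 58) (nat_lit 1),
  Rule.mk (nat_lit 1) (nat_lit 114) (Steps.fwd (nat_lit 1048576) (Steps.fwd (nat_lit 262144) (Steps.bwd (nat_lit 4) (Steps.bwd (nat_lit 1) (Steps.bwd (nat_lit 4) Steps.nil))))) (nat_lit 16) (nat_lit 1),
  Rule.mk (nat_lit 1) (nat_lit 154) (Steps.fwd (nat_lit 1048576) (Steps.bwd (nat_lit 1) (Steps.bwd (nat_lit 6) (Steps.bwd (nat_lit 1) (Steps.bwd (nat_lit 4) (Steps.bwd (nat_lit 1) (Steps.fwd (nat_lit 1572864) Steps.nil))))))) (nat_lit 74) (nat_lit 1),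
  Rule.mk (nat_lit 1) (nat_lit 274) (Steps.fwd (nat_lit 786432) (Steps.bwd (nat_lit 1) (Steps.fwd (nat_lit 1572864) (Steps.bwd (nat_lit 1) (Steps.fwd (nat_lit 1572864) (Steps.bwd (nat_lit 5) (Steps.bwd (nat_lit 2) (Steps.bwd (nat_lit 1) (Steps.fwd (nat_lit 1572864) (Steps.fwd (nat_lit 262144) (Steps.fwd (nat_lit 786432) (Steps.bwd (nat_lit 1) (Steps.bwd (nat_lit 6) Steps.nil))))))))))))) (nat_lit 34) (nat_lit 8),
  Rule.mk (nat_lit 1) (nat_lit 154) (Steps.bwd (nat_lit 3) (Steps.bwd (nat_lit 1) (Steps.fwd (nat_lit 786432) (Steps.bwd (nat_lit 1) (Steps.fwd (nat_lit 524288) (Steps.bwd (nat_lit 1) (Steps.bwd (nat_lit 2) Steps.nil))))))) (nat_lit 68) (nat_lit 3),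
  Rule.mk (nat_lit 3) (nat_lit 274) (Steps.bwd (nat_lit 5) (Steps.fwd (nat_lit 1572864) (Steps.fwd (nat_lit 262144) (Steps.fwd (nat_lit 1572864) (Steps.bwd (nat_lit 1) (Steps.bwd (nat_lit 3) (Steps.bwd (nat_lit 1) (Steps.fwd (nat_lit 1572864) (Steps.bwd (nat_lit 1) (Steps.fwd (nat_lit 524288) (Steps.fwd (nat_lit 262144) (Steps.fwd (nat_lit 1572864) (Steps.fwd (nat_lit 262144) Steps.nil))))))))))))) (nat_lit 35) (nat_lit 0),
  Rule.mk (nat_lit 0) (nat_lit 294) (Steps.bwd (nat_lit 1) (Steps.fwd (nat_lit 524288) (Steps.fwd (nat_lit 1310720) (Steps.bwd (nat_lit 6) (Steps.bwd (nat_lit 1) (Steps.fwd (nat_lit 1572864) (Steps.bwd (nat_lit 1) (Steps.fwd (nat_lit 524288) (Steps.fwd (nat_lit 262144) (Steps.fwd (nat_lit 1572864) (Steps.fwd (nat_lit 262144) (Steps.bwd (nat_lit 3) (Steps.bwd (nat_lit 1) (Steps.fwd (nat_lit 1572864) Steps.nil)))))))))))))) (nat_lit 35) (nat_lit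 12),
  Rule.mk (nat_lit 1) (nat_lit 274) (Steps.bwd (nat_lit 3) (Steps.bwd (nat_lit 1) (Steps.fwd (nat_lit 1572864) (Steps.bwd (nat_lit 1) (Steps.fwd (nat_lit 524288) (Steps.bwd (nat_lit 5) (Steps.fwd (nat_lit 1572864) (Steps.bwd (nat_lit 1) (Steps.fwd (nat_lit 1572864) (Steps.fwd (nat_lit 262144) (Steps.fwd (nat_lit 524288) (Steps.fwd (nat_lit 262144) (Steps.fwd (nat_lit 1572864) Steps.nil))))))))))))) (nat_lit 35) (nat_lit 9),
  Rule.mk (nat_lit 3) (nat_lit 274) (Steps.bwd (nat_lit 5) (Steps.fwd (nat_lit 1572864) (Steps.bwd (nat_lit 1) (Steps.bwd (nat_lit 6) (Steps.fwd (nat_lit 262144) (Steps.fwd (nat_lit 524288) (Steps.fwd (nat_lit 262144) (Steps.fwd (nat_lit 1572864) (Steps.fwd (nat_lit 262144) (Steps.fwd (nat_lit 524288) (Steps.bwd (nat_lit 1) (Steps.bwd (nat_lit 6) (Steps.fwd (nat_lit 262144) Steps.nil))))))))))))) (nat_lit 35) (nat_lit 0),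
  Rule.mk (nat_lit 1) (nat_lit 274) (Steps.fwd (nat_lit 1572864) (Steps.bwd (nat_lit 1) (Steps.fwd (nat_lit 524288) (Steps.fwd (nat_lit 1310720) (Steps.fwd (nat_lit 1572864) (Steps.fwd (nat_lit 262144) (Steps.fwd (nat_lit 1572864) (Steps.fwd (nat_lit 262144) (Steps.fwd (nat_lit 524288) (Steps.bwd (nat_lit 1) (Steps.bwd (nat_lit 6) (Steps.fwd (nat_lit 262144) (Steps.bwd (nat_lit 3) Steps.nil))))))))))))) (nat_lit 35) (nat_lit 11),
  Rule.mk (nat_lit 1) (nat_lit 274) (Steps.fwd (nat_lit 1572864) (Steps.fwd (nat_lit 262144) (Steps.bwd (nat_lit 3) (Steps.bwd (nat_lit 5) (Steps.bwd (nat_lit 6) (Steps.bwd (nat_lit 1) (Steps.fwd (nat_lit 1572864) (Steps.bwd (nat_lit 1) (Steps.fwd (nat_lit 524288) (Steps.fwd (nat_lit 262144) (Steps.fwd (nat_lit 1572864) (Steps.bwd (nat_lit 1) (Steps.bwd (nat_lit 3) Steps.nil))))))))))))) (nat_lit 35) (nat_lit 11),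
  Rule.mk (nat_lit 0) (nat_lit 134) (Steps.bwd (nat_lit 1) (Steps.fwd (nat_lit 786432) (Steps.fwd (nat_lit 262144) (Steps.bwd (nat_lit 2) (Steps.fwd (nat_lit 262144) (Steps.fwd (nat_lit 786432) Steps.nil)))))) (nat_lit 12) (nat_lit 0),
  Rule.mk (nat_lit 1) (nat_lit 154) (Steps.bwd (nat_lit 3) (Steps.fwd (nat_lit 1835008) (Steps.bwd (nat_lit 1) (Steps.fwd (nat_lit 524288) (Steps.bwd (nat_lit 1) (Steps.fwd (nat_lit 1835008) (Steps.bwd (nat_lit 3) Steps.nil))))))) (nat_lit 73) (nat_lit 3),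
  Rule.mk (nat_lit 0) (nat_lit 294) (Steps.bwd (nat_lit 6) (Steps.bwd (nat_lit 1) (Steps.bwd (nat_lit 6) (Steps.fwd (nat_lit 262144) (Steps.bwd (nat_lit 3) (Steps.bwd (nat_lit 1) (Steps.bwd (nat_lit 6) (Steps.fwd (nat_lit 262144) (Steps.bwd (nat_lit 3) (Steps.fwd (nat_lit 262144) (Steps.fwd (nat_lit 1572864) (Steps.fwd (nat_lit 262144) (Steps.fwd (nat_lit 524288) (Steps.fwd (nat_lit 1310720) Steps.nil)))))))))))))) (nat_lit 35) (nat_lit 1),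
  Rule.mk (nat_lit 0) (nat_lit 294) (Steps.bwd (nat_lit 1) (Steps.fwd (nat_lit 1572864) (Steps.bwd (nat_lit 5) (Steps.fwd (nat_lit 786432) (Steps.bwd (nat_lit 1) (Steps.bwd (nat_lit 6) (Steps.bwd (nat_lit 1) (Steps.bwd (nat_lit 2) (Steps.bwd (nat_lit 1) (Steps.bwd (nat_lit 6) (Steps.fwd (nat_lit 262144) (Steps.fwd (nat_lit 786432) (Steps.fwd (nat_lit 262144) (Steps.fwd (nat_lit 1572864) Steps.nil)))))))))))))) (nat_lit 34) (nat_lit 11),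
  Rule.mk (nat_lit 0) (nat_lit 174) (Steps.bwd (nat_lit 4) (Steps.bwd (nat_lit 1) (Steps.bwd (nat_lit 6) (Steps.bwd (nat_lit 1) (Steps.bwd (nat_lit 4) (Steps.fwd (nat_lit 262144) (Steps.bwd (nat_lit 6) (Steps.fwd (nat_lit 262144) Steps.nil)))))))) (nat_lit 74) (nat_lit 1),
  Rule.mk (nat_lit 0) (nat_lit 134) (Steps.bwd (nat_lit 4) (Steps.bwd (nat_lit 3) (Steps.fwd (nat_lit 1835008) (Steps.bwd (nat_lit 4) (Steps.bwd (nat_lit 3) (Steps.bwd (nat_lit 7) Steps.nil)))))) (nat_lit 57) (nat_lit 1),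
  Rule.mk (nat_lit 4) (nat_lit 154) (Steps.bwd (nat_lit 7) (Steps.bwd (nat_lit 2) (Steps.fwd (nat_lit 1310720) (Steps.bwd (nat_lit 4) (Steps.bwd (nat_lit 7) (Steps.bwd (nat_lit 2) (Steps.fwd (nat_lit 1572864) Steps.nil))))))) (nat_lit 86) (nat_lit 7),
  Rule.mk (nat_lit 0) (nat_lit 174) (Steps.bwd (nat_lit 3) (Steps.bwd (nat_lit 7) (Steps.bwd (nat_lit 5) (Steps.bwd (nat_lit 4) (Steps.bwd (nat_lit 3) (Steps.fwd (nat_lit 1835008) (Steps.fwd (nat_lit 1572864) (Steps.fwd (nat_lit 1048576) Steps.nil)))))))) (nat_lit 79) (nat_lit 3),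
  Rule.mk (nat_lit 4) (nat_lit 154) (Steps.bwd (nat_lit 2) (Steps.fwd (nat_lit 1310720) (Steps.bwd (nat_lit 7) (Steps.bwd (nat_lit 4) (Steps.bwd (nat_lit 2) (Steps.bwd (nat_lit 6) (Steps.bwd (nat_lit 7) Steps.nil))))))) (nat_lit 88) (nat_lit 0),
  Rule.mk (nat_lit 1) (nat_lit 154) (Steps.fwd (nat_lit 1048576) (Steps.fwd (nat_lit 262144) (Steps.fwd (nat_lit 1572864) (Steps.bwd (nat_lit 1) (Steps.bwd (nat_lit 4) (Steps.bwd (nat_lit 1) (Steps.bwd (nat_lit 6) Steps.nil))))))) (nat_lit 74) (nat_lit 1),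
  Rule.mk (nat_lit 2) (nat_lit 154) (Steps.bwd (nat_lit 7) (Steps.bwd (nat_lit 1) (Steps.bwd (nat_lit 2) (Steps.bwd (nat_lit 1) (Steps.fwd (nat_lit 1835008) (Steps.bwd (nat_lit 2) (Steps.fwd (nat_lit 262144) Steps.nil))))))) (nat_lit 72) (nat_lit 7),
  Rule.mk (nat_lit 1) (nat_lit 154) (Steps.bwd (nat_lit 3) (Steps.bwd (nat_lit 7) (Steps.bwd (nat_lit 1) (Steps.bwd (nat_lit 3) (Steps.fwd (nat_lit 262144) (Steps.bwd (nat_lit 7) (Steps.bwd (nat_lit 3) Steps.nil))))))) (nat_lit 73) (nat_lit 3),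
  Rule.mk (nat_lit 2) (nat_lit 154) (Steps.bwd (nat_lit 1) (Steps.fwd (nat_lit 786432) (Steps.fwd (nat_lit 1310720) (Steps.fwd (nat_lit 262144) (Steps.fwd (nat_lit 786432) (Steps.bwd (nat_lit 1) (Steps.bwd (nat_lit 5) Steps.nil))))))) (nat_lit 70) (nat_lit 5),
  Rule.mk (nat_lit 2) (nat_lit 154) (Steps.bwd (nat_lit 6) (Steps.fwd (nat_lit 1835008) (Steps.fwd (nat_lit 786432) (Steps.bwd (nat_lit 5) (Steps.bwd (nat_lit 2) (Steps.fwd (nat_lit 1572864) (Steps.bwd (nat_lit 5) Steps.nil))))))) (nat_lit 82) (nat_lit 6),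
  Rule.mk (nat_lit 2) (nat_lit 154) (Steps.fwd (nat_lit 1310720) (Steps.fwd (nat_lit 1572864) (Steps.fwd (nat_lit 786432) (Steps.bwd (nat_lit 5) (Steps.bwd (nat_lit 2) (Steps.fwd (nat_lit 1835008) (Steps.fwd (nat_lit 1572864) Steps.nil))))))) (nat_lit 84) (nat_lit 6),
  Rule.mk (nat_lit 4) (nat_lit 314) (Steps.bwd (nat_lit 9) (Steps.bwd (nat_lit 4) (Steps.fwd (nat_lit 2359296) (Steps.bwd (nat_lit 4) (Steps.fwd (nat_lit 2097152) (Steps.fwd (nat_lit 1048576) (Steps.bwd (nat_lit 8) (Steps.fwd (nat_lit 1048576) (Steps.fwd (nat_lit 2097152) (Steps.fwd (nat_lit 1048576) (Steps.fwd (nat_lit 2359296) (Steps.bwd (nat_lit 4) (Steps.bwd (nat_lit 9) (Steps.bwd (nat_lit 4) (Steps.fwd (nat_lit 2359296) Steps.nil))))))))))))))) (nat_lit 106) (nat_lit 2),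
  Rule.mk (nat_lit 4) (nat_lit 314) (Steps.bwd (nat_lit 8) (Steps.bwd (nat_lit 4) (Steps.bwd (nat_lit 9) (Steps.bwd (nat_lit 4) (Steps.fwd (nat_lit 2359296) (Steps.fwd (nat_lit 1048576) (Steps.fwd (nat_lit 2097152) (Steps.bwd (nat_lit 4) (Steps.bwd (nat_lit 8) (Steps.bwd (nat_lit 4) (Steps.fwd (nat_lit 2097152) (Steps.bwd (nat_lit 4) (Steps.fwd (nat_lit 2359296) (Steps.bwd (nat_lit 4) (Steps.bwd (nat_lit 9) Steps.nil))))))))))))))) (nat_lit 106) (nat_lit 0),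
  Rule.mk (nat_lit 0) (nat_lit 174) (Steps.fwd (nat_lit 262144) (Steps.bwd (nat_lit 4) (Steps.fwd (nat_lit 262144) (Steps.fwd (nat_lit 1572864) (Steps.fwd (nat_lit 262144) (Steps.bwd (nat_lit 4) (Steps.bwd (nat_lit 1) (Steps.bwd (nat_lit 6) Steps.nil)))))))) (nat_lit 74) (nat_lit 0),
  Rule.mk (nat_lit 0) (nat_lit 174) (Steps.bwd (nat_lit 4) (Steps.bwd (nat_lit 1) (Steps.fwd (nat_lit 1048576) (Steps.fwd (nat_lit 1835008) (Steps.fwd (nat_lit 262144) (Steps.bwd (nat_lit 4) (Steps.bwd (nat_lit 1) (Steps.fwd (nat_lit 1835008) Steps.nil)))))))) (nat_lit 76) (nat_lit 4),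
  Rule.mk (nat_lit 0) (nat_lit 94) (Steps.bwd (nat_lit 6) (Steps.bwd (nat_lit 4) (Steps.fwd (nat_lit 1310720) (Steps.fwd (nat_lit 1048576) Steps.nil)))) (nat_lit 22) (nat_lit 3),
  Rule.mk (nat_lit 4) (nat_lit 154) (Steps.fwd (nat_lit 1835008) (Steps.bwd (nat_lit 5) (Steps.fwd (nat_lit 524288) (Steps.bwd (nat_lit 4) (Steps.bwd (nat_lit 7) (Steps.bwd (nat_lit 6) (Steps.fwd (nat_lit 524288) Steps.nil))))))) (nat_lit 89) (nat_lit 5),
  Rule.mk (nat_lit 4) (nat_lit 314) (Steps.bwd (nat_lit 8) (Steps.bwd (nat_lit 4) (Steps.fwd (nat_lit 2097152) (Steps.bwd (nat_lit 4) (Steps.bwd (nat_lit 8) (Steps.bwd (nat_lit 4) (Steps.bwd (nat_lit 9) (Steps.bwd (nat_lit 4) (Steps.bwd (nat_lit 8) (Steps.bwd (nat_lit 4) (Steps.fwd (nat_lit 2097152) (Steps.fwd (nat_lit 1048576) (Steps.fwd (nat_lit 2359296) (Steps.bwd (nat_lit 4) (Steps.fwd (nat_lit 2097152) Steps.nil))))))))))))))) (nat_lit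 106) (nat_lit 0),
  Rule.mk (nat_lit 2) (nat_lit 114) (Steps.bwd (nat_lit 5) (Steps.bwd (nat_lit 4) (Steps.bwd (nat_lit 2) (Steps.bwd (nat_lit 6) (Steps.fwd (nat_lit 1048576) Steps.nil))))) (nat_lit 58) (nat_lit 1),
  Rule.mk (nat_lit 1) (nat_lit 154) (Steps.bwd (nat_lit 4) (Steps.fwd (nat_lit 1835008) (Steps.bwd (nat_lit 1) (Steps.bwd (nat_lit 4) (Steps.fwd (nat_lit 262144) (Steps.fwd (nat_lit 1835008) (Steps.bwd (nat_lit 4) Steps.nil))))))) (nat_lit 76) (nat_lit 6),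
  Rule.mk (nat_lit 4) (nat_lit 314) (Steps.bwd (nat_lit 8) (Steps.fwd (nat_lit 1048576) (Steps.fwd (nat_lit 2097152) (Steps.fwd (nat_lit 1048576) (Steps.fwd (nat_lit 2359296) (Steps.bwd (nat_lit 4) (Steps.bwd (nat_lit 9) (Steps.fwd (nat_lit 1048576) (Steps.fwd (nat_lit 2359296) (Steps.fwd (nat_lit 1048576) (Steps.fwd (nat_lit 2097152) (Steps.bwd (nat_lit 4) (Steps.fwd (nat_lit 2359296) (Steps.bwd (nat_lit 4) (Steps.bwd (nat_lit 9) Steps.nil))))))))))))))) (nat_lit 106) (nat_lit 0),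
  Rule.mk (nat_lit 4) (nat_lit 314) (Steps.fwd (nat_lit 2097152) (Steps.fwd (nat_lit 1048576) (Steps.bwd (nat_lit 8) (Steps.fwd (nat_lit 1048576) (Steps.bwd (nat_lit 9) (Steps.fwd (nat_lit 1048576) (Steps.fwd (nat_lit 2359296) (Steps.bwd (nat_lit 4) (Steps.bwd (nat_lit 9) (Steps.fwd (nat_lit 1048576) (Steps.fwd (nat_lit 2359296) (Steps.fwd (nat_lit 1048576) (Steps.bwd (nat_lit 9) (Steps.bwd (nat_lit 4) (Steps.fwd (nat_lit 2359296) Steps.nil))))))))))))))) (nat_lit 106) (nat_lit 2),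
  Rule.mk (nat_lit 4) (nat_lit 114) (Steps.bwd (nat_lit 6) (Steps.bwd (nat_lit 2) (Steps.bwd (nat_lit 4) (Steps.bwd (nat_lit 5) (Steps.fwd (nat_lit 786432) Steps.nil))))) (nat_lit 54) (nat_lit 5),
  Rule.mk (nat_lit 0) (nat_lit 134) (Steps.bwd (nat_lit 4) (Steps.fwd (nat_lit 1310720) (Steps.fwd (nat_lit 786432) (Steps.fwd (nat_lit 1048576) (Steps.fwd (nat_lit 1572864) (Steps.fwd (nat_lit 786432) Steps.nil)))))) (nat_lit 54) (nat_lit 1),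
  Rule.mk (nat_lit 2) (nat_lit 114) (Steps.bwd (nat_lit 5) (Steps.bwd (nat_lit 4) (Steps.fwd (nat_lit 786432) (Steps.fwd (nat_lit 1572864) (Steps.fwd (nat_lit 1048576) Steps.nil))))) (nat_lit 58) (nat_lit 1),
  Rule.mk (nat_lit 4) (nat_lit 154) (Steps.bwd (nat_lit 3) (Steps.fwd (nat_lit 1835008) (Steps.bwd (nat_lit 5) (Steps.bwd (nat_lit 4) (Steps.bwd (nat_lit 3) (Steps.bwd (nat_lit 7) (Steps.bwd (nat_lit 6) Steps.nil))))))) (nat_lit 79) (nat_lit 3),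
  Rule.mk (nat_lit 1) (nat_lit 114) (Steps.fwd (nat_lit 1048576) (Steps.fwd (nat_lit 262144) (Steps.fwd (nat_lit 1048576) (Steps.fwd (nat_lit 262144) (Steps.bwd (nat_lit 4) Steps.nil))))) (nat_lit 16) (nat_lit 1),
  Rule.mk (nat_lit 5) (nat_lit 114) (Steps.bwd (nat_lit 4) (Steps.bwd (nat_lit 7) (Steps.bwd (nat_lit 6) (Steps.bwd (nat_lit 4) (Steps.fwd (nat_lit 1835008) Steps.nil))))) (nat_lit 67) (nat_lit 5),
  Rule.mk (nat_lit 1) (nat_lit 154) (Steps.fwd (nat_lit 1048576) (Steps.fwd (nat_lit 262144) (Steps.fwd (nat_lit 1835008) (Steps.fwd (nat_lit 1048576) (Steps.fwd (nat_lit 262144) (Steps.bwd (nat_lit 4) (Steps.fwd (nat_lit 1835008) Steps.nil))))))) (nat_lit 76) (nat_lit 1),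
  Rule.mk (nat_lit 2) (nat_lit 154) (Steps.fwd (nat_lit 1310720) (Steps.fwd (nat_lit 1048576) (Steps.bwd (nat_lit 7) (Steps.fwd (nat_lit 786432) (Steps.bwd (nat_lit 6) (Steps.bwd (nat_lit 4) (Steps.fwd (nat_lit 1835008) Steps.nil))))))) (nat_lit 86) (nat_lit 1),
  Rule.mk (nat_lit 2) (nat_lit 154) (Steps.bwd (nat_lit 1) (Steps.bwd (nat_lit 3) (Steps.fwd (nat_lit 262144) (Steps.bwd (nat_lit 2) (Steps.fwd (nat_lit 262144) (Steps.fwd (nat_lit 524288) (Steps.fwd (nat_lit 262144) Steps.nil))))))) (nat_lit 68) (nat_lit 2),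
  Rule.mk (nat_lit 1) (nat_lit 154) (Steps.fwd (nat_lit 786432) (Steps.fwd (nat_lit 262144) (Steps.bwd (nat_lit 5) (Steps.bwd (nat_lit 2) (Steps.fwd (nat_lit 262144) (Steps.bwd (nat_lit 2) (Steps.fwd (nat_lit 1310720) Steps.nil))))))) (nat_lit 70) (nat_lit 1),
  Rule.mk (nat_lit 1) (nat_lit 154) (Steps.fwd (nat_lit 1310720) (Steps.bwd (nat_lit 2) (Steps.fwd (nat_lit 262144) (Steps.fwd (nat_lit 786432) (Steps.bwd (nat_lit 5) (Steps.fwd (nat_lit 262144) (Steps.bwd (nat_lit 2) Steps.nil))))))) (nat_lit 70) (nat_lit 3),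
  Rule.mk (nat_lit 0) (nat_lit 94) (Steps.fwd (nat_lit 1835008) (Steps.fwd (nat_lit 262144) (Steps.bwd (nat_lit 7) (Steps.fwd (nat_lit 262144) Steps.nil)))) (nat_lit 26) (nat_lit 0),
  Rule.mk (nat_lit 0) (nat_lit 174) (Steps.fwd (nat_lit 524288) (Steps.bwd (nat_lit 1) (Steps.fwd (nat_lit 786432) (Steps.fwd (nat_lit 262144) (Steps.fwd (nat_lit 524288) (Steps.bwd (nat_lit 1) (Steps.fwd (nat_lit 786432) (Steps.fwd (nat_lit 262144) Steps.nil)))))))) (nat_lit 68) (nat_lit 3),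
  Rule.mk (nat_lit 1) (nat_lit 154) (Steps.fwd (nat_lit 524288) (Steps.fwd (nat_lit 1310720) (Steps.bwd (nat_lit 1) (Steps.bwd (nat_lit 3) (Steps.bwd (nat_lit 1) (Steps.fwd (nat_lit 1310720) (Steps.bwd (nat_lit 3) Steps.nil))))))) (nat_lit 71) (nat_lit 3),
  Rule.mk (nat_lit 1) (nat_lit 274) (Steps.bwd (nat_lit 6) (Steps.bwd (nat_lit 1) (Steps.bwd (nat_lit 2) (Steps.bwd (nat_lit 1) (Steps.bwd (nat_lit 6) (Steps.bwd (nat_lit 1) (Steps.bwd (nat_lit 2) (Steps.bwd (nat_lit 1) (Steps.bwd (nat_lit 6) (Steps.bwd (nat_lit 1) (Steps.fwd (nat_lit 1572864) (Steps.fwd (nat_lit 1310720) (Steps.bwd (nat_lit 2) Steps.nil))))))))))))) (nat_lit 34) (nat_lit 2),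
  Rule.mk (nat_lit 1) (nat_lit 274) (Steps.bwd (nat_lit 6) (Steps.fwd (nat_lit 262144) (Steps.fwd (nat_lit 524288) (Steps.fwd (nat_lit 262144) (Steps.fwd (nat_lit 1572864) (Steps.bwd (nat_lit 1) (Steps.fwd (nat_lit 524288) (Steps.bwd (nat_lit 1) (Steps.bwd (nat_lit 6) (Steps.bwd (nat_lit 1) (Steps.bwd (nat_lit 3) (Steps.fwd (nat_lit 1310720) (Steps.bwd (nat_lit 6) Steps.nil))))))))))))) (nat_lit 35) (nat_lit 3),
  Rule.mk (nat_lit 0) (nat_lit 94) (Steps.bwd (nat_lit 7) (Steps.bwd (nat_lit 1) (Steps.fwd (nat_lit 1835008) (Steps.fwd (nat_lit 262144) Steps.nil)))) (nat_lit 26) (nat_lit 0),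
  Rule.mk (nat_lit 6) (nat_lit 274) (Steps.bwd (nat_lit 1) (Steps.fwd (nat_lit 786432) (Steps.fwd (nat_lit 262144) (Steps.bwd (nat_lit 6) (Steps.fwd (nat_lit 262144) (Steps.bwd (nat_lit 2) (Steps.fwd (nat_lit 262144) (Steps.bwd (nat_lit 6) (Steps.bwd (nat_lit 1) (Steps.bwd (nat_lit 6) (Steps.bwd (nat_lit 5) (Steps.fwd (nat_lit 786432) (Steps.fwd (nat_lit 262144) Steps.nil))))))))))))) (nat_lit 34) (nat_lit 3),
  Rule.mk (nat_lit 3) (nat_lit 274) (Steps.fwd (nat_lit 262144) (Steps.bwd (nat_lit 6) (Steps.bwd (nat_lit 1) (Steps.fwd (nat_lit 524288) (Steps.bwd (nat_lit 1) (Steps.bwd (nat_lit 6) (Steps.fwd (nat_lit 262144) (Steps.bwd (nat_lit 3) (Steps.fwd (nat_lit 1310720) (Steps.bwd (nat_lit 6) (Steps.bwd (nat_lit 1) (Steps.bwd (nat_lit 6) (Steps.fwd (nat_lit 262144) Steps.nil))))))))))))) (nat_lit 35) (nat_lit 6),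
  Rule.mk (nat_lit 1) (nat_lit 154) (Steps.fwd (nat_lit 1572864) (Steps.fwd (nat_lit 262144) (Steps.bwd (nat_lit 4) (Steps.bwd (nat_lit 1) (Steps.bwd (nat_lit 6) (Steps.fwd (nat_lit 262144) (Steps.bwd (nat_lit 4) Steps.nil))))))) (nat_lit 74) (nat_lit 3),
  Rule.mk (nat_lit 0) (nat_lit 174) (Steps.bwd (nat_lit 1) (Steps.fwd (nat_lit 1572864) (Steps.bwd (nat_lit 1) (Steps.fwd (nat_lit 1048576) (Steps.fwd (nat_lit 262144) (Steps.bwd (nat_lit 6) (Steps.bwd (nat_lit 1) (Steps.bwd (nat_lit 4) Steps.nil)))))))) (nat_lit 74) (nat_lit 2),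
  Rule.mk (nat_lit 4) (nat_lit 314) (Steps.bwd (nat_lit 9) (Steps.bwd (nat_lit 4) (Steps.bwd (nat_lit 8) (Steps.bwd (nat_lit 4) (Steps.bwd (nat_lit 9) (Steps.fwd (nat_lit 1048576) (Steps.fwd (nat_lit 2359296) (Steps.bwd (nat_lit 4) (Steps.bwd (nat_lit 9) (Steps.bwd (nat_lit 4) (Steps.bwd (nat_lit 8) (Steps.bwd (nat_lit 4) (Steps.fwd (nat_lit 2097152) (Steps.fwd (nat_lit 1048576) (Steps.fwd (nat_lit 2359296) Steps.nil))))))))))))))) (nat_lit 106) (nat_lit 2),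
  Rule.mk (nat_lit 6) (nat_lit 154) (Steps.fwd (nat_lit 1048576) (Steps.bwd (nat_lit 7) (Steps.fwd (nat_lit 524288) (Steps.bwd (nat_lit 5) (Steps.bwd (nat_lit 4) (Steps.fwd (nat_lit 1835008) (Steps.bwd (nat_lit 3) Steps.nil))))))) (nat_lit 91) (nat_lit 1),
  Rule.mk (nat_lit 0) (nat_lit 134) (Steps.bwd (nat_lit 1) (Steps.fwd (nat_lit 1048576) (Steps.fwd (nat_lit 262144) (Steps.bwd (nat_lit 4) (Steps.bwd (nat_lit 1) (Steps.fwd (nat_lit 1048576) Steps.nil)))))) (nat_lit 16) (nat_lit 0),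
  Rule.mk (nat_lit 9) (nat_lit 314) (Steps.fwd (nat_lit 1048576) (Steps.bwd (nat_lit 8) (Steps.bwd (nat_lit 4) (Steps.bwd (nat_lit 9) (Steps.bwd (nat_lit 4) (Steps.fwd (nat_lit 2359296) (Steps.fwd (nat_lit 1048576) (Steps.fwd (nat_lit 2097152) (Steps.fwd (nat_lit 1048576) (Steps.bwd (nat_lit 8) (Steps.fwd (nat_lit 1048576) (Steps.bwd (nat_lit 9) (Steps.bwd (nat_lit 4) (Steps.fwd (nat_lit 2359296) (Steps.fwd (nat_lit 1048576) Steps.nil))))))))))))))) (nat_lit 106) (nat_lit 3)]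
noncomputable def R_100 : List (Rule) := [Rule.mk (nat_lit 4) (nat_lit 154) (Steps.fwd (nat_lit 1835008) (Steps.bwd (nat_lit 6) (Steps.bwd (nat_lit 3) (Steps.bwd (nat_lit 4) (Steps.fwd (nat_lit 1835008) (Steps.fwd (nat_lit 1310720) (Steps.fwd (nat_lit 524288) Steps.nil))))))) (nat_lit 89) (nat_lit 1),
  Rule.mk (nat_lit 4) (nat_lit 154) (Steps.bwd (nat_lit 1) (Steps.bwd (nat_lit 7) (Steps.fwd (nat_lit 1048576) (Steps.fwd (nat_lit 262144) (Steps.bwd (nat_lit 4) (Steps.fwd (nat_lit 1835008) (Steps.bwd (nat_lit 1) Steps.nil))))))) (nat_lit 76) (nat_lit 2),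
  Rule.mk (nat_lit 4) (nat_lit 154) (Steps.fwd (nat_lit 1835008) (Steps.bwd (nat_lit 2) (Steps.fwd (nat_lit 1572864) (Steps.bwd (nat_lit 4) (Steps.fwd (nat_lit 1835008) (Steps.fwd (nat_lit 786432) (Steps.bwd (nat_lit 5) Steps.nil))))))) (nat_lit 86) (nat_lit 3),
  Rule.mk (nat_lit 1) (nat_lit 154) (Steps.bwd (nat_lit 7) (Steps.bwd (nat_lit 4) (Steps.bwd (nat_lit 1) (Steps.fwd (nat_lit 1048576) (Steps.fwd (nat_lit 1835008) (Steps.fwd (nat_lit 262144) (Steps.fwd (nat_lit 1048576) Steps.nil))))))) (nat_lit 76) (nat_lit 3),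
  Rule.mk (nat_lit 5) (nat_lit 114) (Steps.bwd (nat_lit 4) (Steps.bwd (nat_lit 3) (Steps.fwd (nat_lit 1572864) (Steps.bwd (nat_lit 4) (Steps.bwd (nat_lit 3) Steps.nil))))) (nat_lit 55) (nat_lit 4),
  Rule.mk (nat_lit 5) (nat_lit 154) (Steps.bwd (nat_lit 4) (Steps.bwd (nat_lit 3) (Steps.bwd (nat_lit 7) (Steps.fwd (nat_lit 1572864) (Steps.bwd (nat_lit 4) (Steps.bwd (nat_lit 3) (Steps.bwd (nat_lit 7) Steps.nil))))))) (nat_lit 79) (nat_lit 6),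
  Rule.mk (nat_lit 3) (nat_lit 154) (Steps.bwd (nat_lit 4) (Steps.bwd (nat_lit 7) (Steps.bwd (nat_lit 6) (Steps.bwd (nat_lit 3) (Steps.bwd (nat_lit 4) (Steps.bwd (nat_lit 7) (Steps.fwd (nat_lit 1310720) Steps.nil))))))) (nat_lit 89) (nat_lit 0),
  Rule.mk (nat_lit 6) (nat_lit 114) (Steps.fwd (nat_lit 1835008) (Steps.bwd (nat_lit 3) (Steps.fwd (nat_lit 1572864) (Steps.fwd (nat_lit 1835008) (Steps.fwd (nat_lit 786432) Steps.nil))))) (nat_lit 62) (nat_lit 2),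
  Rule.mk (nat_lit 2) (nat_lit 154) (Steps.bwd (nat_lit 5) (Steps.bwd (nat_lit 1) (Steps.fwd (nat_lit 786432) (Steps.bwd (nat_lit 1) (Steps.fwd (nat_lit 1310720) (Steps.fwd (nat_lit 786432) (Steps.fwd (nat_lit 262144) Steps.nil))))))) (nat_lit 70) (nat_lit 7),
  Rule.mk (nat_lit 2) (nat_lit 154) (Steps.fwd (nat_lit 1310720) (Steps.bwd (nat_lit 1) (Steps.fwd (nat_lit 786432) (Steps.bwd (nat_lit 1) (Steps.fwd (nat_lit 1310720) (Steps.fwd (nat_lit 786432) (Steps.fwd (nat_lit 262144) Steps.nil))))))) (nat_lit 70) (nat_lit 7),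
  Rule.mk (nat_lit 1) (nat_lit 154) (Steps.fwd (nat_lit 1048576) (Steps.bwd (nat_lit 1) (Steps.fwd (nat_lit 1572864) (Steps.fwd (nat_lit 262144) (Steps.bwd (nat_lit 4) (Steps.bwd (nat_lit 1) (Steps.fwd (nat_lit 1572864) Steps.nil))))))) (nat_lit 74) (nat_lit 1),
  Rule.mk (nat_lit 1) (nat_lit 154) (Steps.bwd (nat_lit 2) (Steps.bwd (nat_lit 7) (Steps.fwd (nat_lit 262144) (Steps.bwd (nat_lit 2) (Steps.bwd (nat_lit 1) (Steps.bwd (nat_lit 7) (Steps.fwd (nat_lit 786432) Steps.nil))))))) (nat_lit 72) (nat_lit 6),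
  Rule.mk (nat_lit 2) (nat_lit 274) (Steps.bwd (nat_lit 1) (Steps.fwd (nat_lit 1572864) (Steps.fwd (nat_lit 262144) (Steps.bwd (nat_lit 2) (Steps.bwd (nat_lit 1) (Steps.fwd (nat_lit 1572864) (Steps.fwd (nat_lit 262144) (Steps.fwd (nat_lit 1572864) (Steps.bwd (nat_lit 5) (Steps.fwd (nat_lit 786432) (Steps.fwd (nat_lit 262144) (Steps.bwd (nat_lit 6) (Steps.fwd (nat_lit 262144) Steps.nil))))))))))))) (nat_lit 34) (nat_lit 5),
  Rule.mk (nat_lit 1) (nat_lit 154) (Steps.fwd (nat_lit 786432) (Steps.bwd (nat_lit 1) (Steps.bwd (nat_lit 3) (Steps.fwd (nat_lit 262144) (Steps.bwd (nat_lit 2) (Steps.bwd (nat_lit 1) (Steps.bwd (nat_lit 3) Steps.nil))))))) (nat_lit 68) (nat_lit 1),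
  Rule.mk (nat_lit 6) (nat_lit 154) (Steps.bwd (nat_lit 2) (Steps.fwd (nat_lit 1310720) (Steps.bwd (nat_lit 6) (Steps.fwd (nat_lit 786432) (Steps.bwd (nat_lit 5) (Steps.bwd (nat_lit 2) (Steps.fwd (nat_lit 1835008) Steps.nil))))))) (nat_lit 84) (nat_lit 5),
  Rule.mk (nat_lit 1) (nat_lit 274) (Steps.bwd (nat_lit 3) (Steps.fwd (nat_lit 262144) (Steps.fwd (nat_lit 1572864) (Steps.fwd (nat_lit 262144) (Steps.bwd (nat_lit 3) (Steps.fwd (nat_lit 262144) (Steps.bwd (nat_lit 6) (Steps.bwd (nat_lit 1) (Steps.bwd (nat_lit 3) (Steps.fwd (nat_lit 1310720) (Steps.fwd (nat_lit 1572864) (Steps.bwd (nat_lit 1) (Steps.fwd (nat_lit 1572864) Steps.nil))))))))))))) (nat_lit 35) (nat_lit 5),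
  Rule.mk (nat_lit 1) (nat_lit 274) (Steps.bwd (nat_lit 6) (Steps.fwd (nat_lit 262144) (Steps.bwd (nat_lit 3) (Steps.fwd (nat_lit 1310720) (Steps.bwd (nat_lit 6) (Steps.fwd (nat_lit 262144) (Steps.fwd (nat_lit 1572864) (Steps.fwd (nat_lit 262144) (Steps.bwd (nat_lit 3) (Steps.fwd (nat_lit 262144) (Steps.bwd (nat_lit 6) (Steps.bwd (nat_lit 1) (Steps.bwd (nat_lit 3) Steps.nil))))))))))))) (nat_lit 35) (nat_lit 11),
  Rule.mk (nat_lit 2) (nat_lit 114) (Steps.fwd (nat_lit 262144) (Steps.bwd (nat_lit 2) (Steps.fwd (nat_lit 262144) (Steps.fwd (nat_lit 786432) (Steps.fwd (nat_lit 262144) Steps.nil))))) (nat_lit 12) (nat_lit 0),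
  Rule.mk (nat_lit 2) (nat_lit 154) (Steps.fwd (nat_lit 1310720) (Steps.fwd (nat_lit 262144) (Steps.bwd (nat_lit 2) (Steps.fwd (nat_lit 262144) (Steps.fwd (nat_lit 1310720) (Steps.bwd (nat_lit 2) (Steps.fwd (nat_lit 262144) Steps.nil))))))) (nat_lit 70) (nat_lit 7),
  Rule.mk (nat_lit 1) (nat_lit 154) (Steps.fwd (nat_lit 1048576) (Steps.fwd (nat_lit 262144) (Steps.bwd (nat_lit 6) (Steps.fwd (nat_lit 262144) (Steps.fwd (nat_lit 1048576) (Steps.fwd (nat_lit 262144) (Steps.fwd (nat_lit 1572864) Steps.nil))))))) (nat_lit 74) (nat_lit 1),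
  Rule.mk (nat_lit 1) (nat_lit 154) (Steps.fwd (nat_lit 786432) (Steps.fwd (nat_lit 262144) (Steps.bwd (nat_lit 3) (Steps.bwd (nat_lit 1) (Steps.fwd (nat_lit 786432) (Steps.fwd (nat_lit 262144) (Steps.fwd (nat_lit 524288) Steps.nil))))))) (nat_lit 68) (nat_lit 1),
  Rule.mk (nat_lit 6) (nat_lit 274) (Steps.bwd (nat_lit 1) (Steps.bwd (nat_lit 6) (Steps.fwd (nat_lit 1310720) (Steps.bwd (nat_lit 2) (Steps.fwd (nat_lit 262144) (Steps.fwd (nat_lit 1572864) (Steps.bwd (nat_lit 1) (Steps.fwd (nat_lit 786432) (Steps.fwd (nat_lit 262144) (Steps.fwd (nat_lit 1572864) (Steps.bwd (nat_lit 1) (Steps.fwd (nat_lit 786432) (Steps.fwd (nat_lit 262144) Steps.nil))))))))))))) (nat_lit 34) (nat_lit 11),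
  Rule.mk (nat_lit 6) (nat_lit 154) (Steps.fwd (nat_lit 262144) (Steps.fwd (nat_lit 1048576) (Steps.fwd (nat_lit 262144) (Steps.bwd (nat_lit 6) (Steps.bwd (nat_lit 1) (Steps.bwd (nat_lit 4) (Steps.fwd (nat_lit 262144) Steps.nil))))))) (nat_lit 74) (nat_lit 0),
  Rule.mk (nat_lit 1) (nat_lit 154) (Steps.fwd (nat_lit 786432) (Steps.fwd (nat_lit 262144) (Steps.fwd (nat_lit 1310720) (Steps.bwd (nat_lit 2) (Steps.bwd (nat_lit 1) (Steps.bwd (nat_lit 2) (Steps.fwd (nat_lit 1310720) Steps.nil))))))) (nat_lit 70) (nat_lit 1),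
  Rule.mk (nat_lit 1) (nat_lit 274) (Steps.bwd (nat_lit 3) (Steps.bwd (nat_lit 1) (Steps.bwd (nat_lit 6) (Steps.bwd (nat_lit 1) (Steps.bwd (nat_lit 3) (Steps.fwd (nat_lit 1310720) (Steps.bwd (nat_lit 6) (Steps.bwd (nat_lit 1) (Steps.fwd (nat_lit 1572864) (Steps.fwd (nat_lit 262144) (Steps.bwd (nat_lit 3) (Steps.fwd (nat_lit 262144) (Steps.bwd (nat_lit 6) Steps.nil))))))))))))) (nat_lit 35) (nat_lit 9),
  Rule.mk (nat_lit 1) (nat_lit 274) (Steps.fwd (nat_lit 1572864) (Steps.bwd (nat_lit 1) (Steps.bwd (nat_lit 3) (Steps.bwd (nat_lit 1) (Steps.bwd (nat_lit 6) (Steps.bwd (nat_lit 1) (Steps.bwd (nat_lit 3) (Steps.fwd (nat_lit 1310720) (Steps.bwd (nat_lit 6) (Steps.fwd (nat_lit 262144) (Steps.bwd (nat_lit 6) (Steps.bwd (nat_lit 1) (Steps.bwd (nat_lit 3) Steps.nil))))))))))))) (nat_lit 35) (nat_lit 7),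
  Rule.mk (nat_lit 0) (nat_lit 294) (Steps.bwd (nat_lit 1) (Steps.bwd (nat_lit 6) (Steps.fwd (nat_lit 262144) (Steps.fwd (nat_lit 524288) (Steps.fwd (nat_lit 1310720) (Steps.bwd (nat_lit 6) (Steps.bwd (nat_lit 1) (Steps.bwd (nat_lit 6) (Steps.bwd (nat_lit 1) (Steps.bwd (nat_lit 3) (Steps.bwd (nat_lit 1) (Steps.fwd (nat_lit 1572864) (Steps.fwd (nat_lit 262144) (Steps.fwd (nat_lit 524288) Steps.nil)))))))))))))) (nat_lit 35) (nat_lit 10),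
  Rule.mk (nat_lit 4) (nat_lit 314) (Steps.bwd (nat_lit 8) (Steps.fwd (nat_lit 1048576) (Steps.bwd (nat_lit 9) (Steps.bwd (nat_lit 4) (Steps.bwd (nat_lit 8) (Steps.bwd (nat_lit 4) (Steps.bwd (nat_lit 9) (Steps.fwd (nat_lit 1048576) (Steps.bwd (nat_lit 8) (Steps.fwd (nat_lit 1048576) (Steps.fwd (nat_lit 2097152) (Steps.fwd (nat_lit 1048576) (Steps.bwd (nat_lit 8) (Steps.bwd (nat_lit 4) (Steps.bwd (nat_lit 9) Steps.nil))))))))))))))) (nat_lit 106) (nat_lit 0),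
  Rule.mk (nat_lit 0) (nat_lit 174) (Steps.bwd (nat_lit 4) (Steps.bwd (nat_lit 1) (Steps.bwd (nat_lit 6) (Steps.fwd (nat_lit 262144) (Steps.fwd (nat_lit 1048576) (Steps.fwd (nat_lit 262144) (Steps.bwd (nat_lit 6) (Steps.fwd (nat_lit 262144) Steps.nil)))))))) (nat_lit 74) (nat_lit 1),
  Rule.mk (nat_lit 4) (nat_lit 154) (Steps.fwd (nat_lit 524288) (Steps.bwd (nat_lit 7) (Steps.bwd (nat_lit 6) (Steps.bwd (nat_lit 4) (Steps.fwd (nat_lit 524288) (Steps.bwd (nat_lit 7) (Steps.bwd (nat_lit 5) Steps.nil))))))) (nat_lit 79) (nat_lit 7),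
  Rule.mk (nat_lit 2) (nat_lit 114) (Steps.bwd (nat_lit 4) (Steps.fwd (nat_lit 1572864) (Steps.bwd (nat_lit 2) (Steps.bwd (nat_lit 4) (Steps.bwd (nat_lit 5) Steps.nil))))) (nat_lit 54) (nat_lit 4),
  Rule.mk (nat_lit 4) (nat_lit 314) (Steps.bwd (nat_lit 9) (Steps.fwd (nat_lit 1048576) (Steps.fwd (nat_lit 2359296) (Steps.fwd (nat_lit 1048576) (Steps.bwd (nat_lit 9) (Steps.fwd (nat_lit 1048576) (Steps.fwd (nat_lit 2359296) (Steps.fwd (nat_lit 1048576) (Steps.bwd (nat_lit 9) (Steps.fwd (nat_lit 1048576) (Steps.fwd (nat_lit 2359296) (Steps.bwd (nat_lit 4) (Steps.bwd (nat_lit 9) (Steps.bwd (nat_lit 4) (Steps.fwd (nat_lit 2359296) Steps.nil))))))))))))))) (nat_lit 106) (nat_lit 2),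
  Rule.mk (nat_lit 9) (nat_lit 314) (Steps.bwd (nat_lit 4) (Steps.bwd (nat_lit 8) (Steps.bwd (nat_lit 4) (Steps.bwd (nat_lit 9) (Steps.fwd (nat_lit 1048576) (Steps.bwd (nat_lit 8) (Steps.bwd (nat_lit 4) (Steps.fwd (nat_lit 2097152) (Steps.bwd (nat_lit 4) (Steps.bwd (nat_lit 8) (Steps.fwd (nat_lit 1048576) (Steps.bwd (nat_lit 9) (Steps.bwd (nat_lit 4) (Steps.fwd (nat_lit 2359296) (Steps.fwd (nat_lit 1048576) Steps.nil))))))))))))))) (nat_lit 106) (nat_lit 3),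
  Rule.mk (nat_lit 1) (nat_lit 154) (Steps.bwd (nat_lit 3) (Steps.fwd (nat_lit 262144) (Steps.bwd (nat_lit 2) (Steps.bwd (nat_lit 1) (Steps.bwd (nat_lit 3) (Steps.fwd (nat_lit 262144) (Steps.bwd (nat_lit 2) Steps.nil))))))) (nat_lit 68) (nat_lit 3),
  Rule.mk (nat_lit 1) (nat_lit 154) (Steps.fwd (nat_lit 1048576) (Steps.fwd (nat_lit 262144) (Steps.fwd (nat_lit 1572864) (Steps.fwd (nat_lit 262144) (Steps.fwd (nat_lit 1048576) (Steps.bwd (nat_lit 1) (Steps.bwd (nat_lit 6) Steps.nil))))))) (nat_lit 74) (nat_lit 1),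
  Rule.mk (nat_lit 4) (nat_lit 154) (Steps.bwd (nat_lit 1) (Steps.fwd (nat_lit 1572864) (Steps.bwd (nat_lit 1) (Steps.fwd (nat_lit 1048576) (Steps.bwd (nat_lit 1) (Steps.fwd (nat_lit 1572864) (Steps.bwd (nat_lit 1) Steps.nil))))))) (nat_lit 74) (nat_lit 2),
  Rule.mk (nat_lit 3) (nat_lit 114) (Steps.bwd (nat_lit 4) (Steps.bwd (nat_lit 6) (Steps.bwd (nat_lit 3) (Steps.fwd (nat_lit 1048576) (Steps.bwd (nat_lit 5) Steps.nil))))) (nat_lit 59) (nat_lit 0),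
  Rule.mk (nat_lit 6) (nat_lit 154) (Steps.bwd (nat_lit 3) (Steps.bwd (nat_lit 4) (Steps.bwd (nat_lit 7) (Steps.fwd (nat_lit 1310720) (Steps.bwd (nat_lit 3) (Steps.bwd (nat_lit 4) (Steps.fwd (nat_lit 1835008) Steps.nil))))))) (nat_lit 89) (nat_lit 3),
  Rule.mk (nat_lit 6) (nat_lit 154) (Steps.bwd (nat_lit 7) (Steps.bwd (nat_lit 3) (Steps.bwd (nat_lit 4) (Steps.bwd (nat_lit 5) (Steps.fwd (nat_lit 1835008) (Steps.bwd (nat_lit 3) (Steps.bwd (nat_lit 4) Steps.nil))))))) (nat_lit 93) (nat_lit 2),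
  Rule.mk (nat_lit 8) (nat_lit 314) (Steps.bwd (nat_lit 4) (Steps.bwd (nat_lit 9) (Steps.bwd (nat_lit 4) (Steps.fwd (nat_lit 2359296) (Steps.bwd (nat_lit 4) (Steps.bwd (nat_lit 9) (Steps.bwd (nat_lit 4) (Steps.fwd (nat_lit 2359296) (Steps.bwd (nat_lit 4) (Steps.fwd (nat_lit 2097152) (Steps.bwd (nat_lit 4) (Steps.fwd (nat_lit 2359296) (Steps.fwd (nat_lit 1048576) (Steps.fwd (nat_lit 2097152) (Steps.fwd (nat_lit 1048576) Steps.nil))))))))))))))) (nat_lit 106) (nat_lit 1),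
  Rule.mk (nat_lit 0) (nat_lit 94) (Steps.bwd (nat_lit 9) (Steps.bwd (nat_lit 3) (Steps.fwd (nat_lit 2359296) (Steps.fwd (nat_lit 786432) Steps.nil)))) (nat_lit 96) (nat_lit 2),
  Rule.mk (nat_lit 1) (nat_lit 274) (Steps.fwd (nat_lit 1572864) (Steps.fwd (nat_lit 262144) (Steps.bwd (nat_lit 3) (Steps.bwd (nat_lit 1) (Steps.bwd (nat_lit 6) (Steps.bwd (nat_lit 1) (Steps.fwd (nat_lit 524288) (Steps.fwd (nat_lit 1310720) (Steps.bwd (nat_lit 6) (Steps.fwd (nat_lit 262144) (Steps.bwd (nat_lit 6) (Steps.fwd (nat_lit 262144) (Steps.fwd (nat_lit 524288) Steps.nil))))))))))))) (nat_lit 35) (nat_lit 7),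
  Rule.mk (nat_lit 0) (nat_lit 94) (Steps.bwd (nat_lit 9) (Steps.bwd (nat_lit 2) (Steps.fwd (nat_lit 2359296) (Steps.fwd (nat_lit 524288) Steps.nil)))) (nat_lit 97) (nat_lit 3),
  Rule.mk (nat_lit 9) (nat_lit 314) (Steps.bwd (nat_lit 4) (Steps.fwd (nat_lit 2359296) (Steps.bwd (nat_lit 4) (Steps.bwd (nat_lit 9) (Steps.fwd (nat_lit 1048576) (Steps.bwd (nat_lit 8) (Steps.fwd (nat_lit 1048576) (Steps.bwd (nat_lit 9) (Steps.fwd (nat_lit 1048576) (Steps.fwd (nat_lit 2359296) (Steps.fwd (nat_lit 1048576) (Steps.fwd (nat_lit 2097152) (Steps.fwd (nat_lit 1048576) (Steps.fwd (nat_lit 2359296) (Steps.bwd (nat_lit 4) Steps.nil))))))))))))))) (nat_lit 106) (nat_lit 3),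
  Rule.mk (nat_lit 0) (nat_lit 174) (Steps.bwd (nat_lit 1) (Steps.bwd (nat_lit 6) (Steps.fwd (nat_lit 262144) (Steps.fwd (nat_lit 1048576) (Steps.fwd (nat_lit 262144) (Steps.fwd (nat_lit 1572864) (Steps.fwd (nat_lit 262144) (Steps.bwd (nat_lit 4) Steps.nil)))))))) (nat_lit 74) (nat_lit 2),
  Rule.mk (nat_lit 9) (nat_lit 314) (Steps.bwd (nat_lit 4) (Steps.bwd (nat_lit 8) (Steps.bwd (nat_lit 4) (Steps.bwd (nat_lit 9) (Steps.bwd (nat_lit 4) (Steps.fwd (nat_lit 2359296) (Steps.fwd (nat_lit 1048576) (Steps.bwd (nat_lit 9) (Steps.bwd (nat_lit 4) (Steps.bwd (nat_lit 8) (Steps.bwd (nat_lit 4) (Steps.bwd (nat_lit 9) (Steps.bwd (nat_lit 4) (Steps.fwd (nat_lit 2359296) (Steps.fwd (nat_lit 1048576) Steps.nil))))))))))))))) (nat_lit 106) (nat_lit 3),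
  Rule.mk (nat_lit 4) (nat_lit 314) (Steps.bwd (nat_lit 8) (Steps.bwd (nat_lit 4) (Steps.bwd (nat_lit 9) (Steps.bwd (nat_lit 4) (Steps.fwd (nat_lit 2359296) (Steps.fwd (nat_lit 1048576) (Steps.bwd (nat_lit 9) (Steps.fwd (nat_lit 1048576) (Steps.bwd (nat_lit 8) (Steps.bwd (nat_lit 4) (Steps.bwd (nat_lit 9) (Steps.bwd (nat_lit 4) (Steps.fwd (nat_lit 2359296) (Steps.fwd (nat_lit 1048576) (Steps.bwd (nat_lit 9) Steps.nil))))))))))))))) (nat_lit 106) (nat_lit 0),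
  Rule.mk (nat_lit 4) (nat_lit 154) (Steps.fwd (nat_lit 262144) (Steps.fwd (nat_lit 1572864) (Steps.bwd (nat_lit 1) (Steps.bwd (nat_lit 4) (Steps.bwd (nat_lit 1) (Steps.fwd (nat_lit 1572864) (Steps.bwd (nat_lit 1) Steps.nil))))))) (nat_lit 74) (nat_lit 2),
  Rule.mk (nat_lit 1) (nat_lit 154) (Steps.fwd (nat_lit 1048576) (Steps.fwd (nat_lit 262144) (Steps.bwd (nat_lit 7) (Steps.bwd (nat_lit 4) (Steps.bwd (nat_lit 1) (Steps.bwd (nat_lit 4) (Steps.fwd (nat_lit 1835008) Steps.nil))))))) (nat_lit 76) (nat_lit 1),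
  Rule.mk (nat_lit 4) (nat_lit 154) (Steps.bwd (nat_lit 1) (Steps.fwd (nat_lit 1048576) (Steps.fwd (nat_lit 1835008) (Steps.bwd (nat_lit 1) (Steps.bwd (nat_lit 4) (Steps.bwd (nat_lit 1) (Steps.bwd (nat_lit 7) Steps.nil))))))) (nat_lit 76) (nat_lit 5),
  Rule.mk (nat_lit 9) (nat_lit 314) (Steps.bwd (nat_lit 4) (Steps.fwd (nat_lit 2359296) (Steps.bwd (nat_lit 4) (Steps.bwd (nat_lit 9) (Steps.fwd (nat_lit 1048576) (Steps.fwd (nat_lit 2359296) (Steps.bwd (nat_lit 4) (Steps.bwd (nat_lit 9) (Steps.fwd (nat_lit 1048576) (Steps.bwd (nat_lit 8) (Steps.fwd (nat_lit 1048576) (Steps.fwd (nat_lit 2097152) (Steps.fwd (nat_lit 1048576) (Steps.fwd (nat_lit 2359296) (Steps.bwd (nat_lit 4) Steps.nil))))))))))))))) (nat_lit 106) (nat_lit 3),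
  Rule.mk (nat_lit 6) (nat_lit 274) (Steps.bwd (nat_lit 1) (Steps.bwd (nat_lit 3) (Steps.bwd (nat_lit 5) (Steps.fwd (nat_lit 1572864) (Steps.bwd (nat_lit 1) (Steps.bwd (nat_lit 6) (Steps.fwd (nat_lit 262144) (Steps.fwd (nat_lit 524288) (Steps.fwd (nat_lit 262144) (Steps.bwd (nat_lit 6) (Steps.bwd (nat_lit 1) (Steps.fwd (nat_lit 524288) (Steps.bwd (nat_lit 1) Steps.nil))))))))))))) (nat_lit 35) (nat_lit 12),
  Rule.mk (nat_lit 3) (nat_lit 154) (Steps.fwd (nat_lit 262144) (Steps.bwd (nat_lit 2) (Steps.fwd (nat_lit 262144) (Steps.fwd (nat_lit 524288) (Steps.bwd (nat_lit 1) (Steps.fwd (nat_lit 786432) (Steps.fwd (nat_lit 262144) Steps.nil))))))) (nat_lit 68) (nat_lit 0),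
  Rule.mk (nat_lit 5) (nat_lit 154) (Steps.fwd (nat_lit 262144) (Steps.bwd (nat_lit 2) (Steps.fwd (nat_lit 262144) (Steps.fwd (nat_lit 1310720) (Steps.bwd (nat_lit 2) (Steps.bwd (nat_lit 1) (Steps.fwd (nat_lit 786432) Steps.nil))))))) (nat_lit 70) (nat_lit 0),
  Rule.mk (nat_lit 4) (nat_lit 154) (Steps.bwd (nat_lit 1) (Steps.fwd (nat_lit 1048576) (Steps.bwd (nat_lit 7) (Steps.bwd (nat_lit 1) (Steps.bwd (nat_lit 4) (Steps.fwd (nat_lit 262144) (Steps.fwd (nat_lit 1835008) Steps.nil))))))) (nat_lit 76) (nat_lit 5),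
  Rule.mk (nat_lit 4) (nat_lit 314) (Steps.bwd (nat_lit 9) (Steps.bwd (nat_lit 4) (Steps.fwd (nat_lit 2359296) (Steps.fwd (nat_lit 1048576) (Steps.fwd (nat_lit 2097152) (Steps.fwd (nat_lit 1048576) (Steps.fwd (nat_lit 2359296) (Steps.bwd (nat_lit 4) (Steps.bwd (nat_lit 9) (Steps.bwd (nat_lit 4) (Steps.fwd (nat_lit 2359296) (Steps.fwd (nat_lit 1048576) (Steps.bwd (nat_lit 9) (Steps.bwd (nat_lit 4) (Steps.fwd (nat_lit 2359296) Steps.nil))))))))))))))) (nat_lit 106) (nat_lit 2),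
  Rule.mk (nat_lit 4) (nat_lit 154) (Steps.fwd (nat_lit 262144) (Steps.fwd (nat_lit 1572864) (Steps.fwd (nat_lit 262144) (Steps.bwd (nat_lit 4) (Steps.bwd (nat_lit 1) (Steps.bwd (nat_lit 6) (Steps.bwd (nat_lit 1) Steps.nil))))))) (nat_lit 74) (nat_lit 2),
  Rule.mk (nat_lit 7) (nat_lit 154) (Steps.bwd (nat_lit 4) (Steps.bwd (nat_lit 1) (Steps.bwd (nat_lit 4) (Steps.fwd (nat_lit 1835008) (Steps.fwd (nat_lit 262144) (Steps.bwd (nat_lit 4) (Steps.bwd (nat_lit 1) Steps.nil))))))) (nat_lit 76) (nat_lit 4),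
  Rule.mk (nat_lit 4) (nat_lit 154) (Steps.bwd (nat_lit 1) (Steps.bwd (nat_lit 7) (Steps.fwd (nat_lit 1048576) (Steps.fwd (nat_lit 262144) (Steps.bwd (nat_lit 4) (Steps.bwd (nat_lit 7) (Steps.fwd (nat_lit 262144) Steps.nil))))))) (nat_lit 76) (nat_lit 2),
  Rule.mk (nat_lit 6) (nat_lit 154) (Steps.bwd (nat_lit 7) (Steps.bwd (nat_lit 4) (Steps.bwd (nat_lit 3) (Steps.fwd (nat_lit 1310720) (Steps.bwd (nat_lit 7) (Steps.bwd (nat_lit 4) (Steps.fwd (nat_lit 524288) Steps.nil))))))) (nat_lit 81) (nat_lit 1),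
  Rule.mk (nat_lit 8) (nat_lit 314) (Steps.bwd (nat_lit 4) (Steps.bwd (nat_lit 9) (Steps.bwd (nat_lit 4) (Steps.fwd (nat_lit 2359296) (Steps.fwd (nat_lit 1048576) (Steps.fwd (nat_lit 2097152) (Steps.fwd (nat_lit 1048576) (Steps.bwd (nat_lit 8) (Steps.fwd (nat_lit 1048576) (Steps.fwd (nat_lit 2097152) (Steps.bwd (nat_lit 4) (Steps.fwd (nat_lit 2359296) (Steps.bwd (nat_lit 4) (Steps.fwd (nat_lit 2097152) (Steps.fwd (nat_lit 1048576) Steps.nil))))))))))))))) (nat_lit 106) (nat_lit 1),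
  Rule.mk (nat_lit 8) (nat_lit 314) (Steps.bwd (nat_lit 4) (Steps.bwd (nat_lit 9) (Steps.bwd (nat_lit 4) (Steps.bwd (nat_lit 8) (Steps.bwd (nat_lit 4) (Steps.fwd (nat_lit 2097152) (Steps.fwd (nat_lit 1048576) (Steps.fwd (nat_lit 2359296) (Steps.bwd (nat_lit 4) (Steps.bwd (nat_lit 9) (Steps.fwd (nat_lit 1048576) (Steps.bwd (nat_lit 8) (Steps.fwd (nat_lit 1048576) (Steps.bwd (nat_lit 9) (Steps.bwd (nat_lit 4) Steps.nil))))))))))))))) (nat_lit 106) (nat_lit 1),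
  Rule.mk (nat_lit 9) (nat_lit 314) (Steps.fwd (nat_lit 1048576) (Steps.fwd (nat_lit 2359296) (Steps.bwd (nat_lit 4) (Steps.bwd (nat_lit 9) (Steps.bwd (nat_lit 4) (Steps.bwd (nat_lit 8) (Steps.bwd (nat_lit 4) (Steps.bwd (nat_lit 9) (Steps.bwd (nat_lit 4) (Steps.bwd (nat_lit 8) (Steps.bwd (nat_lit 4) (Steps.bwd (nat_lit 9) (Steps.fwd (nat_lit 1048576) (Steps.fwd (nat_lit 2359296) (Steps.bwd (nat_lit 4) Steps.nil))))))))))))))) (nat_lit 106) (nat_lit 3),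
  Rule.mk (nat_lit 1) (nat_lit 154) (Steps.bwd (nat_lit 4) (Steps.fwd (nat_lit 262144) (Steps.fwd (nat_lit 1835008) (Steps.bwd (nat_lit 4) (Steps.bwd (nat_lit 1) (Steps.bwd (nat_lit 4) (Steps.bwd (nat_lit 7) Steps.nil))))))) (nat_lit 76) (nat_lit 1)]
noncomputable def R_101 : List (Rule) := [Rule.mk (nat_lit 5) (nat_lit 74) (Steps.fwd (nat_lit 1048576) (Steps.fwd (nat_lit 1572864) (Steps.bwd (nat_lit 4) Steps.nil))) (nat_lit 22) (nat_lit 2),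
  Rule.mk (nat_lit 4) (nat_lit 154) (Steps.bwd (nat_lit 5) (Steps.fwd (nat_lit 1835008) (Steps.fwd (nat_lit 786432) (Steps.bwd (nat_lit 4) (Steps.bwd (nat_lit 6) (Steps.bwd (nat_lit 7) (Steps.bwd (nat_lit 2) Steps.nil))))))) (nat_lit 78) (nat_lit 2),
  Rule.mk (nat_lit 9) (nat_lit 314) (Steps.bwd (nat_lit 4) (Steps.fwd (nat_lit 2359296) (Steps.fwd (nat_lit 1048576) (Steps.fwd (nat_lit 2097152) (Steps.bwd (nat_lit 4) (Steps.bwd (nat_lit 8) (Steps.bwd (nat_lit 4) (Steps.bwd (nat_lit 9) (Steps.bwd (nat_lit 4) (Steps.fwd (nat_lit 2359296) (Steps.fwd (nat_lit 1048576) (Steps.fwd (nat_lit 2097152) (Steps.fwd (nat_lit 1048576) (Steps.fwd (nat_lit 2359296) (Steps.fwd (nat_lit 1048576) Steps.nil))))))))))))))) (nat_lit 106) (nat_lit 3),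
  Rule.mk (nat_lit 1) (nat_lit 114) (Steps.bwd (nat_lit 5) (Steps.fwd (nat_lit 1835008) (Steps.fwd (nat_lit 262144) (Steps.bwd (nat_lit 5) (Steps.bwd (nat_lit 7) Steps.nil))))) (nat_lit 52) (nat_lit 1),
  Rule.mk (nat_lit 6) (nat_lit 114) (Steps.bwd (nat_lit 2) (Steps.fwd (nat_lit 1048576) (Steps.bwd (nat_lit 5) (Steps.bwd (nat_lit 2) (Steps.bwd (nat_lit 4) Steps.nil))))) (nat_lit 54) (nat_lit 0),
  Rule.mk (nat_lit 2) (nat_lit 154) (Steps.fwd (nat_lit 1048576) (Steps.fwd (nat_lit 1835008) (Steps.fwd (nat_lit 1572864) (Steps.fwd (nat_lit 786432) (Steps.bwd (nat_lit 4) (Steps.fwd (nat_lit 1835008) (Steps.bwd (nat_lit 5) Steps.nil))))))) (nat_lit 80) (nat_lit 5),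
  Rule.mk (nat_lit 2) (nat_lit 114) (Steps.fwd (nat_lit 1572864) (Steps.bwd (nat_lit 7) (Steps.bwd (nat_lit 3) (Steps.bwd (nat_lit 6) (Steps.fwd (nat_lit 1835008) Steps.nil))))) (nat_lit 62) (nat_lit 1),
  Rule.mk (nat_lit 1) (nat_lit 274) (Steps.bwd (nat_lit 3) (Steps.fwd (nat_lit 262144) (Steps.bwd (nat_lit 6) (Steps.fwd (nat_lit 262144) (Steps.bwd (nat_lit 3) (Steps.bwd (nat_lit 5) (Steps.bwd (nat_lit 6) (Steps.bwd (nat_lit 1) (Steps.bwd (nat_lit 6) (Steps.fwd (nat_lit 262144) (Steps.fwd (nat_lit 524288) (Steps.fwd (nat_lit 262144) (Steps.bwd (nat_lit 6) Steps.nil))))))))))))) (nat_lit 35) (nat_lit 9),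
  Rule.mk (nat_lit 1) (nat_lit 274) (Steps.bwd (nat_lit 6) (Steps.fwd (nat_lit 262144) (Steps.bwd (nat_lit 3) (Steps.fwd (nat_lit 1310720) (Steps.fwd (nat_lit 1572864) (Steps.fwd (nat_lit 262144) (Steps.bwd (nat_lit 6) (Steps.fwd (nat_lit 262144) (Steps.bwd (nat_lit 3) (Steps.bwd (nat_lit 1) (Steps.fwd (nat_lit 1572864) (Steps.fwd (nat_lit 262144) (Steps.fwd (nat_lit 524288) Steps.nil))))))))))))) (nat_lit 35) (nat_lit 11),
  Rule.mk (nat_lit 3) (nat_lit 274) (Steps.bwd (nat_lit 5) (Steps.fwd (nat_lit 1572864) (Steps.bwd (nat_lit 1) (Steps.fwd (nat_lit 1572864) (Steps.fwd (nat_lit 262144) (Steps.fwd (nat_lit 524288) (Steps.bwd (nat_lit 1) (Steps.bwd (nat_lit 6) (Steps.fwd (nat_lit 262144) (Steps.bwd (nat_lit 3) (Steps.fwd (nat_lit 262144) (Steps.fwd (nat_lit 1572864) (Steps.fwd (nat_lit 262144) Steps.nil))))))))))))) (nat_lit 35) (nat_lit 0),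
  Rule.mk (nat_lit 1) (nat_lit 274) (Steps.bwd (nat_lit 3) (Steps.bwd (nat_lit 5) (Steps.fwd (nat_lit 1572864) (Steps.fwd (nat_lit 262144) (Steps.fwd (nat_lit 1572864) (Steps.fwd (nat_lit 262144) (Steps.bwd (nat_lit 3) (Steps.bwd (nat_lit 1) (Steps.fwd (nat_lit 1572864) (Steps.bwd (nat_lit 1) (Steps.bwd (nat_lit 3) (Steps.bwd (nat_lit 1) (Steps.fwd (nat_lit 1572864) Steps.nil))))))))))))) (nat_lit 35) (nat_lit 13),
  Rule.mk (nat_lit 1) (nat_lit 274) (Steps.bwd (nat_lit 3) (Steps.fwd (nat_lit 262144) (Steps.fwd (nat_lit 1572864) (Steps.bwd (nat_lit 1) (Steps.fwd (nat_lit 524288) (Steps.bwd (nat_lit 1) (Steps.fwd (nat_lit 1572864) (Steps.fwd (nat_lit 262144) (Steps.bwd (nat_lit 3) (Steps.bwd (nat_lit 5) (Steps.fwd (nat_lit 1572864) (Steps.bwd (nat_lit 1) (Steps.fwd (nat_lit 1572864) Steps.nil))))))))))))) (nat_lit 35) (nat_lit 5),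
  Rule.mk (nat_lit 6) (nat_lit 274) (Steps.bwd (nat_lit 5) (Steps.bwd (nat_lit 2) (Steps.fwd (nat_lit 262144) (Steps.bwd (nat_lit 6) (Steps.bwd (nat_lit 1) (Steps.bwd (nat_lit 2) (Steps.bwd (nat_lit 1) (Steps.bwd (nat_lit 6) (Steps.fwd (nat_lit 262144) (Steps.fwd (nat_lit 786432) (Steps.bwd (nat_lit 1) (Steps.fwd (nat_lit 1572864) (Steps.fwd (nat_lit 262144) Steps.nil))))))))))))) (nat_lit 34) (nat_lit 13),
  Rule.mk (nat_lit 8) (nat_lit 314) (Steps.fwd (nat_lit 1048576) (Steps.bwd (nat_lit 9) (Steps.bwd (nat_lit 4) (Steps.fwd (nat_lit 2359296) (Steps.bwd (nat_lit 4) (Steps.fwd (nat_lit 2097152) (Steps.fwd (nat_lit 1048576) (Steps.fwd (nat_lit 2359296) (Steps.bwd (nat_lit 4) (Steps.bwd (nat_lit 9) (Steps.fwd (nat_lit 1048576) (Steps.bwd (nat_lit 8) (Steps.bwd (nat_lit 4) (Steps.fwd (nat_lit 2097152) (Steps.bwd (nat_lit 4) Steps.nil))))))))))))))) (nat_lit 106)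 (nat_lit 1),
  Rule.mk (nat_lit 7) (nat_lit 114) (Steps.bwd (nat_lit 4) (Steps.fwd (nat_lit 1310720) (Steps.bwd (nat_lit 7) (Steps.bwd (nat_lit 4) (Steps.bwd (nat_lit 6) Steps.nil))))) (nat_lit 66) (nat_lit 0),
  Rule.mk (nat_lit 4) (nat_lit 314) (Steps.bwd (nat_lit 9) (Steps.bwd (nat_lit 4) (Steps.bwd (nat_lit 8) (Steps.fwd (nat_lit 1048576) (Steps.fwd (nat_lit 2097152) (Steps.fwd (nat_lit 1048576) (Steps.bwd (nat_lit 8) (Steps.bwd (nat_lit 4) (Steps.bwd (nat_lit 9) (Steps.fwd (nat_lit 1048576) (Steps.fwd (nat_lit 2359296) (Steps.bwd (nat_lit 4) (Steps.bwd (nat_lit 9) (Steps.bwd (nat_lit 4) (Steps.fwd (nat_lit 2359296) Steps.nil))))))))))))))) (nat_lit 106) (nat_lit 2),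
  Rule.mk (nat_lit 4) (nat_lit 314) (Steps.fwd (nat_lit 2359296) (Steps.fwd (nat_lit 1048576) (Steps.fwd (nat_lit 2097152) (Steps.fwd (nat_lit 1048576) (Steps.fwd (nat_lit 2359296) (Steps.fwd (nat_lit 1048576) (Steps.bwd (nat_lit 9) (Steps.bwd (nat_lit 4) (Steps.fwd (nat_lit 2359296) (Steps.bwd (nat_lit 4) (Steps.bwd (nat_lit 9) (Steps.bwd (nat_lit 4) (Steps.bwd (nat_lit 8) (Steps.bwd (nat_lit 4) (Steps.bwd (nat_lit 9) Steps.nil))))))))))))))) (nat_lit 106) (nat_lit 0),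
  Rule.mk (nat_lit 0) (nat_lit 174) (Steps.bwd (nat_lit 2) (Steps.bwd (nat_lit 1) (Steps.bwd (nat_lit 3) (Steps.bwd (nat_lit 1) (Steps.bwd (nat_lit 2) (Steps.fwd (nat_lit 262144) (Steps.bwd (nat_lit 3) (Steps.fwd (nat_lit 262144) Steps.nil)))))))) (nat_lit 68) (nat_lit 1),
  Rule.mk (nat_lit 5) (nat_lit 94) (Steps.fwd (nat_lit 2097152) (Steps.fwd (nat_lit 1310720) (Steps.bwd (nat_lit 7) (Steps.bwd (nat_lit 8) Steps.nil)))) (nat_lit 100) (nat_lit 2),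
  Rule.mk (nat_lit 4) (nat_lit 314) (Steps.bwd (nat_lit 8) (Steps.bwd (nat_lit 4) (Steps.fwd (nat_lit 2097152) (Steps.bwd (nat_lit 4) (Steps.bwd (nat_lit 8) (Steps.fwd (nat_lit 1048576) (Steps.fwd (nat_lit 2097152) (Steps.fwd (nat_lit 1048576) (Steps.fwd (nat_lit 2359296) (Steps.fwd (nat_lit 1048576) (Steps.fwd (nat_lit 2097152) (Steps.fwd (nat_lit 1048576) (Steps.bwd (nat_lit 8) (Steps.bwd (nat_lit 4) (Steps.bwd (nat_lit 9) Steps.nil))))))))))))))) (nat_lit 106) (nat_lit 0),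
  Rule.mk (nat_lit 0) (nat_lit 134) (Steps.bwd (nat_lit 1) (Steps.fwd (nat_lit 1310720) (Steps.fwd (nat_lit 1835008) (Steps.fwd (nat_lit 262144) (Steps.fwd (nat_lit 1310720) (Steps.bwd (nat_lit 7) Steps.nil)))))) (nat_lit 52) (nat_lit 0),
  Rule.mk (nat_lit 1) (nat_lit 274) (Steps.fwd (nat_lit 1572864) (Steps.bwd (nat_lit 5) (Steps.fwd (nat_lit 786432) (Steps.bwd (nat_lit 1) (Steps.bwd (nat_lit 6) (Steps.bwd (nat_lit 1) (Steps.fwd (nat_lit 786432) (Steps.bwd (nat_lit 1) (Steps.fwd (nat_lit 1572864) (Steps.fwd (nat_lit 262144) (Steps.bwd (nat_lit 2) (Steps.fwd (nat_lit 262144) (Steps.bwd (nat_lit 6) Steps.nil))))))))))))) (nat_lit 34) (nat_lit 12),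
  Rule.mk (nat_lit 3) (nat_lit 274) (Steps.bwd (nat_lit 1) (Steps.fwd (nat_lit 1572864) (Steps.fwd (nat_lit 262144) (Steps.fwd (nat_lit 524288) (Steps.bwd (nat_lit 1) (Steps.fwd (nat_lit 1572864) (Steps.fwd (nat_lit 262144) (Steps.bwd (nat_lit 3) (Steps.fwd (nat_lit 1310720) (Steps.bwd (nat_lit 6) (Steps.bwd (nat_lit 1) (Steps.bwd (nat_lit 6) (Steps.fwd (nat_lit 262144) Steps.nil))))))))))))) (nat_lit 35) (nat_lit 6),
  Rule.mk (nat_lit 1) (nat_lit 154) (Steps.bwd (nat_lit 3) (Steps.bwd (nat_lit 1) (Steps.bwd (nat_lit 7) (Steps.bwd (nat_lit 3) (Steps.bwd (nat_lit 1) (Steps.fwd (nat_lit 524288) (Steps.bwd (nat_lit 7) Steps.nil))))))) (nat_lit 73) (nat_lit 6),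
  Rule.mk (nat_lit 1) (nat_lit 274) (Steps.bwd (nat_lit 6) (Steps.bwd (nat_lit 1) (Steps.fwd (nat_lit 524288) (Steps.bwd (nat_lit 1) (Steps.fwd (nat_lit 1572864) (Steps.fwd (nat_lit 262144) (Steps.fwd (nat_lit 524288) (Steps.fwd (nat_lit 262144) (Steps.fwd (nat_lit 1572864) (Steps.bwd (nat_lit 1) (Steps.fwd (nat_lit 524288) (Steps.fwd (nat_lit 1310720) (Steps.bwd (nat_lit 6) Steps.nil))))))))))))) (nat_lit 35) (nat_lit 3),
  Rule.mk (nat_lit 2) (nat_lit 154) (Steps.fwd (nat_lit 1835008) (Steps.bwd (nat_lit 1) (Steps.fwd (nat_lit 786432) (Steps.fwd (nat_lit 262144) (Steps.fwd (nat_lit 1835008) (Steps.fwd (nat_lit 786432) (Steps.fwd (nat_lit 262144) Steps.nil))))))) (nat_lit 72) (nat_lit 7),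
  Rule.mk (nat_lit 1) (nat_lit 274) (Steps.bwd (nat_lit 2) (Steps.bwd (nat_lit 1) (Steps.bwd (nat_lit 6) (Steps.bwd (nat_lit 1) (Steps.fwd (nat_lit 1572864) (Steps.fwd (nat_lit 1310720) (Steps.bwd (nat_lit 2) (Steps.bwd (nat_lit 1) (Steps.bwd (nat_lit 6) (Steps.bwd (nat_lit 1) (Steps.bwd (nat_lit 2) (Steps.fwd (nat_lit 262144) (Steps.fwd (nat_lit 1572864) Steps.nil))))))))))))) (nat_lit 34) (nat_lit 8),
  Rule.mk (nat_lit 1) (nat_lit 274) (Steps.bwd (nat_lit 2) (Steps.bwd (nat_lit 1) (Steps.bwd (nat_lit 6) (Steps.bwd (nat_lit 1) (Steps.bwd (nat_lit 2) (Steps.fwd (nat_lit 262144) (Steps.bwd (nat_lit 6) (Steps.fwd (nat_lit 262144) (Steps.fwd (nat_lit 1572864) (Steps.bwd (nat_lit 5) (Steps.fwd (nat_lit 786432) (Steps.bwd (nat_lit 1) (Steps.fwd (nat_lit 1572864) Steps.nil))))))))))))) (nat_lit 34) (nat_lit 4),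
  Rule.mk (nat_lit 0) (nat_lit 174) (Steps.bwd (nat_lit 1) (Steps.bwd (nat_lit 3) (Steps.fwd (nat_lit 1310720) (Steps.fwd (nat_lit 262144) (Steps.bwd (nat_lit 3) (Steps.bwd (nat_lit 1) (Steps.fwd (nat_lit 1310720) (Steps.fwd (nat_lit 524288) Steps.nil)))))))) (nat_lit 71) (nat_lit 2),
  Rule.mk (nat_lit 4) (nat_lit 154) (Steps.bwd (nat_lit 1) (Steps.fwd (nat_lit 1572864) (Steps.bwd (nat_lit 1) (Steps.bwd (nat_lit 4) (Steps.fwd (nat_lit 262144) (Steps.bwd (nat_lit 6) (Steps.fwd (nat_lit 262144) Steps.nil))))))) (nat_lit 74) (nat_lit 2),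
  Rule.mk (nat_lit 6) (nat_lit 114) (Steps.fwd (nat_lit 1048576) (Steps.fwd (nat_lit 1835008) (Steps.bwd (nat_lit 5) (Steps.bwd (nat_lit 4) (Steps.bwd (nat_lit 7) Steps.nil))))) (nat_lit 67) (nat_lit 2),
  Rule.mk (nat_lit 1) (nat_lit 154) (Steps.fwd (nat_lit 1048576) (Steps.bwd (nat_lit 1) (Steps.fwd (nat_lit 1835008) (Steps.bwd (nat_lit 4) (Steps.fwd (nat_lit 262144) (Steps.bwd (nat_lit 4) (Steps.bwd (nat_lit 7) Steps.nil))))))) (nat_lit 76) (nat_lit 1),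
  Rule.mk (nat_lit 4) (nat_lit 314) (Steps.bwd (nat_lit 9) (Steps.bwd (nat_lit 4) (Steps.fwd (nat_lit 2359296) (Steps.bwd (nat_lit 4) (Steps.bwd (nat_lit 9) (Steps.bwd (nat_lit 4) (Steps.bwd (nat_lit 8) (Steps.bwd (nat_lit 4) (Steps.bwd (nat_lit 9) (Steps.fwd (nat_lit 1048576) (Steps.fwd (nat_lit 2359296) (Steps.fwd (nat_lit 1048576) (Steps.fwd (nat_lit 2097152) (Steps.bwd (nat_lit 4) (Steps.fwd (nat_lit 2359296) Steps.nil))))))))))))))) (nat_lit 106) (nat_lit 2),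
  Rule.mk (nat_lit 2) (nat_lit 154) (Steps.bwd (nat_lit 4) (Steps.fwd (nat_lit 1835008) (Steps.fwd (nat_lit 1572864) (Steps.bwd (nat_lit 2) (Steps.bwd (nat_lit 4) (Steps.bwd (nat_lit 7) (Steps.fwd (nat_lit 1310720) Steps.nil))))))) (nat_lit 80) (nat_lit 5),
  Rule.mk (nat_lit 1) (nat_lit 154) (Steps.bwd (nat_lit 3) (Steps.bwd (nat_lit 1) (Steps.bwd (nat_lit 2) (Steps.bwd (nat_lit 1) (Steps.bwd (nat_lit 3) (Steps.fwd (nat_lit 262144) (Steps.bwd (nat_lit 2) Steps.nil))))))) (nat_lit 68) (nat_lit 3),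
  Rule.mk (nat_lit 4) (nat_lit 314) (Steps.bwd (nat_lit 8) (Steps.bwd (nat_lit 4) (Steps.bwd (nat_lit 9) (Steps.bwd (nat_lit 4) (Steps.bwd (nat_lit 8) (Steps.bwd (nat_lit 4) (Steps.fwd (nat_lit 2097152) (Steps.bwd (nat_lit 4) (Steps.bwd (nat_lit 8) (Steps.bwd (nat_lit 4) (Steps.bwd (nat_lit 9) (Steps.fwd (nat_lit 1048576) (Steps.bwd (nat_lit 8) (Steps.fwd (nat_lit 1048576) (Steps.bwd (nat_lit 9) Steps.nil))))))))))))))) (nat_lit 106) (nat_lit 0),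
  Rule.mk (nat_lit 4) (nat_lit 314) (Steps.bwd (nat_lit 8) (Steps.bwd (nat_lit 4) (Steps.bwd (nat_lit 9) (Steps.bwd (nat_lit 4) (Steps.bwd (nat_lit 8) (Steps.fwd (nat_lit 1048576) (Steps.bwd (nat_lit 9) (Steps.bwd (nat_lit 4) (Steps.fwd (nat_lit 2359296) (Steps.fwd (nat_lit 1048576) (Steps.bwd (nat_lit 9) (Steps.fwd (nat_lit 1048576) (Steps.fwd (nat_lit 2359296) (Steps.fwd (nat_lit 1048576) (Steps.fwd (nat_lit 2097152) Steps.nil))))))))))))))) (nat_lit 106) (nat_lit 0),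
  Rule.mk (nat_lit 1) (nat_lit 154) (Steps.bwd (nat_lit 2) (Steps.fwd (nat_lit 262144) (Steps.bwd (nat_lit 3) (Steps.fwd (nat_lit 262144) (Steps.fwd (nat_lit 786432) (Steps.bwd (nat_lit 1) (Steps.bwd (nat_lit 3) Steps.nil))))))) (nat_lit 68) (nat_lit 1),
  Rule.mk (nat_lit 4) (nat_lit 114) (Steps.fwd (nat_lit 1572864) (Steps.fwd (nat_lit 524288) (Steps.bwd (nat_lit 4) (Steps.fwd (nat_lit 1310720) (Steps.bwd (nat_lit 3) Steps.nil))))) (nat_lit 59) (nat_lit 1),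
  Rule.mk (nat_lit 4) (nat_lit 154) (Steps.bwd (nat_lit 7) (Steps.fwd (nat_lit 1572864) (Steps.fwd (nat_lit 524288) (Steps.bwd (nat_lit 4) (Steps.fwd (nat_lit 1835008) (Steps.fwd (nat_lit 1310720) (Steps.bwd (nat_lit 3) Steps.nil))))))) (nat_lit 89) (nat_lit 1),
  Rule.mk (nat_lit 0) (nat_lit 334) (Steps.fwd (nat_lit 1048576) (Steps.fwd (nat_lit 2359296) (Steps.bwd (nat_lit 4) (Steps.bwd (nat_lit 9) (Steps.bwd (nat_lit 4) (Steps.fwd (nat_lit 2359296) (Steps.bwd (nat_lit 4) (Steps.bwd (nat_lit 9) (Steps.fwd (nat_lit 1048576) (Steps.fwd (nat_lit 2359296) (Steps.bwd (nat_lit 4) (Steps.bwd (nat_lit 9) (Steps.bwd (nat_lit 4) (Steps.bwd (nat_lit 8) (Steps.bwd (nat_lit 4) (Steps.fwd (nat_lit 2097152) Steps.nil)))))))))))))))) (nat_lit 106) (nat_lit 3),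
  Rule.mk (nat_lit 3) (nat_lit 154) (Steps.bwd (nat_lit 7) (Steps.fwd (nat_lit 262144) (Steps.bwd (nat_lit 3) (Steps.bwd (nat_lit 1) (Steps.bwd (nat_lit 7) (Steps.bwd (nat_lit 3) (Steps.fwd (nat_lit 262144) Steps.nil))))))) (nat_lit 73) (nat_lit 4),
  Rule.mk (nat_lit 4) (nat_lit 154) (Steps.bwd (nat_lit 3) (Steps.bwd (nat_lit 7) (Steps.bwd (nat_lit 6) (Steps.fwd (nat_lit 1048576) (Steps.fwd (nat_lit 524288) (Steps.fwd (nat_lit 1835008) (Steps.fwd (nat_lit 1310720) Steps.nil))))))) (nat_lit 79) (nat_lit 7),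
  Rule.mk (nat_lit 4) (nat_lit 114) (Steps.fwd (nat_lit 1572864) (Steps.bwd (nat_lit 7) (Steps.fwd (nat_lit 1048576) (Steps.fwd (nat_lit 1310720) (Steps.bwd (nat_lit 7) Steps.nil))))) (nat_lit 66) (nat_lit 4),
  Rule.mk (nat_lit 4) (nat_lit 314) (Steps.fwd (nat_lit 2359296) (Steps.fwd (nat_lit 1048576) (Steps.bwd (nat_lit 9) (Steps.bwd (nat_lit 4) (Steps.bwd (nat_lit 8) (Steps.fwd (nat_lit 1048576) (Steps.fwd (nat_lit 2097152) (Steps.fwd (nat_lit 1048576) (Steps.fwd (nat_lit 2359296) (Steps.fwd (nat_lit 1048576) (Steps.bwd (nat_lit 9) (Steps.fwd (nat_lit 1048576) (Steps.fwd (nat_lit 2359296) (Steps.fwd (nat_lit 1048576) (Steps.fwd (nat_lit 2097152) Steps.nil))))))))))))))) (nat_lit 106) (nat_lit 0),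
  Rule.mk (nat_lit 2) (nat_lit 114) (Steps.bwd (nat_lit 4) (Steps.bwd (nat_lit 5) (Steps.bwd (nat_lit 2) (Steps.bwd (nat_lit 4) (Steps.bwd (nat_lit 6) Steps.nil))))) (nat_lit 54) (nat_lit 1),
  Rule.mk (nat_lit 2) (nat_lit 154) (Steps.bwd (nat_lit 4) (Steps.bwd (nat_lit 5) (Steps.bwd (nat_lit 7) (Steps.bwd (nat_lit 2) (Steps.bwd (nat_lit 4) (Steps.bwd (nat_lit 6) (Steps.fwd (nat_lit 1835008) Steps.nil))))))) (nat_lit 78) (nat_lit 1),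
  Rule.mk (nat_lit 3) (nat_lit 154) (Steps.bwd (nat_lit 4) (Steps.fwd (nat_lit 1835008) (Steps.fwd (nat_lit 1310720) (Steps.bwd (nat_lit 3) (Steps.bwd (nat_lit 4) (Steps.bwd (nat_lit 7) (Steps.bwd (nat_lit 6) Steps.nil))))))) (nat_lit 89) (nat_lit 4),
  Rule.mk (nat_lit 1) (nat_lit 154) (Steps.bwd (nat_lit 5) (Steps.bwd (nat_lit 3) (Steps.bwd (nat_lit 1) (Steps.fwd (nat_lit 524288) (Steps.fwd (nat_lit 1310720) (Steps.fwd (nat_lit 262144) (Steps.fwd (nat_lit 524288) Steps.nil))))))) (nat_lit 71) (nat_lit 0),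
  Rule.mk (nat_lit 3) (nat_lit 154) (Steps.bwd (nat_lit 5) (Steps.bwd (nat_lit 3) (Steps.bwd (nat_lit 6) (Steps.fwd (nat_lit 1310720) (Steps.fwd (nat_lit 524288) (Steps.bwd (nat_lit 6) (Steps.fwd (nat_lit 1835008) Steps.nil))))))) (nat_lit 85) (nat_lit 6),
  Rule.mk (nat_lit 1) (nat_lit 154) (Steps.fwd (nat_lit 524288) (Steps.fwd (nat_lit 1835008) (Steps.bwd (nat_lit 1) (Steps.fwd (nat_lit 524288) (Steps.bwd (nat_lit 1) (Steps.bwd (nat_lit 7) (Steps.bwd (nat_lit 3) Steps.nil))))))) (nat_lit 73) (nat_lit 3),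
  Rule.mk (nat_lit 6) (nat_lit 154) (Steps.bwd (nat_lit 4) (Steps.bwd (nat_lit 3) (Steps.bwd (nat_lit 7) (Steps.fwd (nat_lit 1310720) (Steps.bwd (nat_lit 4) (Steps.fwd (nat_lit 524288) (Steps.fwd (nat_lit 1835008) Steps.nil))))))) (nat_lit 79) (nat_lit 2),
  Rule.mk (nat_lit 4) (nat_lit 314) (Steps.fwd (nat_lit 2359296) (Steps.bwd (nat_lit 4) (Steps.bwd (nat_lit 9) (Steps.bwd (nat_lit 4) (Steps.bwd (nat_lit 8) (Steps.bwd (nat_lit 4) (Steps.bwd (nat_lit 9) (Steps.bwd (nat_lit 4) (Steps.fwd (nat_lit 2359296) (Steps.fwd (nat_lit 1048576) (Steps.bwd (nat_lit 9) (Steps.bwd (nat_lit 4) (Steps.fwd (nat_lit 2359296) (Steps.fwd (nat_lit 1048576) (Steps.fwd (nat_lit 2097152) Steps.nil))))))))))))))) (nat_lit 106) (nat_lit 0),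
  Rule.mk (nat_lit 9) (nat_lit 314) (Steps.bwd (nat_lit 4) (Steps.bwd (nat_lit 8) (Steps.bwd (nat_lit 4) (Steps.bwd (nat_lit 9) (Steps.bwd (nat_lit 4) (Steps.fwd (nat_lit 2359296) (Steps.fwd (nat_lit 1048576) (Steps.bwd (nat_lit 9) (Steps.fwd (nat_lit 1048576) (Steps.fwd (nat_lit 2359296) (Steps.bwd (nat_lit 4) (Steps.bwd (nat_lit 9) (Steps.fwd (nat_lit 1048576) (Steps.fwd (nat_lit 2359296) (Steps.fwd (nat_lit 1048576) Steps.nil))))))))))))))) (nat_lit 106) (nat_lit 3),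
  Rule.mk (nat_lit 3) (nat_lit 114) (Steps.fwd (nat_lit 1572864) (Steps.fwd (nat_lit 1835008) (Steps.bwd (nat_lit 2) (Steps.fwd (nat_lit 1572864) (Steps.bwd (nat_lit 7) Steps.nil))))) (nat_lit 62) (nat_lit 4),
  Rule.mk (nat_lit 4) (nat_lit 114) (Steps.bwd (nat_lit 6) (Steps.fwd (nat_lit 524288) (Steps.bwd (nat_lit 4) (Steps.bwd (nat_lit 5) (Steps.fwd (nat_lit 524288) Steps.nil))))) (nat_lit 59) (nat_lit 1),
  Rule.mk (nat_lit 7) (nat_lit 154) (Steps.bwd (nat_lit 6) (Steps.fwd (nat_lit 524288) (Steps.bwd (nat_lit 4) (Steps.fwd (nat_lit 1835008) (Steps.bwd (nat_lit 5) (Steps.fwd (nat_lit 524288) (Steps.fwd (nat_lit 1048576) Steps.nil))))))) (nat_lit 89) (nat_lit 2),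
  Rule.mk (nat_lit 4) (nat_lit 154) (Steps.bwd (nat_lit 1) (Steps.fwd (nat_lit 1835008) (Steps.bwd (nat_lit 4) (Steps.bwd (nat_lit 1) (Steps.fwd (nat_lit 1048576) (Steps.bwd (nat_lit 7) (Steps.fwd (nat_lit 262144) Steps.nil))))))) (nat_lit 76) (nat_lit 2),
  Rule.mk (nat_lit 4) (nat_lit 154) (Steps.fwd (nat_lit 1572864) (Steps.bwd (nat_lit 7) (Steps.bwd (nat_lit 2) (Steps.bwd (nat_lit 4) (Steps.fwd (nat_lit 1310720) (Steps.bwd (nat_lit 7) (Steps.fwd (nat_lit 786432) Steps.nil))))))) (nat_lit 78) (nat_lit 6),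
  Rule.mk (nat_lit 3) (nat_lit 114) (Steps.fwd (nat_lit 1048576) (Steps.bwd (nat_lit 7) (Steps.fwd (nat_lit 524288) (Steps.bwd (nat_lit 4) (Steps.fwd (nat_lit 1835008) Steps.nil))))) (nat_lit 65) (nat_lit 0),
  Rule.mk (nat_lit 3) (nat_lit 154) (Steps.fwd (nat_lit 1048576) (Steps.bwd (nat_lit 7) (Steps.fwd (nat_lit 1572864) (Steps.fwd (nat_lit 524288) (Steps.bwd (nat_lit 4) (Steps.fwd (nat_lit 1835008) (Steps.bwd (nat_lit 5) Steps.nil))))))) (nat_lit 89) (nat_lit 0),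
  Rule.mk (nat_lit 1) (nat_lit 154) (Steps.fwd (nat_lit 1572864) (Steps.fwd (nat_lit 262144) (Steps.bwd (nat_lit 4) (Steps.bwd (nat_lit 1) (Steps.fwd (nat_lit 1572864) (Steps.bwd (nat_lit 1) (Steps.fwd (nat_lit 1048576) Steps.nil))))))) (nat_lit 74) (nat_lit 3),
  Rule.mk (nat_lit 2) (nat_lit 154) (Steps.bwd (nat_lit 7) (Steps.fwd (nat_lit 262144) (Steps.fwd (nat_lit 786432) (Steps.fwd (nat_lit 262144) (Steps.fwd (nat_lit 1835008) (Steps.bwd (nat_lit 2) (Steps.fwd (nat_lit 262144) Steps.nil))))))) (nat_lit 72) (nat_lit 7),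
  Rule.mk (nat_lit 4) (nat_lit 154) (Steps.bwd (nat_lit 2) (Steps.bwd (nat_lit 7) (Steps.fwd (nat_lit 1572864) (Steps.fwd (nat_lit 1048576) (Steps.fwd (nat_lit 786432) (Steps.fwd (nat_lit 1835008) (Steps.bwd (nat_lit 5) Steps.nil))))))) (nat_lit 92) (nat_lit 4)]
noncomputable def R_102 : List (Rule) := [Rule.mk (nat_lit 4) (nat_lit 114) (Steps.bwd (nat_lit 7) (Steps.bwd (nat_lit 5) (Steps.bwd (nat_lit 4) (Steps.fwd (nat_lit 1835008) (Steps.fwd (nat_lit 1572864) Steps.nil))))) (nat_lit 67) (nat_lit 3),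
  Rule.mk (nat_lit 9) (nat_lit 314) (Steps.bwd (nat_lit 4) (Steps.bwd (nat_lit 8) (Steps.fwd (nat_lit 1048576) (Steps.bwd (nat_lit 9) (Steps.fwd (nat_lit 1048576) (Steps.bwd (nat_lit 8) (Steps.fwd (nat_lit 1048576) (Steps.fwd (nat_lit 2097152) (Steps.bwd (nat_lit 4) (Steps.fwd (nat_lit 2359296) (Steps.fwd (nat_lit 1048576) (Steps.bwd (nat_lit 9) (Steps.bwd (nat_lit 4) (Steps.fwd (nat_lit 2359296) (Steps.fwd (nat_lit 1048576) Steps.nil))))))))))))))) (nat_lit 106) (nat_lit 3),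
  Rule.mk (nat_lit 9) (nat_lit 314) (Steps.bwd (nat_lit 4) (Steps.fwd (nat_lit 2359296) (Steps.fwd (nat_lit 1048576) (Steps.bwd (nat_lit 9) (Steps.bwd (nat_lit 4) (Steps.bwd (nat_lit 8) (Steps.bwd (nat_lit 4) (Steps.bwd (nat_lit 9) (Steps.fwd (nat_lit 1048576) (Steps.fwd (nat_lit 2359296) (Steps.fwd (nat_lit 1048576) (Steps.bwd (nat_lit 9) (Steps.fwd (nat_lit 1048576) (Steps.fwd (nat_lit 2359296) (Steps.bwd (nat_lit 4) Steps.nil))))))))))))))) (nat_lit 106) (nat_lit 3),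
  Rule.mk (nat_lit 1) (nat_lit 154) (Steps.bwd (nat_lit 3) (Steps.fwd (nat_lit 1835008) (Steps.bwd (nat_lit 1) (Steps.fwd (nat_lit 524288) (Steps.bwd (nat_lit 1) (Steps.fwd (nat_lit 1835008) (Steps.fwd (nat_lit 524288) Steps.nil))))))) (nat_lit 73) (nat_lit 3),
  Rule.mk (nat_lit 2) (nat_lit 154) (Steps.bwd (nat_lit 1) (Steps.bwd (nat_lit 3) (Steps.fwd (nat_lit 262144) (Steps.fwd (nat_lit 786432) (Steps.bwd (nat_lit 1) (Steps.bwd (nat_lit 3) (Steps.bwd (nat_lit 1) Steps.nil))))))) (nat_lit 68) (nat_lit 2),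
  Rule.mk (nat_lit 1) (nat_lit 154) (Steps.fwd (nat_lit 1048576) (Steps.fwd (nat_lit 262144) (Steps.bwd (nat_lit 7) (Steps.fwd (nat_lit 1048576) (Steps.fwd (nat_lit 262144) (Steps.bwd (nat_lit 4) (Steps.fwd (nat_lit 1835008) Steps.nil))))))) (nat_lit 76) (nat_lit 1),
  Rule.mk (nat_lit 4) (nat_lit 114) (Steps.fwd (nat_lit 1572864) (Steps.bwd (nat_lit 3) (Steps.bwd (nat_lit 4) (Steps.fwd (nat_lit 1310720) (Steps.fwd (nat_lit 524288) Steps.nil))))) (nat_lit 59) (nat_lit 1),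
  Rule.mk (nat_lit 4) (nat_lit 154) (Steps.bwd (nat_lit 6) (Steps.bwd (nat_lit 7) (Steps.fwd (nat_lit 786432) (Steps.bwd (nat_lit 4) (Steps.fwd (nat_lit 1310720) (Steps.fwd (nat_lit 1835008) (Steps.bwd (nat_lit 2) Steps.nil))))))) (nat_lit 78) (nat_lit 6),
  Rule.mk (nat_lit 4) (nat_lit 154) (Steps.fwd (nat_lit 524288) (Steps.fwd (nat_lit 1835008) (Steps.fwd (nat_lit 1310720) (Steps.bwd (nat_lit 4) (Steps.bwd (nat_lit 3) (Steps.fwd (nat_lit 1835008) (Steps.fwd (nat_lit 1572864) Steps.nil))))))) (nat_lit 79) (nat_lit 3),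
  Rule.mk (nat_lit 4) (nat_lit 154) (Steps.fwd (nat_lit 1572864) (Steps.bwd (nat_lit 3) (Steps.bwd (nat_lit 7) (Steps.bwd (nat_lit 4) (Steps.fwd (nat_lit 1310720) (Steps.fwd (nat_lit 524288) (Steps.bwd (nat_lit 7) Steps.nil))))))) (nat_lit 87) (nat_lit 2),
  Rule.mk (nat_lit 1) (nat_lit 154) (Steps.fwd (nat_lit 786432) (Steps.bwd (nat_lit 7) (Steps.bwd (nat_lit 1) (Steps.bwd (nat_lit 2) (Steps.bwd (nat_lit 1) (Steps.fwd (nat_lit 1835008) (Steps.bwd (nat_lit 2) Steps.nil))))))) (nat_lit 72) (nat_lit 6),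
  Rule.mk (nat_lit 9) (nat_lit 314) (Steps.bwd (nat_lit 4) (Steps.fwd (nat_lit 2359296) (Steps.bwd (nat_lit 4) (Steps.bwd (nat_lit 9) (Steps.fwd (nat_lit 1048576) (Steps.bwd (nat_lit 8) (Steps.bwd (nat_lit 4) (Steps.bwd (nat_lit 9) (Steps.bwd (nat_lit 4) (Steps.bwd (nat_lit 8) (Steps.fwd (nat_lit 1048576) (Steps.fwd (nat_lit 2097152) (Steps.fwd (nat_lit 1048576) (Steps.fwd (nat_lit 2359296) (Steps.fwd (nat_lit 1048576) Steps.nil))))))))))))))) (nat_lit 106) (nat_lit 3),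
  Rule.mk (nat_lit 8) (nat_lit 314) (Steps.bwd (nat_lit 4) (Steps.fwd (nat_lit 2097152) (Steps.fwd (nat_lit 1048576) (Steps.bwd (nat_lit 8) (Steps.fwd (nat_lit 1048576) (Steps.fwd (nat_lit 2097152) (Steps.fwd (nat_lit 1048576) (Steps.fwd (nat_lit 2359296) (Steps.fwd (nat_lit 1048576) (Steps.bwd (nat_lit 9) (Steps.bwd (nat_lit 4) (Steps.fwd (nat_lit 2359296) (Steps.fwd (nat_lit 1048576) (Steps.fwd (nat_lit 2097152) (Steps.fwd (nat_lit 1048576) Steps.nil))))))))))))))) (nat_lit 106) (nat_lit 1),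
  Rule.mk (nat_lit 8) (nat_lit 314) (Steps.bwd (nat_lit 4) (Steps.bwd (nat_lit 9) (Steps.bwd (nat_lit 4) (Steps.bwd (nat_lit 8) (Steps.fwd (nat_lit 1048576) (Steps.bwd (nat_lit 9) (Steps.fwd (nat_lit 1048576) (Steps.fwd (nat_lit 2359296) (Steps.fwd (nat_lit 1048576) (Steps.bwd (nat_lit 9) (Steps.bwd (nat_lit 4) (Steps.bwd (nat_lit 8) (Steps.fwd (nat_lit 1048576) (Steps.bwd (nat_lit 9) (Steps.fwd (nat_lit 1048576) Steps.nil))))))))))))))) (nat_lit 106) (nat_lit 1),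
  Rule.mk (nat_lit 0) (nat_lit 94) (Steps.bwd (nat_lit 1) (Steps.fwd (nat_lit 1310720) (Steps.bwd (nat_lit 1) (Steps.fwd (nat_lit 1310720) Steps.nil)))) (nat_lit 18) (nat_lit 0),
  Rule.mk (nat_lit 6) (nat_lit 94) (Steps.fwd (nat_lit 1310720) (Steps.bwd (nat_lit 6) (Steps.bwd (nat_lit 5) (Steps.bwd (nat_lit 7) Steps.nil)))) (nat_lit 24) (nat_lit 1),
  Rule.mk (nat_lit 1) (nat_lit 274) (Steps.fwd (nat_lit 1572864) (Steps.fwd (nat_lit 1310720) (Steps.bwd (nat_lit 2) (Steps.bwd (nat_lit 1) (Steps.fwd (nat_lit 1572864) (Steps.fwd (nat_lit 262144) (Steps.bwd (nat_lit 2) (Steps.bwd (nat_lit 1) (Steps.fwd (nat_lit 1572864) (Steps.bwd (nat_lit 1) (Steps.fwd (nat_lit 786432) (Steps.fwd (nat_lit 262144) (Steps.bwd (nat_lit 6) Steps.nil))))))))))))) (nat_lit 34) (nat_lit 12),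
  Rule.mk (nat_lit 7) (nat_lit 154) (Steps.fwd (nat_lit 1310720) (Steps.bwd (nat_lit 3) (Steps.bwd (nat_lit 4) (Steps.bwd (nat_lit 7) (Steps.fwd (nat_lit 1572864) (Steps.fwd (nat_lit 524288) (Steps.fwd (nat_lit 1048576) Steps.nil))))))) (nat_lit 89) (nat_lit 6),
  Rule.mk (nat_lit 2) (nat_lit 114) (Steps.bwd (nat_lit 4) (Steps.fwd (nat_lit 1835008) (Steps.fwd (nat_lit 786432) (Steps.fwd (nat_lit 1048576) (Steps.bwd (nat_lit 7) Steps.nil))))) (nat_lit 56) (nat_lit 1),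
  Rule.mk (nat_lit 2) (nat_lit 274) (Steps.bwd (nat_lit 1) (Steps.fwd (nat_lit 1572864) (Steps.fwd (nat_lit 262144) (Steps.fwd (nat_lit 1572864) (Steps.fwd (nat_lit 1310720) (Steps.bwd (nat_lit 2) (Steps.bwd (nat_lit 1) (Steps.bwd (nat_lit 6) (Steps.fwd (nat_lit 262144) (Steps.fwd (nat_lit 786432) (Steps.fwd (nat_lit 262144) (Steps.fwd (nat_lit 1572864) (Steps.bwd (nat_lit 1) Steps.nil))))))))))))) (nat_lit 34) (nat_lit 9),
  Rule.mk (nat_lit 0) (nat_lit 94) (Steps.bwd (nat_lit 2) (Steps.fwd (nat_lit 1048576) (Steps.bwd (nat_lit 2) (Steps.fwd (nat_lit 1048576) Steps.nil)))) (nat_lit 14) (nat_lit 1),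
  Rule.mk (nat_lit 4) (nat_lit 114) (Steps.bwd (nat_lit 7) (Steps.fwd (nat_lit 786432) (Steps.fwd (nat_lit 1048576) (Steps.fwd (nat_lit 1835008) (Steps.fwd (nat_lit 786432) Steps.nil))))) (nat_lit 56) (nat_lit 2),
  Rule.mk (nat_lit 1) (nat_lit 154) (Steps.bwd (nat_lit 7) (Steps.fwd (nat_lit 786432) (Steps.bwd (nat_lit 1) (Steps.bwd (nat_lit 2) (Steps.bwd (nat_lit 7) (Steps.fwd (nat_lit 262144) (Steps.bwd (nat_lit 2) Steps.nil))))))) (nat_lit 72) (nat_lit 3),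
  Rule.mk (nat_lit 6) (nat_lit 154) (Steps.bwd (nat_lit 4) (Steps.bwd (nat_lit 3) (Steps.bwd (nat_lit 7) (Steps.bwd (nat_lit 5) (Steps.bwd (nat_lit 4) (Steps.bwd (nat_lit 3) (Steps.fwd (nat_lit 1835008) Steps.nil))))))) (nat_lit 79) (nat_lit 2),
  Rule.mk (nat_lit 0) (nat_lit 134) (Steps.bwd (nat_lit 4) (Steps.bwd (nat_lit 3) (Steps.fwd (nat_lit 1572864) (Steps.bwd (nat_lit 4) (Steps.bwd (nat_lit 3) (Steps.bwd (nat_lit 5) Steps.nil)))))) (nat_lit 55) (nat_lit 4),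
  Rule.mk (nat_lit 4) (nat_lit 154) (Steps.fwd (nat_lit 1835008) (Steps.fwd (nat_lit 1310720) (Steps.fwd (nat_lit 524288) (Steps.bwd (nat_lit 4) (Steps.bwd (nat_lit 7) (Steps.bwd (nat_lit 6) (Steps.bwd (nat_lit 3) Steps.nil))))))) (nat_lit 89) (nat_lit 5),
  Rule.mk (nat_lit 4) (nat_lit 314) (Steps.bwd (nat_lit 8) (Steps.bwd (nat_lit 4) (Steps.bwd (nat_lit 9) (Steps.fwd (nat_lit 1048576) (Steps.bwd (nat_lit 8) (Steps.bwd (nat_lit 4) (Steps.bwd (nat_lit 9) (Steps.fwd (nat_lit 1048576) (Steps.fwd (nat_lit 2359296) (Steps.fwd (nat_lit 1048576) (Steps.fwd (nat_lit 2097152) (Steps.fwd (nat_lit 1048576) (Steps.fwd (nat_lit 2359296) (Steps.bwd (nat_lit 4) (Steps.bwd (nat_lit 9) Steps.nil))))))))))))))) (nat_lit 106) (nat_lit 0),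
  Rule.mk (nat_lit 2) (nat_lit 154) (Steps.fwd (nat_lit 1048576) (Steps.bwd (nat_lit 6) (Steps.fwd (nat_lit 1835008) (Steps.fwd (nat_lit 786432) (Steps.fwd (nat_lit 1048576) (Steps.bwd (nat_lit 5) (Steps.fwd (nat_lit 1835008) Steps.nil))))))) (nat_lit 78) (nat_lit 5),
  Rule.mk (nat_lit 1) (nat_lit 154) (Steps.bwd (nat_lit 2) (Steps.fwd (nat_lit 1310720) (Steps.bwd (nat_lit 1) (Steps.fwd (nat_lit 786432) (Steps.bwd (nat_lit 1) (Steps.fwd (nat_lit 1310720) (Steps.bwd (nat_lit 2) Steps.nil))))))) (nat_lit 70) (nat_lit 6),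
  Rule.mk (nat_lit 1) (nat_lit 154) (Steps.fwd (nat_lit 1310720) (Steps.fwd (nat_lit 786432) (Steps.bwd (nat_lit 1) (Steps.fwd (nat_lit 786432) (Steps.fwd (nat_lit 1310720) (Steps.bwd (nat_lit 1) (Steps.bwd (nat_lit 2) Steps.nil))))))) (nat_lit 70) (nat_lit 3),
  Rule.mk (nat_lit 2) (nat_lit 154) (Steps.fwd (nat_lit 1572864) (Steps.fwd (nat_lit 1310720) (Steps.bwd (nat_lit 2) (Steps.bwd (nat_lit 6) (Steps.fwd (nat_lit 1835008) (Steps.bwd (nat_lit 2) (Steps.fwd (nat_lit 1310720) Steps.nil))))))) (nat_lit 82) (nat_lit 3),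
  Rule.mk (nat_lit 4) (nat_lit 154) (Steps.fwd (nat_lit 786432) (Steps.bwd (nat_lit 5) (Steps.fwd (nat_lit 1835008) (Steps.bwd (nat_lit 4) (Steps.bwd (nat_lit 2) (Steps.bwd (nat_lit 6) (Steps.bwd (nat_lit 7) Steps.nil))))))) (nat_lit 88) (nat_lit 0),
  Rule.mk (nat_lit 4) (nat_lit 114) (Steps.fwd (nat_lit 262144) (Steps.bwd (nat_lit 4) (Steps.fwd (nat_lit 262144) (Steps.bwd (nat_lit 4) (Steps.fwd (nat_lit 262144) Steps.nil))))) (nat_lit 16) (nat_lit 0),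
  Rule.mk (nat_lit 3) (nat_lit 114) (Steps.bwd (nat_lit 6) (Steps.bwd (nat_lit 4) (Steps.bwd (nat_lit 3) (Steps.bwd (nat_lit 5) (Steps.bwd (nat_lit 4) Steps.nil))))) (nat_lit 55) (nat_lit 0),
  Rule.mk (nat_lit 1) (nat_lit 274) (Steps.fwd (nat_lit 524288) (Steps.bwd (nat_lit 5) (Steps.fwd (nat_lit 1572864) (Steps.bwd (nat_lit 1) (Steps.fwd (nat_lit 1572864) (Steps.fwd (nat_lit 262144) (Steps.bwd (nat_lit 3) (Steps.bwd (nat_lit 1) (Steps.bwd (nat_lit 6) (Steps.bwd (nat_lit 1) (Steps.bwd (nat_lit 3) (Steps.fwd (nat_lit 262144) (Steps.fwd (nat_lit 1572864) Steps.nil))))))))))))) (nat_lit 35) (nat_lit 13),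
  Rule.mk (nat_lit 1) (nat_lit 274) (Steps.fwd (nat_lit 1572864) (Steps.fwd (nat_lit 262144) (Steps.bwd (nat_lit 2) (Steps.bwd (nat_lit 1) (Steps.fwd (nat_lit 1572864) (Steps.fwd (nat_lit 262144) (Steps.bwd (nat_lit 2) (Steps.fwd (nat_lit 262144) (Steps.fwd (nat_lit 1572864) (Steps.bwd (nat_lit 1) (Steps.fwd (nat_lit 1572864) (Steps.bwd (nat_lit 5) (Steps.bwd (nat_lit 2) Steps.nil))))))))))))) (nat_lit 34) (nat_lit 2),
  Rule.mk (nat_lit 0) (nat_lit 174) (Steps.bwd (nat_lit 4) (Steps.bwd (nat_lit 7) (Steps.bwd (nat_lit 1) (Steps.bwd (nat_lit 4) (Steps.bwd (nat_lit 1) (Steps.bwd (nat_lit 7) (Steps.bwd (nat_lit 4) (Steps.bwd (nat_lit 1) Steps.nil)))))))) (nat_lit 76) (nat_lit 6),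
  Rule.mk (nat_lit 0) (nat_lit 174) (Steps.bwd (nat_lit 4) (Steps.fwd (nat_lit 524288) (Steps.fwd (nat_lit 1835008) (Steps.fwd (nat_lit 1310720) (Steps.bwd (nat_lit 4) (Steps.fwd (nat_lit 524288) (Steps.fwd (nat_lit 1835008) (Steps.bwd (nat_lit 6) Steps.nil)))))))) (nat_lit 79) (nat_lit 2),
  Rule.mk (nat_lit 4) (nat_lit 154) (Steps.bwd (nat_lit 3) (Steps.bwd (nat_lit 7) (Steps.fwd (nat_lit 1310720) (Steps.bwd (nat_lit 4) (Steps.fwd (nat_lit 524288) (Steps.bwd (nat_lit 7) (Steps.bwd (nat_lit 6) Steps.nil))))))) (nat_lit 79) (nat_lit 3),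
  Rule.mk (nat_lit 4) (nat_lit 154) (Steps.bwd (nat_lit 6) (Steps.bwd (nat_lit 7) (Steps.fwd (nat_lit 524288) (Steps.fwd (nat_lit 1048576) (Steps.bwd (nat_lit 5) (Steps.bwd (nat_lit 7) (Steps.bwd (nat_lit 3) Steps.nil))))))) (nat_lit 93) (nat_lit 1),
  Rule.mk (nat_lit 7) (nat_lit 154) (Steps.bwd (nat_lit 5) (Steps.fwd (nat_lit 1048576) (Steps.fwd (nat_lit 524288) (Steps.fwd (nat_lit 1835008) (Steps.bwd (nat_lit 6) (Steps.bwd (nat_lit 4) (Steps.bwd (nat_lit 3) Steps.nil))))))) (nat_lit 79) (nat_lit 5),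
  Rule.mk (nat_lit 7) (nat_lit 114) (Steps.bwd (nat_lit 5) (Steps.fwd (nat_lit 786432) (Steps.bwd (nat_lit 7) (Steps.bwd (nat_lit 5) (Steps.fwd (nat_lit 524288) Steps.nil))))) (nat_lit 61) (nat_lit 1),
  Rule.mk (nat_lit 3) (nat_lit 114) (Steps.fwd (nat_lit 1835008) (Steps.bwd (nat_lit 6) (Steps.fwd (nat_lit 786432) (Steps.bwd (nat_lit 7) (Steps.bwd (nat_lit 6) Steps.nil))))) (nat_lit 63) (nat_lit 0),
  Rule.mk (nat_lit 4) (nat_lit 154) (Steps.fwd (nat_lit 1835008) (Steps.bwd (nat_lit 5) (Steps.fwd (nat_lit 786432) (Steps.bwd (nat_lit 4) (Steps.bwd (nat_lit 7) (Steps.bwd (nat_lit 6) (Steps.fwd (nat_lit 786432) Steps.nil))))))) (nat_lit 80) (nat_lit 2),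
  Rule.mk (nat_lit 2) (nat_lit 154) (Steps.bwd (nat_lit 5) (Steps.bwd (nat_lit 7) (Steps.bwd (nat_lit 4) (Steps.fwd (nat_lit 786432) (Steps.bwd (nat_lit 6) (Steps.fwd (nat_lit 1835008) (Steps.bwd (nat_lit 4) Steps.nil))))))) (nat_lit 88) (nat_lit 1),
  Rule.mk (nat_lit 0) (nat_lit 134) (Steps.bwd (nat_lit 4) (Steps.bwd (nat_lit 2) (Steps.bwd (nat_lit 5) (Steps.bwd (nat_lit 4) (Steps.bwd (nat_lit 2) (Steps.fwd (nat_lit 1572864) Steps.nil)))))) (nat_lit 58) (nat_lit 5),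
  Rule.mk (nat_lit 2) (nat_lit 274) (Steps.bwd (nat_lit 1) (Steps.bwd (nat_lit 6) (Steps.bwd (nat_lit 1) (Steps.fwd (nat_lit 786432) (Steps.fwd (nat_lit 262144) (Steps.fwd (nat_lit 1572864) (Steps.fwd (nat_lit 262144) (Steps.bwd (nat_lit 6) (Steps.bwd (nat_lit 5) (Steps.fwd (nat_lit 786432) (Steps.bwd (nat_lit 1) (Steps.bwd (nat_lit 6) (Steps.fwd (nat_lit 262144) Steps.nil))))))))))))) (nat_lit 34) (nat_lit 5),
  Rule.mk (nat_lit 4) (nat_lit 154) (Steps.fwd (nat_lit 262144) (Steps.fwd (nat_lit 1572864) (Steps.bwd (nat_lit 1) (Steps.bwd (nat_lit 4) (Steps.fwd (nat_lit 262144) (Steps.fwd (nat_lit 1572864) (Steps.bwd (nat_lit 1) Steps.nil))))))) (nat_lit 74) (nat_lit 2),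
  Rule.mk (nat_lit 8) (nat_lit 314) (Steps.bwd (nat_lit 4) (Steps.bwd (nat_lit 9) (Steps.fwd (nat_lit 1048576) (Steps.bwd (nat_lit 8) (Steps.bwd (nat_lit 4) (Steps.bwd (nat_lit 9) (Steps.bwd (nat_lit 4) (Steps.bwd (nat_lit 8) (Steps.bwd (nat_lit 4) (Steps.bwd (nat_lit 9) (Steps.bwd (nat_lit 4) (Steps.fwd (nat_lit 2359296) (Steps.fwd (nat_lit 1048576) (Steps.fwd (nat_lit 2097152) (Steps.fwd (nat_lit 1048576) Steps.nil))))))))))))))) (nat_lit 106) (nat_lit 1),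
  Rule.mk (nat_lit 5) (nat_lit 94) (Steps.bwd (nat_lit 8) (Steps.fwd (nat_lit 1310720) (Steps.fwd (nat_lit 2097152) (Steps.fwd (nat_lit 1835008) Steps.nil)))) (nat_lit 101) (nat_lit 2),
  Rule.mk (nat_lit 2) (nat_lit 154) (Steps.bwd (nat_lit 6) (Steps.bwd (nat_lit 7) (Steps.bwd (nat_lit 2) (Steps.bwd (nat_lit 5) (Steps.bwd (nat_lit 2) (Steps.bwd (nat_lit 6) (Steps.fwd (nat_lit 1310720) Steps.nil))))))) (nat_lit 82) (nat_lit 6),
  Rule.mk (nat_lit 9) (nat_lit 314) (Steps.fwd (nat_lit 1048576) (Steps.bwd (nat_lit 8) (Steps.fwd (nat_lit 1048576) (Steps.bwd (nat_lit 9) (Steps.fwd (nat_lit 1048576) (Steps.bwd (nat_lit 8) (Steps.bwd (nat_lit 4) (Steps.bwd (nat_lit 9) (Steps.bwd (nat_lit 4) (Steps.fwd (nat_lit 2359296) (Steps.fwd (nat_lit 1048576) (Steps.fwd (nat_lit 2097152) (Steps.fwd (nat_lit 1048576) (Steps.fwd (nat_lit 2359296) (Steps.bwd (nat_lit 4) Steps.nil)))))))))))))))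 (nat_lit 106) (nat_lit 3),
  Rule.mk (nat_lit 6) (nat_lit 114) (Steps.fwd (nat_lit 1835008) (Steps.fwd (nat_lit 786432) (Steps.fwd (nat_lit 1572864) (Steps.bwd (nat_lit 7) (Steps.bwd (nat_lit 3) Steps.nil))))) (nat_lit 62) (nat_lit 5),
  Rule.mk (nat_lit 2) (nat_lit 114) (Steps.fwd (nat_lit 1835008) (Steps.fwd (nat_lit 1572864) (Steps.fwd (nat_lit 524288) (Steps.bwd (nat_lit 7) (Steps.bwd (nat_lit 6) Steps.nil))))) (nat_lit 63) (nat_lit 3),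
  Rule.mk (nat_lit 4) (nat_lit 114) (Steps.fwd (nat_lit 1835008) (Steps.fwd (nat_lit 1310720) (Steps.bwd (nat_lit 4) (Steps.bwd (nat_lit 7) (Steps.bwd (nat_lit 6) Steps.nil))))) (nat_lit 67) (nat_lit 3),
  Rule.mk (nat_lit 1) (nat_lit 154) (Steps.bwd (nat_lit 4) (Steps.bwd (nat_lit 1) (Steps.fwd (nat_lit 1835008) (Steps.bwd (nat_lit 4) (Steps.fwd (nat_lit 262144) (Steps.bwd (nat_lit 4) (Steps.bwd (nat_lit 7) Steps.nil))))))) (nat_lit 76) (nat_lit 1),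
  Rule.mk (nat_lit 0) (nat_lit 174) (Steps.bwd (nat_lit 4) (Steps.bwd (nat_lit 1) (Steps.bwd (nat_lit 6) (Steps.fwd (nat_lit 262144) (Steps.fwd (nat_lit 1048576) (Steps.fwd (nat_lit 262144) (Steps.fwd (nat_lit 1572864) (Steps.fwd (nat_lit 262144) Steps.nil)))))))) (nat_lit 74) (nat_lit 1),
  Rule.mk (nat_lit 9) (nat_lit 314) (Steps.bwd (nat_lit 4) (Steps.fwd (nat_lit 2359296) (Steps.fwd (nat_lit 1048576) (Steps.bwd (nat_lit 9) (Steps.bwd (nat_lit 4) (Steps.bwd (nat_lit 8) (Steps.fwd (nat_lit 1048576) (Steps.bwd (nat_lit 9) (Steps.fwd (nat_lit 1048576) (Steps.fwd (nat_lit 2359296) (Steps.fwd (nat_lit 1048576) (Steps.fwd (nat_lit 2097152) (Steps.bwd (nat_lit 4) (Steps.fwd (nat_lit 2359296) (Steps.bwd (nat_lit 4) Steps.nil))))))))))))))) (nat_lit 106) (nat_lit 3),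
  Rule.mk (nat_lit 4) (nat_lit 314) (Steps.fwd (nat_lit 2097152) (Steps.bwd (nat_lit 4) (Steps.bwd (nat_lit 8) (Steps.fwd (nat_lit 1048576) (Steps.fwd (nat_lit 2097152) (Steps.bwd (nat_lit 4) (Steps.fwd (nat_lit 2359296) (Steps.fwd (nat_lit 1048576) (Steps.bwd (nat_lit 9) (Steps.bwd (nat_lit 4) (Steps.bwd (nat_lit 8) (Steps.bwd (nat_lit 4) (Steps.fwd (nat_lit 2097152) (Steps.fwd (nat_lit 1048576) (Steps.fwd (nat_lit 2359296) Steps.nil))))))))))))))) (nat_lit 106) (nat_lit 2),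
  Rule.mk (nat_lit 5) (nat_lit 114) (Steps.bwd (nat_lit 7) (Steps.bwd (nat_lit 1) (Steps.fwd (nat_lit 1310720) (Steps.bwd (nat_lit 7) (Steps.bwd (nat_lit 1) Steps.nil))))) (nat_lit 52) (nat_lit 2),
  Rule.mk (nat_lit 3) (nat_lit 154) (Steps.bwd (nat_lit 7) (Steps.bwd (nat_lit 1) (Steps.bwd (nat_lit 3) (Steps.bwd (nat_lit 1) (Steps.bwd (nat_lit 7) (Steps.fwd (nat_lit 524288) (Steps.bwd (nat_lit 1) Steps.nil))))))) (nat_lit 73) (nat_lit 4),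
  Rule.mk (nat_lit 4) (nat_lit 154) (Steps.fwd (nat_lit 262144) (Steps.fwd (nat_lit 1572864) (Steps.fwd (nat_lit 262144) (Steps.fwd (nat_lit 1048576) (Steps.bwd (nat_lit 1) (Steps.bwd (nat_lit 6) (Steps.fwd (nat_lit 262144) Steps.nil))))))) (nat_lit 74) (nat_lit 2),
  Rule.mk (nat_lit 5) (nat_lit 274) (Steps.bwd (nat_lit 6) (Steps.bwd (nat_lit 1) (Steps.bwd (nat_lit 6) (Steps.fwd (nat_lit 262144) (Steps.bwd (nat_lit 3) (Steps.fwd (nat_lit 262144) (Steps.bwd (nat_lit 6) (Steps.bwd (nat_lit 1) (Steps.fwd (nat_lit 524288) (Steps.bwd (nat_lit 1) (Steps.fwd (nat_lit 1572864) (Steps.fwd (nat_lit 262144) (Steps.fwd (nat_lit 524288) Steps.nil))))))))))))) (nat_lit 35) (nat_lit 1),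
  Rule.mk (nat_lit 4) (nat_lit 154) (Steps.fwd (nat_lit 262144) (Steps.fwd (nat_lit 1048576) (Steps.bwd (nat_lit 7) (Steps.fwd (nat_lit 262144) (Steps.bwd (nat_lit 4) (Steps.bwd (nat_lit 1) (Steps.fwd (nat_lit 1835008) Steps.nil))))))) (nat_lit 76) (nat_lit 5)]
noncomputable def R_103 : List (Rule) := [Rule.mk (nat_lit 4) (nat_lit 314) (Steps.fwd (nat_lit 2359296) (Steps.bwd (nat_lit 4) (Steps.bwd (nat_lit 9) (Steps.bwd (nat_lit 4) (Steps.bwd (nat_lit 8) (Steps.fwd (nat_lit 1048576) (Steps.fwd (nat_lit 2097152) (Steps.fwd (nat_lit 1048576) (Steps.fwd (nat_lit 2359296) (Steps.bwd (nat_lit 4) (Steps.fwd (nat_lit 2097152) (Steps.bwd (nat_lit 4) (Steps.bwd (nat_lit 8) (Steps.fwd (nat_lit 1048576) (Steps.fwd (nat_lit 2097152) Steps.nil))))))))))))))) (nat_lit 106) (nat_lit 0),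
  Rule.mk (nat_lit 4) (nat_lit 314) (Steps.bwd (nat_lit 8) (Steps.bwd (nat_lit 4) (Steps.fwd (nat_lit 2097152) (Steps.bwd (nat_lit 4) (Steps.fwd (nat_lit 2359296) (Steps.bwd (nat_lit 4) (Steps.bwd (nat_lit 9) (Steps.bwd (nat_lit 4) (Steps.fwd (nat_lit 2359296) (Steps.fwd (nat_lit 1048576) (Steps.bwd (nat_lit 9) (Steps.fwd (nat_lit 1048576) (Steps.fwd (nat_lit 2359296) (Steps.fwd (nat_lit 1048576) (Steps.bwd (nat_lit 9) Steps.nil))))))))))))))) (nat_lit 106) (nat_lit 0),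
  Rule.mk (nat_lit 2) (nat_lit 114) (Steps.bwd (nat_lit 4) (Steps.bwd (nat_lit 7) (Steps.bwd (nat_lit 2) (Steps.bwd (nat_lit 4) (Steps.bwd (nat_lit 7) Steps.nil))))) (nat_lit 56) (nat_lit 1),
  Rule.mk (nat_lit 5) (nat_lit 154) (Steps.fwd (nat_lit 1048576) (Steps.bwd (nat_lit 7) (Steps.fwd (nat_lit 786432) (Steps.bwd (nat_lit 6) (Steps.bwd (nat_lit 4) (Steps.bwd (nat_lit 7) (Steps.bwd (nat_lit 2) Steps.nil))))))) (nat_lit 86) (nat_lit 2),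
  Rule.mk (nat_lit 1) (nat_lit 154) (Steps.fwd (nat_lit 1835008) (Steps.fwd (nat_lit 524288) (Steps.bwd (nat_lit 1) (Steps.fwd (nat_lit 524288) (Steps.bwd (nat_lit 7) (Steps.bwd (nat_lit 1) (Steps.bwd (nat_lit 3) Steps.nil))))))) (nat_lit 73) (nat_lit 0),
  Rule.mk (nat_lit 4) (nat_lit 154) (Steps.fwd (nat_lit 262144) (Steps.fwd (nat_lit 1572864) (Steps.bwd (nat_lit 1) (Steps.bwd (nat_lit 4) (Steps.fwd (nat_lit 262144) (Steps.fwd (nat_lit 1572864) (Steps.fwd (nat_lit 262144) Steps.nil))))))) (nat_lit 74) (nat_lit 2),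
  Rule.mk (nat_lit 3) (nat_lit 274) (Steps.bwd (nat_lit 5) (Steps.fwd (nat_lit 1572864) (Steps.fwd (nat_lit 262144) (Steps.fwd (nat_lit 1572864) (Steps.bwd (nat_lit 1) (Steps.bwd (nat_lit 3) (Steps.bwd (nat_lit 1) (Steps.bwd (nat_lit 6) (Steps.bwd (nat_lit 1) (Steps.fwd (nat_lit 524288) (Steps.bwd (nat_lit 1) (Steps.bwd (nat_lit 6) (Steps.bwd (nat_lit 1) Steps.nil))))))))))))) (nat_lit 35) (nat_lit 0),
  Rule.mk (nat_lit 0) (nat_lit 334) (Steps.bwd (nat_lit 4) (Steps.bwd (nat_lit 9) (Steps.bwd (nat_lit 4) (Steps.bwd (nat_lit 8) (Steps.fwd (nat_lit 1048576) (Steps.bwd (nat_lit 9) (Steps.bwd (nat_lit 4) (Steps.fwd (nat_lit 2359296) (Steps.fwd (nat_lit 1048576) (Steps.bwd (nat_lit 9) (Steps.fwd (nat_lit 1048576) (Steps.fwd (nat_lit 2359296) (Steps.bwd (nat_lit 4) (Steps.bwd (nat_lit 9) (Steps.fwd (nat_lit 1048576) (Steps.bwd (nat_lit 8) Steps.nil))))))))))))))))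 (nat_lit 106) (nat_lit 1),
  Rule.mk (nat_lit 4) (nat_lit 154) (Steps.bwd (nat_lit 3) (Steps.fwd (nat_lit 1835008) (Steps.fwd (nat_lit 1310720) (Steps.bwd (nat_lit 4) (Steps.fwd (nat_lit 524288) (Steps.fwd (nat_lit 1835008) (Steps.fwd (nat_lit 1572864) Steps.nil))))))) (nat_lit 79) (nat_lit 3),
  Rule.mk (nat_lit 4) (nat_lit 314) (Steps.fwd (nat_lit 2359296) (Steps.fwd (nat_lit 1048576) (Steps.bwd (nat_lit 9) (Steps.bwd (nat_lit 4) (Steps.fwd (nat_lit 2359296) (Steps.fwd (nat_lit 1048576) (Steps.fwd (nat_lit 2097152) (Steps.fwd (nat_lit 1048576) (Steps.fwd (nat_lit 2359296) (Steps.bwd (nat_lit 4) (Steps.fwd (nat_lit 2097152) (Steps.bwd (nat_lit 4) (Steps.bwd (nat_lit 8) (Steps.bwd (nat_lit 4) (Steps.bwd (nat_lit 9) Steps.nil))))))))))))))) (nat_lit 106) (nat_lit 0),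
  Rule.mk (nat_lit 4) (nat_lit 314) (Steps.bwd (nat_lit 8) (Steps.bwd (nat_lit 4) (Steps.bwd (nat_lit 9) (Steps.bwd (nat_lit 4) (Steps.bwd (nat_lit 8) (Steps.fwd (nat_lit 1048576) (Steps.fwd (nat_lit 2097152) (Steps.fwd (nat_lit 1048576) (Steps.fwd (nat_lit 2359296) (Steps.bwd (nat_lit 4) (Steps.fwd (nat_lit 2097152) (Steps.fwd (nat_lit 1048576) (Steps.fwd (nat_lit 2359296) (Steps.fwd (nat_lit 1048576) (Steps.bwd (nat_lit 9) Steps.nil))))))))))))))) (nat_lit 106) (nat_lit 0),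
  Rule.mk (nat_lit 4) (nat_lit 314) (Steps.bwd (nat_lit 8) (Steps.bwd (nat_lit 4) (Steps.bwd (nat_lit 9) (Steps.bwd (nat_lit 4) (Steps.fwd (nat_lit 2359296) (Steps.fwd (nat_lit 1048576) (Steps.bwd (nat_lit 9) (Steps.bwd (nat_lit 4) (Steps.bwd (nat_lit 8) (Steps.fwd (nat_lit 1048576) (Steps.fwd (nat_lit 2097152) (Steps.fwd (nat_lit 1048576) (Steps.bwd (nat_lit 8) (Steps.fwd (nat_lit 1048576) (Steps.bwd (nat_lit 9) Steps.nil))))))))))))))) (nat_lit 106) (nat_lit 0),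
  Rule.mk (nat_lit 5) (nat_lit 154) (Steps.bwd (nat_lit 3) (Steps.bwd (nat_lit 1) (Steps.fwd (nat_lit 524288) (Steps.bwd (nat_lit 5) (Steps.fwd (nat_lit 262144) (Steps.bwd (nat_lit 3) (Steps.fwd (nat_lit 262144) Steps.nil))))))) (nat_lit 71) (nat_lit 1),
  Rule.mk (nat_lit 2) (nat_lit 154) (Steps.bwd (nat_lit 1) (Steps.fwd (nat_lit 786432) (Steps.fwd (nat_lit 1835008) (Steps.bwd (nat_lit 1) (Steps.fwd (nat_lit 786432) (Steps.fwd (nat_lit 262144) (Steps.fwd (nat_lit 1835008) Steps.nil))))))) (nat_lit 72) (nat_lit 5),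
  Rule.mk (nat_lit 9) (nat_lit 114) (Steps.fwd (nat_lit 262144) (Steps.bwd (nat_lit 8) (Steps.bwd (nat_lit 2) (Steps.fwd (nat_lit 262144) (Steps.fwd (nat_lit 524288) Steps.nil))))) (nat_lit 104) (nat_lit 5),
  Rule.mk (nat_lit 3) (nat_lit 114) (Steps.fwd (nat_lit 1572864) (Steps.fwd (nat_lit 1048576) (Steps.bwd (nat_lit 3) (Steps.fwd (nat_lit 1310720) (Steps.bwd (nat_lit 4) Steps.nil))))) (nat_lit 55) (nat_lit 0),
  Rule.mk (nat_lit 7) (nat_lit 114) (Steps.bwd (nat_lit 4) (Steps.bwd (nat_lit 2) (Steps.fwd (nat_lit 1835008) (Steps.bwd (nat_lit 4) (Steps.bwd (nat_lit 2) Steps.nil))))) (nat_lit 64) (nat_lit 2),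
  Rule.mk (nat_lit 5) (nat_lit 154) (Steps.fwd (nat_lit 1835008) (Steps.bwd (nat_lit 4) (Steps.bwd (nat_lit 2) (Steps.bwd (nat_lit 6) (Steps.fwd (nat_lit 1835008) (Steps.bwd (nat_lit 4) (Steps.bwd (nat_lit 2) Steps.nil))))))) (nat_lit 88) (nat_lit 2),
  Rule.mk (nat_lit 8) (nat_lit 314) (Steps.bwd (nat_lit 4) (Steps.bwd (nat_lit 9) (Steps.bwd (nat_lit 4) (Steps.fwd (nat_lit 2359296) (Steps.bwd (nat_lit 4) (Steps.fwd (nat_lit 2097152) (Steps.fwd (nat_lit 1048576) (Steps.fwd (nat_lit 2359296) (Steps.bwd (nat_lit 4) (Steps.bwd (nat_lit 9) (Steps.bwd (nat_lit 4) (Steps.fwd (nat_lit 2359296) (Steps.fwd (nat_lit 1048576) (Steps.fwd (nat_lit 2097152) (Steps.bwd (nat_lit 4) Steps.nil))))))))))))))) (nat_lit 106) (nat_lit 1),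
  Rule.mk (nat_lit 4) (nat_lit 74) (Steps.fwd (nat_lit 524288) (Steps.fwd (nat_lit 1048576) (Steps.fwd (nat_lit 524288) Steps.nil))) (nat_lit 15) (nat_lit 0),
  Rule.mk (nat_lit 4) (nat_lit 314) (Steps.bwd (nat_lit 9) (Steps.fwd (nat_lit 1048576) (Steps.bwd (nat_lit 8) (Steps.bwd (nat_lit 4) (Steps.bwd (nat_lit 9) (Steps.fwd (nat_lit 1048576) (Steps.fwd (nat_lit 2359296) (Steps.bwd (nat_lit 4) (Steps.fwd (nat_lit 2097152) (Steps.fwd (nat_lit 1048576) (Steps.fwd (nat_lit 2359296) (Steps.fwd (nat_lit 1048576) (Steps.fwd (nat_lit 2097152) (Steps.bwd (nat_lit 4) (Steps.fwd (nat_lit 2359296) Steps.nil))))))))))))))) (nat_lit 106) (nat_lit 2),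
  Rule.mk (nat_lit 5) (nat_lit 114) (Steps.fwd (nat_lit 524288) (Steps.fwd (nat_lit 1048576) (Steps.fwd (nat_lit 1572864) (Steps.bwd (nat_lit 3) (Steps.fwd (nat_lit 1048576) Steps.nil))))) (nat_lit 59) (nat_lit 5),
  Rule.mk (nat_lit 8) (nat_lit 314) (Steps.bwd (nat_lit 4) (Steps.bwd (nat_lit 9) (Steps.fwd (nat_lit 1048576) (Steps.fwd (nat_lit 2359296) (Steps.bwd (nat_lit 4) (Steps.bwd (nat_lit 9) (Steps.bwd (nat_lit 4) (Steps.fwd (nat_lit 2359296) (Steps.bwd (nat_lit 4) (Steps.fwd (nat_lit 2097152) (Steps.bwd (nat_lit 4) (Steps.fwd (nat_lit 2359296) (Steps.bwd (nat_lit 4) (Steps.bwd (nat_lit 9) (Steps.bwd (nat_lit 4) Steps.nil))))))))))))))) (nat_lit 106) (nat_lit 1),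
  Rule.mk (nat_lit 9) (nat_lit 314) (Steps.fwd (nat_lit 1048576) (Steps.bwd (nat_lit 8) (Steps.fwd (nat_lit 1048576) (Steps.fwd (nat_lit 2097152) (Steps.fwd (nat_lit 1048576) (Steps.fwd (nat_lit 2359296) (Steps.bwd (nat_lit 4) (Steps.bwd (nat_lit 9) (Steps.fwd (nat_lit 1048576) (Steps.bwd (nat_lit 8) (Steps.bwd (nat_lit 4) (Steps.bwd (nat_lit 9) (Steps.bwd (nat_lit 4) (Steps.fwd (nat_lit 2359296) (Steps.fwd (nat_lit 1048576) Steps.nil))))))))))))))) (nat_lit 106) (nat_lit 3),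
  Rule.mk (nat_lit 4) (nat_lit 114) (Steps.fwd (nat_lit 786432) (Steps.fwd (nat_lit 1572864) (Steps.bwd (nat_lit 4) (Steps.fwd (nat_lit 786432) (Steps.fwd (nat_lit 1310720) Steps.nil))))) (nat_lit 58) (nat_lit 3),
  Rule.mk (nat_lit 1) (nat_lit 154) (Steps.bwd (nat_lit 2) (Steps.bwd (nat_lit 1) (Steps.bwd (nat_lit 5) (Steps.fwd (nat_lit 786432) (Steps.bwd (nat_lit 1) (Steps.fwd (nat_lit 786432) (Steps.bwd (nat_lit 5) Steps.nil))))))) (nat_lit 70) (nat_lit 1),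
  Rule.mk (nat_lit 4) (nat_lit 154) (Steps.bwd (nat_lit 1) (Steps.fwd (nat_lit 1048576) (Steps.fwd (nat_lit 1835008) (Steps.bwd (nat_lit 1) (Steps.fwd (nat_lit 1048576) (Steps.fwd (nat_lit 262144) (Steps.bwd (nat_lit 7) Steps.nil))))))) (nat_lit 76) (nat_lit 5),
  Rule.mk (nat_lit 5) (nat_lit 74) (Steps.fwd (nat_lit 1835008) (Steps.bwd (nat_lit 5) (Steps.fwd (nat_lit 1835008) Steps.nil))) (nat_lit 32) (nat_lit 0),
  Rule.mk (nat_lit 2) (nat_lit 114) (Steps.bwd (nat_lit 5) (Steps.fwd (nat_lit 1835008) (Steps.fwd (nat_lit 524288) (Steps.bwd (nat_lit 5) (Steps.fwd (nat_lit 1835008) Steps.nil))))) (nat_lit 60) (nat_lit 1),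
  Rule.mk (nat_lit 8) (nat_lit 314) (Steps.fwd (nat_lit 1048576) (Steps.fwd (nat_lit 2097152) (Steps.bwd (nat_lit 4) (Steps.fwd (nat_lit 2359296) (Steps.bwd (nat_lit 4) (Steps.bwd (nat_lit 9) (Steps.bwd (nat_lit 4) (Steps.fwd (nat_lit 2359296) (Steps.fwd (nat_lit 1048576) (Steps.bwd (nat_lit 9) (Steps.bwd (nat_lit 4) (Steps.fwd (nat_lit 2359296) (Steps.fwd (nat_lit 1048576) (Steps.fwd (nat_lit 2097152) (Steps.fwd (nat_lit 1048576) Steps.nil))))))))))))))) (nat_lit 106) (nat_lit 1),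
  Rule.mk (nat_lit 1) (nat_lit 154) (Steps.fwd (nat_lit 1310720) (Steps.bwd (nat_lit 2) (Steps.bwd (nat_lit 1) (Steps.bwd (nat_lit 2) (Steps.fwd (nat_lit 1310720) (Steps.bwd (nat_lit 1) (Steps.bwd (nat_lit 2) Steps.nil))))))) (nat_lit 70) (nat_lit 3),
  Rule.mk (nat_lit 4) (nat_lit 154) (Steps.bwd (nat_lit 6) (Steps.bwd (nat_lit 7) (Steps.bwd (nat_lit 2) (Steps.bwd (nat_lit 4) (Steps.fwd (nat_lit 1310720) (Steps.fwd (nat_lit 1835008) (Steps.fwd (nat_lit 786432) Steps.nil))))))) (nat_lit 78) (nat_lit 6),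
  Rule.mk (nat_lit 4) (nat_lit 154) (Steps.fwd (nat_lit 1835008) (Steps.bwd (nat_lit 2) (Steps.fwd (nat_lit 1572864) (Steps.bwd (nat_lit 4) (Steps.bwd (nat_lit 7) (Steps.bwd (nat_lit 2) (Steps.fwd (nat_lit 1310720) Steps.nil))))))) (nat_lit 86) (nat_lit 3),
  Rule.mk (nat_lit 1) (nat_lit 154) (Steps.bwd (nat_lit 4) (Steps.fwd (nat_lit 1835008) (Steps.bwd (nat_lit 1) (Steps.fwd (nat_lit 1048576) (Steps.fwd (nat_lit 262144) (Steps.bwd (nat_lit 7) (Steps.fwd (nat_lit 1048576) Steps.nil))))))) (nat_lit 76) (nat_lit 6),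
  Rule.mk (nat_lit 1) (nat_lit 274) (Steps.fwd (nat_lit 1572864) (Steps.bwd (nat_lit 1) (Steps.bwd (nat_lit 3) (Steps.fwd (nat_lit 1310720) (Steps.bwd (nat_lit 6) (Steps.bwd (nat_lit 1) (Steps.bwd (nat_lit 6) (Steps.bwd (nat_lit 1) (Steps.bwd (nat_lit 3) (Steps.fwd (nat_lit 262144) (Steps.fwd (nat_lit 1572864) (Steps.fwd (nat_lit 262144) (Steps.fwd (nat_lit 524288) Steps.nil))))))))))))) (nat_lit 35) (nat_lit 11),
  Rule.mk (nat_lit 1) (nat_lit 274) (Steps.bwd (nat_lit 2) (Steps.bwd (nat_lit 1) (Steps.fwd (nat_lit 1572864) (Steps.fwd (nat_lit 262144) (Steps.bwd (nat_lit 2) (Steps.bwd (nat_lit 1) (Steps.bwd (nat_lit 6) (Steps.bwd (nat_lit 1) (Steps.bwd (nat_lit 6) (Steps.fwd (nat_lit 1310720) (Steps.bwd (nat_lit 2) (Steps.bwd (nat_lit 1) (Steps.fwd (nat_lit 1572864) Steps.nil))))))))))))) (nat_lit 34) (nat_lit 4),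
  Rule.mk (nat_lit 6) (nat_lit 274) (Steps.bwd (nat_lit 1) (Steps.bwd (nat_lit 6) (Steps.fwd (nat_lit 1310720) (Steps.bwd (nat_lit 2) (Steps.bwd (nat_lit 1) (Steps.bwd (nat_lit 6) (Steps.bwd (nat_lit 1) (Steps.bwd (nat_lit 2) (Steps.fwd (nat_lit 262144) (Steps.fwd (nat_lit 1572864) (Steps.bwd (nat_lit 1) (Steps.bwd (nat_lit 2) (Steps.fwd (nat_lit 262144) Steps.nil))))))))))))) (nat_lit 34) (nat_lit 11),
  Rule.mk (nat_lit 0) (nat_lit 294) (Steps.bwd (nat_lit 1) (Steps.bwd (nat_lit 6) (Steps.bwd (nat_lit 5) (Steps.bwd (nat_lit 2) (Steps.fwd (nat_lit 262144) (Steps.fwd (nat_lit 1572864) (Steps.fwd (nat_lit 262144) (Steps.bwd (nat_lit 2) (Steps.fwd (nat_lit 262144) (Steps.bwd (nat_lit 6) (Steps.fwd (nat_lit 262144) (Steps.bwd (nat_lit 2) (Steps.bwd (nat_lit 1) (Steps.bwd (nat_lit 6) Steps.nil)))))))))))))) (nat_lit 34) (nat_lit 11),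
  Rule.mk (nat_lit 1) (nat_lit 274) (Steps.bwd (nat_lit 3) (Steps.fwd (nat_lit 1310720) (Steps.fwd (nat_lit 1572864) (Steps.fwd (nat_lit 262144) (Steps.bwd (nat_lit 6) (Steps.bwd (nat_lit 1) (Steps.fwd (nat_lit 524288) (Steps.bwd (nat_lit 1) (Steps.bwd (nat_lit 6) (Steps.fwd (nat_lit 262144) (Steps.fwd (nat_lit 524288) (Steps.bwd (nat_lit 1) (Steps.fwd (nat_lit 1572864) Steps.nil))))))))))))) (nat_lit 35) (nat_lit 13),
  Rule.mk (nat_lit 4) (nat_lit 314) (Steps.fwd (nat_lit 2359296) (Steps.bwd (nat_lit 4) (Steps.bwd (nat_lit 9) (Steps.bwd (nat_lit 4) (Steps.fwd (nat_lit 2359296) (Steps.fwd (nat_lit 1048576) (Steps.bwd (nat_lit 9) (Steps.fwd (nat_lit 1048576) (Steps.fwd (nat_lit 2359296) (Steps.bwd (nat_lit 4) (Steps.bwd (nat_lit 9) (Steps.fwd (nat_lit 1048576) (Steps.fwd (nat_lit 2359296) (Steps.fwd (nat_lit 1048576) (Steps.bwd (nat_lit 9) Steps.nil)))))))))))))))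 (nat_lit 106) (nat_lit 0),
  Rule.mk (nat_lit 8) (nat_lit 314) (Steps.bwd (nat_lit 4) (Steps.fwd (nat_lit 2097152) (Steps.bwd (nat_lit 4) (Steps.fwd (nat_lit 2359296) (Steps.bwd (nat_lit 4) (Steps.bwd (nat_lit 9) (Steps.bwd (nat_lit 4) (Steps.bwd (nat_lit 8) (Steps.fwd (nat_lit 1048576) (Steps.bwd (nat_lit 9) (Steps.fwd (nat_lit 1048576) (Steps.bwd (nat_lit 8) (Steps.bwd (nat_lit 4) (Steps.bwd (nat_lit 9) (Steps.fwd (nat_lit 1048576) Steps.nil))))))))))))))) (nat_lit 106) (nat_lit 1),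
  Rule.mk (nat_lit 1) (nat_lit 274) (Steps.bwd (nat_lit 3) (Steps.bwd (nat_lit 1) (Steps.fwd (nat_lit 1572864) (Steps.bwd (nat_lit 1) (Steps.bwd (nat_lit 3) (Steps.bwd (nat_lit 5) (Steps.fwd (nat_lit 1572864) (Steps.bwd (nat_lit 1) (Steps.fwd (nat_lit 1572864) (Steps.fwd (nat_lit 262144) (Steps.bwd (nat_lit 3) (Steps.fwd (nat_lit 262144) (Steps.bwd (nat_lit 6) Steps.nil))))))))))))) (nat_lit 35) (nat_lit 9),
  Rule.mk (nat_lit 4) (nat_lit 154) (Steps.bwd (nat_lit 7) (Steps.bwd (nat_lit 1) (Steps.fwd (nat_lit 1048576) (Steps.bwd (nat_lit 1) (Steps.fwd (nat_lit 1835008) (Steps.bwd (nat_lit 4) (Steps.bwd (nat_lit 1) Steps.nil))))))) (nat_lit 76) (nat_lit 7),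
  Rule.mk (nat_lit 3) (nat_lit 274) (Steps.bwd (nat_lit 1) (Steps.fwd (nat_lit 1572864) (Steps.fwd (nat_lit 262144) (Steps.bwd (nat_lit 3) (Steps.fwd (nat_lit 1310720) (Steps.bwd (nat_lit 6) (Steps.bwd (nat_lit 1) (Steps.bwd (nat_lit 6) (Steps.bwd (nat_lit 1) (Steps.fwd (nat_lit 524288) (Steps.bwd (nat_lit 1) (Steps.bwd (nat_lit 6) (Steps.bwd (nat_lit 1) Steps.nil))))))))))))) (nat_lit 35) (nat_lit 10),
  Rule.mk (nat_lit 4) (nat_lit 314) (Steps.fwd (nat_lit 2097152) (Steps.fwd (nat_lit 1048576) (Steps.bwd (nat_lit 8) (Steps.bwd (nat_lit 4) (Steps.bwd (nat_lit 9) (Steps.fwd (nat_lit 1048576) (Steps.fwd (nat_lit 2359296) (Steps.fwd (nat_lit 1048576) (Steps.bwd (nat_lit 9) (Steps.fwd (nat_lit 1048576) (Steps.bwd (nat_lit 8) (Steps.bwd (nat_lit 4) (Steps.bwd (nat_lit 9) (Steps.fwd (nat_lit 1048576) (Steps.fwd (nat_lit 2359296) Steps.nil))))))))))))))) (nat_lit 106)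 (nat_lit 2),
  Rule.mk (nat_lit 0) (nat_lit 174) (Steps.fwd (nat_lit 524288) (Steps.fwd (nat_lit 1835008) (Steps.bwd (nat_lit 5) (Steps.bwd (nat_lit 4) (Steps.bwd (nat_lit 3) (Steps.bwd (nat_lit 7) (Steps.fwd (nat_lit 1572864) (Steps.fwd (nat_lit 1048576) Steps.nil)))))))) (nat_lit 79) (nat_lit 3),
  Rule.mk (nat_lit 6) (nat_lit 274) (Steps.bwd (nat_lit 1) (Steps.fwd (nat_lit 1572864) (Steps.fwd (nat_lit 1310720) (Steps.fwd (nat_lit 786432) (Steps.bwd (nat_lit 1) (Steps.bwd (nat_lit 6) (Steps.fwd (nat_lit 262144) (Steps.bwd (nat_lit 2) (Steps.fwd (nat_lit 262144) (Steps.bwd (nat_lit 6) (Steps.fwd (nat_lit 262144) (Steps.bwd (nat_lit 2) (Steps.fwd (nat_lit 262144) Steps.nil))))))))))))) (nat_lit 34) (nat_lit 11),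
  Rule.mk (nat_lit 7) (nat_lit 154) (Steps.bwd (nat_lit 1) (Steps.fwd (nat_lit 1048576) (Steps.bwd (nat_lit 1) (Steps.fwd (nat_lit 1835008) (Steps.fwd (nat_lit 1048576) (Steps.fwd (nat_lit 262144) (Steps.bwd (nat_lit 4) Steps.nil))))))) (nat_lit 76) (nat_lit 0),
  Rule.mk (nat_lit 3) (nat_lit 154) (Steps.bwd (nat_lit 5) (Steps.bwd (nat_lit 1) (Steps.bwd (nat_lit 3) (Steps.fwd (nat_lit 262144) (Steps.bwd (nat_lit 5) (Steps.fwd (nat_lit 524288) (Steps.fwd (nat_lit 262144) Steps.nil))))))) (nat_lit 71) (nat_lit 4),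
  Rule.mk (nat_lit 3) (nat_lit 154) (Steps.fwd (nat_lit 1310720) (Steps.bwd (nat_lit 3) (Steps.bwd (nat_lit 6) (Steps.bwd (nat_lit 5) (Steps.fwd (nat_lit 524288) (Steps.bwd (nat_lit 6) (Steps.fwd (nat_lit 1835008) Steps.nil))))))) (nat_lit 85) (nat_lit 6),
  Rule.mk (nat_lit 3) (nat_lit 114) (Steps.fwd (nat_lit 1572864) (Steps.fwd (nat_lit 1048576) (Steps.bwd (nat_lit 3) (Steps.fwd (nat_lit 1310720) (Steps.fwd (nat_lit 1048576) Steps.nil))))) (nat_lit 55) (nat_lit 0),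
  Rule.mk (nat_lit 2) (nat_lit 114) (Steps.bwd (nat_lit 7) (Steps.fwd (nat_lit 1572864) (Steps.bwd (nat_lit 3) (Steps.fwd (nat_lit 1835008) (Steps.bwd (nat_lit 6) Steps.nil))))) (nat_lit 63) (nat_lit 3),
  Rule.mk (nat_lit 1) (nat_lit 154) (Steps.bwd (nat_lit 3) (Steps.fwd (nat_lit 262144) (Steps.bwd (nat_lit 5) (Steps.fwd (nat_lit 524288) (Steps.bwd (nat_lit 1) (Steps.bwd (nat_lit 3) (Steps.fwd (nat_lit 1310720) Steps.nil))))))) (nat_lit 71) (nat_lit 6),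
  Rule.mk (nat_lit 1) (nat_lit 154) (Steps.bwd (nat_lit 3) (Steps.fwd (nat_lit 262144) (Steps.bwd (nat_lit 7) (Steps.fwd (nat_lit 524288) (Steps.bwd (nat_lit 1) (Steps.bwd (nat_lit 3) (Steps.bwd (nat_lit 7) Steps.nil))))))) (nat_lit 73) (nat_lit 6),
  Rule.mk (nat_lit 3) (nat_lit 154) (Steps.fwd (nat_lit 1310720) (Steps.bwd (nat_lit 1) (Steps.bwd (nat_lit 3) (Steps.fwd (nat_lit 262144) (Steps.bwd (nat_lit 5) (Steps.bwd (nat_lit 3) (Steps.bwd (nat_lit 1) Steps.nil))))))) (nat_lit 71) (nat_lit 4),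
  Rule.mk (nat_lit 1) (nat_lit 274) (Steps.fwd (nat_lit 524288) (Steps.bwd (nat_lit 5) (Steps.bwd (nat_lit 6) (Steps.fwd (nat_lit 262144) (Steps.fwd (nat_lit 1572864) (Steps.fwd (nat_lit 262144) (Steps.fwd (nat_lit 524288) (Steps.bwd (nat_lit 1) (Steps.bwd (nat_lit 6) (Steps.bwd (nat_lit 1) (Steps.fwd (nat_lit 524288) (Steps.fwd (nat_lit 262144) (Steps.bwd (nat_lit 6) Steps.nil))))))))))))) (nat_lit 35) (nat_lit 13),
  Rule.mk (nat_lit 1) (nat_lit 274) (Steps.fwd (nat_lit 1572864) (Steps.fwd (nat_lit 262144) (Steps.fwd (nat_lit 524288) (Steps.bwd (nat_lit 5) (Steps.fwd (nat_lit 1572864) (Steps.bwd (nat_lit 1) (Steps.bwd (nat_lit 6) (Steps.fwd (nat_lit 262144) (Steps.bwd (nat_lit 3) (Steps.bwd (nat_lit 1) (Steps.bwd (nat_lit 6) (Steps.fwd (nat_lit 262144) (Steps.bwd (nat_lit 3) Steps.nil))))))))))))) (nat_lit 35) (nat_lit 11),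
  Rule.mk (nat_lit 1) (nat_lit 154) (Steps.fwd (nat_lit 786432) (Steps.fwd (nat_lit 262144) (Steps.bwd (nat_lit 7) (Steps.fwd (nat_lit 786432) (Steps.bwd (nat_lit 1) (Steps.bwd (nat_lit 2) (Steps.fwd (nat_lit 1835008) Steps.nil))))))) (nat_lit 72) (nat_lit 1),
  Rule.mk (nat_lit 4) (nat_lit 314) (Steps.bwd (nat_lit 8) (Steps.fwd (nat_lit 1048576) (Steps.bwd (nat_lit 9) (Steps.bwd (nat_lit 4) (Steps.bwd (nat_lit 8) (Steps.fwd (nat_lit 1048576) (Steps.bwd (nat_lit 9) (Steps.fwd (nat_lit 1048576) (Steps.fwd (nat_lit 2359296) (Steps.bwd (nat_lit 4) (Steps.bwd (nat_lit 9) (Steps.bwd (nat_lit 4) (Steps.bwd (nat_lit 8) (Steps.fwd (nat_lit 1048576) (Steps.bwd (nat_lit 9) Steps.nil))))))))))))))) (nat_lit 106) (nat_lit 0),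
  Rule.mk (nat_lit 0) (nat_lit 134) (Steps.bwd (nat_lit 4) (Steps.fwd (nat_lit 524288) (Steps.bwd (nat_lit 7) (Steps.bwd (nat_lit 4) (Steps.bwd (nat_lit 3) (Steps.fwd (nat_lit 1835008) Steps.nil)))))) (nat_lit 57) (nat_lit 1),
  Rule.mk (nat_lit 6) (nat_lit 154) (Steps.fwd (nat_lit 262144) (Steps.bwd (nat_lit 4) (Steps.fwd (nat_lit 262144) (Steps.bwd (nat_lit 6) (Steps.bwd (nat_lit 1) (Steps.fwd (nat_lit 1048576) (Steps.bwd (nat_lit 1) Steps.nil))))))) (nat_lit 74) (nat_lit 0),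
  Rule.mk (nat_lit 9) (nat_lit 314) (Steps.bwd (nat_lit 4) (Steps.bwd (nat_lit 8) (Steps.bwd (nat_lit 4) (Steps.fwd (nat_lit 2097152) (Steps.bwd (nat_lit 4) (Steps.fwd (nat_lit 2359296) (Steps.fwd (nat_lit 1048576) (Steps.fwd (nat_lit 2097152) (Steps.fwd (nat_lit 1048576) (Steps.fwd (nat_lit 2359296) (Steps.fwd (nat_lit 1048576) (Steps.bwd (nat_lit 9) (Steps.bwd (nat_lit 4) (Steps.fwd (nat_lit 2359296) (Steps.fwd (nat_lit 1048576) Steps.nil))))))))))))))) (nat_lit 106) (nat_lit 3),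
  Rule.mk (nat_lit 9) (nat_lit 314) (Steps.bwd (nat_lit 4) (Steps.fwd (nat_lit 2359296) (Steps.fwd (nat_lit 1048576) (Steps.bwd (nat_lit 9) (Steps.bwd (nat_lit 4) (Steps.fwd (nat_lit 2359296) (Steps.bwd (nat_lit 4) (Steps.fwd (nat_lit 2097152) (Steps.fwd (nat_lit 1048576) (Steps.fwd (nat_lit 2359296) (Steps.bwd (nat_lit 4) (Steps.bwd (nat_lit 9) (Steps.fwd (nat_lit 1048576) (Steps.bwd (nat_lit 8) (Steps.bwd (nat_lit 4) Steps.nil))))))))))))))) (nat_lit 106) (nat_lit 3),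
  Rule.mk (nat_lit 3) (nat_lit 274) (Steps.bwd (nat_lit 1) (Steps.bwd (nat_lit 6) (Steps.fwd (nat_lit 262144) (Steps.fwd (nat_lit 524288) (Steps.bwd (nat_lit 1) (Steps.bwd (nat_lit 6) (Steps.fwd (nat_lit 262144) (Steps.bwd (nat_lit 3) (Steps.bwd (nat_lit 5) (Steps.bwd (nat_lit 6) (Steps.bwd (nat_lit 1) (Steps.bwd (nat_lit 6) (Steps.fwd (nat_lit 262144) Steps.nil))))))))))))) (nat_lit 35) (nat_lit 6)]
noncomputable def R_104 : List (Rule) := [Rule.mk (nat_lit 1) (nat_lit 274) (Steps.bwd (nat_lit 6) (Steps.fwd (nat_lit 262144) (Steps.bwd (nat_lit 3) (Steps.bwd (nat_lit 1) (Steps.bwd (nat_lit 6) (Steps.fwd (nat_lit 262144) (Steps.fwd (nat_lit 524288) (Steps.bwd (nat_lit 1) (Steps.bwd (nat_lit 6) (Steps.fwd (nat_lit 262144) (Steps.fwd (nat_lit 524288) (Steps.bwd (nat_lit 5) (Steps.bwd (nat_lit 6) Steps.nil))))))))))))) (nat_lit 35) (nat_lit 3),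
  Rule.mk (nat_lit 1) (nat_lit 114) (Steps.fwd (nat_lit 524288) (Steps.bwd (nat_lit 9) (Steps.fwd (nat_lit 262144) (Steps.bwd (nat_lit 8) (Steps.fwd (nat_lit 786432) Steps.nil))))) (nat_lit 104) (nat_lit 3),
  Rule.mk (nat_lit 1) (nat_lit 154) (Steps.fwd (nat_lit 786432) (Steps.fwd (nat_lit 1310720) (Steps.fwd (nat_lit 262144) (Steps.fwd (nat_lit 786432) (Steps.bwd (nat_lit 1) (Steps.bwd (nat_lit 5) (Steps.bwd (nat_lit 2) Steps.nil))))))) (nat_lit 70) (nat_lit 6),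
  Rule.mk (nat_lit 2) (nat_lit 154) (Steps.bwd (nat_lit 1) (Steps.fwd (nat_lit 786432) (Steps.fwd (nat_lit 1835008) (Steps.fwd (nat_lit 262144) (Steps.fwd (nat_lit 786432) (Steps.bwd (nat_lit 1) (Steps.bwd (nat_lit 7) Steps.nil))))))) (nat_lit 72) (nat_lit 5),
  Rule.mk (nat_lit 1) (nat_lit 274) (Steps.bwd (nat_lit 6) (Steps.bwd (nat_lit 1) (Steps.bwd (nat_lit 3) (Steps.bwd (nat_lit 5) (Steps.fwd (nat_lit 1572864) (Steps.bwd (nat_lit 1) (Steps.fwd (nat_lit 1572864) (Steps.bwd (nat_lit 1) (Steps.fwd (nat_lit 524288) (Steps.bwd (nat_lit 1) (Steps.bwd (nat_lit 6) (Steps.bwd (nat_lit 1) (Steps.fwd (nat_lit 524288) Steps.nil))))))))))))) (nat_lit 35) (nat_lit 11),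
  Rule.mk (nat_lit 5) (nat_lit 74) (Steps.fwd (nat_lit 524288) (Steps.fwd (nat_lit 1310720) (Steps.bwd (nat_lit 2) Steps.nil))) (nat_lit 20) (nat_lit 2),
  Rule.mk (nat_lit 9) (nat_lit 314) (Steps.fwd (nat_lit 1048576) (Steps.bwd (nat_lit 8) (Steps.bwd (nat_lit 4) (Steps.bwd (nat_lit 9) (Steps.bwd (nat_lit 4) (Steps.fwd (nat_lit 2359296) (Steps.bwd (nat_lit 4) (Steps.fwd (nat_lit 2097152) (Steps.bwd (nat_lit 4) (Steps.fwd (nat_lit 2359296) (Steps.bwd (nat_lit 4) (Steps.bwd (nat_lit 9) (Steps.fwd (nat_lit 1048576) (Steps.fwd (nat_lit 2359296) (Steps.bwd (nat_lit 4) Steps.nil))))))))))))))) (nat_lit 106) (nat_lit 3),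
  Rule.mk (nat_lit 1) (nat_lit 154) (Steps.bwd (nat_lit 7) (Steps.bwd (nat_lit 3) (Steps.bwd (nat_lit 1) (Steps.fwd (nat_lit 524288) (Steps.bwd (nat_lit 7) (Steps.fwd (nat_lit 262144) (Steps.fwd (nat_lit 524288) Steps.nil))))))) (nat_lit 73) (nat_lit 0),
  Rule.mk (nat_lit 4) (nat_lit 154) (Steps.fwd (nat_lit 1310720) (Steps.bwd (nat_lit 7) (Steps.fwd (nat_lit 786432) (Steps.bwd (nat_lit 4) (Steps.fwd (nat_lit 1572864) (Steps.fwd (nat_lit 1835008) (Steps.fwd (nat_lit 786432) Steps.nil))))))) (nat_lit 78) (nat_lit 2),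
  Rule.mk (nat_lit 4) (nat_lit 114) (Steps.fwd (nat_lit 1310720) (Steps.fwd (nat_lit 524288) (Steps.bwd (nat_lit 4) (Steps.bwd (nat_lit 6) (Steps.fwd (nat_lit 524288) Steps.nil))))) (nat_lit 59) (nat_lit 4),
  Rule.mk (nat_lit 9) (nat_lit 314) (Steps.fwd (nat_lit 1048576) (Steps.fwd (nat_lit 2359296) (Steps.fwd (nat_lit 1048576) (Steps.fwd (nat_lit 2097152) (Steps.bwd (nat_lit 4) (Steps.bwd (nat_lit 8) (Steps.fwd (nat_lit 1048576) (Steps.fwd (nat_lit 2097152) (Steps.fwd (nat_lit 1048576) (Steps.bwd (nat_lit 8) (Steps.bwd (nat_lit 4) (Steps.bwd (nat_lit 9) (Steps.bwd (nat_lit 4) (Steps.fwd (nat_lit 2359296) (Steps.bwd (nat_lit 4) Steps.nil))))))))))))))) (nat_lit 106) (nat_lit 3),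
  Rule.mk (nat_lit 1) (nat_lit 154) (Steps.bwd (nat_lit 3) (Steps.bwd (nat_lit 1) (Steps.bwd (nat_lit 2) (Steps.bwd (nat_lit 1) (Steps.fwd (nat_lit 524288) (Steps.bwd (nat_lit 1) (Steps.fwd (nat_lit 786432) Steps.nil))))))) (nat_lit 68) (nat_lit 3),
  Rule.mk (nat_lit 4) (nat_lit 114) (Steps.fwd (nat_lit 786432) (Steps.fwd (nat_lit 1310720) (Steps.bwd (nat_lit 4) (Steps.bwd (nat_lit 2) (Steps.fwd (nat_lit 1572864) Steps.nil))))) (nat_lit 58) (nat_lit 0),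
  Rule.mk (nat_lit 4) (nat_lit 314) (Steps.fwd (nat_lit 2359296) (Steps.bwd (nat_lit 4) (Steps.fwd (nat_lit 2097152) (Steps.bwd (nat_lit 4) (Steps.bwd (nat_lit 8) (Steps.bwd (nat_lit 4) (Steps.bwd (nat_lit 9) (Steps.fwd (nat_lit 1048576) (Steps.fwd (nat_lit 2359296) (Steps.bwd (nat_lit 4) (Steps.bwd (nat_lit 9) (Steps.fwd (nat_lit 1048576) (Steps.fwd (nat_lit 2359296) (Steps.fwd (nat_lit 1048576) (Steps.bwd (nat_lit 9) Steps.nil))))))))))))))) (nat_lit 106) (nat_lit 0),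
  Rule.mk (nat_lit 3) (nat_lit 114) (Steps.bwd (nat_lit 7) (Steps.bwd (nat_lit 4) (Steps.fwd (nat_lit 524288) (Steps.fwd (nat_lit 1835008) (Steps.fwd (nat_lit 1048576) Steps.nil))))) (nat_lit 57) (nat_lit 0),
  Rule.mk (nat_lit 8) (nat_lit 314) (Steps.bwd (nat_lit 4) (Steps.bwd (nat_lit 9) (Steps.fwd (nat_lit 1048576) (Steps.bwd (nat_lit 8) (Steps.fwd (nat_lit 1048576) (Steps.fwd (nat_lit 2097152) (Steps.fwd (nat_lit 1048576) (Steps.fwd (nat_lit 2359296) (Steps.bwd (nat_lit 4) (Steps.fwd (nat_lit 2097152) (Steps.bwd (nat_lit 4) (Steps.bwd (nat_lit 8) (Steps.bwd (nat_lit 4) (Steps.fwd (nat_lit 2097152) (Steps.bwd (nat_lit 4) Steps.nil))))))))))))))) (nat_lit 106) (nat_lit 1),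
  Rule.mk (nat_lit 9) (nat_lit 314) (Steps.fwd (nat_lit 1048576) (Steps.bwd (nat_lit 8) (Steps.bwd (nat_lit 4) (Steps.fwd (nat_lit 2097152) (Steps.fwd (nat_lit 1048576) (Steps.bwd (nat_lit 8) (Steps.fwd (nat_lit 1048576) (Steps.bwd (nat_lit 9) (Steps.bwd (nat_lit 4) (Steps.bwd (nat_lit 8) (Steps.fwd (nat_lit 1048576) (Steps.bwd (nat_lit 9) (Steps.bwd (nat_lit 4) (Steps.fwd (nat_lit 2359296) (Steps.bwd (nat_lit 4) Steps.nil))))))))))))))) (nat_lit 106) (nat_lit 3),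
  Rule.mk (nat_lit 3) (nat_lit 114) (Steps.fwd (nat_lit 1835008) (Steps.bwd (nat_lit 4) (Steps.fwd (nat_lit 524288) (Steps.bwd (nat_lit 7) (Steps.bwd (nat_lit 4) Steps.nil))))) (nat_lit 57) (nat_lit 0),
  Rule.mk (nat_lit 4) (nat_lit 314) (Steps.bwd (nat_lit 8) (Steps.fwd (nat_lit 1048576) (Steps.bwd (nat_lit 9) (Steps.bwd (nat_lit 4) (Steps.bwd (nat_lit 8) (Steps.bwd (nat_lit 4) (Steps.bwd (nat_lit 9) (Steps.fwd (nat_lit 1048576) (Steps.fwd (nat_lit 2359296) (Steps.bwd (nat_lit 4) (Steps.bwd (nat_lit 9) (Steps.fwd (nat_lit 1048576) (Steps.bwd (nat_lit 8) (Steps.fwd (nat_lit 1048576) (Steps.fwd (nat_lit 2097152) Steps.nil))))))))))))))) (nat_lit 106) (nat_lit 0),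
  Rule.mk (nat_lit 5) (nat_lit 154) (Steps.bwd (nat_lit 1) (Steps.fwd (nat_lit 524288) (Steps.bwd (nat_lit 1) (Steps.bwd (nat_lit 5) (Steps.fwd (nat_lit 524288) (Steps.bwd (nat_lit 1) (Steps.bwd (nat_lit 3) Steps.nil))))))) (nat_lit 71) (nat_lit 5),
  Rule.mk (nat_lit 4) (nat_lit 154) (Steps.bwd (nat_lit 7) (Steps.bwd (nat_lit 1) (Steps.bwd (nat_lit 4) (Steps.bwd (nat_lit 1) (Steps.bwd (nat_lit 7) (Steps.bwd (nat_lit 4) (Steps.bwd (nat_lit 1) Steps.nil))))))) (nat_lit 76) (nat_lit 7),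
  Rule.mk (nat_lit 4) (nat_lit 154) (Steps.bwd (nat_lit 1) (Steps.bwd (nat_lit 4) (Steps.bwd (nat_lit 7) (Steps.fwd (nat_lit 262144) (Steps.bwd (nat_lit 4) (Steps.bwd (nat_lit 1) (Steps.fwd (nat_lit 1835008) Steps.nil))))))) (nat_lit 76) (nat_lit 5),
  Rule.mk (nat_lit 1) (nat_lit 154) (Steps.fwd (nat_lit 1835008) (Steps.bwd (nat_lit 4) (Steps.bwd (nat_lit 1) (Steps.bwd (nat_lit 4) (Steps.bwd (nat_lit 7) (Steps.bwd (nat_lit 1) (Steps.bwd (nat_lit 4) Steps.nil))))))) (nat_lit 76) (nat_lit 3),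
  Rule.mk (nat_lit 0) (nat_lit 294) (Steps.bwd (nat_lit 1) (Steps.bwd (nat_lit 3) (Steps.fwd (nat_lit 262144) (Steps.fwd (nat_lit 1572864) (Steps.fwd (nat_lit 262144) (Steps.fwd (nat_lit 524288) (Steps.fwd (nat_lit 262144) (Steps.bwd (nat_lit 6) (Steps.fwd (nat_lit 262144) (Steps.bwd (nat_lit 3) (Steps.bwd (nat_lit 5) (Steps.fwd (nat_lit 1572864) (Steps.bwd (nat_lit 1) (Steps.fwd (nat_lit 1572864) Steps.nil)))))))))))))) (nat_lit 35) (nat_lit 4),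
  Rule.mk (nat_lit 4) (nat_lit 114) (Steps.fwd (nat_lit 786432) (Steps.fwd (nat_lit 1835008) (Steps.bwd (nat_lit 4) (Steps.fwd (nat_lit 786432) (Steps.bwd (nat_lit 7) Steps.nil))))) (nat_lit 64) (nat_lit 0),
  Rule.mk (nat_lit 0) (nat_lit 134) (Steps.bwd (nat_lit 8) (Steps.bwd (nat_lit 2) (Steps.fwd (nat_lit 262144) (Steps.fwd (nat_lit 524288) (Steps.bwd (nat_lit 9) (Steps.bwd (nat_lit 1) Steps.nil)))))) (nat_lit 104) (nat_lit 0),
  Rule.mk (nat_lit 0) (nat_lit 114) (Steps.bwd (nat_lit 8) (Steps.bwd (nat_lit 5) (Steps.bwd (nat_lit 9) (Steps.bwd (nat_lit 5) (Steps.fwd (nat_lit 1835008) Steps.nil))))) (nat_lit 100) (nat_lit 0),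
  Rule.mk (nat_lit 7) (nat_lit 114) (Steps.bwd (nat_lit 6) (Steps.bwd (nat_lit 2) (Steps.bwd (nat_lit 7) (Steps.fwd (nat_lit 1572864) (Steps.fwd (nat_lit 524288) Steps.nil))))) (nat_lit 63) (nat_lit 1),
  Rule.mk (nat_lit 4) (nat_lit 314) (Steps.fwd (nat_lit 2359296) (Steps.fwd (nat_lit 1048576) (Steps.fwd (nat_lit 2097152) (Steps.bwd (nat_lit 4) (Steps.bwd (nat_lit 8) (Steps.bwd (nat_lit 4) (Steps.fwd (nat_lit 2097152) (Steps.fwd (nat_lit 1048576) (Steps.bwd (nat_lit 8) (Steps.fwd (nat_lit 1048576) (Steps.fwd (nat_lit 2097152) (Steps.fwd (nat_lit 1048576) (Steps.bwd (nat_lit 8) (Steps.bwd (nat_lit 4) (Steps.bwd (nat_lit 9) Steps.nil))))))))))))))) (nat_lit 106) (nat_lit 0),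
  Rule.mk (nat_lit 9) (nat_lit 314) (Steps.fwd (nat_lit 1048576) (Steps.fwd (nat_lit 2359296) (Steps.bwd (nat_lit 4) (Steps.fwd (nat_lit 2097152) (Steps.bwd (nat_lit 4) (Steps.bwd (nat_lit 8) (Steps.fwd (nat_lit 1048576) (Steps.bwd (nat_lit 9) (Steps.bwd (nat_lit 4) (Steps.bwd (nat_lit 8) (Steps.bwd (nat_lit 4) (Steps.fwd (nat_lit 2097152) (Steps.bwd (nat_lit 4) (Steps.fwd (nat_lit 2359296) (Steps.fwd (nat_lit 1048576) Steps.nil))))))))))))))) (nat_lit 106) (nat_lit 3),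
  Rule.mk (nat_lit 4) (nat_lit 314) (Steps.bwd (nat_lit 9) (Steps.bwd (nat_lit 4) (Steps.bwd (nat_lit 8) (Steps.bwd (nat_lit 4) (Steps.bwd (nat_lit 9) (Steps.bwd (nat_lit 4) (Steps.bwd (nat_lit 8) (Steps.fwd (nat_lit 1048576) (Steps.bwd (nat_lit 9) (Steps.bwd (nat_lit 4) (Steps.fwd (nat_lit 2359296) (Steps.fwd (nat_lit 1048576) (Steps.fwd (nat_lit 2097152) (Steps.fwd (nat_lit 1048576) (Steps.bwd (nat_lit 8) Steps.nil))))))))))))))) (nat_lit 106) (nat_lit 2),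
  Rule.mk (nat_lit 3) (nat_lit 154) (Steps.fwd (nat_lit 262144) (Steps.fwd (nat_lit 524288) (Steps.bwd (nat_lit 7) (Steps.bwd (nat_lit 1) (Steps.bwd (nat_lit 3) (Steps.bwd (nat_lit 1) (Steps.fwd (nat_lit 1835008) Steps.nil))))))) (nat_lit 73) (nat_lit 2),
  Rule.mk (nat_lit 1) (nat_lit 274) (Steps.fwd (nat_lit 1572864) (Steps.bwd (nat_lit 1) (Steps.fwd (nat_lit 1572864) (Steps.bwd (nat_lit 5) (Steps.fwd (nat_lit 786432) (Steps.bwd (nat_lit 1) (Steps.bwd (nat_lit 6) (Steps.fwd (nat_lit 262144) (Steps.bwd (nat_lit 2) (Steps.fwd (nat_lit 262144) (Steps.bwd (nat_lit 6) (Steps.fwd (nat_lit 262144) (Steps.fwd (nat_lit 786432) Steps.nil))))))))))))) (nat_lit 34) (nat_lit 10),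
  Rule.mk (nat_lit 4) (nat_lit 154) (Steps.bwd (nat_lit 1) (Steps.fwd (nat_lit 1835008) (Steps.bwd (nat_lit 4) (Steps.fwd (nat_lit 262144) (Steps.bwd (nat_lit 4) (Steps.fwd (nat_lit 1835008) (Steps.fwd (nat_lit 262144) Steps.nil))))))) (nat_lit 76) (nat_lit 2),
  Rule.mk (nat_lit 8) (nat_lit 314) (Steps.bwd (nat_lit 4) (Steps.bwd (nat_lit 9) (Steps.fwd (nat_lit 1048576) (Steps.fwd (nat_lit 2359296) (Steps.fwd (nat_lit 1048576) (Steps.bwd (nat_lit 9) (Steps.bwd (nat_lit 4) (Steps.fwd (nat_lit 2359296) (Steps.fwd (nat_lit 1048576) (Steps.bwd (nat_lit 9) (Steps.fwd (nat_lit 1048576) (Steps.fwd (nat_lit 2359296) (Steps.bwd (nat_lit 4) (Steps.bwd (nat_lit 9) (Steps.fwd (nat_lit 1048576) Steps.nil))))))))))))))) (nat_lit 106) (nat_lit 1),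
  Rule.mk (nat_lit 4) (nat_lit 314) (Steps.fwd (nat_lit 2359296) (Steps.fwd (nat_lit 1048576) (Steps.bwd (nat_lit 9) (Steps.fwd (nat_lit 1048576) (Steps.fwd (nat_lit 2359296) (Steps.fwd (nat_lit 1048576) (Steps.bwd (nat_lit 9) (Steps.bwd (nat_lit 4) (Steps.bwd (nat_lit 8) (Steps.bwd (nat_lit 4) (Steps.bwd (nat_lit 9) (Steps.fwd (nat_lit 1048576) (Steps.fwd (nat_lit 2359296) (Steps.bwd (nat_lit 4) (Steps.bwd (nat_lit 9) Steps.nil))))))))))))))) (nat_lit 106) (nat_lit 0),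
  Rule.mk (nat_lit 0) (nat_lit 134) (Steps.bwd (nat_lit 4) (Steps.bwd (nat_lit 3) (Steps.fwd (nat_lit 1835008) (Steps.fwd (nat_lit 1048576) (Steps.bwd (nat_lit 3) (Steps.fwd (nat_lit 1835008) Steps.nil)))))) (nat_lit 57) (nat_lit 1),
  Rule.mk (nat_lit 6) (nat_lit 274) (Steps.bwd (nat_lit 1) (Steps.bwd (nat_lit 2) (Steps.bwd (nat_lit 1) (Steps.fwd (nat_lit 1572864) (Steps.fwd (nat_lit 262144) (Steps.bwd (nat_lit 2) (Steps.fwd (nat_lit 262144) (Steps.fwd (nat_lit 1572864) (Steps.fwd (nat_lit 262144) (Steps.fwd (nat_lit 1572864) (Steps.fwd (nat_lit 1310720) (Steps.fwd (nat_lit 786432) (Steps.fwd (nat_lit 262144) Steps.nil))))))))))))) (nat_lit 34) (nat_lit 3),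
  Rule.mk (nat_lit 8) (nat_lit 314) (Steps.bwd (nat_lit 4) (Steps.bwd (nat_lit 9) (Steps.bwd (nat_lit 4) (Steps.fwd (nat_lit 2359296) (Steps.fwd (nat_lit 1048576) (Steps.bwd (nat_lit 9) (Steps.bwd (nat_lit 4) (Steps.fwd (nat_lit 2359296) (Steps.fwd (nat_lit 1048576) (Steps.fwd (nat_lit 2097152) (Steps.bwd (nat_lit 4) (Steps.fwd (nat_lit 2359296) (Steps.fwd (nat_lit 1048576) (Steps.bwd (nat_lit 9) (Steps.bwd (nat_lit 4) Steps.nil))))))))))))))) (nat_lit 106) (nat_lit 1),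
  Rule.mk (nat_lit 4) (nat_lit 154) (Steps.bwd (nat_lit 2) (Steps.bwd (nat_lit 5) (Steps.fwd (nat_lit 1835008) (Steps.fwd (nat_lit 1048576) (Steps.bwd (nat_lit 2) (Steps.fwd (nat_lit 1572864) (Steps.bwd (nat_lit 7) Steps.nil))))))) (nat_lit 88) (nat_lit 0),
  Rule.mk (nat_lit 7) (nat_lit 114) (Steps.fwd (nat_lit 524288) (Steps.bwd (nat_lit 4) (Steps.fwd (nat_lit 1835008) (Steps.bwd (nat_lit 3) (Steps.bwd (nat_lit 4) Steps.nil))))) (nat_lit 65) (nat_lit 2),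
  Rule.mk (nat_lit 2) (nat_lit 114) (Steps.fwd (nat_lit 1310720) (Steps.fwd (nat_lit 1048576) (Steps.bwd (nat_lit 2) (Steps.fwd (nat_lit 1572864) (Steps.bwd (nat_lit 4) Steps.nil))))) (nat_lit 58) (nat_lit 1),
  Rule.mk (nat_lit 9) (nat_lit 314) (Steps.bwd (nat_lit 4) (Steps.bwd (nat_lit 8) (Steps.bwd (nat_lit 4) (Steps.bwd (nat_lit 9) (Steps.bwd (nat_lit 4) (Steps.bwd (nat_lit 8) (Steps.bwd (nat_lit 4) (Steps.bwd (nat_lit 9) (Steps.bwd (nat_lit 4) (Steps.fwd (nat_lit 2359296) (Steps.fwd (nat_lit 1048576) (Steps.fwd (nat_lit 2097152) (Steps.fwd (nat_lit 1048576) (Steps.fwd (nat_lit 2359296) (Steps.bwd (nat_lit 4) Steps.nil))))))))))))))) (nat_lit 106) (nat_lit 3),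
  Rule.mk (nat_lit 4) (nat_lit 314) (Steps.bwd (nat_lit 8) (Steps.bwd (nat_lit 4) (Steps.bwd (nat_lit 9) (Steps.fwd (nat_lit 1048576) (Steps.fwd (nat_lit 2359296) (Steps.fwd (nat_lit 1048576) (Steps.bwd (nat_lit 9) (Steps.fwd (nat_lit 1048576) (Steps.bwd (nat_lit 8) (Steps.bwd (nat_lit 4) (Steps.bwd (nat_lit 9) (Steps.fwd (nat_lit 1048576) (Steps.fwd (nat_lit 2359296) (Steps.fwd (nat_lit 1048576) (Steps.fwd (nat_lit 2097152) Steps.nil))))))))))))))) (nat_lit 106) (nat_lit 0),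
  Rule.mk (nat_lit 7) (nat_lit 114) (Steps.bwd (nat_lit 1) (Steps.bwd (nat_lit 5) (Steps.fwd (nat_lit 1835008) (Steps.fwd (nat_lit 262144) (Steps.bwd (nat_lit 5) Steps.nil))))) (nat_lit 52) (nat_lit 0),
  Rule.mk (nat_lit 5) (nat_lit 74) (Steps.fwd (nat_lit 1835008) (Steps.fwd (nat_lit 1310720) (Steps.fwd (nat_lit 1835008) Steps.nil))) (nat_lit 32) (nat_lit 0),
  Rule.mk (nat_lit 9) (nat_lit 94) (Steps.fwd (nat_lit 1835008) (Steps.fwd (nat_lit 1310720) (Steps.fwd (nat_lit 2359296) (Steps.fwd (nat_lit 1310720) Steps.nil)))) (nat_lit 101) (nat_lit 0),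
  Rule.mk (nat_lit 4) (nat_lit 314) (Steps.fwd (nat_lit 2359296) (Steps.bwd (nat_lit 4) (Steps.bwd (nat_lit 9) (Steps.bwd (nat_lit 4) (Steps.fwd (nat_lit 2359296) (Steps.bwd (nat_lit 4) (Steps.fwd (nat_lit 2097152) (Steps.bwd (nat_lit 4) (Steps.bwd (nat_lit 8) (Steps.bwd (nat_lit 4) (Steps.bwd (nat_lit 9) (Steps.fwd (nat_lit 1048576) (Steps.fwd (nat_lit 2359296) (Steps.fwd (nat_lit 1048576) (Steps.fwd (nat_lit 2097152) Steps.nil))))))))))))))) (nat_lit 106) (nat_lit 0),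
  Rule.mk (nat_lit 4) (nat_lit 154) (Steps.bwd (nat_lit 1) (Steps.bwd (nat_lit 7) (Steps.bwd (nat_lit 4) (Steps.bwd (nat_lit 1) (Steps.fwd (nat_lit 1048576) (Steps.fwd (nat_lit 1835008) (Steps.fwd (nat_lit 262144) Steps.nil))))))) (nat_lit 76) (nat_lit 2),
  Rule.mk (nat_lit 4) (nat_lit 114) (Steps.bwd (nat_lit 2) (Steps.fwd (nat_lit 1572864) (Steps.bwd (nat_lit 4) (Steps.fwd (nat_lit 786432) (Steps.fwd (nat_lit 1310720) Steps.nil))))) (nat_lit 58) (nat_lit 3),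
  Rule.mk (nat_lit 8) (nat_lit 314) (Steps.fwd (nat_lit 1048576) (Steps.bwd (nat_lit 9) (Steps.bwd (nat_lit 4) (Steps.bwd (nat_lit 8) (Steps.fwd (nat_lit 1048576) (Steps.bwd (nat_lit 9) (Steps.bwd (nat_lit 4) (Steps.fwd (nat_lit 2359296) (Steps.fwd (nat_lit 1048576) (Steps.fwd (nat_lit 2097152) (Steps.fwd (nat_lit 1048576) (Steps.bwd (nat_lit 8) (Steps.fwd (nat_lit 1048576) (Steps.fwd (nat_lit 2097152) (Steps.fwd (nat_lit 1048576) Steps.nil))))))))))))))) (nat_lit 106) (nat_lit 1),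
  Rule.mk (nat_lit 0) (nat_lit 174) (Steps.fwd (nat_lit 786432) (Steps.bwd (nat_lit 1) (Steps.bwd (nat_lit 3) (Steps.fwd (nat_lit 262144) (Steps.fwd (nat_lit 786432) (Steps.bwd (nat_lit 1) (Steps.bwd (nat_lit 3) (Steps.fwd (nat_lit 262144) Steps.nil)))))))) (nat_lit 68) (nat_lit 1),
  Rule.mk (nat_lit 6) (nat_lit 274) (Steps.bwd (nat_lit 1) (Steps.bwd (nat_lit 3) (Steps.fwd (nat_lit 262144) (Steps.bwd (nat_lit 6) (Steps.fwd (nat_lit 262144) (Steps.fwd (nat_lit 524288) (Steps.bwd (nat_lit 1) (Steps.bwd (nat_lit 6) (Steps.bwd (nat_lit 1) (Steps.bwd (nat_lit 3) (Steps.fwd (nat_lit 1310720) (Steps.fwd (nat_lit 1572864) (Steps.fwd (nat_lit 262144) Steps.nil))))))))))))) (nat_lit 35) (nat_lit 4),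
  Rule.mk (nat_lit 1) (nat_lit 274) (Steps.fwd (nat_lit 524288) (Steps.fwd (nat_lit 262144) (Steps.bwd (nat_lit 6) (Steps.bwd (nat_lit 1) (Steps.bwd (nat_lit 3) (Steps.bwd (nat_lit 5) (Steps.bwd (nat_lit 6) (Steps.bwd (nat_lit 1) (Steps.bwd (nat_lit 6) (Steps.fwd (nat_lit 262144) (Steps.fwd (nat_lit 524288) (Steps.bwd (nat_lit 1) (Steps.bwd (nat_lit 6) Steps.nil))))))))))))) (nat_lit 35) (nat_lit 9),
  Rule.mk (nat_lit 2) (nat_lit 274) (Steps.bwd (nat_lit 1) (Steps.bwd (nat_lit 6) (Steps.fwd (nat_lit 262144) (Steps.fwd (nat_lit 786432) (Steps.bwd (nat_lit 1) (Steps.bwd (nat_lit 6) (Steps.bwd (nat_lit 1) (Steps.bwd (nat_lit 6) (Steps.bwd (nat_lit 5) (Steps.fwd (nat_lit 786432) (Steps.fwd (nat_lit 262144) (Steps.bwd (nat_lit 6) (Steps.fwd (nat_lit 262144) Steps.nil))))))))))))) (nat_lit 34) (nat_lit 5),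
  Rule.mk (nat_lit 9) (nat_lit 314) (Steps.fwd (nat_lit 1048576) (Steps.bwd (nat_lit 8) (Steps.bwd (nat_lit 4) (Steps.fwd (nat_lit 2097152) (Steps.bwd (nat_lit 4) (Steps.fwd (nat_lit 2359296) (Steps.bwd (nat_lit 4) (Steps.bwd (nat_lit 9) (Steps.bwd (nat_lit 4) (Steps.bwd (nat_lit 8) (Steps.fwd (nat_lit 1048576) (Steps.fwd (nat_lit 2097152) (Steps.fwd (nat_lit 1048576) (Steps.fwd (nat_lit 2359296) (Steps.fwd (nat_lit 1048576) Steps.nil))))))))))))))) (nat_lit 106) (nat_lit 3),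
  Rule.mk (nat_lit 1) (nat_lit 154) (Steps.bwd (nat_lit 4) (Steps.bwd (nat_lit 1) (Steps.fwd (nat_lit 1572864) (Steps.bwd (nat_lit 1) (Steps.fwd (nat_lit 1048576) (Steps.fwd (nat_lit 262144) (Steps.bwd (nat_lit 6) Steps.nil))))))) (nat_lit 74) (nat_lit 1),
  Rule.mk (nat_lit 2) (nat_lit 154) (Steps.fwd (nat_lit 262144) (Steps.bwd (nat_lit 5) (Steps.fwd (nat_lit 786432) (Steps.fwd (nat_lit 262144) (Steps.bwd (nat_lit 2) (Steps.bwd (nat_lit 5) (Steps.bwd (nat_lit 1) Steps.nil))))))) (nat_lit 70) (nat_lit 2),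
  Rule.mk (nat_lit 2) (nat_lit 154) (Steps.fwd (nat_lit 1572864) (Steps.fwd (nat_lit 1048576) (Steps.bwd (nat_lit 7) (Steps.bwd (nat_lit 2) (Steps.fwd (nat_lit 1310720) (Steps.fwd (nat_lit 1048576) (Steps.bwd (nat_lit 7) Steps.nil))))))) (nat_lit 86) (nat_lit 5),
  Rule.mk (nat_lit 1) (nat_lit 154) (Steps.fwd (nat_lit 524288) (Steps.bwd (nat_lit 7) (Steps.fwd (nat_lit 262144) (Steps.bwd (nat_lit 3) (Steps.bwd (nat_lit 1) (Steps.bwd (nat_lit 7) (Steps.fwd (nat_lit 524288) Steps.nil))))))) (nat_lit 73) (nat_lit 3),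
  Rule.mk (nat_lit 4) (nat_lit 314) (Steps.fwd (nat_lit 2097152) (Steps.fwd (nat_lit 1048576) (Steps.fwd (nat_lit 2359296) (Steps.fwd (nat_lit 1048576) (Steps.bwd (nat_lit 9) (Steps.bwd (nat_lit 4) (Steps.bwd (nat_lit 8) (Steps.bwd (nat_lit 4) (Steps.bwd (nat_lit 9) (Steps.fwd (nat_lit 1048576) (Steps.fwd (nat_lit 2359296) (Steps.fwd (nat_lit 1048576) (Steps.bwd (nat_lit 9) (Steps.fwd (nat_lit 1048576) (Steps.fwd (nat_lit 2359296) Steps.nil))))))))))))))) (nat_lit 106) (nat_lit 2),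
  Rule.mk (nat_lit 0) (nat_lit 174) (Steps.bwd (nat_lit 1) (Steps.bwd (nat_lit 7) (Steps.fwd (nat_lit 1048576) (Steps.bwd (nat_lit 1) (Steps.fwd (nat_lit 1048576) (Steps.fwd (nat_lit 1835008) (Steps.bwd (nat_lit 1) (Steps.fwd (nat_lit 1048576) Steps.nil)))))))) (nat_lit 76) (nat_lit 2),
  Rule.mk (nat_lit 1) (nat_lit 154) (Steps.fwd (nat_lit 524288) (Steps.fwd (nat_lit 1835008) (Steps.bwd (nat_lit 1) (Steps.fwd (nat_lit 524288) (Steps.fwd (nat_lit 262144) (Steps.bwd (nat_lit 7) (Steps.bwd (nat_lit 3) Steps.nil))))))) (nat_lit 73) (nat_lit 3),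
  Rule.mk (nat_lit 2) (nat_lit 274) (Steps.fwd (nat_lit 262144) (Steps.bwd (nat_lit 6) (Steps.fwd (nat_lit 262144) (Steps.bwd (nat_lit 2) (Steps.bwd (nat_lit 1) (Steps.bwd (nat_lit 6) (Steps.fwd (nat_lit 262144) (Steps.fwd (nat_lit 1572864) (Steps.bwd (nat_lit 5) (Steps.bwd (nat_lit 2) (Steps.bwd (nat_lit 1) (Steps.fwd (nat_lit 1572864) (Steps.fwd (nat_lit 262144) Steps.nil))))))))))))) (nat_lit 34) (nat_lit 5)]
noncomputable def R_105 : List (Rule) := [Rule.mk (nat_lit 7) (nat_lit 154) (Steps.bwd (nat_lit 2) (Steps.fwd (nat_lit 1310720) (Steps.bwd (nat_lit 2) (Steps.fwd (nat_lit 1572864) (Steps.fwd (nat_lit 1310720) (Steps.bwd (nat_lit 2) (Steps.bwd (nat_lit 6) Steps.nil))))))) (nat_lit 82) (nat_lit 0),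
  Rule.mk (nat_lit 2) (nat_lit 114) (Steps.bwd (nat_lit 5) (Steps.bwd (nat_lit 7) (Steps.fwd (nat_lit 524288) (Steps.fwd (nat_lit 1310720) (Steps.fwd (nat_lit 1835008) Steps.nil))))) (nat_lit 60) (nat_lit 1),
  Rule.mk (nat_lit 4) (nat_lit 314) (Steps.bwd (nat_lit 9) (Steps.bwd (nat_lit 4) (Steps.bwd (nat_lit 8) (Steps.bwd (nat_lit 4) (Steps.bwd (nat_lit 9) (Steps.bwd (nat_lit 4) (Steps.fwd (nat_lit 2359296) (Steps.fwd (nat_lit 1048576) (Steps.bwd (nat_lit 9) (Steps.fwd (nat_lit 1048576) (Steps.fwd (nat_lit 2359296) (Steps.bwd (nat_lit 4) (Steps.fwd (nat_lit 2097152) (Steps.fwd (nat_lit 1048576) (Steps.fwd (nat_lit 2359296) Steps.nil))))))))))))))) (nat_lit 106) (nat_lit 2),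
  Rule.mk (nat_lit 1) (nat_lit 274) (Steps.bwd (nat_lit 3) (Steps.bwd (nat_lit 5) (Steps.fwd (nat_lit 1572864) (Steps.bwd (nat_lit 1) (Steps.bwd (nat_lit 6) (Steps.fwd (nat_lit 262144) (Steps.fwd (nat_lit 524288) (Steps.fwd (nat_lit 262144) (Steps.bwd (nat_lit 6) (Steps.fwd (nat_lit 262144) (Steps.fwd (nat_lit 524288) (Steps.fwd (nat_lit 262144) (Steps.fwd (nat_lit 1572864) Steps.nil))))))))))))) (nat_lit 35) (nat_lit 13),
  Rule.mk (nat_lit 1) (nat_lit 154) (Steps.fwd (nat_lit 786432) (Steps.bwd (nat_lit 5) (Steps.bwd (nat_lit 1) (Steps.bwd (nat_lit 2) (Steps.fwd (nat_lit 262144) (Steps.fwd (nat_lit 1310720) (Steps.fwd (nat_lit 786432) Steps.nil))))))) (nat_lit 70) (nat_lit 6),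
  Rule.mk (nat_lit 8) (nat_lit 314) (Steps.fwd (nat_lit 1048576) (Steps.bwd (nat_lit 9) (Steps.bwd (nat_lit 4) (Steps.bwd (nat_lit 8) (Steps.bwd (nat_lit 4) (Steps.bwd (nat_lit 9) (Steps.fwd (nat_lit 1048576) (Steps.fwd (nat_lit 2359296) (Steps.bwd (nat_lit 4) (Steps.bwd (nat_lit 9) (Steps.fwd (nat_lit 1048576) (Steps.bwd (nat_lit 8) (Steps.fwd (nat_lit 1048576) (Steps.bwd (nat_lit 9) (Steps.bwd (nat_lit 4) Steps.nil))))))))))))))) (nat_lit 106) (nat_lit 1),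
  Rule.mk (nat_lit 7) (nat_lit 114) (Steps.fwd (nat_lit 1048576) (Steps.fwd (nat_lit 524288) (Steps.fwd (nat_lit 1835008) (Steps.bwd (nat_lit 4) (Steps.bwd (nat_lit 3) Steps.nil))))) (nat_lit 57) (nat_lit 1),
  Rule.mk (nat_lit 1) (nat_lit 154) (Steps.fwd (nat_lit 1835008) (Steps.fwd (nat_lit 786432) (Steps.bwd (nat_lit 1) (Steps.bwd (nat_lit 2) (Steps.fwd (nat_lit 1835008) (Steps.fwd (nat_lit 262144) (Steps.fwd (nat_lit 786432) Steps.nil))))))) (nat_lit 72) (nat_lit 3),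
  Rule.mk (nat_lit 0) (nat_lit 294) (Steps.bwd (nat_lit 1) (Steps.bwd (nat_lit 6) (Steps.fwd (nat_lit 1310720) (Steps.fwd (nat_lit 786432) (Steps.fwd (nat_lit 262144) (Steps.bwd (nat_lit 6) (Steps.bwd (nat_lit 1) (Steps.bwd (nat_lit 2) (Steps.bwd (nat_lit 1) (Steps.fwd (nat_lit 1572864) (Steps.fwd (nat_lit 262144) (Steps.bwd (nat_lit 2) (Steps.fwd (nat_lit 262144) (Steps.bwd (nat_lit 6) Steps.nil)))))))))))))) (nat_lit 34) (nat_lit 11),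
  Rule.mk (nat_lit 1) (nat_lit 274) (Steps.bwd (nat_lit 2) (Steps.bwd (nat_lit 1) (Steps.fwd (nat_lit 1572864) (Steps.fwd (nat_lit 262144) (Steps.fwd (nat_lit 1572864) (Steps.bwd (nat_lit 5) (Steps.bwd (nat_lit 2) (Steps.bwd (nat_lit 1) (Steps.bwd (nat_lit 6) (Steps.bwd (nat_lit 1) (Steps.fwd (nat_lit 786432) (Steps.bwd (nat_lit 1) (Steps.bwd (nat_lit 6) Steps.nil))))))))))))) (nat_lit 34) (nat_lit 8),
  Rule.mk (nat_lit 0) (nat_lit 94) (Steps.bwd (nat_lit 9) (Steps.bwd (nat_lit 3) (Steps.fwd (nat_lit 2359296) (Steps.bwd (nat_lit 2) Steps.nil)))) (nat_lit 96) (nat_lit 2),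
  Rule.mk (nat_lit 5) (nat_lit 94) (Steps.fwd (nat_lit 2097152) (Steps.bwd (nat_lit 5) (Steps.fwd (nat_lit 1835008) (Steps.bwd (nat_lit 8) Steps.nil)))) (nat_lit 100) (nat_lit 2),
  Rule.mk (nat_lit 5) (nat_lit 94) (Steps.fwd (nat_lit 1572864) (Steps.bwd (nat_lit 5) (Steps.fwd (nat_lit 1835008) (Steps.bwd (nat_lit 6) Steps.nil)))) (nat_lit 24) (nat_lit 2),
  Rule.mk (nat_lit 7) (nat_lit 94) (Steps.fwd (nat_lit 1310720) (Steps.fwd (nat_lit 1572864) (Steps.bwd (nat_lit 5) (Steps.fwd (nat_lit 1572864) Steps.nil)))) (nat_lit 25) (nat_lit 1),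
  Rule.mk (nat_lit 5) (nat_lit 94) (Steps.bwd (nat_lit 6) (Steps.fwd (nat_lit 1835008) (Steps.bwd (nat_lit 5) (Steps.fwd (nat_lit 1572864) Steps.nil)))) (nat_lit 25) (nat_lit 4),
  Rule.mk (nat_lit 5) (nat_lit 94) (Steps.fwd (nat_lit 2097152) (Steps.fwd (nat_lit 1835008) (Steps.bwd (nat_lit 5) (Steps.bwd (nat_lit 8) Steps.nil)))) (nat_lit 101) (nat_lit 4),
  Rule.mk (nat_lit 1) (nat_lit 154) (Steps.bwd (nat_lit 5) (Steps.bwd (nat_lit 2) (Steps.bwd (nat_lit 1) (Steps.fwd (nat_lit 786432) (Steps.bwd (nat_lit 5) (Steps.fwd (nat_lit 262144) (Steps.fwd (nat_lit 786432) Steps.nil))))))) (nat_lit 70) (nat_lit 3),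
  Rule.mk (nat_lit 7) (nat_lit 94) (Steps.bwd (nat_lit 6) (Steps.fwd (nat_lit 1310720) (Steps.fwd (nat_lit 1572864) (Steps.fwd (nat_lit 1310720) Steps.nil)))) (nat_lit 24) (nat_lit 0),
  Rule.mk (nat_lit 2) (nat_lit 114) (Steps.bwd (nat_lit 4) (Steps.fwd (nat_lit 1572864) (Steps.bwd (nat_lit 2) (Steps.fwd (nat_lit 1048576) (Steps.fwd (nat_lit 1310720) Steps.nil))))) (nat_lit 54) (nat_lit 4),
  Rule.mk (nat_lit 2) (nat_lit 114) (Steps.fwd (nat_lit 1310720) (Steps.fwd (nat_lit 1835008) (Steps.bwd (nat_lit 3) (Steps.fwd (nat_lit 1310720) (Steps.fwd (nat_lit 1835008) Steps.nil))))) (nat_lit 60) (nat_lit 1),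
  Rule.mk (nat_lit 2) (nat_lit 154) (Steps.bwd (nat_lit 4) (Steps.fwd (nat_lit 1572864) (Steps.fwd (nat_lit 1835008) (Steps.bwd (nat_lit 2) (Steps.fwd (nat_lit 1048576) (Steps.fwd (nat_lit 1310720) (Steps.fwd (nat_lit 1835008) Steps.nil))))))) (nat_lit 78) (nat_lit 5),
  Rule.mk (nat_lit 5) (nat_lit 114) (Steps.fwd (nat_lit 1835008) (Steps.fwd (nat_lit 524288) (Steps.fwd (nat_lit 1310720) (Steps.fwd (nat_lit 1835008) (Steps.bwd (nat_lit 2) Steps.nil))))) (nat_lit 60) (nat_lit 2),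
  Rule.mk (nat_lit 6) (nat_lit 154) (Steps.bwd (nat_lit 7) (Steps.bwd (nat_lit 4) (Steps.bwd (nat_lit 2) (Steps.fwd (nat_lit 1310720) (Steps.fwd (nat_lit 1835008) (Steps.bwd (nat_lit 4) (Steps.bwd (nat_lit 2) Steps.nil))))))) (nat_lit 88) (nat_lit 6),
  Rule.mk (nat_lit 4) (nat_lit 154) (Steps.fwd (nat_lit 786432) (Steps.bwd (nat_lit 7) (Steps.fwd (nat_lit 1310720) (Steps.bwd (nat_lit 4) (Steps.bwd (nat_lit 2) (Steps.fwd (nat_lit 1835008) (Steps.fwd (nat_lit 1572864) Steps.nil))))))) (nat_lit 92) (nat_lit 0),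
  Rule.mk (nat_lit 4) (nat_lit 154) (Steps.bwd (nat_lit 7) (Steps.fwd (nat_lit 786432) (Steps.fwd (nat_lit 1310720) (Steps.bwd (nat_lit 4) (Steps.fwd (nat_lit 1835008) (Steps.bwd (nat_lit 2) (Steps.fwd (nat_lit 1572864) Steps.nil))))))) (nat_lit 86) (nat_lit 7),
  Rule.mk (nat_lit 2) (nat_lit 154) (Steps.bwd (nat_lit 7) (Steps.bwd (nat_lit 4) (Steps.bwd (nat_lit 5) (Steps.bwd (nat_lit 2) (Steps.fwd (nat_lit 1835008) (Steps.bwd (nat_lit 4) (Steps.bwd (nat_lit 6) Steps.nil))))))) (nat_lit 90) (nat_lit 1),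
  Rule.mk (nat_lit 2) (nat_lit 154) (Steps.fwd (nat_lit 1835008) (Steps.bwd (nat_lit 6) (Steps.fwd (nat_lit 786432) (Steps.fwd (nat_lit 1310720) (Steps.bwd (nat_lit 6) (Steps.bwd (nat_lit 2) (Steps.bwd (nat_lit 5) Steps.nil))))))) (nat_lit 84) (nat_lit 3),
  Rule.mk (nat_lit 5) (nat_lit 74) (Steps.fwd (nat_lit 524288) (Steps.bwd (nat_lit 5) (Steps.bwd (nat_lit 2) Steps.nil))) (nat_lit 20) (nat_lit 2),
  Rule.mk (nat_lit 1) (nat_lit 154) (Steps.fwd (nat_lit 1572864) (Steps.bwd (nat_lit 1) (Steps.fwd (nat_lit 1048576) (Steps.bwd (nat_lit 1) (Steps.fwd (nat_lit 1572864) (Steps.fwd (nat_lit 262144) (Steps.fwd (nat_lit 1048576) Steps.nil))))))) (nat_lit 74) (nat_lit 3),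
  Rule.mk (nat_lit 0) (nat_lit 94) (Steps.bwd (nat_lit 8) (Steps.bwd (nat_lit 7) (Steps.bwd (nat_lit 9) (Steps.fwd (nat_lit 1310720) Steps.nil)))) (nat_lit 98) (nat_lit 0),
  Rule.mk (nat_lit 4) (nat_lit 314) (Steps.bwd (nat_lit 9) (Steps.fwd (nat_lit 1048576) (Steps.bwd (nat_lit 8) (Steps.bwd (nat_lit 4) (Steps.fwd (nat_lit 2097152) (Steps.fwd (nat_lit 1048576) (Steps.bwd (nat_lit 8) (Steps.bwd (nat_lit 4) (Steps.bwd (nat_lit 9) (Steps.fwd (nat_lit 1048576) (Steps.bwd (nat_lit 8) (Steps.bwd (nat_lit 4) (Steps.bwd (nat_lit 9) (Steps.bwd (nat_lit 4) (Steps.bwd (nat_lit 8) Steps.nil))))))))))))))) (nat_lit 106) (nat_lit 2),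
  Rule.mk (nat_lit 0) (nat_lit 174) (Steps.bwd (nat_lit 4) (Steps.bwd (nat_lit 1) (Steps.fwd (nat_lit 1835008) (Steps.fwd (nat_lit 1048576) (Steps.bwd (nat_lit 1) (Steps.bwd (nat_lit 4) (Steps.bwd (nat_lit 7) (Steps.bwd (nat_lit 1) Steps.nil)))))))) (nat_lit 76) (nat_lit 1),
  Rule.mk (nat_lit 1) (nat_lit 154) (Steps.bwd (nat_lit 7) (Steps.bwd (nat_lit 4) (Steps.bwd (nat_lit 1) (Steps.fwd (nat_lit 1048576) (Steps.bwd (nat_lit 7) (Steps.bwd (nat_lit 1) (Steps.bwd (nat_lit 4) Steps.nil))))))) (nat_lit 76) (nat_lit 3),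
  Rule.mk (nat_lit 4) (nat_lit 154) (Steps.bwd (nat_lit 1) (Steps.fwd (nat_lit 1835008) (Steps.fwd (nat_lit 1048576) (Steps.fwd (nat_lit 262144) (Steps.bwd (nat_lit 4) (Steps.bwd (nat_lit 7) (Steps.bwd (nat_lit 1) Steps.nil))))))) (nat_lit 76) (nat_lit 2),
  Rule.mk (nat_lit 4) (nat_lit 314) (Steps.fwd (nat_lit 2097152) (Steps.bwd (nat_lit 4) (Steps.bwd (nat_lit 8) (Steps.bwd (nat_lit 4) (Steps.fwd (nat_lit 2097152) (Steps.bwd (nat_lit 4) (Steps.fwd (nat_lit 2359296) (Steps.bwd (nat_lit 4) (Steps.bwd (nat_lit 9) (Steps.bwd (nat_lit 4) (Steps.bwd (nat_lit 8) (Steps.fwd (nat_lit 1048576) (Steps.bwd (nat_lit 9) (Steps.fwd (nat_lit 1048576) (Steps.fwd (nat_lit 2359296) Steps.nil))))))))))))))) (nat_lit 106) (nat_lit 2),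
  Rule.mk (nat_lit 4) (nat_lit 154) (Steps.bwd (nat_lit 3) (Steps.bwd (nat_lit 7) (Steps.fwd (nat_lit 1310720) (Steps.bwd (nat_lit 4) (Steps.bwd (nat_lit 3) (Steps.bwd (nat_lit 7) (Steps.fwd (nat_lit 1572864) Steps.nil))))))) (nat_lit 79) (nat_lit 3),
  Rule.mk (nat_lit 1) (nat_lit 114) (Steps.fwd (nat_lit 524288) (Steps.fwd (nat_lit 2097152) (Steps.bwd (nat_lit 1) (Steps.fwd (nat_lit 2359296) (Steps.bwd (nat_lit 2) Steps.nil))))) (nat_lit 104) (nat_lit 3),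
  Rule.mk (nat_lit 1) (nat_lit 274) (Steps.bwd (nat_lit 6) (Steps.bwd (nat_lit 1) (Steps.fwd (nat_lit 524288) (Steps.bwd (nat_lit 1) (Steps.fwd (nat_lit 1572864) (Steps.bwd (nat_lit 1) (Steps.fwd (nat_lit 524288) (Steps.bwd (nat_lit 1) (Steps.fwd (nat_lit 1572864) (Steps.bwd (nat_lit 1) (Steps.bwd (nat_lit 3) (Steps.fwd (nat_lit 1310720) (Steps.bwd (nat_lit 6) Steps.nil))))))))))))) (nat_lit 35) (nat_lit 3),
  Rule.mk (nat_lit 2) (nat_lit 274) (Steps.bwd (nat_lit 1) (Steps.bwd (nat_lit 6) (Steps.bwd (nat_lit 1) (Steps.fwd (nat_lit 786432) (Steps.bwd (nat_lit 1) (Steps.bwd (nat_lit 6) (Steps.bwd (nat_lit 1) (Steps.bwd (nat_lit 6) (Steps.bwd (nat_lit 5) (Steps.fwd (nat_lit 786432) (Steps.fwd (nat_lit 262144) (Steps.fwd (nat_lit 1572864) (Steps.bwd (nat_lit 1) Steps.nil))))))))))))) (nat_lit 34) (nat_lit 5),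
  Rule.mk (nat_lit 1) (nat_lit 154) (Steps.bwd (nat_lit 5) (Steps.bwd (nat_lit 2) (Steps.bwd (nat_lit 1) (Steps.fwd (nat_lit 786432) (Steps.fwd (nat_lit 1310720) (Steps.fwd (nat_lit 262144) (Steps.fwd (nat_lit 786432) Steps.nil))))))) (nat_lit 70) (nat_lit 3),
  Rule.mk (nat_lit 8) (nat_lit 314) (Steps.bwd (nat_lit 4) (Steps.fwd (nat_lit 2097152) (Steps.bwd (nat_lit 4) (Steps.fwd (nat_lit 2359296) (Steps.fwd (nat_lit 1048576) (Steps.bwd (nat_lit 9) (Steps.bwd (nat_lit 4) (Steps.fwd (nat_lit 2359296) (Steps.bwd (nat_lit 4) (Steps.bwd (nat_lit 9) (Steps.fwd (nat_lit 1048576) (Steps.bwd (nat_lit 8) (Steps.bwd (nat_lit 4) (Steps.bwd (nat_lit 9) (Steps.fwd (nat_lit 1048576) Steps.nil))))))))))))))) (nat_lit 106) (nat_lit 1),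
  Rule.mk (nat_lit 3) (nat_lit 154) (Steps.fwd (nat_lit 1310720) (Steps.bwd (nat_lit 1) (Steps.bwd (nat_lit 3) (Steps.bwd (nat_lit 1) (Steps.bwd (nat_lit 5) (Steps.fwd (nat_lit 524288) (Steps.fwd (nat_lit 262144) Steps.nil))))))) (nat_lit 71) (nat_lit 4),
  Rule.mk (nat_lit 4) (nat_lit 314) (Steps.bwd (nat_lit 8) (Steps.bwd (nat_lit 4) (Steps.bwd (nat_lit 9) (Steps.fwd (nat_lit 1048576) (Steps.fwd (nat_lit 2359296) (Steps.fwd (nat_lit 1048576) (Steps.fwd (nat_lit 2097152) (Steps.fwd (nat_lit 1048576) (Steps.fwd (nat_lit 2359296) (Steps.fwd (nat_lit 1048576) (Steps.bwd (nat_lit 9) (Steps.bwd (nat_lit 4) (Steps.bwd (nat_lit 8) (Steps.fwd (nat_lit 1048576) (Steps.fwd (nat_lit 2097152) Steps.nil))))))))))))))) (nat_lit 106) (nat_lit 0),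
  Rule.mk (nat_lit 4) (nat_lit 314) (Steps.bwd (nat_lit 8) (Steps.bwd (nat_lit 4) (Steps.bwd (nat_lit 9) (Steps.bwd (nat_lit 4) (Steps.bwd (nat_lit 8) (Steps.bwd (nat_lit 4) (Steps.fwd (nat_lit 2097152) (Steps.bwd (nat_lit 4) (Steps.fwd (nat_lit 2359296) (Steps.fwd (nat_lit 1048576) (Steps.fwd (nat_lit 2097152) (Steps.fwd (nat_lit 1048576) (Steps.bwd (nat_lit 8) (Steps.bwd (nat_lit 4) (Steps.fwd (nat_lit 2097152) Steps.nil))))))))))))))) (nat_lit 106) (nat_lit 0),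
  Rule.mk (nat_lit 4) (nat_lit 114) (Steps.bwd (nat_lit 7) (Steps.fwd (nat_lit 524288) (Steps.bwd (nat_lit 4) (Steps.fwd (nat_lit 1835008) (Steps.bwd (nat_lit 3) Steps.nil))))) (nat_lit 65) (nat_lit 1),
  Rule.mk (nat_lit 9) (nat_lit 314) (Steps.fwd (nat_lit 1048576) (Steps.bwd (nat_lit 8) (Steps.fwd (nat_lit 1048576) (Steps.bwd (nat_lit 9) (Steps.fwd (nat_lit 1048576) (Steps.bwd (nat_lit 8) (Steps.bwd (nat_lit 4) (Steps.bwd (nat_lit 9) (Steps.fwd (nat_lit 1048576) (Steps.bwd (nat_lit 8) (Steps.fwd (nat_lit 1048576) (Steps.bwd (nat_lit 9) (Steps.bwd (nat_lit 4) (Steps.fwd (nat_lit 2359296) (Steps.fwd (nat_lit 1048576) Steps.nil))))))))))))))) (nat_lit 106) (nat_lit 3),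
  Rule.mk (nat_lit 1) (nat_lit 274) (Steps.bwd (nat_lit 2) (Steps.fwd (nat_lit 262144) (Steps.fwd (nat_lit 1572864) (Steps.bwd (nat_lit 1) (Steps.bwd (nat_lit 2) (Steps.bwd (nat_lit 1) (Steps.fwd (nat_lit 1572864) (Steps.bwd (nat_lit 1) (Steps.bwd (nat_lit 6) (Steps.fwd (nat_lit 1310720) (Steps.bwd (nat_lit 2) (Steps.fwd (nat_lit 262144) (Steps.bwd (nat_lit 6) Steps.nil))))))))))))) (nat_lit 34) (nat_lit 4),
  Rule.mk (nat_lit 4) (nat_lit 154) (Steps.fwd (nat_lit 1835008) (Steps.bwd (nat_lit 1) (Steps.fwd (nat_lit 1048576) (Steps.bwd (nat_lit 1) (Steps.bwd (nat_lit 7) (Steps.bwd (nat_lit 4) (Steps.fwd (nat_lit 262144) Steps.nil))))))) (nat_lit 76) (nat_lit 7),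
  Rule.mk (nat_lit 1) (nat_lit 154) (Steps.fwd (nat_lit 1048576) (Steps.fwd (nat_lit 1835008) (Steps.bwd (nat_lit 1) (Steps.bwd (nat_lit 4) (Steps.bwd (nat_lit 1) (Steps.fwd (nat_lit 1835008) (Steps.bwd (nat_lit 4) Steps.nil))))))) (nat_lit 76) (nat_lit 6),
  Rule.mk (nat_lit 3) (nat_lit 154) (Steps.bwd (nat_lit 7) (Steps.bwd (nat_lit 1) (Steps.fwd (nat_lit 524288) (Steps.bwd (nat_lit 1) (Steps.fwd (nat_lit 1835008) (Steps.bwd (nat_lit 3) (Steps.bwd (nat_lit 1) Steps.nil))))))) (nat_lit 73) (nat_lit 4),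
  Rule.mk (nat_lit 4) (nat_lit 154) (Steps.bwd (nat_lit 5) (Steps.bwd (nat_lit 3) (Steps.fwd (nat_lit 1835008) (Steps.bwd (nat_lit 4) (Steps.fwd (nat_lit 1572864) (Steps.bwd (nat_lit 3) (Steps.fwd (nat_lit 1835008) Steps.nil))))))) (nat_lit 87) (nat_lit 6),
  Rule.mk (nat_lit 9) (nat_lit 314) (Steps.bwd (nat_lit 4) (Steps.bwd (nat_lit 8) (Steps.bwd (nat_lit 4) (Steps.bwd (nat_lit 9) (Steps.bwd (nat_lit 4) (Steps.bwd (nat_lit 8) (Steps.fwd (nat_lit 1048576) (Steps.fwd (nat_lit 2097152) (Steps.fwd (nat_lit 1048576) (Steps.bwd (nat_lit 8) (Steps.bwd (nat_lit 4) (Steps.fwd (nat_lit 2097152) (Steps.fwd (nat_lit 1048576) (Steps.fwd (nat_lit 2359296) (Steps.fwd (nat_lit 1048576) Steps.nil))))))))))))))) (nat_lit 106) (nat_lit 3),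
  Rule.mk (nat_lit 1) (nat_lit 154) (Steps.bwd (nat_lit 7) (Steps.bwd (nat_lit 4) (Steps.fwd (nat_lit 262144) (Steps.fwd (nat_lit 1048576) (Steps.bwd (nat_lit 7) (Steps.bwd (nat_lit 1) (Steps.fwd (nat_lit 1048576) Steps.nil))))))) (nat_lit 76) (nat_lit 3),
  Rule.mk (nat_lit 1) (nat_lit 274) (Steps.fwd (nat_lit 1572864) (Steps.bwd (nat_lit 1) (Steps.bwd (nat_lit 3) (Steps.bwd (nat_lit 1) (Steps.bwd (nat_lit 6) (Steps.bwd (nat_lit 1) (Steps.fwd (nat_lit 524288) (Steps.bwd (nat_lit 1) (Steps.fwd (nat_lit 1572864) (Steps.fwd (nat_lit 262144) (Steps.bwd (nat_lit 3) (Steps.bwd (nat_lit 5) (Steps.bwd (nat_lit 6) Steps.nil))))))))))))) (nat_lit 35) (nat_lit 3),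
  Rule.mk (nat_lit 8) (nat_lit 314) (Steps.fwd (nat_lit 1048576) (Steps.bwd (nat_lit 9) (Steps.bwd (nat_lit 4) (Steps.bwd (nat_lit 8) (Steps.bwd (nat_lit 4) (Steps.bwd (nat_lit 9) (Steps.fwd (nat_lit 1048576) (Steps.fwd (nat_lit 2359296) (Steps.fwd (nat_lit 1048576) (Steps.fwd (nat_lit 2097152) (Steps.bwd (nat_lit 4) (Steps.bwd (nat_lit 8) (Steps.fwd (nat_lit 1048576) (Steps.fwd (nat_lit 2097152) (Steps.fwd (nat_lit 1048576) Steps.nil))))))))))))))) (nat_lit 106) (nat_lit 1),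
  Rule.mk (nat_lit 0) (nat_lit 134) (Steps.bwd (nat_lit 4) (Steps.bwd (nat_lit 5) (Steps.fwd (nat_lit 524288) (Steps.bwd (nat_lit 4) (Steps.fwd (nat_lit 1572864) (Steps.fwd (nat_lit 524288) Steps.nil)))))) (nat_lit 59) (nat_lit 3),
  Rule.mk (nat_lit 4) (nat_lit 154) (Steps.fwd (nat_lit 1310720) (Steps.fwd (nat_lit 524288) (Steps.bwd (nat_lit 7) (Steps.bwd (nat_lit 4) (Steps.fwd (nat_lit 1572864) (Steps.fwd (nat_lit 524288) (Steps.bwd (nat_lit 7) Steps.nil))))))) (nat_lit 87) (nat_lit 6),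
  Rule.mk (nat_lit 9) (nat_lit 114) (Steps.fwd (nat_lit 262144) (Steps.fwd (nat_lit 2359296) (Steps.fwd (nat_lit 786432) (Steps.bwd (nat_lit 1) (Steps.fwd (nat_lit 524288) Steps.nil))))) (nat_lit 104) (nat_lit 5),
  Rule.mk (nat_lit 9) (nat_lit 314) (Steps.bwd (nat_lit 4) (Steps.fwd (nat_lit 2359296) (Steps.fwd (nat_lit 1048576) (Steps.fwd (nat_lit 2097152) (Steps.fwd (nat_lit 1048576) (Steps.bwd (nat_lit 8) (Steps.fwd (nat_lit 1048576) (Steps.bwd (nat_lit 9) (Steps.bwd (nat_lit 4) (Steps.fwd (nat_lit 2359296) (Steps.fwd (nat_lit 1048576) (Steps.bwd (nat_lit 9) (Steps.bwd (nat_lit 4) (Steps.fwd (nat_lit 2359296) (Steps.fwd (nat_lit 1048576) Steps.nil))))))))))))))) (nat_lit 106) (nat_lit 3),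
  Rule.mk (nat_lit 4) (nat_lit 314) (Steps.bwd (nat_lit 9) (Steps.bwd (nat_lit 4) (Steps.fwd (nat_lit 2359296) (Steps.fwd (nat_lit 1048576) (Steps.bwd (nat_lit 9) (Steps.bwd (nat_lit 4) (Steps.bwd (nat_lit 8) (Steps.bwd (nat_lit 4) (Steps.bwd (nat_lit 9) (Steps.bwd (nat_lit 4) (Steps.fwd (nat_lit 2359296) (Steps.bwd (nat_lit 4) (Steps.fwd (nat_lit 2097152) (Steps.fwd (nat_lit 1048576) (Steps.fwd (nat_lit 2359296) Steps.nil))))))))))))))) (nat_lit 106) (nat_lit 2),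
  Rule.mk (nat_lit 8) (nat_lit 314) (Steps.fwd (nat_lit 1048576) (Steps.bwd (nat_lit 9) (Steps.fwd (nat_lit 1048576) (Steps.bwd (nat_lit 8) (Steps.bwd (nat_lit 4) (Steps.bwd (nat_lit 9) (Steps.bwd (nat_lit 4) (Steps.fwd (nat_lit 2359296) (Steps.fwd (nat_lit 1048576) (Steps.bwd (nat_lit 9) (Steps.bwd (nat_lit 4) (Steps.bwd (nat_lit 8) (Steps.fwd (nat_lit 1048576) (Steps.bwd (nat_lit 9) (Steps.bwd (nat_lit 4) Steps.nil))))))))))))))) (nat_lit 106) (nat_lit 1),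
  Rule.mk (nat_lit 8) (nat_lit 314) (Steps.fwd (nat_lit 1048576) (Steps.fwd (nat_lit 2097152) (Steps.bwd (nat_lit 4) (Steps.fwd (nat_lit 2359296) (Steps.fwd (nat_lit 1048576) (Steps.fwd (nat_lit 2097152) (Steps.bwd (nat_lit 4) (Steps.fwd (nat_lit 2359296) (Steps.bwd (nat_lit 4) (Steps.fwd (nat_lit 2097152) (Steps.fwd (nat_lit 1048576) (Steps.fwd (nat_lit 2359296) (Steps.bwd (nat_lit 4) (Steps.bwd (nat_lit 9) (Steps.bwd (nat_lit 4) Steps.nil))))))))))))))) (nat_lit 106) (nat_lit 1),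
  Rule.mk (nat_lit 8) (nat_lit 314) (Steps.fwd (nat_lit 1048576) (Steps.fwd (nat_lit 2097152) (Steps.bwd (nat_lit 4) (Steps.fwd (nat_lit 2359296) (Steps.fwd (nat_lit 1048576) (Steps.fwd (nat_lit 2097152) (Steps.bwd (nat_lit 4) (Steps.fwd (nat_lit 2359296) (Steps.bwd (nat_lit 4) (Steps.bwd (nat_lit 9) (Steps.bwd (nat_lit 4) (Steps.bwd (nat_lit 8) (Steps.fwd (nat_lit 1048576) (Steps.fwd (nat_lit 2097152) (Steps.bwd (nat_lit 4) Steps.nil))))))))))))))) (nat_lit 106) (nat_lit 1),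
  Rule.mk (nat_lit 8) (nat_lit 314) (Steps.bwd (nat_lit 4) (Steps.bwd (nat_lit 9) (Steps.bwd (nat_lit 4) (Steps.bwd (nat_lit 8) (Steps.bwd (nat_lit 4) (Steps.bwd (nat_lit 9) (Steps.fwd (nat_lit 1048576) (Steps.fwd (nat_lit 2359296) (Steps.fwd (nat_lit 1048576) (Steps.fwd (nat_lit 2097152) (Steps.fwd (nat_lit 1048576) (Steps.fwd (nat_lit 2359296) (Steps.fwd (nat_lit 1048576) (Steps.fwd (nat_lit 2097152) (Steps.bwd (nat_lit 4) Steps.nil))))))))))))))) (nat_lit 106) (nat_lit 1)]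
noncomputable def R_106 : List (Rule) := [Rule.mk (nat_lit 4) (nat_lit 114) (Steps.fwd (nat_lit 1310720) (Steps.fwd (nat_lit 786432) (Steps.fwd (nat_lit 1048576) (Steps.fwd (nat_lit 1572864) (Steps.bwd (nat_lit 2) Steps.nil))))) (nat_lit 54) (nat_lit 2),
  Rule.mk (nat_lit 4) (nat_lit 114) (Steps.fwd (nat_lit 1572864) (Steps.fwd (nat_lit 786432) (Steps.fwd (nat_lit 1048576) (Steps.fwd (nat_lit 1310720) (Steps.bwd (nat_lit 2) Steps.nil))))) (nat_lit 54) (nat_lit 5),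
  Rule.mk (nat_lit 8) (nat_lit 314) (Steps.bwd (nat_lit 4) (Steps.bwd (nat_lit 9) (Steps.bwd (nat_lit 4) (Steps.bwd (nat_lit 8) (Steps.bwd (nat_lit 4) (Steps.fwd (nat_lit 2097152) (Steps.fwd (nat_lit 1048576) (Steps.fwd (nat_lit 2359296) (Steps.bwd (nat_lit 4) (Steps.bwd (nat_lit 9) (Steps.bwd (nat_lit 4) (Steps.fwd (nat_lit 2359296) (Steps.fwd (nat_lit 1048576) (Steps.fwd (nat_lit 2097152) (Steps.fwd (nat_lit 1048576) Steps.nil))))))))))))))) (nat_lit 106) (nat_lit 1),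
  Rule.mk (nat_lit 4) (nat_lit 314) (Steps.fwd (nat_lit 2359296) (Steps.bwd (nat_lit 4) (Steps.bwd (nat_lit 9) (Steps.bwd (nat_lit 4) (Steps.bwd (nat_lit 8) (Steps.fwd (nat_lit 1048576) (Steps.bwd (nat_lit 9) (Steps.fwd (nat_lit 1048576) (Steps.fwd (nat_lit 2359296) (Steps.bwd (nat_lit 4) (Steps.bwd (nat_lit 9) (Steps.bwd (nat_lit 4) (Steps.bwd (nat_lit 8) (Steps.bwd (nat_lit 4) (Steps.bwd (nat_lit 9) Steps.nil))))))))))))))) (nat_lit 106) (nat_lit 0),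
  Rule.mk (nat_lit 9) (nat_lit 314) (Steps.bwd (nat_lit 4) (Steps.fwd (nat_lit 2359296) (Steps.bwd (nat_lit 4) (Steps.bwd (nat_lit 9) (Steps.bwd (nat_lit 4) (Steps.bwd (nat_lit 8) (Steps.bwd (nat_lit 4) (Steps.fwd (nat_lit 2097152) (Steps.fwd (nat_lit 1048576) (Steps.fwd (nat_lit 2359296) (Steps.fwd (nat_lit 1048576) (Steps.bwd (nat_lit 9) (Steps.bwd (nat_lit 4) (Steps.fwd (nat_lit 2359296) (Steps.fwd (nat_lit 1048576) Steps.nil))))))))))))))) (nat_lit 106) (nat_lit 3),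
  Rule.mk (nat_lit 8) (nat_lit 314) (Steps.fwd (nat_lit 1048576) (Steps.bwd (nat_lit 9) (Steps.fwd (nat_lit 1048576) (Steps.fwd (nat_lit 2359296) (Steps.fwd (nat_lit 1048576) (Steps.bwd (nat_lit 9) (Steps.bwd (nat_lit 4) (Steps.fwd (nat_lit 2359296) (Steps.fwd (nat_lit 1048576) (Steps.bwd (nat_lit 9) (Steps.bwd (nat_lit 4) (Steps.bwd (nat_lit 8) (Steps.bwd (nat_lit 4) (Steps.bwd (nat_lit 9) (Steps.bwd (nat_lit 4) Steps.nil))))))))))))))) (nat_lit 106) (nat_lit 1),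
  Rule.mk (nat_lit 9) (nat_lit 314) (Steps.bwd (nat_lit 4) (Steps.fwd (nat_lit 2359296) (Steps.fwd (nat_lit 1048576) (Steps.bwd (nat_lit 9) (Steps.bwd (nat_lit 4) (Steps.fwd (nat_lit 2359296) (Steps.fwd (nat_lit 1048576) (Steps.fwd (nat_lit 2097152) (Steps.fwd (nat_lit 1048576) (Steps.fwd (nat_lit 2359296) (Steps.fwd (nat_lit 1048576) (Steps.fwd (nat_lit 2097152) (Steps.bwd (nat_lit 4) (Steps.fwd (nat_lit 2359296) (Steps.bwd (nat_lit 4) Steps.nil))))))))))))))) (nat_lit 106) (nat_lit 3),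
  Rule.mk (nat_lit 4) (nat_lit 314) (Steps.fwd (nat_lit 2097152) (Steps.fwd (nat_lit 1048576) (Steps.fwd (nat_lit 2359296) (Steps.bwd (nat_lit 4) (Steps.bwd (nat_lit 9) (Steps.fwd (nat_lit 1048576) (Steps.bwd (nat_lit 8) (Steps.fwd (nat_lit 1048576) (Steps.fwd (nat_lit 2097152) (Steps.fwd (nat_lit 1048576) (Steps.fwd (nat_lit 2359296) (Steps.fwd (nat_lit 1048576) (Steps.bwd (nat_lit 9) (Steps.bwd (nat_lit 4) (Steps.bwd (nat_lit 8) Steps.nil))))))))))))))) (nat_lit 106) (nat_lit 2),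
  Rule.mk (nat_lit 5) (nat_lit 154) (Steps.fwd (nat_lit 524288) (Steps.bwd (nat_lit 1) (Steps.fwd (nat_lit 524288) (Steps.fwd (nat_lit 1310720) (Steps.fwd (nat_lit 262144) (Steps.fwd (nat_lit 524288) (Steps.fwd (nat_lit 262144) Steps.nil))))))) (nat_lit 71) (nat_lit 1),
  Rule.mk (nat_lit 8) (nat_lit 314) (Steps.bwd (nat_lit 4) (Steps.bwd (nat_lit 9) (Steps.bwd (nat_lit 4) (Steps.bwd (nat_lit 8) (Steps.bwd (nat_lit 4) (Steps.bwd (nat_lit 9) (Steps.bwd (nat_lit 4) (Steps.fwd (nat_lit 2359296) (Steps.fwd (nat_lit 1048576) (Steps.bwd (nat_lit 9) (Steps.fwd (nat_lit 1048576) (Steps.fwd (nat_lit 2359296) (Steps.bwd (nat_lit 4) (Steps.bwd (nat_lit 9) (Steps.bwd (nat_lit 4) Steps.nil))))))))))))))) (nat_lit 106) (nat_lit 1),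
  Rule.mk (nat_lit 9) (nat_lit 314) (Steps.bwd (nat_lit 4) (Steps.bwd (nat_lit 8) (Steps.fwd (nat_lit 1048576) (Steps.bwd (nat_lit 9) (Steps.fwd (nat_lit 1048576) (Steps.fwd (nat_lit 2359296) (Steps.bwd (nat_lit 4) (Steps.bwd (nat_lit 9) (Steps.bwd (nat_lit 4) (Steps.bwd (nat_lit 8) (Steps.bwd (nat_lit 4) (Steps.bwd (nat_lit 9) (Steps.fwd (nat_lit 1048576) (Steps.fwd (nat_lit 2359296) (Steps.fwd (nat_lit 1048576) Steps.nil))))))))))))))) (nat_lit 106) (nat_lit 3),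
  Rule.mk (nat_lit 4) (nat_lit 314) (Steps.bwd (nat_lit 8) (Steps.fwd (nat_lit 1048576) (Steps.bwd (nat_lit 9) (Steps.fwd (nat_lit 1048576) (Steps.fwd (nat_lit 2359296) (Steps.bwd (nat_lit 4) (Steps.fwd (nat_lit 2097152) (Steps.bwd (nat_lit 4) (Steps.bwd (nat_lit 8) (Steps.bwd (nat_lit 4) (Steps.bwd (nat_lit 9) (Steps.bwd (nat_lit 4) (Steps.fwd (nat_lit 2359296) (Steps.fwd (nat_lit 1048576) (Steps.fwd (nat_lit 2097152) Steps.nil))))))))))))))) (nat_lit 106) (nat_lit 0),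
  Rule.mk (nat_lit 5) (nat_lit 94) (Steps.fwd (nat_lit 1572864) (Steps.fwd (nat_lit 1835008) (Steps.bwd (nat_lit 5) (Steps.bwd (nat_lit 6) Steps.nil)))) (nat_lit 25) (nat_lit 4),
  Rule.mk (nat_lit 1) (nat_lit 154) (Steps.fwd (nat_lit 786432) (Steps.bwd (nat_lit 1) (Steps.bwd (nat_lit 5) (Steps.fwd (nat_lit 786432) (Steps.fwd (nat_lit 262144) (Steps.fwd (nat_lit 786432) (Steps.bwd (nat_lit 5) Steps.nil))))))) (nat_lit 70) (nat_lit 1),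
  Rule.mk (nat_lit 1) (nat_lit 274) (Steps.bwd (nat_lit 6) (Steps.fwd (nat_lit 262144) (Steps.bwd (nat_lit 3) (Steps.fwd (nat_lit 262144) (Steps.fwd (nat_lit 1572864) (Steps.fwd (nat_lit 262144) (Steps.bwd (nat_lit 3) (Steps.fwd (nat_lit 262144) (Steps.fwd (nat_lit 1572864) (Steps.fwd (nat_lit 262144) (Steps.fwd (nat_lit 524288) (Steps.bwd (nat_lit 5) (Steps.bwd (nat_lit 6) Steps.nil))))))))))))) (nat_lit 35) (nat_lit 3),
  Rule.mk (nat_lit 4) (nat_lit 154) (Steps.bwd (nat_lit 1) (Steps.bwd (nat_lit 6) (Steps.fwd (nat_lit 262144) (Steps.fwd (nat_lit 1048576) (Steps.fwd (nat_lit 262144) (Steps.fwd (nat_lit 1572864) (Steps.fwd (nat_lit 262144) Steps.nil))))))) (nat_lit 74) (nat_lit 2),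
  Rule.mk (nat_lit 1) (nat_lit 274) (Steps.bwd (nat_lit 6) (Steps.fwd (nat_lit 262144) (Steps.bwd (nat_lit 3) (Steps.bwd (nat_lit 1) (Steps.fwd (nat_lit 1572864) (Steps.fwd (nat_lit 262144) (Steps.fwd (nat_lit 524288) (Steps.fwd (nat_lit 262144) (Steps.fwd (nat_lit 1572864) (Steps.fwd (nat_lit 262144) (Steps.fwd (nat_lit 524288) (Steps.bwd (nat_lit 5) (Steps.bwd (nat_lit 6) Steps.nil))))))))))))) (nat_lit 35) (nat_lit 3),
  Rule.mk (nat_lit 1) (nat_lit 154) (Steps.fwd (nat_lit 1572864) (Steps.bwd (nat_lit 1) (Steps.bwd (nat_lit 4) (Steps.bwd (nat_lit 1) (Steps.fwd (nat_lit 1572864) (Steps.fwd (nat_lit 262144) (Steps.bwd (nat_lit 4) Steps.nil))))))) (nat_lit 74) (nat_lit 3),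
  Rule.mk (nat_lit 8) (nat_lit 314) (Steps.bwd (nat_lit 4) (Steps.bwd (nat_lit 9) (Steps.bwd (nat_lit 4) (Steps.bwd (nat_lit 8) (Steps.bwd (nat_lit 4) (Steps.bwd (nat_lit 9) (Steps.fwd (nat_lit 1048576) (Steps.fwd (nat_lit 2359296) (Steps.fwd (nat_lit 1048576) (Steps.bwd (nat_lit 9) (Steps.bwd (nat_lit 4) (Steps.bwd (nat_lit 8) (Steps.bwd (nat_lit 4) (Steps.fwd (nat_lit 2097152) (Steps.bwd (nat_lit 4) Steps.nil))))))))))))))) (nat_lit 106) (nat_lit 1),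
  Rule.mk (nat_lit 2) (nat_lit 154) (Steps.fwd (nat_lit 1310720) (Steps.bwd (nat_lit 1) (Steps.fwd (nat_lit 786432) (Steps.bwd (nat_lit 1) (Steps.fwd (nat_lit 1310720) (Steps.bwd (nat_lit 2) (Steps.fwd (nat_lit 262144) Steps.nil))))))) (nat_lit 70) (nat_lit 7),
  Rule.mk (nat_lit 1) (nat_lit 274) (Steps.fwd (nat_lit 1572864) (Steps.fwd (nat_lit 1310720) (Steps.fwd (nat_lit 786432) (Steps.fwd (nat_lit 262144) (Steps.fwd (nat_lit 1572864) (Steps.fwd (nat_lit 262144) (Steps.bwd (nat_lit 2) (Steps.bwd (nat_lit 1) (Steps.fwd (nat_lit 1572864) (Steps.bwd (nat_lit 1) (Steps.fwd (nat_lit 786432) (Steps.bwd (nat_lit 1) (Steps.bwd (nat_lit 6) Steps.nil))))))))))))) (nat_lit 34) (nat_lit 12),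
  Rule.mk (nat_lit 8) (nat_lit 314) (Steps.fwd (nat_lit 1048576) (Steps.bwd (nat_lit 9) (Steps.fwd (nat_lit 1048576) (Steps.bwd (nat_lit 8) (Steps.bwd (nat_lit 4) (Steps.bwd (nat_lit 9) (Steps.bwd (nat_lit 4) (Steps.fwd (nat_lit 2359296) (Steps.fwd (nat_lit 1048576) (Steps.fwd (nat_lit 2097152) (Steps.bwd (nat_lit 4) (Steps.fwd (nat_lit 2359296) (Steps.fwd (nat_lit 1048576) (Steps.bwd (nat_lit 9) (Steps.bwd (nat_lit 4) Steps.nil))))))))))))))) (nat_lit 106) (nat_lit 1),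
  Rule.mk (nat_lit 6) (nat_lit 274) (Steps.bwd (nat_lit 1) (Steps.bwd (nat_lit 3) (Steps.fwd (nat_lit 262144) (Steps.bwd (nat_lit 6) (Steps.fwd (nat_lit 262144) (Steps.fwd (nat_lit 524288) (Steps.fwd (nat_lit 262144) (Steps.fwd (nat_lit 1572864) (Steps.fwd (nat_lit 262144) (Steps.fwd (nat_lit 524288) (Steps.fwd (nat_lit 1310720) (Steps.bwd (nat_lit 6) (Steps.fwd (nat_lit 262144) Steps.nil))))))))))))) (nat_lit 35) (nat_lit 4),
  Rule.mk (nat_lit 9) (nat_lit 314) (Steps.bwd (nat_lit 4) (Steps.bwd (nat_lit 8) (Steps.bwd (nat_lit 4) (Steps.fwd (nat_lit 2097152) (Steps.fwd (nat_lit 1048576) (Steps.fwd (nat_lit 2359296) (Steps.bwd (nat_lit 4) (Steps.bwd (nat_lit 9) (Steps.bwd (nat_lit 4) (Steps.fwd (nat_lit 2359296) (Steps.bwd (nat_lit 4) (Steps.bwd (nat_lit 9) (Steps.bwd (nat_lit 4) (Steps.fwd (nat_lit 2359296) (Steps.fwd (nat_lit 1048576) Steps.nil)))))))))))))))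 (nat_lit 106) (nat_lit 3),
  Rule.mk (nat_lit 1) (nat_lit 154) (Steps.fwd (nat_lit 786432) (Steps.bwd (nat_lit 7) (Steps.bwd (nat_lit 1) (Steps.bwd (nat_lit 2) (Steps.bwd (nat_lit 1) (Steps.bwd (nat_lit 7) (Steps.fwd (nat_lit 786432) Steps.nil))))))) (nat_lit 72) (nat_lit 6),
  Rule.mk (nat_lit 0) (nat_lit 294) (Steps.bwd (nat_lit 1) (Steps.bwd (nat_lit 3) (Steps.bwd (nat_lit 1) (Steps.fwd (nat_lit 1572864) (Steps.fwd (nat_lit 262144) (Steps.fwd (nat_lit 524288) (Steps.fwd (nat_lit 1310720) (Steps.bwd (nat_lit 6) (Steps.fwd (nat_lit 262144) (Steps.fwd (nat_lit 1572864) (Steps.fwd (nat_lit 262144) (Steps.fwd (nat_lit 524288) (Steps.fwd (nat_lit 262144) (Steps.bwd (nat_lit 6) Steps.nil)))))))))))))) (nat_lit 35) (nat_lit 8),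
  Rule.mk (nat_lit 4) (nat_lit 314) (Steps.fwd (nat_lit 2097152) (Steps.bwd (nat_lit 4) (Steps.fwd (nat_lit 2359296) (Steps.bwd (nat_lit 4) (Steps.bwd (nat_lit 9) (Steps.bwd (nat_lit 4) (Steps.fwd (nat_lit 2359296) (Steps.fwd (nat_lit 1048576) (Steps.bwd (nat_lit 9) (Steps.fwd (nat_lit 1048576) (Steps.fwd (nat_lit 2359296) (Steps.fwd (nat_lit 1048576) (Steps.bwd (nat_lit 9) (Steps.fwd (nat_lit 1048576) (Steps.bwd (nat_lit 8) Steps.nil))))))))))))))) (nat_lit 106) (nat_lit 2),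
  Rule.mk (nat_lit 9) (nat_lit 314) (Steps.fwd (nat_lit 1048576) (Steps.fwd (nat_lit 2359296) (Steps.fwd (nat_lit 1048576) (Steps.bwd (nat_lit 9) (Steps.bwd (nat_lit 4) (Steps.fwd (nat_lit 2359296) (Steps.bwd (nat_lit 4) (Steps.bwd (nat_lit 9) (Steps.fwd (nat_lit 1048576) (Steps.fwd (nat_lit 2359296) (Steps.bwd (nat_lit 4) (Steps.bwd (nat_lit 9) (Steps.bwd (nat_lit 4) (Steps.fwd (nat_lit 2359296) (Steps.bwd (nat_lit 4) Steps.nil))))))))))))))) (nat_lit 106) (nat_lit 3),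
  Rule.mk (nat_lit 1) (nat_lit 274) (Steps.bwd (nat_lit 2) (Steps.bwd (nat_lit 1) (Steps.fwd (nat_lit 1572864) (Steps.bwd (nat_lit 1) (Steps.bwd (nat_lit 6) (Steps.bwd (nat_lit 5) (Steps.bwd (nat_lit 2) (Steps.fwd (nat_lit 262144) (Steps.bwd (nat_lit 6) (Steps.bwd (nat_lit 1) (Steps.bwd (nat_lit 2) (Steps.bwd (nat_lit 1) (Steps.bwd (nat_lit 6) Steps.nil))))))))))))) (nat_lit 34) (nat_lit 8),
  Rule.mk (nat_lit 7) (nat_lit 154) (Steps.fwd (nat_lit 262144) (Steps.bwd (nat_lit 2) (Steps.bwd (nat_lit 1) (Steps.fwd (nat_lit 1835008) (Steps.fwd (nat_lit 786432) (Steps.fwd (nat_lit 262144) (Steps.fwd (nat_lit 786432) Steps.nil))))))) (nat_lit 72) (nat_lit 0),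
  Rule.mk (nat_lit 9) (nat_lit 314) (Steps.bwd (nat_lit 4) (Steps.bwd (nat_lit 8) (Steps.bwd (nat_lit 4) (Steps.bwd (nat_lit 9) (Steps.fwd (nat_lit 1048576) (Steps.bwd (nat_lit 8) (Steps.bwd (nat_lit 4) (Steps.fwd (nat_lit 2097152) (Steps.bwd (nat_lit 4) (Steps.fwd (nat_lit 2359296) (Steps.bwd (nat_lit 4) (Steps.bwd (nat_lit 9) (Steps.fwd (nat_lit 1048576) (Steps.fwd (nat_lit 2359296) (Steps.bwd (nat_lit 4) Steps.nil))))))))))))))) (nat_lit 106) (nat_lit 3),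
  Rule.mk (nat_lit 8) (nat_lit 314) (Steps.bwd (nat_lit 4) (Steps.bwd (nat_lit 9) (Steps.bwd (nat_lit 4) (Steps.bwd (nat_lit 8) (Steps.bwd (nat_lit 4) (Steps.bwd (nat_lit 9) (Steps.bwd (nat_lit 4) (Steps.bwd (nat_lit 8) (Steps.fwd (nat_lit 1048576) (Steps.bwd (nat_lit 9) (Steps.bwd (nat_lit 4) (Steps.fwd (nat_lit 2359296) (Steps.bwd (nat_lit 4) (Steps.bwd (nat_lit 9) (Steps.bwd (nat_lit 4) Steps.nil))))))))))))))) (nat_lit 106) (nat_lit 1),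
  Rule.mk (nat_lit 9) (nat_lit 314) (Steps.fwd (nat_lit 1048576) (Steps.bwd (nat_lit 8) (Steps.bwd (nat_lit 4) (Steps.bwd (nat_lit 9) (Steps.bwd (nat_lit 4) (Steps.fwd (nat_lit 2359296) (Steps.bwd (nat_lit 4) (Steps.bwd (nat_lit 9) (Steps.bwd (nat_lit 4) (Steps.bwd (nat_lit 8) (Steps.bwd (nat_lit 4) (Steps.bwd (nat_lit 9) (Steps.fwd (nat_lit 1048576) (Steps.fwd (nat_lit 2359296) (Steps.fwd (nat_lit 1048576) Steps.nil))))))))))))))) (nat_lit 106) (nat_lit 3),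
  Rule.mk (nat_lit 1) (nat_lit 274) (Steps.bwd (nat_lit 6) (Steps.fwd (nat_lit 262144) (Steps.fwd (nat_lit 786432) (Steps.bwd (nat_lit 1) (Steps.bwd (nat_lit 6) (Steps.fwd (nat_lit 262144) (Steps.fwd (nat_lit 786432) (Steps.fwd (nat_lit 262144) (Steps.bwd (nat_lit 6) (Steps.fwd (nat_lit 262144) (Steps.bwd (nat_lit 6) (Steps.bwd (nat_lit 5) (Steps.fwd (nat_lit 786432) Steps.nil))))))))))))) (nat_lit 34) (nat_lit 2),
  Rule.mk (nat_lit 3) (nat_lit 154) (Steps.bwd (nat_lit 1) (Steps.bwd (nat_lit 7) (Steps.bwd (nat_lit 3) (Steps.bwd (nat_lit 1) (Steps.bwd (nat_lit 3) (Steps.fwd (nat_lit 1835008) (Steps.fwd (nat_lit 262144) Steps.nil))))))) (nat_lit 73) (nat_lit 7),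
  Rule.mk (nat_lit 2) (nat_lit 274) (Steps.bwd (nat_lit 1) (Steps.fwd (nat_lit 1572864) (Steps.bwd (nat_lit 1) (Steps.fwd (nat_lit 1572864) (Steps.bwd (nat_lit 5) (Steps.bwd (nat_lit 2) (Steps.fwd (nat_lit 262144) (Steps.bwd (nat_lit 6) (Steps.bwd (nat_lit 1) (Steps.fwd (nat_lit 786432) (Steps.bwd (nat_lit 1) (Steps.fwd (nat_lit 1572864) (Steps.fwd (nat_lit 262144) Steps.nil))))))))))))) (nat_lit 34) (nat_lit 9),
  Rule.mk (nat_lit 2) (nat_lit 154) (Steps.bwd (nat_lit 1) (Steps.bwd (nat_lit 3) (Steps.bwd (nat_lit 1) (Steps.bwd (nat_lit 2) (Steps.bwd (nat_lit 1) (Steps.bwd (nat_lit 3) (Steps.bwd (nat_lit 1) Steps.nil))))))) (nat_lit 68) (nat_lit 2),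
  Rule.mk (nat_lit 1) (nat_lit 154) (Steps.fwd (nat_lit 524288) (Steps.bwd (nat_lit 1) (Steps.fwd (nat_lit 1835008) (Steps.bwd (nat_lit 3) (Steps.bwd (nat_lit 1) (Steps.bwd (nat_lit 3) (Steps.bwd (nat_lit 7) Steps.nil))))))) (nat_lit 73) (nat_lit 6),
  Rule.mk (nat_lit 1) (nat_lit 274) (Steps.fwd (nat_lit 1572864) (Steps.bwd (nat_lit 1) (Steps.fwd (nat_lit 1572864) (Steps.bwd (nat_lit 5) (Steps.fwd (nat_lit 786432) (Steps.bwd (nat_lit 1) (Steps.bwd (nat_lit 6) (Steps.fwd (nat_lit 262144) (Steps.fwd (nat_lit 786432) (Steps.fwd (nat_lit 262144) (Steps.bwd (nat_lit 6) (Steps.bwd (nat_lit 1) (Steps.bwd (nat_lit 2) Steps.nil))))))))))))) (nat_lit 34) (nat_lit 10),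
  Rule.mk (nat_lit 4) (nat_lit 314) (Steps.bwd (nat_lit 9) (Steps.bwd (nat_lit 4) (Steps.bwd (nat_lit 8) (Steps.fwd (nat_lit 1048576) (Steps.fwd (nat_lit 2097152) (Steps.bwd (nat_lit 4) (Steps.bwd (nat_lit 8) (Steps.fwd (nat_lit 1048576) (Steps.fwd (nat_lit 2097152) (Steps.fwd (nat_lit 1048576) (Steps.bwd (nat_lit 8) (Steps.bwd (nat_lit 4) (Steps.fwd (nat_lit 2097152) (Steps.fwd (nat_lit 1048576) (Steps.fwd (nat_lit 2359296) Steps.nil))))))))))))))) (nat_lit 106) (nat_lit 2),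
  Rule.mk (nat_lit 8) (nat_lit 314) (Steps.bwd (nat_lit 4) (Steps.bwd (nat_lit 9) (Steps.bwd (nat_lit 4) (Steps.fwd (nat_lit 2359296) (Steps.bwd (nat_lit 4) (Steps.fwd (nat_lit 2097152) (Steps.fwd (nat_lit 1048576) (Steps.fwd (nat_lit 2359296) (Steps.bwd (nat_lit 4) (Steps.bwd (nat_lit 9) (Steps.bwd (nat_lit 4) (Steps.fwd (nat_lit 2359296) (Steps.bwd (nat_lit 4) (Steps.bwd (nat_lit 9) (Steps.fwd (nat_lit 1048576) Steps.nil))))))))))))))) (nat_lit 106) (nat_lit 1),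
  Rule.mk (nat_lit 2) (nat_lit 114) (Steps.bwd (nat_lit 7) (Steps.bwd (nat_lit 4) (Steps.bwd (nat_lit 2) (Steps.fwd (nat_lit 1835008) (Steps.bwd (nat_lit 4) Steps.nil))))) (nat_lit 64) (nat_lit 1),
  Rule.mk (nat_lit 5) (nat_lit 154) (Steps.bwd (nat_lit 7) (Steps.bwd (nat_lit 4) (Steps.bwd (nat_lit 2) (Steps.fwd (nat_lit 1572864) (Steps.fwd (nat_lit 1835008) (Steps.fwd (nat_lit 1048576) (Steps.bwd (nat_lit 2) Steps.nil))))))) (nat_lit 88) (nat_lit 2),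
  Rule.mk (nat_lit 5) (nat_lit 94) (Steps.bwd (nat_lit 8) (Steps.bwd (nat_lit 5) (Steps.bwd (nat_lit 9) (Steps.fwd (nat_lit 1835008) Steps.nil)))) (nat_lit 101) (nat_lit 2),
  Rule.mk (nat_lit 9) (nat_lit 314) (Steps.bwd (nat_lit 4) (Steps.bwd (nat_lit 8) (Steps.bwd (nat_lit 4) (Steps.fwd (nat_lit 2097152) (Steps.bwd (nat_lit 4) (Steps.fwd (nat_lit 2359296) (Steps.fwd (nat_lit 1048576) (Steps.bwd (nat_lit 9) (Steps.bwd (nat_lit 4) (Steps.bwd (nat_lit 8) (Steps.fwd (nat_lit 1048576) (Steps.bwd (nat_lit 9) (Steps.bwd (nat_lit 4) (Steps.fwd (nat_lit 2359296) (Steps.fwd (nat_lit 1048576) Steps.nil))))))))))))))) (nat_lit 106) (nat_lit 3),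
  Rule.mk (nat_lit 8) (nat_lit 314) (Steps.bwd (nat_lit 4) (Steps.bwd (nat_lit 9) (Steps.bwd (nat_lit 4) (Steps.fwd (nat_lit 2359296) (Steps.fwd (nat_lit 1048576) (Steps.fwd (nat_lit 2097152) (Steps.bwd (nat_lit 4) (Steps.fwd (nat_lit 2359296) (Steps.bwd (nat_lit 4) (Steps.bwd (nat_lit 9) (Steps.bwd (nat_lit 4) (Steps.fwd (nat_lit 2359296) (Steps.fwd (nat_lit 1048576) (Steps.bwd (nat_lit 9) (Steps.fwd (nat_lit 1048576) Steps.nil))))))))))))))) (nat_lit 106) (nat_lit 1),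
  Rule.mk (nat_lit 7) (nat_lit 94) (Steps.bwd (nat_lit 6) (Steps.bwd (nat_lit 5) (Steps.bwd (nat_lit 6) (Steps.fwd (nat_lit 1310720) Steps.nil)))) (nat_lit 24) (nat_lit 0),
  Rule.mk (nat_lit 1) (nat_lit 274) (Steps.bwd (nat_lit 6) (Steps.fwd (nat_lit 262144) (Steps.bwd (nat_lit 2) (Steps.bwd (nat_lit 1) (Steps.fwd (nat_lit 1572864) (Steps.bwd (nat_lit 1) (Steps.fwd (nat_lit 1572864) (Steps.bwd (nat_lit 5) (Steps.bwd (nat_lit 2) (Steps.fwd (nat_lit 262144) (Steps.fwd (nat_lit 1572864) (Steps.fwd (nat_lit 262144) (Steps.bwd (nat_lit 2) Steps.nil))))))))))))) (nat_lit 34) (nat_lit 6),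
  Rule.mk (nat_lit 4) (nat_lit 314) (Steps.fwd (nat_lit 2359296) (Steps.fwd (nat_lit 1048576) (Steps.bwd (nat_lit 9) (Steps.fwd (nat_lit 1048576) (Steps.bwd (nat_lit 8) (Steps.bwd (nat_lit 4) (Steps.bwd (nat_lit 9) (Steps.bwd (nat_lit 4) (Steps.bwd (nat_lit 8) (Steps.fwd (nat_lit 1048576) (Steps.fwd (nat_lit 2097152) (Steps.bwd (nat_lit 4) (Steps.bwd (nat_lit 8) (Steps.bwd (nat_lit 4) (Steps.fwd (nat_lit 2097152) Steps.nil))))))))))))))) (nat_lit 106) (nat_lit 0),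
  Rule.mk (nat_lit 1) (nat_lit 154) (Steps.fwd (nat_lit 1835008) (Steps.fwd (nat_lit 1048576) (Steps.bwd (nat_lit 1) (Steps.bwd (nat_lit 4) (Steps.bwd (nat_lit 7) (Steps.bwd (nat_lit 1) (Steps.fwd (nat_lit 1048576) Steps.nil))))))) (nat_lit 76) (nat_lit 3),
  Rule.mk (nat_lit 1) (nat_lit 274) (Steps.bwd (nat_lit 6) (Steps.fwd (nat_lit 262144) (Steps.fwd (nat_lit 524288) (Steps.fwd (nat_lit 262144) (Steps.bwd (nat_lit 6) (Steps.bwd (nat_lit 1) (Steps.fwd (nat_lit 524288) (Steps.bwd (nat_lit 5) (Steps.bwd (nat_lit 6) (Steps.fwd (nat_lit 262144) (Steps.fwd (nat_lit 1572864) (Steps.bwd (nat_lit 1) (Steps.fwd (nat_lit 524288) Steps.nil))))))))))))) (nat_lit 35) (nat_lit 7),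
  Rule.mk (nat_lit 5) (nat_lit 154) (Steps.bwd (nat_lit 6) (Steps.bwd (nat_lit 2) (Steps.fwd (nat_lit 1310720) (Steps.bwd (nat_lit 2) (Steps.bwd (nat_lit 7) (Steps.fwd (nat_lit 1572864) (Steps.fwd (nat_lit 786432) Steps.nil))))))) (nat_lit 84) (nat_lit 7),
  Rule.mk (nat_lit 4) (nat_lit 154) (Steps.fwd (nat_lit 262144) (Steps.bwd (nat_lit 4) (Steps.fwd (nat_lit 1835008) (Steps.fwd (nat_lit 262144) (Steps.fwd (nat_lit 1048576) (Steps.bwd (nat_lit 1) (Steps.bwd (nat_lit 7) Steps.nil))))))) (nat_lit 76) (nat_lit 5),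
  Rule.mk (nat_lit 4) (nat_lit 154) (Steps.bwd (nat_lit 1) (Steps.fwd (nat_lit 1572864) (Steps.bwd (nat_lit 1) (Steps.bwd (nat_lit 4) (Steps.bwd (nat_lit 1) (Steps.fwd (nat_lit 1572864) (Steps.bwd (nat_lit 1) Steps.nil))))))) (nat_lit 74) (nat_lit 2),
  Rule.mk (nat_lit 0) (nat_lit 134) (Steps.bwd (nat_lit 4) (Steps.fwd (nat_lit 786432) (Steps.fwd (nat_lit 1310720) (Steps.bwd (nat_lit 4) (Steps.bwd (nat_lit 2) (Steps.bwd (nat_lit 6) Steps.nil)))))) (nat_lit 58) (nat_lit 5),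
  Rule.mk (nat_lit 6) (nat_lit 154) (Steps.bwd (nat_lit 4) (Steps.bwd (nat_lit 7) (Steps.fwd (nat_lit 786432) (Steps.fwd (nat_lit 1310720) (Steps.bwd (nat_lit 4) (Steps.fwd (nat_lit 1835008) (Steps.bwd (nat_lit 2) Steps.nil))))))) (nat_lit 86) (nat_lit 6),
  Rule.mk (nat_lit 1) (nat_lit 154) (Steps.fwd (nat_lit 1048576) (Steps.bwd (nat_lit 1) (Steps.fwd (nat_lit 1572864) (Steps.fwd (nat_lit 262144) (Steps.bwd (nat_lit 4) (Steps.fwd (nat_lit 262144) (Steps.bwd (nat_lit 6) Steps.nil))))))) (nat_lit 74) (nat_lit 1),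
  Rule.mk (nat_lit 1) (nat_lit 154) (Steps.bwd (nat_lit 3) (Steps.bwd (nat_lit 5) (Steps.bwd (nat_lit 1) (Steps.bwd (nat_lit 3) (Steps.bwd (nat_lit 1) (Steps.bwd (nat_lit 5) (Steps.bwd (nat_lit 3) Steps.nil))))))) (nat_lit 71) (nat_lit 3),
  Rule.mk (nat_lit 3) (nat_lit 274) (Steps.bwd (nat_lit 1) (Steps.fwd (nat_lit 1572864) (Steps.bwd (nat_lit 1) (Steps.bwd (nat_lit 3) (Steps.fwd (nat_lit 262144) (Steps.bwd (nat_lit 6) (Steps.fwd (nat_lit 262144) (Steps.fwd (nat_lit 524288) (Steps.fwd (nat_lit 1310720) (Steps.bwd (nat_lit 6) (Steps.bwd (nat_lit 1) (Steps.fwd (nat_lit 1572864) (Steps.fwd (nat_lit 262144) Steps.nil))))))))))))) (nat_lit 35) (nat_lit 6),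
  Rule.mk (nat_lit 0) (nat_lit 134) (Steps.bwd (nat_lit 1) (Steps.bwd (nat_lit 2) (Steps.bwd (nat_lit 1) (Steps.fwd (nat_lit 786432) (Steps.bwd (nat_lit 1) (Steps.bwd (nat_lit 2) Steps.nil)))))) (nat_lit 12) (nat_lit 0),
  Rule.mk (nat_lit 9) (nat_lit 314) (Steps.fwd (nat_lit 1048576) (Steps.fwd (nat_lit 2359296) (Steps.fwd (nat_lit 1048576) (Steps.bwd (nat_lit 9) (Steps.bwd (nat_lit 4) (Steps.bwd (nat_lit 8) (Steps.fwd (nat_lit 1048576) (Steps.fwd (nat_lit 2097152) (Steps.fwd (nat_lit 1048576) (Steps.fwd (nat_lit 2359296) (Steps.fwd (nat_lit 1048576) (Steps.fwd (nat_lit 2097152) (Steps.bwd (nat_lit 4) (Steps.fwd (nat_lit 2359296) (Steps.fwd (nat_lit 1048576) Steps.nil))))))))))))))) (nat_lit 106) (nat_lit 3),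
  Rule.mk (nat_lit 8) (nat_lit 314) (Steps.bwd (nat_lit 4) (Steps.bwd (nat_lit 9) (Steps.bwd (nat_lit 4) (Steps.bwd (nat_lit 8) (Steps.fwd (nat_lit 1048576) (Steps.fwd (nat_lit 2097152) (Steps.fwd (nat_lit 1048576) (Steps.bwd (nat_lit 8) (Steps.fwd (nat_lit 1048576) (Steps.bwd (nat_lit 9) (Steps.fwd (nat_lit 1048576) (Steps.fwd (nat_lit 2359296) (Steps.bwd (nat_lit 4) (Steps.bwd (nat_lit 9) (Steps.fwd (nat_lit 1048576) Steps.nil))))))))))))))) (nat_lit 106) (nat_lit 1),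
  Rule.mk (nat_lit 9) (nat_lit 114) (Steps.fwd (nat_lit 262144) (Steps.bwd (nat_lit 8) (Steps.fwd (nat_lit 786432) (Steps.bwd (nat_lit 1) (Steps.fwd (nat_lit 524288) Steps.nil))))) (nat_lit 104) (nat_lit 5),
  Rule.mk (nat_lit 9) (nat_lit 314) (Steps.bwd (nat_lit 4) (Steps.fwd (nat_lit 2359296) (Steps.bwd (nat_lit 4) (Steps.fwd (nat_lit 2097152) (Steps.fwd (nat_lit 1048576) (Steps.fwd (nat_lit 2359296) (Steps.bwd (nat_lit 4) (Steps.bwd (nat_lit 9) (Steps.bwd (nat_lit 4) (Steps.fwd (nat_lit 2359296) (Steps.fwd (nat_lit 1048576) (Steps.fwd (nat_lit 2097152) (Steps.fwd (nat_lit 1048576) (Steps.fwd (nat_lit 2359296) (Steps.bwd (nat_lit 4) Steps.nil))))))))))))))) (nat_lit 106) (nat_lit 3)]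
noncomputable def R_107 : List (Rule) := [Rule.mk (nat_lit 3) (nat_lit 154) (Steps.fwd (nat_lit 1835008) (Steps.fwd (nat_lit 1572864) (Steps.bwd (nat_lit 3) (Steps.bwd (nat_lit 5) (Steps.bwd (nat_lit 6) (Steps.bwd (nat_lit 3) (Steps.bwd (nat_lit 5) Steps.nil))))))) (nat_lit 83) (nat_lit 0),
  Rule.mk (nat_lit 3) (nat_lit 154) (Steps.fwd (nat_lit 1310720) (Steps.bwd (nat_lit 3) (Steps.bwd (nat_lit 7) (Steps.bwd (nat_lit 6) (Steps.bwd (nat_lit 3) (Steps.bwd (nat_lit 5) (Steps.fwd (nat_lit 1572864) Steps.nil))))))) (nat_lit 83) (nat_lit 6),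
  Rule.mk (nat_lit 2) (nat_lit 114) (Steps.bwd (nat_lit 5) (Steps.bwd (nat_lit 7) (Steps.bwd (nat_lit 3) (Steps.fwd (nat_lit 1310720) (Steps.fwd (nat_lit 1835008) Steps.nil))))) (nat_lit 60) (nat_lit 1),
  Rule.mk (nat_lit 9) (nat_lit 314) (Steps.bwd (nat_lit 4) (Steps.bwd (nat_lit 8) (Steps.bwd (nat_lit 4) (Steps.bwd (nat_lit 9) (Steps.fwd (nat_lit 1048576) (Steps.bwd (nat_lit 8) (Steps.fwd (nat_lit 1048576) (Steps.bwd (nat_lit 9) (Steps.bwd (nat_lit 4) (Steps.bwd (nat_lit 8) (Steps.fwd (nat_lit 1048576) (Steps.fwd (nat_lit 2097152) (Steps.fwd (nat_lit 1048576) (Steps.fwd (nat_lit 2359296) (Steps.fwd (nat_lit 1048576) Steps.nil))))))))))))))) (nat_lit 106) (nat_lit 3),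
  Rule.mk (nat_lit 5) (nat_lit 114) (Steps.bwd (nat_lit 2) (Steps.fwd (nat_lit 1048576) (Steps.bwd (nat_lit 6) (Steps.fwd (nat_lit 786432) (Steps.fwd (nat_lit 1048576) Steps.nil))))) (nat_lit 54) (nat_lit 3),
  Rule.mk (nat_lit 5) (nat_lit 154) (Steps.bwd (nat_lit 7) (Steps.bwd (nat_lit 2) (Steps.fwd (nat_lit 1048576) (Steps.bwd (nat_lit 6) (Steps.fwd (nat_lit 1835008) (Steps.fwd (nat_lit 786432) (Steps.fwd (nat_lit 1048576) Steps.nil))))))) (nat_lit 78) (nat_lit 3),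
  Rule.mk (nat_lit 3) (nat_lit 114) (Steps.bwd (nat_lit 6) (Steps.fwd (nat_lit 1048576) (Steps.bwd (nat_lit 3) (Steps.bwd (nat_lit 5) (Steps.fwd (nat_lit 1048576) Steps.nil))))) (nat_lit 55) (nat_lit 0),
  Rule.mk (nat_lit 2) (nat_lit 114) (Steps.fwd (nat_lit 1572864) (Steps.fwd (nat_lit 1048576) (Steps.bwd (nat_lit 2) (Steps.bwd (nat_lit 5) (Steps.fwd (nat_lit 1048576) Steps.nil))))) (nat_lit 58) (nat_lit 4),
  Rule.mk (nat_lit 2) (nat_lit 154) (Steps.bwd (nat_lit 1) (Steps.fwd (nat_lit 786432) (Steps.fwd (nat_lit 1310720) (Steps.bwd (nat_lit 1) (Steps.bwd (nat_lit 2) (Steps.bwd (nat_lit 1) (Steps.bwd (nat_lit 5) Steps.nil))))))) (nat_lit 70) (nat_lit 5),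
  Rule.mk (nat_lit 8) (nat_lit 314) (Steps.bwd (nat_lit 4) (Steps.fwd (nat_lit 2097152) (Steps.bwd (nat_lit 4) (Steps.fwd (nat_lit 2359296) (Steps.bwd (nat_lit 4) (Steps.bwd (nat_lit 9) (Steps.bwd (nat_lit 4) (Steps.bwd (nat_lit 8) (Steps.bwd (nat_lit 4) (Steps.fwd (nat_lit 2097152) (Steps.bwd (nat_lit 4) (Steps.bwd (nat_lit 8) (Steps.fwd (nat_lit 1048576) (Steps.fwd (nat_lit 2097152) (Steps.fwd (nat_lit 1048576) Steps.nil))))))))))))))) (nat_lit 106) (nat_lit 1),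
  Rule.mk (nat_lit 7) (nat_lit 94) (Steps.bwd (nat_lit 5) (Steps.bwd (nat_lit 6) (Steps.fwd (nat_lit 1310720) (Steps.fwd (nat_lit 1572864) Steps.nil)))) (nat_lit 25) (nat_lit 1),
  Rule.mk (nat_lit 3) (nat_lit 114) (Steps.bwd (nat_lit 7) (Steps.bwd (nat_lit 5) (Steps.fwd (nat_lit 786432) (Steps.fwd (nat_lit 1835008) (Steps.bwd (nat_lit 5) Steps.nil))))) (nat_lit 61) (nat_lit 0),
  Rule.mk (nat_lit 4) (nat_lit 314) (Steps.fwd (nat_lit 2097152) (Steps.bwd (nat_lit 4) (Steps.bwd (nat_lit 8) (Steps.bwd (nat_lit 4) (Steps.bwd (nat_lit 9) (Steps.fwd (nat_lit 1048576) (Steps.bwd (nat_lit 8) (Steps.fwd (nat_lit 1048576) (Steps.fwd (nat_lit 2097152) (Steps.bwd (nat_lit 4) (Steps.fwd (nat_lit 2359296) (Steps.bwd (nat_lit 4) (Steps.fwd (nat_lit 2097152) (Steps.bwd (nat_lit 4) (Steps.fwd (nat_lit 2359296) Steps.nil))))))))))))))) (nat_lit 106) (nat_lit 2),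
  Rule.mk (nat_lit 9) (nat_lit 314) (Steps.bwd (nat_lit 4) (Steps.fwd (nat_lit 2359296) (Steps.fwd (nat_lit 1048576) (Steps.bwd (nat_lit 9) (Steps.bwd (nat_lit 4) (Steps.fwd (nat_lit 2359296) (Steps.fwd (nat_lit 1048576) (Steps.fwd (nat_lit 2097152) (Steps.fwd (nat_lit 1048576) (Steps.fwd (nat_lit 2359296) (Steps.fwd (nat_lit 1048576) (Steps.bwd (nat_lit 9) (Steps.fwd (nat_lit 1048576) (Steps.bwd (nat_lit 8) (Steps.fwd (nat_lit 1048576) Steps.nil))))))))))))))) (nat_lit 106) (nat_lit 3),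
  Rule.mk (nat_lit 1) (nat_lit 274) (Steps.bwd (nat_lit 6) (Steps.bwd (nat_lit 5) (Steps.fwd (nat_lit 786432) (Steps.bwd (nat_lit 1) (Steps.fwd (nat_lit 1572864) (Steps.fwd (nat_lit 262144) (Steps.fwd (nat_lit 786432) (Steps.bwd (nat_lit 1) (Steps.bwd (nat_lit 6) (Steps.fwd (nat_lit 262144) (Steps.bwd (nat_lit 2) (Steps.bwd (nat_lit 1) (Steps.bwd (nat_lit 6) Steps.nil))))))))))))) (nat_lit 34) (nat_lit 12),
  Rule.mk (nat_lit 7) (nat_lit 94) (Steps.fwd (nat_lit 1310720) (Steps.bwd (nat_lit 8) (Steps.bwd (nat_lit 5) (Steps.bwd (nat_lit 9) Steps.nil)))) (nat_lit 101) (nat_lit 1),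
  Rule.mk (nat_lit 0) (nat_lit 174) (Steps.bwd (nat_lit 2) (Steps.bwd (nat_lit 1) (Steps.bwd (nat_lit 7) (Steps.fwd (nat_lit 786432) (Steps.bwd (nat_lit 1) (Steps.bwd (nat_lit 2) (Steps.fwd (nat_lit 1835008) (Steps.fwd (nat_lit 262144) Steps.nil)))))))) (nat_lit 72) (nat_lit 1),
  Rule.mk (nat_lit 3) (nat_lit 274) (Steps.bwd (nat_lit 1) (Steps.bwd (nat_lit 6) (Steps.bwd (nat_lit 1) (Steps.fwd (nat_lit 524288) (Steps.bwd (nat_lit 5) (Steps.bwd (nat_lit 6) (Steps.bwd (nat_lit 1) (Steps.bwd (nat_lit 6) (Steps.bwd (nat_lit 1) (Steps.bwd (nat_lit 3) (Steps.bwd (nat_lit 1) (Steps.fwd (nat_lit 1572864) (Steps.fwd (nat_lit 262144) Steps.nil))))))))))))) (nat_lit 35) (nat_lit 10),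
  Rule.mk (nat_lit 4) (nat_lit 114) (Steps.fwd (nat_lit 1310720) (Steps.bwd (nat_lit 3) (Steps.bwd (nat_lit 4) (Steps.bwd (nat_lit 6) (Steps.bwd (nat_lit 3) Steps.nil))))) (nat_lit 59) (nat_lit 4),
  Rule.mk (nat_lit 1) (nat_lit 154) (Steps.bwd (nat_lit 2) (Steps.bwd (nat_lit 5) (Steps.bwd (nat_lit 1) (Steps.fwd (nat_lit 786432) (Steps.bwd (nat_lit 1) (Steps.bwd (nat_lit 5) (Steps.bwd (nat_lit 2) Steps.nil))))))) (nat_lit 70) (nat_lit 6),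
  Rule.mk (nat_lit 5) (nat_lit 114) (Steps.bwd (nat_lit 3) (Steps.bwd (nat_lit 7) (Steps.fwd (nat_lit 1310720) (Steps.fwd (nat_lit 786432) (Steps.fwd (nat_lit 1835008) Steps.nil))))) (nat_lit 61) (nat_lit 5),
  Rule.mk (nat_lit 4) (nat_lit 114) (Steps.bwd (nat_lit 2) (Steps.bwd (nat_lit 6) (Steps.fwd (nat_lit 1048576) (Steps.fwd (nat_lit 786432) (Steps.fwd (nat_lit 1310720) Steps.nil))))) (nat_lit 58) (nat_lit 3),
  Rule.mk (nat_lit 4) (nat_lit 154) (Steps.bwd (nat_lit 7) (Steps.bwd (nat_lit 2) (Steps.bwd (nat_lit 6) (Steps.fwd (nat_lit 1048576) (Steps.bwd (nat_lit 7) (Steps.fwd (nat_lit 786432) (Steps.fwd (nat_lit 1310720) Steps.nil))))))) (nat_lit 86) (nat_lit 3),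
  Rule.mk (nat_lit 3) (nat_lit 274) (Steps.fwd (nat_lit 1310720) (Steps.bwd (nat_lit 6) (Steps.bwd (nat_lit 1) (Steps.fwd (nat_lit 1572864) (Steps.fwd (nat_lit 262144) (Steps.fwd (nat_lit 524288) (Steps.fwd (nat_lit 262144) (Steps.bwd (nat_lit 6) (Steps.bwd (nat_lit 1) (Steps.bwd (nat_lit 3) (Steps.fwd (nat_lit 262144) (Steps.bwd (nat_lit 6) (Steps.fwd (nat_lit 262144) Steps.nil))))))))))))) (nat_lit 35) (nat_lit 0),
  Rule.mk (nat_lit 8) (nat_lit 314) (Steps.bwd (nat_lit 4) (Steps.bwd (nat_lit 9) (Steps.bwd (nat_lit 4) (Steps.fwd (nat_lit 2359296) (Steps.bwd (nat_lit 4) (Steps.bwd (nat_lit 9) (Steps.fwd (nat_lit 1048576) (Steps.fwd (nat_lit 2359296) (Steps.bwd (nat_lit 4) (Steps.bwd (nat_lit 9) (Steps.fwd (nat_lit 1048576) (Steps.fwd (nat_lit 2359296) (Steps.fwd (nat_lit 1048576) (Steps.fwd (nat_lit 2097152) (Steps.fwd (nat_lit 1048576) Steps.nil)))))))))))))))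 (nat_lit 106) (nat_lit 1),
  Rule.mk (nat_lit 4) (nat_lit 114) (Steps.bwd (nat_lit 5) (Steps.fwd (nat_lit 1835008) (Steps.fwd (nat_lit 1048576) (Steps.bwd (nat_lit 6) (Steps.fwd (nat_lit 1835008) Steps.nil))))) (nat_lit 66) (nat_lit 1),
  Rule.mk (nat_lit 1) (nat_lit 154) (Steps.bwd (nat_lit 5) (Steps.fwd (nat_lit 786432) (Steps.bwd (nat_lit 1) (Steps.bwd (nat_lit 2) (Steps.bwd (nat_lit 5) (Steps.bwd (nat_lit 1) (Steps.fwd (nat_lit 786432) Steps.nil))))))) (nat_lit 70) (nat_lit 3),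
  Rule.mk (nat_lit 7) (nat_lit 154) (Steps.fwd (nat_lit 786432) (Steps.bwd (nat_lit 1) (Steps.fwd (nat_lit 786432) (Steps.fwd (nat_lit 1835008) (Steps.bwd (nat_lit 1) (Steps.fwd (nat_lit 786432) (Steps.bwd (nat_lit 1) Steps.nil))))))) (nat_lit 72) (nat_lit 4),
  Rule.mk (nat_lit 2) (nat_lit 154) (Steps.fwd (nat_lit 262144) (Steps.bwd (nat_lit 3) (Steps.fwd (nat_lit 262144) (Steps.fwd (nat_lit 786432) (Steps.fwd (nat_lit 262144) (Steps.bwd (nat_lit 3) (Steps.bwd (nat_lit 1) Steps.nil))))))) (nat_lit 68) (nat_lit 2),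
  Rule.mk (nat_lit 3) (nat_lit 154) (Steps.bwd (nat_lit 7) (Steps.fwd (nat_lit 1572864) (Steps.bwd (nat_lit 3) (Steps.fwd (nat_lit 1310720) (Steps.bwd (nat_lit 6) (Steps.fwd (nat_lit 524288) (Steps.fwd (nat_lit 1310720) Steps.nil))))))) (nat_lit 83) (nat_lit 0),
  Rule.mk (nat_lit 4) (nat_lit 154) (Steps.fwd (nat_lit 1835008) (Steps.fwd (nat_lit 262144) (Steps.bwd (nat_lit 4) (Steps.fwd (nat_lit 262144) (Steps.bwd (nat_lit 7) (Steps.fwd (nat_lit 1048576) (Steps.bwd (nat_lit 1) Steps.nil))))))) (nat_lit 76) (nat_lit 7),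
  Rule.mk (nat_lit 8) (nat_lit 314) (Steps.fwd (nat_lit 1048576) (Steps.fwd (nat_lit 2097152) (Steps.fwd (nat_lit 1048576) (Steps.fwd (nat_lit 2359296) (Steps.bwd (nat_lit 4) (Steps.bwd (nat_lit 9) (Steps.bwd (nat_lit 4) (Steps.fwd (nat_lit 2359296) (Steps.fwd (nat_lit 1048576) (Steps.fwd (nat_lit 2097152) (Steps.bwd (nat_lit 4) (Steps.bwd (nat_lit 8) (Steps.fwd (nat_lit 1048576) (Steps.fwd (nat_lit 2097152) (Steps.fwd (nat_lit 1048576) Steps.nil))))))))))))))) (nat_lit 106) (nat_lit 1),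
  Rule.mk (nat_lit 6) (nat_lit 274) (Steps.fwd (nat_lit 262144) (Steps.bwd (nat_lit 2) (Steps.bwd (nat_lit 1) (Steps.bwd (nat_lit 6) (Steps.fwd (nat_lit 262144) (Steps.fwd (nat_lit 786432) (Steps.bwd (nat_lit 1) (Steps.bwd (nat_lit 6) (Steps.bwd (nat_lit 1) (Steps.fwd (nat_lit 1572864) (Steps.fwd (nat_lit 1310720) (Steps.bwd (nat_lit 2) (Steps.fwd (nat_lit 262144) Steps.nil))))))))))))) (nat_lit 34) (nat_lit 3),
  Rule.mk (nat_lit 2) (nat_lit 154) (Steps.bwd (nat_lit 1) (Steps.bwd (nat_lit 3) (Steps.bwd (nat_lit 1) (Steps.bwd (nat_lit 2) (Steps.fwd (nat_lit 262144) (Steps.bwd (nat_lit 3) (Steps.fwd (nat_lit 262144) Steps.nil))))))) (nat_lit 68) (nat_lit 2),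
  Rule.mk (nat_lit 7) (nat_lit 114) (Steps.bwd (nat_lit 2) (Steps.bwd (nat_lit 5) (Steps.bwd (nat_lit 7) (Steps.bwd (nat_lit 3) (Steps.fwd (nat_lit 1310720) Steps.nil))))) (nat_lit 60) (nat_lit 0),
  Rule.mk (nat_lit 6) (nat_lit 274) (Steps.bwd (nat_lit 5) (Steps.fwd (nat_lit 786432) (Steps.fwd (nat_lit 262144) (Steps.bwd (nat_lit 6) (Steps.bwd (nat_lit 1) (Steps.fwd (nat_lit 786432) (Steps.bwd (nat_lit 1) (Steps.bwd (nat_lit 6) (Steps.bwd (nat_lit 1) (Steps.bwd (nat_lit 2) (Steps.fwd (nat_lit 262144) (Steps.fwd (nat_lit 1572864) (Steps.bwd (nat_lit 1) Steps.nil))))))))))))) (nat_lit 34) (nat_lit 13),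
  Rule.mk (nat_lit 0) (nat_lit 134) (Steps.bwd (nat_lit 1) (Steps.fwd (nat_lit 524288) (Steps.fwd (nat_lit 2097152) (Steps.fwd (nat_lit 262144) (Steps.bwd (nat_lit 8) (Steps.fwd (nat_lit 786432) Steps.nil)))))) (nat_lit 104) (nat_lit 2),
  Rule.mk (nat_lit 4) (nat_lit 314) (Steps.fwd (nat_lit 2097152) (Steps.bwd (nat_lit 4) (Steps.bwd (nat_lit 8) (Steps.bwd (nat_lit 4) (Steps.bwd (nat_lit 9) (Steps.bwd (nat_lit 4) (Steps.fwd (nat_lit 2359296) (Steps.fwd (nat_lit 1048576) (Steps.fwd (nat_lit 2097152) (Steps.fwd (nat_lit 1048576) (Steps.fwd (nat_lit 2359296) (Steps.bwd (nat_lit 4) (Steps.fwd (nat_lit 2097152) (Steps.bwd (nat_lit 4) (Steps.fwd (nat_lit 2359296) Steps.nil))))))))))))))) (nat_lit 106) (nat_lit 2),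
  Rule.mk (nat_lit 4) (nat_lit 314) (Steps.bwd (nat_lit 9) (Steps.bwd (nat_lit 4) (Steps.fwd (nat_lit 2359296) (Steps.bwd (nat_lit 4) (Steps.bwd (nat_lit 9) (Steps.fwd (nat_lit 1048576) (Steps.bwd (nat_lit 8) (Steps.fwd (nat_lit 1048576) (Steps.bwd (nat_lit 9) (Steps.bwd (nat_lit 4) (Steps.bwd (nat_lit 8) (Steps.fwd (nat_lit 1048576) (Steps.fwd (nat_lit 2097152) (Steps.bwd (nat_lit 4) (Steps.fwd (nat_lit 2359296) Steps.nil))))))))))))))) (nat_lit 106) (nat_lit 2),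
  Rule.mk (nat_lit 2) (nat_lit 114) (Steps.bwd (nat_lit 4) (Steps.fwd (nat_lit 1835008) (Steps.fwd (nat_lit 786432) (Steps.bwd (nat_lit 4) (Steps.bwd (nat_lit 7) Steps.nil))))) (nat_lit 56) (nat_lit 1),
  Rule.mk (nat_lit 4) (nat_lit 154) (Steps.fwd (nat_lit 1835008) (Steps.bwd (nat_lit 5) (Steps.fwd (nat_lit 524288) (Steps.bwd (nat_lit 4) (Steps.bwd (nat_lit 7) (Steps.fwd (nat_lit 1572864) (Steps.bwd (nat_lit 3) Steps.nil))))))) (nat_lit 89) (nat_lit 5),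
  Rule.mk (nat_lit 4) (nat_lit 314) (Steps.fwd (nat_lit 2359296) (Steps.bwd (nat_lit 4) (Steps.bwd (nat_lit 9) (Steps.bwd (nat_lit 4) (Steps.bwd (nat_lit 8) (Steps.bwd (nat_lit 4) (Steps.fwd (nat_lit 2097152) (Steps.fwd (nat_lit 1048576) (Steps.bwd (nat_lit 8) (Steps.bwd (nat_lit 4) (Steps.fwd (nat_lit 2097152) (Steps.fwd (nat_lit 1048576) (Steps.bwd (nat_lit 8) (Steps.fwd (nat_lit 1048576) (Steps.fwd (nat_lit 2097152) Steps.nil))))))))))))))) (nat_lit 106) (nat_lit 0),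
  Rule.mk (nat_lit 9) (nat_lit 314) (Steps.bwd (nat_lit 4) (Steps.fwd (nat_lit 2359296) (Steps.bwd (nat_lit 4) (Steps.bwd (nat_lit 9) (Steps.bwd (nat_lit 4) (Steps.bwd (nat_lit 8) (Steps.bwd (nat_lit 4) (Steps.fwd (nat_lit 2097152) (Steps.fwd (nat_lit 1048576) (Steps.fwd (nat_lit 2359296) (Steps.bwd (nat_lit 4) (Steps.bwd (nat_lit 9) (Steps.bwd (nat_lit 4) (Steps.fwd (nat_lit 2359296) (Steps.fwd (nat_lit 1048576) Steps.nil))))))))))))))) (nat_lit 106) (nat_lit 3),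
  Rule.mk (nat_lit 5) (nat_lit 114) (Steps.fwd (nat_lit 1835008) (Steps.fwd (nat_lit 524288) (Steps.bwd (nat_lit 5) (Steps.bwd (nat_lit 7) (Steps.bwd (nat_lit 2) Steps.nil))))) (nat_lit 60) (nat_lit 2),
  Rule.mk (nat_lit 6) (nat_lit 114) (Steps.fwd (nat_lit 1835008) (Steps.fwd (nat_lit 524288) (Steps.fwd (nat_lit 1572864) (Steps.bwd (nat_lit 7) (Steps.bwd (nat_lit 2) Steps.nil))))) (nat_lit 62) (nat_lit 2),
  Rule.mk (nat_lit 7) (nat_lit 94) (Steps.fwd (nat_lit 1310720) (Steps.bwd (nat_lit 6) (Steps.fwd (nat_lit 1310720) (Steps.bwd (nat_lit 6) Steps.nil)))) (nat_lit 25) (nat_lit 1),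
  Rule.mk (nat_lit 7) (nat_lit 114) (Steps.bwd (nat_lit 6) (Steps.bwd (nat_lit 4) (Steps.fwd (nat_lit 1835008) (Steps.bwd (nat_lit 5) (Steps.fwd (nat_lit 1048576) Steps.nil))))) (nat_lit 67) (nat_lit 1),
  Rule.mk (nat_lit 3) (nat_lit 154) (Steps.bwd (nat_lit 7) (Steps.bwd (nat_lit 6) (Steps.bwd (nat_lit 4) (Steps.bwd (nat_lit 3) (Steps.fwd (nat_lit 1835008) (Steps.bwd (nat_lit 5) (Steps.fwd (nat_lit 1048576) Steps.nil))))))) (nat_lit 79) (nat_lit 0),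
  Rule.mk (nat_lit 2) (nat_lit 154) (Steps.bwd (nat_lit 7) (Steps.bwd (nat_lit 6) (Steps.bwd (nat_lit 4) (Steps.fwd (nat_lit 786432) (Steps.fwd (nat_lit 1835008) (Steps.bwd (nat_lit 5) (Steps.fwd (nat_lit 1048576) Steps.nil))))))) (nat_lit 92) (nat_lit 5),
  Rule.mk (nat_lit 1) (nat_lit 154) (Steps.bwd (nat_lit 4) (Steps.bwd (nat_lit 1) (Steps.fwd (nat_lit 1835008) (Steps.fwd (nat_lit 1048576) (Steps.fwd (nat_lit 262144) (Steps.fwd (nat_lit 1048576) (Steps.bwd (nat_lit 7) Steps.nil))))))) (nat_lit 76) (nat_lit 1),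
  Rule.mk (nat_lit 8) (nat_lit 314) (Steps.bwd (nat_lit 4) (Steps.bwd (nat_lit 9) (Steps.bwd (nat_lit 4) (Steps.bwd (nat_lit 8) (Steps.bwd (nat_lit 4) (Steps.bwd (nat_lit 9) (Steps.fwd (nat_lit 1048576) (Steps.fwd (nat_lit 2359296) (Steps.fwd (nat_lit 1048576) (Steps.bwd (nat_lit 9) (Steps.fwd (nat_lit 1048576) (Steps.fwd (nat_lit 2359296) (Steps.fwd (nat_lit 1048576) (Steps.bwd (nat_lit 9) (Steps.fwd (nat_lit 1048576) Steps.nil))))))))))))))) (nat_lit 106) (nat_lit 1),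
  Rule.mk (nat_lit 1) (nat_lit 274) (Steps.bwd (nat_lit 3) (Steps.bwd (nat_lit 1) (Steps.fwd (nat_lit 1572864) (Steps.bwd (nat_lit 1) (Steps.bwd (nat_lit 3) (Steps.bwd (nat_lit 1) (Steps.fwd (nat_lit 1572864) (Steps.bwd (nat_lit 1) (Steps.bwd (nat_lit 3) (Steps.fwd (nat_lit 1310720) (Steps.bwd (nat_lit 6) (Steps.fwd (nat_lit 262144) (Steps.fwd (nat_lit 1572864) Steps.nil))))))))))))) (nat_lit 35) (nat_lit 5),
  Rule.mk (nat_lit 0) (nat_lit 134) (Steps.bwd (nat_lit 4) (Steps.bwd (nat_lit 7) (Steps.fwd (nat_lit 1572864) (Steps.fwd (nat_lit 1048576) (Steps.fwd (nat_lit 1835008) (Steps.bwd (nat_lit 5) Steps.nil)))))) (nat_lit 67) (nat_lit 5),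
  Rule.mk (nat_lit 1) (nat_lit 154) (Steps.fwd (nat_lit 786432) (Steps.bwd (nat_lit 1) (Steps.bwd (nat_lit 3) (Steps.bwd (nat_lit 1) (Steps.bwd (nat_lit 2) (Steps.fwd (nat_lit 262144) (Steps.bwd (nat_lit 3) Steps.nil))))))) (nat_lit 68) (nat_lit 1),
  Rule.mk (nat_lit 1) (nat_lit 154) (Steps.bwd (nat_lit 6) (Steps.fwd (nat_lit 262144) (Steps.fwd (nat_lit 1048576) (Steps.bwd (nat_lit 1) (Steps.fwd (nat_lit 1572864) (Steps.fwd (nat_lit 262144) (Steps.fwd (nat_lit 1048576) Steps.nil))))))) (nat_lit 74) (nat_lit 3),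
  Rule.mk (nat_lit 3) (nat_lit 274) (Steps.bwd (nat_lit 1) (Steps.bwd (nat_lit 6) (Steps.fwd (nat_lit 262144) (Steps.bwd (nat_lit 3) (Steps.bwd (nat_lit 5) (Steps.bwd (nat_lit 6) (Steps.bwd (nat_lit 1) (Steps.fwd (nat_lit 1572864) (Steps.fwd (nat_lit 262144) (Steps.bwd (nat_lit 3) (Steps.bwd (nat_lit 1) (Steps.bwd (nat_lit 6) (Steps.fwd (nat_lit 262144) Steps.nil))))))))))))) (nat_lit 35) (nat_lit 10),
  Rule.mk (nat_lit 2) (nat_lit 274) (Steps.bwd (nat_lit 1) (Steps.fwd (nat_lit 1572864) (Steps.fwd (nat_lit 262144) (Steps.bwd (nat_lit 6) (Steps.fwd (nat_lit 1310720) (Steps.bwd (nat_lit 2) (Steps.fwd (nat_lit 262144) (Steps.bwd (nat_lit 6) (Steps.fwd (nat_lit 262144) (Steps.fwd (nat_lit 786432) (Steps.fwd (nat_lit 262144) (Steps.bwd (nat_lit 6) (Steps.bwd (nat_lit 1) Steps.nil))))))))))))) (nat_lit 34) (nat_lit 9),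
  Rule.mk (nat_lit 1) (nat_lit 154) (Steps.bwd (nat_lit 4) (Steps.fwd (nat_lit 262144) (Steps.bwd (nat_lit 6) (Steps.fwd (nat_lit 262144) (Steps.bwd (nat_lit 4) (Steps.bwd (nat_lit 1) (Steps.fwd (nat_lit 1572864) Steps.nil))))))) (nat_lit 74) (nat_lit 1),
  Rule.mk (nat_lit 2) (nat_lit 114) (Steps.bwd (nat_lit 4) (Steps.bwd (nat_lit 5) (Steps.bwd (nat_lit 2) (Steps.fwd (nat_lit 1048576) (Steps.bwd (nat_lit 6) Steps.nil))))) (nat_lit 54) (nat_lit 1),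
  Rule.mk (nat_lit 2) (nat_lit 154) (Steps.bwd (nat_lit 4) (Steps.fwd (nat_lit 1835008) (Steps.bwd (nat_lit 5) (Steps.bwd (nat_lit 2) (Steps.fwd (nat_lit 1048576) (Steps.bwd (nat_lit 7) (Steps.bwd (nat_lit 6) Steps.nil))))))) (nat_lit 80) (nat_lit 1),
  Rule.mk (nat_lit 7) (nat_lit 154) (Steps.bwd (nat_lit 1) (Steps.bwd (nat_lit 4) (Steps.bwd (nat_lit 1) (Steps.fwd (nat_lit 1835008) (Steps.fwd (nat_lit 1048576) (Steps.fwd (nat_lit 262144) (Steps.bwd (nat_lit 4) Steps.nil))))))) (nat_lit 76) (nat_lit 0),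
  Rule.mk (nat_lit 2) (nat_lit 274) (Steps.bwd (nat_lit 1) (Steps.fwd (nat_lit 1572864) (Steps.bwd (nat_lit 1) (Steps.fwd (nat_lit 786432) (Steps.fwd (nat_lit 262144) (Steps.fwd (nat_lit 1572864) (Steps.bwd (nat_lit 1) (Steps.bwd (nat_lit 2) (Steps.fwd (nat_lit 262144) (Steps.fwd (nat_lit 1572864) (Steps.bwd (nat_lit 1) (Steps.bwd (nat_lit 6) (Steps.bwd (nat_lit 5) Steps.nil))))))))))))) (nat_lit 34) (nat_lit 1),
  Rule.mk (nat_lit 9) (nat_lit 314) (Steps.bwd (nat_lit 4) (Steps.bwd (nat_lit 8) (Steps.bwd (nat_lit 4) (Steps.bwd (nat_lit 9) (Steps.fwd (nat_lit 1048576) (Steps.fwd (nat_lit 2359296) (Steps.bwd (nat_lit 4) (Steps.fwd (nat_lit 2097152) (Steps.fwd (nat_lit 1048576) (Steps.bwd (nat_lit 8) (Steps.fwd (nat_lit 1048576) (Steps.fwd (nat_lit 2097152) (Steps.bwd (nat_lit 4) (Steps.fwd (nat_lit 2359296) (Steps.fwd (nat_lit 1048576) Steps.nil))))))))))))))) (nat_lit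 106) (nat_lit 3),
  Rule.mk (nat_lit 5) (nat_lit 114) (Steps.bwd (nat_lit 7) (Steps.bwd (nat_lit 1) (Steps.bwd (nat_lit 5) (Steps.fwd (nat_lit 1835008) (Steps.fwd (nat_lit 262144) Steps.nil))))) (nat_lit 52) (nat_lit 2)]
noncomputable def R_108 : List (Rule) := [Rule.mk (nat_lit 4) (nat_lit 314) (Steps.bwd (nat_lit 8) (Steps.bwd (nat_lit 4) (Steps.fwd (nat_lit 2097152) (Steps.bwd (nat_lit 4) (Steps.bwd (nat_lit 8) (Steps.fwd (nat_lit 1048576) (Steps.bwd (nat_lit 9) (Steps.fwd (nat_lit 1048576) (Steps.bwd (nat_lit 8) (Steps.bwd (nat_lit 4) (Steps.fwd (nat_lit 2097152) (Steps.bwd (nat_lit 4) (Steps.fwd (nat_lit 2359296) (Steps.bwd (nat_lit 4) (Steps.fwd (nat_lit 2097152) Steps.nil))))))))))))))) (nat_lit 106) (nat_lit 0),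
  Rule.mk (nat_lit 2) (nat_lit 154) (Steps.bwd (nat_lit 1) (Steps.bwd (nat_lit 7) (Steps.fwd (nat_lit 786432) (Steps.fwd (nat_lit 262144) (Steps.bwd (nat_lit 2) (Steps.bwd (nat_lit 7) (Steps.fwd (nat_lit 262144) Steps.nil))))))) (nat_lit 72) (nat_lit 2),
  Rule.mk (nat_lit 3) (nat_lit 154) (Steps.bwd (nat_lit 1) (Steps.fwd (nat_lit 1310720) (Steps.bwd (nat_lit 3) (Steps.bwd (nat_lit 1) (Steps.bwd (nat_lit 3) (Steps.fwd (nat_lit 1310720) (Steps.fwd (nat_lit 262144) Steps.nil))))))) (nat_lit 71) (nat_lit 7),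
  Rule.mk (nat_lit 4) (nat_lit 154) (Steps.fwd (nat_lit 1572864) (Steps.bwd (nat_lit 7) (Steps.bwd (nat_lit 2) (Steps.bwd (nat_lit 4) (Steps.bwd (nat_lit 5) (Steps.fwd (nat_lit 1835008) (Steps.fwd (nat_lit 786432) Steps.nil))))))) (nat_lit 78) (nat_lit 6),
  Rule.mk (nat_lit 4) (nat_lit 154) (Steps.fwd (nat_lit 524288) (Steps.fwd (nat_lit 1835008) (Steps.bwd (nat_lit 6) (Steps.bwd (nat_lit 4) (Steps.fwd (nat_lit 524288) (Steps.fwd (nat_lit 1835008) (Steps.fwd (nat_lit 1310720) Steps.nil))))))) (nat_lit 79) (nat_lit 7),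
  Rule.mk (nat_lit 4) (nat_lit 154) (Steps.fwd (nat_lit 262144) (Steps.bwd (nat_lit 4) (Steps.bwd (nat_lit 7) (Steps.fwd (nat_lit 262144) (Steps.fwd (nat_lit 1048576) (Steps.bwd (nat_lit 1) (Steps.bwd (nat_lit 7) Steps.nil))))))) (nat_lit 76) (nat_lit 5),
  Rule.mk (nat_lit 7) (nat_lit 154) (Steps.fwd (nat_lit 1048576) (Steps.bwd (nat_lit 1) (Steps.bwd (nat_lit 4) (Steps.fwd (nat_lit 1835008) (Steps.fwd (nat_lit 262144) (Steps.bwd (nat_lit 4) (Steps.bwd (nat_lit 1) Steps.nil))))))) (nat_lit 76) (nat_lit 4),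
  Rule.mk (nat_lit 0) (nat_lit 134) (Steps.bwd (nat_lit 4) (Steps.fwd (nat_lit 524288) (Steps.bwd (nat_lit 7) (Steps.fwd (nat_lit 1048576) (Steps.fwd (nat_lit 524288) (Steps.bwd (nat_lit 7) Steps.nil)))))) (nat_lit 57) (nat_lit 1),
  Rule.mk (nat_lit 1) (nat_lit 274) (Steps.fwd (nat_lit 1572864) (Steps.bwd (nat_lit 1) (Steps.bwd (nat_lit 6) (Steps.fwd (nat_lit 1310720) (Steps.fwd (nat_lit 786432) (Steps.bwd (nat_lit 1) (Steps.fwd (nat_lit 1572864) (Steps.fwd (nat_lit 262144) (Steps.bwd (nat_lit 2) (Steps.bwd (nat_lit 1) (Steps.fwd (nat_lit 1572864) (Steps.fwd (nat_lit 262144) (Steps.bwd (nat_lit 2) Steps.nil))))))))))))) (nat_lit 34) (nat_lit 10),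
  Rule.mk (nat_lit 1) (nat_lit 154) (Steps.bwd (nat_lit 4) (Steps.bwd (nat_lit 1) (Steps.fwd (nat_lit 1835008) (Steps.bwd (nat_lit 4) (Steps.bwd (nat_lit 1) (Steps.fwd (nat_lit 1048576) (Steps.bwd (nat_lit 7) Steps.nil))))))) (nat_lit 76) (nat_lit 1),
  Rule.mk (nat_lit 7) (nat_lit 114) (Steps.bwd (nat_lit 1) (Steps.bwd (nat_lit 5) (Steps.bwd (nat_lit 7) (Steps.fwd (nat_lit 262144) (Steps.bwd (nat_lit 5) Steps.nil))))) (nat_lit 52) (nat_lit 0),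
  Rule.mk (nat_lit 1) (nat_lit 154) (Steps.bwd (nat_lit 4) (Steps.fwd (nat_lit 262144) (Steps.fwd (nat_lit 1835008) (Steps.bwd (nat_lit 4) (Steps.bwd (nat_lit 1) (Steps.fwd (nat_lit 1048576) (Steps.bwd (nat_lit 7) Steps.nil))))))) (nat_lit 76) (nat_lit 1),
  Rule.mk (nat_lit 2) (nat_lit 114) (Steps.bwd (nat_lit 4) (Steps.bwd (nat_lit 7) (Steps.bwd (nat_lit 2) (Steps.fwd (nat_lit 1048576) (Steps.bwd (nat_lit 7) Steps.nil))))) (nat_lit 56) (nat_lit 1),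
  Rule.mk (nat_lit 4) (nat_lit 114) (Steps.fwd (nat_lit 1572864) (Steps.fwd (nat_lit 786432) (Steps.bwd (nat_lit 4) (Steps.fwd (nat_lit 1310720) (Steps.fwd (nat_lit 786432) Steps.nil))))) (nat_lit 54) (nat_lit 5),
  Rule.mk (nat_lit 7) (nat_lit 114) (Steps.bwd (nat_lit 4) (Steps.bwd (nat_lit 6) (Steps.bwd (nat_lit 7) (Steps.bwd (nat_lit 4) (Steps.bwd (nat_lit 5) Steps.nil))))) (nat_lit 66) (nat_lit 3),
  Rule.mk (nat_lit 7) (nat_lit 114) (Steps.bwd (nat_lit 4) (Steps.fwd (nat_lit 1572864) (Steps.bwd (nat_lit 7) (Steps.fwd (nat_lit 1048576) (Steps.bwd (nat_lit 5) Steps.nil))))) (nat_lit 66) (nat_lit 3),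
  Rule.mk (nat_lit 3) (nat_lit 114) (Steps.bwd (nat_lit 4) (Steps.bwd (nat_lit 5) (Steps.bwd (nat_lit 3) (Steps.fwd (nat_lit 1048576) (Steps.fwd (nat_lit 1572864) Steps.nil))))) (nat_lit 59) (nat_lit 3),
  Rule.mk (nat_lit 7) (nat_lit 154) (Steps.bwd (nat_lit 4) (Steps.bwd (nat_lit 5) (Steps.bwd (nat_lit 3) (Steps.fwd (nat_lit 1835008) (Steps.fwd (nat_lit 1048576) (Steps.fwd (nat_lit 1572864) (Steps.bwd (nat_lit 3) Steps.nil))))))) (nat_lit 87) (nat_lit 5),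
  Rule.mk (nat_lit 1) (nat_lit 154) (Steps.bwd (nat_lit 4) (Steps.bwd (nat_lit 1) (Steps.bwd (nat_lit 7) (Steps.fwd (nat_lit 1048576) (Steps.fwd (nat_lit 262144) (Steps.fwd (nat_lit 1048576) (Steps.bwd (nat_lit 7) Steps.nil))))))) (nat_lit 76) (nat_lit 1),
  Rule.mk (nat_lit 4) (nat_lit 314) (Steps.bwd (nat_lit 8) (Steps.fwd (nat_lit 1048576) (Steps.bwd (nat_lit 9) (Steps.bwd (nat_lit 4) (Steps.bwd (nat_lit 8) (Steps.bwd (nat_lit 4) (Steps.bwd (nat_lit 9) (Steps.bwd (nat_lit 4) (Steps.bwd (nat_lit 8) (Steps.fwd (nat_lit 1048576) (Steps.fwd (nat_lit 2097152) (Steps.fwd (nat_lit 1048576) (Steps.fwd (nat_lit 2359296) (Steps.bwd (nat_lit 4) (Steps.bwd (nat_lit 9) Steps.nil))))))))))))))) (nat_lit 106) (nat_lit 0),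
  Rule.mk (nat_lit 3) (nat_lit 154) (Steps.bwd (nat_lit 1) (Steps.bwd (nat_lit 7) (Steps.bwd (nat_lit 3) (Steps.bwd (nat_lit 1) (Steps.bwd (nat_lit 3) (Steps.bwd (nat_lit 7) (Steps.fwd (nat_lit 262144) Steps.nil))))))) (nat_lit 73) (nat_lit 7),
  Rule.mk (nat_lit 5) (nat_lit 114) (Steps.fwd (nat_lit 1835008) (Steps.bwd (nat_lit 4) (Steps.fwd (nat_lit 1572864) (Steps.bwd (nat_lit 7) (Steps.fwd (nat_lit 1048576) Steps.nil))))) (nat_lit 66) (nat_lit 2),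
  Rule.mk (nat_lit 2) (nat_lit 114) (Steps.fwd (nat_lit 1835008) (Steps.bwd (nat_lit 4) (Steps.bwd (nat_lit 2) (Steps.fwd (nat_lit 1835008) (Steps.fwd (nat_lit 1048576) Steps.nil))))) (nat_lit 64) (nat_lit 1),
  Rule.mk (nat_lit 2) (nat_lit 154) (Steps.fwd (nat_lit 1835008) (Steps.bwd (nat_lit 1) (Steps.bwd (nat_lit 2) (Steps.bwd (nat_lit 1) (Steps.fwd (nat_lit 1835008) (Steps.fwd (nat_lit 786432) (Steps.fwd (nat_lit 262144) Steps.nil))))))) (nat_lit 72) (nat_lit 7),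
  Rule.mk (nat_lit 5) (nat_lit 114) (Steps.bwd (nat_lit 7) (Steps.bwd (nat_lit 4) (Steps.bwd (nat_lit 6) (Steps.bwd (nat_lit 7) (Steps.bwd (nat_lit 4) Steps.nil))))) (nat_lit 66) (nat_lit 2),
  Rule.mk (nat_lit 9) (nat_lit 314) (Steps.bwd (nat_lit 4) (Steps.bwd (nat_lit 8) (Steps.bwd (nat_lit 4) (Steps.bwd (nat_lit 9) (Steps.fwd (nat_lit 1048576) (Steps.fwd (nat_lit 2359296) (Steps.fwd (nat_lit 1048576) (Steps.bwd (nat_lit 9) (Steps.fwd (nat_lit 1048576) (Steps.bwd (nat_lit 8) (Steps.fwd (nat_lit 1048576) (Steps.bwd (nat_lit 9) (Steps.fwd (nat_lit 1048576) (Steps.bwd (nat_lit 8) (Steps.bwd (nat_lit 4) Steps.nil))))))))))))))) (nat_lit 106) (nat_lit 3),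
  Rule.mk (nat_lit 6) (nat_lit 274) (Steps.bwd (nat_lit 1) (Steps.fwd (nat_lit 1572864) (Steps.fwd (nat_lit 1310720) (Steps.fwd (nat_lit 786432) (Steps.fwd (nat_lit 262144) (Steps.bwd (nat_lit 6) (Steps.fwd (nat_lit 262144) (Steps.bwd (nat_lit 2) (Steps.bwd (nat_lit 1) (Steps.bwd (nat_lit 6) (Steps.fwd (nat_lit 262144) (Steps.bwd (nat_lit 2) (Steps.fwd (nat_lit 262144) Steps.nil))))))))))))) (nat_lit 34) (nat_lit 11),
  Rule.mk (nat_lit 8) (nat_lit 314) (Steps.bwd (nat_lit 4) (Steps.bwd (nat_lit 9) (Steps.bwd (nat_lit 4) (Steps.bwd (nat_lit 8) (Steps.fwd (nat_lit 1048576) (Steps.fwd (nat_lit 2097152) (Steps.bwd (nat_lit 4) (Steps.bwd (nat_lit 8) (Steps.bwd (nat_lit 4) (Steps.bwd (nat_lit 9) (Steps.bwd (nat_lit 4) (Steps.bwd (nat_lit 8) (Steps.bwd (nat_lit 4) (Steps.bwd (nat_lit 9) (Steps.fwd (nat_lit 1048576) Steps.nil))))))))))))))) (nat_lit 106) (nat_lit 1),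
  Rule.mk (nat_lit 9) (nat_lit 314) (Steps.bwd (nat_lit 4) (Steps.bwd (nat_lit 8) (Steps.bwd (nat_lit 4) (Steps.fwd (nat_lit 2097152) (Steps.bwd (nat_lit 4) (Steps.fwd (nat_lit 2359296) (Steps.fwd (nat_lit 1048576) (Steps.bwd (nat_lit 9) (Steps.bwd (nat_lit 4) (Steps.bwd (nat_lit 8) (Steps.bwd (nat_lit 4) (Steps.bwd (nat_lit 9) (Steps.fwd (nat_lit 1048576) (Steps.fwd (nat_lit 2359296) (Steps.fwd (nat_lit 1048576) Steps.nil))))))))))))))) (nat_lit 106) (nat_lit 3),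
  Rule.mk (nat_lit 4) (nat_lit 314) (Steps.bwd (nat_lit 9) (Steps.bwd (nat_lit 4) (Steps.bwd (nat_lit 8) (Steps.bwd (nat_lit 4) (Steps.bwd (nat_lit 9) (Steps.fwd (nat_lit 1048576) (Steps.fwd (nat_lit 2359296) (Steps.fwd (nat_lit 1048576) (Steps.fwd (nat_lit 2097152) (Steps.bwd (nat_lit 4) (Steps.fwd (nat_lit 2359296) (Steps.bwd (nat_lit 4) (Steps.bwd (nat_lit 9) (Steps.fwd (nat_lit 1048576) (Steps.fwd (nat_lit 2359296) Steps.nil))))))))))))))) (nat_lit 106) (nat_lit 2),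
  Rule.mk (nat_lit 9) (nat_lit 314) (Steps.bwd (nat_lit 4) (Steps.bwd (nat_lit 8) (Steps.fwd (nat_lit 1048576) (Steps.fwd (nat_lit 2097152) (Steps.fwd (nat_lit 1048576) (Steps.bwd (nat_lit 8) (Steps.bwd (nat_lit 4) (Steps.bwd (nat_lit 9) (Steps.bwd (nat_lit 4) (Steps.bwd (nat_lit 8) (Steps.bwd (nat_lit 4) (Steps.bwd (nat_lit 9) (Steps.bwd (nat_lit 4) (Steps.fwd (nat_lit 2359296) (Steps.bwd (nat_lit 4) Steps.nil))))))))))))))) (nat_lit 106) (nat_lit 3),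
  Rule.mk (nat_lit 4) (nat_lit 314) (Steps.bwd (nat_lit 8) (Steps.bwd (nat_lit 4) (Steps.bwd (nat_lit 9) (Steps.bwd (nat_lit 4) (Steps.fwd (nat_lit 2359296) (Steps.bwd (nat_lit 4) (Steps.fwd (nat_lit 2097152) (Steps.fwd (nat_lit 1048576) (Steps.bwd (nat_lit 8) (Steps.bwd (nat_lit 4) (Steps.fwd (nat_lit 2097152) (Steps.bwd (nat_lit 4) (Steps.bwd (nat_lit 8) (Steps.fwd (nat_lit 1048576) (Steps.fwd (nat_lit 2097152) Steps.nil))))))))))))))) (nat_lit 106) (nat_lit 0),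
  Rule.mk (nat_lit 9) (nat_lit 314) (Steps.bwd (nat_lit 4) (Steps.bwd (nat_lit 8) (Steps.bwd (nat_lit 4) (Steps.fwd (nat_lit 2097152) (Steps.bwd (nat_lit 4) (Steps.fwd (nat_lit 2359296) (Steps.fwd (nat_lit 1048576) (Steps.fwd (nat_lit 2097152) (Steps.fwd (nat_lit 1048576) (Steps.fwd (nat_lit 2359296) (Steps.fwd (nat_lit 1048576) (Steps.fwd (nat_lit 2097152) (Steps.bwd (nat_lit 4) (Steps.bwd (nat_lit 8) (Steps.bwd (nat_lit 4) Steps.nil))))))))))))))) (nat_lit 106) (nat_lit 3),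
  Rule.mk (nat_lit 9) (nat_lit 314) (Steps.bwd (nat_lit 4) (Steps.fwd (nat_lit 2359296) (Steps.bwd (nat_lit 4) (Steps.bwd (nat_lit 9) (Steps.bwd (nat_lit 4) (Steps.bwd (nat_lit 8) (Steps.fwd (nat_lit 1048576) (Steps.bwd (nat_lit 9) (Steps.bwd (nat_lit 4) (Steps.bwd (nat_lit 8) (Steps.bwd (nat_lit 4) (Steps.fwd (nat_lit 2097152) (Steps.fwd (nat_lit 1048576) (Steps.fwd (nat_lit 2359296) (Steps.fwd (nat_lit 1048576) Steps.nil))))))))))))))) (nat_lit 106) (nat_lit 3),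
  Rule.mk (nat_lit 4) (nat_lit 314) (Steps.bwd (nat_lit 8) (Steps.bwd (nat_lit 4) (Steps.bwd (nat_lit 9) (Steps.bwd (nat_lit 4) (Steps.fwd (nat_lit 2359296) (Steps.fwd (nat_lit 1048576) (Steps.bwd (nat_lit 9) (Steps.fwd (nat_lit 1048576) (Steps.bwd (nat_lit 8) (Steps.bwd (nat_lit 4) (Steps.bwd (nat_lit 9) (Steps.bwd (nat_lit 4) (Steps.fwd (nat_lit 2359296) (Steps.bwd (nat_lit 4) (Steps.bwd (nat_lit 9) Steps.nil))))))))))))))) (nat_lit 106) (nat_lit 0),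
  Rule.mk (nat_lit 4) (nat_lit 314) (Steps.bwd (nat_lit 9) (Steps.bwd (nat_lit 4) (Steps.fwd (nat_lit 2359296) (Steps.bwd (nat_lit 4) (Steps.fwd (nat_lit 2097152) (Steps.bwd (nat_lit 4) (Steps.fwd (nat_lit 2359296) (Steps.fwd (nat_lit 1048576) (Steps.fwd (nat_lit 2097152) (Steps.fwd (nat_lit 1048576) (Steps.fwd (nat_lit 2359296) (Steps.bwd (nat_lit 4) (Steps.bwd (nat_lit 9) (Steps.fwd (nat_lit 1048576) (Steps.bwd (nat_lit 8) Steps.nil))))))))))))))) (nat_lit 106) (nat_lit 2),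
  Rule.mk (nat_lit 1) (nat_lit 154) (Steps.bwd (nat_lit 4) (Steps.bwd (nat_lit 7) (Steps.fwd (nat_lit 262144) (Steps.fwd (nat_lit 1048576) (Steps.bwd (nat_lit 1) (Steps.fwd (nat_lit 1835008) (Steps.bwd (nat_lit 4) Steps.nil))))))) (nat_lit 76) (nat_lit 6),
  Rule.mk (nat_lit 8) (nat_lit 74) (Steps.fwd (nat_lit 1572864) (Steps.fwd (nat_lit 2359296) (Steps.fwd (nat_lit 1572864) Steps.nil))) (nat_lit 102) (nat_lit 0),
  Rule.mk (nat_lit 6) (nat_lit 274) (Steps.bwd (nat_lit 1) (Steps.fwd (nat_lit 1572864) (Steps.fwd (nat_lit 1310720) (Steps.bwd (nat_lit 2) (Steps.bwd (nat_lit 1) (Steps.bwd (nat_lit 6) (Steps.fwd (nat_lit 262144) (Steps.fwd (nat_lit 786432) (Steps.bwd (nat_lit 1) (Steps.bwd (nat_lit 6) (Steps.fwd (nat_lit 262144) (Steps.fwd (nat_lit 786432) (Steps.fwd (nat_lit 262144) Steps.nil))))))))))))) (nat_lit 34) (nat_lit 11),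
  Rule.mk (nat_lit 8) (nat_lit 314) (Steps.bwd (nat_lit 4) (Steps.fwd (nat_lit 2097152) (Steps.fwd (nat_lit 1048576) (Steps.fwd (nat_lit 2359296) (Steps.fwd (nat_lit 1048576) (Steps.fwd (nat_lit 2097152) (Steps.bwd (nat_lit 4) (Steps.fwd (nat_lit 2359296) (Steps.bwd (nat_lit 4) (Steps.bwd (nat_lit 9) (Steps.fwd (nat_lit 1048576) (Steps.fwd (nat_lit 2359296) (Steps.fwd (nat_lit 1048576) (Steps.fwd (nat_lit 2097152) (Steps.fwd (nat_lit 1048576) Steps.nil))))))))))))))) (nat_lit 106) (nat_lit 1),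
  Rule.mk (nat_lit 1) (nat_lit 154) (Steps.fwd (nat_lit 1048576) (Steps.bwd (nat_lit 1) (Steps.bwd (nat_lit 6) (Steps.bwd (nat_lit 1) (Steps.fwd (nat_lit 1048576) (Steps.fwd (nat_lit 262144) (Steps.bwd (nat_lit 6) Steps.nil))))))) (nat_lit 74) (nat_lit 1),
  Rule.mk (nat_lit 4) (nat_lit 314) (Steps.bwd (nat_lit 9) (Steps.bwd (nat_lit 4) (Steps.fwd (nat_lit 2359296) (Steps.fwd (nat_lit 1048576) (Steps.fwd (nat_lit 2097152) (Steps.fwd (nat_lit 1048576) (Steps.bwd (nat_lit 8) (Steps.fwd (nat_lit 1048576) (Steps.bwd (nat_lit 9) (Steps.bwd (nat_lit 4) (Steps.bwd (nat_lit 8) (Steps.fwd (nat_lit 1048576) (Steps.bwd (nat_lit 9) (Steps.bwd (nat_lit 4) (Steps.fwd (nat_lit 2359296) Steps.nil))))))))))))))) (nat_lit 106) (nat_lit 2),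
  Rule.mk (nat_lit 1) (nat_lit 154) (Steps.fwd (nat_lit 1572864) (Steps.fwd (nat_lit 262144) (Steps.fwd (nat_lit 1048576) (Steps.fwd (nat_lit 262144) (Steps.fwd (nat_lit 1572864) (Steps.bwd (nat_lit 1) (Steps.bwd (nat_lit 4) Steps.nil))))))) (nat_lit 74) (nat_lit 3),
  Rule.mk (nat_lit 4) (nat_lit 314) (Steps.bwd (nat_lit 9) (Steps.bwd (nat_lit 4) (Steps.bwd (nat_lit 8) (Steps.bwd (nat_lit 4) (Steps.bwd (nat_lit 9) (Steps.fwd (nat_lit 1048576) (Steps.fwd (nat_lit 2359296) (Steps.bwd (nat_lit 4) (Steps.fwd (nat_lit 2097152) (Steps.bwd (nat_lit 4) (Steps.fwd (nat_lit 2359296) (Steps.bwd (nat_lit 4) (Steps.bwd (nat_lit 9) (Steps.bwd (nat_lit 4) (Steps.fwd (nat_lit 2359296) Steps.nil))))))))))))))) (nat_lit 106) (nat_lit 2),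
  Rule.mk (nat_lit 8) (nat_lit 314) (Steps.bwd (nat_lit 4) (Steps.bwd (nat_lit 9) (Steps.fwd (nat_lit 1048576) (Steps.bwd (nat_lit 8) (Steps.fwd (nat_lit 1048576) (Steps.bwd (nat_lit 9) (Steps.fwd (nat_lit 1048576) (Steps.fwd (nat_lit 2359296) (Steps.fwd (nat_lit 1048576) (Steps.bwd (nat_lit 9) (Steps.fwd (nat_lit 1048576) (Steps.fwd (nat_lit 2359296) (Steps.fwd (nat_lit 1048576) (Steps.fwd (nat_lit 2097152) (Steps.bwd (nat_lit 4) Steps.nil))))))))))))))) (nat_lit 106) (nat_lit 1),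
  Rule.mk (nat_lit 1) (nat_lit 154) (Steps.fwd (nat_lit 1048576) (Steps.bwd (nat_lit 1) (Steps.fwd (nat_lit 1572864) (Steps.fwd (nat_lit 262144) (Steps.fwd (nat_lit 1048576) (Steps.fwd (nat_lit 262144) (Steps.bwd (nat_lit 6) Steps.nil))))))) (nat_lit 74) (nat_lit 1),
  Rule.mk (nat_lit 4) (nat_lit 314) (Steps.bwd (nat_lit 8) (Steps.bwd (nat_lit 4) (Steps.bwd (nat_lit 9) (Steps.fwd (nat_lit 1048576) (Steps.fwd (nat_lit 2359296) (Steps.bwd (nat_lit 4) (Steps.bwd (nat_lit 9) (Steps.bwd (nat_lit 4) (Steps.fwd (nat_lit 2359296) (Steps.fwd (nat_lit 1048576) (Steps.fwd (nat_lit 2097152) (Steps.fwd (nat_lit 1048576) (Steps.fwd (nat_lit 2359296) (Steps.fwd (nat_lit 1048576) (Steps.fwd (nat_lit 2097152) Steps.nil))))))))))))))) (nat_lit 106) (nat_lit 0),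
  Rule.mk (nat_lit 8) (nat_lit 314) (Steps.bwd (nat_lit 4) (Steps.bwd (nat_lit 9) (Steps.bwd (nat_lit 4) (Steps.fwd (nat_lit 2359296) (Steps.bwd (nat_lit 4) (Steps.bwd (nat_lit 9) (Steps.bwd (nat_lit 4) (Steps.bwd (nat_lit 8) (Steps.bwd (nat_lit 4) (Steps.fwd (nat_lit 2097152) (Steps.fwd (nat_lit 1048576) (Steps.bwd (nat_lit 8) (Steps.fwd (nat_lit 1048576) (Steps.fwd (nat_lit 2097152) (Steps.bwd (nat_lit 4) Steps.nil))))))))))))))) (nat_lit 106) (nat_lit 1),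
  Rule.mk (nat_lit 9) (nat_lit 314) (Steps.bwd (nat_lit 4) (Steps.fwd (nat_lit 2359296) (Steps.fwd (nat_lit 1048576) (Steps.bwd (nat_lit 9) (Steps.fwd (nat_lit 1048576) (Steps.fwd (nat_lit 2359296) (Steps.fwd (nat_lit 1048576) (Steps.bwd (nat_lit 9) (Steps.fwd (nat_lit 1048576) (Steps.bwd (nat_lit 8) (Steps.bwd (nat_lit 4) (Steps.fwd (nat_lit 2097152) (Steps.fwd (nat_lit 1048576) (Steps.fwd (nat_lit 2359296) (Steps.bwd (nat_lit 4) Steps.nil))))))))))))))) (nat_lit 106) (nat_lit 3),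
  Rule.mk (nat_lit 4) (nat_lit 314) (Steps.bwd (nat_lit 9) (Steps.bwd (nat_lit 4) (Steps.bwd (nat_lit 8) (Steps.bwd (nat_lit 4) (Steps.fwd (nat_lit 2097152) (Steps.fwd (nat_lit 1048576) (Steps.bwd (nat_lit 8) (Steps.bwd (nat_lit 4) (Steps.fwd (nat_lit 2097152) (Steps.fwd (nat_lit 1048576) (Steps.fwd (nat_lit 2359296) (Steps.fwd (nat_lit 1048576) (Steps.fwd (nat_lit 2097152) (Steps.bwd (nat_lit 4) (Steps.bwd (nat_lit 8) Steps.nil))))))))))))))) (nat_lit 106) (nat_lit 2),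
  Rule.mk (nat_lit 6) (nat_lit 274) (Steps.bwd (nat_lit 1) (Steps.fwd (nat_lit 1572864) (Steps.fwd (nat_lit 1310720) (Steps.fwd (nat_lit 786432) (Steps.fwd (nat_lit 262144) (Steps.bwd (nat_lit 6) (Steps.bwd (nat_lit 1) (Steps.bwd (nat_lit 2) (Steps.bwd (nat_lit 1) (Steps.bwd (nat_lit 6) (Steps.bwd (nat_lit 1) (Steps.bwd (nat_lit 2) (Steps.fwd (nat_lit 262144) Steps.nil))))))))))))) (nat_lit 34) (nat_lit 11),
  Rule.mk (nat_lit 8) (nat_lit 314) (Steps.bwd (nat_lit 4) (Steps.bwd (nat_lit 9) (Steps.fwd (nat_lit 1048576) (Steps.bwd (nat_lit 8) (Steps.bwd (nat_lit 4) (Steps.fwd (nat_lit 2097152) (Steps.fwd (nat_lit 1048576) (Steps.bwd (nat_lit 8) (Steps.bwd (nat_lit 4) (Steps.fwd (nat_lit 2097152) (Steps.fwd (nat_lit 1048576) (Steps.fwd (nat_lit 2359296) (Steps.fwd (nat_lit 1048576) (Steps.fwd (nat_lit 2097152) (Steps.fwd (nat_lit 1048576) Steps.nil)))))))))))))))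 (nat_lit 106) (nat_lit 1),
  Rule.mk (nat_lit 6) (nat_lit 274) (Steps.bwd (nat_lit 1) (Steps.bwd (nat_lit 6) (Steps.fwd (nat_lit 1310720) (Steps.fwd (nat_lit 786432) (Steps.fwd (nat_lit 262144) (Steps.fwd (nat_lit 1572864) (Steps.fwd (nat_lit 262144) (Steps.bwd (nat_lit 2) (Steps.bwd (nat_lit 1) (Steps.fwd (nat_lit 1572864) (Steps.bwd (nat_lit 1) (Steps.fwd (nat_lit 786432) (Steps.fwd (nat_lit 262144) Steps.nil))))))))))))) (nat_lit 34) (nat_lit 11),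
  Rule.mk (nat_lit 9) (nat_lit 314) (Steps.bwd (nat_lit 4) (Steps.bwd (nat_lit 8) (Steps.bwd (nat_lit 4) (Steps.fwd (nat_lit 2097152) (Steps.bwd (nat_lit 4) (Steps.fwd (nat_lit 2359296) (Steps.fwd (nat_lit 1048576) (Steps.bwd (nat_lit 9) (Steps.fwd (nat_lit 1048576) (Steps.fwd (nat_lit 2359296) (Steps.bwd (nat_lit 4) (Steps.bwd (nat_lit 9) (Steps.fwd (nat_lit 1048576) (Steps.bwd (nat_lit 8) (Steps.bwd (nat_lit 4) Steps.nil))))))))))))))) (nat_lit 106) (nat_lit 3),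
  Rule.mk (nat_lit 9) (nat_lit 314) (Steps.bwd (nat_lit 4) (Steps.bwd (nat_lit 8) (Steps.bwd (nat_lit 4) (Steps.bwd (nat_lit 9) (Steps.fwd (nat_lit 1048576) (Steps.fwd (nat_lit 2359296) (Steps.fwd (nat_lit 1048576) (Steps.fwd (nat_lit 2097152) (Steps.bwd (nat_lit 4) (Steps.bwd (nat_lit 8) (Steps.bwd (nat_lit 4) (Steps.fwd (nat_lit 2097152) (Steps.fwd (nat_lit 1048576) (Steps.bwd (nat_lit 8) (Steps.fwd (nat_lit 1048576) Steps.nil))))))))))))))) (nat_lit 106) (nat_lit 3),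
  Rule.mk (nat_lit 9) (nat_lit 314) (Steps.bwd (nat_lit 4) (Steps.fwd (nat_lit 2359296) (Steps.fwd (nat_lit 1048576) (Steps.fwd (nat_lit 2097152) (Steps.bwd (nat_lit 4) (Steps.fwd (nat_lit 2359296) (Steps.bwd (nat_lit 4) (Steps.fwd (nat_lit 2097152) (Steps.bwd (nat_lit 4) (Steps.fwd (nat_lit 2359296) (Steps.fwd (nat_lit 1048576) (Steps.bwd (nat_lit 9) (Steps.fwd (nat_lit 1048576) (Steps.fwd (nat_lit 2359296) (Steps.fwd (nat_lit 1048576) Steps.nil))))))))))))))) (nat_lit 106) (nat_lit 3),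
  Rule.mk (nat_lit 4) (nat_lit 314) (Steps.bwd (nat_lit 9) (Steps.bwd (nat_lit 4) (Steps.bwd (nat_lit 8) (Steps.fwd (nat_lit 1048576) (Steps.fwd (nat_lit 2097152) (Steps.fwd (nat_lit 1048576) (Steps.fwd (nat_lit 2359296) (Steps.fwd (nat_lit 1048576) (Steps.bwd (nat_lit 9) (Steps.fwd (nat_lit 1048576) (Steps.fwd (nat_lit 2359296) (Steps.bwd (nat_lit 4) (Steps.bwd (nat_lit 9) (Steps.bwd (nat_lit 4) (Steps.bwd (nat_lit 8) Steps.nil))))))))))))))) (nat_lit 106) (nat_lit 2),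
  Rule.mk (nat_lit 6) (nat_lit 274) (Steps.bwd (nat_lit 1) (Steps.bwd (nat_lit 6) (Steps.bwd (nat_lit 5) (Steps.fwd (nat_lit 786432) (Steps.bwd (nat_lit 1) (Steps.fwd (nat_lit 1572864) (Steps.bwd (nat_lit 1) (Steps.bwd (nat_lit 2) (Steps.fwd (nat_lit 262144) (Steps.fwd (nat_lit 1572864) (Steps.fwd (nat_lit 262144) (Steps.bwd (nat_lit 2) (Steps.fwd (nat_lit 262144) Steps.nil))))))))))))) (nat_lit 34) (nat_lit 11),
  Rule.mk (nat_lit 8) (nat_lit 314) (Steps.bwd (nat_lit 4) (Steps.fwd (nat_lit 2097152) (Steps.fwd (nat_lit 1048576) (Steps.fwd (nat_lit 2359296) (Steps.fwd (nat_lit 1048576) (Steps.fwd (nat_lit 2097152) (Steps.bwd (nat_lit 4) (Steps.fwd (nat_lit 2359296) (Steps.fwd (nat_lit 1048576) (Steps.bwd (nat_lit 9) (Steps.fwd (nat_lit 1048576) (Steps.fwd (nat_lit 2359296) (Steps.bwd (nat_lit 4) (Steps.fwd (nat_lit 2097152) (Steps.bwd (nat_lit 4) Steps.nil)))))))))))))))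 (nat_lit 106) (nat_lit 1),
  Rule.mk (nat_lit 4) (nat_lit 314) (Steps.bwd (nat_lit 9) (Steps.bwd (nat_lit 4) (Steps.bwd (nat_lit 8) (Steps.bwd (nat_lit 4) (Steps.bwd (nat_lit 9) (Steps.fwd (nat_lit 1048576) (Steps.fwd (nat_lit 2359296) (Steps.bwd (nat_lit 4) (Steps.fwd (nat_lit 2097152) (Steps.fwd (nat_lit 1048576) (Steps.fwd (nat_lit 2359296) (Steps.bwd (nat_lit 4) (Steps.bwd (nat_lit 9) (Steps.fwd (nat_lit 1048576) (Steps.fwd (nat_lit 2359296) Steps.nil))))))))))))))) (nat_lit 106) (nat_lit 2),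
  Rule.mk (nat_lit 8) (nat_lit 314) (Steps.bwd (nat_lit 4) (Steps.fwd (nat_lit 2097152) (Steps.fwd (nat_lit 1048576) (Steps.bwd (nat_lit 8) (Steps.fwd (nat_lit 1048576) (Steps.fwd (nat_lit 2097152) (Steps.bwd (nat_lit 4) (Steps.fwd (nat_lit 2359296) (Steps.fwd (nat_lit 1048576) (Steps.fwd (nat_lit 2097152) (Steps.fwd (nat_lit 1048576) (Steps.bwd (nat_lit 8) (Steps.fwd (nat_lit 1048576) (Steps.bwd (nat_lit 9) (Steps.bwd (nat_lit 4) Steps.nil))))))))))))))) (nat_lit 106) (nat_lit 1),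
  Rule.mk (nat_lit 6) (nat_lit 274) (Steps.bwd (nat_lit 1) (Steps.bwd (nat_lit 6) (Steps.bwd (nat_lit 5) (Steps.fwd (nat_lit 786432) (Steps.bwd (nat_lit 1) (Steps.bwd (nat_lit 6) (Steps.fwd (nat_lit 262144) (Steps.bwd (nat_lit 2) (Steps.bwd (nat_lit 1) (Steps.fwd (nat_lit 1572864) (Steps.fwd (nat_lit 262144) (Steps.bwd (nat_lit 2) (Steps.fwd (nat_lit 262144) Steps.nil))))))))))))) (nat_lit 34) (nat_lit 11),
  Rule.mk (nat_lit 9) (nat_lit 314) (Steps.bwd (nat_lit 4) (Steps.fwd (nat_lit 2359296) (Steps.bwd (nat_lit 4) (Steps.bwd (nat_lit 9) (Steps.fwd (nat_lit 1048576) (Steps.fwd (nat_lit 2359296) (Steps.fwd (nat_lit 1048576) (Steps.fwd (nat_lit 2097152) (Steps.fwd (nat_lit 1048576) (Steps.fwd (nat_lit 2359296) (Steps.fwd (nat_lit 1048576) (Steps.fwd (nat_lit 2097152) (Steps.fwd (nat_lit 1048576) (Steps.bwd (nat_lit 8) (Steps.bwd (nat_lit 4) Steps.nil)))))))))))))))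 (nat_lit 106) (nat_lit 3),
  Rule.mk (nat_lit 8) (nat_lit 314) (Steps.bwd (nat_lit 4) (Steps.fwd (nat_lit 2097152) (Steps.fwd (nat_lit 1048576) (Steps.fwd (nat_lit 2359296) (Steps.fwd (nat_lit 1048576) (Steps.bwd (nat_lit 9) (Steps.bwd (nat_lit 4) (Steps.bwd (nat_lit 8) (Steps.bwd (nat_lit 4) (Steps.fwd (nat_lit 2097152) (Steps.fwd (nat_lit 1048576) (Steps.fwd (nat_lit 2359296) (Steps.fwd (nat_lit 1048576) (Steps.bwd (nat_lit 9) (Steps.fwd (nat_lit 1048576) Steps.nil))))))))))))))) (nat_lit 106) (nat_lit 1)]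
noncomputable def R_109 : List (Rule) := [Rule.mk (nat_lit 9) (nat_lit 314) (Steps.bwd (nat_lit 4) (Steps.fwd (nat_lit 2359296) (Steps.fwd (nat_lit 1048576) (Steps.fwd (nat_lit 2097152) (Steps.fwd (nat_lit 1048576) (Steps.bwd (nat_lit 8) (Steps.bwd (nat_lit 4) (Steps.fwd (nat_lit 2097152) (Steps.bwd (nat_lit 4) (Steps.fwd (nat_lit 2359296) (Steps.bwd (nat_lit 4) (Steps.bwd (nat_lit 9) (Steps.fwd (nat_lit 1048576) (Steps.bwd (nat_lit 8) (Steps.bwd (nat_lit 4) Steps.nil))))))))))))))) (nat_lit 106) (nat_lit 3),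
  Rule.mk (nat_lit 9) (nat_lit 314) (Steps.bwd (nat_lit 4) (Steps.bwd (nat_lit 8) (Steps.bwd (nat_lit 4) (Steps.fwd (nat_lit 2097152) (Steps.fwd (nat_lit 1048576) (Steps.fwd (nat_lit 2359296) (Steps.bwd (nat_lit 4) (Steps.bwd (nat_lit 9) (Steps.bwd (nat_lit 4) (Steps.bwd (nat_lit 8) (Steps.bwd (nat_lit 4) (Steps.bwd (nat_lit 9) (Steps.bwd (nat_lit 4) (Steps.fwd (nat_lit 2359296) (Steps.fwd (nat_lit 1048576) Steps.nil))))))))))))))) (nat_lit 106) (nat_lit 3),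
  Rule.mk (nat_lit 4) (nat_lit 314) (Steps.bwd (nat_lit 9) (Steps.bwd (nat_lit 4) (Steps.fwd (nat_lit 2359296) (Steps.bwd (nat_lit 4) (Steps.bwd (nat_lit 9) (Steps.fwd (nat_lit 1048576) (Steps.fwd (nat_lit 2359296) (Steps.bwd (nat_lit 4) (Steps.fwd (nat_lit 2097152) (Steps.fwd (nat_lit 1048576) (Steps.bwd (nat_lit 8) (Steps.bwd (nat_lit 4) (Steps.fwd (nat_lit 2097152) (Steps.bwd (nat_lit 4) (Steps.fwd (nat_lit 2359296) Steps.nil))))))))))))))) (nat_lit 106) (nat_lit 2),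
  Rule.mk (nat_lit 8) (nat_lit 314) (Steps.bwd (nat_lit 4) (Steps.bwd (nat_lit 9) (Steps.fwd (nat_lit 1048576) (Steps.fwd (nat_lit 2359296) (Steps.fwd (nat_lit 1048576) (Steps.bwd (nat_lit 9) (Steps.bwd (nat_lit 4) (Steps.fwd (nat_lit 2359296) (Steps.bwd (nat_lit 4) (Steps.bwd (nat_lit 9) (Steps.bwd (nat_lit 4) (Steps.bwd (nat_lit 8) (Steps.fwd (nat_lit 1048576) (Steps.bwd (nat_lit 9) (Steps.fwd (nat_lit 1048576) Steps.nil))))))))))))))) (nat_lit 106) (nat_lit 1),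
  Rule.mk (nat_lit 8) (nat_lit 314) (Steps.bwd (nat_lit 4) (Steps.bwd (nat_lit 9) (Steps.fwd (nat_lit 1048576) (Steps.fwd (nat_lit 2359296) (Steps.fwd (nat_lit 1048576) (Steps.bwd (nat_lit 9) (Steps.fwd (nat_lit 1048576) (Steps.bwd (nat_lit 8) (Steps.bwd (nat_lit 4) (Steps.bwd (nat_lit 9) (Steps.fwd (nat_lit 1048576) (Steps.bwd (nat_lit 8) (Steps.fwd (nat_lit 1048576) (Steps.fwd (nat_lit 2097152) (Steps.fwd (nat_lit 1048576) Steps.nil))))))))))))))) (nat_lit 106) (nat_lit 1),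
  Rule.mk (nat_lit 9) (nat_lit 314) (Steps.bwd (nat_lit 4) (Steps.fwd (nat_lit 2359296) (Steps.fwd (nat_lit 1048576) (Steps.bwd (nat_lit 9) (Steps.bwd (nat_lit 4) (Steps.fwd (nat_lit 2359296) (Steps.fwd (nat_lit 1048576) (Steps.bwd (nat_lit 9) (Steps.fwd (nat_lit 1048576) (Steps.bwd (nat_lit 8) (Steps.fwd (nat_lit 1048576) (Steps.bwd (nat_lit 9) (Steps.fwd (nat_lit 1048576) (Steps.fwd (nat_lit 2359296) (Steps.fwd (nat_lit 1048576) Steps.nil))))))))))))))) (nat_lit 106) (nat_lit 3),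
  Rule.mk (nat_lit 9) (nat_lit 314) (Steps.bwd (nat_lit 4) (Steps.fwd (nat_lit 2359296) (Steps.bwd (nat_lit 4) (Steps.bwd (nat_lit 9) (Steps.fwd (nat_lit 1048576) (Steps.bwd (nat_lit 8) (Steps.fwd (nat_lit 1048576) (Steps.fwd (nat_lit 2097152) (Steps.fwd (nat_lit 1048576) (Steps.bwd (nat_lit 8) (Steps.bwd (nat_lit 4) (Steps.fwd (nat_lit 2097152) (Steps.bwd (nat_lit 4) (Steps.fwd (nat_lit 2359296) (Steps.bwd (nat_lit 4) Steps.nil))))))))))))))) (nat_lit 106) (nat_lit 3),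
  Rule.mk (nat_lit 4) (nat_lit 314) (Steps.bwd (nat_lit 8) (Steps.bwd (nat_lit 4) (Steps.bwd (nat_lit 9) (Steps.fwd (nat_lit 1048576) (Steps.fwd (nat_lit 2359296) (Steps.fwd (nat_lit 1048576) (Steps.fwd (nat_lit 2097152) (Steps.fwd (nat_lit 1048576) (Steps.fwd (nat_lit 2359296) (Steps.fwd (nat_lit 1048576) (Steps.bwd (nat_lit 9) (Steps.fwd (nat_lit 1048576) (Steps.bwd (nat_lit 8) (Steps.bwd (nat_lit 4) (Steps.fwd (nat_lit 2097152) Steps.nil))))))))))))))) (nat_lit 106) (nat_lit 0),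
  Rule.mk (nat_lit 1) (nat_lit 154) (Steps.bwd (nat_lit 4) (Steps.fwd (nat_lit 262144) (Steps.fwd (nat_lit 1572864) (Steps.bwd (nat_lit 1) (Steps.fwd (nat_lit 1048576) (Steps.fwd (nat_lit 262144) (Steps.bwd (nat_lit 6) Steps.nil))))))) (nat_lit 74) (nat_lit 1),
  Rule.mk (nat_lit 9) (nat_lit 314) (Steps.bwd (nat_lit 4) (Steps.fwd (nat_lit 2359296) (Steps.bwd (nat_lit 4) (Steps.bwd (nat_lit 9) (Steps.fwd (nat_lit 1048576) (Steps.fwd (nat_lit 2359296) (Steps.bwd (nat_lit 4) (Steps.bwd (nat_lit 9) (Steps.bwd (nat_lit 4) (Steps.fwd (nat_lit 2359296) (Steps.bwd (nat_lit 4) (Steps.bwd (nat_lit 9) (Steps.bwd (nat_lit 4) (Steps.bwd (nat_lit 8) (Steps.bwd (nat_lit 4) Steps.nil))))))))))))))) (nat_lit 106) (nat_lit 3),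
  Rule.mk (nat_lit 8) (nat_lit 314) (Steps.bwd (nat_lit 4) (Steps.bwd (nat_lit 9) (Steps.fwd (nat_lit 1048576) (Steps.bwd (nat_lit 8) (Steps.bwd (nat_lit 4) (Steps.bwd (nat_lit 9) (Steps.fwd (nat_lit 1048576) (Steps.bwd (nat_lit 8) (Steps.fwd (nat_lit 1048576) (Steps.bwd (nat_lit 9) (Steps.fwd (nat_lit 1048576) (Steps.fwd (nat_lit 2359296) (Steps.fwd (nat_lit 1048576) (Steps.fwd (nat_lit 2097152) (Steps.fwd (nat_lit 1048576) Steps.nil))))))))))))))) (nat_lit 106) (nat_lit 1),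
  Rule.mk (nat_lit 4) (nat_lit 314) (Steps.bwd (nat_lit 8) (Steps.bwd (nat_lit 4) (Steps.bwd (nat_lit 9) (Steps.fwd (nat_lit 1048576) (Steps.fwd (nat_lit 2359296) (Steps.fwd (nat_lit 1048576) (Steps.bwd (nat_lit 9) (Steps.bwd (nat_lit 4) (Steps.fwd (nat_lit 2359296) (Steps.fwd (nat_lit 1048576) (Steps.fwd (nat_lit 2097152) (Steps.bwd (nat_lit 4) (Steps.fwd (nat_lit 2359296) (Steps.bwd (nat_lit 4) (Steps.fwd (nat_lit 2097152) Steps.nil))))))))))))))) (nat_lit 106) (nat_lit 0),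
  Rule.mk (nat_lit 1) (nat_lit 114) (Steps.fwd (nat_lit 786432) (Steps.fwd (nat_lit 262144) (Steps.fwd (nat_lit 786432) (Steps.fwd (nat_lit 262144) (Steps.bwd (nat_lit 2) Steps.nil))))) (nat_lit 12) (nat_lit 1),
  Rule.mk (nat_lit 9) (nat_lit 314) (Steps.bwd (nat_lit 4) (Steps.fwd (nat_lit 2359296) (Steps.fwd (nat_lit 1048576) (Steps.bwd (nat_lit 9) (Steps.bwd (nat_lit 4) (Steps.bwd (nat_lit 8) (Steps.bwd (nat_lit 4) (Steps.fwd (nat_lit 2097152) (Steps.bwd (nat_lit 4) (Steps.bwd (nat_lit 8) (Steps.bwd (nat_lit 4) (Steps.bwd (nat_lit 9) (Steps.fwd (nat_lit 1048576) (Steps.fwd (nat_lit 2359296) (Steps.bwd (nat_lit 4) Steps.nil))))))))))))))) (nat_lit 106) (nat_lit 3),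
  Rule.mk (nat_lit 9) (nat_lit 314) (Steps.bwd (nat_lit 4) (Steps.fwd (nat_lit 2359296) (Steps.fwd (nat_lit 1048576) (Steps.fwd (nat_lit 2097152) (Steps.fwd (nat_lit 1048576) (Steps.bwd (nat_lit 8) (Steps.bwd (nat_lit 4) (Steps.fwd (nat_lit 2097152) (Steps.fwd (nat_lit 1048576) (Steps.bwd (nat_lit 8) (Steps.fwd (nat_lit 1048576) (Steps.fwd (nat_lit 2097152) (Steps.bwd (nat_lit 4) (Steps.bwd (nat_lit 8) (Steps.bwd (nat_lit 4) Steps.nil))))))))))))))) (nat_lit 106) (nat_lit 3),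
  Rule.mk (nat_lit 9) (nat_lit 314) (Steps.bwd (nat_lit 4) (Steps.fwd (nat_lit 2359296) (Steps.fwd (nat_lit 1048576) (Steps.fwd (nat_lit 2097152) (Steps.fwd (nat_lit 1048576) (Steps.bwd (nat_lit 8) (Steps.fwd (nat_lit 1048576) (Steps.fwd (nat_lit 2097152) (Steps.fwd (nat_lit 1048576) (Steps.fwd (nat_lit 2359296) (Steps.bwd (nat_lit 4) (Steps.bwd (nat_lit 9) (Steps.bwd (nat_lit 4) (Steps.fwd (nat_lit 2359296) (Steps.fwd (nat_lit 1048576) Steps.nil))))))))))))))) (nat_lit 106) (nat_lit 3),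
  Rule.mk (nat_lit 9) (nat_lit 314) (Steps.bwd (nat_lit 4) (Steps.fwd (nat_lit 2359296) (Steps.fwd (nat_lit 1048576) (Steps.bwd (nat_lit 9) (Steps.fwd (nat_lit 1048576) (Steps.bwd (nat_lit 8) (Steps.bwd (nat_lit 4) (Steps.fwd (nat_lit 2097152) (Steps.fwd (nat_lit 1048576) (Steps.fwd (nat_lit 2359296) (Steps.bwd (nat_lit 4) (Steps.bwd (nat_lit 9) (Steps.bwd (nat_lit 4) (Steps.fwd (nat_lit 2359296) (Steps.bwd (nat_lit 4) Steps.nil))))))))))))))) (nat_lit 106) (nat_lit 3),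
  Rule.mk (nat_lit 8) (nat_lit 314) (Steps.bwd (nat_lit 4) (Steps.bwd (nat_lit 9) (Steps.fwd (nat_lit 1048576) (Steps.fwd (nat_lit 2359296) (Steps.bwd (nat_lit 4) (Steps.fwd (nat_lit 2097152) (Steps.bwd (nat_lit 4) (Steps.bwd (nat_lit 8) (Steps.fwd (nat_lit 1048576) (Steps.bwd (nat_lit 9) (Steps.fwd (nat_lit 1048576) (Steps.bwd (nat_lit 8) (Steps.fwd (nat_lit 1048576) (Steps.bwd (nat_lit 9) (Steps.bwd (nat_lit 4) Steps.nil))))))))))))))) (nat_lit 106) (nat_lit 1),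
  Rule.mk (nat_lit 8) (nat_lit 314) (Steps.bwd (nat_lit 4) (Steps.bwd (nat_lit 9) (Steps.fwd (nat_lit 1048576) (Steps.fwd (nat_lit 2359296) (Steps.fwd (nat_lit 1048576) (Steps.bwd (nat_lit 9) (Steps.fwd (nat_lit 1048576) (Steps.fwd (nat_lit 2359296) (Steps.fwd (nat_lit 1048576) (Steps.bwd (nat_lit 9) (Steps.bwd (nat_lit 4) (Steps.fwd (nat_lit 2359296) (Steps.bwd (nat_lit 4) (Steps.fwd (nat_lit 2097152) (Steps.fwd (nat_lit 1048576) Steps.nil))))))))))))))) (nat_lit 106) (nat_lit 1),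
  Rule.mk (nat_lit 1) (nat_lit 154) (Steps.fwd (nat_lit 1048576) (Steps.fwd (nat_lit 1835008) (Steps.bwd (nat_lit 1) (Steps.bwd (nat_lit 4) (Steps.fwd (nat_lit 262144) (Steps.bwd (nat_lit 7) (Steps.bwd (nat_lit 4) Steps.nil))))))) (nat_lit 76) (nat_lit 6),
  Rule.mk (nat_lit 1) (nat_lit 274) (Steps.bwd (nat_lit 6) (Steps.bwd (nat_lit 1) (Steps.fwd (nat_lit 786432) (Steps.fwd (nat_lit 262144) (Steps.bwd (nat_lit 6) (Steps.bwd (nat_lit 1) (Steps.bwd (nat_lit 2) (Steps.fwd (nat_lit 262144) (Steps.bwd (nat_lit 6) (Steps.bwd (nat_lit 1) (Steps.bwd (nat_lit 6) (Steps.fwd (nat_lit 1310720) (Steps.bwd (nat_lit 2) Steps.nil))))))))))))) (nat_lit 34) (nat_lit 2),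
  Rule.mk (nat_lit 4) (nat_lit 314) (Steps.bwd (nat_lit 8) (Steps.fwd (nat_lit 1048576) (Steps.bwd (nat_lit 9) (Steps.fwd (nat_lit 1048576) (Steps.fwd (nat_lit 2359296) (Steps.bwd (nat_lit 4) (Steps.bwd (nat_lit 9) (Steps.bwd (nat_lit 4) (Steps.fwd (nat_lit 2359296) (Steps.bwd (nat_lit 4) (Steps.bwd (nat_lit 9) (Steps.bwd (nat_lit 4) (Steps.bwd (nat_lit 8) (Steps.fwd (nat_lit 1048576) (Steps.fwd (nat_lit 2097152) Steps.nil))))))))))))))) (nat_lit 106) (nat_lit 0),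
  Rule.mk (nat_lit 4) (nat_lit 314) (Steps.bwd (nat_lit 8) (Steps.fwd (nat_lit 1048576) (Steps.bwd (nat_lit 9) (Steps.fwd (nat_lit 1048576) (Steps.bwd (nat_lit 8) (Steps.bwd (nat_lit 4) (Steps.bwd (nat_lit 9) (Steps.fwd (nat_lit 1048576) (Steps.bwd (nat_lit 8) (Steps.bwd (nat_lit 4) (Steps.bwd (nat_lit 9) (Steps.fwd (nat_lit 1048576) (Steps.fwd (nat_lit 2359296) (Steps.bwd (nat_lit 4) (Steps.bwd (nat_lit 9) Steps.nil))))))))))))))) (nat_lit 106) (nat_lit 0),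
  Rule.mk (nat_lit 1) (nat_lit 154) (Steps.bwd (nat_lit 4) (Steps.fwd (nat_lit 262144) (Steps.fwd (nat_lit 1572864) (Steps.fwd (nat_lit 262144) (Steps.fwd (nat_lit 1048576) (Steps.fwd (nat_lit 262144) (Steps.bwd (nat_lit 6) Steps.nil))))))) (nat_lit 74) (nat_lit 1),
  Rule.mk (nat_lit 4) (nat_lit 314) (Steps.bwd (nat_lit 9) (Steps.bwd (nat_lit 4) (Steps.fwd (nat_lit 2359296) (Steps.fwd (nat_lit 1048576) (Steps.bwd (nat_lit 9) (Steps.fwd (nat_lit 1048576) (Steps.fwd (nat_lit 2359296) (Steps.fwd (nat_lit 1048576) (Steps.fwd (nat_lit 2097152) (Steps.fwd (nat_lit 1048576) (Steps.fwd (nat_lit 2359296) (Steps.bwd (nat_lit 4) (Steps.bwd (nat_lit 9) (Steps.bwd (nat_lit 4) (Steps.fwd (nat_lit 2359296) Steps.nil))))))))))))))) (nat_lit 106) (nat_lit 2),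
  Rule.mk (nat_lit 1) (nat_lit 114) (Steps.fwd (nat_lit 1048576) (Steps.bwd (nat_lit 1) (Steps.fwd (nat_lit 1048576) (Steps.bwd (nat_lit 1) (Steps.bwd (nat_lit 4) Steps.nil))))) (nat_lit 16) (nat_lit 1),
  Rule.mk (nat_lit 9) (nat_lit 314) (Steps.bwd (nat_lit 4) (Steps.fwd (nat_lit 2359296) (Steps.fwd (nat_lit 1048576) (Steps.bwd (nat_lit 9) (Steps.bwd (nat_lit 4) (Steps.fwd (nat_lit 2359296) (Steps.bwd (nat_lit 4) (Steps.bwd (nat_lit 9) (Steps.fwd (nat_lit 1048576) (Steps.fwd (nat_lit 2359296) (Steps.bwd (nat_lit 4) (Steps.bwd (nat_lit 9) (Steps.bwd (nat_lit 4) (Steps.bwd (nat_lit 8) (Steps.bwd (nat_lit 4) Steps.nil))))))))))))))) (nat_lit 106) (nat_lit 3),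
  Rule.mk (nat_lit 8) (nat_lit 314) (Steps.bwd (nat_lit 4) (Steps.fwd (nat_lit 2097152) (Steps.fwd (nat_lit 1048576) (Steps.fwd (nat_lit 2359296) (Steps.fwd (nat_lit 1048576) (Steps.bwd (nat_lit 9) (Steps.fwd (nat_lit 1048576) (Steps.fwd (nat_lit 2359296) (Steps.fwd (nat_lit 1048576) (Steps.bwd (nat_lit 9) (Steps.bwd (nat_lit 4) (Steps.bwd (nat_lit 8) (Steps.bwd (nat_lit 4) (Steps.fwd (nat_lit 2097152) (Steps.fwd (nat_lit 1048576) Steps.nil))))))))))))))) (nat_lit 106) (nat_lit 1),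
  Rule.mk (nat_lit 9) (nat_lit 314) (Steps.bwd (nat_lit 4) (Steps.bwd (nat_lit 8) (Steps.fwd (nat_lit 1048576) (Steps.bwd (nat_lit 9) (Steps.bwd (nat_lit 4) (Steps.fwd (nat_lit 2359296) (Steps.bwd (nat_lit 4) (Steps.bwd (nat_lit 9) (Steps.bwd (nat_lit 4) (Steps.fwd (nat_lit 2359296) (Steps.fwd (nat_lit 1048576) (Steps.bwd (nat_lit 9) (Steps.fwd (nat_lit 1048576) (Steps.fwd (nat_lit 2359296) (Steps.fwd (nat_lit 1048576) Steps.nil))))))))))))))) (nat_lit 106) (nat_lit 3),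
  Rule.mk (nat_lit 6) (nat_lit 274) (Steps.bwd (nat_lit 1) (Steps.fwd (nat_lit 1572864) (Steps.fwd (nat_lit 1310720) (Steps.fwd (nat_lit 786432) (Steps.fwd (nat_lit 262144) (Steps.fwd (nat_lit 1572864) (Steps.fwd (nat_lit 262144) (Steps.fwd (nat_lit 786432) (Steps.fwd (nat_lit 262144) (Steps.bwd (nat_lit 6) (Steps.bwd (nat_lit 1) (Steps.fwd (nat_lit 786432) (Steps.fwd (nat_lit 262144) Steps.nil))))))))))))) (nat_lit 34) (nat_lit 11),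
  Rule.mk (nat_lit 9) (nat_lit 314) (Steps.bwd (nat_lit 4) (Steps.fwd (nat_lit 2359296) (Steps.fwd (nat_lit 1048576) (Steps.fwd (nat_lit 2097152) (Steps.bwd (nat_lit 4) (Steps.fwd (nat_lit 2359296) (Steps.bwd (nat_lit 4) (Steps.fwd (nat_lit 2097152) (Steps.fwd (nat_lit 1048576) (Steps.fwd (nat_lit 2359296) (Steps.fwd (nat_lit 1048576) (Steps.fwd (nat_lit 2097152) (Steps.fwd (nat_lit 1048576) (Steps.bwd (nat_lit 8) (Steps.bwd (nat_lit 4) Steps.nil))))))))))))))) (nat_lit 106) (nat_lit 3),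
  Rule.mk (nat_lit 1) (nat_lit 154) (Steps.bwd (nat_lit 4) (Steps.fwd (nat_lit 262144) (Steps.fwd (nat_lit 1572864) (Steps.fwd (nat_lit 262144) (Steps.fwd (nat_lit 1048576) (Steps.bwd (nat_lit 1) (Steps.bwd (nat_lit 6) Steps.nil))))))) (nat_lit 74) (nat_lit 1),
  Rule.mk (nat_lit 8) (nat_lit 314) (Steps.bwd (nat_lit 4) (Steps.bwd (nat_lit 9) (Steps.fwd (nat_lit 1048576) (Steps.bwd (nat_lit 8) (Steps.fwd (nat_lit 1048576) (Steps.fwd (nat_lit 2097152) (Steps.fwd (nat_lit 1048576) (Steps.fwd (nat_lit 2359296) (Steps.fwd (nat_lit 1048576) (Steps.fwd (nat_lit 2097152) (Steps.bwd (nat_lit 4) (Steps.bwd (nat_lit 8) (Steps.fwd (nat_lit 1048576) (Steps.bwd (nat_lit 9) (Steps.fwd (nat_lit 1048576) Steps.nil))))))))))))))) (nat_lit 106) (nat_lit 1),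
  Rule.mk (nat_lit 9) (nat_lit 314) (Steps.bwd (nat_lit 4) (Steps.fwd (nat_lit 2359296) (Steps.fwd (nat_lit 1048576) (Steps.fwd (nat_lit 2097152) (Steps.fwd (nat_lit 1048576) (Steps.bwd (nat_lit 8) (Steps.bwd (nat_lit 4) (Steps.bwd (nat_lit 9) (Steps.fwd (nat_lit 1048576) (Steps.fwd (nat_lit 2359296) (Steps.bwd (nat_lit 4) (Steps.bwd (nat_lit 9) (Steps.bwd (nat_lit 4) (Steps.fwd (nat_lit 2359296) (Steps.fwd (nat_lit 1048576) Steps.nil))))))))))))))) (nat_lit 106) (nat_lit 3),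
  Rule.mk (nat_lit 4) (nat_lit 314) (Steps.bwd (nat_lit 8) (Steps.bwd (nat_lit 4) (Steps.bwd (nat_lit 9) (Steps.fwd (nat_lit 1048576) (Steps.bwd (nat_lit 8) (Steps.fwd (nat_lit 1048576) (Steps.fwd (nat_lit 2097152) (Steps.fwd (nat_lit 1048576) (Steps.fwd (nat_lit 2359296) (Steps.fwd (nat_lit 1048576) (Steps.fwd (nat_lit 2097152) (Steps.bwd (nat_lit 4) (Steps.fwd (nat_lit 2359296) (Steps.fwd (nat_lit 1048576) (Steps.bwd (nat_lit 9) Steps.nil))))))))))))))) (nat_lit 106) (nat_lit 0),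
  Rule.mk (nat_lit 6) (nat_lit 274) (Steps.bwd (nat_lit 1) (Steps.fwd (nat_lit 1572864) (Steps.fwd (nat_lit 1310720) (Steps.fwd (nat_lit 786432) (Steps.fwd (nat_lit 262144) (Steps.fwd (nat_lit 1572864) (Steps.bwd (nat_lit 1) (Steps.fwd (nat_lit 786432) (Steps.bwd (nat_lit 1) (Steps.bwd (nat_lit 6) (Steps.fwd (nat_lit 262144) (Steps.fwd (nat_lit 786432) (Steps.fwd (nat_lit 262144) Steps.nil))))))))))))) (nat_lit 34) (nat_lit 11),
  Rule.mk (nat_lit 4) (nat_lit 314) (Steps.bwd (nat_lit 9) (Steps.fwd (nat_lit 1048576) (Steps.fwd (nat_lit 2359296) (Steps.bwd (nat_lit 4) (Steps.bwd (nat_lit 9) (Steps.fwd (nat_lit 1048576) (Steps.bwd (nat_lit 8) (Steps.bwd (nat_lit 4) (Steps.bwd (nat_lit 9) (Steps.fwd (nat_lit 1048576) (Steps.fwd (nat_lit 2359296) (Steps.fwd (nat_lit 1048576) (Steps.fwd (nat_lit 2097152) (Steps.bwd (nat_lit 4) (Steps.bwd (nat_lit 8) Steps.nil)))))))))))))))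 (nat_lit 106) (nat_lit 2),
  Rule.mk (nat_lit 6) (nat_lit 154) (Steps.bwd (nat_lit 1) (Steps.bwd (nat_lit 4) (Steps.fwd (nat_lit 262144) (Steps.bwd (nat_lit 6) (Steps.fwd (nat_lit 262144) (Steps.bwd (nat_lit 4) (Steps.bwd (nat_lit 1) Steps.nil))))))) (nat_lit 74) (nat_lit 0),
  Rule.mk (nat_lit 1) (nat_lit 154) (Steps.bwd (nat_lit 6) (Steps.bwd (nat_lit 1) (Steps.fwd (nat_lit 1048576) (Steps.fwd (nat_lit 262144) (Steps.fwd (nat_lit 1572864) (Steps.fwd (nat_lit 262144) (Steps.fwd (nat_lit 1048576) Steps.nil))))))) (nat_lit 74) (nat_lit 3),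
  Rule.mk (nat_lit 4) (nat_lit 314) (Steps.bwd (nat_lit 8) (Steps.fwd (nat_lit 1048576) (Steps.bwd (nat_lit 9) (Steps.fwd (nat_lit 1048576) (Steps.bwd (nat_lit 8) (Steps.fwd (nat_lit 1048576) (Steps.fwd (nat_lit 2097152) (Steps.fwd (nat_lit 1048576) (Steps.fwd (nat_lit 2359296) (Steps.bwd (nat_lit 4) (Steps.bwd (nat_lit 9) (Steps.bwd (nat_lit 4) (Steps.fwd (nat_lit 2359296) (Steps.fwd (nat_lit 1048576) (Steps.fwd (nat_lit 2097152) Steps.nil))))))))))))))) (nat_lit 106) (nat_lit 0),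
  Rule.mk (nat_lit 9) (nat_lit 314) (Steps.bwd (nat_lit 4) (Steps.bwd (nat_lit 8) (Steps.fwd (nat_lit 1048576) (Steps.fwd (nat_lit 2097152) (Steps.fwd (nat_lit 1048576) (Steps.fwd (nat_lit 2359296) (Steps.bwd (nat_lit 4) (Steps.fwd (nat_lit 2097152) (Steps.fwd (nat_lit 1048576) (Steps.fwd (nat_lit 2359296) (Steps.bwd (nat_lit 4) (Steps.bwd (nat_lit 9) (Steps.fwd (nat_lit 1048576) (Steps.bwd (nat_lit 8) (Steps.bwd (nat_lit 4) Steps.nil))))))))))))))) (nat_lit 106) (nat_lit 3),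
  Rule.mk (nat_lit 4) (nat_lit 314) (Steps.bwd (nat_lit 8) (Steps.bwd (nat_lit 4) (Steps.fwd (nat_lit 2097152) (Steps.bwd (nat_lit 4) (Steps.fwd (nat_lit 2359296) (Steps.fwd (nat_lit 1048576) (Steps.fwd (nat_lit 2097152) (Steps.fwd (nat_lit 1048576) (Steps.fwd (nat_lit 2359296) (Steps.bwd (nat_lit 4) (Steps.bwd (nat_lit 9) (Steps.fwd (nat_lit 1048576) (Steps.bwd (nat_lit 8) (Steps.fwd (nat_lit 1048576) (Steps.fwd (nat_lit 2097152) Steps.nil))))))))))))))) (nat_lit 106) (nat_lit 0),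
  Rule.mk (nat_lit 9) (nat_lit 314) (Steps.bwd (nat_lit 4) (Steps.bwd (nat_lit 8) (Steps.fwd (nat_lit 1048576) (Steps.fwd (nat_lit 2097152) (Steps.fwd (nat_lit 1048576) (Steps.fwd (nat_lit 2359296) (Steps.fwd (nat_lit 1048576) (Steps.fwd (nat_lit 2097152) (Steps.bwd (nat_lit 4) (Steps.bwd (nat_lit 8) (Steps.fwd (nat_lit 1048576) (Steps.bwd (nat_lit 9) (Steps.bwd (nat_lit 4) (Steps.fwd (nat_lit 2359296) (Steps.fwd (nat_lit 1048576) Steps.nil))))))))))))))) (nat_lit 106) (nat_lit 3),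
  Rule.mk (nat_lit 8) (nat_lit 314) (Steps.bwd (nat_lit 4) (Steps.bwd (nat_lit 9) (Steps.fwd (nat_lit 1048576) (Steps.fwd (nat_lit 2359296) (Steps.fwd (nat_lit 1048576) (Steps.fwd (nat_lit 2097152) (Steps.bwd (nat_lit 4) (Steps.bwd (nat_lit 8) (Steps.bwd (nat_lit 4) (Steps.bwd (nat_lit 9) (Steps.fwd (nat_lit 1048576) (Steps.fwd (nat_lit 2359296) (Steps.fwd (nat_lit 1048576) (Steps.fwd (nat_lit 2097152) (Steps.fwd (nat_lit 1048576) Steps.nil))))))))))))))) (nat_lit 106) (nat_lit 1),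
  Rule.mk (nat_lit 4) (nat_lit 314) (Steps.bwd (nat_lit 9) (Steps.bwd (nat_lit 4) (Steps.bwd (nat_lit 8) (Steps.bwd (nat_lit 4) (Steps.bwd (nat_lit 9) (Steps.fwd (nat_lit 1048576) (Steps.bwd (nat_lit 8) (Steps.bwd (nat_lit 4) (Steps.fwd (nat_lit 2097152) (Steps.bwd (nat_lit 4) (Steps.fwd (nat_lit 2359296) (Steps.bwd (nat_lit 4) (Steps.bwd (nat_lit 9) (Steps.fwd (nat_lit 1048576) (Steps.fwd (nat_lit 2359296) Steps.nil))))))))))))))) (nat_lit 106) (nat_lit 2),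
  Rule.mk (nat_lit 9) (nat_lit 314) (Steps.bwd (nat_lit 4) (Steps.fwd (nat_lit 2359296) (Steps.fwd (nat_lit 1048576) (Steps.bwd (nat_lit 9) (Steps.bwd (nat_lit 4) (Steps.bwd (nat_lit 8) (Steps.fwd (nat_lit 1048576) (Steps.fwd (nat_lit 2097152) (Steps.fwd (nat_lit 1048576) (Steps.fwd (nat_lit 2359296) (Steps.fwd (nat_lit 1048576) (Steps.fwd (nat_lit 2097152) (Steps.fwd (nat_lit 1048576) (Steps.fwd (nat_lit 2359296) (Steps.fwd (nat_lit 1048576) Steps.nil))))))))))))))) (nat_lit 106) (nat_lit 3),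
  Rule.mk (nat_lit 4) (nat_lit 314) (Steps.bwd (nat_lit 8) (Steps.fwd (nat_lit 1048576) (Steps.fwd (nat_lit 2097152) (Steps.fwd (nat_lit 1048576) (Steps.bwd (nat_lit 8) (Steps.fwd (nat_lit 1048576) (Steps.bwd (nat_lit 9) (Steps.fwd (nat_lit 1048576) (Steps.fwd (nat_lit 2359296) (Steps.fwd (nat_lit 1048576) (Steps.fwd (nat_lit 2097152) (Steps.bwd (nat_lit 4) (Steps.bwd (nat_lit 8) (Steps.fwd (nat_lit 1048576) (Steps.fwd (nat_lit 2097152) Steps.nil))))))))))))))) (nat_lit 106) (nat_lit 0),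
  Rule.mk (nat_lit 1) (nat_lit 154) (Steps.bwd (nat_lit 2) (Steps.fwd (nat_lit 262144) (Steps.bwd (nat_lit 5) (Steps.fwd (nat_lit 786432) (Steps.bwd (nat_lit 1) (Steps.fwd (nat_lit 786432) (Steps.bwd (nat_lit 5) Steps.nil))))))) (nat_lit 70) (nat_lit 1),
  Rule.mk (nat_lit 7) (nat_lit 94) (Steps.bwd (nat_lit 6) (Steps.bwd (nat_lit 5) (Steps.bwd (nat_lit 6) (Steps.bwd (nat_lit 5) Steps.nil)))) (nat_lit 24) (nat_lit 0),
  Rule.mk (nat_lit 1) (nat_lit 154) (Steps.fwd (nat_lit 524288) (Steps.bwd (nat_lit 1) (Steps.bwd (nat_lit 5) (Steps.bwd (nat_lit 3) (Steps.bwd (nat_lit 1) (Steps.fwd (nat_lit 524288) (Steps.bwd (nat_lit 5) Steps.nil))))))) (nat_lit 71) (nat_lit 6),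
  Rule.mk (nat_lit 1) (nat_lit 154) (Steps.bwd (nat_lit 6) (Steps.fwd (nat_lit 262144) (Steps.fwd (nat_lit 1048576) (Steps.bwd (nat_lit 1) (Steps.bwd (nat_lit 6) (Steps.bwd (nat_lit 1) (Steps.fwd (nat_lit 1048576) Steps.nil))))))) (nat_lit 74) (nat_lit 3),
  Rule.mk (nat_lit 9) (nat_lit 314) (Steps.bwd (nat_lit 4) (Steps.bwd (nat_lit 8) (Steps.fwd (nat_lit 1048576) (Steps.bwd (nat_lit 9) (Steps.fwd (nat_lit 1048576) (Steps.fwd (nat_lit 2359296) (Steps.bwd (nat_lit 4) (Steps.bwd (nat_lit 9) (Steps.bwd (nat_lit 4) (Steps.bwd (nat_lit 8) (Steps.fwd (nat_lit 1048576) (Steps.fwd (nat_lit 2097152) (Steps.fwd (nat_lit 1048576) (Steps.fwd (nat_lit 2359296) (Steps.fwd (nat_lit 1048576) Steps.nil))))))))))))))) (nat_lit 106) (nat_lit 3),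
  Rule.mk (nat_lit 4) (nat_lit 314) (Steps.bwd (nat_lit 9) (Steps.bwd (nat_lit 4) (Steps.fwd (nat_lit 2359296) (Steps.bwd (nat_lit 4) (Steps.bwd (nat_lit 9) (Steps.fwd (nat_lit 1048576) (Steps.fwd (nat_lit 2359296) (Steps.bwd (nat_lit 4) (Steps.bwd (nat_lit 9) (Steps.bwd (nat_lit 4) (Steps.fwd (nat_lit 2359296) (Steps.fwd (nat_lit 1048576) (Steps.fwd (nat_lit 2097152) (Steps.bwd (nat_lit 4) (Steps.bwd (nat_lit 8) Steps.nil))))))))))))))) (nat_lit 106) (nat_lit 2),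
  Rule.mk (nat_lit 4) (nat_lit 314) (Steps.bwd (nat_lit 9) (Steps.fwd (nat_lit 1048576) (Steps.fwd (nat_lit 2359296) (Steps.fwd (nat_lit 1048576) (Steps.fwd (nat_lit 2097152) (Steps.fwd (nat_lit 1048576) (Steps.bwd (nat_lit 8) (Steps.bwd (nat_lit 4) (Steps.bwd (nat_lit 9) (Steps.bwd (nat_lit 4) (Steps.fwd (nat_lit 2359296) (Steps.bwd (nat_lit 4) (Steps.bwd (nat_lit 9) (Steps.fwd (nat_lit 1048576) (Steps.fwd (nat_lit 2359296) Steps.nil))))))))))))))) (nat_lit 106) (nat_lit 2),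
  Rule.mk (nat_lit 6) (nat_lit 274) (Steps.bwd (nat_lit 1) (Steps.fwd (nat_lit 1572864) (Steps.fwd (nat_lit 1310720) (Steps.fwd (nat_lit 786432) (Steps.fwd (nat_lit 262144) (Steps.bwd (nat_lit 6) (Steps.bwd (nat_lit 1) (Steps.bwd (nat_lit 2) (Steps.fwd (nat_lit 262144) (Steps.bwd (nat_lit 6) (Steps.bwd (nat_lit 1) (Steps.fwd (nat_lit 786432) (Steps.fwd (nat_lit 262144) Steps.nil))))))))))))) (nat_lit 34) (nat_lit 11),
  Rule.mk (nat_lit 6) (nat_lit 154) (Steps.bwd (nat_lit 1) (Steps.fwd (nat_lit 1048576) (Steps.bwd (nat_lit 1) (Steps.bwd (nat_lit 6) (Steps.bwd (nat_lit 1) (Steps.bwd (nat_lit 4) (Steps.fwd (nat_lit 262144) Steps.nil))))))) (nat_lit 74) (nat_lit 0),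
  Rule.mk (nat_lit 4) (nat_lit 314) (Steps.bwd (nat_lit 9) (Steps.fwd (nat_lit 1048576) (Steps.fwd (nat_lit 2359296) (Steps.fwd (nat_lit 1048576) (Steps.bwd (nat_lit 9) (Steps.fwd (nat_lit 1048576) (Steps.fwd (nat_lit 2359296) (Steps.bwd (nat_lit 4) (Steps.bwd (nat_lit 9) (Steps.bwd (nat_lit 4) (Steps.fwd (nat_lit 2359296) (Steps.bwd (nat_lit 4) (Steps.bwd (nat_lit 9) (Steps.bwd (nat_lit 4) (Steps.bwd (nat_lit 8) Steps.nil))))))))))))))) (nat_lit 106) (nat_lit 2),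
  Rule.mk (nat_lit 4) (nat_lit 314) (Steps.bwd (nat_lit 9) (Steps.fwd (nat_lit 1048576) (Steps.fwd (nat_lit 2359296) (Steps.fwd (nat_lit 1048576) (Steps.bwd (nat_lit 9) (Steps.bwd (nat_lit 4) (Steps.bwd (nat_lit 8) (Steps.bwd (nat_lit 4) (Steps.bwd (nat_lit 9) (Steps.fwd (nat_lit 1048576) (Steps.fwd (nat_lit 2359296) (Steps.bwd (nat_lit 4) (Steps.fwd (nat_lit 2097152) (Steps.fwd (nat_lit 1048576) (Steps.fwd (nat_lit 2359296) Steps.nil))))))))))))))) (nat_lit 106) (nat_lit 2),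
  Rule.mk (nat_lit 9) (nat_lit 314) (Steps.bwd (nat_lit 4) (Steps.bwd (nat_lit 8) (Steps.fwd (nat_lit 1048576) (Steps.bwd (nat_lit 9) (Steps.fwd (nat_lit 1048576) (Steps.bwd (nat_lit 8) (Steps.fwd (nat_lit 1048576) (Steps.bwd (nat_lit 9) (Steps.bwd (nat_lit 4) (Steps.bwd (nat_lit 8) (Steps.bwd (nat_lit 4) (Steps.fwd (nat_lit 2097152) (Steps.fwd (nat_lit 1048576) (Steps.bwd (nat_lit 8) (Steps.fwd (nat_lit 1048576) Steps.nil))))))))))))))) (nat_lit 106) (nat_lit 3),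
  Rule.mk (nat_lit 9) (nat_lit 314) (Steps.bwd (nat_lit 4) (Steps.bwd (nat_lit 8) (Steps.fwd (nat_lit 1048576) (Steps.fwd (nat_lit 2097152) (Steps.bwd (nat_lit 4) (Steps.fwd (nat_lit 2359296) (Steps.bwd (nat_lit 4) (Steps.fwd (nat_lit 2097152) (Steps.fwd (nat_lit 1048576) (Steps.bwd (nat_lit 8) (Steps.bwd (nat_lit 4) (Steps.bwd (nat_lit 9) (Steps.bwd (nat_lit 4) (Steps.fwd (nat_lit 2359296) (Steps.fwd (nat_lit 1048576) Steps.nil))))))))))))))) (nat_lit 106) (nat_lit 3),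
  Rule.mk (nat_lit 8) (nat_lit 314) (Steps.bwd (nat_lit 4) (Steps.fwd (nat_lit 2097152) (Steps.fwd (nat_lit 1048576) (Steps.bwd (nat_lit 8) (Steps.fwd (nat_lit 1048576) (Steps.bwd (nat_lit 9) (Steps.bwd (nat_lit 4) (Steps.fwd (nat_lit 2359296) (Steps.bwd (nat_lit 4) (Steps.bwd (nat_lit 9) (Steps.fwd (nat_lit 1048576) (Steps.fwd (nat_lit 2359296) (Steps.fwd (nat_lit 1048576) (Steps.fwd (nat_lit 2097152) (Steps.bwd (nat_lit 4) Steps.nil))))))))))))))) (nat_lit 106) (nat_lit 1),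
  Rule.mk (nat_lit 4) (nat_lit 314) (Steps.bwd (nat_lit 8) (Steps.bwd (nat_lit 4) (Steps.bwd (nat_lit 9) (Steps.fwd (nat_lit 1048576) (Steps.fwd (nat_lit 2359296) (Steps.bwd (nat_lit 4) (Steps.bwd (nat_lit 9) (Steps.fwd (nat_lit 1048576) (Steps.bwd (nat_lit 8) (Steps.bwd (nat_lit 4) (Steps.bwd (nat_lit 9) (Steps.bwd (nat_lit 4) (Steps.bwd (nat_lit 8) (Steps.bwd (nat_lit 4) (Steps.fwd (nat_lit 2097152) Steps.nil))))))))))))))) (nat_lit 106) (nat_lit 0),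
  Rule.mk (nat_lit 8) (nat_lit 314) (Steps.fwd (nat_lit 1048576) (Steps.fwd (nat_lit 2097152) (Steps.fwd (nat_lit 1048576) (Steps.bwd (nat_lit 8) (Steps.fwd (nat_lit 1048576) (Steps.fwd (nat_lit 2097152) (Steps.bwd (nat_lit 4) (Steps.fwd (nat_lit 2359296) (Steps.bwd (nat_lit 4) (Steps.bwd (nat_lit 9) (Steps.fwd (nat_lit 1048576) (Steps.fwd (nat_lit 2359296) (Steps.fwd (nat_lit 1048576) (Steps.fwd (nat_lit 2097152) (Steps.bwd (nat_lit 4) Steps.nil))))))))))))))) (nat_lit 106) (nat_lit 1),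
  Rule.mk (nat_lit 9) (nat_lit 314) (Steps.bwd (nat_lit 4) (Steps.bwd (nat_lit 8) (Steps.bwd (nat_lit 4) (Steps.fwd (nat_lit 2097152) (Steps.bwd (nat_lit 4) (Steps.bwd (nat_lit 8) (Steps.fwd (nat_lit 1048576) (Steps.fwd (nat_lit 2097152) (Steps.bwd (nat_lit 4) (Steps.bwd (nat_lit 8) (Steps.bwd (nat_lit 4) (Steps.bwd (nat_lit 9) (Steps.bwd (nat_lit 4) (Steps.fwd (nat_lit 2359296) (Steps.bwd (nat_lit 4) Steps.nil))))))))))))))) (nat_lit 106) (nat_lit 3)]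
noncomputable def R_110 : List (Rule) := [Rule.mk (nat_lit 9) (nat_lit 314) (Steps.bwd (nat_lit 4) (Steps.bwd (nat_lit 8) (Steps.bwd (nat_lit 4) (Steps.fwd (nat_lit 2097152) (Steps.bwd (nat_lit 4) (Steps.bwd (nat_lit 8) (Steps.bwd (nat_lit 4) (Steps.bwd (nat_lit 9) (Steps.bwd (nat_lit 4) (Steps.fwd (nat_lit 2359296) (Steps.fwd (nat_lit 1048576) (Steps.fwd (nat_lit 2097152) (Steps.bwd (nat_lit 4) (Steps.bwd (nat_lit 8) (Steps.bwd (nat_lit 4) Steps.nil))))))))))))))) (nat_lit 106) (nat_lit 3),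
  Rule.mk (nat_lit 9) (nat_lit 314) (Steps.bwd (nat_lit 4) (Steps.bwd (nat_lit 8) (Steps.bwd (nat_lit 4) (Steps.fwd (nat_lit 2097152) (Steps.bwd (nat_lit 4) (Steps.bwd (nat_lit 8) (Steps.fwd (nat_lit 1048576) (Steps.bwd (nat_lit 9) (Steps.fwd (nat_lit 1048576) (Steps.fwd (nat_lit 2359296) (Steps.fwd (nat_lit 1048576) (Steps.fwd (nat_lit 2097152) (Steps.fwd (nat_lit 1048576) (Steps.fwd (nat_lit 2359296) (Steps.bwd (nat_lit 4) Steps.nil))))))))))))))) (nat_lit 106) (nat_lit 3),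
  Rule.mk (nat_lit 8) (nat_lit 314) (Steps.bwd (nat_lit 4) (Steps.bwd (nat_lit 9) (Steps.bwd (nat_lit 4) (Steps.bwd (nat_lit 8) (Steps.fwd (nat_lit 1048576) (Steps.bwd (nat_lit 9) (Steps.bwd (nat_lit 4) (Steps.bwd (nat_lit 8) (Steps.fwd (nat_lit 1048576) (Steps.fwd (nat_lit 2097152) (Steps.bwd (nat_lit 4) (Steps.fwd (nat_lit 2359296) (Steps.fwd (nat_lit 1048576) (Steps.bwd (nat_lit 9) (Steps.fwd (nat_lit 1048576) Steps.nil))))))))))))))) (nat_lit 106) (nat_lit 1),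
  Rule.mk (nat_lit 4) (nat_lit 314) (Steps.bwd (nat_lit 8) (Steps.fwd (nat_lit 1048576) (Steps.fwd (nat_lit 2097152) (Steps.bwd (nat_lit 4) (Steps.fwd (nat_lit 2359296) (Steps.fwd (nat_lit 1048576) (Steps.fwd (nat_lit 2097152) (Steps.bwd (nat_lit 4) (Steps.bwd (nat_lit 8) (Steps.bwd (nat_lit 4) (Steps.bwd (nat_lit 9) (Steps.fwd (nat_lit 1048576) (Steps.fwd (nat_lit 2359296) (Steps.fwd (nat_lit 1048576) (Steps.fwd (nat_lit 2097152) Steps.nil))))))))))))))) (nat_lit 106) (nat_lit 0),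
  Rule.mk (nat_lit 4) (nat_lit 314) (Steps.bwd (nat_lit 9) (Steps.fwd (nat_lit 1048576) (Steps.fwd (nat_lit 2359296) (Steps.bwd (nat_lit 4) (Steps.bwd (nat_lit 9) (Steps.bwd (nat_lit 4) (Steps.bwd (nat_lit 8) (Steps.bwd (nat_lit 4) (Steps.bwd (nat_lit 9) (Steps.bwd (nat_lit 4) (Steps.bwd (nat_lit 8) (Steps.fwd (nat_lit 1048576) (Steps.bwd (nat_lit 9) (Steps.fwd (nat_lit 1048576) (Steps.fwd (nat_lit 2359296) Steps.nil))))))))))))))) (nat_lit 106) (nat_lit 2),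
  Rule.mk (nat_lit 4) (nat_lit 314) (Steps.bwd (nat_lit 8) (Steps.bwd (nat_lit 4) (Steps.bwd (nat_lit 9) (Steps.fwd (nat_lit 1048576) (Steps.fwd (nat_lit 2359296) (Steps.bwd (nat_lit 4) (Steps.bwd (nat_lit 9) (Steps.bwd (nat_lit 4) (Steps.bwd (nat_lit 8) (Steps.fwd (nat_lit 1048576) (Steps.bwd (nat_lit 9) (Steps.fwd (nat_lit 1048576) (Steps.bwd (nat_lit 8) (Steps.fwd (nat_lit 1048576) (Steps.bwd (nat_lit 9) Steps.nil))))))))))))))) (nat_lit 106) (nat_lit 0),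
  Rule.mk (nat_lit 8) (nat_lit 314) (Steps.bwd (nat_lit 4) (Steps.bwd (nat_lit 9) (Steps.bwd (nat_lit 4) (Steps.fwd (nat_lit 2359296) (Steps.bwd (nat_lit 4) (Steps.fwd (nat_lit 2097152) (Steps.bwd (nat_lit 4) (Steps.bwd (nat_lit 8) (Steps.fwd (nat_lit 1048576) (Steps.bwd (nat_lit 9) (Steps.fwd (nat_lit 1048576) (Steps.fwd (nat_lit 2359296) (Steps.bwd (nat_lit 4) (Steps.bwd (nat_lit 9) (Steps.bwd (nat_lit 4) Steps.nil))))))))))))))) (nat_lit 106) (nat_lit 1),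
  Rule.mk (nat_lit 8) (nat_lit 314) (Steps.bwd (nat_lit 4) (Steps.bwd (nat_lit 9) (Steps.fwd (nat_lit 1048576) (Steps.fwd (nat_lit 2359296) (Steps.bwd (nat_lit 4) (Steps.fwd (nat_lit 2097152) (Steps.bwd (nat_lit 4) (Steps.bwd (nat_lit 8) (Steps.bwd (nat_lit 4) (Steps.bwd (nat_lit 9) (Steps.bwd (nat_lit 4) (Steps.fwd (nat_lit 2359296) (Steps.fwd (nat_lit 1048576) (Steps.fwd (nat_lit 2097152) (Steps.fwd (nat_lit 1048576) Steps.nil))))))))))))))) (nat_lit 106) (nat_lit 1),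
  Rule.mk (nat_lit 8) (nat_lit 314) (Steps.bwd (nat_lit 4) (Steps.bwd (nat_lit 9) (Steps.bwd (nat_lit 4) (Steps.bwd (nat_lit 8) (Steps.bwd (nat_lit 4) (Steps.bwd (nat_lit 9) (Steps.fwd (nat_lit 1048576) (Steps.bwd (nat_lit 8) (Steps.bwd (nat_lit 4) (Steps.bwd (nat_lit 9) (Steps.fwd (nat_lit 1048576) (Steps.fwd (nat_lit 2359296) (Steps.fwd (nat_lit 1048576) (Steps.fwd (nat_lit 2097152) (Steps.bwd (nat_lit 4) Steps.nil))))))))))))))) (nat_lit 106) (nat_lit 1),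
  Rule.mk (nat_lit 4) (nat_lit 314) (Steps.bwd (nat_lit 9) (Steps.bwd (nat_lit 4) (Steps.bwd (nat_lit 8) (Steps.bwd (nat_lit 4) (Steps.bwd (nat_lit 9) (Steps.fwd (nat_lit 1048576) (Steps.fwd (nat_lit 2359296) (Steps.bwd (nat_lit 4) (Steps.bwd (nat_lit 9) (Steps.bwd (nat_lit 4) (Steps.bwd (nat_lit 8) (Steps.bwd (nat_lit 4) (Steps.bwd (nat_lit 9) (Steps.fwd (nat_lit 1048576) (Steps.fwd (nat_lit 2359296) Steps.nil))))))))))))))) (nat_lit 106) (nat_lit 2),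
  Rule.mk (nat_lit 9) (nat_lit 314) (Steps.bwd (nat_lit 4) (Steps.fwd (nat_lit 2359296) (Steps.bwd (nat_lit 4) (Steps.fwd (nat_lit 2097152) (Steps.bwd (nat_lit 4) (Steps.fwd (nat_lit 2359296) (Steps.fwd (nat_lit 1048576) (Steps.fwd (nat_lit 2097152) (Steps.fwd (nat_lit 1048576) (Steps.bwd (nat_lit 8) (Steps.fwd (nat_lit 1048576) (Steps.bwd (nat_lit 9) (Steps.fwd (nat_lit 1048576) (Steps.bwd (nat_lit 8) (Steps.bwd (nat_lit 4) Steps.nil))))))))))))))) (nat_lit 106) (nat_lit 3),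
  Rule.mk (nat_lit 8) (nat_lit 314) (Steps.bwd (nat_lit 4) (Steps.bwd (nat_lit 9) (Steps.bwd (nat_lit 4) (Steps.fwd (nat_lit 2359296) (Steps.fwd (nat_lit 1048576) (Steps.bwd (nat_lit 9) (Steps.bwd (nat_lit 4) (Steps.fwd (nat_lit 2359296) (Steps.fwd (nat_lit 1048576) (Steps.fwd (nat_lit 2097152) (Steps.bwd (nat_lit 4) (Steps.fwd (nat_lit 2359296) (Steps.fwd (nat_lit 1048576) (Steps.fwd (nat_lit 2097152) (Steps.fwd (nat_lit 1048576) Steps.nil))))))))))))))) (nat_lit 106) (nat_lit 1),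
  Rule.mk (nat_lit 9) (nat_lit 314) (Steps.bwd (nat_lit 4) (Steps.bwd (nat_lit 8) (Steps.fwd (nat_lit 1048576) (Steps.fwd (nat_lit 2097152) (Steps.fwd (nat_lit 1048576) (Steps.fwd (nat_lit 2359296) (Steps.bwd (nat_lit 4) (Steps.bwd (nat_lit 9) (Steps.fwd (nat_lit 1048576) (Steps.fwd (nat_lit 2359296) (Steps.fwd (nat_lit 1048576) (Steps.fwd (nat_lit 2097152) (Steps.bwd (nat_lit 4) (Steps.fwd (nat_lit 2359296) (Steps.fwd (nat_lit 1048576) Steps.nil))))))))))))))) (nat_lit 106) (nat_lit 3),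
  Rule.mk (nat_lit 9) (nat_lit 314) (Steps.bwd (nat_lit 4) (Steps.bwd (nat_lit 8) (Steps.fwd (nat_lit 1048576) (Steps.bwd (nat_lit 9) (Steps.bwd (nat_lit 4) (Steps.fwd (nat_lit 2359296) (Steps.fwd (nat_lit 1048576) (Steps.fwd (nat_lit 2097152) (Steps.fwd (nat_lit 1048576) (Steps.fwd (nat_lit 2359296) (Steps.fwd (nat_lit 1048576) (Steps.fwd (nat_lit 2097152) (Steps.fwd (nat_lit 1048576) (Steps.fwd (nat_lit 2359296) (Steps.fwd (nat_lit 1048576) Steps.nil))))))))))))))) (nat_lit 106) (nat_lit 3),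
  Rule.mk (nat_lit 9) (nat_lit 314) (Steps.bwd (nat_lit 4) (Steps.bwd (nat_lit 8) (Steps.bwd (nat_lit 4) (Steps.fwd (nat_lit 2097152) (Steps.bwd (nat_lit 4) (Steps.bwd (nat_lit 8) (Steps.fwd (nat_lit 1048576) (Steps.bwd (nat_lit 9) (Steps.bwd (nat_lit 4) (Steps.bwd (nat_lit 8) (Steps.bwd (nat_lit 4) (Steps.bwd (nat_lit 9) (Steps.fwd (nat_lit 1048576) (Steps.fwd (nat_lit 2359296) (Steps.fwd (nat_lit 1048576) Steps.nil))))))))))))))) (nat_lit 106) (nat_lit 3),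
  Rule.mk (nat_lit 9) (nat_lit 314) (Steps.bwd (nat_lit 4) (Steps.bwd (nat_lit 8) (Steps.fwd (nat_lit 1048576) (Steps.bwd (nat_lit 9) (Steps.bwd (nat_lit 4) (Steps.bwd (nat_lit 8) (Steps.fwd (nat_lit 1048576) (Steps.fwd (nat_lit 2097152) (Steps.fwd (nat_lit 1048576) (Steps.fwd (nat_lit 2359296) (Steps.fwd (nat_lit 1048576) (Steps.bwd (nat_lit 9) (Steps.fwd (nat_lit 1048576) (Steps.fwd (nat_lit 2359296) (Steps.fwd (nat_lit 1048576) Steps.nil))))))))))))))) (nat_lit 106) (nat_lit 3),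
  Rule.mk (nat_lit 8) (nat_lit 314) (Steps.bwd (nat_lit 4) (Steps.fwd (nat_lit 2097152) (Steps.bwd (nat_lit 4) (Steps.fwd (nat_lit 2359296) (Steps.fwd (nat_lit 1048576) (Steps.bwd (nat_lit 9) (Steps.fwd (nat_lit 1048576) (Steps.fwd (nat_lit 2359296) (Steps.fwd (nat_lit 1048576) (Steps.bwd (nat_lit 9) (Steps.fwd (nat_lit 1048576) (Steps.fwd (nat_lit 2359296) (Steps.fwd (nat_lit 1048576) (Steps.fwd (nat_lit 2097152) (Steps.bwd (nat_lit 4) Steps.nil))))))))))))))) (nat_lit 106) (nat_lit 1),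
  Rule.mk (nat_lit 4) (nat_lit 314) (Steps.bwd (nat_lit 8) (Steps.bwd (nat_lit 4) (Steps.bwd (nat_lit 9) (Steps.bwd (nat_lit 4) (Steps.bwd (nat_lit 8) (Steps.bwd (nat_lit 4) (Steps.fwd (nat_lit 2097152) (Steps.fwd (nat_lit 1048576) (Steps.fwd (nat_lit 2359296) (Steps.bwd (nat_lit 4) (Steps.bwd (nat_lit 9) (Steps.bwd (nat_lit 4) (Steps.bwd (nat_lit 8) (Steps.bwd (nat_lit 4) (Steps.bwd (nat_lit 9) Steps.nil))))))))))))))) (nat_lit 106) (nat_lit 0),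
  Rule.mk (nat_lit 9) (nat_lit 314) (Steps.bwd (nat_lit 4) (Steps.fwd (nat_lit 2359296) (Steps.bwd (nat_lit 4) (Steps.fwd (nat_lit 2097152) (Steps.bwd (nat_lit 4) (Steps.fwd (nat_lit 2359296) (Steps.bwd (nat_lit 4) (Steps.bwd (nat_lit 9) (Steps.fwd (nat_lit 1048576) (Steps.fwd (nat_lit 2359296) (Steps.fwd (nat_lit 1048576) (Steps.bwd (nat_lit 9) (Steps.fwd (nat_lit 1048576) (Steps.fwd (nat_lit 2359296) (Steps.bwd (nat_lit 4) Steps.nil))))))))))))))) (nat_lit 106) (nat_lit 3),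
  Rule.mk (nat_lit 4) (nat_lit 314) (Steps.bwd (nat_lit 8) (Steps.bwd (nat_lit 4) (Steps.bwd (nat_lit 9) (Steps.bwd (nat_lit 4) (Steps.fwd (nat_lit 2359296) (Steps.fwd (nat_lit 1048576) (Steps.fwd (nat_lit 2097152) (Steps.fwd (nat_lit 1048576) (Steps.fwd (nat_lit 2359296) (Steps.bwd (nat_lit 4) (Steps.fwd (nat_lit 2097152) (Steps.fwd (nat_lit 1048576) (Steps.fwd (nat_lit 2359296) (Steps.fwd (nat_lit 1048576) (Steps.bwd (nat_lit 9) Steps.nil))))))))))))))) (nat_lit 106) (nat_lit 0),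
  Rule.mk (nat_lit 9) (nat_lit 314) (Steps.bwd (nat_lit 4) (Steps.fwd (nat_lit 2359296) (Steps.fwd (nat_lit 1048576) (Steps.fwd (nat_lit 2097152) (Steps.bwd (nat_lit 4) (Steps.bwd (nat_lit 8) (Steps.fwd (nat_lit 1048576) (Steps.fwd (nat_lit 2097152) (Steps.fwd (nat_lit 1048576) (Steps.fwd (nat_lit 2359296) (Steps.fwd (nat_lit 1048576) (Steps.fwd (nat_lit 2097152) (Steps.bwd (nat_lit 4) (Steps.bwd (nat_lit 8) (Steps.bwd (nat_lit 4) Steps.nil))))))))))))))) (nat_lit 106) (nat_lit 3),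
  Rule.mk (nat_lit 4) (nat_lit 314) (Steps.bwd (nat_lit 9) (Steps.bwd (nat_lit 4) (Steps.bwd (nat_lit 8) (Steps.bwd (nat_lit 4) (Steps.fwd (nat_lit 2097152) (Steps.bwd (nat_lit 4) (Steps.fwd (nat_lit 2359296) (Steps.fwd (nat_lit 1048576) (Steps.fwd (nat_lit 2097152) (Steps.bwd (nat_lit 4) (Steps.bwd (nat_lit 8) (Steps.bwd (nat_lit 4) (Steps.bwd (nat_lit 9) (Steps.fwd (nat_lit 1048576) (Steps.fwd (nat_lit 2359296) Steps.nil))))))))))))))) (nat_lit 106) (nat_lit 2),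
  Rule.mk (nat_lit 9) (nat_lit 314) (Steps.bwd (nat_lit 4) (Steps.fwd (nat_lit 2359296) (Steps.fwd (nat_lit 1048576) (Steps.bwd (nat_lit 9) (Steps.bwd (nat_lit 4) (Steps.bwd (nat_lit 8) (Steps.bwd (nat_lit 4) (Steps.bwd (nat_lit 9) (Steps.bwd (nat_lit 4) (Steps.fwd (nat_lit 2359296) (Steps.fwd (nat_lit 1048576) (Steps.fwd (nat_lit 2097152) (Steps.fwd (nat_lit 1048576) (Steps.bwd (nat_lit 8) (Steps.bwd (nat_lit 4) Steps.nil))))))))))))))) (nat_lit 106) (nat_lit 3),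
  Rule.mk (nat_lit 4) (nat_lit 314) (Steps.bwd (nat_lit 9) (Steps.bwd (nat_lit 4) (Steps.fwd (nat_lit 2359296) (Steps.bwd (nat_lit 4) (Steps.fwd (nat_lit 2097152) (Steps.fwd (nat_lit 1048576) (Steps.fwd (nat_lit 2359296) (Steps.fwd (nat_lit 1048576) (Steps.bwd (nat_lit 9) (Steps.bwd (nat_lit 4) (Steps.fwd (nat_lit 2359296) (Steps.bwd (nat_lit 4) (Steps.bwd (nat_lit 9) (Steps.bwd (nat_lit 4) (Steps.fwd (nat_lit 2359296) Steps.nil))))))))))))))) (nat_lit 106) (nat_lit 2),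
  Rule.mk (nat_lit 9) (nat_lit 314) (Steps.bwd (nat_lit 4) (Steps.bwd (nat_lit 8) (Steps.fwd (nat_lit 1048576) (Steps.fwd (nat_lit 2097152) (Steps.fwd (nat_lit 1048576) (Steps.fwd (nat_lit 2359296) (Steps.fwd (nat_lit 1048576) (Steps.bwd (nat_lit 9) (Steps.bwd (nat_lit 4) (Steps.bwd (nat_lit 8) (Steps.fwd (nat_lit 1048576) (Steps.bwd (nat_lit 9) (Steps.fwd (nat_lit 1048576) (Steps.fwd (nat_lit 2359296) (Steps.bwd (nat_lit 4) Steps.nil))))))))))))))) (nat_lit 106) (nat_lit 3),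
  Rule.mk (nat_lit 4) (nat_lit 154) (Steps.bwd (nat_lit 1) (Steps.bwd (nat_lit 6) (Steps.fwd (nat_lit 262144) (Steps.fwd (nat_lit 1048576) (Steps.bwd (nat_lit 1) (Steps.bwd (nat_lit 6) (Steps.bwd (nat_lit 1) Steps.nil))))))) (nat_lit 74) (nat_lit 2),
  Rule.mk (nat_lit 3) (nat_lit 154) (Steps.bwd (nat_lit 1) (Steps.fwd (nat_lit 524288) (Steps.fwd (nat_lit 1835008) (Steps.fwd (nat_lit 262144) (Steps.fwd (nat_lit 524288) (Steps.bwd (nat_lit 1) (Steps.fwd (nat_lit 1835008) Steps.nil))))))) (nat_lit 73) (nat_lit 2),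
  Rule.mk (nat_lit 6) (nat_lit 274) (Steps.bwd (nat_lit 1) (Steps.bwd (nat_lit 6) (Steps.bwd (nat_lit 5) (Steps.fwd (nat_lit 786432) (Steps.fwd (nat_lit 262144) (Steps.fwd (nat_lit 1572864) (Steps.fwd (nat_lit 262144) (Steps.fwd (nat_lit 786432) (Steps.bwd (nat_lit 1) (Steps.fwd (nat_lit 1572864) (Steps.fwd (nat_lit 262144) (Steps.bwd (nat_lit 2) (Steps.fwd (nat_lit 262144) Steps.nil))))))))))))) (nat_lit 34) (nat_lit 11),
  Rule.mk (nat_lit 1) (nat_lit 154) (Steps.bwd (nat_lit 4) (Steps.bwd (nat_lit 1) (Steps.fwd (nat_lit 1572864) (Steps.bwd (nat_lit 1) (Steps.bwd (nat_lit 4) (Steps.fwd (nat_lit 262144) (Steps.fwd (nat_lit 1572864) Steps.nil))))))) (nat_lit 74) (nat_lit 1),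
  Rule.mk (nat_lit 9) (nat_lit 314) (Steps.bwd (nat_lit 4) (Steps.fwd (nat_lit 2359296) (Steps.fwd (nat_lit 1048576) (Steps.fwd (nat_lit 2097152) (Steps.fwd (nat_lit 1048576) (Steps.fwd (nat_lit 2359296) (Steps.fwd (nat_lit 1048576) (Steps.bwd (nat_lit 9) (Steps.bwd (nat_lit 4) (Steps.fwd (nat_lit 2359296) (Steps.fwd (nat_lit 1048576) (Steps.fwd (nat_lit 2097152) (Steps.bwd (nat_lit 4) (Steps.bwd (nat_lit 8) (Steps.bwd (nat_lit 4) Steps.nil))))))))))))))) (nat_lit 106) (nat_lit 3),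
  Rule.mk (nat_lit 8) (nat_lit 314) (Steps.bwd (nat_lit 4) (Steps.fwd (nat_lit 2097152) (Steps.fwd (nat_lit 1048576) (Steps.fwd (nat_lit 2359296) (Steps.bwd (nat_lit 4) (Steps.bwd (nat_lit 9) (Steps.fwd (nat_lit 1048576) (Steps.fwd (nat_lit 2359296) (Steps.bwd (nat_lit 4) (Steps.fwd (nat_lit 2097152) (Steps.fwd (nat_lit 1048576) (Steps.bwd (nat_lit 8) (Steps.fwd (nat_lit 1048576) (Steps.fwd (nat_lit 2097152) (Steps.fwd (nat_lit 1048576) Steps.nil))))))))))))))) (nat_lit 106) (nat_lit 1),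
  Rule.mk (nat_lit 4) (nat_lit 314) (Steps.bwd (nat_lit 9) (Steps.bwd (nat_lit 4) (Steps.fwd (nat_lit 2359296) (Steps.bwd (nat_lit 4) (Steps.bwd (nat_lit 9) (Steps.fwd (nat_lit 1048576) (Steps.bwd (nat_lit 8) (Steps.fwd (nat_lit 1048576) (Steps.fwd (nat_lit 2097152) (Steps.fwd (nat_lit 1048576) (Steps.fwd (nat_lit 2359296) (Steps.fwd (nat_lit 1048576) (Steps.bwd (nat_lit 9) (Steps.fwd (nat_lit 1048576) (Steps.fwd (nat_lit 2359296) Steps.nil))))))))))))))) (nat_lit 106) (nat_lit 2),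
  Rule.mk (nat_lit 9) (nat_lit 314) (Steps.bwd (nat_lit 4) (Steps.fwd (nat_lit 2359296) (Steps.bwd (nat_lit 4) (Steps.bwd (nat_lit 9) (Steps.fwd (nat_lit 1048576) (Steps.fwd (nat_lit 2359296) (Steps.fwd (nat_lit 1048576) (Steps.fwd (nat_lit 2097152) (Steps.fwd (nat_lit 1048576) (Steps.fwd (nat_lit 2359296) (Steps.bwd (nat_lit 4) (Steps.fwd (nat_lit 2097152) (Steps.fwd (nat_lit 1048576) (Steps.fwd (nat_lit 2359296) (Steps.bwd (nat_lit 4) Steps.nil))))))))))))))) (nat_lit 106) (nat_lit 3),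
  Rule.mk (nat_lit 8) (nat_lit 314) (Steps.bwd (nat_lit 4) (Steps.bwd (nat_lit 9) (Steps.fwd (nat_lit 1048576) (Steps.bwd (nat_lit 8) (Steps.fwd (nat_lit 1048576) (Steps.bwd (nat_lit 9) (Steps.fwd (nat_lit 1048576) (Steps.bwd (nat_lit 8) (Steps.fwd (nat_lit 1048576) (Steps.fwd (nat_lit 2097152) (Steps.bwd (nat_lit 4) (Steps.fwd (nat_lit 2359296) (Steps.fwd (nat_lit 1048576) (Steps.fwd (nat_lit 2097152) (Steps.bwd (nat_lit 4) Steps.nil))))))))))))))) (nat_lit 106) (nat_lit 1),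
  Rule.mk (nat_lit 4) (nat_lit 314) (Steps.bwd (nat_lit 8) (Steps.bwd (nat_lit 4) (Steps.bwd (nat_lit 9) (Steps.fwd (nat_lit 1048576) (Steps.fwd (nat_lit 2359296) (Steps.bwd (nat_lit 4) (Steps.bwd (nat_lit 9) (Steps.bwd (nat_lit 4) (Steps.fwd (nat_lit 2359296) (Steps.bwd (nat_lit 4) (Steps.fwd (nat_lit 2097152) (Steps.fwd (nat_lit 1048576) (Steps.bwd (nat_lit 8) (Steps.fwd (nat_lit 1048576) (Steps.fwd (nat_lit 2097152) Steps.nil))))))))))))))) (nat_lit 106) (nat_lit 0),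
  Rule.mk (nat_lit 4) (nat_lit 314) (Steps.bwd (nat_lit 9) (Steps.bwd (nat_lit 4) (Steps.fwd (nat_lit 2359296) (Steps.fwd (nat_lit 1048576) (Steps.bwd (nat_lit 9) (Steps.bwd (nat_lit 4) (Steps.bwd (nat_lit 8) (Steps.bwd (nat_lit 4) (Steps.fwd (nat_lit 2097152) (Steps.fwd (nat_lit 1048576) (Steps.bwd (nat_lit 8) (Steps.bwd (nat_lit 4) (Steps.fwd (nat_lit 2097152) (Steps.fwd (nat_lit 1048576) (Steps.fwd (nat_lit 2359296) Steps.nil))))))))))))))) (nat_lit 106) (nat_lit 2),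
  Rule.mk (nat_lit 9) (nat_lit 314) (Steps.bwd (nat_lit 4) (Steps.fwd (nat_lit 2359296) (Steps.fwd (nat_lit 1048576) (Steps.fwd (nat_lit 2097152) (Steps.bwd (nat_lit 4) (Steps.bwd (nat_lit 8) (Steps.bwd (nat_lit 4) (Steps.fwd (nat_lit 2097152) (Steps.fwd (nat_lit 1048576) (Steps.bwd (nat_lit 8) (Steps.bwd (nat_lit 4) (Steps.bwd (nat_lit 9) (Steps.bwd (nat_lit 4) (Steps.fwd (nat_lit 2359296) (Steps.fwd (nat_lit 1048576) Steps.nil))))))))))))))) (nat_lit 106) (nat_lit 3),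
  Rule.mk (nat_lit 1) (nat_lit 274) (Steps.bwd (nat_lit 3) (Steps.bwd (nat_lit 5) (Steps.bwd (nat_lit 6) (Steps.bwd (nat_lit 1) (Steps.fwd (nat_lit 1572864) (Steps.fwd (nat_lit 262144) (Steps.bwd (nat_lit 3) (Steps.fwd (nat_lit 262144) (Steps.fwd (nat_lit 1572864) (Steps.bwd (nat_lit 1) (Steps.bwd (nat_lit 3) (Steps.bwd (nat_lit 1) (Steps.bwd (nat_lit 6) Steps.nil))))))))))))) (nat_lit 35) (nat_lit 13),
  Rule.mk (nat_lit 4) (nat_lit 314) (Steps.bwd (nat_lit 8) (Steps.bwd (nat_lit 4) (Steps.bwd (nat_lit 9) (Steps.bwd (nat_lit 4) (Steps.bwd (nat_lit 8) (Steps.bwd (nat_lit 4) (Steps.bwd (nat_lit 9) (Steps.bwd (nat_lit 4) (Steps.bwd (nat_lit 8) (Steps.fwd (nat_lit 1048576) (Steps.fwd (nat_lit 2097152) (Steps.fwd (nat_lit 1048576) (Steps.fwd (nat_lit 2359296) (Steps.bwd (nat_lit 4) (Steps.bwd (nat_lit 9) Steps.nil))))))))))))))) (nat_lit 106) (nat_lit 0),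
  Rule.mk (nat_lit 9) (nat_lit 314) (Steps.bwd (nat_lit 4) (Steps.fwd (nat_lit 2359296) (Steps.fwd (nat_lit 1048576) (Steps.bwd (nat_lit 9) (Steps.fwd (nat_lit 1048576) (Steps.bwd (nat_lit 8) (Steps.bwd (nat_lit 4) (Steps.bwd (nat_lit 9) (Steps.fwd (nat_lit 1048576) (Steps.fwd (nat_lit 2359296) (Steps.fwd (nat_lit 1048576) (Steps.bwd (nat_lit 9) (Steps.fwd (nat_lit 1048576) (Steps.fwd (nat_lit 2359296) (Steps.fwd (nat_lit 1048576) Steps.nil))))))))))))))) (nat_lit 106) (nat_lit 3),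
  Rule.mk (nat_lit 8) (nat_lit 314) (Steps.bwd (nat_lit 4) (Steps.bwd (nat_lit 9) (Steps.bwd (nat_lit 4) (Steps.fwd (nat_lit 2359296) (Steps.fwd (nat_lit 1048576) (Steps.fwd (nat_lit 2097152) (Steps.fwd (nat_lit 1048576) (Steps.fwd (nat_lit 2359296) (Steps.fwd (nat_lit 1048576) (Steps.bwd (nat_lit 9) (Steps.bwd (nat_lit 4) (Steps.fwd (nat_lit 2359296) (Steps.fwd (nat_lit 1048576) (Steps.bwd (nat_lit 9) (Steps.fwd (nat_lit 1048576) Steps.nil))))))))))))))) (nat_lit 106) (nat_lit 1),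
  Rule.mk (nat_lit 9) (nat_lit 314) (Steps.bwd (nat_lit 4) (Steps.fwd (nat_lit 2359296) (Steps.fwd (nat_lit 1048576) (Steps.bwd (nat_lit 9) (Steps.bwd (nat_lit 4) (Steps.bwd (nat_lit 8) (Steps.bwd (nat_lit 4) (Steps.bwd (nat_lit 9) (Steps.bwd (nat_lit 4) (Steps.fwd (nat_lit 2359296) (Steps.bwd (nat_lit 4) (Steps.fwd (nat_lit 2097152) (Steps.fwd (nat_lit 1048576) (Steps.fwd (nat_lit 2359296) (Steps.bwd (nat_lit 4) Steps.nil))))))))))))))) (nat_lit 106) (nat_lit 3),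
  Rule.mk (nat_lit 9) (nat_lit 314) (Steps.bwd (nat_lit 4) (Steps.bwd (nat_lit 8) (Steps.fwd (nat_lit 1048576) (Steps.fwd (nat_lit 2097152) (Steps.fwd (nat_lit 1048576) (Steps.fwd (nat_lit 2359296) (Steps.fwd (nat_lit 1048576) (Steps.fwd (nat_lit 2097152) (Steps.bwd (nat_lit 4) (Steps.bwd (nat_lit 8) (Steps.bwd (nat_lit 4) (Steps.fwd (nat_lit 2097152) (Steps.fwd (nat_lit 1048576) (Steps.fwd (nat_lit 2359296) (Steps.fwd (nat_lit 1048576) Steps.nil))))))))))))))) (nat_lit 106) (nat_lit 3),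
  Rule.mk (nat_lit 4) (nat_lit 314) (Steps.bwd (nat_lit 9) (Steps.bwd (nat_lit 4) (Steps.fwd (nat_lit 2359296) (Steps.fwd (nat_lit 1048576) (Steps.bwd (nat_lit 9) (Steps.fwd (nat_lit 1048576) (Steps.fwd (nat_lit 2359296) (Steps.bwd (nat_lit 4) (Steps.bwd (nat_lit 9) (Steps.bwd (nat_lit 4) (Steps.fwd (nat_lit 2359296) (Steps.fwd (nat_lit 1048576) (Steps.bwd (nat_lit 9) (Steps.fwd (nat_lit 1048576) (Steps.fwd (nat_lit 2359296) Steps.nil))))))))))))))) (nat_lit 106) (nat_lit 2),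
  Rule.mk (nat_lit 4) (nat_lit 314) (Steps.bwd (nat_lit 8) (Steps.bwd (nat_lit 4) (Steps.bwd (nat_lit 9) (Steps.bwd (nat_lit 4) (Steps.bwd (nat_lit 8) (Steps.fwd (nat_lit 1048576) (Steps.bwd (nat_lit 9) (Steps.bwd (nat_lit 4) (Steps.bwd (nat_lit 8) (Steps.fwd (nat_lit 1048576) (Steps.fwd (nat_lit 2097152) (Steps.fwd (nat_lit 1048576) (Steps.fwd (nat_lit 2359296) (Steps.fwd (nat_lit 1048576) (Steps.bwd (nat_lit 9) Steps.nil))))))))))))))) (nat_lit 106) (nat_lit 0),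
  Rule.mk (nat_lit 4) (nat_lit 314) (Steps.bwd (nat_lit 8) (Steps.bwd (nat_lit 4) (Steps.bwd (nat_lit 9) (Steps.fwd (nat_lit 1048576) (Steps.fwd (nat_lit 2359296) (Steps.bwd (nat_lit 4) (Steps.fwd (nat_lit 2097152) (Steps.bwd (nat_lit 4) (Steps.bwd (nat_lit 8) (Steps.bwd (nat_lit 4) (Steps.fwd (nat_lit 2097152) (Steps.bwd (nat_lit 4) (Steps.fwd (nat_lit 2359296) (Steps.fwd (nat_lit 1048576) (Steps.fwd (nat_lit 2097152) Steps.nil))))))))))))))) (nat_lit 106) (nat_lit 0),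
  Rule.mk (nat_lit 1) (nat_lit 274) (Steps.bwd (nat_lit 6) (Steps.bwd (nat_lit 5) (Steps.bwd (nat_lit 2) (Steps.bwd (nat_lit 1) (Steps.bwd (nat_lit 6) (Steps.bwd (nat_lit 1) (Steps.bwd (nat_lit 2) (Steps.fwd (nat_lit 262144) (Steps.bwd (nat_lit 6) (Steps.fwd (nat_lit 262144) (Steps.fwd (nat_lit 786432) (Steps.bwd (nat_lit 1) (Steps.bwd (nat_lit 6) Steps.nil))))))))))))) (nat_lit 34) (nat_lit 12),
  Rule.mk (nat_lit 4) (nat_lit 314) (Steps.bwd (nat_lit 8) (Steps.bwd (nat_lit 4) (Steps.bwd (nat_lit 9) (Steps.bwd (nat_lit 4) (Steps.bwd (nat_lit 8) (Steps.fwd (nat_lit 1048576) (Steps.fwd (nat_lit 2097152) (Steps.bwd (nat_lit 4) (Steps.bwd (nat_lit 8) (Steps.bwd (nat_lit 4) (Steps.bwd (nat_lit 9) (Steps.bwd (nat_lit 4) (Steps.fwd (nat_lit 2359296) (Steps.fwd (nat_lit 1048576) (Steps.fwd (nat_lit 2097152) Steps.nil))))))))))))))) (nat_lit 106) (nat_lit 0),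
  Rule.mk (nat_lit 8) (nat_lit 314) (Steps.bwd (nat_lit 4) (Steps.bwd (nat_lit 9) (Steps.fwd (nat_lit 1048576) (Steps.bwd (nat_lit 8) (Steps.bwd (nat_lit 4) (Steps.fwd (nat_lit 2097152) (Steps.bwd (nat_lit 4) (Steps.fwd (nat_lit 2359296) (Steps.bwd (nat_lit 4) (Steps.bwd (nat_lit 9) (Steps.bwd (nat_lit 4) (Steps.fwd (nat_lit 2359296) (Steps.fwd (nat_lit 1048576) (Steps.fwd (nat_lit 2097152) (Steps.fwd (nat_lit 1048576) Steps.nil))))))))))))))) (nat_lit 106) (nat_lit 1),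
  Rule.mk (nat_lit 9) (nat_lit 314) (Steps.bwd (nat_lit 4) (Steps.fwd (nat_lit 2359296) (Steps.fwd (nat_lit 1048576) (Steps.bwd (nat_lit 9) (Steps.bwd (nat_lit 4) (Steps.fwd (nat_lit 2359296) (Steps.bwd (nat_lit 4) (Steps.fwd (nat_lit 2097152) (Steps.bwd (nat_lit 4) (Steps.fwd (nat_lit 2359296) (Steps.fwd (nat_lit 1048576) (Steps.fwd (nat_lit 2097152) (Steps.fwd (nat_lit 1048576) (Steps.fwd (nat_lit 2359296) (Steps.fwd (nat_lit 1048576) Steps.nil))))))))))))))) (nat_lit 106) (nat_lit 3),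
  Rule.mk (nat_lit 4) (nat_lit 314) (Steps.bwd (nat_lit 8) (Steps.bwd (nat_lit 4) (Steps.fwd (nat_lit 2097152) (Steps.fwd (nat_lit 1048576) (Steps.fwd (nat_lit 2359296) (Steps.fwd (nat_lit 1048576) (Steps.fwd (nat_lit 2097152) (Steps.bwd (nat_lit 4) (Steps.fwd (nat_lit 2359296) (Steps.bwd (nat_lit 4) (Steps.fwd (nat_lit 2097152) (Steps.bwd (nat_lit 4) (Steps.fwd (nat_lit 2359296) (Steps.bwd (nat_lit 4) (Steps.fwd (nat_lit 2097152) Steps.nil))))))))))))))) (nat_lit 106) (nat_lit 0),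
  Rule.mk (nat_lit 4) (nat_lit 314) (Steps.bwd (nat_lit 8) (Steps.bwd (nat_lit 4) (Steps.bwd (nat_lit 9) (Steps.bwd (nat_lit 4) (Steps.fwd (nat_lit 2359296) (Steps.bwd (nat_lit 4) (Steps.bwd (nat_lit 9) (Steps.bwd (nat_lit 4) (Steps.fwd (nat_lit 2359296) (Steps.bwd (nat_lit 4) (Steps.bwd (nat_lit 9) (Steps.bwd (nat_lit 4) (Steps.fwd (nat_lit 2359296) (Steps.fwd (nat_lit 1048576) (Steps.bwd (nat_lit 9) Steps.nil))))))))))))))) (nat_lit 106) (nat_lit 0),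
  Rule.mk (nat_lit 4) (nat_lit 314) (Steps.bwd (nat_lit 8) (Steps.bwd (nat_lit 4) (Steps.fwd (nat_lit 2097152) (Steps.bwd (nat_lit 4) (Steps.fwd (nat_lit 2359296) (Steps.fwd (nat_lit 1048576) (Steps.bwd (nat_lit 9) (Steps.bwd (nat_lit 4) (Steps.bwd (nat_lit 8) (Steps.fwd (nat_lit 1048576) (Steps.fwd (nat_lit 2097152) (Steps.fwd (nat_lit 1048576) (Steps.fwd (nat_lit 2359296) (Steps.bwd (nat_lit 4) (Steps.bwd (nat_lit 9) Steps.nil))))))))))))))) (nat_lit 106) (nat_lit 0),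
  Rule.mk (nat_lit 2) (nat_lit 154) (Steps.bwd (nat_lit 1) (Steps.fwd (nat_lit 786432) (Steps.bwd (nat_lit 5) (Steps.fwd (nat_lit 262144) (Steps.fwd (nat_lit 786432) (Steps.fwd (nat_lit 262144) (Steps.fwd (nat_lit 1310720) Steps.nil))))))) (nat_lit 70) (nat_lit 5),
  Rule.mk (nat_lit 6) (nat_lit 154) (Steps.bwd (nat_lit 1) (Steps.bwd (nat_lit 4) (Steps.bwd (nat_lit 1) (Steps.bwd (nat_lit 6) (Steps.bwd (nat_lit 1) (Steps.bwd (nat_lit 4) (Steps.bwd (nat_lit 1) Steps.nil))))))) (nat_lit 74) (nat_lit 0),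
  Rule.mk (nat_lit 6) (nat_lit 114) (Steps.fwd (nat_lit 1048576) (Steps.bwd (nat_lit 3) (Steps.fwd (nat_lit 1310720) (Steps.bwd (nat_lit 4) (Steps.bwd (nat_lit 3) Steps.nil))))) (nat_lit 55) (nat_lit 1),
  Rule.mk (nat_lit 8) (nat_lit 314) (Steps.bwd (nat_lit 4) (Steps.fwd (nat_lit 2097152) (Steps.fwd (nat_lit 1048576) (Steps.fwd (nat_lit 2359296) (Steps.fwd (nat_lit 1048576) (Steps.fwd (nat_lit 2097152) (Steps.bwd (nat_lit 4) (Steps.fwd (nat_lit 2359296) (Steps.fwd (nat_lit 1048576) (Steps.bwd (nat_lit 9) (Steps.fwd (nat_lit 1048576) (Steps.fwd (nat_lit 2359296) (Steps.fwd (nat_lit 1048576) (Steps.bwd (nat_lit 9) (Steps.fwd (nat_lit 1048576) Steps.nil))))))))))))))) (nat_lit 106) (nat_lit 1),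
  Rule.mk (nat_lit 4) (nat_lit 314) (Steps.bwd (nat_lit 9) (Steps.bwd (nat_lit 4) (Steps.fwd (nat_lit 2359296) (Steps.bwd (nat_lit 4) (Steps.bwd (nat_lit 9) (Steps.bwd (nat_lit 4) (Steps.fwd (nat_lit 2359296) (Steps.fwd (nat_lit 1048576) (Steps.fwd (nat_lit 2097152) (Steps.bwd (nat_lit 4) (Steps.fwd (nat_lit 2359296) (Steps.fwd (nat_lit 1048576) (Steps.bwd (nat_lit 9) (Steps.fwd (nat_lit 1048576) (Steps.fwd (nat_lit 2359296) Steps.nil))))))))))))))) (nat_lit 106) (nat_lit 2),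
  Rule.mk (nat_lit 5) (nat_lit 154) (Steps.bwd (nat_lit 1) (Steps.bwd (nat_lit 3) (Steps.fwd (nat_lit 262144) (Steps.fwd (nat_lit 1310720) (Steps.bwd (nat_lit 3) (Steps.fwd (nat_lit 262144) (Steps.bwd (nat_lit 3) Steps.nil))))))) (nat_lit 71) (nat_lit 5),
  Rule.mk (nat_lit 9) (nat_lit 314) (Steps.bwd (nat_lit 4) (Steps.fwd (nat_lit 2359296) (Steps.bwd (nat_lit 4) (Steps.bwd (nat_lit 9) (Steps.fwd (nat_lit 1048576) (Steps.bwd (nat_lit 8) (Steps.fwd (nat_lit 1048576) (Steps.fwd (nat_lit 2097152) (Steps.bwd (nat_lit 4) (Steps.fwd (nat_lit 2359296) (Steps.fwd (nat_lit 1048576) (Steps.fwd (nat_lit 2097152) (Steps.fwd (nat_lit 1048576) (Steps.fwd (nat_lit 2359296) (Steps.fwd (nat_lit 1048576) Steps.nil))))))))))))))) (nat_lit 106) (nat_lit 3),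
  Rule.mk (nat_lit 9) (nat_lit 314) (Steps.bwd (nat_lit 4) (Steps.fwd (nat_lit 2359296) (Steps.bwd (nat_lit 4) (Steps.bwd (nat_lit 9) (Steps.bwd (nat_lit 4) (Steps.bwd (nat_lit 8) (Steps.bwd (nat_lit 4) (Steps.fwd (nat_lit 2097152) (Steps.fwd (nat_lit 1048576) (Steps.fwd (nat_lit 2359296) (Steps.fwd (nat_lit 1048576) (Steps.fwd (nat_lit 2097152) (Steps.fwd (nat_lit 1048576) (Steps.fwd (nat_lit 2359296) (Steps.fwd (nat_lit 1048576) Steps.nil))))))))))))))) (nat_lit 106) (nat_lit 3),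
  Rule.mk (nat_lit 8) (nat_lit 314) (Steps.bwd (nat_lit 4) (Steps.bwd (nat_lit 9) (Steps.bwd (nat_lit 4) (Steps.fwd (nat_lit 2359296) (Steps.bwd (nat_lit 4) (Steps.bwd (nat_lit 9) (Steps.bwd (nat_lit 4) (Steps.fwd (nat_lit 2359296) (Steps.fwd (nat_lit 1048576) (Steps.bwd (nat_lit 9) (Steps.bwd (nat_lit 4) (Steps.bwd (nat_lit 8) (Steps.bwd (nat_lit 4) (Steps.bwd (nat_lit 9) (Steps.bwd (nat_lit 4) Steps.nil))))))))))))))) (nat_lit 106) (nat_lit 1),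
  Rule.mk (nat_lit 4) (nat_lit 314) (Steps.bwd (nat_lit 9) (Steps.bwd (nat_lit 4) (Steps.fwd (nat_lit 2359296) (Steps.bwd (nat_lit 4) (Steps.fwd (nat_lit 2097152) (Steps.bwd (nat_lit 4) (Steps.bwd (nat_lit 8) (Steps.bwd (nat_lit 4) (Steps.bwd (nat_lit 9) (Steps.bwd (nat_lit 4) (Steps.bwd (nat_lit 8) (Steps.fwd (nat_lit 1048576) (Steps.bwd (nat_lit 9) (Steps.bwd (nat_lit 4) (Steps.bwd (nat_lit 8) Steps.nil))))))))))))))) (nat_lit 106) (nat_lit 2),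
  Rule.mk (nat_lit 4) (nat_lit 314) (Steps.bwd (nat_lit 8) (Steps.bwd (nat_lit 4) (Steps.bwd (nat_lit 9) (Steps.fwd (nat_lit 1048576) (Steps.fwd (nat_lit 2359296) (Steps.fwd (nat_lit 1048576) (Steps.fwd (nat_lit 2097152) (Steps.bwd (nat_lit 4) (Steps.bwd (nat_lit 8) (Steps.fwd (nat_lit 1048576) (Steps.fwd (nat_lit 2097152) (Steps.fwd (nat_lit 1048576) (Steps.fwd (nat_lit 2359296) (Steps.bwd (nat_lit 4) (Steps.fwd (nat_lit 2097152) Steps.nil))))))))))))))) (nat_lit 106) (nat_lit 0)]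
noncomputable def R_111 : List (Rule) := [Rule.mk (nat_lit 8) (nat_lit 314) (Steps.bwd (nat_lit 4) (Steps.bwd (nat_lit 9) (Steps.fwd (nat_lit 1048576) (Steps.fwd (nat_lit 2359296) (Steps.bwd (nat_lit 4) (Steps.fwd (nat_lit 2097152) (Steps.bwd (nat_lit 4) (Steps.fwd (nat_lit 2359296) (Steps.bwd (nat_lit 4) (Steps.bwd (nat_lit 9) (Steps.bwd (nat_lit 4) (Steps.bwd (nat_lit 8) (Steps.fwd (nat_lit 1048576) (Steps.fwd (nat_lit 2097152) (Steps.bwd (nat_lit 4) Steps.nil))))))))))))))) (nat_lit 106) (nat_lit 1),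
  Rule.mk (nat_lit 4) (nat_lit 314) (Steps.bwd (nat_lit 9) (Steps.bwd (nat_lit 4) (Steps.bwd (nat_lit 8) (Steps.bwd (nat_lit 4) (Steps.bwd (nat_lit 9) (Steps.bwd (nat_lit 4) (Steps.fwd (nat_lit 2359296) (Steps.fwd (nat_lit 1048576) (Steps.fwd (nat_lit 2097152) (Steps.bwd (nat_lit 4) (Steps.bwd (nat_lit 8) (Steps.fwd (nat_lit 1048576) (Steps.bwd (nat_lit 9) (Steps.fwd (nat_lit 1048576) (Steps.fwd (nat_lit 2359296) Steps.nil))))))))))))))) (nat_lit 106) (nat_lit 2),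
  Rule.mk (nat_lit 1) (nat_lit 154) (Steps.bwd (nat_lit 4) (Steps.fwd (nat_lit 262144) (Steps.fwd (nat_lit 1835008) (Steps.fwd (nat_lit 1048576) (Steps.fwd (nat_lit 262144) (Steps.fwd (nat_lit 1048576) (Steps.fwd (nat_lit 1835008) Steps.nil))))))) (nat_lit 76) (nat_lit 1),
  Rule.mk (nat_lit 8) (nat_lit 314) (Steps.bwd (nat_lit 4) (Steps.fwd (nat_lit 2097152) (Steps.bwd (nat_lit 4) (Steps.bwd (nat_lit 8) (Steps.fwd (nat_lit 1048576) (Steps.bwd (nat_lit 9) (Steps.bwd (nat_lit 4) (Steps.bwd (nat_lit 8) (Steps.fwd (nat_lit 1048576) (Steps.fwd (nat_lit 2097152) (Steps.fwd (nat_lit 1048576) (Steps.bwd (nat_lit 8) (Steps.bwd (nat_lit 4) (Steps.fwd (nat_lit 2097152) (Steps.fwd (nat_lit 1048576) Steps.nil))))))))))))))) (nat_lit 106) (nat_lit 1),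
  Rule.mk (nat_lit 9) (nat_lit 314) (Steps.bwd (nat_lit 4) (Steps.bwd (nat_lit 8) (Steps.bwd (nat_lit 4) (Steps.bwd (nat_lit 9) (Steps.bwd (nat_lit 4) (Steps.bwd (nat_lit 8) (Steps.bwd (nat_lit 4) (Steps.fwd (nat_lit 2097152) (Steps.bwd (nat_lit 4) (Steps.fwd (nat_lit 2359296) (Steps.fwd (nat_lit 1048576) (Steps.fwd (nat_lit 2097152) (Steps.bwd (nat_lit 4) (Steps.fwd (nat_lit 2359296) (Steps.fwd (nat_lit 1048576) Steps.nil))))))))))))))) (nat_lit 106) (nat_lit 3),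
  Rule.mk (nat_lit 8) (nat_lit 314) (Steps.bwd (nat_lit 4) (Steps.bwd (nat_lit 9) (Steps.fwd (nat_lit 1048576) (Steps.fwd (nat_lit 2359296) (Steps.bwd (nat_lit 4) (Steps.bwd (nat_lit 9) (Steps.fwd (nat_lit 1048576) (Steps.fwd (nat_lit 2359296) (Steps.fwd (nat_lit 1048576) (Steps.fwd (nat_lit 2097152) (Steps.bwd (nat_lit 4) (Steps.fwd (nat_lit 2359296) (Steps.bwd (nat_lit 4) (Steps.bwd (nat_lit 9) (Steps.fwd (nat_lit 1048576) Steps.nil))))))))))))))) (nat_lit 106) (nat_lit 1),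
  Rule.mk (nat_lit 4) (nat_lit 314) (Steps.bwd (nat_lit 8) (Steps.bwd (nat_lit 4) (Steps.bwd (nat_lit 9) (Steps.bwd (nat_lit 4) (Steps.fwd (nat_lit 2359296) (Steps.fwd (nat_lit 1048576) (Steps.bwd (nat_lit 9) (Steps.fwd (nat_lit 1048576) (Steps.fwd (nat_lit 2359296) (Steps.fwd (nat_lit 1048576) (Steps.fwd (nat_lit 2097152) (Steps.bwd (nat_lit 4) (Steps.fwd (nat_lit 2359296) (Steps.bwd (nat_lit 4) (Steps.bwd (nat_lit 9) Steps.nil))))))))))))))) (nat_lit 106) (nat_lit 0),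
  Rule.mk (nat_lit 4) (nat_lit 314) (Steps.bwd (nat_lit 9) (Steps.bwd (nat_lit 4) (Steps.fwd (nat_lit 2359296) (Steps.fwd (nat_lit 1048576) (Steps.fwd (nat_lit 2097152) (Steps.bwd (nat_lit 4) (Steps.fwd (nat_lit 2359296) (Steps.bwd (nat_lit 4) (Steps.bwd (nat_lit 9) (Steps.fwd (nat_lit 1048576) (Steps.fwd (nat_lit 2359296) (Steps.fwd (nat_lit 1048576) (Steps.bwd (nat_lit 9) (Steps.fwd (nat_lit 1048576) (Steps.fwd (nat_lit 2359296) Steps.nil))))))))))))))) (nat_lit 106) (nat_lit 2),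
  Rule.mk (nat_lit 8) (nat_lit 314) (Steps.bwd (nat_lit 4) (Steps.bwd (nat_lit 9) (Steps.fwd (nat_lit 1048576) (Steps.fwd (nat_lit 2359296) (Steps.bwd (nat_lit 4) (Steps.bwd (nat_lit 9) (Steps.fwd (nat_lit 1048576) (Steps.bwd (nat_lit 8) (Steps.fwd (nat_lit 1048576) (Steps.bwd (nat_lit 9) (Steps.bwd (nat_lit 4) (Steps.fwd (nat_lit 2359296) (Steps.fwd (nat_lit 1048576) (Steps.fwd (nat_lit 2097152) (Steps.fwd (nat_lit 1048576) Steps.nil))))))))))))))) (nat_lit 106) (nat_lit 1),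
  Rule.mk (nat_lit 4) (nat_lit 114) (Steps.fwd (nat_lit 262144) (Steps.fwd (nat_lit 1048576) (Steps.bwd (nat_lit 1) (Steps.fwd (nat_lit 1048576) (Steps.bwd (nat_lit 1) Steps.nil))))) (nat_lit 16) (nat_lit 0),
  Rule.mk (nat_lit 4) (nat_lit 314) (Steps.bwd (nat_lit 8) (Steps.bwd (nat_lit 4) (Steps.bwd (nat_lit 9) (Steps.fwd (nat_lit 1048576) (Steps.bwd (nat_lit 8) (Steps.bwd (nat_lit 4) (Steps.bwd (nat_lit 9) (Steps.bwd (nat_lit 4) (Steps.fwd (nat_lit 2359296) (Steps.fwd (nat_lit 1048576) (Steps.bwd (nat_lit 9) (Steps.fwd (nat_lit 1048576) (Steps.fwd (nat_lit 2359296) (Steps.bwd (nat_lit 4) (Steps.bwd (nat_lit 9) Steps.nil))))))))))))))) (nat_lit 106) (nat_lit 0),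
  Rule.mk (nat_lit 9) (nat_lit 314) (Steps.bwd (nat_lit 4) (Steps.fwd (nat_lit 2359296) (Steps.fwd (nat_lit 1048576) (Steps.bwd (nat_lit 9) (Steps.bwd (nat_lit 4) (Steps.fwd (nat_lit 2359296) (Steps.fwd (nat_lit 1048576) (Steps.fwd (nat_lit 2097152) (Steps.bwd (nat_lit 4) (Steps.fwd (nat_lit 2359296) (Steps.fwd (nat_lit 1048576) (Steps.bwd (nat_lit 9) (Steps.fwd (nat_lit 1048576) (Steps.fwd (nat_lit 2359296) (Steps.fwd (nat_lit 1048576) Steps.nil))))))))))))))) (nat_lit 106) (nat_lit 3),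
  Rule.mk (nat_lit 8) (nat_lit 314) (Steps.bwd (nat_lit 4) (Steps.fwd (nat_lit 2097152) (Steps.fwd (nat_lit 1048576) (Steps.fwd (nat_lit 2359296) (Steps.bwd (nat_lit 4) (Steps.bwd (nat_lit 9) (Steps.bwd (nat_lit 4) (Steps.fwd (nat_lit 2359296) (Steps.fwd (nat_lit 1048576) (Steps.fwd (nat_lit 2097152) (Steps.fwd (nat_lit 1048576) (Steps.fwd (nat_lit 2359296) (Steps.bwd (nat_lit 4) (Steps.bwd (nat_lit 9) (Steps.bwd (nat_lit 4) Steps.nil))))))))))))))) (nat_lit 106) (nat_lit 1),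
  Rule.mk (nat_lit 1) (nat_lit 274) (Steps.bwd (nat_lit 6) (Steps.fwd (nat_lit 1310720) (Steps.bwd (nat_lit 2) (Steps.fwd (nat_lit 262144) (Steps.bwd (nat_lit 6) (Steps.fwd (nat_lit 262144) (Steps.fwd (nat_lit 786432) (Steps.fwd (nat_lit 262144) (Steps.bwd (nat_lit 6) (Steps.bwd (nat_lit 1) (Steps.bwd (nat_lit 2) (Steps.fwd (nat_lit 262144) (Steps.bwd (nat_lit 6) Steps.nil))))))))))))) (nat_lit 34) (nat_lit 12),
  Rule.mk (nat_lit 4) (nat_lit 314) (Steps.bwd (nat_lit 8) (Steps.bwd (nat_lit 4) (Steps.bwd (nat_lit 9) (Steps.fwd (nat_lit 1048576) (Steps.fwd (nat_lit 2359296) (Steps.fwd (nat_lit 1048576) (Steps.fwd (nat_lit 2097152) (Steps.bwd (nat_lit 4) (Steps.fwd (nat_lit 2359296) (Steps.bwd (nat_lit 4) (Steps.bwd (nat_lit 9) (Steps.fwd (nat_lit 1048576) (Steps.fwd (nat_lit 2359296) (Steps.bwd (nat_lit 4) (Steps.bwd (nat_lit 9) Steps.nil))))))))))))))) (nat_lit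 106) (nat_lit 0),
  Rule.mk (nat_lit 1) (nat_lit 274) (Steps.bwd (nat_lit 2) (Steps.bwd (nat_lit 1) (Steps.fwd (nat_lit 1572864) (Steps.fwd (nat_lit 262144) (Steps.fwd (nat_lit 786432) (Steps.fwd (nat_lit 262144) (Steps.fwd (nat_lit 1572864) (Steps.fwd (nat_lit 262144) (Steps.fwd (nat_lit 1572864) (Steps.bwd (nat_lit 5) (Steps.bwd (nat_lit 2) (Steps.bwd (nat_lit 1) (Steps.bwd (nat_lit 6) Steps.nil))))))))))))) (nat_lit 34) (nat_lit 4),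
  Rule.mk (nat_lit 4) (nat_lit 314) (Steps.bwd (nat_lit 8) (Steps.bwd (nat_lit 4) (Steps.fwd (nat_lit 2097152) (Steps.bwd (nat_lit 4) (Steps.bwd (nat_lit 8) (Steps.fwd (nat_lit 1048576) (Steps.fwd (nat_lit 2097152) (Steps.fwd (nat_lit 1048576) (Steps.fwd (nat_lit 2359296) (Steps.fwd (nat_lit 1048576) (Steps.fwd (nat_lit 2097152) (Steps.fwd (nat_lit 1048576) (Steps.fwd (nat_lit 2359296) (Steps.bwd (nat_lit 4) (Steps.bwd (nat_lit 9) Steps.nil))))))))))))))) (nat_lit 106) (nat_lit 0),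
  Rule.mk (nat_lit 4) (nat_lit 314) (Steps.bwd (nat_lit 9) (Steps.bwd (nat_lit 4) (Steps.fwd (nat_lit 2359296) (Steps.bwd (nat_lit 4) (Steps.bwd (nat_lit 9) (Steps.fwd (nat_lit 1048576) (Steps.bwd (nat_lit 8) (Steps.fwd (nat_lit 1048576) (Steps.bwd (nat_lit 9) (Steps.fwd (nat_lit 1048576) (Steps.fwd (nat_lit 2359296) (Steps.fwd (nat_lit 1048576) (Steps.bwd (nat_lit 9) (Steps.fwd (nat_lit 1048576) (Steps.bwd (nat_lit 8) Steps.nil))))))))))))))) (nat_lit 106) (nat_lit 2),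
  Rule.mk (nat_lit 9) (nat_lit 314) (Steps.bwd (nat_lit 4) (Steps.bwd (nat_lit 8) (Steps.bwd (nat_lit 4) (Steps.bwd (nat_lit 9) (Steps.fwd (nat_lit 1048576) (Steps.fwd (nat_lit 2359296) (Steps.fwd (nat_lit 1048576) (Steps.bwd (nat_lit 9) (Steps.fwd (nat_lit 1048576) (Steps.fwd (nat_lit 2359296) (Steps.bwd (nat_lit 4) (Steps.bwd (nat_lit 9) (Steps.fwd (nat_lit 1048576) (Steps.fwd (nat_lit 2359296) (Steps.fwd (nat_lit 1048576) Steps.nil))))))))))))))) (nat_lit 106) (nat_lit 3),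
  Rule.mk (nat_lit 6) (nat_lit 154) (Steps.bwd (nat_lit 1) (Steps.fwd (nat_lit 1048576) (Steps.bwd (nat_lit 1) (Steps.bwd (nat_lit 6) (Steps.fwd (nat_lit 262144) (Steps.bwd (nat_lit 4) (Steps.bwd (nat_lit 1) Steps.nil))))))) (nat_lit 74) (nat_lit 0),
  Rule.mk (nat_lit 9) (nat_lit 314) (Steps.bwd (nat_lit 4) (Steps.bwd (nat_lit 8) (Steps.bwd (nat_lit 4) (Steps.bwd (nat_lit 9) (Steps.fwd (nat_lit 1048576) (Steps.fwd (nat_lit 2359296) (Steps.bwd (nat_lit 4) (Steps.bwd (nat_lit 9) (Steps.fwd (nat_lit 1048576) (Steps.fwd (nat_lit 2359296) (Steps.bwd (nat_lit 4) (Steps.bwd (nat_lit 9) (Steps.bwd (nat_lit 4) (Steps.fwd (nat_lit 2359296) (Steps.bwd (nat_lit 4) Steps.nil))))))))))))))) (nat_lit 106) (nat_lit 3),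
  Rule.mk (nat_lit 8) (nat_lit 314) (Steps.bwd (nat_lit 4) (Steps.bwd (nat_lit 9) (Steps.bwd (nat_lit 4) (Steps.fwd (nat_lit 2359296) (Steps.bwd (nat_lit 4) (Steps.bwd (nat_lit 9) (Steps.fwd (nat_lit 1048576) (Steps.fwd (nat_lit 2359296) (Steps.fwd (nat_lit 1048576) (Steps.fwd (nat_lit 2097152) (Steps.bwd (nat_lit 4) (Steps.fwd (nat_lit 2359296) (Steps.fwd (nat_lit 1048576) (Steps.fwd (nat_lit 2097152) (Steps.fwd (nat_lit 1048576) Steps.nil))))))))))))))) (nat_lit 106) (nat_lit 1),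
  Rule.mk (nat_lit 4) (nat_lit 314) (Steps.bwd (nat_lit 8) (Steps.bwd (nat_lit 4) (Steps.bwd (nat_lit 9) (Steps.bwd (nat_lit 4) (Steps.fwd (nat_lit 2359296) (Steps.bwd (nat_lit 4) (Steps.bwd (nat_lit 9) (Steps.fwd (nat_lit 1048576) (Steps.bwd (nat_lit 8) (Steps.bwd (nat_lit 4) (Steps.fwd (nat_lit 2097152) (Steps.fwd (nat_lit 1048576) (Steps.fwd (nat_lit 2359296) (Steps.fwd (nat_lit 1048576) (Steps.fwd (nat_lit 2097152) Steps.nil))))))))))))))) (nat_lit 106) (nat_lit 0),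
  Rule.mk (nat_lit 4) (nat_lit 314) (Steps.bwd (nat_lit 9) (Steps.bwd (nat_lit 4) (Steps.bwd (nat_lit 8) (Steps.bwd (nat_lit 4) (Steps.bwd (nat_lit 9) (Steps.bwd (nat_lit 4) (Steps.bwd (nat_lit 8) (Steps.bwd (nat_lit 4) (Steps.fwd (nat_lit 2097152) (Steps.fwd (nat_lit 1048576) (Steps.bwd (nat_lit 8) (Steps.bwd (nat_lit 4) (Steps.bwd (nat_lit 9) (Steps.fwd (nat_lit 1048576) (Steps.fwd (nat_lit 2359296) Steps.nil))))))))))))))) (nat_lit 106) (nat_lit 2),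
  Rule.mk (nat_lit 4) (nat_lit 314) (Steps.bwd (nat_lit 9) (Steps.bwd (nat_lit 4) (Steps.fwd (nat_lit 2359296) (Steps.bwd (nat_lit 4) (Steps.fwd (nat_lit 2097152) (Steps.bwd (nat_lit 4) (Steps.fwd (nat_lit 2359296) (Steps.fwd (nat_lit 1048576) (Steps.fwd (nat_lit 2097152) (Steps.bwd (nat_lit 4) (Steps.fwd (nat_lit 2359296) (Steps.fwd (nat_lit 1048576) (Steps.bwd (nat_lit 9) (Steps.bwd (nat_lit 4) (Steps.fwd (nat_lit 2359296) Steps.nil))))))))))))))) (nat_lit 106) (nat_lit 2),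
  Rule.mk (nat_lit 9) (nat_lit 314) (Steps.bwd (nat_lit 4) (Steps.fwd (nat_lit 2359296) (Steps.fwd (nat_lit 1048576) (Steps.fwd (nat_lit 2097152) (Steps.fwd (nat_lit 1048576) (Steps.fwd (nat_lit 2359296) (Steps.bwd (nat_lit 4) (Steps.bwd (nat_lit 9) (Steps.bwd (nat_lit 4) (Steps.bwd (nat_lit 8) (Steps.fwd (nat_lit 1048576) (Steps.bwd (nat_lit 9) (Steps.fwd (nat_lit 1048576) (Steps.fwd (nat_lit 2359296) (Steps.fwd (nat_lit 1048576) Steps.nil))))))))))))))) (nat_lit 106) (nat_lit 3),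
  Rule.mk (nat_lit 8) (nat_lit 314) (Steps.bwd (nat_lit 4) (Steps.bwd (nat_lit 9) (Steps.fwd (nat_lit 1048576) (Steps.fwd (nat_lit 2359296) (Steps.fwd (nat_lit 1048576) (Steps.fwd (nat_lit 2097152) (Steps.bwd (nat_lit 4) (Steps.fwd (nat_lit 2359296) (Steps.fwd (nat_lit 1048576) (Steps.fwd (nat_lit 2097152) (Steps.fwd (nat_lit 1048576) (Steps.fwd (nat_lit 2359296) (Steps.fwd (nat_lit 1048576) (Steps.fwd (nat_lit 2097152) (Steps.bwd (nat_lit 4) Steps.nil))))))))))))))) (nat_lit 106) (nat_lit 1),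
  Rule.mk (nat_lit 4) (nat_lit 314) (Steps.bwd (nat_lit 8) (Steps.bwd (nat_lit 4) (Steps.bwd (nat_lit 9) (Steps.fwd (nat_lit 1048576) (Steps.bwd (nat_lit 8) (Steps.fwd (nat_lit 1048576) (Steps.fwd (nat_lit 2097152) (Steps.bwd (nat_lit 4) (Steps.bwd (nat_lit 8) (Steps.bwd (nat_lit 4) (Steps.fwd (nat_lit 2097152) (Steps.bwd (nat_lit 4) (Steps.fwd (nat_lit 2359296) (Steps.fwd (nat_lit 1048576) (Steps.fwd (nat_lit 2097152) Steps.nil))))))))))))))) (nat_lit 106) (nat_lit 0),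
  Rule.mk (nat_lit 6) (nat_lit 274) (Steps.bwd (nat_lit 1) (Steps.fwd (nat_lit 1572864) (Steps.fwd (nat_lit 1310720) (Steps.fwd (nat_lit 786432) (Steps.fwd (nat_lit 262144) (Steps.fwd (nat_lit 1572864) (Steps.bwd (nat_lit 1) (Steps.fwd (nat_lit 786432) (Steps.bwd (nat_lit 1) (Steps.fwd (nat_lit 1572864) (Steps.bwd (nat_lit 1) (Steps.fwd (nat_lit 786432) (Steps.fwd (nat_lit 262144) Steps.nil))))))))))))) (nat_lit 34) (nat_lit 11),
  Rule.mk (nat_lit 8) (nat_lit 314) (Steps.bwd (nat_lit 4) (Steps.bwd (nat_lit 9) (Steps.fwd (nat_lit 1048576) (Steps.fwd (nat_lit 2359296) (Steps.bwd (nat_lit 4) (Steps.fwd (nat_lit 2097152) (Steps.fwd (nat_lit 1048576) (Steps.fwd (nat_lit 2359296) (Steps.bwd (nat_lit 4) (Steps.bwd (nat_lit 9) (Steps.fwd (nat_lit 1048576) (Steps.fwd (nat_lit 2359296) (Steps.fwd (nat_lit 1048576) (Steps.bwd (nat_lit 9) (Steps.bwd (nat_lit 4) Steps.nil)))))))))))))))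 (nat_lit 106) (nat_lit 1),
  Rule.mk (nat_lit 1) (nat_lit 154) (Steps.bwd (nat_lit 6) (Steps.bwd (nat_lit 1) (Steps.fwd (nat_lit 1048576) (Steps.fwd (nat_lit 262144) (Steps.bwd (nat_lit 6) (Steps.fwd (nat_lit 262144) (Steps.bwd (nat_lit 4) Steps.nil))))))) (nat_lit 74) (nat_lit 3),
  Rule.mk (nat_lit 8) (nat_lit 314) (Steps.bwd (nat_lit 4) (Steps.bwd (nat_lit 9) (Steps.fwd (nat_lit 1048576) (Steps.bwd (nat_lit 8) (Steps.bwd (nat_lit 4) (Steps.fwd (nat_lit 2097152) (Steps.fwd (nat_lit 1048576) (Steps.bwd (nat_lit 8) (Steps.bwd (nat_lit 4) (Steps.bwd (nat_lit 9) (Steps.bwd (nat_lit 4) (Steps.fwd (nat_lit 2359296) (Steps.fwd (nat_lit 1048576) (Steps.fwd (nat_lit 2097152) (Steps.fwd (nat_lit 1048576) Steps.nil))))))))))))))) (nat_lit 106) (nat_lit 1),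
  Rule.mk (nat_lit 8) (nat_lit 314) (Steps.bwd (nat_lit 4) (Steps.bwd (nat_lit 9) (Steps.fwd (nat_lit 1048576) (Steps.fwd (nat_lit 2359296) (Steps.fwd (nat_lit 1048576) (Steps.bwd (nat_lit 9) (Steps.bwd (nat_lit 4) (Steps.fwd (nat_lit 2359296) (Steps.bwd (nat_lit 4) (Steps.fwd (nat_lit 2097152) (Steps.bwd (nat_lit 4) (Steps.fwd (nat_lit 2359296) (Steps.bwd (nat_lit 4) (Steps.bwd (nat_lit 9) (Steps.bwd (nat_lit 4) Steps.nil))))))))))))))) (nat_lit 106) (nat_lit 1),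
  Rule.mk (nat_lit 4) (nat_lit 314) (Steps.bwd (nat_lit 8) (Steps.bwd (nat_lit 4) (Steps.bwd (nat_lit 9) (Steps.fwd (nat_lit 1048576) (Steps.fwd (nat_lit 2359296) (Steps.fwd (nat_lit 1048576) (Steps.fwd (nat_lit 2097152) (Steps.fwd (nat_lit 1048576) (Steps.bwd (nat_lit 8) (Steps.fwd (nat_lit 1048576) (Steps.bwd (nat_lit 9) (Steps.fwd (nat_lit 1048576) (Steps.fwd (nat_lit 2359296) (Steps.fwd (nat_lit 1048576) (Steps.fwd (nat_lit 2097152) Steps.nil))))))))))))))) (nat_lit 106) (nat_lit 0),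
  Rule.mk (nat_lit 4) (nat_lit 314) (Steps.bwd (nat_lit 9) (Steps.bwd (nat_lit 4) (Steps.fwd (nat_lit 2359296) (Steps.fwd (nat_lit 1048576) (Steps.bwd (nat_lit 9) (Steps.bwd (nat_lit 4) (Steps.bwd (nat_lit 8) (Steps.bwd (nat_lit 4) (Steps.bwd (nat_lit 9) (Steps.fwd (nat_lit 1048576) (Steps.fwd (nat_lit 2359296) (Steps.fwd (nat_lit 1048576) (Steps.fwd (nat_lit 2097152) (Steps.bwd (nat_lit 4) (Steps.bwd (nat_lit 8) Steps.nil))))))))))))))) (nat_lit 106) (nat_lit 2),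
  Rule.mk (nat_lit 9) (nat_lit 314) (Steps.bwd (nat_lit 4) (Steps.fwd (nat_lit 2359296) (Steps.fwd (nat_lit 1048576) (Steps.fwd (nat_lit 2097152) (Steps.bwd (nat_lit 4) (Steps.bwd (nat_lit 8) (Steps.fwd (nat_lit 1048576) (Steps.fwd (nat_lit 2097152) (Steps.fwd (nat_lit 1048576) (Steps.fwd (nat_lit 2359296) (Steps.fwd (nat_lit 1048576) (Steps.bwd (nat_lit 9) (Steps.fwd (nat_lit 1048576) (Steps.bwd (nat_lit 8) (Steps.bwd (nat_lit 4) Steps.nil))))))))))))))) (nat_lit 106) (nat_lit 3),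
  Rule.mk (nat_lit 4) (nat_lit 314) (Steps.bwd (nat_lit 8) (Steps.bwd (nat_lit 4) (Steps.bwd (nat_lit 9) (Steps.fwd (nat_lit 1048576) (Steps.fwd (nat_lit 2359296) (Steps.fwd (nat_lit 1048576) (Steps.bwd (nat_lit 9) (Steps.bwd (nat_lit 4) (Steps.fwd (nat_lit 2359296) (Steps.fwd (nat_lit 1048576) (Steps.fwd (nat_lit 2097152) (Steps.bwd (nat_lit 4) (Steps.bwd (nat_lit 8) (Steps.bwd (nat_lit 4) (Steps.fwd (nat_lit 2097152) Steps.nil))))))))))))))) (nat_lit 106) (nat_lit 0),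
  Rule.mk (nat_lit 4) (nat_lit 314) (Steps.bwd (nat_lit 8) (Steps.bwd (nat_lit 4) (Steps.bwd (nat_lit 9) (Steps.fwd (nat_lit 1048576) (Steps.fwd (nat_lit 2359296) (Steps.bwd (nat_lit 4) (Steps.bwd (nat_lit 9) (Steps.bwd (nat_lit 4) (Steps.bwd (nat_lit 8) (Steps.fwd (nat_lit 1048576) (Steps.fwd (nat_lit 2097152) (Steps.fwd (nat_lit 1048576) (Steps.fwd (nat_lit 2359296) (Steps.fwd (nat_lit 1048576) (Steps.fwd (nat_lit 2097152) Steps.nil))))))))))))))) (nat_lit 106) (nat_lit 0),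
  Rule.mk (nat_lit 4) (nat_lit 314) (Steps.bwd (nat_lit 9) (Steps.bwd (nat_lit 4) (Steps.fwd (nat_lit 2359296) (Steps.bwd (nat_lit 4) (Steps.bwd (nat_lit 9) (Steps.bwd (nat_lit 4) (Steps.bwd (nat_lit 8) (Steps.bwd (nat_lit 4) (Steps.fwd (nat_lit 2097152) (Steps.fwd (nat_lit 1048576) (Steps.bwd (nat_lit 8) (Steps.bwd (nat_lit 4) (Steps.fwd (nat_lit 2097152) (Steps.fwd (nat_lit 1048576) (Steps.fwd (nat_lit 2359296) Steps.nil))))))))))))))) (nat_lit 106) (nat_lit 2),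
  Rule.mk (nat_lit 9) (nat_lit 314) (Steps.bwd (nat_lit 4) (Steps.bwd (nat_lit 8) (Steps.bwd (nat_lit 4) (Steps.bwd (nat_lit 9) (Steps.bwd (nat_lit 4) (Steps.fwd (nat_lit 2359296) (Steps.fwd (nat_lit 1048576) (Steps.bwd (nat_lit 9) (Steps.bwd (nat_lit 4) (Steps.bwd (nat_lit 8) (Steps.fwd (nat_lit 1048576) (Steps.bwd (nat_lit 9) (Steps.bwd (nat_lit 4) (Steps.fwd (nat_lit 2359296) (Steps.fwd (nat_lit 1048576) Steps.nil))))))))))))))) (nat_lit 106) (nat_lit 3),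
  Rule.mk (nat_lit 9) (nat_lit 314) (Steps.bwd (nat_lit 4) (Steps.fwd (nat_lit 2359296) (Steps.fwd (nat_lit 1048576) (Steps.bwd (nat_lit 9) (Steps.bwd (nat_lit 4) (Steps.fwd (nat_lit 2359296) (Steps.bwd (nat_lit 4) (Steps.bwd (nat_lit 9) (Steps.fwd (nat_lit 1048576) (Steps.bwd (nat_lit 8) (Steps.bwd (nat_lit 4) (Steps.bwd (nat_lit 9) (Steps.bwd (nat_lit 4) (Steps.fwd (nat_lit 2359296) (Steps.fwd (nat_lit 1048576) Steps.nil))))))))))))))) (nat_lit 106) (nat_lit 3),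
  Rule.mk (nat_lit 6) (nat_lit 154) (Steps.bwd (nat_lit 1) (Steps.bwd (nat_lit 4) (Steps.fwd (nat_lit 262144) (Steps.bwd (nat_lit 6) (Steps.bwd (nat_lit 1) (Steps.bwd (nat_lit 4) (Steps.fwd (nat_lit 262144) Steps.nil))))))) (nat_lit 74) (nat_lit 0),
  Rule.mk (nat_lit 4) (nat_lit 314) (Steps.bwd (nat_lit 8) (Steps.bwd (nat_lit 4) (Steps.bwd (nat_lit 9) (Steps.bwd (nat_lit 4) (Steps.fwd (nat_lit 2359296) (Steps.fwd (nat_lit 1048576) (Steps.bwd (nat_lit 9) (Steps.fwd (nat_lit 1048576) (Steps.fwd (nat_lit 2359296) (Steps.bwd (nat_lit 4) (Steps.fwd (nat_lit 2097152) (Steps.bwd (nat_lit 4) (Steps.fwd (nat_lit 2359296) (Steps.fwd (nat_lit 1048576) (Steps.fwd (nat_lit 2097152) Steps.nil))))))))))))))) (nat_lit 106) (nat_lit 0),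
  Rule.mk (nat_lit 4) (nat_lit 314) (Steps.bwd (nat_lit 9) (Steps.bwd (nat_lit 4) (Steps.fwd (nat_lit 2359296) (Steps.fwd (nat_lit 1048576) (Steps.bwd (nat_lit 9) (Steps.bwd (nat_lit 4) (Steps.bwd (nat_lit 8) (Steps.bwd (nat_lit 4) (Steps.bwd (nat_lit 9) (Steps.bwd (nat_lit 4) (Steps.bwd (nat_lit 8) (Steps.fwd (nat_lit 1048576) (Steps.bwd (nat_lit 9) (Steps.bwd (nat_lit 4) (Steps.bwd (nat_lit 8) Steps.nil))))))))))))))) (nat_lit 106) (nat_lit 2),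
  Rule.mk (nat_lit 9) (nat_lit 314) (Steps.bwd (nat_lit 4) (Steps.bwd (nat_lit 8) (Steps.bwd (nat_lit 4) (Steps.bwd (nat_lit 9) (Steps.bwd (nat_lit 4) (Steps.fwd (nat_lit 2359296) (Steps.bwd (nat_lit 4) (Steps.bwd (nat_lit 9) (Steps.bwd (nat_lit 4) (Steps.fwd (nat_lit 2359296) (Steps.bwd (nat_lit 4) (Steps.bwd (nat_lit 9) (Steps.fwd (nat_lit 1048576) (Steps.fwd (nat_lit 2359296) (Steps.fwd (nat_lit 1048576) Steps.nil))))))))))))))) (nat_lit 106) (nat_lit 3),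
  Rule.mk (nat_lit 8) (nat_lit 314) (Steps.bwd (nat_lit 4) (Steps.bwd (nat_lit 9) (Steps.bwd (nat_lit 4) (Steps.bwd (nat_lit 8) (Steps.bwd (nat_lit 4) (Steps.bwd (nat_lit 9) (Steps.bwd (nat_lit 4) (Steps.fwd (nat_lit 2359296) (Steps.fwd (nat_lit 1048576) (Steps.fwd (nat_lit 2097152) (Steps.bwd (nat_lit 4) (Steps.fwd (nat_lit 2359296) (Steps.bwd (nat_lit 4) (Steps.bwd (nat_lit 9) (Steps.fwd (nat_lit 1048576) Steps.nil))))))))))))))) (nat_lit 106) (nat_lit 1),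
  Rule.mk (nat_lit 1) (nat_lit 154) (Steps.bwd (nat_lit 4) (Steps.bwd (nat_lit 1) (Steps.fwd (nat_lit 1835008) (Steps.fwd (nat_lit 1048576) (Steps.bwd (nat_lit 1) (Steps.bwd (nat_lit 4) (Steps.bwd (nat_lit 7) Steps.nil))))))) (nat_lit 76) (nat_lit 1),
  Rule.mk (nat_lit 8) (nat_lit 314) (Steps.bwd (nat_lit 4) (Steps.bwd (nat_lit 9) (Steps.fwd (nat_lit 1048576) (Steps.bwd (nat_lit 8) (Steps.bwd (nat_lit 4) (Steps.bwd (nat_lit 9) (Steps.bwd (nat_lit 4) (Steps.fwd (nat_lit 2359296) (Steps.fwd (nat_lit 1048576) (Steps.fwd (nat_lit 2097152) (Steps.fwd (nat_lit 1048576) (Steps.bwd (nat_lit 8) (Steps.bwd (nat_lit 4) (Steps.bwd (nat_lit 9) (Steps.bwd (nat_lit 4) Steps.nil))))))))))))))) (nat_lit 106) (nat_lit 1),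
  Rule.mk (nat_lit 1) (nat_lit 114) (Steps.fwd (nat_lit 786432) (Steps.fwd (nat_lit 262144) (Steps.bwd (nat_lit 2) (Steps.fwd (nat_lit 262144) (Steps.bwd (nat_lit 2) Steps.nil))))) (nat_lit 12) (nat_lit 1),
  Rule.mk (nat_lit 3) (nat_lit 154) (Steps.bwd (nat_lit 1) (Steps.bwd (nat_lit 7) (Steps.fwd (nat_lit 524288) (Steps.fwd (nat_lit 262144) (Steps.bwd (nat_lit 3) (Steps.fwd (nat_lit 1835008) (Steps.fwd (nat_lit 262144) Steps.nil))))))) (nat_lit 73) (nat_lit 7),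
  Rule.mk (nat_lit 4) (nat_lit 314) (Steps.bwd (nat_lit 9) (Steps.bwd (nat_lit 4) (Steps.bwd (nat_lit 8) (Steps.bwd (nat_lit 4) (Steps.bwd (nat_lit 9) (Steps.bwd (nat_lit 4) (Steps.fwd (nat_lit 2359296) (Steps.fwd (nat_lit 1048576) (Steps.fwd (nat_lit 2097152) (Steps.fwd (nat_lit 1048576) (Steps.bwd (nat_lit 8) (Steps.bwd (nat_lit 4) (Steps.bwd (nat_lit 9) (Steps.fwd (nat_lit 1048576) (Steps.bwd (nat_lit 8) Steps.nil))))))))))))))) (nat_lit 106) (nat_lit 2),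
  Rule.mk (nat_lit 4) (nat_lit 314) (Steps.bwd (nat_lit 8) (Steps.bwd (nat_lit 4) (Steps.bwd (nat_lit 9) (Steps.bwd (nat_lit 4) (Steps.fwd (nat_lit 2359296) (Steps.bwd (nat_lit 4) (Steps.bwd (nat_lit 9) (Steps.bwd (nat_lit 4) (Steps.bwd (nat_lit 8) (Steps.bwd (nat_lit 4) (Steps.fwd (nat_lit 2097152) (Steps.bwd (nat_lit 4) (Steps.fwd (nat_lit 2359296) (Steps.fwd (nat_lit 1048576) (Steps.fwd (nat_lit 2097152) Steps.nil))))))))))))))) (nat_lit 106) (nat_lit 0),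
  Rule.mk (nat_lit 4) (nat_lit 314) (Steps.bwd (nat_lit 9) (Steps.bwd (nat_lit 4) (Steps.fwd (nat_lit 2359296) (Steps.bwd (nat_lit 4) (Steps.fwd (nat_lit 2097152) (Steps.bwd (nat_lit 4) (Steps.fwd (nat_lit 2359296) (Steps.fwd (nat_lit 1048576) (Steps.fwd (nat_lit 2097152) (Steps.fwd (nat_lit 1048576) (Steps.fwd (nat_lit 2359296) (Steps.bwd (nat_lit 4) (Steps.fwd (nat_lit 2097152) (Steps.fwd (nat_lit 1048576) (Steps.fwd (nat_lit 2359296) Steps.nil))))))))))))))) (nat_lit 106) (nat_lit 2),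
  Rule.mk (nat_lit 4) (nat_lit 114) (Steps.bwd (nat_lit 6) (Steps.bwd (nat_lit 2) (Steps.fwd (nat_lit 1048576) (Steps.fwd (nat_lit 1310720) (Steps.bwd (nat_lit 2) Steps.nil))))) (nat_lit 54) (nat_lit 5),
  Rule.mk (nat_lit 4) (nat_lit 314) (Steps.bwd (nat_lit 8) (Steps.bwd (nat_lit 4) (Steps.bwd (nat_lit 9) (Steps.fwd (nat_lit 1048576) (Steps.bwd (nat_lit 8) (Steps.bwd (nat_lit 4) (Steps.bwd (nat_lit 9) (Steps.fwd (nat_lit 1048576) (Steps.bwd (nat_lit 8) (Steps.fwd (nat_lit 1048576) (Steps.bwd (nat_lit 9) (Steps.fwd (nat_lit 1048576) (Steps.fwd (nat_lit 2359296) (Steps.bwd (nat_lit 4) (Steps.bwd (nat_lit 9) Steps.nil))))))))))))))) (nat_lit 106) (nat_lit 0),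
  Rule.mk (nat_lit 1) (nat_lit 154) (Steps.fwd (nat_lit 1048576) (Steps.bwd (nat_lit 7) (Steps.bwd (nat_lit 1) (Steps.fwd (nat_lit 1048576) (Steps.bwd (nat_lit 1) (Steps.bwd (nat_lit 7) (Steps.bwd (nat_lit 4) Steps.nil))))))) (nat_lit 76) (nat_lit 6),
  Rule.mk (nat_lit 4) (nat_lit 314) (Steps.bwd (nat_lit 8) (Steps.bwd (nat_lit 4) (Steps.bwd (nat_lit 9) (Steps.bwd (nat_lit 4) (Steps.fwd (nat_lit 2359296) (Steps.bwd (nat_lit 4) (Steps.bwd (nat_lit 9) (Steps.fwd (nat_lit 1048576) (Steps.bwd (nat_lit 8) (Steps.bwd (nat_lit 4) (Steps.bwd (nat_lit 9) (Steps.fwd (nat_lit 1048576) (Steps.fwd (nat_lit 2359296) (Steps.bwd (nat_lit 4) (Steps.bwd (nat_lit 9) Steps.nil))))))))))))))) (nat_lit 106) (nat_lit 0),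
  Rule.mk (nat_lit 4) (nat_lit 314) (Steps.bwd (nat_lit 8) (Steps.fwd (nat_lit 1048576) (Steps.bwd (nat_lit 9) (Steps.fwd (nat_lit 1048576) (Steps.bwd (nat_lit 8) (Steps.bwd (nat_lit 4) (Steps.fwd (nat_lit 2097152) (Steps.fwd (nat_lit 1048576) (Steps.bwd (nat_lit 8) (Steps.bwd (nat_lit 4) (Steps.bwd (nat_lit 9) (Steps.bwd (nat_lit 4) (Steps.fwd (nat_lit 2359296) (Steps.bwd (nat_lit 4) (Steps.bwd (nat_lit 9) Steps.nil))))))))))))))) (nat_lit 106) (nat_lit 0),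
  Rule.mk (nat_lit 6) (nat_lit 114) (Steps.fwd (nat_lit 1048576) (Steps.fwd (nat_lit 1835008) (Steps.bwd (nat_lit 5) (Steps.fwd (nat_lit 1048576) (Steps.bwd (nat_lit 7) Steps.nil))))) (nat_lit 67) (nat_lit 2),
  Rule.mk (nat_lit 4) (nat_lit 314) (Steps.fwd (nat_lit 2359296) (Steps.bwd (nat_lit 4) (Steps.bwd (nat_lit 9) (Steps.bwd (nat_lit 4) (Steps.fwd (nat_lit 2359296) (Steps.bwd (nat_lit 4) (Steps.fwd (nat_lit 2097152) (Steps.bwd (nat_lit 4) (Steps.bwd (nat_lit 8) (Steps.fwd (nat_lit 1048576) (Steps.bwd (nat_lit 9) (Steps.fwd (nat_lit 1048576) (Steps.bwd (nat_lit 8) (Steps.bwd (nat_lit 4) (Steps.fwd (nat_lit 2097152) Steps.nil))))))))))))))) (nat_lit 106) (nat_lit 0),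
  Rule.mk (nat_lit 4) (nat_lit 314) (Steps.bwd (nat_lit 8) (Steps.fwd (nat_lit 1048576) (Steps.fwd (nat_lit 2097152) (Steps.fwd (nat_lit 1048576) (Steps.fwd (nat_lit 2359296) (Steps.bwd (nat_lit 4) (Steps.fwd (nat_lit 2097152) (Steps.fwd (nat_lit 1048576) (Steps.fwd (nat_lit 2359296) (Steps.bwd (nat_lit 4) (Steps.fwd (nat_lit 2097152) (Steps.bwd (nat_lit 4) (Steps.fwd (nat_lit 2359296) (Steps.fwd (nat_lit 1048576) (Steps.fwd (nat_lit 2097152) Steps.nil))))))))))))))) (nat_lit 106) (nat_lit 0),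
  Rule.mk (nat_lit 9) (nat_lit 314) (Steps.bwd (nat_lit 4) (Steps.fwd (nat_lit 2359296) (Steps.fwd (nat_lit 1048576) (Steps.bwd (nat_lit 9) (Steps.bwd (nat_lit 4) (Steps.bwd (nat_lit 8) (Steps.fwd (nat_lit 1048576) (Steps.bwd (nat_lit 9) (Steps.bwd (nat_lit 4) (Steps.fwd (nat_lit 2359296) (Steps.fwd (nat_lit 1048576) (Steps.fwd (nat_lit 2097152) (Steps.fwd (nat_lit 1048576) (Steps.bwd (nat_lit 8) (Steps.bwd (nat_lit 4) Steps.nil))))))))))))))) (nat_lit 106) (nat_lit 3),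
  Rule.mk (nat_lit 1) (nat_lit 154) (Steps.bwd (nat_lit 4) (Steps.bwd (nat_lit 1) (Steps.bwd (nat_lit 6) (Steps.bwd (nat_lit 1) (Steps.bwd (nat_lit 4) (Steps.bwd (nat_lit 1) (Steps.fwd (nat_lit 1572864) Steps.nil))))))) (nat_lit 74) (nat_lit 1),
  Rule.mk (nat_lit 9) (nat_lit 314) (Steps.bwd (nat_lit 4) (Steps.bwd (nat_lit 8) (Steps.fwd (nat_lit 1048576) (Steps.fwd (nat_lit 2097152) (Steps.fwd (nat_lit 1048576) (Steps.fwd (nat_lit 2359296) (Steps.fwd (nat_lit 1048576) (Steps.fwd (nat_lit 2097152) (Steps.fwd (nat_lit 1048576) (Steps.fwd (nat_lit 2359296) (Steps.fwd (nat_lit 1048576) (Steps.bwd (nat_lit 9) (Steps.fwd (nat_lit 1048576) (Steps.fwd (nat_lit 2359296) (Steps.fwd (nat_lit 1048576) Steps.nil))))))))))))))) (nat_lit 106) (nat_lit 3)]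
noncomputable def R_112 : List (Rule) := [Rule.mk (nat_lit 9) (nat_lit 314) (Steps.bwd (nat_lit 4) (Steps.fwd (nat_lit 2359296) (Steps.fwd (nat_lit 1048576) (Steps.bwd (nat_lit 9) (Steps.bwd (nat_lit 4) (Steps.bwd (nat_lit 8) (Steps.fwd (nat_lit 1048576) (Steps.bwd (nat_lit 9) (Steps.fwd (nat_lit 1048576) (Steps.bwd (nat_lit 8) (Steps.fwd (nat_lit 1048576) (Steps.bwd (nat_lit 9) (Steps.bwd (nat_lit 4) (Steps.fwd (nat_lit 2359296) (Steps.fwd (nat_lit 1048576) Steps.nil))))))))))))))) (nat_lit 106) (nat_lit 3),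
  Rule.mk (nat_lit 9) (nat_lit 314) (Steps.bwd (nat_lit 4) (Steps.bwd (nat_lit 8) (Steps.fwd (nat_lit 1048576) (Steps.fwd (nat_lit 2097152) (Steps.bwd (nat_lit 4) (Steps.bwd (nat_lit 8) (Steps.fwd (nat_lit 1048576) (Steps.fwd (nat_lit 2097152) (Steps.fwd (nat_lit 1048576) (Steps.bwd (nat_lit 8) (Steps.bwd (nat_lit 4) (Steps.bwd (nat_lit 9) (Steps.bwd (nat_lit 4) (Steps.fwd (nat_lit 2359296) (Steps.fwd (nat_lit 1048576) Steps.nil))))))))))))))) (nat_lit 106) (nat_lit 3),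
  Rule.mk (nat_lit 4) (nat_lit 154) (Steps.bwd (nat_lit 1) (Steps.bwd (nat_lit 6) (Steps.bwd (nat_lit 1) (Steps.bwd (nat_lit 4) (Steps.bwd (nat_lit 1) (Steps.fwd (nat_lit 1572864) (Steps.bwd (nat_lit 1) Steps.nil))))))) (nat_lit 74) (nat_lit 2),
  Rule.mk (nat_lit 9) (nat_lit 314) (Steps.bwd (nat_lit 4) (Steps.fwd (nat_lit 2359296) (Steps.fwd (nat_lit 1048576) (Steps.fwd (nat_lit 2097152) (Steps.fwd (nat_lit 1048576) (Steps.bwd (nat_lit 8) (Steps.bwd (nat_lit 4) (Steps.bwd (nat_lit 9) (Steps.fwd (nat_lit 1048576) (Steps.bwd (nat_lit 8) (Steps.bwd (nat_lit 4) (Steps.fwd (nat_lit 2097152) (Steps.fwd (nat_lit 1048576) (Steps.fwd (nat_lit 2359296) (Steps.fwd (nat_lit 1048576) Steps.nil))))))))))))))) (nat_lit 106) (nat_lit 3),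
  Rule.mk (nat_lit 8) (nat_lit 314) (Steps.bwd (nat_lit 4) (Steps.bwd (nat_lit 9) (Steps.fwd (nat_lit 1048576) (Steps.fwd (nat_lit 2359296) (Steps.bwd (nat_lit 4) (Steps.bwd (nat_lit 9) (Steps.fwd (nat_lit 1048576) (Steps.bwd (nat_lit 8) (Steps.bwd (nat_lit 4) (Steps.bwd (nat_lit 9) (Steps.bwd (nat_lit 4) (Steps.bwd (nat_lit 8) (Steps.bwd (nat_lit 4) (Steps.bwd (nat_lit 9) (Steps.bwd (nat_lit 4) Steps.nil))))))))))))))) (nat_lit 106) (nat_lit 1),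
  Rule.mk (nat_lit 8) (nat_lit 314) (Steps.bwd (nat_lit 4) (Steps.bwd (nat_lit 9) (Steps.bwd (nat_lit 4) (Steps.fwd (nat_lit 2359296) (Steps.fwd (nat_lit 1048576) (Steps.bwd (nat_lit 9) (Steps.bwd (nat_lit 4) (Steps.fwd (nat_lit 2359296) (Steps.bwd (nat_lit 4) (Steps.fwd (nat_lit 2097152) (Steps.fwd (nat_lit 1048576) (Steps.fwd (nat_lit 2359296) (Steps.bwd (nat_lit 4) (Steps.fwd (nat_lit 2097152) (Steps.bwd (nat_lit 4) Steps.nil))))))))))))))) (nat_lit 106) (nat_lit 1),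
  Rule.mk (nat_lit 1) (nat_lit 274) (Steps.fwd (nat_lit 1572864) (Steps.fwd (nat_lit 1310720) (Steps.bwd (nat_lit 2) (Steps.fwd (nat_lit 262144) (Steps.fwd (nat_lit 1572864) (Steps.bwd (nat_lit 1) (Steps.bwd (nat_lit 2) (Steps.fwd (nat_lit 262144) (Steps.fwd (nat_lit 1572864) (Steps.fwd (nat_lit 262144) (Steps.fwd (nat_lit 786432) (Steps.fwd (nat_lit 262144) (Steps.bwd (nat_lit 6) Steps.nil))))))))))))) (nat_lit 34) (nat_lit 12),
  Rule.mk (nat_lit 8) (nat_lit 314) (Steps.bwd (nat_lit 4) (Steps.bwd (nat_lit 9) (Steps.bwd (nat_lit 4) (Steps.fwd (nat_lit 2359296) (Steps.bwd (nat_lit 4) (Steps.fwd (nat_lit 2097152) (Steps.fwd (nat_lit 1048576) (Steps.bwd (nat_lit 8) (Steps.bwd (nat_lit 4) (Steps.bwd (nat_lit 9) (Steps.fwd (nat_lit 1048576) (Steps.bwd (nat_lit 8) (Steps.bwd (nat_lit 4) (Steps.bwd (nat_lit 9) (Steps.bwd (nat_lit 4) Steps.nil))))))))))))))) (nat_lit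 106) (nat_lit 1),
  Rule.mk (nat_lit 9) (nat_lit 114) (Steps.fwd (nat_lit 262144) (Steps.bwd (nat_lit 8) (Steps.bwd (nat_lit 2) (Steps.fwd (nat_lit 262144) (Steps.bwd (nat_lit 3) Steps.nil))))) (nat_lit 104) (nat_lit 5),
  Rule.mk (nat_lit 9) (nat_lit 314) (Steps.bwd (nat_lit 4) (Steps.fwd (nat_lit 2359296) (Steps.fwd (nat_lit 1048576) (Steps.bwd (nat_lit 9) (Steps.bwd (nat_lit 4) (Steps.bwd (nat_lit 8) (Steps.bwd (nat_lit 4) (Steps.bwd (nat_lit 9) (Steps.bwd (nat_lit 4) (Steps.fwd (nat_lit 2359296) (Steps.bwd (nat_lit 4) (Steps.bwd (nat_lit 9) (Steps.bwd (nat_lit 4) (Steps.fwd (nat_lit 2359296) (Steps.bwd (nat_lit 4) Steps.nil))))))))))))))) (nat_lit 106) (nat_lit 3),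
  Rule.mk (nat_lit 8) (nat_lit 314) (Steps.bwd (nat_lit 4) (Steps.bwd (nat_lit 9) (Steps.bwd (nat_lit 4) (Steps.fwd (nat_lit 2359296) (Steps.bwd (nat_lit 4) (Steps.bwd (nat_lit 9) (Steps.bwd (nat_lit 4) (Steps.bwd (nat_lit 8) (Steps.bwd (nat_lit 4) (Steps.fwd (nat_lit 2097152) (Steps.bwd (nat_lit 4) (Steps.fwd (nat_lit 2359296) (Steps.fwd (nat_lit 1048576) (Steps.bwd (nat_lit 9) (Steps.fwd (nat_lit 1048576) Steps.nil))))))))))))))) (nat_lit 106) (nat_lit 1),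
  Rule.mk (nat_lit 8) (nat_lit 314) (Steps.bwd (nat_lit 4) (Steps.bwd (nat_lit 9) (Steps.fwd (nat_lit 1048576) (Steps.bwd (nat_lit 8) (Steps.fwd (nat_lit 1048576) (Steps.bwd (nat_lit 9) (Steps.bwd (nat_lit 4) (Steps.fwd (nat_lit 2359296) (Steps.fwd (nat_lit 1048576) (Steps.bwd (nat_lit 9) (Steps.fwd (nat_lit 1048576) (Steps.fwd (nat_lit 2359296) (Steps.fwd (nat_lit 1048576) (Steps.fwd (nat_lit 2097152) (Steps.bwd (nat_lit 4) Steps.nil))))))))))))))) (nat_lit 106) (nat_lit 1),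
  Rule.mk (nat_lit 4) (nat_lit 314) (Steps.bwd (nat_lit 9) (Steps.bwd (nat_lit 4) (Steps.fwd (nat_lit 2359296) (Steps.fwd (nat_lit 1048576) (Steps.fwd (nat_lit 2097152) (Steps.bwd (nat_lit 4) (Steps.fwd (nat_lit 2359296) (Steps.bwd (nat_lit 4) (Steps.bwd (nat_lit 9) (Steps.fwd (nat_lit 1048576) (Steps.fwd (nat_lit 2359296) (Steps.fwd (nat_lit 1048576) (Steps.fwd (nat_lit 2097152) (Steps.fwd (nat_lit 1048576) (Steps.fwd (nat_lit 2359296) Steps.nil))))))))))))))) (nat_lit 106) (nat_lit 2),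
  Rule.mk (nat_lit 4) (nat_lit 314) (Steps.bwd (nat_lit 9) (Steps.bwd (nat_lit 4) (Steps.fwd (nat_lit 2359296) (Steps.fwd (nat_lit 1048576) (Steps.bwd (nat_lit 9) (Steps.bwd (nat_lit 4) (Steps.fwd (nat_lit 2359296) (Steps.fwd (nat_lit 1048576) (Steps.fwd (nat_lit 2097152) (Steps.fwd (nat_lit 1048576) (Steps.bwd (nat_lit 8) (Steps.fwd (nat_lit 1048576) (Steps.bwd (nat_lit 9) (Steps.bwd (nat_lit 4) (Steps.bwd (nat_lit 8) Steps.nil))))))))))))))) (nat_lit 106) (nat_lit 2),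
  Rule.mk (nat_lit 1) (nat_lit 154) (Steps.bwd (nat_lit 4) (Steps.fwd (nat_lit 1835008) (Steps.fwd (nat_lit 262144) (Steps.bwd (nat_lit 4) (Steps.bwd (nat_lit 1) (Steps.bwd (nat_lit 7) (Steps.bwd (nat_lit 4) Steps.nil))))))) (nat_lit 76) (nat_lit 6),
  Rule.mk (nat_lit 8) (nat_lit 314) (Steps.bwd (nat_lit 4) (Steps.bwd (nat_lit 9) (Steps.bwd (nat_lit 4) (Steps.fwd (nat_lit 2359296) (Steps.fwd (nat_lit 1048576) (Steps.bwd (nat_lit 9) (Steps.bwd (nat_lit 4) (Steps.bwd (nat_lit 8) (Steps.fwd (nat_lit 1048576) (Steps.bwd (nat_lit 9) (Steps.fwd (nat_lit 1048576) (Steps.fwd (nat_lit 2359296) (Steps.bwd (nat_lit 4) (Steps.bwd (nat_lit 9) (Steps.fwd (nat_lit 1048576) Steps.nil))))))))))))))) (nat_lit 106) (nat_lit 1),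
  Rule.mk (nat_lit 9) (nat_lit 314) (Steps.bwd (nat_lit 4) (Steps.bwd (nat_lit 8) (Steps.bwd (nat_lit 4) (Steps.fwd (nat_lit 2097152) (Steps.bwd (nat_lit 4) (Steps.bwd (nat_lit 8) (Steps.bwd (nat_lit 4) (Steps.fwd (nat_lit 2097152) (Steps.fwd (nat_lit 1048576) (Steps.bwd (nat_lit 8) (Steps.fwd (nat_lit 1048576) (Steps.bwd (nat_lit 9) (Steps.fwd (nat_lit 1048576) (Steps.fwd (nat_lit 2359296) (Steps.fwd (nat_lit 1048576) Steps.nil))))))))))))))) (nat_lit 106) (nat_lit 3),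
  Rule.mk (nat_lit 1) (nat_lit 274) (Steps.bwd (nat_lit 6) (Steps.bwd (nat_lit 5) (Steps.fwd (nat_lit 786432) (Steps.fwd (nat_lit 262144) (Steps.bwd (nat_lit 6) (Steps.fwd (nat_lit 262144) (Steps.bwd (nat_lit 2) (Steps.bwd (nat_lit 1) (Steps.fwd (nat_lit 1572864) (Steps.fwd (nat_lit 262144) (Steps.fwd (nat_lit 786432) (Steps.bwd (nat_lit 1) (Steps.fwd (nat_lit 1572864) Steps.nil))))))))))))) (nat_lit 34) (nat_lit 12),
  Rule.mk (nat_lit 4) (nat_lit 314) (Steps.bwd (nat_lit 8) (Steps.bwd (nat_lit 4) (Steps.bwd (nat_lit 9) (Steps.bwd (nat_lit 4) (Steps.bwd (nat_lit 8) (Steps.fwd (nat_lit 1048576) (Steps.fwd (nat_lit 2097152) (Steps.fwd (nat_lit 1048576) (Steps.bwd (nat_lit 8) (Steps.bwd (nat_lit 4) (Steps.fwd (nat_lit 2097152) (Steps.fwd (nat_lit 1048576) (Steps.fwd (nat_lit 2359296) (Steps.fwd (nat_lit 1048576) (Steps.bwd (nat_lit 9) Steps.nil))))))))))))))) (nat_lit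 106) (nat_lit 0),
  Rule.mk (nat_lit 8) (nat_lit 314) (Steps.bwd (nat_lit 4) (Steps.fwd (nat_lit 2097152) (Steps.bwd (nat_lit 4) (Steps.bwd (nat_lit 8) (Steps.bwd (nat_lit 4) (Steps.bwd (nat_lit 9) (Steps.bwd (nat_lit 4) (Steps.fwd (nat_lit 2359296) (Steps.fwd (nat_lit 1048576) (Steps.fwd (nat_lit 2097152) (Steps.bwd (nat_lit 4) (Steps.fwd (nat_lit 2359296) (Steps.fwd (nat_lit 1048576) (Steps.bwd (nat_lit 9) (Steps.fwd (nat_lit 1048576) Steps.nil))))))))))))))) (nat_lit 106) (nat_lit 1),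
  Rule.mk (nat_lit 9) (nat_lit 314) (Steps.bwd (nat_lit 4) (Steps.fwd (nat_lit 2359296) (Steps.bwd (nat_lit 4) (Steps.bwd (nat_lit 9) (Steps.bwd (nat_lit 4) (Steps.bwd (nat_lit 8) (Steps.bwd (nat_lit 4) (Steps.bwd (nat_lit 9) (Steps.fwd (nat_lit 1048576) (Steps.fwd (nat_lit 2359296) (Steps.bwd (nat_lit 4) (Steps.bwd (nat_lit 9) (Steps.bwd (nat_lit 4) (Steps.fwd (nat_lit 2359296) (Steps.fwd (nat_lit 1048576) Steps.nil))))))))))))))) (nat_lit 106) (nat_lit 3),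
  Rule.mk (nat_lit 2) (nat_lit 154) (Steps.bwd (nat_lit 1) (Steps.fwd (nat_lit 786432) (Steps.fwd (nat_lit 1310720) (Steps.bwd (nat_lit 1) (Steps.fwd (nat_lit 786432) (Steps.bwd (nat_lit 1) (Steps.bwd (nat_lit 5) Steps.nil))))))) (nat_lit 70) (nat_lit 5),
  Rule.mk (nat_lit 8) (nat_lit 314) (Steps.bwd (nat_lit 4) (Steps.bwd (nat_lit 9) (Steps.bwd (nat_lit 4) (Steps.bwd (nat_lit 8) (Steps.bwd (nat_lit 4) (Steps.fwd (nat_lit 2097152) (Steps.fwd (nat_lit 1048576) (Steps.fwd (nat_lit 2359296) (Steps.fwd (nat_lit 1048576) (Steps.bwd (nat_lit 9) (Steps.fwd (nat_lit 1048576) (Steps.fwd (nat_lit 2359296) (Steps.bwd (nat_lit 4) (Steps.bwd (nat_lit 9) (Steps.bwd (nat_lit 4) Steps.nil))))))))))))))) (nat_lit 106) (nat_lit 1),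
  Rule.mk (nat_lit 4) (nat_lit 314) (Steps.bwd (nat_lit 9) (Steps.fwd (nat_lit 1048576) (Steps.fwd (nat_lit 2359296) (Steps.bwd (nat_lit 4) (Steps.bwd (nat_lit 9) (Steps.bwd (nat_lit 4) (Steps.bwd (nat_lit 8) (Steps.fwd (nat_lit 1048576) (Steps.bwd (nat_lit 9) (Steps.bwd (nat_lit 4) (Steps.bwd (nat_lit 8) (Steps.bwd (nat_lit 4) (Steps.bwd (nat_lit 9) (Steps.fwd (nat_lit 1048576) (Steps.fwd (nat_lit 2359296) Steps.nil))))))))))))))) (nat_lit 106) (nat_lit 2),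
  Rule.mk (nat_lit 9) (nat_lit 314) (Steps.bwd (nat_lit 4) (Steps.bwd (nat_lit 8) (Steps.bwd (nat_lit 4) (Steps.bwd (nat_lit 9) (Steps.bwd (nat_lit 4) (Steps.bwd (nat_lit 8) (Steps.bwd (nat_lit 4) (Steps.bwd (nat_lit 9) (Steps.bwd (nat_lit 4) (Steps.fwd (nat_lit 2359296) (Steps.bwd (nat_lit 4) (Steps.bwd (nat_lit 9) (Steps.bwd (nat_lit 4) (Steps.bwd (nat_lit 8) (Steps.fwd (nat_lit 1048576) Steps.nil))))))))))))))) (nat_lit 106) (nat_lit 3),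
  Rule.mk (nat_lit 4) (nat_lit 314) (Steps.bwd (nat_lit 9) (Steps.fwd (nat_lit 1048576) (Steps.bwd (nat_lit 8) (Steps.fwd (nat_lit 1048576) (Steps.bwd (nat_lit 9) (Steps.fwd (nat_lit 1048576) (Steps.fwd (nat_lit 2359296) (Steps.bwd (nat_lit 4) (Steps.bwd (nat_lit 9) (Steps.bwd (nat_lit 4) (Steps.fwd (nat_lit 2359296) (Steps.fwd (nat_lit 1048576) (Steps.fwd (nat_lit 2097152) (Steps.bwd (nat_lit 4) (Steps.fwd (nat_lit 2359296) Steps.nil))))))))))))))) (nat_lit 106) (nat_lit 2),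
  Rule.mk (nat_lit 4) (nat_lit 314) (Steps.bwd (nat_lit 9) (Steps.fwd (nat_lit 1048576) (Steps.fwd (nat_lit 2359296) (Steps.fwd (nat_lit 1048576) (Steps.bwd (nat_lit 9) (Steps.bwd (nat_lit 4) (Steps.bwd (nat_lit 8) (Steps.bwd (nat_lit 4) (Steps.bwd (nat_lit 9) (Steps.fwd (nat_lit 1048576) (Steps.fwd (nat_lit 2359296) (Steps.fwd (nat_lit 1048576) (Steps.fwd (nat_lit 2097152) (Steps.bwd (nat_lit 4) (Steps.fwd (nat_lit 2359296) Steps.nil))))))))))))))) (nat_lit 106) (nat_lit 2),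
  Rule.mk (nat_lit 4) (nat_lit 314) (Steps.bwd (nat_lit 9) (Steps.bwd (nat_lit 4) (Steps.fwd (nat_lit 2359296) (Steps.fwd (nat_lit 1048576) (Steps.bwd (nat_lit 9) (Steps.fwd (nat_lit 1048576) (Steps.fwd (nat_lit 2359296) (Steps.fwd (nat_lit 1048576) (Steps.fwd (nat_lit 2097152) (Steps.fwd (nat_lit 1048576) (Steps.fwd (nat_lit 2359296) (Steps.fwd (nat_lit 1048576) (Steps.fwd (nat_lit 2097152) (Steps.fwd (nat_lit 1048576) (Steps.fwd (nat_lit 2359296) Steps.nil))))))))))))))) (nat_lit 106) (nat_lit 2),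
  Rule.mk (nat_lit 9) (nat_lit 314) (Steps.bwd (nat_lit 4) (Steps.fwd (nat_lit 2359296) (Steps.fwd (nat_lit 1048576) (Steps.bwd (nat_lit 9) (Steps.fwd (nat_lit 1048576) (Steps.bwd (nat_lit 8) (Steps.fwd (nat_lit 1048576) (Steps.fwd (nat_lit 2097152) (Steps.bwd (nat_lit 4) (Steps.bwd (nat_lit 8) (Steps.bwd (nat_lit 4) (Steps.bwd (nat_lit 9) (Steps.fwd (nat_lit 1048576) (Steps.bwd (nat_lit 8) (Steps.bwd (nat_lit 4) Steps.nil))))))))))))))) (nat_lit 106) (nat_lit 3),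
  Rule.mk (nat_lit 8) (nat_lit 314) (Steps.bwd (nat_lit 4) (Steps.bwd (nat_lit 9) (Steps.bwd (nat_lit 4) (Steps.bwd (nat_lit 8) (Steps.bwd (nat_lit 4) (Steps.fwd (nat_lit 2097152) (Steps.bwd (nat_lit 4) (Steps.fwd (nat_lit 2359296) (Steps.fwd (nat_lit 1048576) (Steps.bwd (nat_lit 9) (Steps.bwd (nat_lit 4) (Steps.fwd (nat_lit 2359296) (Steps.bwd (nat_lit 4) (Steps.bwd (nat_lit 9) (Steps.bwd (nat_lit 4) Steps.nil))))))))))))))) (nat_lit 106) (nat_lit 1),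
  Rule.mk (nat_lit 4) (nat_lit 314) (Steps.bwd (nat_lit 8) (Steps.fwd (nat_lit 1048576) (Steps.bwd (nat_lit 9) (Steps.bwd (nat_lit 4) (Steps.fwd (nat_lit 2359296) (Steps.bwd (nat_lit 4) (Steps.bwd (nat_lit 9) (Steps.fwd (nat_lit 1048576) (Steps.fwd (nat_lit 2359296) (Steps.fwd (nat_lit 1048576) (Steps.fwd (nat_lit 2097152) (Steps.fwd (nat_lit 1048576) (Steps.bwd (nat_lit 8) (Steps.fwd (nat_lit 1048576) (Steps.bwd (nat_lit 9) Steps.nil))))))))))))))) (nat_lit 106) (nat_lit 0),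
  Rule.mk (nat_lit 7) (nat_lit 74) (Steps.fwd (nat_lit 1048576) (Steps.fwd (nat_lit 1835008) (Steps.bwd (nat_lit 4) Steps.nil))) (nat_lit 30) (nat_lit 1),
  Rule.mk (nat_lit 8) (nat_lit 314) (Steps.bwd (nat_lit 4) (Steps.bwd (nat_lit 9) (Steps.fwd (nat_lit 1048576) (Steps.bwd (nat_lit 8) (Steps.bwd (nat_lit 4) (Steps.bwd (nat_lit 9) (Steps.bwd (nat_lit 4) (Steps.bwd (nat_lit 8) (Steps.fwd (nat_lit 1048576) (Steps.fwd (nat_lit 2097152) (Steps.fwd (nat_lit 1048576) (Steps.bwd (nat_lit 8) (Steps.bwd (nat_lit 4) (Steps.fwd (nat_lit 2097152) (Steps.bwd (nat_lit 4) Steps.nil))))))))))))))) (nat_lit 106) (nat_lit 1),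
  Rule.mk (nat_lit 1) (nat_lit 274) (Steps.fwd (nat_lit 1572864) (Steps.bwd (nat_lit 5) (Steps.fwd (nat_lit 786432) (Steps.fwd (nat_lit 262144) (Steps.bwd (nat_lit 6) (Steps.fwd (nat_lit 262144) (Steps.fwd (nat_lit 786432) (Steps.bwd (nat_lit 1) (Steps.fwd (nat_lit 1572864) (Steps.fwd (nat_lit 262144) (Steps.bwd (nat_lit 2) (Steps.fwd (nat_lit 262144) (Steps.bwd (nat_lit 6) Steps.nil))))))))))))) (nat_lit 34) (nat_lit 12),
  Rule.mk (nat_lit 6) (nat_lit 154) (Steps.bwd (nat_lit 1) (Steps.fwd (nat_lit 1048576) (Steps.fwd (nat_lit 262144) (Steps.bwd (nat_lit 6) (Steps.fwd (nat_lit 262144) (Steps.fwd (nat_lit 1048576) (Steps.bwd (nat_lit 1) Steps.nil))))))) (nat_lit 74) (nat_lit 0),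
  Rule.mk (nat_lit 8) (nat_lit 314) (Steps.bwd (nat_lit 4) (Steps.bwd (nat_lit 9) (Steps.bwd (nat_lit 4) (Steps.bwd (nat_lit 8) (Steps.fwd (nat_lit 1048576) (Steps.bwd (nat_lit 9) (Steps.bwd (nat_lit 4) (Steps.bwd (nat_lit 8) (Steps.bwd (nat_lit 4) (Steps.fwd (nat_lit 2097152) (Steps.fwd (nat_lit 1048576) (Steps.fwd (nat_lit 2359296) (Steps.fwd (nat_lit 1048576) (Steps.fwd (nat_lit 2097152) (Steps.bwd (nat_lit 4) Steps.nil))))))))))))))) (nat_lit 106) (nat_lit 1),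
  Rule.mk (nat_lit 9) (nat_lit 314) (Steps.bwd (nat_lit 4) (Steps.fwd (nat_lit 2359296) (Steps.fwd (nat_lit 1048576) (Steps.bwd (nat_lit 9) (Steps.fwd (nat_lit 1048576) (Steps.fwd (nat_lit 2359296) (Steps.bwd (nat_lit 4) (Steps.bwd (nat_lit 9) (Steps.bwd (nat_lit 4) (Steps.fwd (nat_lit 2359296) (Steps.bwd (nat_lit 4) (Steps.fwd (nat_lit 2097152) (Steps.fwd (nat_lit 1048576) (Steps.bwd (nat_lit 8) (Steps.bwd (nat_lit 4) Steps.nil))))))))))))))) (nat_lit 106) (nat_lit 3),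
  Rule.mk (nat_lit 6) (nat_lit 154) (Steps.bwd (nat_lit 1) (Steps.fwd (nat_lit 1048576) (Steps.bwd (nat_lit 1) (Steps.bwd (nat_lit 6) (Steps.fwd (nat_lit 262144) (Steps.fwd (nat_lit 1048576) (Steps.bwd (nat_lit 1) Steps.nil))))))) (nat_lit 74) (nat_lit 0),
  Rule.mk (nat_lit 4) (nat_lit 314) (Steps.bwd (nat_lit 9) (Steps.fwd (nat_lit 1048576) (Steps.fwd (nat_lit 2359296) (Steps.bwd (nat_lit 4) (Steps.fwd (nat_lit 2097152) (Steps.bwd (nat_lit 4) (Steps.fwd (nat_lit 2359296) (Steps.bwd (nat_lit 4) (Steps.fwd (nat_lit 2097152) (Steps.bwd (nat_lit 4) (Steps.bwd (nat_lit 8) (Steps.fwd (nat_lit 1048576) (Steps.bwd (nat_lit 9) (Steps.bwd (nat_lit 4) (Steps.fwd (nat_lit 2359296) Steps.nil))))))))))))))) (nat_lit 106) (nat_lit 2),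
  Rule.mk (nat_lit 4) (nat_lit 314) (Steps.bwd (nat_lit 8) (Steps.bwd (nat_lit 4) (Steps.bwd (nat_lit 9) (Steps.fwd (nat_lit 1048576) (Steps.bwd (nat_lit 8) (Steps.bwd (nat_lit 4) (Steps.bwd (nat_lit 9) (Steps.fwd (nat_lit 1048576) (Steps.bwd (nat_lit 8) (Steps.bwd (nat_lit 4) (Steps.bwd (nat_lit 9) (Steps.fwd (nat_lit 1048576) (Steps.fwd (nat_lit 2359296) (Steps.bwd (nat_lit 4) (Steps.bwd (nat_lit 9) Steps.nil))))))))))))))) (nat_lit 106) (nat_lit 0),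
  Rule.mk (nat_lit 4) (nat_lit 154) (Steps.bwd (nat_lit 1) (Steps.bwd (nat_lit 6) (Steps.bwd (nat_lit 1) (Steps.bwd (nat_lit 4) (Steps.fwd (nat_lit 262144) (Steps.bwd (nat_lit 6) (Steps.fwd (nat_lit 262144) Steps.nil))))))) (nat_lit 74) (nat_lit 2),
  Rule.mk (nat_lit 6) (nat_lit 274) (Steps.bwd (nat_lit 1) (Steps.bwd (nat_lit 2) (Steps.bwd (nat_lit 1) (Steps.fwd (nat_lit 1572864) (Steps.bwd (nat_lit 1) (Steps.bwd (nat_lit 2) (Steps.bwd (nat_lit 1) (Steps.fwd (nat_lit 1572864) (Steps.bwd (nat_lit 1) (Steps.bwd (nat_lit 6) (Steps.fwd (nat_lit 1310720) (Steps.fwd (nat_lit 786432) (Steps.bwd (nat_lit 1) Steps.nil))))))))))))) (nat_lit 34) (nat_lit 3),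
  Rule.mk (nat_lit 9) (nat_lit 314) (Steps.bwd (nat_lit 4) (Steps.fwd (nat_lit 2359296) (Steps.fwd (nat_lit 1048576) (Steps.fwd (nat_lit 2097152) (Steps.bwd (nat_lit 4) (Steps.bwd (nat_lit 8) (Steps.bwd (nat_lit 4) (Steps.bwd (nat_lit 9) (Steps.bwd (nat_lit 4) (Steps.bwd (nat_lit 8) (Steps.bwd (nat_lit 4) (Steps.bwd (nat_lit 9) (Steps.fwd (nat_lit 1048576) (Steps.bwd (nat_lit 8) (Steps.fwd (nat_lit 1048576) Steps.nil))))))))))))))) (nat_lit 106) (nat_lit 3),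
  Rule.mk (nat_lit 4) (nat_lit 154) (Steps.bwd (nat_lit 1) (Steps.bwd (nat_lit 4) (Steps.fwd (nat_lit 1835008) (Steps.bwd (nat_lit 1) (Steps.fwd (nat_lit 1048576) (Steps.fwd (nat_lit 262144) (Steps.fwd (nat_lit 1835008) Steps.nil))))))) (nat_lit 76) (nat_lit 5),
  Rule.mk (nat_lit 9) (nat_lit 314) (Steps.bwd (nat_lit 4) (Steps.bwd (nat_lit 8) (Steps.bwd (nat_lit 4) (Steps.bwd (nat_lit 9) (Steps.fwd (nat_lit 1048576) (Steps.fwd (nat_lit 2359296) (Steps.bwd (nat_lit 4) (Steps.bwd (nat_lit 9) (Steps.fwd (nat_lit 1048576) (Steps.fwd (nat_lit 2359296) (Steps.bwd (nat_lit 4) (Steps.bwd (nat_lit 9) (Steps.fwd (nat_lit 1048576) (Steps.fwd (nat_lit 2359296) (Steps.fwd (nat_lit 1048576) Steps.nil))))))))))))))) (nat_lit 106) (nat_lit 3),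
  Rule.mk (nat_lit 8) (nat_lit 314) (Steps.bwd (nat_lit 4) (Steps.bwd (nat_lit 9) (Steps.bwd (nat_lit 4) (Steps.bwd (nat_lit 8) (Steps.bwd (nat_lit 4) (Steps.fwd (nat_lit 2097152) (Steps.fwd (nat_lit 1048576) (Steps.bwd (nat_lit 8) (Steps.fwd (nat_lit 1048576) (Steps.bwd (nat_lit 9) (Steps.fwd (nat_lit 1048576) (Steps.fwd (nat_lit 2359296) (Steps.fwd (nat_lit 1048576) (Steps.bwd (nat_lit 9) (Steps.fwd (nat_lit 1048576) Steps.nil))))))))))))))) (nat_lit 106) (nat_lit 1),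
  Rule.mk (nat_lit 2) (nat_lit 114) (Steps.bwd (nat_lit 1) (Steps.fwd (nat_lit 524288) (Steps.bwd (nat_lit 9) (Steps.bwd (nat_lit 1) (Steps.bwd (nat_lit 8) Steps.nil))))) (nat_lit 104) (nat_lit 2),
  Rule.mk (nat_lit 6) (nat_lit 274) (Steps.bwd (nat_lit 1) (Steps.bwd (nat_lit 3) (Steps.fwd (nat_lit 1310720) (Steps.bwd (nat_lit 6) (Steps.fwd (nat_lit 262144) (Steps.bwd (nat_lit 6) (Steps.bwd (nat_lit 1) (Steps.bwd (nat_lit 3) (Steps.fwd (nat_lit 262144) (Steps.bwd (nat_lit 6) (Steps.fwd (nat_lit 262144) (Steps.fwd (nat_lit 524288) (Steps.bwd (nat_lit 1) Steps.nil))))))))))))) (nat_lit 35) (nat_lit 12),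
  Rule.mk (nat_lit 8) (nat_lit 314) (Steps.bwd (nat_lit 4) (Steps.bwd (nat_lit 9) (Steps.bwd (nat_lit 4) (Steps.fwd (nat_lit 2359296) (Steps.bwd (nat_lit 4) (Steps.fwd (nat_lit 2097152) (Steps.fwd (nat_lit 1048576) (Steps.fwd (nat_lit 2359296) (Steps.bwd (nat_lit 4) (Steps.bwd (nat_lit 9) (Steps.fwd (nat_lit 1048576) (Steps.fwd (nat_lit 2359296) (Steps.fwd (nat_lit 1048576) (Steps.fwd (nat_lit 2097152) (Steps.fwd (nat_lit 1048576) Steps.nil))))))))))))))) (nat_lit 106) (nat_lit 1),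
  Rule.mk (nat_lit 1) (nat_lit 154) (Steps.fwd (nat_lit 1048576) (Steps.fwd (nat_lit 262144) (Steps.bwd (nat_lit 6) (Steps.fwd (nat_lit 262144) (Steps.bwd (nat_lit 4) (Steps.fwd (nat_lit 262144) (Steps.bwd (nat_lit 6) Steps.nil))))))) (nat_lit 74) (nat_lit 1),
  Rule.mk (nat_lit 9) (nat_lit 314) (Steps.bwd (nat_lit 4) (Steps.bwd (nat_lit 8) (Steps.bwd (nat_lit 4) (Steps.bwd (nat_lit 9) (Steps.fwd (nat_lit 1048576) (Steps.bwd (nat_lit 8) (Steps.bwd (nat_lit 4) (Steps.bwd (nat_lit 9) (Steps.bwd (nat_lit 4) (Steps.fwd (nat_lit 2359296) (Steps.fwd (nat_lit 1048576) (Steps.bwd (nat_lit 9) (Steps.fwd (nat_lit 1048576) (Steps.fwd (nat_lit 2359296) (Steps.fwd (nat_lit 1048576) Steps.nil))))))))))))))) (nat_lit 106) (nat_lit 3),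
  Rule.mk (nat_lit 8) (nat_lit 314) (Steps.bwd (nat_lit 4) (Steps.bwd (nat_lit 9) (Steps.bwd (nat_lit 4) (Steps.bwd (nat_lit 8) (Steps.bwd (nat_lit 4) (Steps.bwd (nat_lit 9) (Steps.fwd (nat_lit 1048576) (Steps.fwd (nat_lit 2359296) (Steps.fwd (nat_lit 1048576) (Steps.bwd (nat_lit 9) (Steps.fwd (nat_lit 1048576) (Steps.fwd (nat_lit 2359296) (Steps.fwd (nat_lit 1048576) (Steps.fwd (nat_lit 2097152) (Steps.bwd (nat_lit 4) Steps.nil))))))))))))))) (nat_lit 106) (nat_lit 1),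
  Rule.mk (nat_lit 9) (nat_lit 314) (Steps.bwd (nat_lit 4) (Steps.fwd (nat_lit 2359296) (Steps.bwd (nat_lit 4) (Steps.bwd (nat_lit 9) (Steps.bwd (nat_lit 4) (Steps.fwd (nat_lit 2359296) (Steps.bwd (nat_lit 4) (Steps.bwd (nat_lit 9) (Steps.bwd (nat_lit 4) (Steps.fwd (nat_lit 2359296) (Steps.fwd (nat_lit 1048576) (Steps.bwd (nat_lit 9) (Steps.fwd (nat_lit 1048576) (Steps.bwd (nat_lit 8) (Steps.bwd (nat_lit 4) Steps.nil))))))))))))))) (nat_lit 106) (nat_lit 3),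
  Rule.mk (nat_lit 4) (nat_lit 314) (Steps.bwd (nat_lit 8) (Steps.bwd (nat_lit 4) (Steps.bwd (nat_lit 9) (Steps.bwd (nat_lit 4) (Steps.fwd (nat_lit 2359296) (Steps.bwd (nat_lit 4) (Steps.bwd (nat_lit 9) (Steps.fwd (nat_lit 1048576) (Steps.fwd (nat_lit 2359296) (Steps.bwd (nat_lit 4) (Steps.bwd (nat_lit 9) (Steps.fwd (nat_lit 1048576) (Steps.fwd (nat_lit 2359296) (Steps.fwd (nat_lit 1048576) (Steps.bwd (nat_lit 9) Steps.nil))))))))))))))) (nat_lit 106) (nat_lit 0),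
  Rule.mk (nat_lit 4) (nat_lit 314) (Steps.bwd (nat_lit 9) (Steps.bwd (nat_lit 4) (Steps.fwd (nat_lit 2359296) (Steps.fwd (nat_lit 1048576) (Steps.bwd (nat_lit 9) (Steps.fwd (nat_lit 1048576) (Steps.fwd (nat_lit 2359296) (Steps.bwd (nat_lit 4) (Steps.bwd (nat_lit 9) (Steps.fwd (nat_lit 1048576) (Steps.fwd (nat_lit 2359296) (Steps.fwd (nat_lit 1048576) (Steps.bwd (nat_lit 9) (Steps.bwd (nat_lit 4) (Steps.bwd (nat_lit 8) Steps.nil))))))))))))))) (nat_lit 106) (nat_lit 2),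
  Rule.mk (nat_lit 4) (nat_lit 314) (Steps.bwd (nat_lit 8) (Steps.bwd (nat_lit 4) (Steps.bwd (nat_lit 9) (Steps.fwd (nat_lit 1048576) (Steps.fwd (nat_lit 2359296) (Steps.bwd (nat_lit 4) (Steps.fwd (nat_lit 2097152) (Steps.bwd (nat_lit 4) (Steps.fwd (nat_lit 2359296) (Steps.bwd (nat_lit 4) (Steps.bwd (nat_lit 9) (Steps.bwd (nat_lit 4) (Steps.bwd (nat_lit 8) (Steps.fwd (nat_lit 1048576) (Steps.fwd (nat_lit 2097152) Steps.nil))))))))))))))) (nat_lit 106) (nat_lit 0),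
  Rule.mk (nat_lit 7) (nat_lit 154) (Steps.fwd (nat_lit 1572864) (Steps.bwd (nat_lit 2) (Steps.fwd (nat_lit 1048576) (Steps.fwd (nat_lit 1835008) (Steps.bwd (nat_lit 5) (Steps.bwd (nat_lit 2) (Steps.bwd (nat_lit 4) Steps.nil))))))) (nat_lit 80) (nat_lit 7),
  Rule.mk (nat_lit 1) (nat_lit 154) (Steps.bwd (nat_lit 4) (Steps.fwd (nat_lit 262144) (Steps.bwd (nat_lit 6) (Steps.bwd (nat_lit 1) (Steps.fwd (nat_lit 1048576) (Steps.fwd (nat_lit 262144) (Steps.bwd (nat_lit 6) Steps.nil))))))) (nat_lit 74) (nat_lit 1),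
  Rule.mk (nat_lit 9) (nat_lit 314) (Steps.bwd (nat_lit 4) (Steps.bwd (nat_lit 8) (Steps.bwd (nat_lit 4) (Steps.bwd (nat_lit 9) (Steps.bwd (nat_lit 4) (Steps.fwd (nat_lit 2359296) (Steps.bwd (nat_lit 4) (Steps.bwd (nat_lit 9) (Steps.bwd (nat_lit 4) (Steps.fwd (nat_lit 2359296) (Steps.fwd (nat_lit 1048576) (Steps.fwd (nat_lit 2097152) (Steps.bwd (nat_lit 4) (Steps.fwd (nat_lit 2359296) (Steps.fwd (nat_lit 1048576) Steps.nil))))))))))))))) (nat_lit 106) (nat_lit 3),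
  Rule.mk (nat_lit 9) (nat_lit 314) (Steps.bwd (nat_lit 4) (Steps.fwd (nat_lit 2359296) (Steps.fwd (nat_lit 1048576) (Steps.bwd (nat_lit 9) (Steps.fwd (nat_lit 1048576) (Steps.bwd (nat_lit 8) (Steps.bwd (nat_lit 4) (Steps.bwd (nat_lit 9) (Steps.fwd (nat_lit 1048576) (Steps.fwd (nat_lit 2359296) (Steps.fwd (nat_lit 1048576) (Steps.fwd (nat_lit 2097152) (Steps.fwd (nat_lit 1048576) (Steps.fwd (nat_lit 2359296) (Steps.bwd (nat_lit 4) Steps.nil))))))))))))))) (nat_lit 106) (nat_lit 3),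
  Rule.mk (nat_lit 8) (nat_lit 314) (Steps.bwd (nat_lit 4) (Steps.bwd (nat_lit 9) (Steps.bwd (nat_lit 4) (Steps.bwd (nat_lit 8) (Steps.bwd (nat_lit 4) (Steps.fwd (nat_lit 2097152) (Steps.bwd (nat_lit 4) (Steps.bwd (nat_lit 8) (Steps.bwd (nat_lit 4) (Steps.bwd (nat_lit 9) (Steps.bwd (nat_lit 4) (Steps.bwd (nat_lit 8) (Steps.bwd (nat_lit 4) (Steps.fwd (nat_lit 2097152) (Steps.bwd (nat_lit 4) Steps.nil))))))))))))))) (nat_lit 106) (nat_lit 1),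
  Rule.mk (nat_lit 1) (nat_lit 154) (Steps.bwd (nat_lit 4) (Steps.bwd (nat_lit 1) (Steps.fwd (nat_lit 1572864) (Steps.bwd (nat_lit 1) (Steps.bwd (nat_lit 4) (Steps.bwd (nat_lit 1) (Steps.fwd (nat_lit 1572864) Steps.nil))))))) (nat_lit 74) (nat_lit 1),
  Rule.mk (nat_lit 9) (nat_lit 314) (Steps.bwd (nat_lit 4) (Steps.fwd (nat_lit 2359296) (Steps.fwd (nat_lit 1048576) (Steps.bwd (nat_lit 9) (Steps.bwd (nat_lit 4) (Steps.fwd (nat_lit 2359296) (Steps.bwd (nat_lit 4) (Steps.bwd (nat_lit 9) (Steps.bwd (nat_lit 4) (Steps.fwd (nat_lit 2359296) (Steps.fwd (nat_lit 1048576) (Steps.bwd (nat_lit 9) (Steps.bwd (nat_lit 4) (Steps.fwd (nat_lit 2359296) (Steps.fwd (nat_lit 1048576) Steps.nil))))))))))))))) (nat_lit 106) (nat_lit 3),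
  Rule.mk (nat_lit 8) (nat_lit 314) (Steps.bwd (nat_lit 4) (Steps.bwd (nat_lit 9) (Steps.bwd (nat_lit 4) (Steps.fwd (nat_lit 2359296) (Steps.fwd (nat_lit 1048576) (Steps.bwd (nat_lit 9) (Steps.fwd (nat_lit 1048576) (Steps.bwd (nat_lit 8) (Steps.bwd (nat_lit 4) (Steps.fwd (nat_lit 2097152) (Steps.bwd (nat_lit 4) (Steps.fwd (nat_lit 2359296) (Steps.fwd (nat_lit 1048576) (Steps.fwd (nat_lit 2097152) (Steps.fwd (nat_lit 1048576) Steps.nil))))))))))))))) (nat_lit 106) (nat_lit 1)]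
noncomputable def R_113 : List (Rule) := [Rule.mk (nat_lit 4) (nat_lit 314) (Steps.bwd (nat_lit 9) (Steps.bwd (nat_lit 4) (Steps.fwd (nat_lit 2359296) (Steps.bwd (nat_lit 4) (Steps.fwd (nat_lit 2097152) (Steps.bwd (nat_lit 4) (Steps.bwd (nat_lit 8) (Steps.bwd (nat_lit 4) (Steps.bwd (nat_lit 9) (Steps.bwd (nat_lit 4) (Steps.fwd (nat_lit 2359296) (Steps.fwd (nat_lit 1048576) (Steps.bwd (nat_lit 9) (Steps.bwd (nat_lit 4) (Steps.fwd (nat_lit 2359296) Steps.nil))))))))))))))) (nat_lit 106) (nat_lit 2),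
  Rule.mk (nat_lit 4) (nat_lit 314) (Steps.bwd (nat_lit 8) (Steps.bwd (nat_lit 4) (Steps.bwd (nat_lit 9) (Steps.fwd (nat_lit 1048576) (Steps.bwd (nat_lit 8) (Steps.bwd (nat_lit 4) (Steps.bwd (nat_lit 9) (Steps.bwd (nat_lit 4) (Steps.fwd (nat_lit 2359296) (Steps.fwd (nat_lit 1048576) (Steps.fwd (nat_lit 2097152) (Steps.fwd (nat_lit 1048576) (Steps.bwd (nat_lit 8) (Steps.fwd (nat_lit 1048576) (Steps.fwd (nat_lit 2097152) Steps.nil))))))))))))))) (nat_lit 106) (nat_lit 0),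
  Rule.mk (nat_lit 9) (nat_lit 314) (Steps.bwd (nat_lit 4) (Steps.fwd (nat_lit 2359296) (Steps.fwd (nat_lit 1048576) (Steps.bwd (nat_lit 9) (Steps.fwd (nat_lit 1048576) (Steps.fwd (nat_lit 2359296) (Steps.bwd (nat_lit 4) (Steps.bwd (nat_lit 9) (Steps.bwd (nat_lit 4) (Steps.fwd (nat_lit 2359296) (Steps.fwd (nat_lit 1048576) (Steps.bwd (nat_lit 9) (Steps.fwd (nat_lit 1048576) (Steps.fwd (nat_lit 2359296) (Steps.bwd (nat_lit 4) Steps.nil))))))))))))))) (nat_lit 106) (nat_lit 3),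
  Rule.mk (nat_lit 1) (nat_lit 274) (Steps.bwd (nat_lit 6) (Steps.bwd (nat_lit 1) (Steps.bwd (nat_lit 3) (Steps.bwd (nat_lit 1) (Steps.fwd (nat_lit 1572864) (Steps.fwd (nat_lit 262144) (Steps.bwd (nat_lit 3) (Steps.fwd (nat_lit 262144) (Steps.bwd (nat_lit 6) (Steps.fwd (nat_lit 262144) (Steps.bwd (nat_lit 3) (Steps.fwd (nat_lit 1310720) (Steps.bwd (nat_lit 6) Steps.nil))))))))))))) (nat_lit 35) (nat_lit 3),
  Rule.mk (nat_lit 1) (nat_lit 274) (Steps.bwd (nat_lit 6) (Steps.fwd (nat_lit 1310720) (Steps.fwd (nat_lit 786432) (Steps.bwd (nat_lit 1) (Steps.bwd (nat_lit 6) (Steps.fwd (nat_lit 262144) (Steps.bwd (nat_lit 2) (Steps.fwd (nat_lit 262144) (Steps.fwd (nat_lit 1572864) (Steps.bwd (nat_lit 1) (Steps.fwd (nat_lit 786432) (Steps.bwd (nat_lit 1) (Steps.fwd (nat_lit 1572864) Steps.nil))))))))))))) (nat_lit 34) (nat_lit 12),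
  Rule.mk (nat_lit 4) (nat_lit 314) (Steps.bwd (nat_lit 8) (Steps.bwd (nat_lit 4) (Steps.bwd (nat_lit 9) (Steps.fwd (nat_lit 1048576) (Steps.fwd (nat_lit 2359296) (Steps.bwd (nat_lit 4) (Steps.bwd (nat_lit 9) (Steps.fwd (nat_lit 1048576) (Steps.bwd (nat_lit 8) (Steps.fwd (nat_lit 1048576) (Steps.bwd (nat_lit 9) (Steps.bwd (nat_lit 4) (Steps.fwd (nat_lit 2359296) (Steps.bwd (nat_lit 4) (Steps.bwd (nat_lit 9) Steps.nil))))))))))))))) (nat_lit 106) (nat_lit 0),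
  Rule.mk (nat_lit 4) (nat_lit 314) (Steps.bwd (nat_lit 8) (Steps.fwd (nat_lit 1048576) (Steps.bwd (nat_lit 9) (Steps.bwd (nat_lit 4) (Steps.bwd (nat_lit 8) (Steps.bwd (nat_lit 4) (Steps.bwd (nat_lit 9) (Steps.fwd (nat_lit 1048576) (Steps.fwd (nat_lit 2359296) (Steps.fwd (nat_lit 1048576) (Steps.fwd (nat_lit 2097152) (Steps.fwd (nat_lit 1048576) (Steps.fwd (nat_lit 2359296) (Steps.bwd (nat_lit 4) (Steps.fwd (nat_lit 2097152) Steps.nil))))))))))))))) (nat_lit 106) (nat_lit 0),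
  Rule.mk (nat_lit 7) (nat_lit 154) (Steps.fwd (nat_lit 1572864) (Steps.bwd (nat_lit 2) (Steps.fwd (nat_lit 1048576) (Steps.fwd (nat_lit 1835008) (Steps.bwd (nat_lit 5) (Steps.fwd (nat_lit 786432) (Steps.bwd (nat_lit 4) Steps.nil))))))) (nat_lit 80) (nat_lit 7),
  Rule.mk (nat_lit 9) (nat_lit 314) (Steps.bwd (nat_lit 4) (Steps.fwd (nat_lit 2359296) (Steps.bwd (nat_lit 4) (Steps.bwd (nat_lit 9) (Steps.bwd (nat_lit 4) (Steps.fwd (nat_lit 2359296) (Steps.fwd (nat_lit 1048576) (Steps.bwd (nat_lit 9) (Steps.bwd (nat_lit 4) (Steps.fwd (nat_lit 2359296) (Steps.fwd (nat_lit 1048576) (Steps.bwd (nat_lit 9) (Steps.fwd (nat_lit 1048576) (Steps.bwd (nat_lit 8) (Steps.fwd (nat_lit 1048576) Steps.nil))))))))))))))) (nat_lit 106) (nat_lit 3),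
  Rule.mk (nat_lit 9) (nat_lit 314) (Steps.bwd (nat_lit 4) (Steps.bwd (nat_lit 8) (Steps.fwd (nat_lit 1048576) (Steps.bwd (nat_lit 9) (Steps.bwd (nat_lit 4) (Steps.bwd (nat_lit 8) (Steps.bwd (nat_lit 4) (Steps.bwd (nat_lit 9) (Steps.fwd (nat_lit 1048576) (Steps.bwd (nat_lit 8) (Steps.bwd (nat_lit 4) (Steps.bwd (nat_lit 9) (Steps.fwd (nat_lit 1048576) (Steps.bwd (nat_lit 8) (Steps.bwd (nat_lit 4) Steps.nil))))))))))))))) (nat_lit 106) (nat_lit 3),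
  Rule.mk (nat_lit 8) (nat_lit 314) (Steps.bwd (nat_lit 4) (Steps.bwd (nat_lit 9) (Steps.bwd (nat_lit 4) (Steps.fwd (nat_lit 2359296) (Steps.fwd (nat_lit 1048576) (Steps.fwd (nat_lit 2097152) (Steps.fwd (nat_lit 1048576) (Steps.fwd (nat_lit 2359296) (Steps.bwd (nat_lit 4) (Steps.bwd (nat_lit 9) (Steps.fwd (nat_lit 1048576) (Steps.fwd (nat_lit 2359296) (Steps.bwd (nat_lit 4) (Steps.bwd (nat_lit 9) (Steps.fwd (nat_lit 1048576) Steps.nil))))))))))))))) (nat_lit 106) (nat_lit 1),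
  Rule.mk (nat_lit 4) (nat_lit 314) (Steps.bwd (nat_lit 8) (Steps.fwd (nat_lit 1048576) (Steps.fwd (nat_lit 2097152) (Steps.bwd (nat_lit 4) (Steps.bwd (nat_lit 8) (Steps.fwd (nat_lit 1048576) (Steps.bwd (nat_lit 9) (Steps.bwd (nat_lit 4) (Steps.fwd (nat_lit 2359296) (Steps.fwd (nat_lit 1048576) (Steps.bwd (nat_lit 9) (Steps.fwd (nat_lit 1048576) (Steps.bwd (nat_lit 8) (Steps.fwd (nat_lit 1048576) (Steps.fwd (nat_lit 2097152) Steps.nil))))))))))))))) (nat_lit 106) (nat_lit 0),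
  Rule.mk (nat_lit 4) (nat_lit 314) (Steps.bwd (nat_lit 9) (Steps.fwd (nat_lit 1048576) (Steps.fwd (nat_lit 2359296) (Steps.bwd (nat_lit 4) (Steps.fwd (nat_lit 2097152) (Steps.fwd (nat_lit 1048576) (Steps.bwd (nat_lit 8) (Steps.fwd (nat_lit 1048576) (Steps.fwd (nat_lit 2097152) (Steps.bwd (nat_lit 4) (Steps.bwd (nat_lit 8) (Steps.bwd (nat_lit 4) (Steps.fwd (nat_lit 2097152) (Steps.fwd (nat_lit 1048576) (Steps.fwd (nat_lit 2359296) Steps.nil))))))))))))))) (nat_lit 106) (nat_lit 2),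
  Rule.mk (nat_lit 1) (nat_lit 274) (Steps.bwd (nat_lit 6) (Steps.bwd (nat_lit 5) (Steps.fwd (nat_lit 786432) (Steps.fwd (nat_lit 262144) (Steps.fwd (nat_lit 1572864) (Steps.bwd (nat_lit 1) (Steps.fwd (nat_lit 786432) (Steps.fwd (nat_lit 262144) (Steps.fwd (nat_lit 1572864) (Steps.bwd (nat_lit 1) (Steps.bwd (nat_lit 2) (Steps.fwd (nat_lit 262144) (Steps.bwd (nat_lit 6) Steps.nil))))))))))))) (nat_lit 34) (nat_lit 12),
  Rule.mk (nat_lit 9) (nat_lit 314) (Steps.bwd (nat_lit 4) (Steps.fwd (nat_lit 2359296) (Steps.fwd (nat_lit 1048576) (Steps.bwd (nat_lit 9) (Steps.bwd (nat_lit 4) (Steps.bwd (nat_lit 8) (Steps.fwd (nat_lit 1048576) (Steps.fwd (nat_lit 2097152) (Steps.bwd (nat_lit 4) (Steps.fwd (nat_lit 2359296) (Steps.fwd (nat_lit 1048576) (Steps.fwd (nat_lit 2097152) (Steps.bwd (nat_lit 4) (Steps.fwd (nat_lit 2359296) (Steps.fwd (nat_lit 1048576) Steps.nil)))))))))))))))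 (nat_lit 106) (nat_lit 3),
  Rule.mk (nat_lit 9) (nat_lit 314) (Steps.fwd (nat_lit 1048576) (Steps.fwd (nat_lit 2359296) (Steps.fwd (nat_lit 1048576) (Steps.fwd (nat_lit 2097152) (Steps.fwd (nat_lit 1048576) (Steps.fwd (nat_lit 2359296) (Steps.bwd (nat_lit 4) (Steps.fwd (nat_lit 2097152) (Steps.bwd (nat_lit 4) (Steps.bwd (nat_lit 8) (Steps.bwd (nat_lit 4) (Steps.bwd (nat_lit 9) (Steps.fwd (nat_lit 1048576) (Steps.bwd (nat_lit 8) (Steps.bwd (nat_lit 4) Steps.nil))))))))))))))) (nat_lit 106) (nat_lit 3),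
  Rule.mk (nat_lit 4) (nat_lit 314) (Steps.bwd (nat_lit 8) (Steps.fwd (nat_lit 1048576) (Steps.fwd (nat_lit 2097152) (Steps.fwd (nat_lit 1048576) (Steps.fwd (nat_lit 2359296) (Steps.fwd (nat_lit 1048576) (Steps.bwd (nat_lit 9) (Steps.bwd (nat_lit 4) (Steps.fwd (nat_lit 2359296) (Steps.fwd (nat_lit 1048576) (Steps.fwd (nat_lit 2097152) (Steps.bwd (nat_lit 4) (Steps.bwd (nat_lit 8) (Steps.bwd (nat_lit 4) (Steps.bwd (nat_lit 9) Steps.nil))))))))))))))) (nat_lit 106) (nat_lit 0),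
  Rule.mk (nat_lit 4) (nat_lit 314) (Steps.bwd (nat_lit 9) (Steps.bwd (nat_lit 4) (Steps.fwd (nat_lit 2359296) (Steps.fwd (nat_lit 1048576) (Steps.fwd (nat_lit 2097152) (Steps.bwd (nat_lit 4) (Steps.bwd (nat_lit 8) (Steps.bwd (nat_lit 4) (Steps.bwd (nat_lit 9) (Steps.bwd (nat_lit 4) (Steps.fwd (nat_lit 2359296) (Steps.fwd (nat_lit 1048576) (Steps.fwd (nat_lit 2097152) (Steps.bwd (nat_lit 4) (Steps.fwd (nat_lit 2359296) Steps.nil))))))))))))))) (nat_lit 106) (nat_lit 2),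
  Rule.mk (nat_lit 9) (nat_lit 314) (Steps.bwd (nat_lit 4) (Steps.bwd (nat_lit 8) (Steps.bwd (nat_lit 4) (Steps.bwd (nat_lit 9) (Steps.fwd (nat_lit 1048576) (Steps.fwd (nat_lit 2359296) (Steps.fwd (nat_lit 1048576) (Steps.bwd (nat_lit 9) (Steps.bwd (nat_lit 4) (Steps.bwd (nat_lit 8) (Steps.bwd (nat_lit 4) (Steps.bwd (nat_lit 9) (Steps.fwd (nat_lit 1048576) (Steps.fwd (nat_lit 2359296) (Steps.bwd (nat_lit 4) Steps.nil))))))))))))))) (nat_lit 106) (nat_lit 3),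
  Rule.mk (nat_lit 9) (nat_lit 314) (Steps.bwd (nat_lit 4) (Steps.bwd (nat_lit 8) (Steps.bwd (nat_lit 4) (Steps.bwd (nat_lit 9) (Steps.fwd (nat_lit 1048576) (Steps.fwd (nat_lit 2359296) (Steps.fwd (nat_lit 1048576) (Steps.bwd (nat_lit 9) (Steps.bwd (nat_lit 4) (Steps.bwd (nat_lit 8) (Steps.bwd (nat_lit 4) (Steps.bwd (nat_lit 9) (Steps.bwd (nat_lit 4) (Steps.bwd (nat_lit 8) (Steps.bwd (nat_lit 4) Steps.nil))))))))))))))) (nat_lit 106) (nat_lit 3),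
  Rule.mk (nat_lit 9) (nat_lit 314) (Steps.bwd (nat_lit 4) (Steps.fwd (nat_lit 2359296) (Steps.bwd (nat_lit 4) (Steps.bwd (nat_lit 9) (Steps.bwd (nat_lit 4) (Steps.bwd (nat_lit 8) (Steps.bwd (nat_lit 4) (Steps.bwd (nat_lit 9) (Steps.fwd (nat_lit 1048576) (Steps.bwd (nat_lit 8) (Steps.bwd (nat_lit 4) (Steps.bwd (nat_lit 9) (Steps.fwd (nat_lit 1048576) (Steps.fwd (nat_lit 2359296) (Steps.bwd (nat_lit 4) Steps.nil))))))))))))))) (nat_lit 106) (nat_lit 3),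
  Rule.mk (nat_lit 9) (nat_lit 314) (Steps.bwd (nat_lit 4) (Steps.bwd (nat_lit 8) (Steps.bwd (nat_lit 4) (Steps.bwd (nat_lit 9) (Steps.fwd (nat_lit 1048576) (Steps.fwd (nat_lit 2359296) (Steps.bwd (nat_lit 4) (Steps.bwd (nat_lit 9) (Steps.bwd (nat_lit 4) (Steps.fwd (nat_lit 2359296) (Steps.fwd (nat_lit 1048576) (Steps.fwd (nat_lit 2097152) (Steps.fwd (nat_lit 1048576) (Steps.bwd (nat_lit 8) (Steps.bwd (nat_lit 4) Steps.nil))))))))))))))) (nat_lit 106) (nat_lit 3),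
  Rule.mk (nat_lit 9) (nat_lit 314) (Steps.bwd (nat_lit 4) (Steps.fwd (nat_lit 2359296) (Steps.fwd (nat_lit 1048576) (Steps.bwd (nat_lit 9) (Steps.bwd (nat_lit 4) (Steps.bwd (nat_lit 8) (Steps.bwd (nat_lit 4) (Steps.bwd (nat_lit 9) (Steps.fwd (nat_lit 1048576) (Steps.fwd (nat_lit 2359296) (Steps.bwd (nat_lit 4) (Steps.bwd (nat_lit 9) (Steps.bwd (nat_lit 4) (Steps.fwd (nat_lit 2359296) (Steps.bwd (nat_lit 4) Steps.nil))))))))))))))) (nat_lit 106) (nat_lit 3),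
  Rule.mk (nat_lit 8) (nat_lit 314) (Steps.bwd (nat_lit 4) (Steps.bwd (nat_lit 9) (Steps.bwd (nat_lit 4) (Steps.bwd (nat_lit 8) (Steps.bwd (nat_lit 4) (Steps.bwd (nat_lit 9) (Steps.fwd (nat_lit 1048576) (Steps.fwd (nat_lit 2359296) (Steps.bwd (nat_lit 4) (Steps.fwd (nat_lit 2097152) (Steps.bwd (nat_lit 4) (Steps.bwd (nat_lit 8) (Steps.fwd (nat_lit 1048576) (Steps.fwd (nat_lit 2097152) (Steps.bwd (nat_lit 4) Steps.nil))))))))))))))) (nat_lit 106) (nat_lit 1),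
  Rule.mk (nat_lit 4) (nat_lit 314) (Steps.bwd (nat_lit 8) (Steps.bwd (nat_lit 4) (Steps.bwd (nat_lit 9) (Steps.bwd (nat_lit 4) (Steps.fwd (nat_lit 2359296) (Steps.bwd (nat_lit 4) (Steps.bwd (nat_lit 9) (Steps.fwd (nat_lit 1048576) (Steps.fwd (nat_lit 2359296) (Steps.fwd (nat_lit 1048576) (Steps.bwd (nat_lit 9) (Steps.bwd (nat_lit 4) (Steps.bwd (nat_lit 8) (Steps.fwd (nat_lit 1048576) (Steps.fwd (nat_lit 2097152) Steps.nil))))))))))))))) (nat_lit 106) (nat_lit 0),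
  Rule.mk (nat_lit 9) (nat_lit 314) (Steps.bwd (nat_lit 4) (Steps.bwd (nat_lit 8) (Steps.bwd (nat_lit 4) (Steps.bwd (nat_lit 9) (Steps.bwd (nat_lit 4) (Steps.bwd (nat_lit 8) (Steps.bwd (nat_lit 4) (Steps.bwd (nat_lit 9) (Steps.fwd (nat_lit 1048576) (Steps.fwd (nat_lit 2359296) (Steps.fwd (nat_lit 1048576) (Steps.bwd (nat_lit 9) (Steps.fwd (nat_lit 1048576) (Steps.fwd (nat_lit 2359296) (Steps.fwd (nat_lit 1048576) Steps.nil))))))))))))))) (nat_lit 106) (nat_lit 3),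
  Rule.mk (nat_lit 8) (nat_lit 314) (Steps.bwd (nat_lit 4) (Steps.bwd (nat_lit 9) (Steps.bwd (nat_lit 4) (Steps.bwd (nat_lit 8) (Steps.fwd (nat_lit 1048576) (Steps.fwd (nat_lit 2097152) (Steps.fwd (nat_lit 1048576) (Steps.bwd (nat_lit 8) (Steps.fwd (nat_lit 1048576) (Steps.fwd (nat_lit 2097152) (Steps.fwd (nat_lit 1048576) (Steps.fwd (nat_lit 2359296) (Steps.fwd (nat_lit 1048576) (Steps.fwd (nat_lit 2097152) (Steps.fwd (nat_lit 1048576) Steps.nil))))))))))))))) (nat_lit 106) (nat_lit 1),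
  Rule.mk (nat_lit 4) (nat_lit 314) (Steps.bwd (nat_lit 8) (Steps.bwd (nat_lit 4) (Steps.bwd (nat_lit 9) (Steps.bwd (nat_lit 4) (Steps.bwd (nat_lit 8) (Steps.fwd (nat_lit 1048576) (Steps.fwd (nat_lit 2097152) (Steps.fwd (nat_lit 1048576) (Steps.fwd (nat_lit 2359296) (Steps.bwd (nat_lit 4) (Steps.bwd (nat_lit 9) (Steps.bwd (nat_lit 4) (Steps.fwd (nat_lit 2359296) (Steps.fwd (nat_lit 1048576) (Steps.fwd (nat_lit 2097152) Steps.nil))))))))))))))) (nat_lit 106) (nat_lit 0),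
  Rule.mk (nat_lit 4) (nat_lit 314) (Steps.bwd (nat_lit 9) (Steps.bwd (nat_lit 4) (Steps.fwd (nat_lit 2359296) (Steps.bwd (nat_lit 4) (Steps.fwd (nat_lit 2097152) (Steps.bwd (nat_lit 4) (Steps.bwd (nat_lit 8) (Steps.bwd (nat_lit 4) (Steps.bwd (nat_lit 9) (Steps.bwd (nat_lit 4) (Steps.bwd (nat_lit 8) (Steps.bwd (nat_lit 4) (Steps.bwd (nat_lit 9) (Steps.fwd (nat_lit 1048576) (Steps.fwd (nat_lit 2359296) Steps.nil))))))))))))))) (nat_lit 106) (nat_lit 2),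
  Rule.mk (nat_lit 9) (nat_lit 314) (Steps.bwd (nat_lit 4) (Steps.bwd (nat_lit 8) (Steps.fwd (nat_lit 1048576) (Steps.bwd (nat_lit 9) (Steps.bwd (nat_lit 4) (Steps.bwd (nat_lit 8) (Steps.bwd (nat_lit 4) (Steps.bwd (nat_lit 9) (Steps.bwd (nat_lit 4) (Steps.fwd (nat_lit 2359296) (Steps.fwd (nat_lit 1048576) (Steps.fwd (nat_lit 2097152) (Steps.fwd (nat_lit 1048576) (Steps.fwd (nat_lit 2359296) (Steps.fwd (nat_lit 1048576) Steps.nil))))))))))))))) (nat_lit 106) (nat_lit 3),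
  Rule.mk (nat_lit 8) (nat_lit 314) (Steps.bwd (nat_lit 4) (Steps.bwd (nat_lit 9) (Steps.fwd (nat_lit 1048576) (Steps.bwd (nat_lit 8) (Steps.fwd (nat_lit 1048576) (Steps.bwd (nat_lit 9) (Steps.fwd (nat_lit 1048576) (Steps.fwd (nat_lit 2359296) (Steps.fwd (nat_lit 1048576) (Steps.bwd (nat_lit 9) (Steps.fwd (nat_lit 1048576) (Steps.fwd (nat_lit 2359296) (Steps.fwd (nat_lit 1048576) (Steps.bwd (nat_lit 9) (Steps.fwd (nat_lit 1048576) Steps.nil))))))))))))))) (nat_lit 106) (nat_lit 1),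
  Rule.mk (nat_lit 8) (nat_lit 314) (Steps.bwd (nat_lit 4) (Steps.bwd (nat_lit 9) (Steps.fwd (nat_lit 1048576) (Steps.bwd (nat_lit 8) (Steps.bwd (nat_lit 4) (Steps.fwd (nat_lit 2097152) (Steps.bwd (nat_lit 4) (Steps.fwd (nat_lit 2359296) (Steps.bwd (nat_lit 4) (Steps.fwd (nat_lit 2097152) (Steps.bwd (nat_lit 4) (Steps.fwd (nat_lit 2359296) (Steps.fwd (nat_lit 1048576) (Steps.bwd (nat_lit 9) (Steps.fwd (nat_lit 1048576) Steps.nil))))))))))))))) (nat_lit 106) (nat_lit 1),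
  Rule.mk (nat_lit 4) (nat_lit 314) (Steps.bwd (nat_lit 8) (Steps.bwd (nat_lit 4) (Steps.bwd (nat_lit 9) (Steps.bwd (nat_lit 4) (Steps.fwd (nat_lit 2359296) (Steps.bwd (nat_lit 4) (Steps.bwd (nat_lit 9) (Steps.bwd (nat_lit 4) (Steps.fwd (nat_lit 2359296) (Steps.fwd (nat_lit 1048576) (Steps.bwd (nat_lit 9) (Steps.fwd (nat_lit 1048576) (Steps.fwd (nat_lit 2359296) (Steps.bwd (nat_lit 4) (Steps.bwd (nat_lit 9) Steps.nil))))))))))))))) (nat_lit 106) (nat_lit 0),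
  Rule.mk (nat_lit 9) (nat_lit 314) (Steps.bwd (nat_lit 4) (Steps.fwd (nat_lit 2359296) (Steps.fwd (nat_lit 1048576) (Steps.bwd (nat_lit 9) (Steps.bwd (nat_lit 4) (Steps.fwd (nat_lit 2359296) (Steps.bwd (nat_lit 4) (Steps.bwd (nat_lit 9) (Steps.bwd (nat_lit 4) (Steps.fwd (nat_lit 2359296) (Steps.fwd (nat_lit 1048576) (Steps.bwd (nat_lit 9) (Steps.fwd (nat_lit 1048576) (Steps.fwd (nat_lit 2359296) (Steps.fwd (nat_lit 1048576) Steps.nil))))))))))))))) (nat_lit 106) (nat_lit 3),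
  Rule.mk (nat_lit 8) (nat_lit 314) (Steps.bwd (nat_lit 4) (Steps.bwd (nat_lit 9) (Steps.bwd (nat_lit 4) (Steps.fwd (nat_lit 2359296) (Steps.bwd (nat_lit 4) (Steps.bwd (nat_lit 9) (Steps.bwd (nat_lit 4) (Steps.fwd (nat_lit 2359296) (Steps.fwd (nat_lit 1048576) (Steps.fwd (nat_lit 2097152) (Steps.fwd (nat_lit 1048576) (Steps.fwd (nat_lit 2359296) (Steps.fwd (nat_lit 1048576) (Steps.bwd (nat_lit 9) (Steps.fwd (nat_lit 1048576) Steps.nil))))))))))))))) (nat_lit 106) (nat_lit 1),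
  Rule.mk (nat_lit 4) (nat_lit 314) (Steps.bwd (nat_lit 9) (Steps.fwd (nat_lit 1048576) (Steps.fwd (nat_lit 2359296) (Steps.fwd (nat_lit 1048576) (Steps.bwd (nat_lit 9) (Steps.fwd (nat_lit 1048576) (Steps.fwd (nat_lit 2359296) (Steps.bwd (nat_lit 4) (Steps.bwd (nat_lit 9) (Steps.bwd (nat_lit 4) (Steps.fwd (nat_lit 2359296) (Steps.fwd (nat_lit 1048576) (Steps.fwd (nat_lit 2097152) (Steps.fwd (nat_lit 1048576) (Steps.fwd (nat_lit 2359296) Steps.nil))))))))))))))) (nat_lit 106) (nat_lit 2),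
  Rule.mk (nat_lit 4) (nat_lit 314) (Steps.bwd (nat_lit 8) (Steps.bwd (nat_lit 4) (Steps.bwd (nat_lit 9) (Steps.fwd (nat_lit 1048576) (Steps.fwd (nat_lit 2359296) (Steps.fwd (nat_lit 1048576) (Steps.fwd (nat_lit 2097152) (Steps.bwd (nat_lit 4) (Steps.bwd (nat_lit 8) (Steps.fwd (nat_lit 1048576) (Steps.fwd (nat_lit 2097152) (Steps.bwd (nat_lit 4) (Steps.fwd (nat_lit 2359296) (Steps.fwd (nat_lit 1048576) (Steps.fwd (nat_lit 2097152) Steps.nil))))))))))))))) (nat_lit 106) (nat_lit 0),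
  Rule.mk (nat_lit 9) (nat_lit 314) (Steps.bwd (nat_lit 4) (Steps.bwd (nat_lit 8) (Steps.bwd (nat_lit 4) (Steps.bwd (nat_lit 9) (Steps.fwd (nat_lit 1048576) (Steps.bwd (nat_lit 8) (Steps.bwd (nat_lit 4) (Steps.bwd (nat_lit 9) (Steps.bwd (nat_lit 4) (Steps.bwd (nat_lit 8) (Steps.fwd (nat_lit 1048576) (Steps.fwd (nat_lit 2097152) (Steps.fwd (nat_lit 1048576) (Steps.fwd (nat_lit 2359296) (Steps.bwd (nat_lit 4) Steps.nil))))))))))))))) (nat_lit 106) (nat_lit 3),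
  Rule.mk (nat_lit 9) (nat_lit 314) (Steps.bwd (nat_lit 4) (Steps.fwd (nat_lit 2359296) (Steps.fwd (nat_lit 1048576) (Steps.bwd (nat_lit 9) (Steps.fwd (nat_lit 1048576) (Steps.bwd (nat_lit 8) (Steps.fwd (nat_lit 1048576) (Steps.fwd (nat_lit 2097152) (Steps.fwd (nat_lit 1048576) (Steps.fwd (nat_lit 2359296) (Steps.fwd (nat_lit 1048576) (Steps.fwd (nat_lit 2097152) (Steps.bwd (nat_lit 4) (Steps.bwd (nat_lit 8) (Steps.bwd (nat_lit 4) Steps.nil))))))))))))))) (nat_lit 106) (nat_lit 3),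
  Rule.mk (nat_lit 8) (nat_lit 314) (Steps.bwd (nat_lit 4) (Steps.bwd (nat_lit 9) (Steps.bwd (nat_lit 4) (Steps.bwd (nat_lit 8) (Steps.fwd (nat_lit 1048576) (Steps.bwd (nat_lit 9) (Steps.bwd (nat_lit 4) (Steps.bwd (nat_lit 8) (Steps.bwd (nat_lit 4) (Steps.bwd (nat_lit 9) (Steps.bwd (nat_lit 4) (Steps.bwd (nat_lit 8) (Steps.fwd (nat_lit 1048576) (Steps.bwd (nat_lit 9) (Steps.bwd (nat_lit 4) Steps.nil))))))))))))))) (nat_lit 106) (nat_lit 1),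
  Rule.mk (nat_lit 4) (nat_lit 314) (Steps.bwd (nat_lit 8) (Steps.fwd (nat_lit 1048576) (Steps.bwd (nat_lit 9) (Steps.bwd (nat_lit 4) (Steps.fwd (nat_lit 2359296) (Steps.fwd (nat_lit 1048576) (Steps.fwd (nat_lit 2097152) (Steps.fwd (nat_lit 1048576) (Steps.bwd (nat_lit 8) (Steps.bwd (nat_lit 4) (Steps.bwd (nat_lit 9) (Steps.fwd (nat_lit 1048576) (Steps.fwd (nat_lit 2359296) (Steps.fwd (nat_lit 1048576) (Steps.fwd (nat_lit 2097152) Steps.nil))))))))))))))) (nat_lit 106) (nat_lit 0),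
  Rule.mk (nat_lit 4) (nat_lit 314) (Steps.bwd (nat_lit 9) (Steps.bwd (nat_lit 4) (Steps.fwd (nat_lit 2359296) (Steps.bwd (nat_lit 4) (Steps.bwd (nat_lit 9) (Steps.bwd (nat_lit 4) (Steps.bwd (nat_lit 8) (Steps.bwd (nat_lit 4) (Steps.bwd (nat_lit 9) (Steps.fwd (nat_lit 1048576) (Steps.fwd (nat_lit 2359296) (Steps.fwd (nat_lit 1048576) (Steps.fwd (nat_lit 2097152) (Steps.fwd (nat_lit 1048576) (Steps.bwd (nat_lit 8) Steps.nil))))))))))))))) (nat_lit 106) (nat_lit 2),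
  Rule.mk (nat_lit 1) (nat_lit 154) (Steps.fwd (nat_lit 1572864) (Steps.fwd (nat_lit 262144) (Steps.fwd (nat_lit 1048576) (Steps.fwd (nat_lit 262144) (Steps.fwd (nat_lit 1572864) (Steps.fwd (nat_lit 262144) (Steps.bwd (nat_lit 4) Steps.nil))))))) (nat_lit 74) (nat_lit 3),
  Rule.mk (nat_lit 1) (nat_lit 154) (Steps.bwd (nat_lit 4) (Steps.fwd (nat_lit 1835008) (Steps.bwd (nat_lit 1) (Steps.bwd (nat_lit 4) (Steps.bwd (nat_lit 1) (Steps.bwd (nat_lit 7) (Steps.fwd (nat_lit 1048576) Steps.nil))))))) (nat_lit 76) (nat_lit 6),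
  Rule.mk (nat_lit 9) (nat_lit 314) (Steps.bwd (nat_lit 4) (Steps.bwd (nat_lit 8) (Steps.fwd (nat_lit 1048576) (Steps.fwd (nat_lit 2097152) (Steps.fwd (nat_lit 1048576) (Steps.fwd (nat_lit 2359296) (Steps.fwd (nat_lit 1048576) (Steps.fwd (nat_lit 2097152) (Steps.fwd (nat_lit 1048576) (Steps.fwd (nat_lit 2359296) (Steps.bwd (nat_lit 4) (Steps.bwd (nat_lit 9) (Steps.fwd (nat_lit 1048576) (Steps.fwd (nat_lit 2359296) (Steps.fwd (nat_lit 1048576) Steps.nil))))))))))))))) (nat_lit 106) (nat_lit 3),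
  Rule.mk (nat_lit 1) (nat_lit 274) (Steps.bwd (nat_lit 6) (Steps.bwd (nat_lit 1) (Steps.fwd (nat_lit 524288) (Steps.fwd (nat_lit 1310720) (Steps.bwd (nat_lit 6) (Steps.fwd (nat_lit 262144) (Steps.bwd (nat_lit 6) (Steps.bwd (nat_lit 1) (Steps.bwd (nat_lit 3) (Steps.bwd (nat_lit 1) (Steps.fwd (nat_lit 1572864) (Steps.fwd (nat_lit 262144) (Steps.bwd (nat_lit 3) Steps.nil))))))))))))) (nat_lit 35) (nat_lit 11),
  Rule.mk (nat_lit 9) (nat_lit 314) (Steps.bwd (nat_lit 4) (Steps.bwd (nat_lit 8) (Steps.fwd (nat_lit 1048576) (Steps.fwd (nat_lit 2097152) (Steps.bwd (nat_lit 4) (Steps.bwd (nat_lit 8) (Steps.bwd (nat_lit 4) (Steps.bwd (nat_lit 9) (Steps.bwd (nat_lit 4) (Steps.fwd (nat_lit 2359296) (Steps.bwd (nat_lit 4) (Steps.bwd (nat_lit 9) (Steps.fwd (nat_lit 1048576) (Steps.fwd (nat_lit 2359296) (Steps.fwd (nat_lit 1048576) Steps.nil))))))))))))))) (nat_lit 106) (nat_lit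 3),
  Rule.mk (nat_lit 4) (nat_lit 314) (Steps.bwd (nat_lit 9) (Steps.bwd (nat_lit 4) (Steps.bwd (nat_lit 8) (Steps.bwd (nat_lit 4) (Steps.bwd (nat_lit 9) (Steps.bwd (nat_lit 4) (Steps.fwd (nat_lit 2359296) (Steps.bwd (nat_lit 4) (Steps.bwd (nat_lit 9) (Steps.bwd (nat_lit 4) (Steps.bwd (nat_lit 8) (Steps.bwd (nat_lit 4) (Steps.fwd (nat_lit 2097152) (Steps.bwd (nat_lit 4) (Steps.fwd (nat_lit 2359296) Steps.nil))))))))))))))) (nat_lit 106) (nat_lit 2),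
  Rule.mk (nat_lit 1) (nat_lit 154) (Steps.fwd (nat_lit 1835008) (Steps.fwd (nat_lit 1048576) (Steps.fwd (nat_lit 262144) (Steps.fwd (nat_lit 1048576) (Steps.fwd (nat_lit 1835008) (Steps.fwd (nat_lit 262144) (Steps.bwd (nat_lit 4) Steps.nil))))))) (nat_lit 76) (nat_lit 3),
  Rule.mk (nat_lit 2) (nat_lit 154) (Steps.bwd (nat_lit 1) (Steps.bwd (nat_lit 2) (Steps.bwd (nat_lit 7) (Steps.bwd (nat_lit 1) (Steps.fwd (nat_lit 786432) (Steps.fwd (nat_lit 262144) (Steps.bwd (nat_lit 7) Steps.nil))))))) (nat_lit 72) (nat_lit 5),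
  Rule.mk (nat_lit 4) (nat_lit 154) (Steps.bwd (nat_lit 1) (Steps.fwd (nat_lit 1048576) (Steps.bwd (nat_lit 7) (Steps.fwd (nat_lit 262144) (Steps.bwd (nat_lit 4) (Steps.bwd (nat_lit 1) (Steps.bwd (nat_lit 7) Steps.nil))))))) (nat_lit 76) (nat_lit 5),
  Rule.mk (nat_lit 4) (nat_lit 314) (Steps.bwd (nat_lit 8) (Steps.bwd (nat_lit 4) (Steps.bwd (nat_lit 9) (Steps.bwd (nat_lit 4) (Steps.bwd (nat_lit 8) (Steps.bwd (nat_lit 4) (Steps.fwd (nat_lit 2097152) (Steps.fwd (nat_lit 1048576) (Steps.fwd (nat_lit 2359296) (Steps.bwd (nat_lit 4) (Steps.bwd (nat_lit 9) (Steps.fwd (nat_lit 1048576) (Steps.fwd (nat_lit 2359296) (Steps.bwd (nat_lit 4) (Steps.bwd (nat_lit 9) Steps.nil))))))))))))))) (nat_lit 106) (nat_lit 0),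
  Rule.mk (nat_lit 6) (nat_lit 274) (Steps.bwd (nat_lit 1) (Steps.bwd (nat_lit 6) (Steps.bwd (nat_lit 5) (Steps.fwd (nat_lit 786432) (Steps.bwd (nat_lit 1) (Steps.fwd (nat_lit 1572864) (Steps.fwd (nat_lit 262144) (Steps.bwd (nat_lit 2) (Steps.fwd (nat_lit 262144) (Steps.fwd (nat_lit 1572864) (Steps.fwd (nat_lit 262144) (Steps.fwd (nat_lit 786432) (Steps.fwd (nat_lit 262144) Steps.nil))))))))))))) (nat_lit 34) (nat_lit 11),
  Rule.mk (nat_lit 8) (nat_lit 314) (Steps.bwd (nat_lit 4) (Steps.bwd (nat_lit 9) (Steps.fwd (nat_lit 1048576) (Steps.bwd (nat_lit 8) (Steps.fwd (nat_lit 1048576) (Steps.fwd (nat_lit 2097152) (Steps.bwd (nat_lit 4) (Steps.fwd (nat_lit 2359296) (Steps.bwd (nat_lit 4) (Steps.bwd (nat_lit 9) (Steps.fwd (nat_lit 1048576) (Steps.fwd (nat_lit 2359296) (Steps.fwd (nat_lit 1048576) (Steps.bwd (nat_lit 9) (Steps.bwd (nat_lit 4) Steps.nil)))))))))))))))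 (nat_lit 106) (nat_lit 1),
  Rule.mk (nat_lit 4) (nat_lit 314) (Steps.bwd (nat_lit 8) (Steps.bwd (nat_lit 4) (Steps.bwd (nat_lit 9) (Steps.bwd (nat_lit 4) (Steps.bwd (nat_lit 8) (Steps.fwd (nat_lit 1048576) (Steps.bwd (nat_lit 9) (Steps.fwd (nat_lit 1048576) (Steps.fwd (nat_lit 2359296) (Steps.bwd (nat_lit 4) (Steps.fwd (nat_lit 2097152) (Steps.bwd (nat_lit 4) (Steps.fwd (nat_lit 2359296) (Steps.fwd (nat_lit 1048576) (Steps.fwd (nat_lit 2097152) Steps.nil))))))))))))))) (nat_lit 106) (nat_lit 0),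
  Rule.mk (nat_lit 8) (nat_lit 314) (Steps.bwd (nat_lit 4) (Steps.fwd (nat_lit 2097152) (Steps.bwd (nat_lit 4) (Steps.bwd (nat_lit 8) (Steps.bwd (nat_lit 4) (Steps.bwd (nat_lit 9) (Steps.fwd (nat_lit 1048576) (Steps.fwd (nat_lit 2359296) (Steps.fwd (nat_lit 1048576) (Steps.fwd (nat_lit 2097152) (Steps.fwd (nat_lit 1048576) (Steps.fwd (nat_lit 2359296) (Steps.bwd (nat_lit 4) (Steps.bwd (nat_lit 9) (Steps.bwd (nat_lit 4) Steps.nil))))))))))))))) (nat_lit 106) (nat_lit 1),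
  Rule.mk (nat_lit 4) (nat_lit 314) (Steps.bwd (nat_lit 9) (Steps.bwd (nat_lit 4) (Steps.fwd (nat_lit 2359296) (Steps.fwd (nat_lit 1048576) (Steps.fwd (nat_lit 2097152) (Steps.bwd (nat_lit 4) (Steps.fwd (nat_lit 2359296) (Steps.fwd (nat_lit 1048576) (Steps.bwd (nat_lit 9) (Steps.fwd (nat_lit 1048576) (Steps.fwd (nat_lit 2359296) (Steps.fwd (nat_lit 1048576) (Steps.bwd (nat_lit 9) (Steps.fwd (nat_lit 1048576) (Steps.fwd (nat_lit 2359296) Steps.nil))))))))))))))) (nat_lit 106) (nat_lit 2),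
  Rule.mk (nat_lit 6) (nat_lit 154) (Steps.bwd (nat_lit 1) (Steps.fwd (nat_lit 1048576) (Steps.bwd (nat_lit 1) (Steps.fwd (nat_lit 1572864) (Steps.bwd (nat_lit 1) (Steps.bwd (nat_lit 4) (Steps.bwd (nat_lit 1) Steps.nil))))))) (nat_lit 74) (nat_lit 0),
  Rule.mk (nat_lit 6) (nat_lit 154) (Steps.bwd (nat_lit 1) (Steps.fwd (nat_lit 1048576) (Steps.fwd (nat_lit 262144) (Steps.fwd (nat_lit 1572864) (Steps.fwd (nat_lit 262144) (Steps.fwd (nat_lit 1048576) (Steps.bwd (nat_lit 1) Steps.nil))))))) (nat_lit 74) (nat_lit 0),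
  Rule.mk (nat_lit 4) (nat_lit 314) (Steps.bwd (nat_lit 8) (Steps.bwd (nat_lit 4) (Steps.bwd (nat_lit 9) (Steps.fwd (nat_lit 1048576) (Steps.bwd (nat_lit 8) (Steps.bwd (nat_lit 4) (Steps.bwd (nat_lit 9) (Steps.fwd (nat_lit 1048576) (Steps.fwd (nat_lit 2359296) (Steps.bwd (nat_lit 4) (Steps.bwd (nat_lit 9) (Steps.fwd (nat_lit 1048576) (Steps.fwd (nat_lit 2359296) (Steps.fwd (nat_lit 1048576) (Steps.fwd (nat_lit 2097152) Steps.nil))))))))))))))) (nat_lit 106) (nat_lit 0),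
  Rule.mk (nat_lit 6) (nat_lit 274) (Steps.bwd (nat_lit 1) (Steps.bwd (nat_lit 6) (Steps.fwd (nat_lit 1310720) (Steps.fwd (nat_lit 786432) (Steps.fwd (nat_lit 262144) (Steps.fwd (nat_lit 1572864) (Steps.bwd (nat_lit 1) (Steps.bwd (nat_lit 2) (Steps.bwd (nat_lit 1) (Steps.bwd (nat_lit 6) (Steps.fwd (nat_lit 262144) (Steps.bwd (nat_lit 2) (Steps.fwd (nat_lit 262144) Steps.nil))))))))))))) (nat_lit 34) (nat_lit 11),
  Rule.mk (nat_lit 4) (nat_lit 314) (Steps.bwd (nat_lit 9) (Steps.bwd (nat_lit 4) (Steps.fwd (nat_lit 2359296) (Steps.fwd (nat_lit 1048576) (Steps.bwd (nat_lit 9) (Steps.fwd (nat_lit 1048576) (Steps.fwd (nat_lit 2359296) (Steps.bwd (nat_lit 4) (Steps.bwd (nat_lit 9) (Steps.bwd (nat_lit 4) (Steps.fwd (nat_lit 2359296) (Steps.fwd (nat_lit 1048576) (Steps.bwd (nat_lit 9) (Steps.bwd (nat_lit 4) (Steps.fwd (nat_lit 2359296) Steps.nil))))))))))))))) (nat_lit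 106) (nat_lit 2),
  Rule.mk (nat_lit 6) (nat_lit 154) (Steps.bwd (nat_lit 1) (Steps.fwd (nat_lit 1048576) (Steps.fwd (nat_lit 262144) (Steps.fwd (nat_lit 1572864) (Steps.bwd (nat_lit 1) (Steps.fwd (nat_lit 1048576) (Steps.bwd (nat_lit 1) Steps.nil))))))) (nat_lit 74) (nat_lit 0),
  Rule.mk (nat_lit 8) (nat_lit 314) (Steps.bwd (nat_lit 4) (Steps.bwd (nat_lit 9) (Steps.bwd (nat_lit 4) (Steps.bwd (nat_lit 8) (Steps.fwd (nat_lit 1048576) (Steps.bwd (nat_lit 9) (Steps.fwd (nat_lit 1048576) (Steps.fwd (nat_lit 2359296) (Steps.fwd (nat_lit 1048576) (Steps.fwd (nat_lit 2097152) (Steps.fwd (nat_lit 1048576) (Steps.fwd (nat_lit 2359296) (Steps.bwd (nat_lit 4) (Steps.fwd (nat_lit 2097152) (Steps.bwd (nat_lit 4) Steps.nil))))))))))))))) (nat_lit 106) (nat_lit 1)]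
noncomputable def R_114 : List (Rule) := [Rule.mk (nat_lit 9) (nat_lit 314) (Steps.bwd (nat_lit 4) (Steps.bwd (nat_lit 8) (Steps.fwd (nat_lit 1048576) (Steps.bwd (nat_lit 9) (Steps.fwd (nat_lit 1048576) (Steps.bwd (nat_lit 8) (Steps.bwd (nat_lit 4) (Steps.bwd (nat_lit 9) (Steps.bwd (nat_lit 4) (Steps.fwd (nat_lit 2359296) (Steps.bwd (nat_lit 4) (Steps.bwd (nat_lit 9) (Steps.fwd (nat_lit 1048576) (Steps.bwd (nat_lit 8) (Steps.bwd (nat_lit 4) Steps.nil))))))))))))))) (nat_lit 106) (nat_lit 3),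
  Rule.mk (nat_lit 8) (nat_lit 314) (Steps.bwd (nat_lit 4) (Steps.fwd (nat_lit 2097152) (Steps.fwd (nat_lit 1048576) (Steps.bwd (nat_lit 8) (Steps.bwd (nat_lit 4) (Steps.bwd (nat_lit 9) (Steps.fwd (nat_lit 1048576) (Steps.fwd (nat_lit 2359296) (Steps.bwd (nat_lit 4) (Steps.bwd (nat_lit 9) (Steps.fwd (nat_lit 1048576) (Steps.bwd (nat_lit 8) (Steps.bwd (nat_lit 4) (Steps.fwd (nat_lit 2097152) (Steps.bwd (nat_lit 4) Steps.nil))))))))))))))) (nat_lit 106) (nat_lit 1),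
  Rule.mk (nat_lit 4) (nat_lit 314) (Steps.bwd (nat_lit 9) (Steps.fwd (nat_lit 1048576) (Steps.bwd (nat_lit 8) (Steps.bwd (nat_lit 4) (Steps.bwd (nat_lit 9) (Steps.fwd (nat_lit 1048576) (Steps.bwd (nat_lit 8) (Steps.bwd (nat_lit 4) (Steps.bwd (nat_lit 9) (Steps.bwd (nat_lit 4) (Steps.fwd (nat_lit 2359296) (Steps.fwd (nat_lit 1048576) (Steps.fwd (nat_lit 2097152) (Steps.bwd (nat_lit 4) (Steps.fwd (nat_lit 2359296) Steps.nil))))))))))))))) (nat_lit 106) (nat_lit 2),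
  Rule.mk (nat_lit 9) (nat_lit 314) (Steps.bwd (nat_lit 4) (Steps.fwd (nat_lit 2359296) (Steps.fwd (nat_lit 1048576) (Steps.bwd (nat_lit 9) (Steps.bwd (nat_lit 4) (Steps.bwd (nat_lit 8) (Steps.bwd (nat_lit 4) (Steps.bwd (nat_lit 9) (Steps.fwd (nat_lit 1048576) (Steps.bwd (nat_lit 8) (Steps.fwd (nat_lit 1048576) (Steps.fwd (nat_lit 2097152) (Steps.fwd (nat_lit 1048576) (Steps.bwd (nat_lit 8) (Steps.bwd (nat_lit 4) Steps.nil))))))))))))))) (nat_lit 106) (nat_lit 3),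
  Rule.mk (nat_lit 8) (nat_lit 314) (Steps.bwd (nat_lit 4) (Steps.bwd (nat_lit 9) (Steps.fwd (nat_lit 1048576) (Steps.fwd (nat_lit 2359296) (Steps.bwd (nat_lit 4) (Steps.bwd (nat_lit 9) (Steps.fwd (nat_lit 1048576) (Steps.fwd (nat_lit 2359296) (Steps.fwd (nat_lit 1048576) (Steps.fwd (nat_lit 2097152) (Steps.fwd (nat_lit 1048576) (Steps.fwd (nat_lit 2359296) (Steps.fwd (nat_lit 1048576) (Steps.bwd (nat_lit 9) (Steps.fwd (nat_lit 1048576) Steps.nil))))))))))))))) (nat_lit 106) (nat_lit 1),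
  Rule.mk (nat_lit 4) (nat_lit 314) (Steps.bwd (nat_lit 8) (Steps.fwd (nat_lit 1048576) (Steps.bwd (nat_lit 9) (Steps.bwd (nat_lit 4) (Steps.bwd (nat_lit 8) (Steps.fwd (nat_lit 1048576) (Steps.fwd (nat_lit 2097152) (Steps.bwd (nat_lit 4) (Steps.fwd (nat_lit 2359296) (Steps.fwd (nat_lit 1048576) (Steps.bwd (nat_lit 9) (Steps.fwd (nat_lit 1048576) (Steps.fwd (nat_lit 2359296) (Steps.fwd (nat_lit 1048576) (Steps.fwd (nat_lit 2097152) Steps.nil))))))))))))))) (nat_lit 106) (nat_lit 0),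
  Rule.mk (nat_lit 8) (nat_lit 314) (Steps.bwd (nat_lit 4) (Steps.bwd (nat_lit 9) (Steps.bwd (nat_lit 4) (Steps.fwd (nat_lit 2359296) (Steps.fwd (nat_lit 1048576) (Steps.fwd (nat_lit 2097152) (Steps.fwd (nat_lit 1048576) (Steps.bwd (nat_lit 8) (Steps.bwd (nat_lit 4) (Steps.fwd (nat_lit 2097152) (Steps.fwd (nat_lit 1048576) (Steps.fwd (nat_lit 2359296) (Steps.fwd (nat_lit 1048576) (Steps.bwd (nat_lit 9) (Steps.bwd (nat_lit 4) Steps.nil))))))))))))))) (nat_lit 106) (nat_lit 1),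
  Rule.mk (nat_lit 1) (nat_lit 154) (Steps.bwd (nat_lit 4) (Steps.bwd (nat_lit 1) (Steps.bwd (nat_lit 6) (Steps.fwd (nat_lit 262144) (Steps.fwd (nat_lit 1048576) (Steps.fwd (nat_lit 262144) (Steps.bwd (nat_lit 6) Steps.nil))))))) (nat_lit 74) (nat_lit 1),
  Rule.mk (nat_lit 9) (nat_lit 314) (Steps.bwd (nat_lit 4) (Steps.bwd (nat_lit 8) (Steps.bwd (nat_lit 4) (Steps.fwd (nat_lit 2097152) (Steps.fwd (nat_lit 1048576) (Steps.fwd (nat_lit 2359296) (Steps.bwd (nat_lit 4) (Steps.fwd (nat_lit 2097152) (Steps.fwd (nat_lit 1048576) (Steps.bwd (nat_lit 8) (Steps.bwd (nat_lit 4) (Steps.bwd (nat_lit 9) (Steps.bwd (nat_lit 4) (Steps.fwd (nat_lit 2359296) (Steps.bwd (nat_lit 4) Steps.nil))))))))))))))) (nat_lit 106) (nat_lit 3),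
  Rule.mk (nat_lit 7) (nat_lit 114) (Steps.bwd (nat_lit 4) (Steps.fwd (nat_lit 524288) (Steps.fwd (nat_lit 1835008) (Steps.bwd (nat_lit 4) (Steps.fwd (nat_lit 524288) Steps.nil))))) (nat_lit 57) (nat_lit 1),
  Rule.mk (nat_lit 9) (nat_lit 314) (Steps.bwd (nat_lit 4) (Steps.bwd (nat_lit 8) (Steps.fwd (nat_lit 1048576) (Steps.fwd (nat_lit 2097152) (Steps.bwd (nat_lit 4) (Steps.fwd (nat_lit 2359296) (Steps.bwd (nat_lit 4) (Steps.bwd (nat_lit 9) (Steps.fwd (nat_lit 1048576) (Steps.bwd (nat_lit 8) (Steps.bwd (nat_lit 4) (Steps.bwd (nat_lit 9) (Steps.fwd (nat_lit 1048576) (Steps.bwd (nat_lit 8) (Steps.bwd (nat_lit 4) Steps.nil))))))))))))))) (nat_lit 106) (nat_lit 3),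
  Rule.mk (nat_lit 8) (nat_lit 314) (Steps.bwd (nat_lit 4) (Steps.bwd (nat_lit 9) (Steps.fwd (nat_lit 1048576) (Steps.fwd (nat_lit 2359296) (Steps.bwd (nat_lit 4) (Steps.bwd (nat_lit 9) (Steps.fwd (nat_lit 1048576) (Steps.fwd (nat_lit 2359296) (Steps.fwd (nat_lit 1048576) (Steps.fwd (nat_lit 2097152) (Steps.fwd (nat_lit 1048576) (Steps.bwd (nat_lit 8) (Steps.fwd (nat_lit 1048576) (Steps.fwd (nat_lit 2097152) (Steps.fwd (nat_lit 1048576) Steps.nil))))))))))))))) (nat_lit 106) (nat_lit 1),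
  Rule.mk (nat_lit 1) (nat_lit 274) (Steps.bwd (nat_lit 6) (Steps.bwd (nat_lit 5) (Steps.bwd (nat_lit 2) (Steps.fwd (nat_lit 262144) (Steps.bwd (nat_lit 6) (Steps.bwd (nat_lit 1) (Steps.bwd (nat_lit 2) (Steps.fwd (nat_lit 262144) (Steps.bwd (nat_lit 6) (Steps.bwd (nat_lit 1) (Steps.bwd (nat_lit 2) (Steps.fwd (nat_lit 262144) (Steps.bwd (nat_lit 6) Steps.nil))))))))))))) (nat_lit 34) (nat_lit 12),
  Rule.mk (nat_lit 9) (nat_lit 314) (Steps.bwd (nat_lit 4) (Steps.bwd (nat_lit 8) (Steps.fwd (nat_lit 1048576) (Steps.fwd (nat_lit 2097152) (Steps.bwd (nat_lit 4) (Steps.bwd (nat_lit 8) (Steps.fwd (nat_lit 1048576) (Steps.bwd (nat_lit 9) (Steps.fwd (nat_lit 1048576) (Steps.fwd (nat_lit 2359296) (Steps.fwd (nat_lit 1048576) (Steps.bwd (nat_lit 9) (Steps.bwd (nat_lit 4) (Steps.fwd (nat_lit 2359296) (Steps.bwd (nat_lit 4) Steps.nil))))))))))))))) (nat_lit 106) (nat_lit 3),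
  Rule.mk (nat_lit 8) (nat_lit 314) (Steps.bwd (nat_lit 4) (Steps.bwd (nat_lit 9) (Steps.bwd (nat_lit 4) (Steps.bwd (nat_lit 8) (Steps.bwd (nat_lit 4) (Steps.fwd (nat_lit 2097152) (Steps.fwd (nat_lit 1048576) (Steps.fwd (nat_lit 2359296) (Steps.fwd (nat_lit 1048576) (Steps.bwd (nat_lit 9) (Steps.bwd (nat_lit 4) (Steps.bwd (nat_lit 8) (Steps.bwd (nat_lit 4) (Steps.bwd (nat_lit 9) (Steps.fwd (nat_lit 1048576) Steps.nil))))))))))))))) (nat_lit 106) (nat_lit 1),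
  Rule.mk (nat_lit 4) (nat_lit 314) (Steps.bwd (nat_lit 8) (Steps.bwd (nat_lit 4) (Steps.bwd (nat_lit 9) (Steps.fwd (nat_lit 1048576) (Steps.fwd (nat_lit 2359296) (Steps.bwd (nat_lit 4) (Steps.bwd (nat_lit 9) (Steps.bwd (nat_lit 4) (Steps.fwd (nat_lit 2359296) (Steps.fwd (nat_lit 1048576) (Steps.bwd (nat_lit 9) (Steps.fwd (nat_lit 1048576) (Steps.bwd (nat_lit 8) (Steps.fwd (nat_lit 1048576) (Steps.fwd (nat_lit 2097152) Steps.nil))))))))))))))) (nat_lit 106) (nat_lit 0),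
  Rule.mk (nat_lit 8) (nat_lit 314) (Steps.bwd (nat_lit 4) (Steps.fwd (nat_lit 2097152) (Steps.fwd (nat_lit 1048576) (Steps.fwd (nat_lit 2359296) (Steps.bwd (nat_lit 4) (Steps.bwd (nat_lit 9) (Steps.fwd (nat_lit 1048576) (Steps.fwd (nat_lit 2359296) (Steps.fwd (nat_lit 1048576) (Steps.fwd (nat_lit 2097152) (Steps.fwd (nat_lit 1048576) (Steps.bwd (nat_lit 8) (Steps.bwd (nat_lit 4) (Steps.fwd (nat_lit 2097152) (Steps.fwd (nat_lit 1048576) Steps.nil))))))))))))))) (nat_lit 106) (nat_lit 1),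
  Rule.mk (nat_lit 8) (nat_lit 314) (Steps.fwd (nat_lit 1048576) (Steps.fwd (nat_lit 2097152) (Steps.fwd (nat_lit 1048576) (Steps.fwd (nat_lit 2359296) (Steps.fwd (nat_lit 1048576) (Steps.bwd (nat_lit 9) (Steps.fwd (nat_lit 1048576) (Steps.fwd (nat_lit 2359296) (Steps.bwd (nat_lit 4) (Steps.bwd (nat_lit 9) (Steps.bwd (nat_lit 4) (Steps.bwd (nat_lit 8) (Steps.fwd (nat_lit 1048576) (Steps.fwd (nat_lit 2097152) (Steps.bwd (nat_lit 4) Steps.nil))))))))))))))) (nat_lit 106) (nat_lit 1),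
  Rule.mk (nat_lit 9) (nat_lit 314) (Steps.bwd (nat_lit 4) (Steps.fwd (nat_lit 2359296) (Steps.fwd (nat_lit 1048576) (Steps.bwd (nat_lit 9) (Steps.bwd (nat_lit 4) (Steps.bwd (nat_lit 8) (Steps.bwd (nat_lit 4) (Steps.bwd (nat_lit 9) (Steps.fwd (nat_lit 1048576) (Steps.fwd (nat_lit 2359296) (Steps.fwd (nat_lit 1048576) (Steps.fwd (nat_lit 2097152) (Steps.bwd (nat_lit 4) (Steps.fwd (nat_lit 2359296) (Steps.bwd (nat_lit 4) Steps.nil))))))))))))))) (nat_lit 106) (nat_lit 3),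
  Rule.mk (nat_lit 1) (nat_lit 154) (Steps.bwd (nat_lit 6) (Steps.fwd (nat_lit 262144) (Steps.bwd (nat_lit 4) (Steps.bwd (nat_lit 1) (Steps.bwd (nat_lit 6) (Steps.fwd (nat_lit 262144) (Steps.fwd (nat_lit 1048576) Steps.nil))))))) (nat_lit 74) (nat_lit 3),
  Rule.mk (nat_lit 8) (nat_lit 314) (Steps.bwd (nat_lit 4) (Steps.fwd (nat_lit 2097152) (Steps.bwd (nat_lit 4) (Steps.bwd (nat_lit 8) (Steps.bwd (nat_lit 4) (Steps.bwd (nat_lit 9) (Steps.fwd (nat_lit 1048576) (Steps.fwd (nat_lit 2359296) (Steps.bwd (nat_lit 4) (Steps.fwd (nat_lit 2097152) (Steps.bwd (nat_lit 4) (Steps.bwd (nat_lit 8) (Steps.fwd (nat_lit 1048576) (Steps.fwd (nat_lit 2097152) (Steps.fwd (nat_lit 1048576) Steps.nil))))))))))))))) (nat_lit 106) (nat_lit 1),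
  Rule.mk (nat_lit 9) (nat_lit 314) (Steps.bwd (nat_lit 4) (Steps.bwd (nat_lit 8) (Steps.bwd (nat_lit 4) (Steps.bwd (nat_lit 9) (Steps.bwd (nat_lit 4) (Steps.fwd (nat_lit 2359296) (Steps.fwd (nat_lit 1048576) (Steps.bwd (nat_lit 9) (Steps.fwd (nat_lit 1048576) (Steps.bwd (nat_lit 8) (Steps.fwd (nat_lit 1048576) (Steps.fwd (nat_lit 2097152) (Steps.fwd (nat_lit 1048576) (Steps.bwd (nat_lit 8) (Steps.bwd (nat_lit 4) Steps.nil))))))))))))))) (nat_lit 106) (nat_lit 3),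
  Rule.mk (nat_lit 9) (nat_lit 314) (Steps.bwd (nat_lit 4) (Steps.fwd (nat_lit 2359296) (Steps.fwd (nat_lit 1048576) (Steps.bwd (nat_lit 9) (Steps.bwd (nat_lit 4) (Steps.bwd (nat_lit 8) (Steps.fwd (nat_lit 1048576) (Steps.bwd (nat_lit 9) (Steps.fwd (nat_lit 1048576) (Steps.fwd (nat_lit 2359296) (Steps.fwd (nat_lit 1048576) (Steps.fwd (nat_lit 2097152) (Steps.fwd (nat_lit 1048576) (Steps.fwd (nat_lit 2359296) (Steps.fwd (nat_lit 1048576) Steps.nil))))))))))))))) (nat_lit 106) (nat_lit 3),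
  Rule.mk (nat_lit 4) (nat_lit 314) (Steps.bwd (nat_lit 9) (Steps.bwd (nat_lit 4) (Steps.fwd (nat_lit 2359296) (Steps.bwd (nat_lit 4) (Steps.bwd (nat_lit 9) (Steps.bwd (nat_lit 4) (Steps.bwd (nat_lit 8) (Steps.bwd (nat_lit 4) (Steps.fwd (nat_lit 2097152) (Steps.fwd (nat_lit 1048576) (Steps.fwd (nat_lit 2359296) (Steps.bwd (nat_lit 4) (Steps.bwd (nat_lit 9) (Steps.bwd (nat_lit 4) (Steps.bwd (nat_lit 8) Steps.nil))))))))))))))) (nat_lit 106) (nat_lit 2),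
  Rule.mk (nat_lit 9) (nat_lit 314) (Steps.bwd (nat_lit 4) (Steps.fwd (nat_lit 2359296) (Steps.bwd (nat_lit 4) (Steps.bwd (nat_lit 9) (Steps.fwd (nat_lit 1048576) (Steps.bwd (nat_lit 8) (Steps.fwd (nat_lit 1048576) (Steps.bwd (nat_lit 9) (Steps.bwd (nat_lit 4) (Steps.bwd (nat_lit 8) (Steps.fwd (nat_lit 1048576) (Steps.fwd (nat_lit 2097152) (Steps.fwd (nat_lit 1048576) (Steps.bwd (nat_lit 8) (Steps.bwd (nat_lit 4) Steps.nil))))))))))))))) (nat_lit 106) (nat_lit 3),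
  Rule.mk (nat_lit 2) (nat_lit 154) (Steps.bwd (nat_lit 1) (Steps.bwd (nat_lit 2) (Steps.fwd (nat_lit 1835008) (Steps.fwd (nat_lit 262144) (Steps.fwd (nat_lit 786432) (Steps.fwd (nat_lit 262144) (Steps.bwd (nat_lit 7) Steps.nil))))))) (nat_lit 72) (nat_lit 5),
  Rule.mk (nat_lit 8) (nat_lit 314) (Steps.bwd (nat_lit 4) (Steps.fwd (nat_lit 2097152) (Steps.bwd (nat_lit 4) (Steps.bwd (nat_lit 8) (Steps.bwd (nat_lit 4) (Steps.bwd (nat_lit 9) (Steps.bwd (nat_lit 4) (Steps.fwd (nat_lit 2359296) (Steps.fwd (nat_lit 1048576) (Steps.fwd (nat_lit 2097152) (Steps.bwd (nat_lit 4) (Steps.bwd (nat_lit 8) (Steps.bwd (nat_lit 4) (Steps.fwd (nat_lit 2097152) (Steps.bwd (nat_lit 4) Steps.nil))))))))))))))) (nat_lit 106) (nat_lit 1),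
  Rule.mk (nat_lit 9) (nat_lit 314) (Steps.bwd (nat_lit 4) (Steps.fwd (nat_lit 2359296) (Steps.bwd (nat_lit 4) (Steps.bwd (nat_lit 9) (Steps.bwd (nat_lit 4) (Steps.fwd (nat_lit 2359296) (Steps.bwd (nat_lit 4) (Steps.bwd (nat_lit 9) (Steps.fwd (nat_lit 1048576) (Steps.bwd (nat_lit 8) (Steps.fwd (nat_lit 1048576) (Steps.fwd (nat_lit 2097152) (Steps.fwd (nat_lit 1048576) (Steps.fwd (nat_lit 2359296) (Steps.fwd (nat_lit 1048576) Steps.nil))))))))))))))) (nat_lit 106) (nat_lit 3),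
  Rule.mk (nat_lit 8) (nat_lit 314) (Steps.bwd (nat_lit 4) (Steps.fwd (nat_lit 2097152) (Steps.fwd (nat_lit 1048576) (Steps.fwd (nat_lit 2359296) (Steps.fwd (nat_lit 1048576) (Steps.bwd (nat_lit 9) (Steps.fwd (nat_lit 1048576) (Steps.bwd (nat_lit 8) (Steps.bwd (nat_lit 4) (Steps.fwd (nat_lit 2097152) (Steps.bwd (nat_lit 4) (Steps.bwd (nat_lit 8) (Steps.fwd (nat_lit 1048576) (Steps.fwd (nat_lit 2097152) (Steps.bwd (nat_lit 4) Steps.nil))))))))))))))) (nat_lit 106) (nat_lit 1),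
  Rule.mk (nat_lit 9) (nat_lit 314) (Steps.bwd (nat_lit 4) (Steps.bwd (nat_lit 8) (Steps.bwd (nat_lit 4) (Steps.fwd (nat_lit 2097152) (Steps.fwd (nat_lit 1048576) (Steps.bwd (nat_lit 8) (Steps.bwd (nat_lit 4) (Steps.bwd (nat_lit 9) (Steps.fwd (nat_lit 1048576) (Steps.bwd (nat_lit 8) (Steps.fwd (nat_lit 1048576) (Steps.bwd (nat_lit 9) (Steps.fwd (nat_lit 1048576) (Steps.bwd (nat_lit 8) (Steps.bwd (nat_lit 4) Steps.nil))))))))))))))) (nat_lit 106) (nat_lit 3),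
  Rule.mk (nat_lit 4) (nat_lit 314) (Steps.bwd (nat_lit 9) (Steps.bwd (nat_lit 4) (Steps.bwd (nat_lit 8) (Steps.bwd (nat_lit 4) (Steps.bwd (nat_lit 9) (Steps.fwd (nat_lit 1048576) (Steps.bwd (nat_lit 8) (Steps.bwd (nat_lit 4) (Steps.fwd (nat_lit 2097152) (Steps.fwd (nat_lit 1048576) (Steps.bwd (nat_lit 8) (Steps.fwd (nat_lit 1048576) (Steps.bwd (nat_lit 9) (Steps.fwd (nat_lit 1048576) (Steps.fwd (nat_lit 2359296) Steps.nil))))))))))))))) (nat_lit 106) (nat_lit 2),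
  Rule.mk (nat_lit 8) (nat_lit 314) (Steps.bwd (nat_lit 4) (Steps.bwd (nat_lit 9) (Steps.bwd (nat_lit 4) (Steps.fwd (nat_lit 2359296) (Steps.fwd (nat_lit 1048576) (Steps.fwd (nat_lit 2097152) (Steps.fwd (nat_lit 1048576) (Steps.fwd (nat_lit 2359296) (Steps.fwd (nat_lit 1048576) (Steps.bwd (nat_lit 9) (Steps.bwd (nat_lit 4) (Steps.bwd (nat_lit 8) (Steps.bwd (nat_lit 4) (Steps.bwd (nat_lit 9) (Steps.fwd (nat_lit 1048576) Steps.nil))))))))))))))) (nat_lit 106) (nat_lit 1),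
  Rule.mk (nat_lit 8) (nat_lit 314) (Steps.bwd (nat_lit 4) (Steps.bwd (nat_lit 9) (Steps.fwd (nat_lit 1048576) (Steps.bwd (nat_lit 8) (Steps.bwd (nat_lit 4) (Steps.fwd (nat_lit 2097152) (Steps.bwd (nat_lit 4) (Steps.bwd (nat_lit 8) (Steps.bwd (nat_lit 4) (Steps.bwd (nat_lit 9) (Steps.bwd (nat_lit 4) (Steps.fwd (nat_lit 2359296) (Steps.fwd (nat_lit 1048576) (Steps.fwd (nat_lit 2097152) (Steps.fwd (nat_lit 1048576) Steps.nil))))))))))))))) (nat_lit 106) (nat_lit 1),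
  Rule.mk (nat_lit 4) (nat_lit 314) (Steps.bwd (nat_lit 9) (Steps.bwd (nat_lit 4) (Steps.bwd (nat_lit 8) (Steps.bwd (nat_lit 4) (Steps.bwd (nat_lit 9) (Steps.fwd (nat_lit 1048576) (Steps.fwd (nat_lit 2359296) (Steps.bwd (nat_lit 4) (Steps.bwd (nat_lit 9) (Steps.fwd (nat_lit 1048576) (Steps.bwd (nat_lit 8) (Steps.bwd (nat_lit 4) (Steps.fwd (nat_lit 2097152) (Steps.bwd (nat_lit 4) (Steps.fwd (nat_lit 2359296) Steps.nil))))))))))))))) (nat_lit 106) (nat_lit 2),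
  Rule.mk (nat_lit 4) (nat_lit 314) (Steps.bwd (nat_lit 8) (Steps.bwd (nat_lit 4) (Steps.bwd (nat_lit 9) (Steps.bwd (nat_lit 4) (Steps.bwd (nat_lit 8) (Steps.bwd (nat_lit 4) (Steps.bwd (nat_lit 9) (Steps.fwd (nat_lit 1048576) (Steps.bwd (nat_lit 8) (Steps.bwd (nat_lit 4) (Steps.bwd (nat_lit 9) (Steps.fwd (nat_lit 1048576) (Steps.bwd (nat_lit 8) (Steps.bwd (nat_lit 4) (Steps.bwd (nat_lit 9) Steps.nil))))))))))))))) (nat_lit 106) (nat_lit 0),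
  Rule.mk (nat_lit 8) (nat_lit 314) (Steps.bwd (nat_lit 4) (Steps.bwd (nat_lit 9) (Steps.bwd (nat_lit 4) (Steps.fwd (nat_lit 2359296) (Steps.bwd (nat_lit 4) (Steps.bwd (nat_lit 9) (Steps.fwd (nat_lit 1048576) (Steps.bwd (nat_lit 8) (Steps.fwd (nat_lit 1048576) (Steps.fwd (nat_lit 2097152) (Steps.fwd (nat_lit 1048576) (Steps.fwd (nat_lit 2359296) (Steps.bwd (nat_lit 4) (Steps.bwd (nat_lit 9) (Steps.bwd (nat_lit 4) Steps.nil))))))))))))))) (nat_lit 106) (nat_lit 1),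
  Rule.mk (nat_lit 9) (nat_lit 314) (Steps.bwd (nat_lit 4) (Steps.bwd (nat_lit 8) (Steps.fwd (nat_lit 1048576) (Steps.fwd (nat_lit 2097152) (Steps.bwd (nat_lit 4) (Steps.bwd (nat_lit 8) (Steps.bwd (nat_lit 4) (Steps.fwd (nat_lit 2097152) (Steps.fwd (nat_lit 1048576) (Steps.bwd (nat_lit 8) (Steps.bwd (nat_lit 4) (Steps.bwd (nat_lit 9) (Steps.fwd (nat_lit 1048576) (Steps.bwd (nat_lit 8) (Steps.bwd (nat_lit 4) Steps.nil))))))))))))))) (nat_lit 106) (nat_lit 3),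
  Rule.mk (nat_lit 9) (nat_lit 314) (Steps.bwd (nat_lit 4) (Steps.fwd (nat_lit 2359296) (Steps.fwd (nat_lit 1048576) (Steps.bwd (nat_lit 9) (Steps.fwd (nat_lit 1048576) (Steps.bwd (nat_lit 8) (Steps.fwd (nat_lit 1048576) (Steps.bwd (nat_lit 9) (Steps.fwd (nat_lit 1048576) (Steps.fwd (nat_lit 2359296) (Steps.bwd (nat_lit 4) (Steps.bwd (nat_lit 9) (Steps.bwd (nat_lit 4) (Steps.bwd (nat_lit 8) (Steps.bwd (nat_lit 4) Steps.nil))))))))))))))) (nat_lit 106) (nat_lit 3),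
  Rule.mk (nat_lit 8) (nat_lit 314) (Steps.bwd (nat_lit 4) (Steps.bwd (nat_lit 9) (Steps.bwd (nat_lit 4) (Steps.bwd (nat_lit 8) (Steps.bwd (nat_lit 4) (Steps.bwd (nat_lit 9) (Steps.fwd (nat_lit 1048576) (Steps.fwd (nat_lit 2359296) (Steps.bwd (nat_lit 4) (Steps.fwd (nat_lit 2097152) (Steps.bwd (nat_lit 4) (Steps.bwd (nat_lit 8) (Steps.fwd (nat_lit 1048576) (Steps.fwd (nat_lit 2097152) (Steps.fwd (nat_lit 1048576) Steps.nil))))))))))))))) (nat_lit 106) (nat_lit 1),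
  Rule.mk (nat_lit 9) (nat_lit 314) (Steps.bwd (nat_lit 4) (Steps.fwd (nat_lit 2359296) (Steps.fwd (nat_lit 1048576) (Steps.fwd (nat_lit 2097152) (Steps.fwd (nat_lit 1048576) (Steps.fwd (nat_lit 2359296) (Steps.bwd (nat_lit 4) (Steps.bwd (nat_lit 9) (Steps.bwd (nat_lit 4) (Steps.fwd (nat_lit 2359296) (Steps.fwd (nat_lit 1048576) (Steps.bwd (nat_lit 9) (Steps.fwd (nat_lit 1048576) (Steps.fwd (nat_lit 2359296) (Steps.fwd (nat_lit 1048576) Steps.nil))))))))))))))) (nat_lit 106) (nat_lit 3),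
  Rule.mk (nat_lit 8) (nat_lit 314) (Steps.bwd (nat_lit 4) (Steps.bwd (nat_lit 9) (Steps.bwd (nat_lit 4) (Steps.fwd (nat_lit 2359296) (Steps.fwd (nat_lit 1048576) (Steps.bwd (nat_lit 9) (Steps.fwd (nat_lit 1048576) (Steps.bwd (nat_lit 8) (Steps.bwd (nat_lit 4) (Steps.bwd (nat_lit 9) (Steps.bwd (nat_lit 4) (Steps.fwd (nat_lit 2359296) (Steps.fwd (nat_lit 1048576) (Steps.bwd (nat_lit 9) (Steps.bwd (nat_lit 4) Steps.nil))))))))))))))) (nat_lit 106) (nat_lit 1),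
  Rule.mk (nat_lit 4) (nat_lit 314) (Steps.bwd (nat_lit 8) (Steps.bwd (nat_lit 4) (Steps.bwd (nat_lit 9) (Steps.bwd (nat_lit 4) (Steps.fwd (nat_lit 2359296) (Steps.fwd (nat_lit 1048576) (Steps.bwd (nat_lit 9) (Steps.bwd (nat_lit 4) (Steps.bwd (nat_lit 8) (Steps.fwd (nat_lit 1048576) (Steps.bwd (nat_lit 9) (Steps.fwd (nat_lit 1048576) (Steps.fwd (nat_lit 2359296) (Steps.bwd (nat_lit 4) (Steps.bwd (nat_lit 9) Steps.nil))))))))))))))) (nat_lit 106) (nat_lit 0),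
  Rule.mk (nat_lit 4) (nat_lit 314) (Steps.bwd (nat_lit 9) (Steps.bwd (nat_lit 4) (Steps.fwd (nat_lit 2359296) (Steps.bwd (nat_lit 4) (Steps.bwd (nat_lit 9) (Steps.fwd (nat_lit 1048576) (Steps.bwd (nat_lit 8) (Steps.bwd (nat_lit 4) (Steps.fwd (nat_lit 2097152) (Steps.fwd (nat_lit 1048576) (Steps.fwd (nat_lit 2359296) (Steps.bwd (nat_lit 4) (Steps.bwd (nat_lit 9) (Steps.bwd (nat_lit 4) (Steps.bwd (nat_lit 8) Steps.nil))))))))))))))) (nat_lit 106) (nat_lit 2),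
  Rule.mk (nat_lit 9) (nat_lit 314) (Steps.bwd (nat_lit 4) (Steps.fwd (nat_lit 2359296) (Steps.fwd (nat_lit 1048576) (Steps.bwd (nat_lit 9) (Steps.fwd (nat_lit 1048576) (Steps.fwd (nat_lit 2359296) (Steps.bwd (nat_lit 4) (Steps.fwd (nat_lit 2097152) (Steps.fwd (nat_lit 1048576) (Steps.fwd (nat_lit 2359296) (Steps.bwd (nat_lit 4) (Steps.bwd (nat_lit 9) (Steps.bwd (nat_lit 4) (Steps.fwd (nat_lit 2359296) (Steps.bwd (nat_lit 4) Steps.nil))))))))))))))) (nat_lit 106) (nat_lit 3),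
  Rule.mk (nat_lit 8) (nat_lit 314) (Steps.bwd (nat_lit 4) (Steps.bwd (nat_lit 9) (Steps.bwd (nat_lit 4) (Steps.bwd (nat_lit 8) (Steps.bwd (nat_lit 4) (Steps.fwd (nat_lit 2097152) (Steps.bwd (nat_lit 4) (Steps.fwd (nat_lit 2359296) (Steps.fwd (nat_lit 1048576) (Steps.fwd (nat_lit 2097152) (Steps.fwd (nat_lit 1048576) (Steps.fwd (nat_lit 2359296) (Steps.fwd (nat_lit 1048576) (Steps.fwd (nat_lit 2097152) (Steps.fwd (nat_lit 1048576) Steps.nil))))))))))))))) (nat_lit 106) (nat_lit 1),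
  Rule.mk (nat_lit 4) (nat_lit 314) (Steps.bwd (nat_lit 9) (Steps.bwd (nat_lit 4) (Steps.fwd (nat_lit 2359296) (Steps.fwd (nat_lit 1048576) (Steps.bwd (nat_lit 9) (Steps.fwd (nat_lit 1048576) (Steps.bwd (nat_lit 8) (Steps.bwd (nat_lit 4) (Steps.bwd (nat_lit 9) (Steps.fwd (nat_lit 1048576) (Steps.fwd (nat_lit 2359296) (Steps.bwd (nat_lit 4) (Steps.bwd (nat_lit 9) (Steps.fwd (nat_lit 1048576) (Steps.bwd (nat_lit 8) Steps.nil))))))))))))))) (nat_lit 106) (nat_lit 2),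
  Rule.mk (nat_lit 4) (nat_lit 314) (Steps.bwd (nat_lit 9) (Steps.bwd (nat_lit 4) (Steps.fwd (nat_lit 2359296) (Steps.fwd (nat_lit 1048576) (Steps.bwd (nat_lit 9) (Steps.fwd (nat_lit 1048576) (Steps.bwd (nat_lit 8) (Steps.bwd (nat_lit 4) (Steps.bwd (nat_lit 9) (Steps.bwd (nat_lit 4) (Steps.fwd (nat_lit 2359296) (Steps.fwd (nat_lit 1048576) (Steps.fwd (nat_lit 2097152) (Steps.bwd (nat_lit 4) (Steps.fwd (nat_lit 2359296) Steps.nil))))))))))))))) (nat_lit 106) (nat_lit 2),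
  Rule.mk (nat_lit 9) (nat_lit 314) (Steps.bwd (nat_lit 4) (Steps.bwd (nat_lit 8) (Steps.fwd (nat_lit 1048576) (Steps.bwd (nat_lit 9) (Steps.bwd (nat_lit 4) (Steps.bwd (nat_lit 8) (Steps.bwd (nat_lit 4) (Steps.bwd (nat_lit 9) (Steps.fwd (nat_lit 1048576) (Steps.fwd (nat_lit 2359296) (Steps.bwd (nat_lit 4) (Steps.bwd (nat_lit 9) (Steps.bwd (nat_lit 4) (Steps.bwd (nat_lit 8) (Steps.bwd (nat_lit 4) Steps.nil))))))))))))))) (nat_lit 106) (nat_lit 3),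
  Rule.mk (nat_lit 4) (nat_lit 114) (Steps.fwd (nat_lit 1310720) (Steps.fwd (nat_lit 786432) (Steps.fwd (nat_lit 1048576) (Steps.fwd (nat_lit 1572864) (Steps.fwd (nat_lit 786432) Steps.nil))))) (nat_lit 54) (nat_lit 2),
  Rule.mk (nat_lit 6) (nat_lit 274) (Steps.bwd (nat_lit 1) (Steps.fwd (nat_lit 524288) (Steps.bwd (nat_lit 1) (Steps.bwd (nat_lit 6) (Steps.bwd (nat_lit 1) (Steps.fwd (nat_lit 524288) (Steps.bwd (nat_lit 5) (Steps.bwd (nat_lit 6) (Steps.fwd (nat_lit 262144) (Steps.bwd (nat_lit 6) (Steps.fwd (nat_lit 262144) (Steps.fwd (nat_lit 524288) (Steps.fwd (nat_lit 262144) Steps.nil))))))))))))) (nat_lit 35) (nat_lit 8),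
  Rule.mk (nat_lit 1) (nat_lit 274) (Steps.bwd (nat_lit 6) (Steps.bwd (nat_lit 1) (Steps.bwd (nat_lit 6) (Steps.fwd (nat_lit 1310720) (Steps.bwd (nat_lit 2) (Steps.bwd (nat_lit 1) (Steps.fwd (nat_lit 1572864) (Steps.fwd (nat_lit 262144) (Steps.fwd (nat_lit 786432) (Steps.bwd (nat_lit 1) (Steps.bwd (nat_lit 6) (Steps.fwd (nat_lit 262144) (Steps.fwd (nat_lit 786432) Steps.nil))))))))))))) (nat_lit 34) (nat_lit 10),
  Rule.mk (nat_lit 8) (nat_lit 314) (Steps.bwd (nat_lit 4) (Steps.bwd (nat_lit 9) (Steps.bwd (nat_lit 4) (Steps.fwd (nat_lit 2359296) (Steps.bwd (nat_lit 4) (Steps.bwd (nat_lit 9) (Steps.fwd (nat_lit 1048576) (Steps.fwd (nat_lit 2359296) (Steps.fwd (nat_lit 1048576) (Steps.fwd (nat_lit 2097152) (Steps.fwd (nat_lit 1048576) (Steps.fwd (nat_lit 2359296) (Steps.fwd (nat_lit 1048576) (Steps.bwd (nat_lit 9) (Steps.fwd (nat_lit 1048576) Steps.nil)))))))))))))))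 (nat_lit 106) (nat_lit 1),
  Rule.mk (nat_lit 4) (nat_lit 314) (Steps.fwd (nat_lit 2097152) (Steps.fwd (nat_lit 1048576) (Steps.bwd (nat_lit 8) (Steps.bwd (nat_lit 4) (Steps.bwd (nat_lit 9) (Steps.bwd (nat_lit 4) (Steps.bwd (nat_lit 8) (Steps.fwd (nat_lit 1048576) (Steps.bwd (nat_lit 9) (Steps.fwd (nat_lit 1048576) (Steps.fwd (nat_lit 2359296) (Steps.fwd (nat_lit 1048576) (Steps.bwd (nat_lit 9) (Steps.fwd (nat_lit 1048576) (Steps.bwd (nat_lit 8) Steps.nil))))))))))))))) (nat_lit 106) (nat_lit 2),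
  Rule.mk (nat_lit 8) (nat_lit 314) (Steps.bwd (nat_lit 4) (Steps.fwd (nat_lit 2097152) (Steps.bwd (nat_lit 4) (Steps.fwd (nat_lit 2359296) (Steps.bwd (nat_lit 4) (Steps.fwd (nat_lit 2097152) (Steps.bwd (nat_lit 4) (Steps.fwd (nat_lit 2359296) (Steps.fwd (nat_lit 1048576) (Steps.fwd (nat_lit 2097152) (Steps.fwd (nat_lit 1048576) (Steps.bwd (nat_lit 8) (Steps.fwd (nat_lit 1048576) (Steps.bwd (nat_lit 9) (Steps.bwd (nat_lit 4) Steps.nil))))))))))))))) (nat_lit 106) (nat_lit 1),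
  Rule.mk (nat_lit 8) (nat_lit 314) (Steps.bwd (nat_lit 4) (Steps.bwd (nat_lit 9) (Steps.fwd (nat_lit 1048576) (Steps.fwd (nat_lit 2359296) (Steps.fwd (nat_lit 1048576) (Steps.fwd (nat_lit 2097152) (Steps.bwd (nat_lit 4) (Steps.bwd (nat_lit 8) (Steps.bwd (nat_lit 4) (Steps.bwd (nat_lit 9) (Steps.fwd (nat_lit 1048576) (Steps.bwd (nat_lit 8) (Steps.bwd (nat_lit 4) (Steps.bwd (nat_lit 9) (Steps.fwd (nat_lit 1048576) Steps.nil))))))))))))))) (nat_lit 106) (nat_lit 1),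
  Rule.mk (nat_lit 4) (nat_lit 314) (Steps.bwd (nat_lit 9) (Steps.bwd (nat_lit 4) (Steps.fwd (nat_lit 2359296) (Steps.fwd (nat_lit 1048576) (Steps.fwd (nat_lit 2097152) (Steps.fwd (nat_lit 1048576) (Steps.fwd (nat_lit 2359296) (Steps.fwd (nat_lit 1048576) (Steps.bwd (nat_lit 9) (Steps.fwd (nat_lit 1048576) (Steps.fwd (nat_lit 2359296) (Steps.fwd (nat_lit 1048576) (Steps.bwd (nat_lit 9) (Steps.bwd (nat_lit 4) (Steps.fwd (nat_lit 2359296) Steps.nil))))))))))))))) (nat_lit 106) (nat_lit 2),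
  Rule.mk (nat_lit 4) (nat_lit 314) (Steps.bwd (nat_lit 8) (Steps.bwd (nat_lit 4) (Steps.fwd (nat_lit 2097152) (Steps.bwd (nat_lit 4) (Steps.bwd (nat_lit 8) (Steps.fwd (nat_lit 1048576) (Steps.bwd (nat_lit 9) (Steps.bwd (nat_lit 4) (Steps.fwd (nat_lit 2359296) (Steps.fwd (nat_lit 1048576) (Steps.fwd (nat_lit 2097152) (Steps.bwd (nat_lit 4) (Steps.fwd (nat_lit 2359296) (Steps.fwd (nat_lit 1048576) (Steps.bwd (nat_lit 9) Steps.nil))))))))))))))) (nat_lit 106) (nat_lit 0),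
  Rule.mk (nat_lit 4) (nat_lit 314) (Steps.bwd (nat_lit 9) (Steps.bwd (nat_lit 4) (Steps.fwd (nat_lit 2359296) (Steps.fwd (nat_lit 1048576) (Steps.fwd (nat_lit 2097152) (Steps.fwd (nat_lit 1048576) (Steps.fwd (nat_lit 2359296) (Steps.fwd (nat_lit 1048576) (Steps.bwd (nat_lit 9) (Steps.bwd (nat_lit 4) (Steps.fwd (nat_lit 2359296) (Steps.bwd (nat_lit 4) (Steps.bwd (nat_lit 9) (Steps.fwd (nat_lit 1048576) (Steps.bwd (nat_lit 8) Steps.nil))))))))))))))) (nat_lit 106) (nat_lit 2),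
  Rule.mk (nat_lit 1) (nat_lit 154) (Steps.fwd (nat_lit 1572864) (Steps.bwd (nat_lit 1) (Steps.fwd (nat_lit 1048576) (Steps.bwd (nat_lit 1) (Steps.fwd (nat_lit 1572864) (Steps.bwd (nat_lit 1) (Steps.bwd (nat_lit 4) Steps.nil))))))) (nat_lit 74) (nat_lit 3),
  Rule.mk (nat_lit 4) (nat_lit 314) (Steps.bwd (nat_lit 8) (Steps.bwd (nat_lit 4) (Steps.bwd (nat_lit 9) (Steps.fwd (nat_lit 1048576) (Steps.fwd (nat_lit 2359296) (Steps.fwd (nat_lit 1048576) (Steps.fwd (nat_lit 2097152) (Steps.bwd (nat_lit 4) (Steps.fwd (nat_lit 2359296) (Steps.fwd (nat_lit 1048576) (Steps.bwd (nat_lit 9) (Steps.fwd (nat_lit 1048576) (Steps.fwd (nat_lit 2359296) (Steps.fwd (nat_lit 1048576) (Steps.fwd (nat_lit 2097152) Steps.nil))))))))))))))) (nat_lit 106) (nat_lit 0),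
  Rule.mk (nat_lit 4) (nat_lit 314) (Steps.bwd (nat_lit 9) (Steps.bwd (nat_lit 4) (Steps.bwd (nat_lit 8) (Steps.bwd (nat_lit 4) (Steps.bwd (nat_lit 9) (Steps.fwd (nat_lit 1048576) (Steps.fwd (nat_lit 2359296) (Steps.fwd (nat_lit 1048576) (Steps.fwd (nat_lit 2097152) (Steps.fwd (nat_lit 1048576) (Steps.bwd (nat_lit 8) (Steps.fwd (nat_lit 1048576) (Steps.bwd (nat_lit 9) (Steps.bwd (nat_lit 4) (Steps.fwd (nat_lit 2359296) Steps.nil))))))))))))))) (nat_lit 106) (nat_lit 2),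
  Rule.mk (nat_lit 3) (nat_lit 154) (Steps.bwd (nat_lit 1) (Steps.fwd (nat_lit 524288) (Steps.bwd (nat_lit 7) (Steps.bwd (nat_lit 1) (Steps.bwd (nat_lit 3) (Steps.fwd (nat_lit 262144) (Steps.bwd (nat_lit 7) Steps.nil))))))) (nat_lit 73) (nat_lit 2),
  Rule.mk (nat_lit 6) (nat_lit 274) (Steps.bwd (nat_lit 1) (Steps.bwd (nat_lit 2) (Steps.fwd (nat_lit 262144) (Steps.fwd (nat_lit 1572864) (Steps.bwd (nat_lit 1) (Steps.fwd (nat_lit 1572864) (Steps.bwd (nat_lit 5) (Steps.fwd (nat_lit 786432) (Steps.fwd (nat_lit 262144) (Steps.fwd (nat_lit 1572864) (Steps.bwd (nat_lit 1) (Steps.fwd (nat_lit 786432) (Steps.fwd (nat_lit 262144) Steps.nil))))))))))))) (nat_lit 34) (nat_lit 7),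
  Rule.mk (nat_lit 9) (nat_lit 314) (Steps.bwd (nat_lit 4) (Steps.fwd (nat_lit 2359296) (Steps.fwd (nat_lit 1048576) (Steps.fwd (nat_lit 2097152) (Steps.fwd (nat_lit 1048576) (Steps.fwd (nat_lit 2359296) (Steps.fwd (nat_lit 1048576) (Steps.fwd (nat_lit 2097152) (Steps.fwd (nat_lit 1048576) (Steps.fwd (nat_lit 2359296) (Steps.bwd (nat_lit 4) (Steps.bwd (nat_lit 9) (Steps.bwd (nat_lit 4) (Steps.fwd (nat_lit 2359296) (Steps.bwd (nat_lit 4) Steps.nil))))))))))))))) (nat_lit 106) (nat_lit 3)]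
noncomputable def R_115 : List (Rule) := [Rule.mk (nat_lit 4) (nat_lit 314) (Steps.bwd (nat_lit 9) (Steps.bwd (nat_lit 4) (Steps.fwd (nat_lit 2359296) (Steps.fwd (nat_lit 1048576) (Steps.bwd (nat_lit 9) (Steps.fwd (nat_lit 1048576) (Steps.fwd (nat_lit 2359296) (Steps.fwd (nat_lit 1048576) (Steps.bwd (nat_lit 9) (Steps.bwd (nat_lit 4) (Steps.fwd (nat_lit 2359296) (Steps.fwd (nat_lit 1048576) (Steps.fwd (nat_lit 2097152) (Steps.bwd (nat_lit 4) (Steps.fwd (nat_lit 2359296) Steps.nil))))))))))))))) (nat_lit 106) (nat_lit 2),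
  Rule.mk (nat_lit 9) (nat_lit 314) (Steps.fwd (nat_lit 1048576) (Steps.fwd (nat_lit 2359296) (Steps.bwd (nat_lit 4) (Steps.fwd (nat_lit 2097152) (Steps.bwd (nat_lit 4) (Steps.bwd (nat_lit 8) (Steps.fwd (nat_lit 1048576) (Steps.fwd (nat_lit 2097152) (Steps.fwd (nat_lit 1048576) (Steps.fwd (nat_lit 2359296) (Steps.bwd (nat_lit 4) (Steps.fwd (nat_lit 2097152) (Steps.fwd (nat_lit 1048576) (Steps.fwd (nat_lit 2359296) (Steps.bwd (nat_lit 4) Steps.nil))))))))))))))) (nat_lit 106) (nat_lit 3),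
  Rule.mk (nat_lit 9) (nat_lit 314) (Steps.bwd (nat_lit 4) (Steps.fwd (nat_lit 2359296) (Steps.bwd (nat_lit 4) (Steps.bwd (nat_lit 9) (Steps.bwd (nat_lit 4) (Steps.fwd (nat_lit 2359296) (Steps.fwd (nat_lit 1048576) (Steps.fwd (nat_lit 2097152) (Steps.bwd (nat_lit 4) (Steps.bwd (nat_lit 8) (Steps.bwd (nat_lit 4) (Steps.bwd (nat_lit 9) (Steps.fwd (nat_lit 1048576) (Steps.fwd (nat_lit 2359296) (Steps.fwd (nat_lit 1048576) Steps.nil))))))))))))))) (nat_lit 106) (nat_lit 3),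
  Rule.mk (nat_lit 6) (nat_lit 274) (Steps.bwd (nat_lit 1) (Steps.bwd (nat_lit 6) (Steps.bwd (nat_lit 5) (Steps.fwd (nat_lit 786432) (Steps.bwd (nat_lit 1) (Steps.fwd (nat_lit 1572864) (Steps.bwd (nat_lit 1) (Steps.bwd (nat_lit 2) (Steps.bwd (nat_lit 1) (Steps.fwd (nat_lit 1572864) (Steps.fwd (nat_lit 262144) (Steps.fwd (nat_lit 786432) (Steps.bwd (nat_lit 1) Steps.nil))))))))))))) (nat_lit 34) (nat_lit 11),
  Rule.mk (nat_lit 4) (nat_lit 314) (Steps.bwd (nat_lit 9) (Steps.fwd (nat_lit 1048576) (Steps.fwd (nat_lit 2359296) (Steps.bwd (nat_lit 4) (Steps.bwd (nat_lit 9) (Steps.bwd (nat_lit 4) (Steps.bwd (nat_lit 8) (Steps.bwd (nat_lit 4) (Steps.bwd (nat_lit 9) (Steps.bwd (nat_lit 4) (Steps.bwd (nat_lit 8) (Steps.fwd (nat_lit 1048576) (Steps.bwd (nat_lit 9) (Steps.bwd (nat_lit 4) (Steps.fwd (nat_lit 2359296) Steps.nil))))))))))))))) (nat_lit 106) (nat_lit 2),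
  Rule.mk (nat_lit 1) (nat_lit 274) (Steps.fwd (nat_lit 786432) (Steps.bwd (nat_lit 1) (Steps.bwd (nat_lit 6) (Steps.fwd (nat_lit 262144) (Steps.bwd (nat_lit 2) (Steps.fwd (nat_lit 262144) (Steps.fwd (nat_lit 1572864) (Steps.fwd (nat_lit 262144) (Steps.fwd (nat_lit 1572864) (Steps.bwd (nat_lit 5) (Steps.fwd (nat_lit 786432) (Steps.bwd (nat_lit 1) (Steps.bwd (nat_lit 6) Steps.nil))))))))))))) (nat_lit 34) (nat_lit 4),
  Rule.mk (nat_lit 4) (nat_lit 314) (Steps.bwd (nat_lit 8) (Steps.fwd (nat_lit 1048576) (Steps.fwd (nat_lit 2097152) (Steps.fwd (nat_lit 1048576) (Steps.fwd (nat_lit 2359296) (Steps.bwd (nat_lit 4) (Steps.fwd (nat_lit 2097152) (Steps.bwd (nat_lit 4) (Steps.fwd (nat_lit 2359296) (Steps.fwd (nat_lit 1048576) (Steps.fwd (nat_lit 2097152) (Steps.fwd (nat_lit 1048576) (Steps.fwd (nat_lit 2359296) (Steps.fwd (nat_lit 1048576) (Steps.bwd (nat_lit 9) Steps.nil)))))))))))))))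 (nat_lit 106) (nat_lit 0),
  Rule.mk (nat_lit 8) (nat_lit 314) (Steps.bwd (nat_lit 4) (Steps.bwd (nat_lit 9) (Steps.bwd (nat_lit 4) (Steps.bwd (nat_lit 8) (Steps.bwd (nat_lit 4) (Steps.bwd (nat_lit 9) (Steps.fwd (nat_lit 1048576) (Steps.bwd (nat_lit 8) (Steps.bwd (nat_lit 4) (Steps.fwd (nat_lit 2097152) (Steps.fwd (nat_lit 1048576) (Steps.bwd (nat_lit 8) (Steps.bwd (nat_lit 4) (Steps.fwd (nat_lit 2097152) (Steps.bwd (nat_lit 4) Steps.nil))))))))))))))) (nat_lit 106) (nat_lit 1),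
  Rule.mk (nat_lit 8) (nat_lit 314) (Steps.bwd (nat_lit 4) (Steps.bwd (nat_lit 9) (Steps.bwd (nat_lit 4) (Steps.fwd (nat_lit 2359296) (Steps.fwd (nat_lit 1048576) (Steps.bwd (nat_lit 9) (Steps.bwd (nat_lit 4) (Steps.bwd (nat_lit 8) (Steps.fwd (nat_lit 1048576) (Steps.fwd (nat_lit 2097152) (Steps.fwd (nat_lit 1048576) (Steps.bwd (nat_lit 8) (Steps.bwd (nat_lit 4) (Steps.fwd (nat_lit 2097152) (Steps.fwd (nat_lit 1048576) Steps.nil))))))))))))))) (nat_lit 106) (nat_lit 1),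
  Rule.mk (nat_lit 8) (nat_lit 314) (Steps.bwd (nat_lit 4) (Steps.fwd (nat_lit 2097152) (Steps.bwd (nat_lit 4) (Steps.fwd (nat_lit 2359296) (Steps.bwd (nat_lit 4) (Steps.bwd (nat_lit 9) (Steps.fwd (nat_lit 1048576) (Steps.fwd (nat_lit 2359296) (Steps.bwd (nat_lit 4) (Steps.bwd (nat_lit 9) (Steps.fwd (nat_lit 1048576) (Steps.fwd (nat_lit 2359296) (Steps.bwd (nat_lit 4) (Steps.bwd (nat_lit 9) (Steps.bwd (nat_lit 4) Steps.nil))))))))))))))) (nat_lit 106) (nat_lit 1),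
  Rule.mk (nat_lit 4) (nat_lit 314) (Steps.bwd (nat_lit 9) (Steps.bwd (nat_lit 4) (Steps.bwd (nat_lit 8) (Steps.bwd (nat_lit 4) (Steps.bwd (nat_lit 9) (Steps.bwd (nat_lit 4) (Steps.fwd (nat_lit 2359296) (Steps.fwd (nat_lit 1048576) (Steps.fwd (nat_lit 2097152) (Steps.bwd (nat_lit 4) (Steps.fwd (nat_lit 2359296) (Steps.fwd (nat_lit 1048576) (Steps.fwd (nat_lit 2097152) (Steps.fwd (nat_lit 1048576) (Steps.bwd (nat_lit 8) Steps.nil))))))))))))))) (nat_lit 106) (nat_lit 2),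
  Rule.mk (nat_lit 4) (nat_lit 314) (Steps.bwd (nat_lit 9) (Steps.bwd (nat_lit 4) (Steps.fwd (nat_lit 2359296) (Steps.bwd (nat_lit 4) (Steps.bwd (nat_lit 9) (Steps.fwd (nat_lit 1048576) (Steps.fwd (nat_lit 2359296) (Steps.bwd (nat_lit 4) (Steps.bwd (nat_lit 9) (Steps.fwd (nat_lit 1048576) (Steps.fwd (nat_lit 2359296) (Steps.bwd (nat_lit 4) (Steps.bwd (nat_lit 9) (Steps.fwd (nat_lit 1048576) (Steps.fwd (nat_lit 2359296) Steps.nil))))))))))))))) (nat_lit 106) (nat_lit 2),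
  Rule.mk (nat_lit 4) (nat_lit 314) (Steps.bwd (nat_lit 8) (Steps.bwd (nat_lit 4) (Steps.bwd (nat_lit 9) (Steps.fwd (nat_lit 1048576) (Steps.fwd (nat_lit 2359296) (Steps.bwd (nat_lit 4) (Steps.bwd (nat_lit 9) (Steps.fwd (nat_lit 1048576) (Steps.bwd (nat_lit 8) (Steps.fwd (nat_lit 1048576) (Steps.bwd (nat_lit 9) (Steps.bwd (nat_lit 4) (Steps.fwd (nat_lit 2359296) (Steps.fwd (nat_lit 1048576) (Steps.bwd (nat_lit 9) Steps.nil))))))))))))))) (nat_lit 106) (nat_lit 0),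
  Rule.mk (nat_lit 4) (nat_lit 314) (Steps.bwd (nat_lit 9) (Steps.bwd (nat_lit 4) (Steps.bwd (nat_lit 8) (Steps.bwd (nat_lit 4) (Steps.bwd (nat_lit 9) (Steps.fwd (nat_lit 1048576) (Steps.fwd (nat_lit 2359296) (Steps.fwd (nat_lit 1048576) (Steps.fwd (nat_lit 2097152) (Steps.bwd (nat_lit 4) (Steps.fwd (nat_lit 2359296) (Steps.fwd (nat_lit 1048576) (Steps.bwd (nat_lit 9) (Steps.bwd (nat_lit 4) (Steps.bwd (nat_lit 8) Steps.nil))))))))))))))) (nat_lit 106) (nat_lit 2),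
  Rule.mk (nat_lit 1) (nat_lit 274) (Steps.fwd (nat_lit 524288) (Steps.bwd (nat_lit 5) (Steps.fwd (nat_lit 1572864) (Steps.bwd (nat_lit 1) (Steps.bwd (nat_lit 6) (Steps.fwd (nat_lit 262144) (Steps.fwd (nat_lit 524288) (Steps.bwd (nat_lit 1) (Steps.bwd (nat_lit 6) (Steps.fwd (nat_lit 262144) (Steps.fwd (nat_lit 524288) (Steps.fwd (nat_lit 262144) (Steps.bwd (nat_lit 6) Steps.nil))))))))))))) (nat_lit 35) (nat_lit 13),
  Rule.mk (nat_lit 4) (nat_lit 314) (Steps.bwd (nat_lit 9) (Steps.bwd (nat_lit 4) (Steps.fwd (nat_lit 2359296) (Steps.bwd (nat_lit 4) (Steps.fwd (nat_lit 2097152) (Steps.bwd (nat_lit 4) (Steps.bwd (nat_lit 8) (Steps.fwd (nat_lit 1048576) (Steps.fwd (nat_lit 2097152) (Steps.fwd (nat_lit 1048576) (Steps.fwd (nat_lit 2359296) (Steps.bwd (nat_lit 4) (Steps.bwd (nat_lit 9) (Steps.bwd (nat_lit 4) (Steps.fwd (nat_lit 2359296) Steps.nil))))))))))))))) (nat_lit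 106) (nat_lit 2),
  Rule.mk (nat_lit 9) (nat_lit 314) (Steps.bwd (nat_lit 4) (Steps.fwd (nat_lit 2359296) (Steps.fwd (nat_lit 1048576) (Steps.bwd (nat_lit 9) (Steps.fwd (nat_lit 1048576) (Steps.bwd (nat_lit 8) (Steps.bwd (nat_lit 4) (Steps.bwd (nat_lit 9) (Steps.fwd (nat_lit 1048576) (Steps.fwd (nat_lit 2359296) (Steps.bwd (nat_lit 4) (Steps.fwd (nat_lit 2097152) (Steps.fwd (nat_lit 1048576) (Steps.fwd (nat_lit 2359296) (Steps.fwd (nat_lit 1048576) Steps.nil))))))))))))))) (nat_lit 106) (nat_lit 3),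
  Rule.mk (nat_lit 4) (nat_lit 314) (Steps.bwd (nat_lit 8) (Steps.bwd (nat_lit 4) (Steps.bwd (nat_lit 9) (Steps.fwd (nat_lit 1048576) (Steps.bwd (nat_lit 8) (Steps.bwd (nat_lit 4) (Steps.bwd (nat_lit 9) (Steps.fwd (nat_lit 1048576) (Steps.bwd (nat_lit 8) (Steps.bwd (nat_lit 4) (Steps.bwd (nat_lit 9) (Steps.bwd (nat_lit 4) (Steps.bwd (nat_lit 8) (Steps.fwd (nat_lit 1048576) (Steps.bwd (nat_lit 9) Steps.nil))))))))))))))) (nat_lit 106) (nat_lit 0),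
  Rule.mk (nat_lit 4) (nat_lit 314) (Steps.bwd (nat_lit 9) (Steps.bwd (nat_lit 4) (Steps.fwd (nat_lit 2359296) (Steps.fwd (nat_lit 1048576) (Steps.fwd (nat_lit 2097152) (Steps.fwd (nat_lit 1048576) (Steps.fwd (nat_lit 2359296) (Steps.fwd (nat_lit 1048576) (Steps.fwd (nat_lit 2097152) (Steps.bwd (nat_lit 4) (Steps.fwd (nat_lit 2359296) (Steps.fwd (nat_lit 1048576) (Steps.bwd (nat_lit 9) (Steps.fwd (nat_lit 1048576) (Steps.fwd (nat_lit 2359296) Steps.nil))))))))))))))) (nat_lit 106) (nat_lit 2),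
  Rule.mk (nat_lit 4) (nat_lit 314) (Steps.bwd (nat_lit 8) (Steps.fwd (nat_lit 1048576) (Steps.bwd (nat_lit 9) (Steps.bwd (nat_lit 4) (Steps.fwd (nat_lit 2359296) (Steps.bwd (nat_lit 4) (Steps.bwd (nat_lit 9) (Steps.bwd (nat_lit 4) (Steps.fwd (nat_lit 2359296) (Steps.bwd (nat_lit 4) (Steps.bwd (nat_lit 9) (Steps.fwd (nat_lit 1048576) (Steps.fwd (nat_lit 2359296) (Steps.bwd (nat_lit 4) (Steps.fwd (nat_lit 2097152) Steps.nil))))))))))))))) (nat_lit 106) (nat_lit 0),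
  Rule.mk (nat_lit 9) (nat_lit 314) (Steps.bwd (nat_lit 4) (Steps.bwd (nat_lit 8) (Steps.bwd (nat_lit 4) (Steps.fwd (nat_lit 2097152) (Steps.fwd (nat_lit 1048576) (Steps.bwd (nat_lit 8) (Steps.fwd (nat_lit 1048576) (Steps.fwd (nat_lit 2097152) (Steps.fwd (nat_lit 1048576) (Steps.fwd (nat_lit 2359296) (Steps.fwd (nat_lit 1048576) (Steps.bwd (nat_lit 9) (Steps.fwd (nat_lit 1048576) (Steps.fwd (nat_lit 2359296) (Steps.fwd (nat_lit 1048576) Steps.nil))))))))))))))) (nat_lit 106) (nat_lit 3),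
  Rule.mk (nat_lit 8) (nat_lit 314) (Steps.bwd (nat_lit 4) (Steps.bwd (nat_lit 9) (Steps.bwd (nat_lit 4) (Steps.bwd (nat_lit 8) (Steps.bwd (nat_lit 4) (Steps.bwd (nat_lit 9) (Steps.bwd (nat_lit 4) (Steps.fwd (nat_lit 2359296) (Steps.bwd (nat_lit 4) (Steps.bwd (nat_lit 9) (Steps.fwd (nat_lit 1048576) (Steps.fwd (nat_lit 2359296) (Steps.fwd (nat_lit 1048576) (Steps.fwd (nat_lit 2097152) (Steps.bwd (nat_lit 4) Steps.nil))))))))))))))) (nat_lit 106) (nat_lit 1),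
  Rule.mk (nat_lit 9) (nat_lit 314) (Steps.bwd (nat_lit 4) (Steps.fwd (nat_lit 2359296) (Steps.fwd (nat_lit 1048576) (Steps.bwd (nat_lit 9) (Steps.bwd (nat_lit 4) (Steps.bwd (nat_lit 8) (Steps.fwd (nat_lit 1048576) (Steps.bwd (nat_lit 9) (Steps.bwd (nat_lit 4) (Steps.bwd (nat_lit 8) (Steps.fwd (nat_lit 1048576) (Steps.bwd (nat_lit 9) (Steps.bwd (nat_lit 4) (Steps.fwd (nat_lit 2359296) (Steps.fwd (nat_lit 1048576) Steps.nil))))))))))))))) (nat_lit 106) (nat_lit 3),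
  Rule.mk (nat_lit 8) (nat_lit 314) (Steps.bwd (nat_lit 4) (Steps.bwd (nat_lit 9) (Steps.fwd (nat_lit 1048576) (Steps.fwd (nat_lit 2359296) (Steps.fwd (nat_lit 1048576) (Steps.fwd (nat_lit 2097152) (Steps.fwd (nat_lit 1048576) (Steps.bwd (nat_lit 8) (Steps.bwd (nat_lit 4) (Steps.bwd (nat_lit 9) (Steps.bwd (nat_lit 4) (Steps.fwd (nat_lit 2359296) (Steps.fwd (nat_lit 1048576) (Steps.fwd (nat_lit 2097152) (Steps.bwd (nat_lit 4) Steps.nil))))))))))))))) (nat_lit 106) (nat_lit 1),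
  Rule.mk (nat_lit 1) (nat_lit 154) (Steps.bwd (nat_lit 2) (Steps.bwd (nat_lit 1) (Steps.bwd (nat_lit 5) (Steps.fwd (nat_lit 786432) (Steps.bwd (nat_lit 1) (Steps.bwd (nat_lit 2) (Steps.bwd (nat_lit 5) Steps.nil))))))) (nat_lit 70) (nat_lit 1),
  Rule.mk (nat_lit 9) (nat_lit 314) (Steps.bwd (nat_lit 4) (Steps.fwd (nat_lit 2359296) (Steps.fwd (nat_lit 1048576) (Steps.bwd (nat_lit 9) (Steps.bwd (nat_lit 4) (Steps.bwd (nat_lit 8) (Steps.bwd (nat_lit 4) (Steps.bwd (nat_lit 9) (Steps.fwd (nat_lit 1048576) (Steps.fwd (nat_lit 2359296) (Steps.fwd (nat_lit 1048576) (Steps.bwd (nat_lit 9) (Steps.bwd (nat_lit 4) (Steps.fwd (nat_lit 2359296) (Steps.bwd (nat_lit 4) Steps.nil))))))))))))))) (nat_lit 106) (nat_lit 3),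
  Rule.mk (nat_lit 8) (nat_lit 314) (Steps.bwd (nat_lit 4) (Steps.bwd (nat_lit 9) (Steps.bwd (nat_lit 4) (Steps.bwd (nat_lit 8) (Steps.fwd (nat_lit 1048576) (Steps.bwd (nat_lit 9) (Steps.bwd (nat_lit 4) (Steps.fwd (nat_lit 2359296) (Steps.fwd (nat_lit 1048576) (Steps.fwd (nat_lit 2097152) (Steps.bwd (nat_lit 4) (Steps.fwd (nat_lit 2359296) (Steps.fwd (nat_lit 1048576) (Steps.bwd (nat_lit 9) (Steps.fwd (nat_lit 1048576) Steps.nil))))))))))))))) (nat_lit 106) (nat_lit 1),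
  Rule.mk (nat_lit 9) (nat_lit 314) (Steps.bwd (nat_lit 4) (Steps.fwd (nat_lit 2359296) (Steps.fwd (nat_lit 1048576) (Steps.bwd (nat_lit 9) (Steps.fwd (nat_lit 1048576) (Steps.fwd (nat_lit 2359296) (Steps.bwd (nat_lit 4) (Steps.bwd (nat_lit 9) (Steps.fwd (nat_lit 1048576) (Steps.fwd (nat_lit 2359296) (Steps.bwd (nat_lit 4) (Steps.bwd (nat_lit 9) (Steps.fwd (nat_lit 1048576) (Steps.bwd (nat_lit 8) (Steps.bwd (nat_lit 4) Steps.nil))))))))))))))) (nat_lit 106) (nat_lit 3),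
  Rule.mk (nat_lit 9) (nat_lit 314) (Steps.bwd (nat_lit 4) (Steps.bwd (nat_lit 8) (Steps.bwd (nat_lit 4) (Steps.fwd (nat_lit 2097152) (Steps.bwd (nat_lit 4) (Steps.bwd (nat_lit 8) (Steps.bwd (nat_lit 4) (Steps.bwd (nat_lit 9) (Steps.bwd (nat_lit 4) (Steps.fwd (nat_lit 2359296) (Steps.fwd (nat_lit 1048576) (Steps.fwd (nat_lit 2097152) (Steps.bwd (nat_lit 4) (Steps.fwd (nat_lit 2359296) (Steps.fwd (nat_lit 1048576) Steps.nil))))))))))))))) (nat_lit 106) (nat_lit 3),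
  Rule.mk (nat_lit 1) (nat_lit 154) (Steps.bwd (nat_lit 4) (Steps.fwd (nat_lit 262144) (Steps.bwd (nat_lit 6) (Steps.fwd (nat_lit 262144) (Steps.fwd (nat_lit 1048576) (Steps.bwd (nat_lit 1) (Steps.bwd (nat_lit 6) Steps.nil))))))) (nat_lit 74) (nat_lit 1),
  Rule.mk (nat_lit 9) (nat_lit 314) (Steps.bwd (nat_lit 4) (Steps.fwd (nat_lit 2359296) (Steps.bwd (nat_lit 4) (Steps.fwd (nat_lit 2097152) (Steps.bwd (nat_lit 4) (Steps.fwd (nat_lit 2359296) (Steps.bwd (nat_lit 4) (Steps.bwd (nat_lit 9) (Steps.bwd (nat_lit 4) (Steps.fwd (nat_lit 2359296) (Steps.bwd (nat_lit 4) (Steps.bwd (nat_lit 9) (Steps.fwd (nat_lit 1048576) (Steps.fwd (nat_lit 2359296) (Steps.fwd (nat_lit 1048576) Steps.nil))))))))))))))) (nat_lit 106) (nat_lit 3),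
  Rule.mk (nat_lit 8) (nat_lit 314) (Steps.bwd (nat_lit 4) (Steps.bwd (nat_lit 9) (Steps.fwd (nat_lit 1048576) (Steps.bwd (nat_lit 8) (Steps.fwd (nat_lit 1048576) (Steps.fwd (nat_lit 2097152) (Steps.fwd (nat_lit 1048576) (Steps.fwd (nat_lit 2359296) (Steps.bwd (nat_lit 4) (Steps.bwd (nat_lit 9) (Steps.bwd (nat_lit 4) (Steps.bwd (nat_lit 8) (Steps.bwd (nat_lit 4) (Steps.bwd (nat_lit 9) (Steps.fwd (nat_lit 1048576) Steps.nil))))))))))))))) (nat_lit 106) (nat_lit 1),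
  Rule.mk (nat_lit 4) (nat_lit 314) (Steps.bwd (nat_lit 9) (Steps.bwd (nat_lit 4) (Steps.fwd (nat_lit 2359296) (Steps.bwd (nat_lit 4) (Steps.fwd (nat_lit 2097152) (Steps.fwd (nat_lit 1048576) (Steps.fwd (nat_lit 2359296) (Steps.bwd (nat_lit 4) (Steps.bwd (nat_lit 9) (Steps.bwd (nat_lit 4) (Steps.bwd (nat_lit 8) (Steps.fwd (nat_lit 1048576) (Steps.bwd (nat_lit 9) (Steps.bwd (nat_lit 4) (Steps.fwd (nat_lit 2359296) Steps.nil))))))))))))))) (nat_lit 106) (nat_lit 2),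
  Rule.mk (nat_lit 1) (nat_lit 154) (Steps.fwd (nat_lit 1572864) (Steps.fwd (nat_lit 262144) (Steps.bwd (nat_lit 4) (Steps.fwd (nat_lit 262144) (Steps.bwd (nat_lit 6) (Steps.fwd (nat_lit 262144) (Steps.bwd (nat_lit 4) Steps.nil))))))) (nat_lit 74) (nat_lit 3),
  Rule.mk (nat_lit 9) (nat_lit 314) (Steps.bwd (nat_lit 4) (Steps.bwd (nat_lit 8) (Steps.bwd (nat_lit 4) (Steps.bwd (nat_lit 9) (Steps.bwd (nat_lit 4) (Steps.bwd (nat_lit 8) (Steps.fwd (nat_lit 1048576) (Steps.fwd (nat_lit 2097152) (Steps.bwd (nat_lit 4) (Steps.bwd (nat_lit 8) (Steps.bwd (nat_lit 4) (Steps.bwd (nat_lit 9) (Steps.fwd (nat_lit 1048576) (Steps.fwd (nat_lit 2359296) (Steps.bwd (nat_lit 4) Steps.nil))))))))))))))) (nat_lit 106) (nat_lit 3),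
  Rule.mk (nat_lit 4) (nat_lit 314) (Steps.bwd (nat_lit 8) (Steps.bwd (nat_lit 4) (Steps.bwd (nat_lit 9) (Steps.fwd (nat_lit 1048576) (Steps.fwd (nat_lit 2359296) (Steps.fwd (nat_lit 1048576) (Steps.bwd (nat_lit 9) (Steps.bwd (nat_lit 4) (Steps.bwd (nat_lit 8) (Steps.bwd (nat_lit 4) (Steps.fwd (nat_lit 2097152) (Steps.fwd (nat_lit 1048576) (Steps.fwd (nat_lit 2359296) (Steps.bwd (nat_lit 4) (Steps.fwd (nat_lit 2097152) Steps.nil))))))))))))))) (nat_lit 106) (nat_lit 0),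
  Rule.mk (nat_lit 4) (nat_lit 314) (Steps.bwd (nat_lit 9) (Steps.bwd (nat_lit 4) (Steps.bwd (nat_lit 8) (Steps.bwd (nat_lit 4) (Steps.bwd (nat_lit 9) (Steps.bwd (nat_lit 4) (Steps.bwd (nat_lit 8) (Steps.bwd (nat_lit 4) (Steps.bwd (nat_lit 9) (Steps.bwd (nat_lit 4) (Steps.fwd (nat_lit 2359296) (Steps.fwd (nat_lit 1048576) (Steps.bwd (nat_lit 9) (Steps.bwd (nat_lit 4) (Steps.fwd (nat_lit 2359296) Steps.nil))))))))))))))) (nat_lit 106) (nat_lit 2),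
  Rule.mk (nat_lit 9) (nat_lit 314) (Steps.bwd (nat_lit 4) (Steps.bwd (nat_lit 8) (Steps.bwd (nat_lit 4) (Steps.bwd (nat_lit 9) (Steps.bwd (nat_lit 4) (Steps.bwd (nat_lit 8) (Steps.bwd (nat_lit 4) (Steps.fwd (nat_lit 2097152) (Steps.fwd (nat_lit 1048576) (Steps.fwd (nat_lit 2359296) (Steps.fwd (nat_lit 1048576) (Steps.fwd (nat_lit 2097152) (Steps.fwd (nat_lit 1048576) (Steps.fwd (nat_lit 2359296) (Steps.fwd (nat_lit 1048576) Steps.nil))))))))))))))) (nat_lit 106) (nat_lit 3),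
  Rule.mk (nat_lit 8) (nat_lit 314) (Steps.bwd (nat_lit 4) (Steps.bwd (nat_lit 9) (Steps.bwd (nat_lit 4) (Steps.fwd (nat_lit 2359296) (Steps.fwd (nat_lit 1048576) (Steps.fwd (nat_lit 2097152) (Steps.fwd (nat_lit 1048576) (Steps.bwd (nat_lit 8) (Steps.bwd (nat_lit 4) (Steps.bwd (nat_lit 9) (Steps.fwd (nat_lit 1048576) (Steps.fwd (nat_lit 2359296) (Steps.bwd (nat_lit 4) (Steps.bwd (nat_lit 9) (Steps.bwd (nat_lit 4) Steps.nil))))))))))))))) (nat_lit 106) (nat_lit 1),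
  Rule.mk (nat_lit 4) (nat_lit 314) (Steps.bwd (nat_lit 8) (Steps.bwd (nat_lit 4) (Steps.bwd (nat_lit 9) (Steps.bwd (nat_lit 4) (Steps.bwd (nat_lit 8) (Steps.fwd (nat_lit 1048576) (Steps.fwd (nat_lit 2097152) (Steps.fwd (nat_lit 1048576) (Steps.fwd (nat_lit 2359296) (Steps.fwd (nat_lit 1048576) (Steps.fwd (nat_lit 2097152) (Steps.fwd (nat_lit 1048576) (Steps.bwd (nat_lit 8) (Steps.fwd (nat_lit 1048576) (Steps.bwd (nat_lit 9) Steps.nil))))))))))))))) (nat_lit 106) (nat_lit 0),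
  Rule.mk (nat_lit 9) (nat_lit 314) (Steps.bwd (nat_lit 4) (Steps.bwd (nat_lit 8) (Steps.fwd (nat_lit 1048576) (Steps.bwd (nat_lit 9) (Steps.bwd (nat_lit 4) (Steps.fwd (nat_lit 2359296) (Steps.fwd (nat_lit 1048576) (Steps.fwd (nat_lit 2097152) (Steps.fwd (nat_lit 1048576) (Steps.fwd (nat_lit 2359296) (Steps.fwd (nat_lit 1048576) (Steps.fwd (nat_lit 2097152) (Steps.fwd (nat_lit 1048576) (Steps.fwd (nat_lit 2359296) (Steps.bwd (nat_lit 4) Steps.nil))))))))))))))) (nat_lit 106) (nat_lit 3),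
  Rule.mk (nat_lit 9) (nat_lit 314) (Steps.bwd (nat_lit 4) (Steps.bwd (nat_lit 8) (Steps.fwd (nat_lit 1048576) (Steps.bwd (nat_lit 9) (Steps.fwd (nat_lit 1048576) (Steps.fwd (nat_lit 2359296) (Steps.bwd (nat_lit 4) (Steps.fwd (nat_lit 2097152) (Steps.bwd (nat_lit 4) (Steps.bwd (nat_lit 8) (Steps.fwd (nat_lit 1048576) (Steps.fwd (nat_lit 2097152) (Steps.bwd (nat_lit 4) (Steps.bwd (nat_lit 8) (Steps.bwd (nat_lit 4) Steps.nil))))))))))))))) (nat_lit 106) (nat_lit 3),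
  Rule.mk (nat_lit 1) (nat_lit 274) (Steps.bwd (nat_lit 6) (Steps.bwd (nat_lit 1) (Steps.bwd (nat_lit 6) (Steps.fwd (nat_lit 1310720) (Steps.bwd (nat_lit 2) (Steps.fwd (nat_lit 262144) (Steps.fwd (nat_lit 1572864) (Steps.bwd (nat_lit 1) (Steps.bwd (nat_lit 2) (Steps.fwd (nat_lit 262144) (Steps.bwd (nat_lit 6) (Steps.bwd (nat_lit 1) (Steps.bwd (nat_lit 2) Steps.nil))))))))))))) (nat_lit 34) (nat_lit 10),
  Rule.mk (nat_lit 8) (nat_lit 314) (Steps.bwd (nat_lit 4) (Steps.bwd (nat_lit 9) (Steps.bwd (nat_lit 4) (Steps.bwd (nat_lit 8) (Steps.fwd (nat_lit 1048576) (Steps.fwd (nat_lit 2097152) (Steps.fwd (nat_lit 1048576) (Steps.fwd (nat_lit 2359296) (Steps.fwd (nat_lit 1048576) (Steps.fwd (nat_lit 2097152) (Steps.fwd (nat_lit 1048576) (Steps.fwd (nat_lit 2359296) (Steps.fwd (nat_lit 1048576) (Steps.bwd (nat_lit 9) (Steps.fwd (nat_lit 1048576) Steps.nil)))))))))))))))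 (nat_lit 106) (nat_lit 1),
  Rule.mk (nat_lit 4) (nat_lit 314) (Steps.bwd (nat_lit 8) (Steps.fwd (nat_lit 1048576) (Steps.fwd (nat_lit 2097152) (Steps.bwd (nat_lit 4) (Steps.fwd (nat_lit 2359296) (Steps.bwd (nat_lit 4) (Steps.fwd (nat_lit 2097152) (Steps.fwd (nat_lit 1048576) (Steps.fwd (nat_lit 2359296) (Steps.fwd (nat_lit 1048576) (Steps.fwd (nat_lit 2097152) (Steps.bwd (nat_lit 4) (Steps.bwd (nat_lit 8) (Steps.bwd (nat_lit 4) (Steps.fwd (nat_lit 2097152) Steps.nil))))))))))))))) (nat_lit 106) (nat_lit 0),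
  Rule.mk (nat_lit 9) (nat_lit 314) (Steps.bwd (nat_lit 4) (Steps.fwd (nat_lit 2359296) (Steps.fwd (nat_lit 1048576) (Steps.fwd (nat_lit 2097152) (Steps.bwd (nat_lit 4) (Steps.fwd (nat_lit 2359296) (Steps.fwd (nat_lit 1048576) (Steps.bwd (nat_lit 9) (Steps.bwd (nat_lit 4) (Steps.fwd (nat_lit 2359296) (Steps.bwd (nat_lit 4) (Steps.bwd (nat_lit 9) (Steps.bwd (nat_lit 4) (Steps.fwd (nat_lit 2359296) (Steps.bwd (nat_lit 4) Steps.nil))))))))))))))) (nat_lit 106) (nat_lit 3),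
  Rule.mk (nat_lit 8) (nat_lit 314) (Steps.bwd (nat_lit 4) (Steps.bwd (nat_lit 9) (Steps.fwd (nat_lit 1048576) (Steps.fwd (nat_lit 2359296) (Steps.bwd (nat_lit 4) (Steps.fwd (nat_lit 2097152) (Steps.fwd (nat_lit 1048576) (Steps.fwd (nat_lit 2359296) (Steps.fwd (nat_lit 1048576) (Steps.fwd (nat_lit 2097152) (Steps.fwd (nat_lit 1048576) (Steps.fwd (nat_lit 2359296) (Steps.fwd (nat_lit 1048576) (Steps.fwd (nat_lit 2097152) (Steps.bwd (nat_lit 4) Steps.nil))))))))))))))) (nat_lit 106) (nat_lit 1),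
  Rule.mk (nat_lit 4) (nat_lit 314) (Steps.bwd (nat_lit 8) (Steps.bwd (nat_lit 4) (Steps.bwd (nat_lit 9) (Steps.bwd (nat_lit 4) (Steps.fwd (nat_lit 2359296) (Steps.bwd (nat_lit 4) (Steps.bwd (nat_lit 9) (Steps.fwd (nat_lit 1048576) (Steps.fwd (nat_lit 2359296) (Steps.bwd (nat_lit 4) (Steps.bwd (nat_lit 9) (Steps.fwd (nat_lit 1048576) (Steps.bwd (nat_lit 8) (Steps.fwd (nat_lit 1048576) (Steps.bwd (nat_lit 9) Steps.nil))))))))))))))) (nat_lit 106) (nat_lit 0),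
  Rule.mk (nat_lit 4) (nat_lit 314) (Steps.bwd (nat_lit 9) (Steps.bwd (nat_lit 4) (Steps.fwd (nat_lit 2359296) (Steps.fwd (nat_lit 1048576) (Steps.bwd (nat_lit 9) (Steps.fwd (nat_lit 1048576) (Steps.fwd (nat_lit 2359296) (Steps.fwd (nat_lit 1048576) (Steps.fwd (nat_lit 2097152) (Steps.bwd (nat_lit 4) (Steps.bwd (nat_lit 8) (Steps.fwd (nat_lit 1048576) (Steps.fwd (nat_lit 2097152) (Steps.fwd (nat_lit 1048576) (Steps.fwd (nat_lit 2359296) Steps.nil))))))))))))))) (nat_lit 106) (nat_lit 2),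
  Rule.mk (nat_lit 4) (nat_lit 314) (Steps.bwd (nat_lit 9) (Steps.fwd (nat_lit 1048576) (Steps.fwd (nat_lit 2359296) (Steps.bwd (nat_lit 4) (Steps.bwd (nat_lit 9) (Steps.fwd (nat_lit 1048576) (Steps.bwd (nat_lit 8) (Steps.bwd (nat_lit 4) (Steps.bwd (nat_lit 9) (Steps.bwd (nat_lit 4) (Steps.fwd (nat_lit 2359296) (Steps.fwd (nat_lit 1048576) (Steps.fwd (nat_lit 2097152) (Steps.bwd (nat_lit 4) (Steps.bwd (nat_lit 8) Steps.nil))))))))))))))) (nat_lit 106) (nat_lit 2),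
  Rule.mk (nat_lit 4) (nat_lit 314) (Steps.bwd (nat_lit 9) (Steps.fwd (nat_lit 1048576) (Steps.bwd (nat_lit 8) (Steps.bwd (nat_lit 4) (Steps.bwd (nat_lit 9) (Steps.bwd (nat_lit 4) (Steps.bwd (nat_lit 8) (Steps.fwd (nat_lit 1048576) (Steps.fwd (nat_lit 2097152) (Steps.fwd (nat_lit 1048576) (Steps.fwd (nat_lit 2359296) (Steps.fwd (nat_lit 1048576) (Steps.bwd (nat_lit 9) (Steps.bwd (nat_lit 4) (Steps.fwd (nat_lit 2359296) Steps.nil))))))))))))))) (nat_lit 106) (nat_lit 2),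
  Rule.mk (nat_lit 1) (nat_lit 154) (Steps.fwd (nat_lit 1048576) (Steps.fwd (nat_lit 1835008) (Steps.fwd (nat_lit 262144) (Steps.fwd (nat_lit 1048576) (Steps.bwd (nat_lit 1) (Steps.bwd (nat_lit 7) (Steps.bwd (nat_lit 4) Steps.nil))))))) (nat_lit 76) (nat_lit 6),
  Rule.mk (nat_lit 4) (nat_lit 314) (Steps.bwd (nat_lit 9) (Steps.bwd (nat_lit 4) (Steps.bwd (nat_lit 8) (Steps.fwd (nat_lit 1048576) (Steps.fwd (nat_lit 2097152) (Steps.bwd (nat_lit 4) (Steps.fwd (nat_lit 2359296) (Steps.fwd (nat_lit 1048576) (Steps.fwd (nat_lit 2097152) (Steps.bwd (nat_lit 4) (Steps.bwd (nat_lit 8) (Steps.bwd (nat_lit 4) (Steps.bwd (nat_lit 9) (Steps.fwd (nat_lit 1048576) (Steps.fwd (nat_lit 2359296) Steps.nil))))))))))))))) (nat_lit 106) (nat_lit 2),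
  Rule.mk (nat_lit 4) (nat_lit 314) (Steps.bwd (nat_lit 9) (Steps.fwd (nat_lit 1048576) (Steps.fwd (nat_lit 2359296) (Steps.bwd (nat_lit 4) (Steps.bwd (nat_lit 9) (Steps.bwd (nat_lit 4) (Steps.fwd (nat_lit 2359296) (Steps.fwd (nat_lit 1048576) (Steps.bwd (nat_lit 9) (Steps.fwd (nat_lit 1048576) (Steps.fwd (nat_lit 2359296) (Steps.fwd (nat_lit 1048576) (Steps.bwd (nat_lit 9) (Steps.bwd (nat_lit 4) (Steps.fwd (nat_lit 2359296) Steps.nil))))))))))))))) (nat_lit 106) (nat_lit 2),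
  Rule.mk (nat_lit 4) (nat_lit 314) (Steps.bwd (nat_lit 8) (Steps.bwd (nat_lit 4) (Steps.bwd (nat_lit 9) (Steps.bwd (nat_lit 4) (Steps.fwd (nat_lit 2359296) (Steps.bwd (nat_lit 4) (Steps.bwd (nat_lit 9) (Steps.bwd (nat_lit 4) (Steps.fwd (nat_lit 2359296) (Steps.fwd (nat_lit 1048576) (Steps.fwd (nat_lit 2097152) (Steps.fwd (nat_lit 1048576) (Steps.fwd (nat_lit 2359296) (Steps.fwd (nat_lit 1048576) (Steps.fwd (nat_lit 2097152) Steps.nil))))))))))))))) (nat_lit 106) (nat_lit 0),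
  Rule.mk (nat_lit 9) (nat_lit 314) (Steps.bwd (nat_lit 4) (Steps.bwd (nat_lit 8) (Steps.bwd (nat_lit 4) (Steps.bwd (nat_lit 9) (Steps.bwd (nat_lit 4) (Steps.fwd (nat_lit 2359296) (Steps.fwd (nat_lit 1048576) (Steps.bwd (nat_lit 9) (Steps.bwd (nat_lit 4) (Steps.fwd (nat_lit 2359296) (Steps.fwd (nat_lit 1048576) (Steps.fwd (nat_lit 2097152) (Steps.bwd (nat_lit 4) (Steps.fwd (nat_lit 2359296) (Steps.bwd (nat_lit 4) Steps.nil))))))))))))))) (nat_lit 106) (nat_lit 3),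
  Rule.mk (nat_lit 4) (nat_lit 314) (Steps.bwd (nat_lit 8) (Steps.bwd (nat_lit 4) (Steps.bwd (nat_lit 9) (Steps.bwd (nat_lit 4) (Steps.bwd (nat_lit 8) (Steps.bwd (nat_lit 4) (Steps.fwd (nat_lit 2097152) (Steps.fwd (nat_lit 1048576) (Steps.bwd (nat_lit 8) (Steps.bwd (nat_lit 4) (Steps.bwd (nat_lit 9) (Steps.bwd (nat_lit 4) (Steps.fwd (nat_lit 2359296) (Steps.fwd (nat_lit 1048576) (Steps.fwd (nat_lit 2097152) Steps.nil))))))))))))))) (nat_lit 106) (nat_lit 0),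
  Rule.mk (nat_lit 9) (nat_lit 314) (Steps.bwd (nat_lit 4) (Steps.bwd (nat_lit 8) (Steps.bwd (nat_lit 4) (Steps.fwd (nat_lit 2097152) (Steps.fwd (nat_lit 1048576) (Steps.fwd (nat_lit 2359296) (Steps.fwd (nat_lit 1048576) (Steps.bwd (nat_lit 9) (Steps.fwd (nat_lit 1048576) (Steps.bwd (nat_lit 8) (Steps.fwd (nat_lit 1048576) (Steps.fwd (nat_lit 2097152) (Steps.fwd (nat_lit 1048576) (Steps.fwd (nat_lit 2359296) (Steps.bwd (nat_lit 4) Steps.nil))))))))))))))) (nat_lit 106) (nat_lit 3),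
  Rule.mk (nat_lit 8) (nat_lit 314) (Steps.bwd (nat_lit 4) (Steps.bwd (nat_lit 9) (Steps.bwd (nat_lit 4) (Steps.fwd (nat_lit 2359296) (Steps.fwd (nat_lit 1048576) (Steps.bwd (nat_lit 9) (Steps.fwd (nat_lit 1048576) (Steps.fwd (nat_lit 2359296) (Steps.bwd (nat_lit 4) (Steps.bwd (nat_lit 9) (Steps.bwd (nat_lit 4) (Steps.fwd (nat_lit 2359296) (Steps.fwd (nat_lit 1048576) (Steps.bwd (nat_lit 9) (Steps.fwd (nat_lit 1048576) Steps.nil))))))))))))))) (nat_lit 106) (nat_lit 1),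
  Rule.mk (nat_lit 9) (nat_lit 314) (Steps.bwd (nat_lit 4) (Steps.fwd (nat_lit 2359296) (Steps.fwd (nat_lit 1048576) (Steps.fwd (nat_lit 2097152) (Steps.fwd (nat_lit 1048576) (Steps.fwd (nat_lit 2359296) (Steps.bwd (nat_lit 4) (Steps.fwd (nat_lit 2097152) (Steps.bwd (nat_lit 4) (Steps.bwd (nat_lit 8) (Steps.bwd (nat_lit 4) (Steps.bwd (nat_lit 9) (Steps.fwd (nat_lit 1048576) (Steps.fwd (nat_lit 2359296) (Steps.fwd (nat_lit 1048576) Steps.nil))))))))))))))) (nat_lit 106) (nat_lit 3),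
  Rule.mk (nat_lit 8) (nat_lit 314) (Steps.bwd (nat_lit 4) (Steps.bwd (nat_lit 9) (Steps.bwd (nat_lit 4) (Steps.fwd (nat_lit 2359296) (Steps.bwd (nat_lit 4) (Steps.bwd (nat_lit 9) (Steps.fwd (nat_lit 1048576) (Steps.fwd (nat_lit 2359296) (Steps.bwd (nat_lit 4) (Steps.fwd (nat_lit 2097152) (Steps.bwd (nat_lit 4) (Steps.fwd (nat_lit 2359296) (Steps.bwd (nat_lit 4) (Steps.bwd (nat_lit 9) (Steps.fwd (nat_lit 1048576) Steps.nil))))))))))))))) (nat_lit 106) (nat_lit 1),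
  Rule.mk (nat_lit 4) (nat_lit 314) (Steps.bwd (nat_lit 8) (Steps.bwd (nat_lit 4) (Steps.bwd (nat_lit 9) (Steps.bwd (nat_lit 4) (Steps.fwd (nat_lit 2359296) (Steps.fwd (nat_lit 1048576) (Steps.bwd (nat_lit 9) (Steps.fwd (nat_lit 1048576) (Steps.fwd (nat_lit 2359296) (Steps.bwd (nat_lit 4) (Steps.bwd (nat_lit 9) (Steps.bwd (nat_lit 4) (Steps.bwd (nat_lit 8) (Steps.fwd (nat_lit 1048576) (Steps.bwd (nat_lit 9) Steps.nil))))))))))))))) (nat_lit 106) (nat_lit 0),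
  Rule.mk (nat_lit 6) (nat_lit 154) (Steps.bwd (nat_lit 1) (Steps.fwd (nat_lit 1048576) (Steps.bwd (nat_lit 1) (Steps.fwd (nat_lit 1572864) (Steps.bwd (nat_lit 1) (Steps.fwd (nat_lit 1048576) (Steps.bwd (nat_lit 1) Steps.nil))))))) (nat_lit 74) (nat_lit 0),
  Rule.mk (nat_lit 4) (nat_lit 314) (Steps.bwd (nat_lit 9) (Steps.bwd (nat_lit 4) (Steps.fwd (nat_lit 2359296) (Steps.bwd (nat_lit 4) (Steps.bwd (nat_lit 9) (Steps.fwd (nat_lit 1048576) (Steps.bwd (nat_lit 8) (Steps.fwd (nat_lit 1048576) (Steps.fwd (nat_lit 2097152) (Steps.fwd (nat_lit 1048576) (Steps.fwd (nat_lit 2359296) (Steps.bwd (nat_lit 4) (Steps.bwd (nat_lit 9) (Steps.bwd (nat_lit 4) (Steps.fwd (nat_lit 2359296) Steps.nil))))))))))))))) (nat_lit 106) (nat_lit 2)]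
noncomputable def R_116 : List (Rule) := [Rule.mk (nat_lit 9) (nat_lit 314) (Steps.bwd (nat_lit 4) (Steps.fwd (nat_lit 2359296) (Steps.bwd (nat_lit 4) (Steps.bwd (nat_lit 9) (Steps.fwd (nat_lit 1048576) (Steps.fwd (nat_lit 2359296) (Steps.fwd (nat_lit 1048576) (Steps.fwd (nat_lit 2097152) (Steps.bwd (nat_lit 4) (Steps.fwd (nat_lit 2359296) (Steps.fwd (nat_lit 1048576) (Steps.bwd (nat_lit 9) (Steps.bwd (nat_lit 4) (Steps.fwd (nat_lit 2359296) (Steps.fwd (nat_lit 1048576) Steps.nil))))))))))))))) (nat_lit 106) (nat_lit 3),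
  Rule.mk (nat_lit 4) (nat_lit 314) (Steps.bwd (nat_lit 9) (Steps.fwd (nat_lit 1048576) (Steps.bwd (nat_lit 8) (Steps.bwd (nat_lit 4) (Steps.bwd (nat_lit 9) (Steps.bwd (nat_lit 4) (Steps.fwd (nat_lit 2359296) (Steps.bwd (nat_lit 4) (Steps.bwd (nat_lit 9) (Steps.fwd (nat_lit 1048576) (Steps.fwd (nat_lit 2359296) (Steps.fwd (nat_lit 1048576) (Steps.fwd (nat_lit 2097152) (Steps.fwd (nat_lit 1048576) (Steps.fwd (nat_lit 2359296) Steps.nil))))))))))))))) (nat_lit 106) (nat_lit 2),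
  Rule.mk (nat_lit 6) (nat_lit 274) (Steps.bwd (nat_lit 1) (Steps.fwd (nat_lit 1572864) (Steps.fwd (nat_lit 1310720) (Steps.fwd (nat_lit 786432) (Steps.fwd (nat_lit 262144) (Steps.fwd (nat_lit 1572864) (Steps.bwd (nat_lit 1) (Steps.fwd (nat_lit 786432) (Steps.bwd (nat_lit 1) (Steps.bwd (nat_lit 6) (Steps.fwd (nat_lit 262144) (Steps.bwd (nat_lit 2) (Steps.bwd (nat_lit 1) Steps.nil))))))))))))) (nat_lit 34) (nat_lit 11),
  Rule.mk (nat_lit 4) (nat_lit 314) (Steps.bwd (nat_lit 9) (Steps.bwd (nat_lit 4) (Steps.fwd (nat_lit 2359296) (Steps.fwd (nat_lit 1048576) (Steps.fwd (nat_lit 2097152) (Steps.fwd (nat_lit 1048576) (Steps.bwd (nat_lit 8) (Steps.bwd (nat_lit 4) (Steps.bwd (nat_lit 9) (Steps.fwd (nat_lit 1048576) (Steps.fwd (nat_lit 2359296) (Steps.fwd (nat_lit 1048576) (Steps.bwd (nat_lit 9) (Steps.bwd (nat_lit 4) (Steps.bwd (nat_lit 8) Steps.nil))))))))))))))) (nat_lit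 106) (nat_lit 2),
  Rule.mk (nat_lit 3) (nat_lit 154) (Steps.bwd (nat_lit 1) (Steps.bwd (nat_lit 5) (Steps.bwd (nat_lit 3) (Steps.fwd (nat_lit 262144) (Steps.bwd (nat_lit 3) (Steps.bwd (nat_lit 5) (Steps.fwd (nat_lit 262144) Steps.nil))))))) (nat_lit 71) (nat_lit 7),
  Rule.mk (nat_lit 6) (nat_lit 154) (Steps.bwd (nat_lit 1) (Steps.fwd (nat_lit 1048576) (Steps.fwd (nat_lit 262144) (Steps.bwd (nat_lit 6) (Steps.bwd (nat_lit 1) (Steps.bwd (nat_lit 4) (Steps.bwd (nat_lit 1) Steps.nil))))))) (nat_lit 74) (nat_lit 0),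
  Rule.mk (nat_lit 9) (nat_lit 314) (Steps.bwd (nat_lit 4) (Steps.bwd (nat_lit 8) (Steps.bwd (nat_lit 4) (Steps.bwd (nat_lit 9) (Steps.fwd (nat_lit 1048576) (Steps.fwd (nat_lit 2359296) (Steps.bwd (nat_lit 4) (Steps.bwd (nat_lit 9) (Steps.fwd (nat_lit 1048576) (Steps.fwd (nat_lit 2359296) (Steps.fwd (nat_lit 1048576) (Steps.bwd (nat_lit 9) (Steps.bwd (nat_lit 4) (Steps.fwd (nat_lit 2359296) (Steps.fwd (nat_lit 1048576) Steps.nil))))))))))))))) (nat_lit 106) (nat_lit 3),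
  Rule.mk (nat_lit 4) (nat_lit 314) (Steps.bwd (nat_lit 8) (Steps.fwd (nat_lit 1048576) (Steps.bwd (nat_lit 9) (Steps.fwd (nat_lit 1048576) (Steps.bwd (nat_lit 8) (Steps.fwd (nat_lit 1048576) (Steps.bwd (nat_lit 9) (Steps.bwd (nat_lit 4) (Steps.fwd (nat_lit 2359296) (Steps.bwd (nat_lit 4) (Steps.fwd (nat_lit 2097152) (Steps.fwd (nat_lit 1048576) (Steps.bwd (nat_lit 8) (Steps.bwd (nat_lit 4) (Steps.bwd (nat_lit 9) Steps.nil))))))))))))))) (nat_lit 106) (nat_lit 0),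
  Rule.mk (nat_lit 1) (nat_lit 274) (Steps.bwd (nat_lit 6) (Steps.bwd (nat_lit 5) (Steps.bwd (nat_lit 2) (Steps.fwd (nat_lit 262144) (Steps.bwd (nat_lit 6) (Steps.fwd (nat_lit 262144) (Steps.fwd (nat_lit 786432) (Steps.fwd (nat_lit 262144) (Steps.bwd (nat_lit 6) (Steps.fwd (nat_lit 262144) (Steps.bwd (nat_lit 2) (Steps.fwd (nat_lit 262144) (Steps.fwd (nat_lit 1572864) Steps.nil))))))))))))) (nat_lit 34) (nat_lit 12),
  Rule.mk (nat_lit 4) (nat_lit 314) (Steps.bwd (nat_lit 8) (Steps.fwd (nat_lit 1048576) (Steps.bwd (nat_lit 9) (Steps.bwd (nat_lit 4) (Steps.bwd (nat_lit 8) (Steps.bwd (nat_lit 4) (Steps.fwd (nat_lit 2097152) (Steps.fwd (nat_lit 1048576) (Steps.bwd (nat_lit 8) (Steps.fwd (nat_lit 1048576) (Steps.fwd (nat_lit 2097152) (Steps.fwd (nat_lit 1048576) (Steps.fwd (nat_lit 2359296) (Steps.fwd (nat_lit 1048576) (Steps.bwd (nat_lit 9) Steps.nil)))))))))))))))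 (nat_lit 106) (nat_lit 0),
  Rule.mk (nat_lit 4) (nat_lit 314) (Steps.bwd (nat_lit 9) (Steps.fwd (nat_lit 1048576) (Steps.bwd (nat_lit 8) (Steps.fwd (nat_lit 1048576) (Steps.bwd (nat_lit 9) (Steps.fwd (nat_lit 1048576) (Steps.fwd (nat_lit 2359296) (Steps.bwd (nat_lit 4) (Steps.bwd (nat_lit 9) (Steps.bwd (nat_lit 4) (Steps.fwd (nat_lit 2359296) (Steps.fwd (nat_lit 1048576) (Steps.fwd (nat_lit 2097152) (Steps.bwd (nat_lit 4) (Steps.bwd (nat_lit 8) Steps.nil))))))))))))))) (nat_lit 106) (nat_lit 2),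
  Rule.mk (nat_lit 4) (nat_lit 314) (Steps.bwd (nat_lit 9) (Steps.fwd (nat_lit 1048576) (Steps.fwd (nat_lit 2359296) (Steps.fwd (nat_lit 1048576) (Steps.bwd (nat_lit 9) (Steps.bwd (nat_lit 4) (Steps.fwd (nat_lit 2359296) (Steps.bwd (nat_lit 4) (Steps.bwd (nat_lit 9) (Steps.bwd (nat_lit 4) (Steps.bwd (nat_lit 8) (Steps.fwd (nat_lit 1048576) (Steps.fwd (nat_lit 2097152) (Steps.bwd (nat_lit 4) (Steps.bwd (nat_lit 8) Steps.nil))))))))))))))) (nat_lit 106) (nat_lit 2),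
  Rule.mk (nat_lit 4) (nat_lit 314) (Steps.bwd (nat_lit 9) (Steps.bwd (nat_lit 4) (Steps.fwd (nat_lit 2359296) (Steps.fwd (nat_lit 1048576) (Steps.fwd (nat_lit 2097152) (Steps.fwd (nat_lit 1048576) (Steps.bwd (nat_lit 8) (Steps.bwd (nat_lit 4) (Steps.bwd (nat_lit 9) (Steps.bwd (nat_lit 4) (Steps.bwd (nat_lit 8) (Steps.fwd (nat_lit 1048576) (Steps.fwd (nat_lit 2097152) (Steps.bwd (nat_lit 4) (Steps.bwd (nat_lit 8) Steps.nil))))))))))))))) (nat_lit 106) (nat_lit 2),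
  Rule.mk (nat_lit 9) (nat_lit 314) (Steps.bwd (nat_lit 4) (Steps.fwd (nat_lit 2359296) (Steps.fwd (nat_lit 1048576) (Steps.bwd (nat_lit 9) (Steps.bwd (nat_lit 4) (Steps.fwd (nat_lit 2359296) (Steps.fwd (nat_lit 1048576) (Steps.fwd (nat_lit 2097152) (Steps.fwd (nat_lit 1048576) (Steps.fwd (nat_lit 2359296) (Steps.fwd (nat_lit 1048576) (Steps.bwd (nat_lit 9) (Steps.fwd (nat_lit 1048576) (Steps.bwd (nat_lit 8) (Steps.bwd (nat_lit 4) Steps.nil))))))))))))))) (nat_lit 106) (nat_lit 3),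
  Rule.mk (nat_lit 8) (nat_lit 314) (Steps.bwd (nat_lit 4) (Steps.bwd (nat_lit 9) (Steps.bwd (nat_lit 4) (Steps.fwd (nat_lit 2359296) (Steps.fwd (nat_lit 1048576) (Steps.fwd (nat_lit 2097152) (Steps.bwd (nat_lit 4) (Steps.bwd (nat_lit 8) (Steps.bwd (nat_lit 4) (Steps.bwd (nat_lit 9) (Steps.fwd (nat_lit 1048576) (Steps.fwd (nat_lit 2359296) (Steps.fwd (nat_lit 1048576) (Steps.fwd (nat_lit 2097152) (Steps.fwd (nat_lit 1048576) Steps.nil))))))))))))))) (nat_lit 106) (nat_lit 1),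
  Rule.mk (nat_lit 9) (nat_lit 314) (Steps.bwd (nat_lit 4) (Steps.bwd (nat_lit 8) (Steps.fwd (nat_lit 1048576) (Steps.bwd (nat_lit 9) (Steps.bwd (nat_lit 4) (Steps.bwd (nat_lit 8) (Steps.fwd (nat_lit 1048576) (Steps.bwd (nat_lit 9) (Steps.fwd (nat_lit 1048576) (Steps.fwd (nat_lit 2359296) (Steps.bwd (nat_lit 4) (Steps.bwd (nat_lit 9) (Steps.fwd (nat_lit 1048576) (Steps.fwd (nat_lit 2359296) (Steps.fwd (nat_lit 1048576) Steps.nil))))))))))))))) (nat_lit 106) (nat_lit 3),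
  Rule.mk (nat_lit 4) (nat_lit 314) (Steps.bwd (nat_lit 8) (Steps.bwd (nat_lit 4) (Steps.bwd (nat_lit 9) (Steps.fwd (nat_lit 1048576) (Steps.fwd (nat_lit 2359296) (Steps.bwd (nat_lit 4) (Steps.bwd (nat_lit 9) (Steps.fwd (nat_lit 1048576) (Steps.bwd (nat_lit 8) (Steps.fwd (nat_lit 1048576) (Steps.fwd (nat_lit 2097152) (Steps.fwd (nat_lit 1048576) (Steps.fwd (nat_lit 2359296) (Steps.fwd (nat_lit 1048576) (Steps.bwd (nat_lit 9) Steps.nil))))))))))))))) (nat_lit 106) (nat_lit 0),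
  Rule.mk (nat_lit 4) (nat_lit 314) (Steps.bwd (nat_lit 9) (Steps.bwd (nat_lit 4) (Steps.bwd (nat_lit 8) (Steps.bwd (nat_lit 4) (Steps.fwd (nat_lit 2097152) (Steps.bwd (nat_lit 4) (Steps.fwd (nat_lit 2359296) (Steps.fwd (nat_lit 1048576) (Steps.bwd (nat_lit 9) (Steps.bwd (nat_lit 4) (Steps.fwd (nat_lit 2359296) (Steps.fwd (nat_lit 1048576) (Steps.bwd (nat_lit 9) (Steps.fwd (nat_lit 1048576) (Steps.fwd (nat_lit 2359296) Steps.nil))))))))))))))) (nat_lit 106) (nat_lit 2),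
  Rule.mk (nat_lit 1) (nat_lit 154) (Steps.bwd (nat_lit 4) (Steps.bwd (nat_lit 7) (Steps.fwd (nat_lit 262144) (Steps.bwd (nat_lit 4) (Steps.bwd (nat_lit 1) (Steps.bwd (nat_lit 7) (Steps.bwd (nat_lit 4) Steps.nil))))))) (nat_lit 76) (nat_lit 6),
  Rule.mk (nat_lit 8) (nat_lit 314) (Steps.bwd (nat_lit 4) (Steps.bwd (nat_lit 9) (Steps.bwd (nat_lit 4) (Steps.fwd (nat_lit 2359296) (Steps.fwd (nat_lit 1048576) (Steps.fwd (nat_lit 2097152) (Steps.fwd (nat_lit 1048576) (Steps.fwd (nat_lit 2359296) (Steps.fwd (nat_lit 1048576) (Steps.bwd (nat_lit 9) (Steps.fwd (nat_lit 1048576) (Steps.fwd (nat_lit 2359296) (Steps.bwd (nat_lit 4) (Steps.bwd (nat_lit 9) (Steps.bwd (nat_lit 4) Steps.nil))))))))))))))) (nat_lit 106) (nat_lit 1),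
  Rule.mk (nat_lit 8) (nat_lit 314) (Steps.bwd (nat_lit 4) (Steps.bwd (nat_lit 9) (Steps.bwd (nat_lit 4) (Steps.fwd (nat_lit 2359296) (Steps.fwd (nat_lit 1048576) (Steps.bwd (nat_lit 9) (Steps.bwd (nat_lit 4) (Steps.fwd (nat_lit 2359296) (Steps.fwd (nat_lit 1048576) (Steps.bwd (nat_lit 9) (Steps.bwd (nat_lit 4) (Steps.bwd (nat_lit 8) (Steps.fwd (nat_lit 1048576) (Steps.bwd (nat_lit 9) (Steps.fwd (nat_lit 1048576) Steps.nil))))))))))))))) (nat_lit 106) (nat_lit 1),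
  Rule.mk (nat_lit 4) (nat_lit 314) (Steps.bwd (nat_lit 8) (Steps.fwd (nat_lit 1048576) (Steps.bwd (nat_lit 9) (Steps.bwd (nat_lit 4) (Steps.bwd (nat_lit 8) (Steps.bwd (nat_lit 4) (Steps.bwd (nat_lit 9) (Steps.bwd (nat_lit 4) (Steps.fwd (nat_lit 2359296) (Steps.fwd (nat_lit 1048576) (Steps.bwd (nat_lit 9) (Steps.fwd (nat_lit 1048576) (Steps.fwd (nat_lit 2359296) (Steps.fwd (nat_lit 1048576) (Steps.bwd (nat_lit 9) Steps.nil))))))))))))))) (nat_lit 106) (nat_lit 0),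
  Rule.mk (nat_lit 3) (nat_lit 154) (Steps.bwd (nat_lit 1) (Steps.fwd (nat_lit 786432) (Steps.bwd (nat_lit 1) (Steps.fwd (nat_lit 524288) (Steps.fwd (nat_lit 262144) (Steps.fwd (nat_lit 786432) (Steps.fwd (nat_lit 262144) Steps.nil))))))) (nat_lit 68) (nat_lit 0),
  Rule.mk (nat_lit 8) (nat_lit 314) (Steps.bwd (nat_lit 4) (Steps.bwd (nat_lit 9) (Steps.bwd (nat_lit 4) (Steps.bwd (nat_lit 8) (Steps.bwd (nat_lit 4) (Steps.bwd (nat_lit 9) (Steps.fwd (nat_lit 1048576) (Steps.fwd (nat_lit 2359296) (Steps.fwd (nat_lit 1048576) (Steps.fwd (nat_lit 2097152) (Steps.fwd (nat_lit 1048576) (Steps.fwd (nat_lit 2359296) (Steps.bwd (nat_lit 4) (Steps.bwd (nat_lit 9) (Steps.bwd (nat_lit 4) Steps.nil))))))))))))))) (nat_lit 106) (nat_lit 1),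
  Rule.mk (nat_lit 8) (nat_lit 314) (Steps.bwd (nat_lit 4) (Steps.bwd (nat_lit 9) (Steps.fwd (nat_lit 1048576) (Steps.fwd (nat_lit 2359296) (Steps.fwd (nat_lit 1048576) (Steps.fwd (nat_lit 2097152) (Steps.bwd (nat_lit 4) (Steps.bwd (nat_lit 8) (Steps.fwd (nat_lit 1048576) (Steps.bwd (nat_lit 9) (Steps.bwd (nat_lit 4) (Steps.fwd (nat_lit 2359296) (Steps.fwd (nat_lit 1048576) (Steps.fwd (nat_lit 2097152) (Steps.fwd (nat_lit 1048576) Steps.nil))))))))))))))) (nat_lit 106) (nat_lit 1),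
  Rule.mk (nat_lit 1) (nat_lit 154) (Steps.bwd (nat_lit 4) (Steps.fwd (nat_lit 262144) (Steps.fwd (nat_lit 1572864) (Steps.fwd (nat_lit 262144) (Steps.bwd (nat_lit 4) (Steps.fwd (nat_lit 262144) (Steps.fwd (nat_lit 1572864) Steps.nil))))))) (nat_lit 74) (nat_lit 1),
  Rule.mk (nat_lit 4) (nat_lit 314) (Steps.bwd (nat_lit 9) (Steps.fwd (nat_lit 1048576) (Steps.fwd (nat_lit 2359296) (Steps.fwd (nat_lit 1048576) (Steps.bwd (nat_lit 9) (Steps.bwd (nat_lit 4) (Steps.bwd (nat_lit 8) (Steps.fwd (nat_lit 1048576) (Steps.bwd (nat_lit 9) (Steps.bwd (nat_lit 4) (Steps.fwd (nat_lit 2359296) (Steps.fwd (nat_lit 1048576) (Steps.bwd (nat_lit 9) (Steps.bwd (nat_lit 4) (Steps.bwd (nat_lit 8) Steps.nil))))))))))))))) (nat_lit 106) (nat_lit 2),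
  Rule.mk (nat_lit 6) (nat_lit 154) (Steps.bwd (nat_lit 1) (Steps.fwd (nat_lit 1048576) (Steps.bwd (nat_lit 1) (Steps.fwd (nat_lit 1572864) (Steps.fwd (nat_lit 262144) (Steps.fwd (nat_lit 1048576) (Steps.bwd (nat_lit 1) Steps.nil))))))) (nat_lit 74) (nat_lit 0),
  Rule.mk (nat_lit 1) (nat_lit 274) (Steps.bwd (nat_lit 6) (Steps.bwd (nat_lit 5) (Steps.fwd (nat_lit 786432) (Steps.fwd (nat_lit 262144) (Steps.fwd (nat_lit 1572864) (Steps.bwd (nat_lit 1) (Steps.bwd (nat_lit 2) (Steps.fwd (nat_lit 262144) (Steps.fwd (nat_lit 1572864) (Steps.bwd (nat_lit 1) (Steps.fwd (nat_lit 786432) (Steps.fwd (nat_lit 262144) (Steps.fwd (nat_lit 1572864) Steps.nil))))))))))))) (nat_lit 34) (nat_lit 12),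
  Rule.mk (nat_lit 4) (nat_lit 314) (Steps.bwd (nat_lit 8) (Steps.fwd (nat_lit 1048576) (Steps.fwd (nat_lit 2097152) (Steps.bwd (nat_lit 4) (Steps.fwd (nat_lit 2359296) (Steps.bwd (nat_lit 4) (Steps.bwd (nat_lit 9) (Steps.bwd (nat_lit 4) (Steps.fwd (nat_lit 2359296) (Steps.fwd (nat_lit 1048576) (Steps.fwd (nat_lit 2097152) (Steps.fwd (nat_lit 1048576) (Steps.fwd (nat_lit 2359296) (Steps.fwd (nat_lit 1048576) (Steps.fwd (nat_lit 2097152) Steps.nil))))))))))))))) (nat_lit 106) (nat_lit 0),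
  Rule.mk (nat_lit 6) (nat_lit 274) (Steps.bwd (nat_lit 1) (Steps.bwd (nat_lit 6) (Steps.fwd (nat_lit 1310720) (Steps.bwd (nat_lit 2) (Steps.bwd (nat_lit 1) (Steps.bwd (nat_lit 6) (Steps.fwd (nat_lit 262144) (Steps.fwd (nat_lit 786432) (Steps.bwd (nat_lit 1) (Steps.fwd (nat_lit 1572864) (Steps.bwd (nat_lit 1) (Steps.fwd (nat_lit 786432) (Steps.fwd (nat_lit 262144) Steps.nil))))))))))))) (nat_lit 34) (nat_lit 11),
  Rule.mk (nat_lit 7) (nat_lit 114) (Steps.bwd (nat_lit 4) (Steps.bwd (nat_lit 3) (Steps.bwd (nat_lit 7) (Steps.bwd (nat_lit 4) (Steps.bwd (nat_lit 3) Steps.nil))))) (nat_lit 57) (nat_lit 1),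
  Rule.mk (nat_lit 9) (nat_lit 314) (Steps.bwd (nat_lit 4) (Steps.bwd (nat_lit 8) (Steps.fwd (nat_lit 1048576) (Steps.bwd (nat_lit 9) (Steps.fwd (nat_lit 1048576) (Steps.fwd (nat_lit 2359296) (Steps.fwd (nat_lit 1048576) (Steps.bwd (nat_lit 9) (Steps.fwd (nat_lit 1048576) (Steps.fwd (nat_lit 2359296) (Steps.bwd (nat_lit 4) (Steps.fwd (nat_lit 2097152) (Steps.fwd (nat_lit 1048576) (Steps.bwd (nat_lit 8) (Steps.fwd (nat_lit 1048576) Steps.nil))))))))))))))) (nat_lit 106) (nat_lit 3),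
  Rule.mk (nat_lit 8) (nat_lit 314) (Steps.bwd (nat_lit 4) (Steps.bwd (nat_lit 9) (Steps.fwd (nat_lit 1048576) (Steps.fwd (nat_lit 2359296) (Steps.bwd (nat_lit 4) (Steps.fwd (nat_lit 2097152) (Steps.fwd (nat_lit 1048576) (Steps.bwd (nat_lit 8) (Steps.fwd (nat_lit 1048576) (Steps.bwd (nat_lit 9) (Steps.bwd (nat_lit 4) (Steps.fwd (nat_lit 2359296) (Steps.fwd (nat_lit 1048576) (Steps.fwd (nat_lit 2097152) (Steps.fwd (nat_lit 1048576) Steps.nil))))))))))))))) (nat_lit 106) (nat_lit 1),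
  Rule.mk (nat_lit 4) (nat_lit 314) (Steps.bwd (nat_lit 9) (Steps.bwd (nat_lit 4) (Steps.bwd (nat_lit 8) (Steps.bwd (nat_lit 4) (Steps.fwd (nat_lit 2097152) (Steps.fwd (nat_lit 1048576) (Steps.fwd (nat_lit 2359296) (Steps.bwd (nat_lit 4) (Steps.bwd (nat_lit 9) (Steps.bwd (nat_lit 4) (Steps.bwd (nat_lit 8) (Steps.fwd (nat_lit 1048576) (Steps.bwd (nat_lit 9) (Steps.fwd (nat_lit 1048576) (Steps.bwd (nat_lit 8) Steps.nil))))))))))))))) (nat_lit 106) (nat_lit 2),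
  Rule.mk (nat_lit 8) (nat_lit 314) (Steps.bwd (nat_lit 4) (Steps.bwd (nat_lit 9) (Steps.fwd (nat_lit 1048576) (Steps.fwd (nat_lit 2359296) (Steps.bwd (nat_lit 4) (Steps.bwd (nat_lit 9) (Steps.bwd (nat_lit 4) (Steps.fwd (nat_lit 2359296) (Steps.fwd (nat_lit 1048576) (Steps.fwd (nat_lit 2097152) (Steps.bwd (nat_lit 4) (Steps.fwd (nat_lit 2359296) (Steps.bwd (nat_lit 4) (Steps.fwd (nat_lit 2097152) (Steps.bwd (nat_lit 4) Steps.nil))))))))))))))) (nat_lit 106) (nat_lit 1),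
  Rule.mk (nat_lit 9) (nat_lit 314) (Steps.bwd (nat_lit 4) (Steps.bwd (nat_lit 8) (Steps.bwd (nat_lit 4) (Steps.bwd (nat_lit 9) (Steps.bwd (nat_lit 4) (Steps.bwd (nat_lit 8) (Steps.bwd (nat_lit 4) (Steps.bwd (nat_lit 9) (Steps.fwd (nat_lit 1048576) (Steps.bwd (nat_lit 8) (Steps.bwd (nat_lit 4) (Steps.fwd (nat_lit 2097152) (Steps.bwd (nat_lit 4) (Steps.bwd (nat_lit 8) (Steps.fwd (nat_lit 1048576) Steps.nil))))))))))))))) (nat_lit 106) (nat_lit 3),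
  Rule.mk (nat_lit 1) (nat_lit 274) (Steps.bwd (nat_lit 6) (Steps.bwd (nat_lit 5) (Steps.fwd (nat_lit 786432) (Steps.fwd (nat_lit 262144) (Steps.bwd (nat_lit 6) (Steps.bwd (nat_lit 1) (Steps.bwd (nat_lit 2) (Steps.fwd (nat_lit 262144) (Steps.bwd (nat_lit 6) (Steps.fwd (nat_lit 262144) (Steps.fwd (nat_lit 786432) (Steps.bwd (nat_lit 1) (Steps.bwd (nat_lit 6) Steps.nil))))))))))))) (nat_lit 34) (nat_lit 12),
  Rule.mk (nat_lit 6) (nat_lit 274) (Steps.bwd (nat_lit 1) (Steps.bwd (nat_lit 6) (Steps.fwd (nat_lit 1310720) (Steps.fwd (nat_lit 786432) (Steps.fwd (nat_lit 262144) (Steps.fwd (nat_lit 1572864) (Steps.bwd (nat_lit 1) (Steps.bwd (nat_lit 2) (Steps.fwd (nat_lit 262144) (Steps.fwd (nat_lit 1572864) (Steps.fwd (nat_lit 262144) (Steps.fwd (nat_lit 786432) (Steps.bwd (nat_lit 1) Steps.nil))))))))))))) (nat_lit 34) (nat_lit 11),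
  Rule.mk (nat_lit 4) (nat_lit 314) (Steps.bwd (nat_lit 9) (Steps.fwd (nat_lit 1048576) (Steps.fwd (nat_lit 2359296) (Steps.bwd (nat_lit 4) (Steps.fwd (nat_lit 2097152) (Steps.fwd (nat_lit 1048576) (Steps.bwd (nat_lit 8) (Steps.bwd (nat_lit 4) (Steps.bwd (nat_lit 9) (Steps.fwd (nat_lit 1048576) (Steps.fwd (nat_lit 2359296) (Steps.fwd (nat_lit 1048576) (Steps.bwd (nat_lit 9) (Steps.fwd (nat_lit 1048576) (Steps.fwd (nat_lit 2359296) Steps.nil))))))))))))))) (nat_lit 106) (nat_lit 2),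
  Rule.mk (nat_lit 4) (nat_lit 314) (Steps.bwd (nat_lit 9) (Steps.bwd (nat_lit 4) (Steps.fwd (nat_lit 2359296) (Steps.bwd (nat_lit 4) (Steps.bwd (nat_lit 9) (Steps.fwd (nat_lit 1048576) (Steps.fwd (nat_lit 2359296) (Steps.bwd (nat_lit 4) (Steps.bwd (nat_lit 9) (Steps.fwd (nat_lit 1048576) (Steps.fwd (nat_lit 2359296) (Steps.fwd (nat_lit 1048576) (Steps.bwd (nat_lit 9) (Steps.fwd (nat_lit 1048576) (Steps.fwd (nat_lit 2359296) Steps.nil))))))))))))))) (nat_lit 106) (nat_lit 2),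
  Rule.mk (nat_lit 9) (nat_lit 314) (Steps.bwd (nat_lit 4) (Steps.bwd (nat_lit 8) (Steps.fwd (nat_lit 1048576) (Steps.bwd (nat_lit 9) (Steps.bwd (nat_lit 4) (Steps.bwd (nat_lit 8) (Steps.bwd (nat_lit 4) (Steps.bwd (nat_lit 9) (Steps.fwd (nat_lit 1048576) (Steps.fwd (nat_lit 2359296) (Steps.bwd (nat_lit 4) (Steps.bwd (nat_lit 9) (Steps.fwd (nat_lit 1048576) (Steps.fwd (nat_lit 2359296) (Steps.bwd (nat_lit 4) Steps.nil))))))))))))))) (nat_lit 106) (nat_lit 3),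
  Rule.mk (nat_lit 6) (nat_lit 274) (Steps.bwd (nat_lit 1) (Steps.fwd (nat_lit 1572864) (Steps.bwd (nat_lit 5) (Steps.bwd (nat_lit 2) (Steps.fwd (nat_lit 262144) (Steps.fwd (nat_lit 1572864) (Steps.fwd (nat_lit 262144) (Steps.bwd (nat_lit 2) (Steps.bwd (nat_lit 1) (Steps.bwd (nat_lit 6) (Steps.fwd (nat_lit 262144) (Steps.fwd (nat_lit 786432) (Steps.fwd (nat_lit 262144) Steps.nil))))))))))))) (nat_lit 34) (nat_lit 11),
  Rule.mk (nat_lit 9) (nat_lit 314) (Steps.bwd (nat_lit 4) (Steps.fwd (nat_lit 2359296) (Steps.bwd (nat_lit 4) (Steps.bwd (nat_lit 9) (Steps.bwd (nat_lit 4) (Steps.fwd (nat_lit 2359296) (Steps.fwd (nat_lit 1048576) (Steps.fwd (nat_lit 2097152) (Steps.bwd (nat_lit 4) (Steps.fwd (nat_lit 2359296) (Steps.bwd (nat_lit 4) (Steps.bwd (nat_lit 9) (Steps.fwd (nat_lit 1048576) (Steps.fwd (nat_lit 2359296) (Steps.fwd (nat_lit 1048576) Steps.nil)))))))))))))))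 (nat_lit 106) (nat_lit 3),
  Rule.mk (nat_lit 4) (nat_lit 314) (Steps.bwd (nat_lit 8) (Steps.fwd (nat_lit 1048576) (Steps.fwd (nat_lit 2097152) (Steps.bwd (nat_lit 4) (Steps.fwd (nat_lit 2359296) (Steps.fwd (nat_lit 1048576) (Steps.bwd (nat_lit 9) (Steps.bwd (nat_lit 4) (Steps.bwd (nat_lit 8) (Steps.fwd (nat_lit 1048576) (Steps.bwd (nat_lit 9) (Steps.fwd (nat_lit 1048576) (Steps.fwd (nat_lit 2359296) (Steps.fwd (nat_lit 1048576) (Steps.bwd (nat_lit 9) Steps.nil))))))))))))))) (nat_lit 106) (nat_lit 0),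
  Rule.mk (nat_lit 4) (nat_lit 314) (Steps.bwd (nat_lit 9) (Steps.fwd (nat_lit 1048576) (Steps.bwd (nat_lit 8) (Steps.bwd (nat_lit 4) (Steps.bwd (nat_lit 9) (Steps.bwd (nat_lit 4) (Steps.bwd (nat_lit 8) (Steps.bwd (nat_lit 4) (Steps.bwd (nat_lit 9) (Steps.fwd (nat_lit 1048576) (Steps.fwd (nat_lit 2359296) (Steps.fwd (nat_lit 1048576) (Steps.fwd (nat_lit 2097152) (Steps.fwd (nat_lit 1048576) (Steps.bwd (nat_lit 8) Steps.nil))))))))))))))) (nat_lit 106) (nat_lit 2),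
  Rule.mk (nat_lit 9) (nat_lit 314) (Steps.bwd (nat_lit 4) (Steps.fwd (nat_lit 2359296) (Steps.fwd (nat_lit 1048576) (Steps.fwd (nat_lit 2097152) (Steps.fwd (nat_lit 1048576) (Steps.fwd (nat_lit 2359296) (Steps.fwd (nat_lit 1048576) (Steps.bwd (nat_lit 9) (Steps.fwd (nat_lit 1048576) (Steps.fwd (nat_lit 2359296) (Steps.bwd (nat_lit 4) (Steps.bwd (nat_lit 9) (Steps.bwd (nat_lit 4) (Steps.fwd (nat_lit 2359296) (Steps.fwd (nat_lit 1048576) Steps.nil))))))))))))))) (nat_lit 106) (nat_lit 3),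
  Rule.mk (nat_lit 4) (nat_lit 314) (Steps.bwd (nat_lit 9) (Steps.bwd (nat_lit 4) (Steps.bwd (nat_lit 8) (Steps.bwd (nat_lit 4) (Steps.fwd (nat_lit 2097152) (Steps.fwd (nat_lit 1048576) (Steps.fwd (nat_lit 2359296) (Steps.fwd (nat_lit 1048576) (Steps.fwd (nat_lit 2097152) (Steps.fwd (nat_lit 1048576) (Steps.fwd (nat_lit 2359296) (Steps.bwd (nat_lit 4) (Steps.bwd (nat_lit 9) (Steps.fwd (nat_lit 1048576) (Steps.fwd (nat_lit 2359296) Steps.nil))))))))))))))) (nat_lit 106) (nat_lit 2),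
  Rule.mk (nat_lit 9) (nat_lit 314) (Steps.bwd (nat_lit 4) (Steps.bwd (nat_lit 8) (Steps.bwd (nat_lit 4) (Steps.fwd (nat_lit 2097152) (Steps.fwd (nat_lit 1048576) (Steps.bwd (nat_lit 8) (Steps.fwd (nat_lit 1048576) (Steps.fwd (nat_lit 2097152) (Steps.bwd (nat_lit 4) (Steps.bwd (nat_lit 8) (Steps.fwd (nat_lit 1048576) (Steps.fwd (nat_lit 2097152) (Steps.bwd (nat_lit 4) (Steps.fwd (nat_lit 2359296) (Steps.fwd (nat_lit 1048576) Steps.nil))))))))))))))) (nat_lit 106) (nat_lit 3),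
  Rule.mk (nat_lit 6) (nat_lit 274) (Steps.bwd (nat_lit 1) (Steps.bwd (nat_lit 6) (Steps.fwd (nat_lit 1310720) (Steps.fwd (nat_lit 786432) (Steps.bwd (nat_lit 1) (Steps.fwd (nat_lit 1572864) (Steps.fwd (nat_lit 262144) (Steps.fwd (nat_lit 786432) (Steps.fwd (nat_lit 262144) (Steps.bwd (nat_lit 6) (Steps.fwd (nat_lit 262144) (Steps.fwd (nat_lit 786432) (Steps.fwd (nat_lit 262144) Steps.nil))))))))))))) (nat_lit 34) (nat_lit 11),
  Rule.mk (nat_lit 9) (nat_lit 314) (Steps.bwd (nat_lit 4) (Steps.bwd (nat_lit 8) (Steps.fwd (nat_lit 1048576) (Steps.bwd (nat_lit 9) (Steps.fwd (nat_lit 1048576) (Steps.bwd (nat_lit 8) (Steps.bwd (nat_lit 4) (Steps.fwd (nat_lit 2097152) (Steps.bwd (nat_lit 4) (Steps.fwd (nat_lit 2359296) (Steps.bwd (nat_lit 4) (Steps.bwd (nat_lit 9) (Steps.fwd (nat_lit 1048576) (Steps.bwd (nat_lit 8) (Steps.bwd (nat_lit 4) Steps.nil))))))))))))))) (nat_lit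 106) (nat_lit 3),
  Rule.mk (nat_lit 6) (nat_lit 154) (Steps.bwd (nat_lit 1) (Steps.bwd (nat_lit 4) (Steps.fwd (nat_lit 262144) (Steps.fwd (nat_lit 1572864) (Steps.bwd (nat_lit 1) (Steps.fwd (nat_lit 1048576) (Steps.bwd (nat_lit 1) Steps.nil))))))) (nat_lit 74) (nat_lit 0),
  Rule.mk (nat_lit 8) (nat_lit 314) (Steps.bwd (nat_lit 4) (Steps.bwd (nat_lit 9) (Steps.bwd (nat_lit 4) (Steps.bwd (nat_lit 8) (Steps.bwd (nat_lit 4) (Steps.bwd (nat_lit 9) (Steps.fwd (nat_lit 1048576) (Steps.fwd (nat_lit 2359296) (Steps.bwd (nat_lit 4) (Steps.bwd (nat_lit 9) (Steps.bwd (nat_lit 4) (Steps.fwd (nat_lit 2359296) (Steps.bwd (nat_lit 4) (Steps.fwd (nat_lit 2097152) (Steps.fwd (nat_lit 1048576) Steps.nil))))))))))))))) (nat_lit 106) (nat_lit 1),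
  Rule.mk (nat_lit 4) (nat_lit 314) (Steps.bwd (nat_lit 9) (Steps.fwd (nat_lit 1048576) (Steps.fwd (nat_lit 2359296) (Steps.fwd (nat_lit 1048576) (Steps.fwd (nat_lit 2097152) (Steps.bwd (nat_lit 4) (Steps.bwd (nat_lit 8) (Steps.fwd (nat_lit 1048576) (Steps.fwd (nat_lit 2097152) (Steps.fwd (nat_lit 1048576) (Steps.fwd (nat_lit 2359296) (Steps.bwd (nat_lit 4) (Steps.bwd (nat_lit 9) (Steps.bwd (nat_lit 4) (Steps.fwd (nat_lit 2359296) Steps.nil))))))))))))))) (nat_lit 106) (nat_lit 2),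
  Rule.mk (nat_lit 1) (nat_lit 274) (Steps.bwd (nat_lit 6) (Steps.fwd (nat_lit 1310720) (Steps.fwd (nat_lit 786432) (Steps.fwd (nat_lit 262144) (Steps.bwd (nat_lit 6) (Steps.bwd (nat_lit 1) (Steps.bwd (nat_lit 2) (Steps.fwd (nat_lit 262144) (Steps.fwd (nat_lit 1572864) (Steps.fwd (nat_lit 262144) (Steps.bwd (nat_lit 2) (Steps.bwd (nat_lit 1) (Steps.bwd (nat_lit 6) Steps.nil))))))))))))) (nat_lit 34) (nat_lit 12),
  Rule.mk (nat_lit 4) (nat_lit 114) (Steps.bwd (nat_lit 2) (Steps.fwd (nat_lit 1572864) (Steps.bwd (nat_lit 4) (Steps.bwd (nat_lit 2) (Steps.fwd (nat_lit 1310720) Steps.nil))))) (nat_lit 58) (nat_lit 3),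
  Rule.mk (nat_lit 9) (nat_lit 314) (Steps.bwd (nat_lit 4) (Steps.bwd (nat_lit 8) (Steps.fwd (nat_lit 1048576) (Steps.fwd (nat_lit 2097152) (Steps.bwd (nat_lit 4) (Steps.fwd (nat_lit 2359296) (Steps.fwd (nat_lit 1048576) (Steps.bwd (nat_lit 9) (Steps.fwd (nat_lit 1048576) (Steps.fwd (nat_lit 2359296) (Steps.fwd (nat_lit 1048576) (Steps.fwd (nat_lit 2097152) (Steps.fwd (nat_lit 1048576) (Steps.fwd (nat_lit 2359296) (Steps.bwd (nat_lit 4) Steps.nil))))))))))))))) (nat_lit 106) (nat_lit 3),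
  Rule.mk (nat_lit 3) (nat_lit 154) (Steps.bwd (nat_lit 1) (Steps.bwd (nat_lit 5) (Steps.fwd (nat_lit 524288) (Steps.fwd (nat_lit 262144) (Steps.fwd (nat_lit 524288) (Steps.bwd (nat_lit 5) (Steps.fwd (nat_lit 262144) Steps.nil))))))) (nat_lit 71) (nat_lit 7),
  Rule.mk (nat_lit 6) (nat_lit 274) (Steps.bwd (nat_lit 1) (Steps.fwd (nat_lit 786432) (Steps.bwd (nat_lit 1) (Steps.fwd (nat_lit 1572864) (Steps.fwd (nat_lit 262144) (Steps.bwd (nat_lit 2) (Steps.bwd (nat_lit 1) (Steps.bwd (nat_lit 6) (Steps.bwd (nat_lit 1) (Steps.fwd (nat_lit 1572864) (Steps.bwd (nat_lit 5) (Steps.fwd (nat_lit 786432) (Steps.bwd (nat_lit 1) Steps.nil))))))))))))) (nat_lit 34) (nat_lit 3),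
  Rule.mk (nat_lit 8) (nat_lit 314) (Steps.bwd (nat_lit 4) (Steps.bwd (nat_lit 9) (Steps.bwd (nat_lit 4) (Steps.fwd (nat_lit 2359296) (Steps.bwd (nat_lit 4) (Steps.bwd (nat_lit 9) (Steps.fwd (nat_lit 1048576) (Steps.bwd (nat_lit 8) (Steps.fwd (nat_lit 1048576) (Steps.bwd (nat_lit 9) (Steps.bwd (nat_lit 4) (Steps.fwd (nat_lit 2359296) (Steps.fwd (nat_lit 1048576) (Steps.fwd (nat_lit 2097152) (Steps.fwd (nat_lit 1048576) Steps.nil))))))))))))))) (nat_lit 106) (nat_lit 1),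
  Rule.mk (nat_lit 1) (nat_lit 274) (Steps.bwd (nat_lit 6) (Steps.fwd (nat_lit 262144) (Steps.fwd (nat_lit 524288) (Steps.fwd (nat_lit 1310720) (Steps.fwd (nat_lit 1572864) (Steps.fwd (nat_lit 262144) (Steps.fwd (nat_lit 1572864) (Steps.bwd (nat_lit 1) (Steps.fwd (nat_lit 524288) (Steps.fwd (nat_lit 262144) (Steps.fwd (nat_lit 1572864) (Steps.bwd (nat_lit 1) (Steps.bwd (nat_lit 3) Steps.nil))))))))))))) (nat_lit 35) (nat_lit 11),
  Rule.mk (nat_lit 4) (nat_lit 314) (Steps.bwd (nat_lit 9) (Steps.bwd (nat_lit 4) (Steps.bwd (nat_lit 8) (Steps.bwd (nat_lit 4) (Steps.bwd (nat_lit 9) (Steps.bwd (nat_lit 4) (Steps.bwd (nat_lit 8) (Steps.bwd (nat_lit 4) (Steps.fwd (nat_lit 2097152) (Steps.bwd (nat_lit 4) (Steps.fwd (nat_lit 2359296) (Steps.bwd (nat_lit 4) (Steps.bwd (nat_lit 9) (Steps.fwd (nat_lit 1048576) (Steps.fwd (nat_lit 2359296) Steps.nil))))))))))))))) (nat_lit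 106) (nat_lit 2),
  Rule.mk (nat_lit 8) (nat_lit 314) (Steps.bwd (nat_lit 4) (Steps.bwd (nat_lit 9) (Steps.fwd (nat_lit 1048576) (Steps.fwd (nat_lit 2359296) (Steps.bwd (nat_lit 4) (Steps.bwd (nat_lit 9) (Steps.bwd (nat_lit 4) (Steps.bwd (nat_lit 8) (Steps.bwd (nat_lit 4) (Steps.fwd (nat_lit 2097152) (Steps.fwd (nat_lit 1048576) (Steps.fwd (nat_lit 2359296) (Steps.fwd (nat_lit 1048576) (Steps.fwd (nat_lit 2097152) (Steps.bwd (nat_lit 4) Steps.nil))))))))))))))) (nat_lit 106) (nat_lit 1),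
  Rule.mk (nat_lit 9) (nat_lit 314) (Steps.bwd (nat_lit 4) (Steps.bwd (nat_lit 8) (Steps.fwd (nat_lit 1048576) (Steps.bwd (nat_lit 9) (Steps.bwd (nat_lit 4) (Steps.bwd (nat_lit 8) (Steps.fwd (nat_lit 1048576) (Steps.bwd (nat_lit 9) (Steps.fwd (nat_lit 1048576) (Steps.bwd (nat_lit 8) (Steps.fwd (nat_lit 1048576) (Steps.fwd (nat_lit 2097152) (Steps.fwd (nat_lit 1048576) (Steps.fwd (nat_lit 2359296) (Steps.bwd (nat_lit 4) Steps.nil))))))))))))))) (nat_lit 106) (nat_lit 3)]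
noncomputable def R_117 : List (Rule) := [Rule.mk (nat_lit 8) (nat_lit 314) (Steps.bwd (nat_lit 4) (Steps.bwd (nat_lit 9) (Steps.fwd (nat_lit 1048576) (Steps.fwd (nat_lit 2359296) (Steps.fwd (nat_lit 1048576) (Steps.fwd (nat_lit 2097152) (Steps.fwd (nat_lit 1048576) (Steps.bwd (nat_lit 8) (Steps.bwd (nat_lit 4) (Steps.bwd (nat_lit 9) (Steps.fwd (nat_lit 1048576) (Steps.fwd (nat_lit 2359296) (Steps.fwd (nat_lit 1048576) (Steps.bwd (nat_lit 9) (Steps.bwd (nat_lit 4) Steps.nil))))))))))))))) (nat_lit 106) (nat_lit 1),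
  Rule.mk (nat_lit 4) (nat_lit 314) (Steps.bwd (nat_lit 8) (Steps.fwd (nat_lit 1048576) (Steps.bwd (nat_lit 9) (Steps.bwd (nat_lit 4) (Steps.fwd (nat_lit 2359296) (Steps.bwd (nat_lit 4) (Steps.bwd (nat_lit 9) (Steps.fwd (nat_lit 1048576) (Steps.bwd (nat_lit 8) (Steps.fwd (nat_lit 1048576) (Steps.fwd (nat_lit 2097152) (Steps.fwd (nat_lit 1048576) (Steps.fwd (nat_lit 2359296) (Steps.fwd (nat_lit 1048576) (Steps.bwd (nat_lit 9) Steps.nil))))))))))))))) (nat_lit 106) (nat_lit 0),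
  Rule.mk (nat_lit 6) (nat_lit 274) (Steps.bwd (nat_lit 1) (Steps.bwd (nat_lit 3) (Steps.bwd (nat_lit 1) (Steps.fwd (nat_lit 1572864) (Steps.bwd (nat_lit 1) (Steps.fwd (nat_lit 524288) (Steps.fwd (nat_lit 262144) (Steps.fwd (nat_lit 1572864) (Steps.bwd (nat_lit 1) (Steps.bwd (nat_lit 3) (Steps.bwd (nat_lit 5) (Steps.fwd (nat_lit 1572864) (Steps.fwd (nat_lit 262144) Steps.nil))))))))))))) (nat_lit 35) (nat_lit 4),
  Rule.mk (nat_lit 9) (nat_lit 314) (Steps.bwd (nat_lit 4) (Steps.fwd (nat_lit 2359296) (Steps.fwd (nat_lit 1048576) (Steps.fwd (nat_lit 2097152) (Steps.bwd (nat_lit 4) (Steps.fwd (nat_lit 2359296) (Steps.bwd (nat_lit 4) (Steps.fwd (nat_lit 2097152) (Steps.bwd (nat_lit 4) (Steps.bwd (nat_lit 8) (Steps.bwd (nat_lit 4) (Steps.fwd (nat_lit 2097152) (Steps.bwd (nat_lit 4) (Steps.fwd (nat_lit 2359296) (Steps.fwd (nat_lit 1048576) Steps.nil))))))))))))))) (nat_lit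 106) (nat_lit 3),
  Rule.mk (nat_lit 9) (nat_lit 314) (Steps.bwd (nat_lit 4) (Steps.bwd (nat_lit 8) (Steps.fwd (nat_lit 1048576) (Steps.bwd (nat_lit 9) (Steps.fwd (nat_lit 1048576) (Steps.bwd (nat_lit 8) (Steps.bwd (nat_lit 4) (Steps.bwd (nat_lit 9) (Steps.bwd (nat_lit 4) (Steps.fwd (nat_lit 2359296) (Steps.bwd (nat_lit 4) (Steps.bwd (nat_lit 9) (Steps.bwd (nat_lit 4) (Steps.bwd (nat_lit 8) (Steps.bwd (nat_lit 4) Steps.nil))))))))))))))) (nat_lit 106) (nat_lit 3),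
  Rule.mk (nat_lit 1) (nat_lit 154) (Steps.bwd (nat_lit 6) (Steps.bwd (nat_lit 1) (Steps.fwd (nat_lit 1048576) (Steps.bwd (nat_lit 1) (Steps.fwd (nat_lit 1572864) (Steps.bwd (nat_lit 1) (Steps.bwd (nat_lit 4) Steps.nil))))))) (nat_lit 74) (nat_lit 3),
  Rule.mk (nat_lit 3) (nat_lit 154) (Steps.bwd (nat_lit 1) (Steps.bwd (nat_lit 3) (Steps.fwd (nat_lit 1310720) (Steps.bwd (nat_lit 1) (Steps.fwd (nat_lit 524288) (Steps.fwd (nat_lit 262144) (Steps.fwd (nat_lit 1310720) Steps.nil))))))) (nat_lit 71) (nat_lit 2),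
  Rule.mk (nat_lit 6) (nat_lit 154) (Steps.bwd (nat_lit 1) (Steps.fwd (nat_lit 1048576) (Steps.bwd (nat_lit 1) (Steps.bwd (nat_lit 6) (Steps.bwd (nat_lit 1) (Steps.bwd (nat_lit 4) (Steps.bwd (nat_lit 1) Steps.nil))))))) (nat_lit 74) (nat_lit 0),
  Rule.mk (nat_lit 1) (nat_lit 154) (Steps.fwd (nat_lit 1048576) (Steps.fwd (nat_lit 262144) (Steps.bwd (nat_lit 6) (Steps.fwd (nat_lit 262144) (Steps.fwd (nat_lit 1048576) (Steps.fwd (nat_lit 262144) (Steps.bwd (nat_lit 6) Steps.nil))))))) (nat_lit 74) (nat_lit 1),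
  Rule.mk (nat_lit 6) (nat_lit 274) (Steps.bwd (nat_lit 1) (Steps.bwd (nat_lit 3) (Steps.bwd (nat_lit 1) (Steps.fwd (nat_lit 1572864) (Steps.fwd (nat_lit 262144) (Steps.fwd (nat_lit 524288) (Steps.bwd (nat_lit 1) (Steps.bwd (nat_lit 6) (Steps.bwd (nat_lit 1) (Steps.fwd (nat_lit 524288) (Steps.fwd (nat_lit 1310720) (Steps.fwd (nat_lit 1572864) (Steps.bwd (nat_lit 1) Steps.nil))))))))))))) (nat_lit 35) (nat_lit 4),
  Rule.mk (nat_lit 8) (nat_lit 314) (Steps.bwd (nat_lit 4) (Steps.bwd (nat_lit 9) (Steps.fwd (nat_lit 1048576) (Steps.fwd (nat_lit 2359296) (Steps.fwd (nat_lit 1048576) (Steps.fwd (nat_lit 2097152) (Steps.fwd (nat_lit 1048576) (Steps.bwd (nat_lit 8) (Steps.bwd (nat_lit 4) (Steps.bwd (nat_lit 9) (Steps.fwd (nat_lit 1048576) (Steps.fwd (nat_lit 2359296) (Steps.fwd (nat_lit 1048576) (Steps.fwd (nat_lit 2097152) (Steps.fwd (nat_lit 1048576) Steps.nil)))))))))))))))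 (nat_lit 106) (nat_lit 1),
  Rule.mk (nat_lit 4) (nat_lit 314) (Steps.bwd (nat_lit 8) (Steps.bwd (nat_lit 4) (Steps.fwd (nat_lit 2097152) (Steps.bwd (nat_lit 4) (Steps.bwd (nat_lit 8) (Steps.bwd (nat_lit 4) (Steps.bwd (nat_lit 9) (Steps.bwd (nat_lit 4) (Steps.bwd (nat_lit 8) (Steps.bwd (nat_lit 4) (Steps.bwd (nat_lit 9) (Steps.bwd (nat_lit 4) (Steps.fwd (nat_lit 2359296) (Steps.fwd (nat_lit 1048576) (Steps.fwd (nat_lit 2097152) Steps.nil))))))))))))))) (nat_lit 106) (nat_lit 0),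
  Rule.mk (nat_lit 8) (nat_lit 314) (Steps.bwd (nat_lit 4) (Steps.bwd (nat_lit 9) (Steps.bwd (nat_lit 4) (Steps.fwd (nat_lit 2359296) (Steps.fwd (nat_lit 1048576) (Steps.fwd (nat_lit 2097152) (Steps.fwd (nat_lit 1048576) (Steps.fwd (nat_lit 2359296) (Steps.bwd (nat_lit 4) (Steps.bwd (nat_lit 9) (Steps.fwd (nat_lit 1048576) (Steps.fwd (nat_lit 2359296) (Steps.fwd (nat_lit 1048576) (Steps.bwd (nat_lit 9) (Steps.fwd (nat_lit 1048576) Steps.nil))))))))))))))) (nat_lit 106) (nat_lit 1),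
  Rule.mk (nat_lit 9) (nat_lit 314) (Steps.bwd (nat_lit 4) (Steps.fwd (nat_lit 2359296) (Steps.bwd (nat_lit 4) (Steps.bwd (nat_lit 9) (Steps.bwd (nat_lit 4) (Steps.bwd (nat_lit 8) (Steps.fwd (nat_lit 1048576) (Steps.fwd (nat_lit 2097152) (Steps.fwd (nat_lit 1048576) (Steps.fwd (nat_lit 2359296) (Steps.bwd (nat_lit 4) (Steps.bwd (nat_lit 9) (Steps.bwd (nat_lit 4) (Steps.fwd (nat_lit 2359296) (Steps.bwd (nat_lit 4) Steps.nil))))))))))))))) (nat_lit 106) (nat_lit 3),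
  Rule.mk (nat_lit 8) (nat_lit 314) (Steps.bwd (nat_lit 4) (Steps.bwd (nat_lit 9) (Steps.fwd (nat_lit 1048576) (Steps.bwd (nat_lit 8) (Steps.bwd (nat_lit 4) (Steps.bwd (nat_lit 9) (Steps.bwd (nat_lit 4) (Steps.fwd (nat_lit 2359296) (Steps.bwd (nat_lit 4) (Steps.bwd (nat_lit 9) (Steps.bwd (nat_lit 4) (Steps.fwd (nat_lit 2359296) (Steps.fwd (nat_lit 1048576) (Steps.fwd (nat_lit 2097152) (Steps.fwd (nat_lit 1048576) Steps.nil))))))))))))))) (nat_lit 106) (nat_lit 1),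
  Rule.mk (nat_lit 9) (nat_lit 314) (Steps.bwd (nat_lit 4) (Steps.bwd (nat_lit 8) (Steps.bwd (nat_lit 4) (Steps.fwd (nat_lit 2097152) (Steps.fwd (nat_lit 1048576) (Steps.fwd (nat_lit 2359296) (Steps.fwd (nat_lit 1048576) (Steps.fwd (nat_lit 2097152) (Steps.bwd (nat_lit 4) (Steps.fwd (nat_lit 2359296) (Steps.bwd (nat_lit 4) (Steps.bwd (nat_lit 9) (Steps.fwd (nat_lit 1048576) (Steps.fwd (nat_lit 2359296) (Steps.fwd (nat_lit 1048576) Steps.nil))))))))))))))) (nat_lit 106) (nat_lit 3),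
  Rule.mk (nat_lit 6) (nat_lit 274) (Steps.bwd (nat_lit 1) (Steps.fwd (nat_lit 1572864) (Steps.bwd (nat_lit 5) (Steps.bwd (nat_lit 2) (Steps.bwd (nat_lit 1) (Steps.fwd (nat_lit 1572864) (Steps.bwd (nat_lit 1) (Steps.fwd (nat_lit 786432) (Steps.bwd (nat_lit 1) (Steps.fwd (nat_lit 1572864) (Steps.bwd (nat_lit 1) (Steps.fwd (nat_lit 786432) (Steps.fwd (nat_lit 262144) Steps.nil))))))))))))) (nat_lit 34) (nat_lit 11),
  Rule.mk (nat_lit 9) (nat_lit 314) (Steps.bwd (nat_lit 4) (Steps.bwd (nat_lit 8) (Steps.fwd (nat_lit 1048576) (Steps.fwd (nat_lit 2097152) (Steps.bwd (nat_lit 4) (Steps.bwd (nat_lit 8) (Steps.fwd (nat_lit 1048576) (Steps.fwd (nat_lit 2097152) (Steps.bwd (nat_lit 4) (Steps.bwd (nat_lit 8) (Steps.fwd (nat_lit 1048576) (Steps.bwd (nat_lit 9) (Steps.bwd (nat_lit 4) (Steps.fwd (nat_lit 2359296) (Steps.bwd (nat_lit 4) Steps.nil))))))))))))))) (nat_lit 106)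 (nat_lit 3),
  Rule.mk (nat_lit 9) (nat_lit 314) (Steps.bwd (nat_lit 4) (Steps.fwd (nat_lit 2359296) (Steps.bwd (nat_lit 4) (Steps.bwd (nat_lit 9) (Steps.fwd (nat_lit 1048576) (Steps.bwd (nat_lit 8) (Steps.bwd (nat_lit 4) (Steps.bwd (nat_lit 9) (Steps.bwd (nat_lit 4) (Steps.fwd (nat_lit 2359296) (Steps.fwd (nat_lit 1048576) (Steps.bwd (nat_lit 9) (Steps.bwd (nat_lit 4) (Steps.bwd (nat_lit 8) (Steps.bwd (nat_lit 4) Steps.nil))))))))))))))) (nat_lit 106) (nat_lit 3),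
  Rule.mk (nat_lit 6) (nat_lit 274) (Steps.bwd (nat_lit 5) (Steps.fwd (nat_lit 786432) (Steps.fwd (nat_lit 262144) (Steps.bwd (nat_lit 6) (Steps.fwd (nat_lit 262144) (Steps.fwd (nat_lit 786432) (Steps.fwd (nat_lit 262144) (Steps.bwd (nat_lit 6) (Steps.fwd (nat_lit 262144) (Steps.bwd (nat_lit 2) (Steps.bwd (nat_lit 1) (Steps.bwd (nat_lit 6) (Steps.fwd (nat_lit 262144) Steps.nil))))))))))))) (nat_lit 34) (nat_lit 13),
  Rule.mk (nat_lit 4) (nat_lit 154) (Steps.fwd (nat_lit 1835008) (Steps.fwd (nat_lit 262144) (Steps.fwd (nat_lit 1048576) (Steps.bwd (nat_lit 1) (Steps.fwd (nat_lit 1835008) (Steps.fwd (nat_lit 1048576) (Steps.bwd (nat_lit 1) Steps.nil))))))) (nat_lit 76) (nat_lit 7),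
  Rule.mk (nat_lit 9) (nat_lit 314) (Steps.bwd (nat_lit 4) (Steps.fwd (nat_lit 2359296) (Steps.fwd (nat_lit 1048576) (Steps.bwd (nat_lit 9) (Steps.fwd (nat_lit 1048576) (Steps.fwd (nat_lit 2359296) (Steps.bwd (nat_lit 4) (Steps.fwd (nat_lit 2097152) (Steps.fwd (nat_lit 1048576) (Steps.fwd (nat_lit 2359296) (Steps.bwd (nat_lit 4) (Steps.bwd (nat_lit 9) (Steps.bwd (nat_lit 4) (Steps.fwd (nat_lit 2359296) (Steps.fwd (nat_lit 1048576) Steps.nil))))))))))))))) (nat_lit 106) (nat_lit 3),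
  Rule.mk (nat_lit 1) (nat_lit 154) (Steps.bwd (nat_lit 4) (Steps.bwd (nat_lit 1) (Steps.bwd (nat_lit 6) (Steps.bwd (nat_lit 1) (Steps.bwd (nat_lit 4) (Steps.fwd (nat_lit 262144) (Steps.bwd (nat_lit 6) Steps.nil))))))) (nat_lit 74) (nat_lit 1),
  Rule.mk (nat_lit 8) (nat_lit 314) (Steps.bwd (nat_lit 4) (Steps.bwd (nat_lit 9) (Steps.bwd (nat_lit 4) (Steps.bwd (nat_lit 8) (Steps.bwd (nat_lit 4) (Steps.fwd (nat_lit 2097152) (Steps.fwd (nat_lit 1048576) (Steps.bwd (nat_lit 8) (Steps.fwd (nat_lit 1048576) (Steps.bwd (nat_lit 9) (Steps.fwd (nat_lit 1048576) (Steps.bwd (nat_lit 8) (Steps.bwd (nat_lit 4) (Steps.bwd (nat_lit 9) (Steps.fwd (nat_lit 1048576) Steps.nil))))))))))))))) (nat_lit 106) (nat_lit 1),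
  Rule.mk (nat_lit 9) (nat_lit 314) (Steps.bwd (nat_lit 4) (Steps.bwd (nat_lit 8) (Steps.bwd (nat_lit 4) (Steps.bwd (nat_lit 9) (Steps.bwd (nat_lit 4) (Steps.fwd (nat_lit 2359296) (Steps.fwd (nat_lit 1048576) (Steps.fwd (nat_lit 2097152) (Steps.bwd (nat_lit 4) (Steps.fwd (nat_lit 2359296) (Steps.bwd (nat_lit 4) (Steps.fwd (nat_lit 2097152) (Steps.bwd (nat_lit 4) (Steps.fwd (nat_lit 2359296) (Steps.bwd (nat_lit 4) Steps.nil))))))))))))))) (nat_lit 106) (nat_lit 3),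
  Rule.mk (nat_lit 8) (nat_lit 314) (Steps.bwd (nat_lit 4) (Steps.bwd (nat_lit 9) (Steps.bwd (nat_lit 4) (Steps.bwd (nat_lit 8) (Steps.bwd (nat_lit 4) (Steps.bwd (nat_lit 9) (Steps.fwd (nat_lit 1048576) (Steps.fwd (nat_lit 2359296) (Steps.bwd (nat_lit 4) (Steps.bwd (nat_lit 9) (Steps.fwd (nat_lit 1048576) (Steps.bwd (nat_lit 8) (Steps.bwd (nat_lit 4) (Steps.fwd (nat_lit 2097152) (Steps.bwd (nat_lit 4) Steps.nil))))))))))))))) (nat_lit 106) (nat_lit 1),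
  Rule.mk (nat_lit 9) (nat_lit 314) (Steps.bwd (nat_lit 4) (Steps.bwd (nat_lit 8) (Steps.bwd (nat_lit 4) (Steps.bwd (nat_lit 9) (Steps.bwd (nat_lit 4) (Steps.bwd (nat_lit 8) (Steps.bwd (nat_lit 4) (Steps.fwd (nat_lit 2097152) (Steps.fwd (nat_lit 1048576) (Steps.bwd (nat_lit 8) (Steps.fwd (nat_lit 1048576) (Steps.fwd (nat_lit 2097152) (Steps.bwd (nat_lit 4) (Steps.fwd (nat_lit 2359296) (Steps.bwd (nat_lit 4) Steps.nil))))))))))))))) (nat_lit 106) (nat_lit 3),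
  Rule.mk (nat_lit 4) (nat_lit 314) (Steps.bwd (nat_lit 9) (Steps.fwd (nat_lit 1048576) (Steps.bwd (nat_lit 8) (Steps.fwd (nat_lit 1048576) (Steps.fwd (nat_lit 2097152) (Steps.bwd (nat_lit 4) (Steps.fwd (nat_lit 2359296) (Steps.fwd (nat_lit 1048576) (Steps.bwd (nat_lit 9) (Steps.fwd (nat_lit 1048576) (Steps.fwd (nat_lit 2359296) (Steps.fwd (nat_lit 1048576) (Steps.bwd (nat_lit 9) (Steps.fwd (nat_lit 1048576) (Steps.fwd (nat_lit 2359296) Steps.nil))))))))))))))) (nat_lit 106) (nat_lit 2),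
  Rule.mk (nat_lit 4) (nat_lit 314) (Steps.bwd (nat_lit 9) (Steps.fwd (nat_lit 1048576) (Steps.bwd (nat_lit 8) (Steps.bwd (nat_lit 4) (Steps.bwd (nat_lit 9) (Steps.bwd (nat_lit 4) (Steps.bwd (nat_lit 8) (Steps.fwd (nat_lit 1048576) (Steps.fwd (nat_lit 2097152) (Steps.fwd (nat_lit 1048576) (Steps.fwd (nat_lit 2359296) (Steps.bwd (nat_lit 4) (Steps.bwd (nat_lit 9) (Steps.fwd (nat_lit 1048576) (Steps.fwd (nat_lit 2359296) Steps.nil))))))))))))))) (nat_lit 106) (nat_lit 2),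
  Rule.mk (nat_lit 9) (nat_lit 314) (Steps.bwd (nat_lit 4) (Steps.bwd (nat_lit 8) (Steps.fwd (nat_lit 1048576) (Steps.bwd (nat_lit 9) (Steps.bwd (nat_lit 4) (Steps.bwd (nat_lit 8) (Steps.fwd (nat_lit 1048576) (Steps.bwd (nat_lit 9) (Steps.fwd (nat_lit 1048576) (Steps.fwd (nat_lit 2359296) (Steps.bwd (nat_lit 4) (Steps.bwd (nat_lit 9) (Steps.bwd (nat_lit 4) (Steps.bwd (nat_lit 8) (Steps.fwd (nat_lit 1048576) Steps.nil))))))))))))))) (nat_lit 106) (nat_lit 3),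
  Rule.mk (nat_lit 9) (nat_lit 314) (Steps.bwd (nat_lit 4) (Steps.bwd (nat_lit 8) (Steps.bwd (nat_lit 4) (Steps.bwd (nat_lit 9) (Steps.fwd (nat_lit 1048576) (Steps.bwd (nat_lit 8) (Steps.bwd (nat_lit 4) (Steps.bwd (nat_lit 9) (Steps.bwd (nat_lit 4) (Steps.bwd (nat_lit 8) (Steps.bwd (nat_lit 4) (Steps.bwd (nat_lit 9) (Steps.bwd (nat_lit 4) (Steps.bwd (nat_lit 8) (Steps.fwd (nat_lit 1048576) Steps.nil))))))))))))))) (nat_lit 106) (nat_lit 3),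
  Rule.mk (nat_lit 8) (nat_lit 314) (Steps.bwd (nat_lit 4) (Steps.bwd (nat_lit 9) (Steps.fwd (nat_lit 1048576) (Steps.fwd (nat_lit 2359296) (Steps.fwd (nat_lit 1048576) (Steps.fwd (nat_lit 2097152) (Steps.fwd (nat_lit 1048576) (Steps.fwd (nat_lit 2359296) (Steps.bwd (nat_lit 4) (Steps.bwd (nat_lit 9) (Steps.fwd (nat_lit 1048576) (Steps.fwd (nat_lit 2359296) (Steps.fwd (nat_lit 1048576) (Steps.fwd (nat_lit 2097152) (Steps.bwd (nat_lit 4) Steps.nil))))))))))))))) (nat_lit 106) (nat_lit 1),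
  Rule.mk (nat_lit 8) (nat_lit 314) (Steps.bwd (nat_lit 4) (Steps.bwd (nat_lit 9) (Steps.bwd (nat_lit 4) (Steps.bwd (nat_lit 8) (Steps.bwd (nat_lit 4) (Steps.bwd (nat_lit 9) (Steps.fwd (nat_lit 1048576) (Steps.fwd (nat_lit 2359296) (Steps.bwd (nat_lit 4) (Steps.bwd (nat_lit 9) (Steps.bwd (nat_lit 4) (Steps.bwd (nat_lit 8) (Steps.fwd (nat_lit 1048576) (Steps.fwd (nat_lit 2097152) (Steps.fwd (nat_lit 1048576) Steps.nil))))))))))))))) (nat_lit 106) (nat_lit 1),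
  Rule.mk (nat_lit 9) (nat_lit 314) (Steps.bwd (nat_lit 4) (Steps.bwd (nat_lit 8) (Steps.bwd (nat_lit 4) (Steps.bwd (nat_lit 9) (Steps.fwd (nat_lit 1048576) (Steps.fwd (nat_lit 2359296) (Steps.bwd (nat_lit 4) (Steps.bwd (nat_lit 9) (Steps.bwd (nat_lit 4) (Steps.fwd (nat_lit 2359296) (Steps.fwd (nat_lit 1048576) (Steps.fwd (nat_lit 2097152) (Steps.bwd (nat_lit 4) (Steps.fwd (nat_lit 2359296) (Steps.fwd (nat_lit 1048576) Steps.nil))))))))))))))) (nat_lit 106) (nat_lit 3),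
  Rule.mk (nat_lit 8) (nat_lit 314) (Steps.bwd (nat_lit 4) (Steps.bwd (nat_lit 9) (Steps.fwd (nat_lit 1048576) (Steps.bwd (nat_lit 8) (Steps.fwd (nat_lit 1048576) (Steps.bwd (nat_lit 9) (Steps.bwd (nat_lit 4) (Steps.fwd (nat_lit 2359296) (Steps.bwd (nat_lit 4) (Steps.bwd (nat_lit 9) (Steps.bwd (nat_lit 4) (Steps.fwd (nat_lit 2359296) (Steps.bwd (nat_lit 4) (Steps.fwd (nat_lit 2097152) (Steps.fwd (nat_lit 1048576) Steps.nil))))))))))))))) (nat_lit 106) (nat_lit 1),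
  Rule.mk (nat_lit 4) (nat_lit 314) (Steps.bwd (nat_lit 9) (Steps.fwd (nat_lit 1048576) (Steps.bwd (nat_lit 8) (Steps.bwd (nat_lit 4) (Steps.bwd (nat_lit 9) (Steps.fwd (nat_lit 1048576) (Steps.bwd (nat_lit 8) (Steps.bwd (nat_lit 4) (Steps.fwd (nat_lit 2097152) (Steps.fwd (nat_lit 1048576) (Steps.fwd (nat_lit 2359296) (Steps.fwd (nat_lit 1048576) (Steps.bwd (nat_lit 9) (Steps.bwd (nat_lit 4) (Steps.fwd (nat_lit 2359296) Steps.nil))))))))))))))) (nat_lit 106) (nat_lit 2),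
  Rule.mk (nat_lit 9) (nat_lit 314) (Steps.bwd (nat_lit 4) (Steps.fwd (nat_lit 2359296) (Steps.bwd (nat_lit 4) (Steps.bwd (nat_lit 9) (Steps.fwd (nat_lit 1048576) (Steps.fwd (nat_lit 2359296) (Steps.bwd (nat_lit 4) (Steps.bwd (nat_lit 9) (Steps.fwd (nat_lit 1048576) (Steps.bwd (nat_lit 8) (Steps.fwd (nat_lit 1048576) (Steps.bwd (nat_lit 9) (Steps.bwd (nat_lit 4) (Steps.fwd (nat_lit 2359296) (Steps.fwd (nat_lit 1048576) Steps.nil))))))))))))))) (nat_lit 106) (nat_lit 3),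
  Rule.mk (nat_lit 8) (nat_lit 314) (Steps.bwd (nat_lit 4) (Steps.bwd (nat_lit 9) (Steps.bwd (nat_lit 4) (Steps.fwd (nat_lit 2359296) (Steps.bwd (nat_lit 4) (Steps.fwd (nat_lit 2097152) (Steps.fwd (nat_lit 1048576) (Steps.bwd (nat_lit 8) (Steps.bwd (nat_lit 4) (Steps.fwd (nat_lit 2097152) (Steps.bwd (nat_lit 4) (Steps.bwd (nat_lit 8) (Steps.fwd (nat_lit 1048576) (Steps.fwd (nat_lit 2097152) (Steps.bwd (nat_lit 4) Steps.nil))))))))))))))) (nat_lit 106) (nat_lit 1),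
  Rule.mk (nat_lit 1) (nat_lit 274) (Steps.bwd (nat_lit 6) (Steps.fwd (nat_lit 1310720) (Steps.fwd (nat_lit 786432) (Steps.bwd (nat_lit 1) (Steps.fwd (nat_lit 1572864) (Steps.fwd (nat_lit 262144) (Steps.fwd (nat_lit 786432) (Steps.fwd (nat_lit 262144) (Steps.bwd (nat_lit 6) (Steps.bwd (nat_lit 1) (Steps.bwd (nat_lit 2) (Steps.fwd (nat_lit 262144) (Steps.fwd (nat_lit 1572864) Steps.nil))))))))))))) (nat_lit 34) (nat_lit 12),
  Rule.mk (nat_lit 6) (nat_lit 114) (Steps.bwd (nat_lit 3) (Steps.fwd (nat_lit 1048576) (Steps.bwd (nat_lit 5) (Steps.bwd (nat_lit 3) (Steps.bwd (nat_lit 4) Steps.nil))))) (nat_lit 59) (nat_lit 2),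
  Rule.mk (nat_lit 6) (nat_lit 274) (Steps.bwd (nat_lit 1) (Steps.fwd (nat_lit 1572864) (Steps.fwd (nat_lit 1310720) (Steps.bwd (nat_lit 2) (Steps.bwd (nat_lit 1) (Steps.bwd (nat_lit 6) (Steps.fwd (nat_lit 262144) (Steps.bwd (nat_lit 2) (Steps.bwd (nat_lit 1) (Steps.fwd (nat_lit 1572864) (Steps.bwd (nat_lit 1) (Steps.fwd (nat_lit 786432) (Steps.fwd (nat_lit 262144) Steps.nil))))))))))))) (nat_lit 34) (nat_lit 11),
  Rule.mk (nat_lit 9) (nat_lit 314) (Steps.fwd (nat_lit 1048576) (Steps.bwd (nat_lit 8) (Steps.fwd (nat_lit 1048576) (Steps.fwd (nat_lit 2097152) (Steps.fwd (nat_lit 1048576) (Steps.bwd (nat_lit 8) (Steps.fwd (nat_lit 1048576) (Steps.bwd (nat_lit 9) (Steps.bwd (nat_lit 4) (Steps.bwd (nat_lit 8) (Steps.bwd (nat_lit 4) (Steps.bwd (nat_lit 9) (Steps.bwd (nat_lit 4) (Steps.fwd (nat_lit 2359296) (Steps.bwd (nat_lit 4) Steps.nil))))))))))))))) (nat_lit 106)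 (nat_lit 3),
  Rule.mk (nat_lit 4) (nat_lit 314) (Steps.bwd (nat_lit 9) (Steps.fwd (nat_lit 1048576) (Steps.bwd (nat_lit 8) (Steps.fwd (nat_lit 1048576) (Steps.fwd (nat_lit 2097152) (Steps.fwd (nat_lit 1048576) (Steps.bwd (nat_lit 8) (Steps.bwd (nat_lit 4) (Steps.bwd (nat_lit 9) (Steps.fwd (nat_lit 1048576) (Steps.fwd (nat_lit 2359296) (Steps.fwd (nat_lit 1048576) (Steps.bwd (nat_lit 9) (Steps.fwd (nat_lit 1048576) (Steps.fwd (nat_lit 2359296) Steps.nil))))))))))))))) (nat_lit 106) (nat_lit 2),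
  Rule.mk (nat_lit 4) (nat_lit 114) (Steps.fwd (nat_lit 1572864) (Steps.bwd (nat_lit 3) (Steps.fwd (nat_lit 1048576) (Steps.bwd (nat_lit 5) (Steps.bwd (nat_lit 3) Steps.nil))))) (nat_lit 59) (nat_lit 1),
  Rule.mk (nat_lit 4) (nat_lit 314) (Steps.bwd (nat_lit 9) (Steps.bwd (nat_lit 4) (Steps.fwd (nat_lit 2359296) (Steps.fwd (nat_lit 1048576) (Steps.fwd (nat_lit 2097152) (Steps.fwd (nat_lit 1048576) (Steps.fwd (nat_lit 2359296) (Steps.bwd (nat_lit 4) (Steps.bwd (nat_lit 9) (Steps.fwd (nat_lit 1048576) (Steps.fwd (nat_lit 2359296) (Steps.bwd (nat_lit 4) (Steps.bwd (nat_lit 9) (Steps.fwd (nat_lit 1048576) (Steps.fwd (nat_lit 2359296) Steps.nil))))))))))))))) (nat_lit 106) (nat_lit 2),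
  Rule.mk (nat_lit 1) (nat_lit 154) (Steps.bwd (nat_lit 6) (Steps.fwd (nat_lit 262144) (Steps.fwd (nat_lit 1048576) (Steps.bwd (nat_lit 1) (Steps.bwd (nat_lit 6) (Steps.fwd (nat_lit 262144) (Steps.bwd (nat_lit 4) Steps.nil))))))) (nat_lit 74) (nat_lit 3),
  Rule.mk (nat_lit 6) (nat_lit 274) (Steps.bwd (nat_lit 1) (Steps.fwd (nat_lit 1572864) (Steps.bwd (nat_lit 5) (Steps.bwd (nat_lit 2) (Steps.bwd (nat_lit 1) (Steps.bwd (nat_lit 6) (Steps.fwd (nat_lit 262144) (Steps.fwd (nat_lit 786432) (Steps.bwd (nat_lit 1) (Steps.bwd (nat_lit 6) (Steps.bwd (nat_lit 1) (Steps.fwd (nat_lit 786432) (Steps.fwd (nat_lit 262144) Steps.nil))))))))))))) (nat_lit 34) (nat_lit 11),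
  Rule.mk (nat_lit 4) (nat_lit 154) (Steps.bwd (nat_lit 1) (Steps.fwd (nat_lit 1572864) (Steps.bwd (nat_lit 1) (Steps.bwd (nat_lit 4) (Steps.fwd (nat_lit 262144) (Steps.fwd (nat_lit 1572864) (Steps.bwd (nat_lit 1) Steps.nil))))))) (nat_lit 74) (nat_lit 2),
  Rule.mk (nat_lit 8) (nat_lit 314) (Steps.bwd (nat_lit 4) (Steps.bwd (nat_lit 9) (Steps.fwd (nat_lit 1048576) (Steps.fwd (nat_lit 2359296) (Steps.fwd (nat_lit 1048576) (Steps.bwd (nat_lit 9) (Steps.bwd (nat_lit 4) (Steps.fwd (nat_lit 2359296) (Steps.fwd (nat_lit 1048576) (Steps.fwd (nat_lit 2097152) (Steps.fwd (nat_lit 1048576) (Steps.fwd (nat_lit 2359296) (Steps.fwd (nat_lit 1048576) (Steps.fwd (nat_lit 2097152) (Steps.bwd (nat_lit 4) Steps.nil))))))))))))))) (nat_lit 106) (nat_lit 1),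
  Rule.mk (nat_lit 8) (nat_lit 314) (Steps.bwd (nat_lit 4) (Steps.fwd (nat_lit 2097152) (Steps.fwd (nat_lit 1048576) (Steps.bwd (nat_lit 8) (Steps.fwd (nat_lit 1048576) (Steps.fwd (nat_lit 2097152) (Steps.fwd (nat_lit 1048576) (Steps.fwd (nat_lit 2359296) (Steps.bwd (nat_lit 4) (Steps.fwd (nat_lit 2097152) (Steps.bwd (nat_lit 4) (Steps.fwd (nat_lit 2359296) (Steps.bwd (nat_lit 4) (Steps.bwd (nat_lit 9) (Steps.bwd (nat_lit 4) Steps.nil))))))))))))))) (nat_lit 106) (nat_lit 1),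
  Rule.mk (nat_lit 4) (nat_lit 314) (Steps.bwd (nat_lit 9) (Steps.bwd (nat_lit 4) (Steps.bwd (nat_lit 8) (Steps.bwd (nat_lit 4) (Steps.bwd (nat_lit 9) (Steps.fwd (nat_lit 1048576) (Steps.fwd (nat_lit 2359296) (Steps.bwd (nat_lit 4) (Steps.bwd (nat_lit 9) (Steps.fwd (nat_lit 1048576) (Steps.fwd (nat_lit 2359296) (Steps.bwd (nat_lit 4) (Steps.fwd (nat_lit 2097152) (Steps.bwd (nat_lit 4) (Steps.bwd (nat_lit 8) Steps.nil))))))))))))))) (nat_lit 106) (nat_lit 2),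
  Rule.mk (nat_lit 9) (nat_lit 314) (Steps.fwd (nat_lit 1048576) (Steps.bwd (nat_lit 8) (Steps.fwd (nat_lit 1048576) (Steps.fwd (nat_lit 2097152) (Steps.fwd (nat_lit 1048576) (Steps.fwd (nat_lit 2359296) (Steps.fwd (nat_lit 1048576) (Steps.bwd (nat_lit 9) (Steps.bwd (nat_lit 4) (Steps.fwd (nat_lit 2359296) (Steps.bwd (nat_lit 4) (Steps.bwd (nat_lit 9) (Steps.fwd (nat_lit 1048576) (Steps.fwd (nat_lit 2359296) (Steps.bwd (nat_lit 4) Steps.nil))))))))))))))) (nat_lit 106) (nat_lit 3),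
  Rule.mk (nat_lit 4) (nat_lit 314) (Steps.bwd (nat_lit 8) (Steps.fwd (nat_lit 1048576) (Steps.bwd (nat_lit 9) (Steps.bwd (nat_lit 4) (Steps.bwd (nat_lit 8) (Steps.bwd (nat_lit 4) (Steps.fwd (nat_lit 2097152) (Steps.bwd (nat_lit 4) (Steps.fwd (nat_lit 2359296) (Steps.fwd (nat_lit 1048576) (Steps.bwd (nat_lit 9) (Steps.bwd (nat_lit 4) (Steps.fwd (nat_lit 2359296) (Steps.fwd (nat_lit 1048576) (Steps.fwd (nat_lit 2097152) Steps.nil))))))))))))))) (nat_lit 106) (nat_lit 0),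
  Rule.mk (nat_lit 9) (nat_lit 314) (Steps.bwd (nat_lit 4) (Steps.fwd (nat_lit 2359296) (Steps.bwd (nat_lit 4) (Steps.fwd (nat_lit 2097152) (Steps.bwd (nat_lit 4) (Steps.fwd (nat_lit 2359296) (Steps.fwd (nat_lit 1048576) (Steps.bwd (nat_lit 9) (Steps.bwd (nat_lit 4) (Steps.fwd (nat_lit 2359296) (Steps.bwd (nat_lit 4) (Steps.fwd (nat_lit 2097152) (Steps.bwd (nat_lit 4) (Steps.fwd (nat_lit 2359296) (Steps.bwd (nat_lit 4) Steps.nil))))))))))))))) (nat_lit 106) (nat_lit 3),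
  Rule.mk (nat_lit 1) (nat_lit 154) (Steps.bwd (nat_lit 2) (Steps.bwd (nat_lit 1) (Steps.fwd (nat_lit 524288) (Steps.fwd (nat_lit 262144) (Steps.bwd (nat_lit 2) (Steps.fwd (nat_lit 262144) (Steps.bwd (nat_lit 3) Steps.nil))))))) (nat_lit 68) (nat_lit 1),
  Rule.mk (nat_lit 4) (nat_lit 314) (Steps.bwd (nat_lit 9) (Steps.bwd (nat_lit 4) (Steps.fwd (nat_lit 2359296) (Steps.bwd (nat_lit 4) (Steps.bwd (nat_lit 9) (Steps.fwd (nat_lit 1048576) (Steps.bwd (nat_lit 8) (Steps.bwd (nat_lit 4) (Steps.bwd (nat_lit 9) (Steps.fwd (nat_lit 1048576) (Steps.bwd (nat_lit 8) (Steps.bwd (nat_lit 4) (Steps.fwd (nat_lit 2097152) (Steps.bwd (nat_lit 4) (Steps.fwd (nat_lit 2359296) Steps.nil))))))))))))))) (nat_lit 106) (nat_lit 2),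
  Rule.mk (nat_lit 6) (nat_lit 274) (Steps.bwd (nat_lit 1) (Steps.fwd (nat_lit 1572864) (Steps.bwd (nat_lit 5) (Steps.bwd (nat_lit 2) (Steps.fwd (nat_lit 262144) (Steps.fwd (nat_lit 1572864) (Steps.bwd (nat_lit 1) (Steps.bwd (nat_lit 2) (Steps.bwd (nat_lit 1) (Steps.fwd (nat_lit 1572864) (Steps.bwd (nat_lit 1) (Steps.bwd (nat_lit 2) (Steps.fwd (nat_lit 262144) Steps.nil))))))))))))) (nat_lit 34) (nat_lit 11),
  Rule.mk (nat_lit 9) (nat_lit 314) (Steps.bwd (nat_lit 4) (Steps.bwd (nat_lit 8) (Steps.fwd (nat_lit 1048576) (Steps.fwd (nat_lit 2097152) (Steps.fwd (nat_lit 1048576) (Steps.fwd (nat_lit 2359296) (Steps.fwd (nat_lit 1048576) (Steps.bwd (nat_lit 9) (Steps.bwd (nat_lit 4) (Steps.fwd (nat_lit 2359296) (Steps.bwd (nat_lit 4) (Steps.bwd (nat_lit 9) (Steps.fwd (nat_lit 1048576) (Steps.fwd (nat_lit 2359296) (Steps.fwd (nat_lit 1048576) Steps.nil)))))))))))))))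 (nat_lit 106) (nat_lit 3),
  Rule.mk (nat_lit 4) (nat_lit 314) (Steps.bwd (nat_lit 9) (Steps.fwd (nat_lit 1048576) (Steps.bwd (nat_lit 8) (Steps.bwd (nat_lit 4) (Steps.bwd (nat_lit 9) (Steps.fwd (nat_lit 1048576) (Steps.fwd (nat_lit 2359296) (Steps.fwd (nat_lit 1048576) (Steps.bwd (nat_lit 9) (Steps.fwd (nat_lit 1048576) (Steps.fwd (nat_lit 2359296) (Steps.fwd (nat_lit 1048576) (Steps.fwd (nat_lit 2097152) (Steps.fwd (nat_lit 1048576) (Steps.fwd (nat_lit 2359296) Steps.nil))))))))))))))) (nat_lit 106) (nat_lit 2),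
  Rule.mk (nat_lit 8) (nat_lit 314) (Steps.bwd (nat_lit 4) (Steps.bwd (nat_lit 9) (Steps.bwd (nat_lit 4) (Steps.fwd (nat_lit 2359296) (Steps.fwd (nat_lit 1048576) (Steps.bwd (nat_lit 9) (Steps.bwd (nat_lit 4) (Steps.bwd (nat_lit 8) (Steps.fwd (nat_lit 1048576) (Steps.fwd (nat_lit 2097152) (Steps.fwd (nat_lit 1048576) (Steps.fwd (nat_lit 2359296) (Steps.fwd (nat_lit 1048576) (Steps.fwd (nat_lit 2097152) (Steps.bwd (nat_lit 4) Steps.nil))))))))))))))) (nat_lit 106) (nat_lit 1),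
  Rule.mk (nat_lit 1) (nat_lit 154) (Steps.bwd (nat_lit 6) (Steps.bwd (nat_lit 1) (Steps.fwd (nat_lit 1048576) (Steps.bwd (nat_lit 1) (Steps.bwd (nat_lit 6) (Steps.fwd (nat_lit 262144) (Steps.bwd (nat_lit 4) Steps.nil))))))) (nat_lit 74) (nat_lit 3),
  Rule.mk (nat_lit 9) (nat_lit 314) (Steps.bwd (nat_lit 4) (Steps.bwd (nat_lit 8) (Steps.fwd (nat_lit 1048576) (Steps.bwd (nat_lit 9) (Steps.bwd (nat_lit 4) (Steps.bwd (nat_lit 8) (Steps.fwd (nat_lit 1048576) (Steps.bwd (nat_lit 9) (Steps.bwd (nat_lit 4) (Steps.bwd (nat_lit 8) (Steps.fwd (nat_lit 1048576) (Steps.bwd (nat_lit 9) (Steps.fwd (nat_lit 1048576) (Steps.fwd (nat_lit 2359296) (Steps.fwd (nat_lit 1048576) Steps.nil))))))))))))))) (nat_lit 106) (nat_lit 3),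
  Rule.mk (nat_lit 9) (nat_lit 314) (Steps.bwd (nat_lit 4) (Steps.fwd (nat_lit 2359296) (Steps.fwd (nat_lit 1048576) (Steps.bwd (nat_lit 9) (Steps.fwd (nat_lit 1048576) (Steps.bwd (nat_lit 8) (Steps.fwd (nat_lit 1048576) (Steps.fwd (nat_lit 2097152) (Steps.bwd (nat_lit 4) (Steps.fwd (nat_lit 2359296) (Steps.bwd (nat_lit 4) (Steps.bwd (nat_lit 9) (Steps.fwd (nat_lit 1048576) (Steps.fwd (nat_lit 2359296) (Steps.bwd (nat_lit 4) Steps.nil))))))))))))))) (nat_lit 106) (nat_lit 3),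
  Rule.mk (nat_lit 8) (nat_lit 314) (Steps.bwd (nat_lit 4) (Steps.bwd (nat_lit 9) (Steps.fwd (nat_lit 1048576) (Steps.fwd (nat_lit 2359296) (Steps.bwd (nat_lit 4) (Steps.fwd (nat_lit 2097152) (Steps.fwd (nat_lit 1048576) (Steps.fwd (nat_lit 2359296) (Steps.bwd (nat_lit 4) (Steps.bwd (nat_lit 9) (Steps.fwd (nat_lit 1048576) (Steps.fwd (nat_lit 2359296) (Steps.bwd (nat_lit 4) (Steps.bwd (nat_lit 9) (Steps.bwd (nat_lit 4) Steps.nil))))))))))))))) (nat_lit 106) (nat_lit 1)]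
noncomputable def R_118 : List (Rule) := [Rule.mk (nat_lit 9) (nat_lit 314) (Steps.bwd (nat_lit 4) (Steps.fwd (nat_lit 2359296) (Steps.bwd (nat_lit 4) (Steps.bwd (nat_lit 9) (Steps.bwd (nat_lit 4) (Steps.bwd (nat_lit 8) (Steps.bwd (nat_lit 4) (Steps.bwd (nat_lit 9) (Steps.bwd (nat_lit 4) (Steps.bwd (nat_lit 8) (Steps.fwd (nat_lit 1048576) (Steps.fwd (nat_lit 2097152) (Steps.fwd (nat_lit 1048576) (Steps.fwd (nat_lit 2359296) (Steps.fwd (nat_lit 1048576) Steps.nil))))))))))))))) (nat_lit 106) (nat_lit 3),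
  Rule.mk (nat_lit 4) (nat_lit 314) (Steps.bwd (nat_lit 9) (Steps.bwd (nat_lit 4) (Steps.fwd (nat_lit 2359296) (Steps.fwd (nat_lit 1048576) (Steps.fwd (nat_lit 2097152) (Steps.fwd (nat_lit 1048576) (Steps.fwd (nat_lit 2359296) (Steps.fwd (nat_lit 1048576) (Steps.fwd (nat_lit 2097152) (Steps.fwd (nat_lit 1048576) (Steps.fwd (nat_lit 2359296) (Steps.bwd (nat_lit 4) (Steps.fwd (nat_lit 2097152) (Steps.bwd (nat_lit 4) (Steps.fwd (nat_lit 2359296) Steps.nil))))))))))))))) (nat_lit 106) (nat_lit 2),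
  Rule.mk (nat_lit 6) (nat_lit 274) (Steps.bwd (nat_lit 1) (Steps.fwd (nat_lit 1572864) (Steps.fwd (nat_lit 1310720) (Steps.fwd (nat_lit 786432) (Steps.fwd (nat_lit 262144) (Steps.fwd (nat_lit 1572864) (Steps.fwd (nat_lit 262144) (Steps.bwd (nat_lit 2) (Steps.bwd (nat_lit 1) (Steps.fwd (nat_lit 1572864) (Steps.bwd (nat_lit 1) (Steps.fwd (nat_lit 786432) (Steps.fwd (nat_lit 262144) Steps.nil))))))))))))) (nat_lit 34) (nat_lit 11),
  Rule.mk (nat_lit 9) (nat_lit 314) (Steps.bwd (nat_lit 4) (Steps.fwd (nat_lit 2359296) (Steps.bwd (nat_lit 4) (Steps.fwd (nat_lit 2097152) (Steps.fwd (nat_lit 1048576) (Steps.bwd (nat_lit 8) (Steps.fwd (nat_lit 1048576) (Steps.fwd (nat_lit 2097152) (Steps.bwd (nat_lit 4) (Steps.fwd (nat_lit 2359296) (Steps.fwd (nat_lit 1048576) (Steps.fwd (nat_lit 2097152) (Steps.fwd (nat_lit 1048576) (Steps.fwd (nat_lit 2359296) (Steps.bwd (nat_lit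 4) Steps.nil))))))))))))))) (nat_lit 106) (nat_lit 3),
  Rule.mk (nat_lit 8) (nat_lit 314) (Steps.bwd (nat_lit 4) (Steps.bwd (nat_lit 9) (Steps.bwd (nat_lit 4) (Steps.bwd (nat_lit 8) (Steps.bwd (nat_lit 4) (Steps.fwd (nat_lit 2097152) (Steps.bwd (nat_lit 4) (Steps.bwd (nat_lit 8) (Steps.fwd (nat_lit 1048576) (Steps.fwd (nat_lit 2097152) (Steps.fwd (nat_lit 1048576) (Steps.bwd (nat_lit 8) (Steps.fwd (nat_lit 1048576) (Steps.fwd (nat_lit 2097152) (Steps.fwd (nat_lit 1048576) Steps.nil))))))))))))))) (nat_lit 106) (nat_lit 1),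
  Rule.mk (nat_lit 4) (nat_lit 314) (Steps.bwd (nat_lit 9) (Steps.bwd (nat_lit 4) (Steps.fwd (nat_lit 2359296) (Steps.fwd (nat_lit 1048576) (Steps.bwd (nat_lit 9) (Steps.fwd (nat_lit 1048576) (Steps.fwd (nat_lit 2359296) (Steps.fwd (nat_lit 1048576) (Steps.bwd (nat_lit 9) (Steps.bwd (nat_lit 4) (Steps.fwd (nat_lit 2359296) (Steps.fwd (nat_lit 1048576) (Steps.fwd (nat_lit 2097152) (Steps.fwd (nat_lit 1048576) (Steps.fwd (nat_lit 2359296) Steps.nil))))))))))))))) (nat_lit 106) (nat_lit 2),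
  Rule.mk (nat_lit 4) (nat_lit 314) (Steps.bwd (nat_lit 8) (Steps.bwd (nat_lit 4) (Steps.bwd (nat_lit 9) (Steps.fwd (nat_lit 1048576) (Steps.fwd (nat_lit 2359296) (Steps.bwd (nat_lit 4) (Steps.fwd (nat_lit 2097152) (Steps.fwd (nat_lit 1048576) (Steps.fwd (nat_lit 2359296) (Steps.bwd (nat_lit 4) (Steps.fwd (nat_lit 2097152) (Steps.fwd (nat_lit 1048576) (Steps.bwd (nat_lit 8) (Steps.bwd (nat_lit 4) (Steps.fwd (nat_lit 2097152) Steps.nil))))))))))))))) (nat_lit 106) (nat_lit 0),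
  Rule.mk (nat_lit 8) (nat_lit 314) (Steps.bwd (nat_lit 4) (Steps.bwd (nat_lit 9) (Steps.bwd (nat_lit 4) (Steps.fwd (nat_lit 2359296) (Steps.fwd (nat_lit 1048576) (Steps.fwd (nat_lit 2097152) (Steps.fwd (nat_lit 1048576) (Steps.fwd (nat_lit 2359296) (Steps.bwd (nat_lit 4) (Steps.bwd (nat_lit 9) (Steps.bwd (nat_lit 4) (Steps.bwd (nat_lit 8) (Steps.bwd (nat_lit 4) (Steps.fwd (nat_lit 2097152) (Steps.bwd (nat_lit 4) Steps.nil))))))))))))))) (nat_lit 106) (nat_lit 1),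
  Rule.mk (nat_lit 9) (nat_lit 314) (Steps.bwd (nat_lit 4) (Steps.bwd (nat_lit 8) (Steps.fwd (nat_lit 1048576) (Steps.bwd (nat_lit 9) (Steps.fwd (nat_lit 1048576) (Steps.bwd (nat_lit 8) (Steps.fwd (nat_lit 1048576) (Steps.fwd (nat_lit 2097152) (Steps.fwd (nat_lit 1048576) (Steps.bwd (nat_lit 8) (Steps.fwd (nat_lit 1048576) (Steps.bwd (nat_lit 9) (Steps.fwd (nat_lit 1048576) (Steps.bwd (nat_lit 8) (Steps.fwd (nat_lit 1048576) Steps.nil))))))))))))))) (nat_lit 106) (nat_lit 3),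
  Rule.mk (nat_lit 8) (nat_lit 314) (Steps.bwd (nat_lit 4) (Steps.bwd (nat_lit 9) (Steps.bwd (nat_lit 4) (Steps.fwd (nat_lit 2359296) (Steps.fwd (nat_lit 1048576) (Steps.fwd (nat_lit 2097152) (Steps.bwd (nat_lit 4) (Steps.fwd (nat_lit 2359296) (Steps.fwd (nat_lit 1048576) (Steps.fwd (nat_lit 2097152) (Steps.bwd (nat_lit 4) (Steps.fwd (nat_lit 2359296) (Steps.bwd (nat_lit 4) (Steps.bwd (nat_lit 9) (Steps.bwd (nat_lit 4) Steps.nil))))))))))))))) (nat_lit 106) (nat_lit 1),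
  Rule.mk (nat_lit 6) (nat_lit 154) (Steps.bwd (nat_lit 1) (Steps.bwd (nat_lit 4) (Steps.bwd (nat_lit 1) (Steps.fwd (nat_lit 1572864) (Steps.fwd (nat_lit 262144) (Steps.bwd (nat_lit 4) (Steps.bwd (nat_lit 1) Steps.nil))))))) (nat_lit 74) (nat_lit 0),
  Rule.mk (nat_lit 8) (nat_lit 314) (Steps.bwd (nat_lit 4) (Steps.bwd (nat_lit 9) (Steps.fwd (nat_lit 1048576) (Steps.bwd (nat_lit 8) (Steps.bwd (nat_lit 4) (Steps.bwd (nat_lit 9) (Steps.fwd (nat_lit 1048576) (Steps.fwd (nat_lit 2359296) (Steps.bwd (nat_lit 4) (Steps.bwd (nat_lit 9) (Steps.fwd (nat_lit 1048576) (Steps.fwd (nat_lit 2359296) (Steps.bwd (nat_lit 4) (Steps.bwd (nat_lit 9) (Steps.bwd (nat_lit 4) Steps.nil))))))))))))))) (nat_lit 106) (nat_lit 1),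
  Rule.mk (nat_lit 4) (nat_lit 314) (Steps.bwd (nat_lit 8) (Steps.bwd (nat_lit 4) (Steps.bwd (nat_lit 9) (Steps.bwd (nat_lit 4) (Steps.bwd (nat_lit 8) (Steps.bwd (nat_lit 4) (Steps.bwd (nat_lit 9) (Steps.bwd (nat_lit 4) (Steps.bwd (nat_lit 8) (Steps.bwd (nat_lit 4) (Steps.bwd (nat_lit 9) (Steps.bwd (nat_lit 4) (Steps.fwd (nat_lit 2359296) (Steps.fwd (nat_lit 1048576) (Steps.bwd (nat_lit 9) Steps.nil))))))))))))))) (nat_lit 106) (nat_lit 0),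
  Rule.mk (nat_lit 1) (nat_lit 154) (Steps.bwd (nat_lit 4) (Steps.fwd (nat_lit 262144) (Steps.fwd (nat_lit 1572864) (Steps.fwd (nat_lit 262144) (Steps.bwd (nat_lit 4) (Steps.bwd (nat_lit 1) (Steps.fwd (nat_lit 1572864) Steps.nil))))))) (nat_lit 74) (nat_lit 1),
  Rule.mk (nat_lit 4) (nat_lit 314) (Steps.bwd (nat_lit 8) (Steps.bwd (nat_lit 4) (Steps.bwd (nat_lit 9) (Steps.fwd (nat_lit 1048576) (Steps.fwd (nat_lit 2359296) (Steps.fwd (nat_lit 1048576) (Steps.fwd (nat_lit 2097152) (Steps.bwd (nat_lit 4) (Steps.bwd (nat_lit 8) (Steps.bwd (nat_lit 4) (Steps.bwd (nat_lit 9) (Steps.bwd (nat_lit 4) (Steps.bwd (nat_lit 8) (Steps.bwd (nat_lit 4) (Steps.bwd (nat_lit 9) Steps.nil))))))))))))))) (nat_lit 106) (nat_lit 0),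
  Rule.mk (nat_lit 4) (nat_lit 314) (Steps.bwd (nat_lit 9) (Steps.bwd (nat_lit 4) (Steps.bwd (nat_lit 8) (Steps.bwd (nat_lit 4) (Steps.bwd (nat_lit 9) (Steps.fwd (nat_lit 1048576) (Steps.bwd (nat_lit 8) (Steps.bwd (nat_lit 4) (Steps.fwd (nat_lit 2097152) (Steps.bwd (nat_lit 4) (Steps.bwd (nat_lit 8) (Steps.bwd (nat_lit 4) (Steps.bwd (nat_lit 9) (Steps.fwd (nat_lit 1048576) (Steps.fwd (nat_lit 2359296) Steps.nil))))))))))))))) (nat_lit 106) (nat_lit 2),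
  Rule.mk (nat_lit 4) (nat_lit 314) (Steps.bwd (nat_lit 8) (Steps.bwd (nat_lit 4) (Steps.bwd (nat_lit 9) (Steps.bwd (nat_lit 4) (Steps.bwd (nat_lit 8) (Steps.fwd (nat_lit 1048576) (Steps.fwd (nat_lit 2097152) (Steps.bwd (nat_lit 4) (Steps.fwd (nat_lit 2359296) (Steps.fwd (nat_lit 1048576) (Steps.fwd (nat_lit 2097152) (Steps.bwd (nat_lit 4) (Steps.fwd (nat_lit 2359296) (Steps.fwd (nat_lit 1048576) (Steps.bwd (nat_lit 9) Steps.nil))))))))))))))) (nat_lit 106) (nat_lit 0),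
  Rule.mk (nat_lit 4) (nat_lit 314) (Steps.bwd (nat_lit 9) (Steps.bwd (nat_lit 4) (Steps.fwd (nat_lit 2359296) (Steps.fwd (nat_lit 1048576) (Steps.fwd (nat_lit 2097152) (Steps.fwd (nat_lit 1048576) (Steps.fwd (nat_lit 2359296) (Steps.fwd (nat_lit 1048576) (Steps.bwd (nat_lit 9) (Steps.bwd (nat_lit 4) (Steps.bwd (nat_lit 8) (Steps.bwd (nat_lit 4) (Steps.bwd (nat_lit 9) (Steps.fwd (nat_lit 1048576) (Steps.fwd (nat_lit 2359296) Steps.nil))))))))))))))) (nat_lit 106) (nat_lit 2),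
  Rule.mk (nat_lit 4) (nat_lit 314) (Steps.bwd (nat_lit 8) (Steps.fwd (nat_lit 1048576) (Steps.bwd (nat_lit 9) (Steps.bwd (nat_lit 4) (Steps.bwd (nat_lit 8) (Steps.bwd (nat_lit 4) (Steps.fwd (nat_lit 2097152) (Steps.fwd (nat_lit 1048576) (Steps.fwd (nat_lit 2359296) (Steps.fwd (nat_lit 1048576) (Steps.fwd (nat_lit 2097152) (Steps.fwd (nat_lit 1048576) (Steps.fwd (nat_lit 2359296) (Steps.fwd (nat_lit 1048576) (Steps.bwd (nat_lit 9) Steps.nil))))))))))))))) (nat_lit 106) (nat_lit 0),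
  Rule.mk (nat_lit 9) (nat_lit 314) (Steps.fwd (nat_lit 1048576) (Steps.bwd (nat_lit 8) (Steps.bwd (nat_lit 4) (Steps.bwd (nat_lit 9) (Steps.fwd (nat_lit 1048576) (Steps.bwd (nat_lit 8) (Steps.bwd (nat_lit 4) (Steps.bwd (nat_lit 9) (Steps.fwd (nat_lit 1048576) (Steps.fwd (nat_lit 2359296) (Steps.fwd (nat_lit 1048576) (Steps.fwd (nat_lit 2097152) (Steps.fwd (nat_lit 1048576) (Steps.fwd (nat_lit 2359296) (Steps.bwd (nat_lit 4) Steps.nil))))))))))))))) (nat_lit 106) (nat_lit 3),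
  Rule.mk (nat_lit 9) (nat_lit 314) (Steps.bwd (nat_lit 4) (Steps.fwd (nat_lit 2359296) (Steps.fwd (nat_lit 1048576) (Steps.bwd (nat_lit 9) (Steps.fwd (nat_lit 1048576) (Steps.fwd (nat_lit 2359296) (Steps.fwd (nat_lit 1048576) (Steps.bwd (nat_lit 9) (Steps.bwd (nat_lit 4) (Steps.bwd (nat_lit 8) (Steps.bwd (nat_lit 4) (Steps.fwd (nat_lit 2097152) (Steps.bwd (nat_lit 4) (Steps.bwd (nat_lit 8) (Steps.fwd (nat_lit 1048576) Steps.nil))))))))))))))) (nat_lit 106) (nat_lit 3),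
  Rule.mk (nat_lit 9) (nat_lit 314) (Steps.bwd (nat_lit 4) (Steps.bwd (nat_lit 8) (Steps.fwd (nat_lit 1048576) (Steps.bwd (nat_lit 9) (Steps.fwd (nat_lit 1048576) (Steps.bwd (nat_lit 8) (Steps.bwd (nat_lit 4) (Steps.bwd (nat_lit 9) (Steps.bwd (nat_lit 4) (Steps.fwd (nat_lit 2359296) (Steps.bwd (nat_lit 4) (Steps.fwd (nat_lit 2097152) (Steps.fwd (nat_lit 1048576) (Steps.bwd (nat_lit 8) (Steps.fwd (nat_lit 1048576) Steps.nil))))))))))))))) (nat_lit 106) (nat_lit 3),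
  Rule.mk (nat_lit 4) (nat_lit 314) (Steps.bwd (nat_lit 8) (Steps.bwd (nat_lit 4) (Steps.bwd (nat_lit 9) (Steps.bwd (nat_lit 4) (Steps.fwd (nat_lit 2359296) (Steps.bwd (nat_lit 4) (Steps.bwd (nat_lit 9) (Steps.bwd (nat_lit 4) (Steps.fwd (nat_lit 2359296) (Steps.fwd (nat_lit 1048576) (Steps.fwd (nat_lit 2097152) (Steps.bwd (nat_lit 4) (Steps.fwd (nat_lit 2359296) (Steps.bwd (nat_lit 4) (Steps.fwd (nat_lit 2097152) Steps.nil))))))))))))))) (nat_lit 106) (nat_lit 0),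
  Rule.mk (nat_lit 4) (nat_lit 314) (Steps.bwd (nat_lit 8) (Steps.fwd (nat_lit 1048576) (Steps.fwd (nat_lit 2097152) (Steps.bwd (nat_lit 4) (Steps.fwd (nat_lit 2359296) (Steps.fwd (nat_lit 1048576) (Steps.bwd (nat_lit 9) (Steps.fwd (nat_lit 1048576) (Steps.fwd (nat_lit 2359296) (Steps.fwd (nat_lit 1048576) (Steps.fwd (nat_lit 2097152) (Steps.fwd (nat_lit 1048576) (Steps.fwd (nat_lit 2359296) (Steps.bwd (nat_lit 4) (Steps.bwd (nat_lit 9) Steps.nil))))))))))))))) (nat_lit 106) (nat_lit 0),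
  Rule.mk (nat_lit 4) (nat_lit 154) (Steps.bwd (nat_lit 1) (Steps.fwd (nat_lit 1572864) (Steps.fwd (nat_lit 262144) (Steps.bwd (nat_lit 4) (Steps.fwd (nat_lit 262144) (Steps.bwd (nat_lit 6) (Steps.fwd (nat_lit 262144) Steps.nil))))))) (nat_lit 74) (nat_lit 2),
  Rule.mk (nat_lit 8) (nat_lit 314) (Steps.bwd (nat_lit 4) (Steps.bwd (nat_lit 9) (Steps.fwd (nat_lit 1048576) (Steps.bwd (nat_lit 8) (Steps.bwd (nat_lit 4) (Steps.fwd (nat_lit 2097152) (Steps.fwd (nat_lit 1048576) (Steps.fwd (nat_lit 2359296) (Steps.fwd (nat_lit 1048576) (Steps.bwd (nat_lit 9) (Steps.bwd (nat_lit 4) (Steps.bwd (nat_lit 8) (Steps.fwd (nat_lit 1048576) (Steps.bwd (nat_lit 9) (Steps.bwd (nat_lit 4) Steps.nil))))))))))))))) (nat_lit 106) (nat_lit 1),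
  Rule.mk (nat_lit 8) (nat_lit 314) (Steps.bwd (nat_lit 4) (Steps.bwd (nat_lit 9) (Steps.bwd (nat_lit 4) (Steps.fwd (nat_lit 2359296) (Steps.bwd (nat_lit 4) (Steps.fwd (nat_lit 2097152) (Steps.bwd (nat_lit 4) (Steps.fwd (nat_lit 2359296) (Steps.bwd (nat_lit 4) (Steps.bwd (nat_lit 9) (Steps.bwd (nat_lit 4) (Steps.bwd (nat_lit 8) (Steps.fwd (nat_lit 1048576) (Steps.bwd (nat_lit 9) (Steps.fwd (nat_lit 1048576) Steps.nil))))))))))))))) (nat_lit 106) (nat_lit 1),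
  Rule.mk (nat_lit 3) (nat_lit 154) (Steps.bwd (nat_lit 1) (Steps.fwd (nat_lit 1310720) (Steps.bwd (nat_lit 3) (Steps.fwd (nat_lit 262144) (Steps.fwd (nat_lit 524288) (Steps.bwd (nat_lit 5) (Steps.fwd (nat_lit 262144) Steps.nil))))))) (nat_lit 71) (nat_lit 7),
  Rule.mk (nat_lit 4) (nat_lit 314) (Steps.bwd (nat_lit 8) (Steps.bwd (nat_lit 4) (Steps.bwd (nat_lit 9) (Steps.fwd (nat_lit 1048576) (Steps.fwd (nat_lit 2359296) (Steps.fwd (nat_lit 1048576) (Steps.fwd (nat_lit 2097152) (Steps.fwd (nat_lit 1048576) (Steps.fwd (nat_lit 2359296) (Steps.bwd (nat_lit 4) (Steps.bwd (nat_lit 9) (Steps.fwd (nat_lit 1048576) (Steps.bwd (nat_lit 8) (Steps.bwd (nat_lit 4) (Steps.bwd (nat_lit 9) Steps.nil))))))))))))))) (nat_lit 106) (nat_lit 0),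
  Rule.mk (nat_lit 6) (nat_lit 274) (Steps.bwd (nat_lit 1) (Steps.fwd (nat_lit 1572864) (Steps.bwd (nat_lit 5) (Steps.fwd (nat_lit 786432) (Steps.fwd (nat_lit 262144) (Steps.fwd (nat_lit 1572864) (Steps.bwd (nat_lit 1) (Steps.fwd (nat_lit 786432) (Steps.fwd (nat_lit 262144) (Steps.bwd (nat_lit 6) (Steps.fwd (nat_lit 262144) (Steps.bwd (nat_lit 2) (Steps.fwd (nat_lit 262144) Steps.nil))))))))))))) (nat_lit 34) (nat_lit 11),
  Rule.mk (nat_lit 8) (nat_lit 314) (Steps.bwd (nat_lit 4) (Steps.bwd (nat_lit 9) (Steps.bwd (nat_lit 4) (Steps.fwd (nat_lit 2359296) (Steps.bwd (nat_lit 4) (Steps.bwd (nat_lit 9) (Steps.fwd (nat_lit 1048576) (Steps.bwd (nat_lit 8) (Steps.fwd (nat_lit 1048576) (Steps.fwd (nat_lit 2097152) (Steps.bwd (nat_lit 4) (Steps.fwd (nat_lit 2359296) (Steps.fwd (nat_lit 1048576) (Steps.fwd (nat_lit 2097152) (Steps.fwd (nat_lit 1048576) Steps.nil)))))))))))))))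 (nat_lit 106) (nat_lit 1),
  Rule.mk (nat_lit 9) (nat_lit 314) (Steps.bwd (nat_lit 4) (Steps.bwd (nat_lit 8) (Steps.bwd (nat_lit 4) (Steps.bwd (nat_lit 9) (Steps.fwd (nat_lit 1048576) (Steps.bwd (nat_lit 8) (Steps.fwd (nat_lit 1048576) (Steps.bwd (nat_lit 9) (Steps.bwd (nat_lit 4) (Steps.fwd (nat_lit 2359296) (Steps.fwd (nat_lit 1048576) (Steps.bwd (nat_lit 9) (Steps.fwd (nat_lit 1048576) (Steps.bwd (nat_lit 8) (Steps.fwd (nat_lit 1048576) Steps.nil))))))))))))))) (nat_lit 106) (nat_lit 3),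
  Rule.mk (nat_lit 4) (nat_lit 314) (Steps.bwd (nat_lit 9) (Steps.bwd (nat_lit 4) (Steps.bwd (nat_lit 8) (Steps.bwd (nat_lit 4) (Steps.bwd (nat_lit 9) (Steps.fwd (nat_lit 1048576) (Steps.bwd (nat_lit 8) (Steps.bwd (nat_lit 4) (Steps.bwd (nat_lit 9) (Steps.fwd (nat_lit 1048576) (Steps.fwd (nat_lit 2359296) (Steps.bwd (nat_lit 4) (Steps.bwd (nat_lit 9) (Steps.fwd (nat_lit 1048576) (Steps.bwd (nat_lit 8) Steps.nil))))))))))))))) (nat_lit 106) (nat_lit 2),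
  Rule.mk (nat_lit 6) (nat_lit 274) (Steps.bwd (nat_lit 1) (Steps.bwd (nat_lit 2) (Steps.bwd (nat_lit 1) (Steps.fwd (nat_lit 1572864) (Steps.fwd (nat_lit 262144) (Steps.fwd (nat_lit 786432) (Steps.fwd (nat_lit 262144) (Steps.bwd (nat_lit 6) (Steps.bwd (nat_lit 1) (Steps.fwd (nat_lit 1572864) (Steps.bwd (nat_lit 5) (Steps.bwd (nat_lit 2) (Steps.fwd (nat_lit 262144) Steps.nil))))))))))))) (nat_lit 34) (nat_lit 3),
  Rule.mk (nat_lit 1) (nat_lit 274) (Steps.bwd (nat_lit 6) (Steps.bwd (nat_lit 5) (Steps.fwd (nat_lit 786432) (Steps.bwd (nat_lit 1) (Steps.fwd (nat_lit 1572864) (Steps.bwd (nat_lit 1) (Steps.bwd (nat_lit 2) (Steps.fwd (nat_lit 262144) (Steps.fwd (nat_lit 1572864) (Steps.bwd (nat_lit 1) (Steps.fwd (nat_lit 786432) (Steps.bwd (nat_lit 1) (Steps.fwd (nat_lit 1572864) Steps.nil))))))))))))) (nat_lit 34) (nat_lit 12),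
  Rule.mk (nat_lit 8) (nat_lit 94) (Steps.fwd (nat_lit 1310720) (Steps.fwd (nat_lit 2097152) (Steps.fwd (nat_lit 1835008) (Steps.bwd (nat_lit 5) Steps.nil)))) (nat_lit 101) (nat_lit 3),
  Rule.mk (nat_lit 9) (nat_lit 314) (Steps.bwd (nat_lit 4) (Steps.fwd (nat_lit 2359296) (Steps.bwd (nat_lit 4) (Steps.bwd (nat_lit 9) (Steps.bwd (nat_lit 4) (Steps.fwd (nat_lit 2359296) (Steps.bwd (nat_lit 4) (Steps.bwd (nat_lit 9) (Steps.fwd (nat_lit 1048576) (Steps.fwd (nat_lit 2359296) (Steps.fwd (nat_lit 1048576) (Steps.fwd (nat_lit 2097152) (Steps.fwd (nat_lit 1048576) (Steps.bwd (nat_lit 8) (Steps.fwd (nat_lit 1048576) Steps.nil))))))))))))))) (nat_lit 106) (nat_lit 3),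
  Rule.mk (nat_lit 8) (nat_lit 314) (Steps.bwd (nat_lit 4) (Steps.fwd (nat_lit 2097152) (Steps.fwd (nat_lit 1048576) (Steps.fwd (nat_lit 2359296) (Steps.bwd (nat_lit 4) (Steps.bwd (nat_lit 9) (Steps.bwd (nat_lit 4) (Steps.fwd (nat_lit 2359296) (Steps.bwd (nat_lit 4) (Steps.fwd (nat_lit 2097152) (Steps.bwd (nat_lit 4) (Steps.fwd (nat_lit 2359296) (Steps.fwd (nat_lit 1048576) (Steps.fwd (nat_lit 2097152) (Steps.bwd (nat_lit 4) Steps.nil))))))))))))))) (nat_lit 106) (nat_lit 1),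
  Rule.mk (nat_lit 4) (nat_lit 314) (Steps.bwd (nat_lit 9) (Steps.bwd (nat_lit 4) (Steps.bwd (nat_lit 8) (Steps.bwd (nat_lit 4) (Steps.bwd (nat_lit 9) (Steps.bwd (nat_lit 4) (Steps.fwd (nat_lit 2359296) (Steps.fwd (nat_lit 1048576) (Steps.fwd (nat_lit 2097152) (Steps.bwd (nat_lit 4) (Steps.fwd (nat_lit 2359296) (Steps.bwd (nat_lit 4) (Steps.fwd (nat_lit 2097152) (Steps.bwd (nat_lit 4) (Steps.bwd (nat_lit 8) Steps.nil))))))))))))))) (nat_lit 106) (nat_lit 2),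
  Rule.mk (nat_lit 6) (nat_lit 114) (Steps.bwd (nat_lit 3) (Steps.fwd (nat_lit 1048576) (Steps.bwd (nat_lit 5) (Steps.fwd (nat_lit 524288) (Steps.fwd (nat_lit 1048576) Steps.nil))))) (nat_lit 59) (nat_lit 2),
  Rule.mk (nat_lit 8) (nat_lit 314) (Steps.bwd (nat_lit 4) (Steps.bwd (nat_lit 9) (Steps.bwd (nat_lit 4) (Steps.fwd (nat_lit 2359296) (Steps.bwd (nat_lit 4) (Steps.fwd (nat_lit 2097152) (Steps.bwd (nat_lit 4) (Steps.bwd (nat_lit 8) (Steps.bwd (nat_lit 4) (Steps.fwd (nat_lit 2097152) (Steps.bwd (nat_lit 4) (Steps.bwd (nat_lit 8) (Steps.bwd (nat_lit 4) (Steps.bwd (nat_lit 9) (Steps.bwd (nat_lit 4) Steps.nil))))))))))))))) (nat_lit 106) (nat_lit 1),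
  Rule.mk (nat_lit 8) (nat_lit 314) (Steps.bwd (nat_lit 4) (Steps.bwd (nat_lit 9) (Steps.bwd (nat_lit 4) (Steps.fwd (nat_lit 2359296) (Steps.fwd (nat_lit 1048576) (Steps.bwd (nat_lit 9) (Steps.bwd (nat_lit 4) (Steps.fwd (nat_lit 2359296) (Steps.bwd (nat_lit 4) (Steps.bwd (nat_lit 9) (Steps.bwd (nat_lit 4) (Steps.fwd (nat_lit 2359296) (Steps.bwd (nat_lit 4) (Steps.bwd (nat_lit 9) (Steps.fwd (nat_lit 1048576) Steps.nil))))))))))))))) (nat_lit 106) (nat_lit 1),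
  Rule.mk (nat_lit 8) (nat_lit 314) (Steps.bwd (nat_lit 4) (Steps.bwd (nat_lit 9) (Steps.bwd (nat_lit 4) (Steps.fwd (nat_lit 2359296) (Steps.fwd (nat_lit 1048576) (Steps.fwd (nat_lit 2097152) (Steps.fwd (nat_lit 1048576) (Steps.bwd (nat_lit 8) (Steps.fwd (nat_lit 1048576) (Steps.bwd (nat_lit 9) (Steps.bwd (nat_lit 4) (Steps.fwd (nat_lit 2359296) (Steps.fwd (nat_lit 1048576) (Steps.bwd (nat_lit 9) (Steps.fwd (nat_lit 1048576) Steps.nil))))))))))))))) (nat_lit 106) (nat_lit 1),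
  Rule.mk (nat_lit 5) (nat_lit 114) (Steps.bwd (nat_lit 4) (Steps.bwd (nat_lit 3) (Steps.bwd (nat_lit 6) (Steps.bwd (nat_lit 4) (Steps.bwd (nat_lit 3) Steps.nil))))) (nat_lit 55) (nat_lit 4),
  Rule.mk (nat_lit 1) (nat_lit 154) (Steps.bwd (nat_lit 2) (Steps.bwd (nat_lit 1) (Steps.bwd (nat_lit 5) (Steps.bwd (nat_lit 2) (Steps.bwd (nat_lit 1) (Steps.bwd (nat_lit 2) (Steps.bwd (nat_lit 5) Steps.nil))))))) (nat_lit 70) (nat_lit 1),
  Rule.mk (nat_lit 4) (nat_lit 314) (Steps.bwd (nat_lit 8) (Steps.bwd (nat_lit 4) (Steps.bwd (nat_lit 9) (Steps.fwd (nat_lit 1048576) (Steps.bwd (nat_lit 8) (Steps.bwd (nat_lit 4) (Steps.bwd (nat_lit 9) (Steps.bwd (nat_lit 4) (Steps.fwd (nat_lit 2359296) (Steps.bwd (nat_lit 4) (Steps.fwd (nat_lit 2097152) (Steps.bwd (nat_lit 4) (Steps.fwd (nat_lit 2359296) (Steps.bwd (nat_lit 4) (Steps.fwd (nat_lit 2097152) Steps.nil))))))))))))))) (nat_lit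 106) (nat_lit 0),
  Rule.mk (nat_lit 9) (nat_lit 314) (Steps.bwd (nat_lit 4) (Steps.bwd (nat_lit 8) (Steps.bwd (nat_lit 4) (Steps.bwd (nat_lit 9) (Steps.bwd (nat_lit 4) (Steps.bwd (nat_lit 8) (Steps.fwd (nat_lit 1048576) (Steps.bwd (nat_lit 9) (Steps.fwd (nat_lit 1048576) (Steps.fwd (nat_lit 2359296) (Steps.fwd (nat_lit 1048576) (Steps.bwd (nat_lit 9) (Steps.fwd (nat_lit 1048576) (Steps.fwd (nat_lit 2359296) (Steps.bwd (nat_lit 4) Steps.nil))))))))))))))) (nat_lit 106) (nat_lit 3),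
  Rule.mk (nat_lit 1) (nat_lit 114) (Steps.fwd (nat_lit 1835008) (Steps.bwd (nat_lit 5) (Steps.fwd (nat_lit 262144) (Steps.fwd (nat_lit 1835008) (Steps.bwd (nat_lit 5) Steps.nil))))) (nat_lit 53) (nat_lit 0),
  Rule.mk (nat_lit 4) (nat_lit 314) (Steps.bwd (nat_lit 8) (Steps.bwd (nat_lit 4) (Steps.bwd (nat_lit 9) (Steps.bwd (nat_lit 4) (Steps.bwd (nat_lit 8) (Steps.fwd (nat_lit 1048576) (Steps.fwd (nat_lit 2097152) (Steps.bwd (nat_lit 4) (Steps.fwd (nat_lit 2359296) (Steps.bwd (nat_lit 4) (Steps.bwd (nat_lit 9) (Steps.fwd (nat_lit 1048576) (Steps.fwd (nat_lit 2359296) (Steps.bwd (nat_lit 4) (Steps.bwd (nat_lit 9) Steps.nil))))))))))))))) (nat_lit 106) (nat_lit 0),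
  Rule.mk (nat_lit 8) (nat_lit 314) (Steps.bwd (nat_lit 4) (Steps.fwd (nat_lit 2097152) (Steps.fwd (nat_lit 1048576) (Steps.bwd (nat_lit 8) (Steps.fwd (nat_lit 1048576) (Steps.bwd (nat_lit 9) (Steps.bwd (nat_lit 4) (Steps.fwd (nat_lit 2359296) (Steps.fwd (nat_lit 1048576) (Steps.fwd (nat_lit 2097152) (Steps.fwd (nat_lit 1048576) (Steps.fwd (nat_lit 2359296) (Steps.bwd (nat_lit 4) (Steps.bwd (nat_lit 9) (Steps.fwd (nat_lit 1048576) Steps.nil))))))))))))))) (nat_lit 106) (nat_lit 1),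
  Rule.mk (nat_lit 4) (nat_lit 314) (Steps.bwd (nat_lit 8) (Steps.bwd (nat_lit 4) (Steps.bwd (nat_lit 9) (Steps.bwd (nat_lit 4) (Steps.bwd (nat_lit 8) (Steps.fwd (nat_lit 1048576) (Steps.fwd (nat_lit 2097152) (Steps.fwd (nat_lit 1048576) (Steps.fwd (nat_lit 2359296) (Steps.fwd (nat_lit 1048576) (Steps.bwd (nat_lit 9) (Steps.fwd (nat_lit 1048576) (Steps.fwd (nat_lit 2359296) (Steps.bwd (nat_lit 4) (Steps.bwd (nat_lit 9) Steps.nil))))))))))))))) (nat_lit 106) (nat_lit 0),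
  Rule.mk (nat_lit 8) (nat_lit 314) (Steps.bwd (nat_lit 4) (Steps.bwd (nat_lit 9) (Steps.bwd (nat_lit 4) (Steps.bwd (nat_lit 8) (Steps.bwd (nat_lit 4) (Steps.fwd (nat_lit 2097152) (Steps.fwd (nat_lit 1048576) (Steps.bwd (nat_lit 8) (Steps.fwd (nat_lit 1048576) (Steps.fwd (nat_lit 2097152) (Steps.bwd (nat_lit 4) (Steps.fwd (nat_lit 2359296) (Steps.bwd (nat_lit 4) (Steps.bwd (nat_lit 9) (Steps.fwd (nat_lit 1048576) Steps.nil))))))))))))))) (nat_lit 106) (nat_lit 1),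
  Rule.mk (nat_lit 4) (nat_lit 314) (Steps.bwd (nat_lit 8) (Steps.bwd (nat_lit 4) (Steps.bwd (nat_lit 9) (Steps.fwd (nat_lit 1048576) (Steps.fwd (nat_lit 2359296) (Steps.bwd (nat_lit 4) (Steps.bwd (nat_lit 9) (Steps.fwd (nat_lit 1048576) (Steps.fwd (nat_lit 2359296) (Steps.fwd (nat_lit 1048576) (Steps.bwd (nat_lit 9) (Steps.fwd (nat_lit 1048576) (Steps.fwd (nat_lit 2359296) (Steps.fwd (nat_lit 1048576) (Steps.bwd (nat_lit 9) Steps.nil))))))))))))))) (nat_lit 106) (nat_lit 0),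
  Rule.mk (nat_lit 9) (nat_lit 314) (Steps.bwd (nat_lit 4) (Steps.bwd (nat_lit 8) (Steps.bwd (nat_lit 4) (Steps.bwd (nat_lit 9) (Steps.fwd (nat_lit 1048576) (Steps.fwd (nat_lit 2359296) (Steps.fwd (nat_lit 1048576) (Steps.bwd (nat_lit 9) (Steps.bwd (nat_lit 4) (Steps.bwd (nat_lit 8) (Steps.fwd (nat_lit 1048576) (Steps.bwd (nat_lit 9) (Steps.bwd (nat_lit 4) (Steps.fwd (nat_lit 2359296) (Steps.fwd (nat_lit 1048576) Steps.nil))))))))))))))) (nat_lit 106) (nat_lit 3),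
  Rule.mk (nat_lit 8) (nat_lit 314) (Steps.bwd (nat_lit 4) (Steps.fwd (nat_lit 2097152) (Steps.bwd (nat_lit 4) (Steps.bwd (nat_lit 8) (Steps.bwd (nat_lit 4) (Steps.bwd (nat_lit 9) (Steps.bwd (nat_lit 4) (Steps.bwd (nat_lit 8) (Steps.bwd (nat_lit 4) (Steps.bwd (nat_lit 9) (Steps.fwd (nat_lit 1048576) (Steps.fwd (nat_lit 2359296) (Steps.fwd (nat_lit 1048576) (Steps.fwd (nat_lit 2097152) (Steps.fwd (nat_lit 1048576) Steps.nil))))))))))))))) (nat_lit 106) (nat_lit 1),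
  Rule.mk (nat_lit 4) (nat_lit 314) (Steps.bwd (nat_lit 8) (Steps.bwd (nat_lit 4) (Steps.bwd (nat_lit 9) (Steps.bwd (nat_lit 4) (Steps.bwd (nat_lit 8) (Steps.fwd (nat_lit 1048576) (Steps.bwd (nat_lit 9) (Steps.bwd (nat_lit 4) (Steps.fwd (nat_lit 2359296) (Steps.fwd (nat_lit 1048576) (Steps.bwd (nat_lit 9) (Steps.bwd (nat_lit 4) (Steps.fwd (nat_lit 2359296) (Steps.bwd (nat_lit 4) (Steps.bwd (nat_lit 9) Steps.nil))))))))))))))) (nat_lit 106) (nat_lit 0),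
  Rule.mk (nat_lit 4) (nat_lit 314) (Steps.bwd (nat_lit 9) (Steps.bwd (nat_lit 4) (Steps.fwd (nat_lit 2359296) (Steps.bwd (nat_lit 4) (Steps.bwd (nat_lit 9) (Steps.fwd (nat_lit 1048576) (Steps.bwd (nat_lit 8) (Steps.bwd (nat_lit 4) (Steps.bwd (nat_lit 9) (Steps.fwd (nat_lit 1048576) (Steps.bwd (nat_lit 8) (Steps.fwd (nat_lit 1048576) (Steps.bwd (nat_lit 9) (Steps.bwd (nat_lit 4) (Steps.fwd (nat_lit 2359296) Steps.nil))))))))))))))) (nat_lit 106) (nat_lit 2),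
  Rule.mk (nat_lit 9) (nat_lit 314) (Steps.bwd (nat_lit 4) (Steps.bwd (nat_lit 8) (Steps.bwd (nat_lit 4) (Steps.fwd (nat_lit 2097152) (Steps.bwd (nat_lit 4) (Steps.fwd (nat_lit 2359296) (Steps.fwd (nat_lit 1048576) (Steps.bwd (nat_lit 9) (Steps.bwd (nat_lit 4) (Steps.bwd (nat_lit 8) (Steps.bwd (nat_lit 4) (Steps.fwd (nat_lit 2097152) (Steps.bwd (nat_lit 4) (Steps.fwd (nat_lit 2359296) (Steps.fwd (nat_lit 1048576) Steps.nil))))))))))))))) (nat_lit 106) (nat_lit 3),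
  Rule.mk (nat_lit 4) (nat_lit 314) (Steps.bwd (nat_lit 8) (Steps.fwd (nat_lit 1048576) (Steps.fwd (nat_lit 2097152) (Steps.bwd (nat_lit 4) (Steps.fwd (nat_lit 2359296) (Steps.bwd (nat_lit 4) (Steps.bwd (nat_lit 9) (Steps.bwd (nat_lit 4) (Steps.bwd (nat_lit 8) (Steps.fwd (nat_lit 1048576) (Steps.fwd (nat_lit 2097152) (Steps.bwd (nat_lit 4) (Steps.fwd (nat_lit 2359296) (Steps.fwd (nat_lit 1048576) (Steps.fwd (nat_lit 2097152) Steps.nil))))))))))))))) (nat_lit 106) (nat_lit 0),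
  Rule.mk (nat_lit 4) (nat_lit 314) (Steps.bwd (nat_lit 9) (Steps.fwd (nat_lit 1048576) (Steps.fwd (nat_lit 2359296) (Steps.fwd (nat_lit 1048576) (Steps.fwd (nat_lit 2097152) (Steps.fwd (nat_lit 1048576) (Steps.fwd (nat_lit 2359296) (Steps.fwd (nat_lit 1048576) (Steps.bwd (nat_lit 9) (Steps.fwd (nat_lit 1048576) (Steps.bwd (nat_lit 8) (Steps.fwd (nat_lit 1048576) (Steps.bwd (nat_lit 9) (Steps.fwd (nat_lit 1048576) (Steps.fwd (nat_lit 2359296) Steps.nil))))))))))))))) (nat_lit 106) (nat_lit 2),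
  Rule.mk (nat_lit 6) (nat_lit 274) (Steps.bwd (nat_lit 1) (Steps.fwd (nat_lit 786432) (Steps.bwd (nat_lit 1) (Steps.fwd (nat_lit 1572864) (Steps.fwd (nat_lit 262144) (Steps.fwd (nat_lit 786432) (Steps.bwd (nat_lit 1) (Steps.bwd (nat_lit 6) (Steps.fwd (nat_lit 262144) (Steps.bwd (nat_lit 6) (Steps.fwd (nat_lit 1310720) (Steps.bwd (nat_lit 2) (Steps.fwd (nat_lit 262144) Steps.nil))))))))))))) (nat_lit 34) (nat_lit 3),
  Rule.mk (nat_lit 8) (nat_lit 314) (Steps.bwd (nat_lit 4) (Steps.fwd (nat_lit 2097152) (Steps.fwd (nat_lit 1048576) (Steps.fwd (nat_lit 2359296) (Steps.bwd (nat_lit 4) (Steps.bwd (nat_lit 9) (Steps.bwd (nat_lit 4) (Steps.fwd (nat_lit 2359296) (Steps.bwd (nat_lit 4) (Steps.bwd (nat_lit 9) (Steps.fwd (nat_lit 1048576) (Steps.bwd (nat_lit 8) (Steps.bwd (nat_lit 4) (Steps.bwd (nat_lit 9) (Steps.fwd (nat_lit 1048576) Steps.nil))))))))))))))) (nat_lit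 106) (nat_lit 1),
  Rule.mk (nat_lit 4) (nat_lit 314) (Steps.bwd (nat_lit 9) (Steps.bwd (nat_lit 4) (Steps.bwd (nat_lit 8) (Steps.bwd (nat_lit 4) (Steps.bwd (nat_lit 9) (Steps.bwd (nat_lit 4) (Steps.bwd (nat_lit 8) (Steps.bwd (nat_lit 4) (Steps.bwd (nat_lit 9) (Steps.fwd (nat_lit 1048576) (Steps.fwd (nat_lit 2359296) (Steps.bwd (nat_lit 4) (Steps.bwd (nat_lit 9) (Steps.fwd (nat_lit 1048576) (Steps.fwd (nat_lit 2359296) Steps.nil))))))))))))))) (nat_lit 106) (nat_lit 2),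
  Rule.mk (nat_lit 4) (nat_lit 314) (Steps.bwd (nat_lit 9) (Steps.bwd (nat_lit 4) (Steps.bwd (nat_lit 8) (Steps.bwd (nat_lit 4) (Steps.bwd (nat_lit 9) (Steps.bwd (nat_lit 4) (Steps.fwd (nat_lit 2359296) (Steps.fwd (nat_lit 1048576) (Steps.fwd (nat_lit 2097152) (Steps.fwd (nat_lit 1048576) (Steps.bwd (nat_lit 8) (Steps.fwd (nat_lit 1048576) (Steps.bwd (nat_lit 9) (Steps.fwd (nat_lit 1048576) (Steps.fwd (nat_lit 2359296) Steps.nil))))))))))))))) (nat_lit 106) (nat_lit 2)]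
noncomputable def R_119 : List (Rule) := [Rule.mk (nat_lit 4) (nat_lit 314) (Steps.bwd (nat_lit 9) (Steps.fwd (nat_lit 1048576) (Steps.fwd (nat_lit 2359296) (Steps.fwd (nat_lit 1048576) (Steps.fwd (nat_lit 2097152) (Steps.bwd (nat_lit 4) (Steps.bwd (nat_lit 8) (Steps.fwd (nat_lit 1048576) (Steps.fwd (nat_lit 2097152) (Steps.fwd (nat_lit 1048576) (Steps.fwd (nat_lit 2359296) (Steps.fwd (nat_lit 1048576) (Steps.fwd (nat_lit 2097152) (Steps.bwd (nat_lit 4) (Steps.bwd (nat_lit 8) Steps.nil))))))))))))))) (nat_lit 106) (nat_lit 2),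
  Rule.mk (nat_lit 1) (nat_lit 154) (Steps.fwd (nat_lit 1572864) (Steps.bwd (nat_lit 1) (Steps.bwd (nat_lit 4) (Steps.fwd (nat_lit 262144) (Steps.fwd (nat_lit 1572864) (Steps.bwd (nat_lit 1) (Steps.bwd (nat_lit 4) Steps.nil))))))) (nat_lit 74) (nat_lit 3),
  Rule.mk (nat_lit 4) (nat_lit 314) (Steps.bwd (nat_lit 9) (Steps.fwd (nat_lit 1048576) (Steps.fwd (nat_lit 2359296) (Steps.bwd (nat_lit 4) (Steps.fwd (nat_lit 2097152) (Steps.fwd (nat_lit 1048576) (Steps.bwd (nat_lit 8) (Steps.bwd (nat_lit 4) (Steps.fwd (nat_lit 2097152) (Steps.fwd (nat_lit 1048576) (Steps.bwd (nat_lit 8) (Steps.bwd (nat_lit 4) (Steps.bwd (nat_lit 9) (Steps.bwd (nat_lit 4) (Steps.fwd (nat_lit 2359296) Steps.nil))))))))))))))) (nat_lit 106) (nat_lit 2),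
  Rule.mk (nat_lit 9) (nat_lit 314) (Steps.fwd (nat_lit 1048576) (Steps.bwd (nat_lit 8) (Steps.fwd (nat_lit 1048576) (Steps.fwd (nat_lit 2097152) (Steps.bwd (nat_lit 4) (Steps.fwd (nat_lit 2359296) (Steps.bwd (nat_lit 4) (Steps.fwd (nat_lit 2097152) (Steps.bwd (nat_lit 4) (Steps.fwd (nat_lit 2359296) (Steps.fwd (nat_lit 1048576) (Steps.bwd (nat_lit 9) (Steps.bwd (nat_lit 4) (Steps.fwd (nat_lit 2359296) (Steps.bwd (nat_lit 4) Steps.nil))))))))))))))) (nat_lit 106) (nat_lit 3),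
  Rule.mk (nat_lit 4) (nat_lit 314) (Steps.bwd (nat_lit 9) (Steps.bwd (nat_lit 4) (Steps.fwd (nat_lit 2359296) (Steps.fwd (nat_lit 1048576) (Steps.fwd (nat_lit 2097152) (Steps.bwd (nat_lit 4) (Steps.fwd (nat_lit 2359296) (Steps.fwd (nat_lit 1048576) (Steps.bwd (nat_lit 9) (Steps.fwd (nat_lit 1048576) (Steps.fwd (nat_lit 2359296) (Steps.fwd (nat_lit 1048576) (Steps.fwd (nat_lit 2097152) (Steps.bwd (nat_lit 4) (Steps.fwd (nat_lit 2359296) Steps.nil))))))))))))))) (nat_lit 106) (nat_lit 2),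
  Rule.mk (nat_lit 3) (nat_lit 154) (Steps.bwd (nat_lit 1) (Steps.bwd (nat_lit 5) (Steps.bwd (nat_lit 3) (Steps.fwd (nat_lit 262144) (Steps.fwd (nat_lit 524288) (Steps.bwd (nat_lit 5) (Steps.bwd (nat_lit 1) Steps.nil))))))) (nat_lit 71) (nat_lit 7),
  Rule.mk (nat_lit 4) (nat_lit 314) (Steps.bwd (nat_lit 8) (Steps.fwd (nat_lit 1048576) (Steps.bwd (nat_lit 9) (Steps.bwd (nat_lit 4) (Steps.bwd (nat_lit 8) (Steps.bwd (nat_lit 4) (Steps.bwd (nat_lit 9) (Steps.fwd (nat_lit 1048576) (Steps.bwd (nat_lit 8) (Steps.fwd (nat_lit 1048576) (Steps.bwd (nat_lit 9) (Steps.fwd (nat_lit 1048576) (Steps.bwd (nat_lit 8) (Steps.bwd (nat_lit 4) (Steps.fwd (nat_lit 2097152) Steps.nil))))))))))))))) (nat_lit 106) (nat_lit 0),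
  Rule.mk (nat_lit 7) (nat_lit 154) (Steps.fwd (nat_lit 262144) (Steps.fwd (nat_lit 1048576) (Steps.bwd (nat_lit 1) (Steps.bwd (nat_lit 7) (Steps.fwd (nat_lit 1048576) (Steps.bwd (nat_lit 1) (Steps.bwd (nat_lit 4) Steps.nil))))))) (nat_lit 76) (nat_lit 0),
  Rule.mk (nat_lit 9) (nat_lit 314) (Steps.bwd (nat_lit 4) (Steps.bwd (nat_lit 8) (Steps.bwd (nat_lit 4) (Steps.bwd (nat_lit 9) (Steps.bwd (nat_lit 4) (Steps.bwd (nat_lit 8) (Steps.fwd (nat_lit 1048576) (Steps.fwd (nat_lit 2097152) (Steps.fwd (nat_lit 1048576) (Steps.bwd (nat_lit 8) (Steps.fwd (nat_lit 1048576) (Steps.bwd (nat_lit 9) (Steps.fwd (nat_lit 1048576) (Steps.fwd (nat_lit 2359296) (Steps.bwd (nat_lit 4) Steps.nil))))))))))))))) (nat_lit 106) (nat_lit 3),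
  Rule.mk (nat_lit 9) (nat_lit 314) (Steps.bwd (nat_lit 4) (Steps.bwd (nat_lit 8) (Steps.bwd (nat_lit 4) (Steps.bwd (nat_lit 9) (Steps.bwd (nat_lit 4) (Steps.fwd (nat_lit 2359296) (Steps.bwd (nat_lit 4) (Steps.bwd (nat_lit 9) (Steps.fwd (nat_lit 1048576) (Steps.fwd (nat_lit 2359296) (Steps.bwd (nat_lit 4) (Steps.bwd (nat_lit 9) (Steps.fwd (nat_lit 1048576) (Steps.fwd (nat_lit 2359296) (Steps.fwd (nat_lit 1048576) Steps.nil))))))))))))))) (nat_lit 106) (nat_lit 3),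
  Rule.mk (nat_lit 9) (nat_lit 314) (Steps.bwd (nat_lit 4) (Steps.bwd (nat_lit 8) (Steps.fwd (nat_lit 1048576) (Steps.fwd (nat_lit 2097152) (Steps.bwd (nat_lit 4) (Steps.bwd (nat_lit 8) (Steps.bwd (nat_lit 4) (Steps.bwd (nat_lit 9) (Steps.bwd (nat_lit 4) (Steps.bwd (nat_lit 8) (Steps.fwd (nat_lit 1048576) (Steps.fwd (nat_lit 2097152) (Steps.fwd (nat_lit 1048576) (Steps.fwd (nat_lit 2359296) (Steps.bwd (nat_lit 4) Steps.nil))))))))))))))) (nat_lit 106) (nat_lit 3),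
  Rule.mk (nat_lit 1) (nat_lit 274) (Steps.bwd (nat_lit 6) (Steps.fwd (nat_lit 1310720) (Steps.fwd (nat_lit 786432) (Steps.bwd (nat_lit 1) (Steps.fwd (nat_lit 1572864) (Steps.bwd (nat_lit 1) (Steps.fwd (nat_lit 786432) (Steps.bwd (nat_lit 1) (Steps.bwd (nat_lit 6) (Steps.bwd (nat_lit 1) (Steps.bwd (nat_lit 2) (Steps.bwd (nat_lit 1) (Steps.bwd (nat_lit 6) Steps.nil))))))))))))) (nat_lit 34) (nat_lit 12),
  Rule.mk (nat_lit 8) (nat_lit 314) (Steps.bwd (nat_lit 4) (Steps.bwd (nat_lit 9) (Steps.bwd (nat_lit 4) (Steps.fwd (nat_lit 2359296) (Steps.fwd (nat_lit 1048576) (Steps.fwd (nat_lit 2097152) (Steps.bwd (nat_lit 4) (Steps.bwd (nat_lit 8) (Steps.fwd (nat_lit 1048576) (Steps.bwd (nat_lit 9) (Steps.fwd (nat_lit 1048576) (Steps.fwd (nat_lit 2359296) (Steps.bwd (nat_lit 4) (Steps.bwd (nat_lit 9) (Steps.bwd (nat_lit 4) Steps.nil))))))))))))))) (nat_lit 106) (nat_lit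 1),
  Rule.mk (nat_lit 4) (nat_lit 314) (Steps.bwd (nat_lit 9) (Steps.bwd (nat_lit 4) (Steps.fwd (nat_lit 2359296) (Steps.bwd (nat_lit 4) (Steps.bwd (nat_lit 9) (Steps.bwd (nat_lit 4) (Steps.fwd (nat_lit 2359296) (Steps.fwd (nat_lit 1048576) (Steps.bwd (nat_lit 9) (Steps.bwd (nat_lit 4) (Steps.bwd (nat_lit 8) (Steps.bwd (nat_lit 4) (Steps.bwd (nat_lit 9) (Steps.bwd (nat_lit 4) (Steps.fwd (nat_lit 2359296) Steps.nil))))))))))))))) (nat_lit 106) (nat_lit 2),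
  Rule.mk (nat_lit 4) (nat_lit 314) (Steps.bwd (nat_lit 9) (Steps.fwd (nat_lit 1048576) (Steps.bwd (nat_lit 8) (Steps.fwd (nat_lit 1048576) (Steps.bwd (nat_lit 9) (Steps.bwd (nat_lit 4) (Steps.bwd (nat_lit 8) (Steps.fwd (nat_lit 1048576) (Steps.fwd (nat_lit 2097152) (Steps.fwd (nat_lit 1048576) (Steps.fwd (nat_lit 2359296) (Steps.fwd (nat_lit 1048576) (Steps.bwd (nat_lit 9) (Steps.bwd (nat_lit 4) (Steps.bwd (nat_lit 8) Steps.nil))))))))))))))) (nat_lit 106) (nat_lit 2),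
  Rule.mk (nat_lit 1) (nat_lit 154) (Steps.fwd (nat_lit 1572864) (Steps.bwd (nat_lit 1) (Steps.fwd (nat_lit 1048576) (Steps.fwd (nat_lit 262144) (Steps.fwd (nat_lit 1572864) (Steps.bwd (nat_lit 1) (Steps.bwd (nat_lit 4) Steps.nil))))))) (nat_lit 74) (nat_lit 3),
  Rule.mk (nat_lit 4) (nat_lit 314) (Steps.bwd (nat_lit 9) (Steps.bwd (nat_lit 4) (Steps.fwd (nat_lit 2359296) (Steps.bwd (nat_lit 4) (Steps.fwd (nat_lit 2097152) (Steps.fwd (nat_lit 1048576) (Steps.fwd (nat_lit 2359296) (Steps.fwd (nat_lit 1048576) (Steps.fwd (nat_lit 2097152) (Steps.bwd (nat_lit 4) (Steps.bwd (nat_lit 8) (Steps.fwd (nat_lit 1048576) (Steps.fwd (nat_lit 2097152) (Steps.fwd (nat_lit 1048576) (Steps.bwd (nat_lit 8) Steps.nil))))))))))))))) (nat_lit 106) (nat_lit 2),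
  Rule.mk (nat_lit 1) (nat_lit 154) (Steps.bwd (nat_lit 2) (Steps.bwd (nat_lit 1) (Steps.fwd (nat_lit 1310720) (Steps.bwd (nat_lit 2) (Steps.fwd (nat_lit 262144) (Steps.fwd (nat_lit 786432) (Steps.bwd (nat_lit 5) Steps.nil))))))) (nat_lit 70) (nat_lit 1),
  Rule.mk (nat_lit 6) (nat_lit 274) (Steps.bwd (nat_lit 1) (Steps.fwd (nat_lit 786432) (Steps.fwd (nat_lit 262144) (Steps.fwd (nat_lit 1572864) (Steps.bwd (nat_lit 1) (Steps.bwd (nat_lit 2) (Steps.bwd (nat_lit 1) (Steps.fwd (nat_lit 1572864) (Steps.bwd (nat_lit 1) (Steps.bwd (nat_lit 6) (Steps.fwd (nat_lit 1310720) (Steps.bwd (nat_lit 2) (Steps.fwd (nat_lit 262144) Steps.nil))))))))))))) (nat_lit 34) (nat_lit 3),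
  Rule.mk (nat_lit 9) (nat_lit 314) (Steps.fwd (nat_lit 1048576) (Steps.fwd (nat_lit 2359296) (Steps.bwd (nat_lit 4) (Steps.bwd (nat_lit 9) (Steps.fwd (nat_lit 1048576) (Steps.fwd (nat_lit 2359296) (Steps.fwd (nat_lit 1048576) (Steps.fwd (nat_lit 2097152) (Steps.bwd (nat_lit 4) (Steps.bwd (nat_lit 8) (Steps.fwd (nat_lit 1048576) (Steps.fwd (nat_lit 2097152) (Steps.fwd (nat_lit 1048576) (Steps.bwd (nat_lit 8) (Steps.bwd (nat_lit 4) Steps.nil))))))))))))))) (nat_lit 106) (nat_lit 3),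
  Rule.mk (nat_lit 6) (nat_lit 274) (Steps.bwd (nat_lit 5) (Steps.fwd (nat_lit 786432) (Steps.bwd (nat_lit 1) (Steps.fwd (nat_lit 1572864) (Steps.fwd (nat_lit 262144) (Steps.fwd (nat_lit 786432) (Steps.fwd (nat_lit 262144) (Steps.bwd (nat_lit 6) (Steps.bwd (nat_lit 1) (Steps.fwd (nat_lit 786432) (Steps.fwd (nat_lit 262144) (Steps.bwd (nat_lit 6) (Steps.bwd (nat_lit 1) Steps.nil))))))))))))) (nat_lit 34) (nat_lit 13),
  Rule.mk (nat_lit 1) (nat_lit 154) (Steps.bwd (nat_lit 6) (Steps.bwd (nat_lit 1) (Steps.fwd (nat_lit 1048576) (Steps.bwd (nat_lit 1) (Steps.bwd (nat_lit 6) (Steps.bwd (nat_lit 1) (Steps.fwd (nat_lit 1048576) Steps.nil))))))) (nat_lit 74) (nat_lit 3),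
  Rule.mk (nat_lit 9) (nat_lit 314) (Steps.bwd (nat_lit 4) (Steps.fwd (nat_lit 2359296) (Steps.fwd (nat_lit 1048576) (Steps.bwd (nat_lit 9) (Steps.bwd (nat_lit 4) (Steps.bwd (nat_lit 8) (Steps.fwd (nat_lit 1048576) (Steps.fwd (nat_lit 2097152) (Steps.fwd (nat_lit 1048576) (Steps.fwd (nat_lit 2359296) (Steps.fwd (nat_lit 1048576) (Steps.fwd (nat_lit 2097152) (Steps.fwd (nat_lit 1048576) (Steps.bwd (nat_lit 8) (Steps.bwd (nat_lit 4) Steps.nil))))))))))))))) (nat_lit 106) (nat_lit 3),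
  Rule.mk (nat_lit 8) (nat_lit 314) (Steps.bwd (nat_lit 4) (Steps.fwd (nat_lit 2097152) (Steps.fwd (nat_lit 1048576) (Steps.fwd (nat_lit 2359296) (Steps.fwd (nat_lit 1048576) (Steps.fwd (nat_lit 2097152) (Steps.bwd (nat_lit 4) (Steps.fwd (nat_lit 2359296) (Steps.fwd (nat_lit 1048576) (Steps.bwd (nat_lit 9) (Steps.fwd (nat_lit 1048576) (Steps.fwd (nat_lit 2359296) (Steps.fwd (nat_lit 1048576) (Steps.bwd (nat_lit 9) (Steps.bwd (nat_lit 4) Steps.nil))))))))))))))) (nat_lit 106) (nat_lit 1),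
  Rule.mk (nat_lit 8) (nat_lit 314) (Steps.bwd (nat_lit 4) (Steps.bwd (nat_lit 9) (Steps.fwd (nat_lit 1048576) (Steps.bwd (nat_lit 8) (Steps.bwd (nat_lit 4) (Steps.fwd (nat_lit 2097152) (Steps.fwd (nat_lit 1048576) (Steps.fwd (nat_lit 2359296) (Steps.fwd (nat_lit 1048576) (Steps.bwd (nat_lit 9) (Steps.fwd (nat_lit 1048576) (Steps.fwd (nat_lit 2359296) (Steps.bwd (nat_lit 4) (Steps.bwd (nat_lit 9) (Steps.fwd (nat_lit 1048576) Steps.nil))))))))))))))) (nat_lit 106) (nat_lit 1),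
  Rule.mk (nat_lit 4) (nat_lit 314) (Steps.bwd (nat_lit 9) (Steps.fwd (nat_lit 1048576) (Steps.fwd (nat_lit 2359296) (Steps.bwd (nat_lit 4) (Steps.bwd (nat_lit 9) (Steps.bwd (nat_lit 4) (Steps.bwd (nat_lit 8) (Steps.fwd (nat_lit 1048576) (Steps.fwd (nat_lit 2097152) (Steps.bwd (nat_lit 4) (Steps.bwd (nat_lit 8) (Steps.fwd (nat_lit 1048576) (Steps.bwd (nat_lit 9) (Steps.bwd (nat_lit 4) (Steps.bwd (nat_lit 8) Steps.nil))))))))))))))) (nat_lit 106) (nat_lit 2),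
  Rule.mk (nat_lit 6) (nat_lit 274) (Steps.bwd (nat_lit 1) (Steps.fwd (nat_lit 1572864) (Steps.fwd (nat_lit 1310720) (Steps.fwd (nat_lit 786432) (Steps.fwd (nat_lit 262144) (Steps.bwd (nat_lit 6) (Steps.bwd (nat_lit 1) (Steps.bwd (nat_lit 2) (Steps.bwd (nat_lit 1) (Steps.fwd (nat_lit 1572864) (Steps.bwd (nat_lit 1) (Steps.bwd (nat_lit 2) (Steps.fwd (nat_lit 262144) Steps.nil))))))))))))) (nat_lit 34) (nat_lit 11),
  Rule.mk (nat_lit 9) (nat_lit 314) (Steps.bwd (nat_lit 4) (Steps.bwd (nat_lit 8) (Steps.bwd (nat_lit 4) (Steps.bwd (nat_lit 9) (Steps.fwd (nat_lit 1048576) (Steps.fwd (nat_lit 2359296) (Steps.bwd (nat_lit 4) (Steps.bwd (nat_lit 9) (Steps.bwd (nat_lit 4) (Steps.fwd (nat_lit 2359296) (Steps.bwd (nat_lit 4) (Steps.bwd (nat_lit 9) (Steps.fwd (nat_lit 1048576) (Steps.bwd (nat_lit 8) (Steps.fwd (nat_lit 1048576) Steps.nil))))))))))))))) (nat_lit 106) (nat_lit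 3),
  Rule.mk (nat_lit 1) (nat_lit 274) (Steps.bwd (nat_lit 6) (Steps.bwd (nat_lit 1) (Steps.fwd (nat_lit 524288) (Steps.bwd (nat_lit 1) (Steps.bwd (nat_lit 6) (Steps.fwd (nat_lit 262144) (Steps.fwd (nat_lit 524288) (Steps.bwd (nat_lit 1) (Steps.fwd (nat_lit 1572864) (Steps.bwd (nat_lit 1) (Steps.fwd (nat_lit 524288) (Steps.bwd (nat_lit 5) (Steps.fwd (nat_lit 1572864) Steps.nil))))))))))))) (nat_lit 35) (nat_lit 3),
  Rule.mk (nat_lit 8) (nat_lit 314) (Steps.bwd (nat_lit 4) (Steps.bwd (nat_lit 9) (Steps.fwd (nat_lit 1048576) (Steps.fwd (nat_lit 2359296) (Steps.bwd (nat_lit 4) (Steps.fwd (nat_lit 2097152) (Steps.fwd (nat_lit 1048576) (Steps.fwd (nat_lit 2359296) (Steps.bwd (nat_lit 4) (Steps.bwd (nat_lit 9) (Steps.fwd (nat_lit 1048576) (Steps.fwd (nat_lit 2359296) (Steps.bwd (nat_lit 4) (Steps.bwd (nat_lit 9) (Steps.fwd (nat_lit 1048576) Steps.nil)))))))))))))))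 (nat_lit 106) (nat_lit 1),
  Rule.mk (nat_lit 4) (nat_lit 314) (Steps.bwd (nat_lit 9) (Steps.bwd (nat_lit 4) (Steps.fwd (nat_lit 2359296) (Steps.fwd (nat_lit 1048576) (Steps.bwd (nat_lit 9) (Steps.fwd (nat_lit 1048576) (Steps.fwd (nat_lit 2359296) (Steps.bwd (nat_lit 4) (Steps.fwd (nat_lit 2097152) (Steps.fwd (nat_lit 1048576) (Steps.fwd (nat_lit 2359296) (Steps.fwd (nat_lit 1048576) (Steps.bwd (nat_lit 9) (Steps.fwd (nat_lit 1048576) (Steps.fwd (nat_lit 2359296) Steps.nil))))))))))))))) (nat_lit 106) (nat_lit 2),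
  Rule.mk (nat_lit 1) (nat_lit 274) (Steps.bwd (nat_lit 6) (Steps.fwd (nat_lit 1310720) (Steps.bwd (nat_lit 2) (Steps.fwd (nat_lit 262144) (Steps.fwd (nat_lit 1572864) (Steps.fwd (nat_lit 262144) (Steps.fwd (nat_lit 786432) (Steps.fwd (nat_lit 262144) (Steps.bwd (nat_lit 6) (Steps.bwd (nat_lit 1) (Steps.fwd (nat_lit 786432) (Steps.fwd (nat_lit 262144) (Steps.fwd (nat_lit 1572864) Steps.nil))))))))))))) (nat_lit 34) (nat_lit 12),
  Rule.mk (nat_lit 6) (nat_lit 274) (Steps.bwd (nat_lit 1) (Steps.fwd (nat_lit 1572864) (Steps.bwd (nat_lit 5) (Steps.bwd (nat_lit 2) (Steps.bwd (nat_lit 1) (Steps.bwd (nat_lit 6) (Steps.fwd (nat_lit 262144) (Steps.bwd (nat_lit 2) (Steps.bwd (nat_lit 1) (Steps.bwd (nat_lit 6) (Steps.bwd (nat_lit 1) (Steps.bwd (nat_lit 2) (Steps.bwd (nat_lit 1) Steps.nil))))))))))))) (nat_lit 34) (nat_lit 11),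
  Rule.mk (nat_lit 4) (nat_lit 314) (Steps.bwd (nat_lit 9) (Steps.bwd (nat_lit 4) (Steps.fwd (nat_lit 2359296) (Steps.fwd (nat_lit 1048576) (Steps.bwd (nat_lit 9) (Steps.bwd (nat_lit 4) (Steps.bwd (nat_lit 8) (Steps.fwd (nat_lit 1048576) (Steps.fwd (nat_lit 2097152) (Steps.bwd (nat_lit 4) (Steps.bwd (nat_lit 8) (Steps.bwd (nat_lit 4) (Steps.bwd (nat_lit 9) (Steps.fwd (nat_lit 1048576) (Steps.fwd (nat_lit 2359296) Steps.nil))))))))))))))) (nat_lit 106) (nat_lit 2),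
  Rule.mk (nat_lit 6) (nat_lit 274) (Steps.bwd (nat_lit 1) (Steps.fwd (nat_lit 1572864) (Steps.fwd (nat_lit 1310720) (Steps.fwd (nat_lit 786432) (Steps.bwd (nat_lit 1) (Steps.bwd (nat_lit 6) (Steps.bwd (nat_lit 1) (Steps.fwd (nat_lit 786432) (Steps.bwd (nat_lit 1) (Steps.fwd (nat_lit 1572864) (Steps.bwd (nat_lit 1) (Steps.fwd (nat_lit 786432) (Steps.fwd (nat_lit 262144) Steps.nil))))))))))))) (nat_lit 34) (nat_lit 11),
  Rule.mk (nat_lit 1) (nat_lit 274) (Steps.bwd (nat_lit 6) (Steps.bwd (nat_lit 5) (Steps.bwd (nat_lit 2) (Steps.bwd (nat_lit 1) (Steps.bwd (nat_lit 6) (Steps.fwd (nat_lit 262144) (Steps.fwd (nat_lit 786432) (Steps.bwd (nat_lit 1) (Steps.fwd (nat_lit 1572864) (Steps.fwd (nat_lit 262144) (Steps.fwd (nat_lit 786432) (Steps.bwd (nat_lit 1) (Steps.fwd (nat_lit 1572864) Steps.nil))))))))))))) (nat_lit 34) (nat_lit 12),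
  Rule.mk (nat_lit 9) (nat_lit 314) (Steps.bwd (nat_lit 4) (Steps.fwd (nat_lit 2359296) (Steps.bwd (nat_lit 4) (Steps.fwd (nat_lit 2097152) (Steps.fwd (nat_lit 1048576) (Steps.fwd (nat_lit 2359296) (Steps.bwd (nat_lit 4) (Steps.bwd (nat_lit 9) (Steps.bwd (nat_lit 4) (Steps.bwd (nat_lit 8) (Steps.bwd (nat_lit 4) (Steps.bwd (nat_lit 9) (Steps.fwd (nat_lit 1048576) (Steps.fwd (nat_lit 2359296) (Steps.bwd (nat_lit 4) Steps.nil))))))))))))))) (nat_lit 106) (nat_lit 3),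
  Rule.mk (nat_lit 8) (nat_lit 314) (Steps.bwd (nat_lit 4) (Steps.fwd (nat_lit 2097152) (Steps.bwd (nat_lit 4) (Steps.fwd (nat_lit 2359296) (Steps.fwd (nat_lit 1048576) (Steps.bwd (nat_lit 9) (Steps.bwd (nat_lit 4) (Steps.fwd (nat_lit 2359296) (Steps.fwd (nat_lit 1048576) (Steps.fwd (nat_lit 2097152) (Steps.fwd (nat_lit 1048576) (Steps.fwd (nat_lit 2359296) (Steps.fwd (nat_lit 1048576) (Steps.fwd (nat_lit 2097152) (Steps.fwd (nat_lit 1048576) Steps.nil))))))))))))))) (nat_lit 106) (nat_lit 1),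
  Rule.mk (nat_lit 9) (nat_lit 314) (Steps.bwd (nat_lit 4) (Steps.bwd (nat_lit 8) (Steps.bwd (nat_lit 4) (Steps.bwd (nat_lit 9) (Steps.bwd (nat_lit 4) (Steps.bwd (nat_lit 8) (Steps.fwd (nat_lit 1048576) (Steps.fwd (nat_lit 2097152) (Steps.bwd (nat_lit 4) (Steps.fwd (nat_lit 2359296) (Steps.bwd (nat_lit 4) (Steps.fwd (nat_lit 2097152) (Steps.bwd (nat_lit 4) (Steps.bwd (nat_lit 8) (Steps.bwd (nat_lit 4) Steps.nil))))))))))))))) (nat_lit 106) (nat_lit 3),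
  Rule.mk (nat_lit 6) (nat_lit 114) (Steps.bwd (nat_lit 3) (Steps.bwd (nat_lit 4) (Steps.bwd (nat_lit 5) (Steps.bwd (nat_lit 3) (Steps.bwd (nat_lit 4) Steps.nil))))) (nat_lit 59) (nat_lit 2),
  Rule.mk (nat_lit 4) (nat_lit 314) (Steps.bwd (nat_lit 8) (Steps.bwd (nat_lit 4) (Steps.bwd (nat_lit 9) (Steps.bwd (nat_lit 4) (Steps.bwd (nat_lit 8) (Steps.bwd (nat_lit 4) (Steps.fwd (nat_lit 2097152) (Steps.fwd (nat_lit 1048576) (Steps.fwd (nat_lit 2359296) (Steps.bwd (nat_lit 4) (Steps.fwd (nat_lit 2097152) (Steps.fwd (nat_lit 1048576) (Steps.fwd (nat_lit 2359296) (Steps.bwd (nat_lit 4) (Steps.bwd (nat_lit 9) Steps.nil))))))))))))))) (nat_lit 106) (nat_lit 0),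
  Rule.mk (nat_lit 8) (nat_lit 314) (Steps.bwd (nat_lit 4) (Steps.bwd (nat_lit 9) (Steps.bwd (nat_lit 4) (Steps.fwd (nat_lit 2359296) (Steps.fwd (nat_lit 1048576) (Steps.bwd (nat_lit 9) (Steps.fwd (nat_lit 1048576) (Steps.bwd (nat_lit 8) (Steps.bwd (nat_lit 4) (Steps.fwd (nat_lit 2097152) (Steps.fwd (nat_lit 1048576) (Steps.fwd (nat_lit 2359296) (Steps.fwd (nat_lit 1048576) (Steps.fwd (nat_lit 2097152) (Steps.fwd (nat_lit 1048576) Steps.nil))))))))))))))) (nat_lit 106) (nat_lit 1),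
  Rule.mk (nat_lit 9) (nat_lit 314) (Steps.bwd (nat_lit 4) (Steps.bwd (nat_lit 8) (Steps.fwd (nat_lit 1048576) (Steps.fwd (nat_lit 2097152) (Steps.fwd (nat_lit 1048576) (Steps.fwd (nat_lit 2359296) (Steps.fwd (nat_lit 1048576) (Steps.bwd (nat_lit 9) (Steps.fwd (nat_lit 1048576) (Steps.bwd (nat_lit 8) (Steps.fwd (nat_lit 1048576) (Steps.fwd (nat_lit 2097152) (Steps.fwd (nat_lit 1048576) (Steps.fwd (nat_lit 2359296) (Steps.fwd (nat_lit 1048576) Steps.nil))))))))))))))) (nat_lit 106) (nat_lit 3),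
  Rule.mk (nat_lit 9) (nat_lit 314) (Steps.bwd (nat_lit 4) (Steps.bwd (nat_lit 8) (Steps.fwd (nat_lit 1048576) (Steps.bwd (nat_lit 9) (Steps.bwd (nat_lit 4) (Steps.fwd (nat_lit 2359296) (Steps.fwd (nat_lit 1048576) (Steps.fwd (nat_lit 2097152) (Steps.fwd (nat_lit 1048576) (Steps.fwd (nat_lit 2359296) (Steps.bwd (nat_lit 4) (Steps.bwd (nat_lit 9) (Steps.fwd (nat_lit 1048576) (Steps.fwd (nat_lit 2359296) (Steps.bwd (nat_lit 4) Steps.nil))))))))))))))) (nat_lit 106) (nat_lit 3),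
  Rule.mk (nat_lit 8) (nat_lit 314) (Steps.bwd (nat_lit 4) (Steps.bwd (nat_lit 9) (Steps.bwd (nat_lit 4) (Steps.fwd (nat_lit 2359296) (Steps.fwd (nat_lit 1048576) (Steps.fwd (nat_lit 2097152) (Steps.bwd (nat_lit 4) (Steps.fwd (nat_lit 2359296) (Steps.bwd (nat_lit 4) (Steps.bwd (nat_lit 9) (Steps.bwd (nat_lit 4) (Steps.fwd (nat_lit 2359296) (Steps.fwd (nat_lit 1048576) (Steps.bwd (nat_lit 9) (Steps.bwd (nat_lit 4) Steps.nil))))))))))))))) (nat_lit 106) (nat_lit 1),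
  Rule.mk (nat_lit 9) (nat_lit 314) (Steps.bwd (nat_lit 4) (Steps.fwd (nat_lit 2359296) (Steps.fwd (nat_lit 1048576) (Steps.bwd (nat_lit 9) (Steps.fwd (nat_lit 1048576) (Steps.fwd (nat_lit 2359296) (Steps.bwd (nat_lit 4) (Steps.fwd (nat_lit 2097152) (Steps.fwd (nat_lit 1048576) (Steps.fwd (nat_lit 2359296) (Steps.bwd (nat_lit 4) (Steps.fwd (nat_lit 2097152) (Steps.fwd (nat_lit 1048576) (Steps.bwd (nat_lit 8) (Steps.fwd (nat_lit 1048576) Steps.nil))))))))))))))) (nat_lit 106) (nat_lit 3),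
  Rule.mk (nat_lit 4) (nat_lit 314) (Steps.bwd (nat_lit 8) (Steps.fwd (nat_lit 1048576) (Steps.fwd (nat_lit 2097152) (Steps.fwd (nat_lit 1048576) (Steps.fwd (nat_lit 2359296) (Steps.fwd (nat_lit 1048576) (Steps.bwd (nat_lit 9) (Steps.bwd (nat_lit 4) (Steps.bwd (nat_lit 8) (Steps.fwd (nat_lit 1048576) (Steps.bwd (nat_lit 9) (Steps.bwd (nat_lit 4) (Steps.fwd (nat_lit 2359296) (Steps.bwd (nat_lit 4) (Steps.bwd (nat_lit 9) Steps.nil))))))))))))))) (nat_lit 106) (nat_lit 0),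
  Rule.mk (nat_lit 6) (nat_lit 274) (Steps.bwd (nat_lit 1) (Steps.fwd (nat_lit 786432) (Steps.fwd (nat_lit 262144) (Steps.fwd (nat_lit 1572864) (Steps.fwd (nat_lit 262144) (Steps.bwd (nat_lit 2) (Steps.bwd (nat_lit 1) (Steps.bwd (nat_lit 6) (Steps.fwd (nat_lit 262144) (Steps.fwd (nat_lit 1572864) (Steps.bwd (nat_lit 5) (Steps.bwd (nat_lit 2) (Steps.bwd (nat_lit 1) Steps.nil))))))))))))) (nat_lit 34) (nat_lit 3),
  Rule.mk (nat_lit 8) (nat_lit 314) (Steps.bwd (nat_lit 4) (Steps.fwd (nat_lit 2097152) (Steps.bwd (nat_lit 4) (Steps.fwd (nat_lit 2359296) (Steps.fwd (nat_lit 1048576) (Steps.bwd (nat_lit 9) (Steps.bwd (nat_lit 4) (Steps.bwd (nat_lit 8) (Steps.fwd (nat_lit 1048576) (Steps.fwd (nat_lit 2097152) (Steps.fwd (nat_lit 1048576) (Steps.bwd (nat_lit 8) (Steps.bwd (nat_lit 4) (Steps.bwd (nat_lit 9) (Steps.bwd (nat_lit 4) Steps.nil))))))))))))))) (nat_lit 106)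 (nat_lit 1),
  Rule.mk (nat_lit 1) (nat_lit 274) (Steps.bwd (nat_lit 6) (Steps.bwd (nat_lit 1) (Steps.bwd (nat_lit 6) (Steps.fwd (nat_lit 1310720) (Steps.fwd (nat_lit 786432) (Steps.bwd (nat_lit 1) (Steps.bwd (nat_lit 6) (Steps.bwd (nat_lit 1) (Steps.bwd (nat_lit 2) (Steps.fwd (nat_lit 262144) (Steps.fwd (nat_lit 1572864) (Steps.fwd (nat_lit 262144) (Steps.bwd (nat_lit 2) Steps.nil))))))))))))) (nat_lit 34) (nat_lit 10),
  Rule.mk (nat_lit 9) (nat_lit 314) (Steps.bwd (nat_lit 4) (Steps.bwd (nat_lit 8) (Steps.fwd (nat_lit 1048576) (Steps.fwd (nat_lit 2097152) (Steps.fwd (nat_lit 1048576) (Steps.bwd (nat_lit 8) (Steps.bwd (nat_lit 4) (Steps.fwd (nat_lit 2097152) (Steps.bwd (nat_lit 4) (Steps.fwd (nat_lit 2359296) (Steps.bwd (nat_lit 4) (Steps.bwd (nat_lit 9) (Steps.bwd (nat_lit 4) (Steps.fwd (nat_lit 2359296) (Steps.bwd (nat_lit 4) Steps.nil))))))))))))))) (nat_lit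 106) (nat_lit 3),
  Rule.mk (nat_lit 1) (nat_lit 274) (Steps.bwd (nat_lit 6) (Steps.bwd (nat_lit 1) (Steps.bwd (nat_lit 6) (Steps.bwd (nat_lit 5) (Steps.bwd (nat_lit 2) (Steps.bwd (nat_lit 1) (Steps.bwd (nat_lit 6) (Steps.fwd (nat_lit 262144) (Steps.bwd (nat_lit 2) (Steps.bwd (nat_lit 1) (Steps.bwd (nat_lit 6) (Steps.fwd (nat_lit 262144) (Steps.bwd (nat_lit 2) Steps.nil))))))))))))) (nat_lit 34) (nat_lit 10),
  Rule.mk (nat_lit 9) (nat_lit 314) (Steps.bwd (nat_lit 4) (Steps.bwd (nat_lit 8) (Steps.bwd (nat_lit 4) (Steps.bwd (nat_lit 9) (Steps.fwd (nat_lit 1048576) (Steps.fwd (nat_lit 2359296) (Steps.fwd (nat_lit 1048576) (Steps.bwd (nat_lit 9) (Steps.bwd (nat_lit 4) (Steps.fwd (nat_lit 2359296) (Steps.fwd (nat_lit 1048576) (Steps.bwd (nat_lit 9) (Steps.fwd (nat_lit 1048576) (Steps.fwd (nat_lit 2359296) (Steps.fwd (nat_lit 1048576) Steps.nil))))))))))))))) (nat_lit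 106) (nat_lit 3),
  Rule.mk (nat_lit 9) (nat_lit 314) (Steps.bwd (nat_lit 4) (Steps.fwd (nat_lit 2359296) (Steps.fwd (nat_lit 1048576) (Steps.bwd (nat_lit 9) (Steps.bwd (nat_lit 4) (Steps.fwd (nat_lit 2359296) (Steps.fwd (nat_lit 1048576) (Steps.fwd (nat_lit 2097152) (Steps.fwd (nat_lit 1048576) (Steps.bwd (nat_lit 8) (Steps.fwd (nat_lit 1048576) (Steps.bwd (nat_lit 9) (Steps.fwd (nat_lit 1048576) (Steps.bwd (nat_lit 8) (Steps.bwd (nat_lit 4) Steps.nil))))))))))))))) (nat_lit 106) (nat_lit 3),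
  Rule.mk (nat_lit 4) (nat_lit 314) (Steps.bwd (nat_lit 8) (Steps.fwd (nat_lit 1048576) (Steps.fwd (nat_lit 2097152) (Steps.fwd (nat_lit 1048576) (Steps.fwd (nat_lit 2359296) (Steps.bwd (nat_lit 4) (Steps.bwd (nat_lit 9) (Steps.fwd (nat_lit 1048576) (Steps.fwd (nat_lit 2359296) (Steps.fwd (nat_lit 1048576) (Steps.bwd (nat_lit 9) (Steps.fwd (nat_lit 1048576) (Steps.fwd (nat_lit 2359296) (Steps.bwd (nat_lit 4) (Steps.fwd (nat_lit 2097152) Steps.nil))))))))))))))) (nat_lit 106) (nat_lit 0),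
  Rule.mk (nat_lit 1) (nat_lit 154) (Steps.bwd (nat_lit 7) (Steps.bwd (nat_lit 2) (Steps.bwd (nat_lit 1) (Steps.bwd (nat_lit 2) (Steps.fwd (nat_lit 1835008) (Steps.fwd (nat_lit 262144) (Steps.bwd (nat_lit 2) Steps.nil))))))) (nat_lit 72) (nat_lit 3),
  Rule.mk (nat_lit 8) (nat_lit 314) (Steps.bwd (nat_lit 4) (Steps.bwd (nat_lit 9) (Steps.bwd (nat_lit 4) (Steps.bwd (nat_lit 8) (Steps.fwd (nat_lit 1048576) (Steps.fwd (nat_lit 2097152) (Steps.bwd (nat_lit 4) (Steps.fwd (nat_lit 2359296) (Steps.fwd (nat_lit 1048576) (Steps.bwd (nat_lit 9) (Steps.fwd (nat_lit 1048576) (Steps.fwd (nat_lit 2359296) (Steps.fwd (nat_lit 1048576) (Steps.bwd (nat_lit 9) (Steps.bwd (nat_lit 4) Steps.nil))))))))))))))) (nat_lit 106) (nat_lit 1),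
  Rule.mk (nat_lit 4) (nat_lit 314) (Steps.bwd (nat_lit 9) (Steps.bwd (nat_lit 4) (Steps.bwd (nat_lit 8) (Steps.bwd (nat_lit 4) (Steps.bwd (nat_lit 9) (Steps.bwd (nat_lit 4) (Steps.fwd (nat_lit 2359296) (Steps.fwd (nat_lit 1048576) (Steps.fwd (nat_lit 2097152) (Steps.bwd (nat_lit 4) (Steps.bwd (nat_lit 8) (Steps.bwd (nat_lit 4) (Steps.bwd (nat_lit 9) (Steps.fwd (nat_lit 1048576) (Steps.bwd (nat_lit 8) Steps.nil))))))))))))))) (nat_lit 106) (nat_lit 2),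
  Rule.mk (nat_lit 4) (nat_lit 314) (Steps.bwd (nat_lit 9) (Steps.fwd (nat_lit 1048576) (Steps.fwd (nat_lit 2359296) (Steps.bwd (nat_lit 4) (Steps.bwd (nat_lit 9) (Steps.fwd (nat_lit 1048576) (Steps.bwd (nat_lit 8) (Steps.fwd (nat_lit 1048576) (Steps.fwd (nat_lit 2097152) (Steps.bwd (nat_lit 4) (Steps.fwd (nat_lit 2359296) (Steps.bwd (nat_lit 4) (Steps.bwd (nat_lit 9) (Steps.bwd (nat_lit 4) (Steps.fwd (nat_lit 2359296) Steps.nil))))))))))))))) (nat_lit 106) (nat_lit 2),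
  Rule.mk (nat_lit 9) (nat_lit 314) (Steps.bwd (nat_lit 4) (Steps.bwd (nat_lit 8) (Steps.fwd (nat_lit 1048576) (Steps.bwd (nat_lit 9) (Steps.fwd (nat_lit 1048576) (Steps.fwd (nat_lit 2359296) (Steps.fwd (nat_lit 1048576) (Steps.fwd (nat_lit 2097152) (Steps.bwd (nat_lit 4) (Steps.fwd (nat_lit 2359296) (Steps.bwd (nat_lit 4) (Steps.bwd (nat_lit 9) (Steps.bwd (nat_lit 4) (Steps.fwd (nat_lit 2359296) (Steps.bwd (nat_lit 4) Steps.nil))))))))))))))) (nat_lit 106) (nat_lit 3),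
  Rule.mk (nat_lit 0) (nat_lit 174) (Steps.bwd (nat_lit 1) (Steps.bwd (nat_lit 3) (Steps.bwd (nat_lit 1) (Steps.fwd (nat_lit 1310720) (Steps.bwd (nat_lit 3) (Steps.fwd (nat_lit 262144) (Steps.fwd (nat_lit 524288) (Steps.fwd (nat_lit 1310720) Steps.nil)))))))) (nat_lit 71) (nat_lit 5),
  Rule.mk (nat_lit 4) (nat_lit 314) (Steps.bwd (nat_lit 8) (Steps.bwd (nat_lit 4) (Steps.fwd (nat_lit 2097152) (Steps.bwd (nat_lit 4) (Steps.bwd (nat_lit 8) (Steps.fwd (nat_lit 1048576) (Steps.fwd (nat_lit 2097152) (Steps.fwd (nat_lit 1048576) (Steps.fwd (nat_lit 2359296) (Steps.fwd (nat_lit 1048576) (Steps.bwd (nat_lit 9) (Steps.bwd (nat_lit 4) (Steps.fwd (nat_lit 2359296) (Steps.fwd (nat_lit 1048576) (Steps.bwd (nat_lit 9) Steps.nil))))))))))))))) (nat_lit 106) (nat_lit 0),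
  Rule.mk (nat_lit 9) (nat_lit 314) (Steps.bwd (nat_lit 4) (Steps.fwd (nat_lit 2359296) (Steps.fwd (nat_lit 1048576) (Steps.bwd (nat_lit 9) (Steps.bwd (nat_lit 4) (Steps.fwd (nat_lit 2359296) (Steps.bwd (nat_lit 4) (Steps.fwd (nat_lit 2097152) (Steps.fwd (nat_lit 1048576) (Steps.bwd (nat_lit 8) (Steps.fwd (nat_lit 1048576) (Steps.bwd (nat_lit 9) (Steps.fwd (nat_lit 1048576) (Steps.bwd (nat_lit 8) (Steps.bwd (nat_lit 4) Steps.nil))))))))))))))) (nat_lit 106) (nat_lit 3),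
  Rule.mk (nat_lit 9) (nat_lit 314) (Steps.bwd (nat_lit 4) (Steps.fwd (nat_lit 2359296) (Steps.bwd (nat_lit 4) (Steps.fwd (nat_lit 2097152) (Steps.fwd (nat_lit 1048576) (Steps.bwd (nat_lit 8) (Steps.fwd (nat_lit 1048576) (Steps.fwd (nat_lit 2097152) (Steps.bwd (nat_lit 4) (Steps.bwd (nat_lit 8) (Steps.bwd (nat_lit 4) (Steps.bwd (nat_lit 9) (Steps.fwd (nat_lit 1048576) (Steps.fwd (nat_lit 2359296) (Steps.bwd (nat_lit 4) Steps.nil))))))))))))))) (nat_lit 106) (nat_lit 3)]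
noncomputable def R_120 : List (Rule) := [Rule.mk (nat_lit 8) (nat_lit 314) (Steps.bwd (nat_lit 4) (Steps.bwd (nat_lit 9) (Steps.bwd (nat_lit 4) (Steps.bwd (nat_lit 8) (Steps.fwd (nat_lit 1048576) (Steps.fwd (nat_lit 2097152) (Steps.fwd (nat_lit 1048576) (Steps.bwd (nat_lit 8) (Steps.bwd (nat_lit 4) (Steps.bwd (nat_lit 9) (Steps.bwd (nat_lit 4) (Steps.fwd (nat_lit 2359296) (Steps.fwd (nat_lit 1048576) (Steps.bwd (nat_lit 9) (Steps.bwd (nat_lit 4) Steps.nil))))))))))))))) (nat_lit 106) (nat_lit 1),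
  Rule.mk (nat_lit 1) (nat_lit 154) (Steps.fwd (nat_lit 1048576) (Steps.fwd (nat_lit 262144) (Steps.bwd (nat_lit 6) (Steps.fwd (nat_lit 262144) (Steps.fwd (nat_lit 1048576) (Steps.bwd (nat_lit 1) (Steps.bwd (nat_lit 6) Steps.nil))))))) (nat_lit 74) (nat_lit 1),
  Rule.mk (nat_lit 4) (nat_lit 314) (Steps.bwd (nat_lit 8) (Steps.fwd (nat_lit 1048576) (Steps.fwd (nat_lit 2097152) (Steps.fwd (nat_lit 1048576) (Steps.bwd (nat_lit 8) (Steps.bwd (nat_lit 4) (Steps.bwd (nat_lit 9) (Steps.fwd (nat_lit 1048576) (Steps.fwd (nat_lit 2359296) (Steps.bwd (nat_lit 4) (Steps.bwd (nat_lit 9) (Steps.bwd (nat_lit 4) (Steps.bwd (nat_lit 8) (Steps.bwd (nat_lit 4) (Steps.bwd (nat_lit 9) Steps.nil))))))))))))))) (nat_lit 106) (nat_lit 0),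
  Rule.mk (nat_lit 8) (nat_lit 314) (Steps.bwd (nat_lit 4) (Steps.bwd (nat_lit 9) (Steps.bwd (nat_lit 4) (Steps.fwd (nat_lit 2359296) (Steps.bwd (nat_lit 4) (Steps.fwd (nat_lit 2097152) (Steps.bwd (nat_lit 4) (Steps.bwd (nat_lit 8) (Steps.bwd (nat_lit 4) (Steps.fwd (nat_lit 2097152) (Steps.bwd (nat_lit 4) (Steps.fwd (nat_lit 2359296) (Steps.bwd (nat_lit 4) (Steps.bwd (nat_lit 9) (Steps.bwd (nat_lit 4) Steps.nil))))))))))))))) (nat_lit 106) (nat_lit 1),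
  Rule.mk (nat_lit 4) (nat_lit 314) (Steps.bwd (nat_lit 9) (Steps.bwd (nat_lit 4) (Steps.bwd (nat_lit 8) (Steps.fwd (nat_lit 1048576) (Steps.bwd (nat_lit 9) (Steps.bwd (nat_lit 4) (Steps.bwd (nat_lit 8) (Steps.fwd (nat_lit 1048576) (Steps.fwd (nat_lit 2097152) (Steps.fwd (nat_lit 1048576) (Steps.fwd (nat_lit 2359296) (Steps.fwd (nat_lit 1048576) (Steps.bwd (nat_lit 9) (Steps.bwd (nat_lit 4) (Steps.bwd (nat_lit 8) Steps.nil))))))))))))))) (nat_lit 106) (nat_lit 2),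
  Rule.mk (nat_lit 8) (nat_lit 314) (Steps.bwd (nat_lit 4) (Steps.bwd (nat_lit 9) (Steps.fwd (nat_lit 1048576) (Steps.fwd (nat_lit 2359296) (Steps.fwd (nat_lit 1048576) (Steps.fwd (nat_lit 2097152) (Steps.fwd (nat_lit 1048576) (Steps.fwd (nat_lit 2359296) (Steps.bwd (nat_lit 4) (Steps.fwd (nat_lit 2097152) (Steps.bwd (nat_lit 4) (Steps.fwd (nat_lit 2359296) (Steps.bwd (nat_lit 4) (Steps.bwd (nat_lit 9) (Steps.bwd (nat_lit 4) Steps.nil))))))))))))))) (nat_lit 106) (nat_lit 1),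
  Rule.mk (nat_lit 8) (nat_lit 314) (Steps.bwd (nat_lit 4) (Steps.bwd (nat_lit 9) (Steps.bwd (nat_lit 4) (Steps.fwd (nat_lit 2359296) (Steps.fwd (nat_lit 1048576) (Steps.bwd (nat_lit 9) (Steps.fwd (nat_lit 1048576) (Steps.fwd (nat_lit 2359296) (Steps.fwd (nat_lit 1048576) (Steps.fwd (nat_lit 2097152) (Steps.bwd (nat_lit 4) (Steps.bwd (nat_lit 8) (Steps.fwd (nat_lit 1048576) (Steps.bwd (nat_lit 9) (Steps.fwd (nat_lit 1048576) Steps.nil))))))))))))))) (nat_lit 106) (nat_lit 1),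
  Rule.mk (nat_lit 8) (nat_lit 314) (Steps.bwd (nat_lit 4) (Steps.bwd (nat_lit 9) (Steps.fwd (nat_lit 1048576) (Steps.fwd (nat_lit 2359296) (Steps.fwd (nat_lit 1048576) (Steps.fwd (nat_lit 2097152) (Steps.bwd (nat_lit 4) (Steps.fwd (nat_lit 2359296) (Steps.fwd (nat_lit 1048576) (Steps.fwd (nat_lit 2097152) (Steps.bwd (nat_lit 4) (Steps.bwd (nat_lit 8) (Steps.fwd (nat_lit 1048576) (Steps.fwd (nat_lit 2097152) (Steps.fwd (nat_lit 1048576) Steps.nil))))))))))))))) (nat_lit 106) (nat_lit 1),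
  Rule.mk (nat_lit 1) (nat_lit 154) (Steps.fwd (nat_lit 1048576) (Steps.bwd (nat_lit 1) (Steps.fwd (nat_lit 1572864) (Steps.bwd (nat_lit 1) (Steps.bwd (nat_lit 4) (Steps.bwd (nat_lit 1) (Steps.bwd (nat_lit 6) Steps.nil))))))) (nat_lit 74) (nat_lit 1),
  Rule.mk (nat_lit 1) (nat_lit 274) (Steps.bwd (nat_lit 6) (Steps.fwd (nat_lit 1310720) (Steps.fwd (nat_lit 786432) (Steps.bwd (nat_lit 1) (Steps.fwd (nat_lit 1572864) (Steps.bwd (nat_lit 1) (Steps.fwd (nat_lit 786432) (Steps.fwd (nat_lit 262144) (Steps.bwd (nat_lit 6) (Steps.fwd (nat_lit 262144) (Steps.bwd (nat_lit 2) (Steps.fwd (nat_lit 262144) (Steps.fwd (nat_lit 1572864) Steps.nil))))))))))))) (nat_lit 34) (nat_lit 12),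
  Rule.mk (nat_lit 1) (nat_lit 274) (Steps.bwd (nat_lit 6) (Steps.fwd (nat_lit 262144) (Steps.bwd (nat_lit 6) (Steps.fwd (nat_lit 1310720) (Steps.bwd (nat_lit 2) (Steps.fwd (nat_lit 262144) (Steps.fwd (nat_lit 1572864) (Steps.bwd (nat_lit 1) (Steps.fwd (nat_lit 786432) (Steps.fwd (nat_lit 262144) (Steps.fwd (nat_lit 1572864) (Steps.bwd (nat_lit 1) (Steps.bwd (nat_lit 2) Steps.nil))))))))))))) (nat_lit 34) (nat_lit 10),
  Rule.mk (nat_lit 6) (nat_lit 114) (Steps.bwd (nat_lit 4) (Steps.fwd (nat_lit 786432) (Steps.fwd (nat_lit 1310720) (Steps.fwd (nat_lit 1048576) (Steps.fwd (nat_lit 786432) Steps.nil))))) (nat_lit 58) (nat_lit 5),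
  Rule.mk (nat_lit 9) (nat_lit 314) (Steps.bwd (nat_lit 4) (Steps.fwd (nat_lit 2359296) (Steps.fwd (nat_lit 1048576) (Steps.bwd (nat_lit 9) (Steps.bwd (nat_lit 4) (Steps.fwd (nat_lit 2359296) (Steps.fwd (nat_lit 1048576) (Steps.bwd (nat_lit 9) (Steps.fwd (nat_lit 1048576) (Steps.fwd (nat_lit 2359296) (Steps.fwd (nat_lit 1048576) (Steps.bwd (nat_lit 9) (Steps.fwd (nat_lit 1048576) (Steps.bwd (nat_lit 8) (Steps.bwd (nat_lit 4) Steps.nil))))))))))))))) (nat_lit 106) (nat_lit 3),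
  Rule.mk (nat_lit 8) (nat_lit 314) (Steps.bwd (nat_lit 4) (Steps.bwd (nat_lit 9) (Steps.fwd (nat_lit 1048576) (Steps.fwd (nat_lit 2359296) (Steps.bwd (nat_lit 4) (Steps.bwd (nat_lit 9) (Steps.fwd (nat_lit 1048576) (Steps.fwd (nat_lit 2359296) (Steps.fwd (nat_lit 1048576) (Steps.fwd (nat_lit 2097152) (Steps.bwd (nat_lit 4) (Steps.fwd (nat_lit 2359296) (Steps.fwd (nat_lit 1048576) (Steps.bwd (nat_lit 9) (Steps.fwd (nat_lit 1048576) Steps.nil))))))))))))))) (nat_lit 106) (nat_lit 1),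
  Rule.mk (nat_lit 3) (nat_lit 154) (Steps.bwd (nat_lit 1) (Steps.fwd (nat_lit 524288) (Steps.fwd (nat_lit 1310720) (Steps.fwd (nat_lit 262144) (Steps.fwd (nat_lit 524288) (Steps.bwd (nat_lit 1) (Steps.bwd (nat_lit 5) Steps.nil))))))) (nat_lit 71) (nat_lit 2),
  Rule.mk (nat_lit 4) (nat_lit 114) (Steps.bwd (nat_lit 3) (Steps.bwd (nat_lit 6) (Steps.fwd (nat_lit 1048576) (Steps.fwd (nat_lit 524288) (Steps.fwd (nat_lit 1310720) Steps.nil))))) (nat_lit 55) (nat_lit 5),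
  Rule.mk (nat_lit 5) (nat_lit 114) (Steps.bwd (nat_lit 3) (Steps.bwd (nat_lit 7) (Steps.fwd (nat_lit 1310720) (Steps.bwd (nat_lit 2) (Steps.fwd (nat_lit 1835008) Steps.nil))))) (nat_lit 61) (nat_lit 5),
  Rule.mk (nat_lit 8) (nat_lit 314) (Steps.bwd (nat_lit 4) (Steps.fwd (nat_lit 2097152) (Steps.fwd (nat_lit 1048576) (Steps.bwd (nat_lit 8) (Steps.bwd (nat_lit 4) (Steps.fwd (nat_lit 2097152) (Steps.bwd (nat_lit 4) (Steps.fwd (nat_lit 2359296) (Steps.fwd (nat_lit 1048576) (Steps.bwd (nat_lit 9) (Steps.fwd (nat_lit 1048576) (Steps.fwd (nat_lit 2359296) (Steps.fwd (nat_lit 1048576) (Steps.bwd (nat_lit 9) (Steps.bwd (nat_lit 4) Steps.nil))))))))))))))) (nat_lit 106) (nat_lit 1),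
  Rule.mk (nat_lit 9) (nat_lit 314) (Steps.bwd (nat_lit 4) (Steps.bwd (nat_lit 8) (Steps.bwd (nat_lit 4) (Steps.bwd (nat_lit 9) (Steps.fwd (nat_lit 1048576) (Steps.fwd (nat_lit 2359296) (Steps.fwd (nat_lit 1048576) (Steps.fwd (nat_lit 2097152) (Steps.bwd (nat_lit 4) (Steps.bwd (nat_lit 8) (Steps.bwd (nat_lit 4) (Steps.bwd (nat_lit 9) (Steps.fwd (nat_lit 1048576) (Steps.fwd (nat_lit 2359296) (Steps.fwd (nat_lit 1048576) Steps.nil))))))))))))))) (nat_lit 106) (nat_lit 3),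
  Rule.mk (nat_lit 8) (nat_lit 314) (Steps.bwd (nat_lit 4) (Steps.bwd (nat_lit 9) (Steps.fwd (nat_lit 1048576) (Steps.bwd (nat_lit 8) (Steps.fwd (nat_lit 1048576) (Steps.fwd (nat_lit 2097152) (Steps.fwd (nat_lit 1048576) (Steps.fwd (nat_lit 2359296) (Steps.bwd (nat_lit 4) (Steps.bwd (nat_lit 9) (Steps.fwd (nat_lit 1048576) (Steps.fwd (nat_lit 2359296) (Steps.bwd (nat_lit 4) (Steps.fwd (nat_lit 2097152) (Steps.fwd (nat_lit 1048576) Steps.nil))))))))))))))) (nat_lit 106) (nat_lit 1),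
  Rule.mk (nat_lit 4) (nat_lit 314) (Steps.bwd (nat_lit 9) (Steps.bwd (nat_lit 4) (Steps.bwd (nat_lit 8) (Steps.bwd (nat_lit 4) (Steps.bwd (nat_lit 9) (Steps.fwd (nat_lit 1048576) (Steps.fwd (nat_lit 2359296) (Steps.fwd (nat_lit 1048576) (Steps.bwd (nat_lit 9) (Steps.fwd (nat_lit 1048576) (Steps.fwd (nat_lit 2359296) (Steps.bwd (nat_lit 4) (Steps.fwd (nat_lit 2097152) (Steps.bwd (nat_lit 4) (Steps.fwd (nat_lit 2359296) Steps.nil))))))))))))))) (nat_lit 106) (nat_lit 2),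
  Rule.mk (nat_lit 8) (nat_lit 314) (Steps.bwd (nat_lit 4) (Steps.bwd (nat_lit 9) (Steps.fwd (nat_lit 1048576) (Steps.fwd (nat_lit 2359296) (Steps.bwd (nat_lit 4) (Steps.bwd (nat_lit 9) (Steps.bwd (nat_lit 4) (Steps.fwd (nat_lit 2359296) (Steps.fwd (nat_lit 1048576) (Steps.bwd (nat_lit 9) (Steps.bwd (nat_lit 4) (Steps.fwd (nat_lit 2359296) (Steps.bwd (nat_lit 4) (Steps.fwd (nat_lit 2097152) (Steps.fwd (nat_lit 1048576) Steps.nil))))))))))))))) (nat_lit 106) (nat_lit 1),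
  Rule.mk (nat_lit 8) (nat_lit 314) (Steps.bwd (nat_lit 4) (Steps.bwd (nat_lit 9) (Steps.bwd (nat_lit 4) (Steps.bwd (nat_lit 8) (Steps.fwd (nat_lit 1048576) (Steps.bwd (nat_lit 9) (Steps.fwd (nat_lit 1048576) (Steps.fwd (nat_lit 2359296) (Steps.fwd (nat_lit 1048576) (Steps.bwd (nat_lit 9) (Steps.fwd (nat_lit 1048576) (Steps.bwd (nat_lit 8) (Steps.bwd (nat_lit 4) (Steps.fwd (nat_lit 2097152) (Steps.fwd (nat_lit 1048576) Steps.nil))))))))))))))) (nat_lit 106) (nat_lit 1),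
  Rule.mk (nat_lit 9) (nat_lit 314) (Steps.bwd (nat_lit 4) (Steps.bwd (nat_lit 8) (Steps.bwd (nat_lit 4) (Steps.bwd (nat_lit 9) (Steps.bwd (nat_lit 4) (Steps.fwd (nat_lit 2359296) (Steps.bwd (nat_lit 4) (Steps.bwd (nat_lit 9) (Steps.fwd (nat_lit 1048576) (Steps.fwd (nat_lit 2359296) (Steps.fwd (nat_lit 1048576) (Steps.bwd (nat_lit 9) (Steps.fwd (nat_lit 1048576) (Steps.bwd (nat_lit 8) (Steps.bwd (nat_lit 4) Steps.nil))))))))))))))) (nat_lit 106) (nat_lit 3),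
  Rule.mk (nat_lit 9) (nat_lit 314) (Steps.bwd (nat_lit 4) (Steps.fwd (nat_lit 2359296) (Steps.bwd (nat_lit 4) (Steps.fwd (nat_lit 2097152) (Steps.bwd (nat_lit 4) (Steps.bwd (nat_lit 8) (Steps.bwd (nat_lit 4) (Steps.fwd (nat_lit 2097152) (Steps.bwd (nat_lit 4) (Steps.fwd (nat_lit 2359296) (Steps.bwd (nat_lit 4) (Steps.bwd (nat_lit 9) (Steps.fwd (nat_lit 1048576) (Steps.fwd (nat_lit 2359296) (Steps.fwd (nat_lit 1048576) Steps.nil))))))))))))))) (nat_lit 106) (nat_lit 3),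
  Rule.mk (nat_lit 8) (nat_lit 314) (Steps.bwd (nat_lit 4) (Steps.fwd (nat_lit 2097152) (Steps.fwd (nat_lit 1048576) (Steps.bwd (nat_lit 8) (Steps.fwd (nat_lit 1048576) (Steps.fwd (nat_lit 2097152) (Steps.fwd (nat_lit 1048576) (Steps.fwd (nat_lit 2359296) (Steps.bwd (nat_lit 4) (Steps.bwd (nat_lit 9) (Steps.bwd (nat_lit 4) (Steps.bwd (nat_lit 8) (Steps.fwd (nat_lit 1048576) (Steps.fwd (nat_lit 2097152) (Steps.fwd (nat_lit 1048576) Steps.nil))))))))))))))) (nat_lit 106) (nat_lit 1),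
  Rule.mk (nat_lit 4) (nat_lit 314) (Steps.bwd (nat_lit 8) (Steps.bwd (nat_lit 4) (Steps.bwd (nat_lit 9) (Steps.bwd (nat_lit 4) (Steps.fwd (nat_lit 2359296) (Steps.fwd (nat_lit 1048576) (Steps.fwd (nat_lit 2097152) (Steps.bwd (nat_lit 4) (Steps.bwd (nat_lit 8) (Steps.bwd (nat_lit 4) (Steps.bwd (nat_lit 9) (Steps.fwd (nat_lit 1048576) (Steps.fwd (nat_lit 2359296) (Steps.fwd (nat_lit 1048576) (Steps.fwd (nat_lit 2097152) Steps.nil))))))))))))))) (nat_lit 106) (nat_lit 0),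
  Rule.mk (nat_lit 4) (nat_lit 154) (Steps.bwd (nat_lit 1) (Steps.fwd (nat_lit 1048576) (Steps.fwd (nat_lit 1835008) (Steps.bwd (nat_lit 1) (Steps.fwd (nat_lit 1048576) (Steps.fwd (nat_lit 262144) (Steps.fwd (nat_lit 1835008) Steps.nil))))))) (nat_lit 76) (nat_lit 5),
  Rule.mk (nat_lit 1) (nat_lit 154) (Steps.bwd (nat_lit 6) (Steps.fwd (nat_lit 262144) (Steps.bwd (nat_lit 4) (Steps.fwd (nat_lit 262144) (Steps.bwd (nat_lit 6) (Steps.bwd (nat_lit 1) (Steps.fwd (nat_lit 1048576) Steps.nil))))))) (nat_lit 74) (nat_lit 3),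
  Rule.mk (nat_lit 9) (nat_lit 314) (Steps.bwd (nat_lit 4) (Steps.bwd (nat_lit 8) (Steps.fwd (nat_lit 1048576) (Steps.bwd (nat_lit 9) (Steps.bwd (nat_lit 4) (Steps.bwd (nat_lit 8) (Steps.bwd (nat_lit 4) (Steps.bwd (nat_lit 9) (Steps.bwd (nat_lit 4) (Steps.fwd (nat_lit 2359296) (Steps.fwd (nat_lit 1048576) (Steps.fwd (nat_lit 2097152) (Steps.bwd (nat_lit 4) (Steps.bwd (nat_lit 8) (Steps.fwd (nat_lit 1048576) Steps.nil))))))))))))))) (nat_lit 106) (nat_lit 3),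
  Rule.mk (nat_lit 8) (nat_lit 314) (Steps.bwd (nat_lit 4) (Steps.bwd (nat_lit 9) (Steps.bwd (nat_lit 4) (Steps.bwd (nat_lit 8) (Steps.bwd (nat_lit 4) (Steps.fwd (nat_lit 2097152) (Steps.fwd (nat_lit 1048576) (Steps.fwd (nat_lit 2359296) (Steps.bwd (nat_lit 4) (Steps.bwd (nat_lit 9) (Steps.fwd (nat_lit 1048576) (Steps.fwd (nat_lit 2359296) (Steps.fwd (nat_lit 1048576) (Steps.fwd (nat_lit 2097152) (Steps.bwd (nat_lit 4) Steps.nil))))))))))))))) (nat_lit 106) (nat_lit 1),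
  Rule.mk (nat_lit 4) (nat_lit 314) (Steps.bwd (nat_lit 8) (Steps.bwd (nat_lit 4) (Steps.bwd (nat_lit 9) (Steps.fwd (nat_lit 1048576) (Steps.fwd (nat_lit 2359296) (Steps.fwd (nat_lit 1048576) (Steps.bwd (nat_lit 9) (Steps.fwd (nat_lit 1048576) (Steps.fwd (nat_lit 2359296) (Steps.fwd (nat_lit 1048576) (Steps.bwd (nat_lit 9) (Steps.fwd (nat_lit 1048576) (Steps.bwd (nat_lit 8) (Steps.bwd (nat_lit 4) (Steps.bwd (nat_lit 9) Steps.nil))))))))))))))) (nat_lit 106) (nat_lit 0),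
  Rule.mk (nat_lit 4) (nat_lit 314) (Steps.bwd (nat_lit 9) (Steps.bwd (nat_lit 4) (Steps.bwd (nat_lit 8) (Steps.bwd (nat_lit 4) (Steps.bwd (nat_lit 9) (Steps.bwd (nat_lit 4) (Steps.bwd (nat_lit 8) (Steps.fwd (nat_lit 1048576) (Steps.fwd (nat_lit 2097152) (Steps.fwd (nat_lit 1048576) (Steps.fwd (nat_lit 2359296) (Steps.fwd (nat_lit 1048576) (Steps.bwd (nat_lit 9) (Steps.fwd (nat_lit 1048576) (Steps.fwd (nat_lit 2359296) Steps.nil))))))))))))))) (nat_lit 106) (nat_lit 2),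
  Rule.mk (nat_lit 4) (nat_lit 314) (Steps.bwd (nat_lit 8) (Steps.bwd (nat_lit 4) (Steps.bwd (nat_lit 9) (Steps.bwd (nat_lit 4) (Steps.bwd (nat_lit 8) (Steps.fwd (nat_lit 1048576) (Steps.fwd (nat_lit 2097152) (Steps.bwd (nat_lit 4) (Steps.bwd (nat_lit 8) (Steps.fwd (nat_lit 1048576) (Steps.bwd (nat_lit 9) (Steps.fwd (nat_lit 1048576) (Steps.fwd (nat_lit 2359296) (Steps.bwd (nat_lit 4) (Steps.bwd (nat_lit 9) Steps.nil))))))))))))))) (nat_lit 106) (nat_lit 0),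
  Rule.mk (nat_lit 9) (nat_lit 314) (Steps.bwd (nat_lit 4) (Steps.fwd (nat_lit 2359296) (Steps.fwd (nat_lit 1048576) (Steps.bwd (nat_lit 9) (Steps.bwd (nat_lit 4) (Steps.bwd (nat_lit 8) (Steps.bwd (nat_lit 4) (Steps.bwd (nat_lit 9) (Steps.fwd (nat_lit 1048576) (Steps.fwd (nat_lit 2359296) (Steps.bwd (nat_lit 4) (Steps.bwd (nat_lit 9) (Steps.fwd (nat_lit 1048576) (Steps.fwd (nat_lit 2359296) (Steps.fwd (nat_lit 1048576) Steps.nil))))))))))))))) (nat_lit 106) (nat_lit 3),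
  Rule.mk (nat_lit 1) (nat_lit 274) (Steps.bwd (nat_lit 6) (Steps.fwd (nat_lit 1310720) (Steps.fwd (nat_lit 786432) (Steps.bwd (nat_lit 1) (Steps.bwd (nat_lit 6) (Steps.bwd (nat_lit 1) (Steps.bwd (nat_lit 2) (Steps.bwd (nat_lit 1) (Steps.fwd (nat_lit 1572864) (Steps.bwd (nat_lit 1) (Steps.bwd (nat_lit 2) (Steps.fwd (nat_lit 262144) (Steps.fwd (nat_lit 1572864) Steps.nil))))))))))))) (nat_lit 34) (nat_lit 12),
  Rule.mk (nat_lit 8) (nat_lit 314) (Steps.bwd (nat_lit 4) (Steps.bwd (nat_lit 9) (Steps.bwd (nat_lit 4) (Steps.bwd (nat_lit 8) (Steps.fwd (nat_lit 1048576) (Steps.bwd (nat_lit 9) (Steps.bwd (nat_lit 4) (Steps.fwd (nat_lit 2359296) (Steps.fwd (nat_lit 1048576) (Steps.bwd (nat_lit 9) (Steps.bwd (nat_lit 4) (Steps.fwd (nat_lit 2359296) (Steps.fwd (nat_lit 1048576) (Steps.fwd (nat_lit 2097152) (Steps.fwd (nat_lit 1048576) Steps.nil))))))))))))))) (nat_lit 106)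 (nat_lit 1),
  Rule.mk (nat_lit 9) (nat_lit 314) (Steps.bwd (nat_lit 4) (Steps.fwd (nat_lit 2359296) (Steps.bwd (nat_lit 4) (Steps.bwd (nat_lit 9) (Steps.fwd (nat_lit 1048576) (Steps.fwd (nat_lit 2359296) (Steps.bwd (nat_lit 4) (Steps.bwd (nat_lit 9) (Steps.bwd (nat_lit 4) (Steps.bwd (nat_lit 8) (Steps.bwd (nat_lit 4) (Steps.fwd (nat_lit 2097152) (Steps.fwd (nat_lit 1048576) (Steps.bwd (nat_lit 8) (Steps.bwd (nat_lit 4) Steps.nil))))))))))))))) (nat_lit 106) (nat_lit 3),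
  Rule.mk (nat_lit 8) (nat_lit 314) (Steps.bwd (nat_lit 4) (Steps.bwd (nat_lit 9) (Steps.fwd (nat_lit 1048576) (Steps.fwd (nat_lit 2359296) (Steps.fwd (nat_lit 1048576) (Steps.fwd (nat_lit 2097152) (Steps.bwd (nat_lit 4) (Steps.fwd (nat_lit 2359296) (Steps.bwd (nat_lit 4) (Steps.bwd (nat_lit 9) (Steps.fwd (nat_lit 1048576) (Steps.bwd (nat_lit 8) (Steps.bwd (nat_lit 4) (Steps.bwd (nat_lit 9) (Steps.bwd (nat_lit 4) Steps.nil))))))))))))))) (nat_lit 106) (nat_lit 1),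
  Rule.mk (nat_lit 9) (nat_lit 314) (Steps.bwd (nat_lit 4) (Steps.fwd (nat_lit 2359296) (Steps.fwd (nat_lit 1048576) (Steps.fwd (nat_lit 2097152) (Steps.fwd (nat_lit 1048576) (Steps.fwd (nat_lit 2359296) (Steps.fwd (nat_lit 1048576) (Steps.fwd (nat_lit 2097152) (Steps.bwd (nat_lit 4) (Steps.bwd (nat_lit 8) (Steps.fwd (nat_lit 1048576) (Steps.bwd (nat_lit 9) (Steps.bwd (nat_lit 4) (Steps.fwd (nat_lit 2359296) (Steps.bwd (nat_lit 4) Steps.nil))))))))))))))) (nat_lit 106) (nat_lit 3),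
  Rule.mk (nat_lit 8) (nat_lit 314) (Steps.bwd (nat_lit 4) (Steps.bwd (nat_lit 9) (Steps.bwd (nat_lit 4) (Steps.fwd (nat_lit 2359296) (Steps.fwd (nat_lit 1048576) (Steps.fwd (nat_lit 2097152) (Steps.fwd (nat_lit 1048576) (Steps.fwd (nat_lit 2359296) (Steps.fwd (nat_lit 1048576) (Steps.fwd (nat_lit 2097152) (Steps.bwd (nat_lit 4) (Steps.bwd (nat_lit 8) (Steps.fwd (nat_lit 1048576) (Steps.fwd (nat_lit 2097152) (Steps.fwd (nat_lit 1048576) Steps.nil))))))))))))))) (nat_lit 106) (nat_lit 1),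
  Rule.mk (nat_lit 4) (nat_lit 314) (Steps.bwd (nat_lit 9) (Steps.fwd (nat_lit 1048576) (Steps.bwd (nat_lit 8) (Steps.bwd (nat_lit 4) (Steps.fwd (nat_lit 2097152) (Steps.fwd (nat_lit 1048576) (Steps.fwd (nat_lit 2359296) (Steps.fwd (nat_lit 1048576) (Steps.bwd (nat_lit 9) (Steps.fwd (nat_lit 1048576) (Steps.bwd (nat_lit 8) (Steps.fwd (nat_lit 1048576) (Steps.bwd (nat_lit 9) (Steps.fwd (nat_lit 1048576) (Steps.bwd (nat_lit 8) Steps.nil))))))))))))))) (nat_lit 106) (nat_lit 2),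
  Rule.mk (nat_lit 9) (nat_lit 314) (Steps.fwd (nat_lit 1048576) (Steps.fwd (nat_lit 2359296) (Steps.bwd (nat_lit 4) (Steps.bwd (nat_lit 9) (Steps.fwd (nat_lit 1048576) (Steps.bwd (nat_lit 8) (Steps.fwd (nat_lit 1048576) (Steps.bwd (nat_lit 9) (Steps.fwd (nat_lit 1048576) (Steps.fwd (nat_lit 2359296) (Steps.fwd (nat_lit 1048576) (Steps.bwd (nat_lit 9) (Steps.fwd (nat_lit 1048576) (Steps.fwd (nat_lit 2359296) (Steps.bwd (nat_lit 4) Steps.nil))))))))))))))) (nat_lit 106) (nat_lit 3),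
  Rule.mk (nat_lit 1) (nat_lit 274) (Steps.fwd (nat_lit 524288) (Steps.fwd (nat_lit 1310720) (Steps.fwd (nat_lit 1572864) (Steps.bwd (nat_lit 1) (Steps.bwd (nat_lit 6) (Steps.fwd (nat_lit 262144) (Steps.fwd (nat_lit 524288) (Steps.bwd (nat_lit 1) (Steps.bwd (nat_lit 6) (Steps.fwd (nat_lit 262144) (Steps.fwd (nat_lit 524288) (Steps.bwd (nat_lit 1) (Steps.bwd (nat_lit 6) Steps.nil))))))))))))) (nat_lit 35) (nat_lit 13),
  Rule.mk (nat_lit 6) (nat_lit 274) (Steps.bwd (nat_lit 1) (Steps.bwd (nat_lit 6) (Steps.bwd (nat_lit 5) (Steps.fwd (nat_lit 786432) (Steps.bwd (nat_lit 1) (Steps.bwd (nat_lit 6) (Steps.bwd (nat_lit 1) (Steps.fwd (nat_lit 786432) (Steps.bwd (nat_lit 1) (Steps.bwd (nat_lit 6) (Steps.bwd (nat_lit 1) (Steps.fwd (nat_lit 786432) (Steps.fwd (nat_lit 262144) Steps.nil))))))))))))) (nat_lit 34) (nat_lit 11),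
  Rule.mk (nat_lit 4) (nat_lit 314) (Steps.bwd (nat_lit 8) (Steps.bwd (nat_lit 4) (Steps.bwd (nat_lit 9) (Steps.bwd (nat_lit 4) (Steps.fwd (nat_lit 2359296) (Steps.fwd (nat_lit 1048576) (Steps.bwd (nat_lit 9) (Steps.fwd (nat_lit 1048576) (Steps.bwd (nat_lit 8) (Steps.fwd (nat_lit 1048576) (Steps.bwd (nat_lit 9) (Steps.fwd (nat_lit 1048576) (Steps.fwd (nat_lit 2359296) (Steps.fwd (nat_lit 1048576) (Steps.fwd (nat_lit 2097152) Steps.nil))))))))))))))) (nat_lit 106) (nat_lit 0),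
  Rule.mk (nat_lit 9) (nat_lit 314) (Steps.bwd (nat_lit 4) (Steps.fwd (nat_lit 2359296) (Steps.bwd (nat_lit 4) (Steps.fwd (nat_lit 2097152) (Steps.fwd (nat_lit 1048576) (Steps.bwd (nat_lit 8) (Steps.fwd (nat_lit 1048576) (Steps.bwd (nat_lit 9) (Steps.bwd (nat_lit 4) (Steps.bwd (nat_lit 8) (Steps.fwd (nat_lit 1048576) (Steps.bwd (nat_lit 9) (Steps.fwd (nat_lit 1048576) (Steps.bwd (nat_lit 8) (Steps.bwd (nat_lit 4) Steps.nil))))))))))))))) (nat_lit 106) (nat_lit 3),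
  Rule.mk (nat_lit 8) (nat_lit 314) (Steps.bwd (nat_lit 4) (Steps.bwd (nat_lit 9) (Steps.fwd (nat_lit 1048576) (Steps.fwd (nat_lit 2359296) (Steps.fwd (nat_lit 1048576) (Steps.bwd (nat_lit 9) (Steps.bwd (nat_lit 4) (Steps.fwd (nat_lit 2359296) (Steps.fwd (nat_lit 1048576) (Steps.bwd (nat_lit 9) (Steps.bwd (nat_lit 4) (Steps.fwd (nat_lit 2359296) (Steps.bwd (nat_lit 4) (Steps.fwd (nat_lit 2097152) (Steps.bwd (nat_lit 4) Steps.nil))))))))))))))) (nat_lit 106) (nat_lit 1),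
  Rule.mk (nat_lit 6) (nat_lit 274) (Steps.bwd (nat_lit 1) (Steps.fwd (nat_lit 1572864) (Steps.fwd (nat_lit 1310720) (Steps.bwd (nat_lit 2) (Steps.fwd (nat_lit 262144) (Steps.fwd (nat_lit 1572864) (Steps.bwd (nat_lit 1) (Steps.fwd (nat_lit 786432) (Steps.fwd (nat_lit 262144) (Steps.fwd (nat_lit 1572864) (Steps.bwd (nat_lit 1) (Steps.bwd (nat_lit 2) (Steps.bwd (nat_lit 1) Steps.nil))))))))))))) (nat_lit 34) (nat_lit 11),
  Rule.mk (nat_lit 8) (nat_lit 314) (Steps.bwd (nat_lit 4) (Steps.fwd (nat_lit 2097152) (Steps.fwd (nat_lit 1048576) (Steps.fwd (nat_lit 2359296) (Steps.bwd (nat_lit 4) (Steps.bwd (nat_lit 9) (Steps.fwd (nat_lit 1048576) (Steps.fwd (nat_lit 2359296) (Steps.fwd (nat_lit 1048576) (Steps.fwd (nat_lit 2097152) (Steps.bwd (nat_lit 4) (Steps.bwd (nat_lit 8) (Steps.fwd (nat_lit 1048576) (Steps.bwd (nat_lit 9) (Steps.fwd (nat_lit 1048576) Steps.nil)))))))))))))))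 (nat_lit 106) (nat_lit 1),
  Rule.mk (nat_lit 4) (nat_lit 314) (Steps.bwd (nat_lit 9) (Steps.bwd (nat_lit 4) (Steps.fwd (nat_lit 2359296) (Steps.bwd (nat_lit 4) (Steps.bwd (nat_lit 9) (Steps.bwd (nat_lit 4) (Steps.fwd (nat_lit 2359296) (Steps.fwd (nat_lit 1048576) (Steps.fwd (nat_lit 2097152) (Steps.bwd (nat_lit 4) (Steps.bwd (nat_lit 8) (Steps.bwd (nat_lit 4) (Steps.bwd (nat_lit 9) (Steps.bwd (nat_lit 4) (Steps.fwd (nat_lit 2359296) Steps.nil))))))))))))))) (nat_lit 106) (nat_lit 2),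
  Rule.mk (nat_lit 4) (nat_lit 314) (Steps.bwd (nat_lit 8) (Steps.bwd (nat_lit 4) (Steps.bwd (nat_lit 9) (Steps.bwd (nat_lit 4) (Steps.fwd (nat_lit 2359296) (Steps.fwd (nat_lit 1048576) (Steps.fwd (nat_lit 2097152) (Steps.bwd (nat_lit 4) (Steps.fwd (nat_lit 2359296) (Steps.bwd (nat_lit 4) (Steps.fwd (nat_lit 2097152) (Steps.bwd (nat_lit 4) (Steps.fwd (nat_lit 2359296) (Steps.bwd (nat_lit 4) (Steps.bwd (nat_lit 9) Steps.nil))))))))))))))) (nat_lit 106) (nat_lit 0),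
  Rule.mk (nat_lit 4) (nat_lit 314) (Steps.bwd (nat_lit 9) (Steps.bwd (nat_lit 4) (Steps.fwd (nat_lit 2359296) (Steps.bwd (nat_lit 4) (Steps.fwd (nat_lit 2097152) (Steps.fwd (nat_lit 1048576) (Steps.fwd (nat_lit 2359296) (Steps.bwd (nat_lit 4) (Steps.fwd (nat_lit 2097152) (Steps.fwd (nat_lit 1048576) (Steps.bwd (nat_lit 8) (Steps.fwd (nat_lit 1048576) (Steps.fwd (nat_lit 2097152) (Steps.fwd (nat_lit 1048576) (Steps.fwd (nat_lit 2359296) Steps.nil))))))))))))))) (nat_lit 106) (nat_lit 2),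
  Rule.mk (nat_lit 4) (nat_lit 314) (Steps.bwd (nat_lit 9) (Steps.bwd (nat_lit 4) (Steps.fwd (nat_lit 2359296) (Steps.bwd (nat_lit 4) (Steps.fwd (nat_lit 2097152) (Steps.fwd (nat_lit 1048576) (Steps.bwd (nat_lit 8) (Steps.bwd (nat_lit 4) (Steps.fwd (nat_lit 2097152) (Steps.bwd (nat_lit 4) (Steps.fwd (nat_lit 2359296) (Steps.bwd (nat_lit 4) (Steps.fwd (nat_lit 2097152) (Steps.fwd (nat_lit 1048576) (Steps.bwd (nat_lit 8) Steps.nil))))))))))))))) (nat_lit 106) (nat_lit 2),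
  Rule.mk (nat_lit 6) (nat_lit 274) (Steps.bwd (nat_lit 1) (Steps.fwd (nat_lit 1572864) (Steps.fwd (nat_lit 1310720) (Steps.bwd (nat_lit 2) (Steps.fwd (nat_lit 262144) (Steps.fwd (nat_lit 1572864) (Steps.bwd (nat_lit 1) (Steps.fwd (nat_lit 786432) (Steps.bwd (nat_lit 1) (Steps.fwd (nat_lit 1572864) (Steps.fwd (nat_lit 262144) (Steps.bwd (nat_lit 2) (Steps.fwd (nat_lit 262144) Steps.nil))))))))))))) (nat_lit 34) (nat_lit 11),
  Rule.mk (nat_lit 8) (nat_lit 314) (Steps.bwd (nat_lit 4) (Steps.fwd (nat_lit 2097152) (Steps.bwd (nat_lit 4) (Steps.fwd (nat_lit 2359296) (Steps.fwd (nat_lit 1048576) (Steps.bwd (nat_lit 9) (Steps.bwd (nat_lit 4) (Steps.fwd (nat_lit 2359296) (Steps.bwd (nat_lit 4) (Steps.bwd (nat_lit 9) (Steps.bwd (nat_lit 4) (Steps.fwd (nat_lit 2359296) (Steps.fwd (nat_lit 1048576) (Steps.fwd (nat_lit 2097152) (Steps.bwd (nat_lit 4) Steps.nil)))))))))))))))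 (nat_lit 106) (nat_lit 1),
  Rule.mk (nat_lit 4) (nat_lit 314) (Steps.bwd (nat_lit 9) (Steps.bwd (nat_lit 4) (Steps.bwd (nat_lit 8) (Steps.bwd (nat_lit 4) (Steps.bwd (nat_lit 9) (Steps.bwd (nat_lit 4) (Steps.fwd (nat_lit 2359296) (Steps.bwd (nat_lit 4) (Steps.fwd (nat_lit 2097152) (Steps.fwd (nat_lit 1048576) (Steps.fwd (nat_lit 2359296) (Steps.bwd (nat_lit 4) (Steps.fwd (nat_lit 2097152) (Steps.fwd (nat_lit 1048576) (Steps.fwd (nat_lit 2359296) Steps.nil))))))))))))))) (nat_lit 106) (nat_lit 2),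
  Rule.mk (nat_lit 4) (nat_lit 314) (Steps.bwd (nat_lit 8) (Steps.bwd (nat_lit 4) (Steps.bwd (nat_lit 9) (Steps.fwd (nat_lit 1048576) (Steps.fwd (nat_lit 2359296) (Steps.bwd (nat_lit 4) (Steps.fwd (nat_lit 2097152) (Steps.fwd (nat_lit 1048576) (Steps.fwd (nat_lit 2359296) (Steps.fwd (nat_lit 1048576) (Steps.bwd (nat_lit 9) (Steps.bwd (nat_lit 4) (Steps.bwd (nat_lit 8) (Steps.bwd (nat_lit 4) (Steps.fwd (nat_lit 2097152) Steps.nil))))))))))))))) (nat_lit 106) (nat_lit 0),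
  Rule.mk (nat_lit 4) (nat_lit 314) (Steps.bwd (nat_lit 9) (Steps.bwd (nat_lit 4) (Steps.bwd (nat_lit 8) (Steps.bwd (nat_lit 4) (Steps.bwd (nat_lit 9) (Steps.fwd (nat_lit 1048576) (Steps.fwd (nat_lit 2359296) (Steps.bwd (nat_lit 4) (Steps.bwd (nat_lit 9) (Steps.bwd (nat_lit 4) (Steps.fwd (nat_lit 2359296) (Steps.bwd (nat_lit 4) (Steps.fwd (nat_lit 2097152) (Steps.fwd (nat_lit 1048576) (Steps.fwd (nat_lit 2359296) Steps.nil))))))))))))))) (nat_lit 106) (nat_lit 2),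
  Rule.mk (nat_lit 9) (nat_lit 314) (Steps.bwd (nat_lit 4) (Steps.bwd (nat_lit 8) (Steps.fwd (nat_lit 1048576) (Steps.bwd (nat_lit 9) (Steps.bwd (nat_lit 4) (Steps.fwd (nat_lit 2359296) (Steps.bwd (nat_lit 4) (Steps.bwd (nat_lit 9) (Steps.bwd (nat_lit 4) (Steps.bwd (nat_lit 8) (Steps.fwd (nat_lit 1048576) (Steps.fwd (nat_lit 2097152) (Steps.fwd (nat_lit 1048576) (Steps.fwd (nat_lit 2359296) (Steps.fwd (nat_lit 1048576) Steps.nil))))))))))))))) (nat_lit 106) (nat_lit 3),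
  Rule.mk (nat_lit 9) (nat_lit 314) (Steps.bwd (nat_lit 4) (Steps.fwd (nat_lit 2359296) (Steps.fwd (nat_lit 1048576) (Steps.bwd (nat_lit 9) (Steps.bwd (nat_lit 4) (Steps.bwd (nat_lit 8) (Steps.bwd (nat_lit 4) (Steps.fwd (nat_lit 2097152) (Steps.fwd (nat_lit 1048576) (Steps.fwd (nat_lit 2359296) (Steps.fwd (nat_lit 1048576) (Steps.fwd (nat_lit 2097152) (Steps.fwd (nat_lit 1048576) (Steps.bwd (nat_lit 8) (Steps.fwd (nat_lit 1048576) Steps.nil))))))))))))))) (nat_lit 106) (nat_lit 3),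
  Rule.mk (nat_lit 8) (nat_lit 314) (Steps.bwd (nat_lit 4) (Steps.bwd (nat_lit 9) (Steps.bwd (nat_lit 4) (Steps.bwd (nat_lit 8) (Steps.bwd (nat_lit 4) (Steps.fwd (nat_lit 2097152) (Steps.fwd (nat_lit 1048576) (Steps.fwd (nat_lit 2359296) (Steps.bwd (nat_lit 4) (Steps.fwd (nat_lit 2097152) (Steps.fwd (nat_lit 1048576) (Steps.fwd (nat_lit 2359296) (Steps.fwd (nat_lit 1048576) (Steps.fwd (nat_lit 2097152) (Steps.fwd (nat_lit 1048576) Steps.nil))))))))))))))) (nat_lit 106) (nat_lit 1),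
  Rule.mk (nat_lit 4) (nat_lit 314) (Steps.bwd (nat_lit 9) (Steps.bwd (nat_lit 4) (Steps.bwd (nat_lit 8) (Steps.bwd (nat_lit 4) (Steps.bwd (nat_lit 9) (Steps.fwd (nat_lit 1048576) (Steps.fwd (nat_lit 2359296) (Steps.bwd (nat_lit 4) (Steps.bwd (nat_lit 9) (Steps.bwd (nat_lit 4) (Steps.fwd (nat_lit 2359296) (Steps.fwd (nat_lit 1048576) (Steps.bwd (nat_lit 9) (Steps.fwd (nat_lit 1048576) (Steps.fwd (nat_lit 2359296) Steps.nil))))))))))))))) (nat_lit 106) (nat_lit 2),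
  Rule.mk (nat_lit 6) (nat_lit 274) (Steps.bwd (nat_lit 1) (Steps.fwd (nat_lit 524288) (Steps.bwd (nat_lit 5) (Steps.fwd (nat_lit 1572864) (Steps.bwd (nat_lit 1) (Steps.fwd (nat_lit 1572864) (Steps.fwd (nat_lit 262144) (Steps.bwd (nat_lit 3) (Steps.fwd (nat_lit 262144) (Steps.bwd (nat_lit 6) (Steps.bwd (nat_lit 1) (Steps.fwd (nat_lit 524288) (Steps.fwd (nat_lit 262144) Steps.nil))))))))))))) (nat_lit 35) (nat_lit 12)]
noncomputable def R_121 : List (Rule) := [Rule.mk (nat_lit 4) (nat_lit 314) (Steps.bwd (nat_lit 9) (Steps.bwd (nat_lit 4) (Steps.fwd (nat_lit 2359296) (Steps.fwd (nat_lit 1048576) (Steps.bwd (nat_lit 9) (Steps.bwd (nat_lit 4) (Steps.fwd (nat_lit 2359296) (Steps.fwd (nat_lit 1048576) (Steps.bwd (nat_lit 9) (Steps.bwd (nat_lit 4) (Steps.bwd (nat_lit 8) (Steps.bwd (nat_lit 4) (Steps.bwd (nat_lit 9) (Steps.fwd (nat_lit 1048576) (Steps.fwd (nat_lit 2359296)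 Steps.nil))))))))))))))) (nat_lit 106) (nat_lit 2),
  Rule.mk (nat_lit 9) (nat_lit 314) (Steps.bwd (nat_lit 4) (Steps.bwd (nat_lit 8) (Steps.bwd (nat_lit 4) (Steps.bwd (nat_lit 9) (Steps.fwd (nat_lit 1048576) (Steps.fwd (nat_lit 2359296) (Steps.bwd (nat_lit 4) (Steps.bwd (nat_lit 9) (Steps.bwd (nat_lit 4) (Steps.bwd (nat_lit 8) (Steps.bwd (nat_lit 4) (Steps.bwd (nat_lit 9) (Steps.fwd (nat_lit 1048576) (Steps.fwd (nat_lit 2359296) (Steps.bwd (nat_lit 4) Steps.nil))))))))))))))) (nat_lit 106) (nat_lit 3),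
  Rule.mk (nat_lit 4) (nat_lit 314) (Steps.bwd (nat_lit 9) (Steps.bwd (nat_lit 4) (Steps.fwd (nat_lit 2359296) (Steps.bwd (nat_lit 4) (Steps.bwd (nat_lit 9) (Steps.fwd (nat_lit 1048576) (Steps.bwd (nat_lit 8) (Steps.fwd (nat_lit 1048576) (Steps.fwd (nat_lit 2097152) (Steps.bwd (nat_lit 4) (Steps.fwd (nat_lit 2359296) (Steps.fwd (nat_lit 1048576) (Steps.bwd (nat_lit 9) (Steps.bwd (nat_lit 4) (Steps.bwd (nat_lit 8) Steps.nil))))))))))))))) (nat_lit 106) (nat_lit 2),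
  Rule.mk (nat_lit 1) (nat_lit 274) (Steps.bwd (nat_lit 6) (Steps.fwd (nat_lit 1310720) (Steps.bwd (nat_lit 2) (Steps.fwd (nat_lit 262144) (Steps.bwd (nat_lit 6) (Steps.bwd (nat_lit 1) (Steps.bwd (nat_lit 2) (Steps.bwd (nat_lit 1) (Steps.bwd (nat_lit 6) (Steps.fwd (nat_lit 262144) (Steps.bwd (nat_lit 2) (Steps.bwd (nat_lit 1) (Steps.fwd (nat_lit 1572864) Steps.nil))))))))))))) (nat_lit 34) (nat_lit 12),
  Rule.mk (nat_lit 4) (nat_lit 154) (Steps.bwd (nat_lit 1) (Steps.fwd (nat_lit 1048576) (Steps.fwd (nat_lit 1835008) (Steps.fwd (nat_lit 262144) (Steps.bwd (nat_lit 4) (Steps.bwd (nat_lit 1) (Steps.bwd (nat_lit 7) Steps.nil))))))) (nat_lit 76) (nat_lit 5),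
  Rule.mk (nat_lit 9) (nat_lit 314) (Steps.fwd (nat_lit 1048576) (Steps.bwd (nat_lit 8) (Steps.fwd (nat_lit 1048576) (Steps.fwd (nat_lit 2097152) (Steps.bwd (nat_lit 4) (Steps.fwd (nat_lit 2359296) (Steps.fwd (nat_lit 1048576) (Steps.bwd (nat_lit 9) (Steps.bwd (nat_lit 4) (Steps.bwd (nat_lit 8) (Steps.bwd (nat_lit 4) (Steps.bwd (nat_lit 9) (Steps.fwd (nat_lit 1048576) (Steps.fwd (nat_lit 2359296) (Steps.bwd (nat_lit 4) Steps.nil))))))))))))))) (nat_lit 106) (nat_lit 3),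
  Rule.mk (nat_lit 6) (nat_lit 114) (Steps.bwd (nat_lit 2) (Steps.fwd (nat_lit 1048576) (Steps.fwd (nat_lit 1310720) (Steps.fwd (nat_lit 786432) (Steps.bwd (nat_lit 4) Steps.nil))))) (nat_lit 54) (nat_lit 0),
  Rule.mk (nat_lit 4) (nat_lit 314) (Steps.bwd (nat_lit 8) (Steps.bwd (nat_lit 4) (Steps.bwd (nat_lit 9) (Steps.bwd (nat_lit 4) (Steps.bwd (nat_lit 8) (Steps.bwd (nat_lit 4) (Steps.bwd (nat_lit 9) (Steps.bwd (nat_lit 4) (Steps.fwd (nat_lit 2359296) (Steps.bwd (nat_lit 4) (Steps.bwd (nat_lit 9) (Steps.bwd (nat_lit 4) (Steps.fwd (nat_lit 2359296) (Steps.fwd (nat_lit 1048576) (Steps.bwd (nat_lit 9) Steps.nil))))))))))))))) (nat_lit 106) (nat_lit 0),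
  Rule.mk (nat_lit 9) (nat_lit 314) (Steps.bwd (nat_lit 4) (Steps.bwd (nat_lit 8) (Steps.fwd (nat_lit 1048576) (Steps.bwd (nat_lit 9) (Steps.bwd (nat_lit 4) (Steps.bwd (nat_lit 8) (Steps.bwd (nat_lit 4) (Steps.fwd (nat_lit 2097152) (Steps.bwd (nat_lit 4) (Steps.fwd (nat_lit 2359296) (Steps.fwd (nat_lit 1048576) (Steps.fwd (nat_lit 2097152) (Steps.bwd (nat_lit 4) (Steps.fwd (nat_lit 2359296) (Steps.fwd (nat_lit 1048576) Steps.nil))))))))))))))) (nat_lit 106) (nat_lit 3),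
  Rule.mk (nat_lit 8) (nat_lit 314) (Steps.bwd (nat_lit 4) (Steps.bwd (nat_lit 9) (Steps.bwd (nat_lit 4) (Steps.fwd (nat_lit 2359296) (Steps.bwd (nat_lit 4) (Steps.bwd (nat_lit 9) (Steps.fwd (nat_lit 1048576) (Steps.bwd (nat_lit 8) (Steps.fwd (nat_lit 1048576) (Steps.fwd (nat_lit 2097152) (Steps.bwd (nat_lit 4) (Steps.fwd (nat_lit 2359296) (Steps.fwd (nat_lit 1048576) (Steps.bwd (nat_lit 9) (Steps.fwd (nat_lit 1048576) Steps.nil))))))))))))))) (nat_lit 106) (nat_lit 1),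
  Rule.mk (nat_lit 1) (nat_lit 154) (Steps.bwd (nat_lit 6) (Steps.fwd (nat_lit 262144) (Steps.fwd (nat_lit 1048576) (Steps.fwd (nat_lit 262144) (Steps.bwd (nat_lit 6) (Steps.bwd (nat_lit 1) (Steps.fwd (nat_lit 1048576) Steps.nil))))))) (nat_lit 74) (nat_lit 3),
  Rule.mk (nat_lit 9) (nat_lit 314) (Steps.bwd (nat_lit 4) (Steps.bwd (nat_lit 8) (Steps.bwd (nat_lit 4) (Steps.bwd (nat_lit 9) (Steps.fwd (nat_lit 1048576) (Steps.fwd (nat_lit 2359296) (Steps.bwd (nat_lit 4) (Steps.bwd (nat_lit 9) (Steps.fwd (nat_lit 1048576) (Steps.fwd (nat_lit 2359296) (Steps.fwd (nat_lit 1048576) (Steps.bwd (nat_lit 9) (Steps.bwd (nat_lit 4) (Steps.fwd (nat_lit 2359296) (Steps.bwd (nat_lit 4) Steps.nil))))))))))))))) (nat_lit 106) (nat_lit 3),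
  Rule.mk (nat_lit 1) (nat_lit 274) (Steps.bwd (nat_lit 6) (Steps.bwd (nat_lit 5) (Steps.bwd (nat_lit 2) (Steps.bwd (nat_lit 1) (Steps.fwd (nat_lit 1572864) (Steps.bwd (nat_lit 1) (Steps.fwd (nat_lit 786432) (Steps.fwd (nat_lit 262144) (Steps.bwd (nat_lit 6) (Steps.bwd (nat_lit 1) (Steps.fwd (nat_lit 786432) (Steps.bwd (nat_lit 1) (Steps.fwd (nat_lit 1572864) Steps.nil))))))))))))) (nat_lit 34) (nat_lit 12),
  Rule.mk (nat_lit 9) (nat_lit 314) (Steps.bwd (nat_lit 4) (Steps.bwd (nat_lit 8) (Steps.fwd (nat_lit 1048576) (Steps.bwd (nat_lit 9) (Steps.bwd (nat_lit 4) (Steps.fwd (nat_lit 2359296) (Steps.fwd (nat_lit 1048576) (Steps.bwd (nat_lit 9) (Steps.fwd (nat_lit 1048576) (Steps.bwd (nat_lit 8) (Steps.bwd (nat_lit 4) (Steps.bwd (nat_lit 9) (Steps.fwd (nat_lit 1048576) (Steps.fwd (nat_lit 2359296) (Steps.fwd (nat_lit 1048576) Steps.nil))))))))))))))) (nat_lit 106)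 (nat_lit 3),
  Rule.mk (nat_lit 9) (nat_lit 314) (Steps.bwd (nat_lit 4) (Steps.fwd (nat_lit 2359296) (Steps.bwd (nat_lit 4) (Steps.bwd (nat_lit 9) (Steps.bwd (nat_lit 4) (Steps.fwd (nat_lit 2359296) (Steps.bwd (nat_lit 4) (Steps.bwd (nat_lit 9) (Steps.fwd (nat_lit 1048576) (Steps.fwd (nat_lit 2359296) (Steps.bwd (nat_lit 4) (Steps.bwd (nat_lit 9) (Steps.fwd (nat_lit 1048576) (Steps.fwd (nat_lit 2359296) (Steps.fwd (nat_lit 1048576) Steps.nil))))))))))))))) (nat_lit 106) (nat_lit 3),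
  Rule.mk (nat_lit 6) (nat_lit 154) (Steps.bwd (nat_lit 1) (Steps.fwd (nat_lit 1048576) (Steps.fwd (nat_lit 262144) (Steps.bwd (nat_lit 6) (Steps.fwd (nat_lit 262144) (Steps.bwd (nat_lit 4) (Steps.bwd (nat_lit 1) Steps.nil))))))) (nat_lit 74) (nat_lit 0),
  Rule.mk (nat_lit 9) (nat_lit 314) (Steps.bwd (nat_lit 4) (Steps.fwd (nat_lit 2359296) (Steps.fwd (nat_lit 1048576) (Steps.bwd (nat_lit 9) (Steps.bwd (nat_lit 4) (Steps.fwd (nat_lit 2359296) (Steps.bwd (nat_lit 4) (Steps.bwd (nat_lit 9) (Steps.fwd (nat_lit 1048576) (Steps.fwd (nat_lit 2359296) (Steps.fwd (nat_lit 1048576) (Steps.fwd (nat_lit 2097152) (Steps.bwd (nat_lit 4) (Steps.fwd (nat_lit 2359296) (Steps.bwd (nat_lit 4) Steps.nil))))))))))))))) (nat_lit 106) (nat_lit 3),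
  Rule.mk (nat_lit 4) (nat_lit 314) (Steps.bwd (nat_lit 9) (Steps.bwd (nat_lit 4) (Steps.fwd (nat_lit 2359296) (Steps.fwd (nat_lit 1048576) (Steps.bwd (nat_lit 9) (Steps.bwd (nat_lit 4) (Steps.bwd (nat_lit 8) (Steps.bwd (nat_lit 4) (Steps.fwd (nat_lit 2097152) (Steps.fwd (nat_lit 1048576) (Steps.fwd (nat_lit 2359296) (Steps.fwd (nat_lit 1048576) (Steps.bwd (nat_lit 9) (Steps.bwd (nat_lit 4) (Steps.fwd (nat_lit 2359296) Steps.nil))))))))))))))) (nat_lit 106) (nat_lit 2),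
  Rule.mk (nat_lit 1) (nat_lit 274) (Steps.bwd (nat_lit 6) (Steps.bwd (nat_lit 1) (Steps.bwd (nat_lit 3) (Steps.fwd (nat_lit 262144) (Steps.bwd (nat_lit 6) (Steps.bwd (nat_lit 1) (Steps.fwd (nat_lit 524288) (Steps.bwd (nat_lit 5) (Steps.bwd (nat_lit 6) (Steps.bwd (nat_lit 1) (Steps.bwd (nat_lit 6) (Steps.fwd (nat_lit 262144) (Steps.fwd (nat_lit 524288) Steps.nil))))))))))))) (nat_lit 35) (nat_lit 7),
  Rule.mk (nat_lit 4) (nat_lit 314) (Steps.bwd (nat_lit 9) (Steps.fwd (nat_lit 1048576) (Steps.bwd (nat_lit 8) (Steps.bwd (nat_lit 4) (Steps.bwd (nat_lit 9) (Steps.fwd (nat_lit 1048576) (Steps.bwd (nat_lit 8) (Steps.bwd (nat_lit 4) (Steps.bwd (nat_lit 9) (Steps.bwd (nat_lit 4) (Steps.fwd (nat_lit 2359296) (Steps.fwd (nat_lit 1048576) (Steps.bwd (nat_lit 9) (Steps.bwd (nat_lit 4) (Steps.fwd (nat_lit 2359296) Steps.nil))))))))))))))) (nat_lit 106) (nat_lit 2),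
  Rule.mk (nat_lit 6) (nat_lit 274) (Steps.bwd (nat_lit 1) (Steps.fwd (nat_lit 524288) (Steps.bwd (nat_lit 5) (Steps.fwd (nat_lit 1572864) (Steps.fwd (nat_lit 262144) (Steps.bwd (nat_lit 6) (Steps.bwd (nat_lit 1) (Steps.fwd (nat_lit 524288) (Steps.fwd (nat_lit 262144) (Steps.fwd (nat_lit 1572864) (Steps.bwd (nat_lit 1) (Steps.fwd (nat_lit 524288) (Steps.bwd (nat_lit 1) Steps.nil))))))))))))) (nat_lit 35) (nat_lit 12),
  Rule.mk (nat_lit 4) (nat_lit 314) (Steps.bwd (nat_lit 9) (Steps.bwd (nat_lit 4) (Steps.fwd (nat_lit 2359296) (Steps.fwd (nat_lit 1048576) (Steps.fwd (nat_lit 2097152) (Steps.bwd (nat_lit 4) (Steps.bwd (nat_lit 8) (Steps.bwd (nat_lit 4) (Steps.fwd (nat_lit 2097152) (Steps.bwd (nat_lit 4) (Steps.fwd (nat_lit 2359296) (Steps.fwd (nat_lit 1048576) (Steps.fwd (nat_lit 2097152) (Steps.fwd (nat_lit 1048576) (Steps.bwd (nat_lit 8) Steps.nil)))))))))))))))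 (nat_lit 106) (nat_lit 2),
  Rule.mk (nat_lit 4) (nat_lit 314) (Steps.bwd (nat_lit 8) (Steps.fwd (nat_lit 1048576) (Steps.bwd (nat_lit 9) (Steps.bwd (nat_lit 4) (Steps.fwd (nat_lit 2359296) (Steps.fwd (nat_lit 1048576) (Steps.fwd (nat_lit 2097152) (Steps.fwd (nat_lit 1048576) (Steps.bwd (nat_lit 8) (Steps.bwd (nat_lit 4) (Steps.bwd (nat_lit 9) (Steps.fwd (nat_lit 1048576) (Steps.fwd (nat_lit 2359296) (Steps.bwd (nat_lit 4) (Steps.fwd (nat_lit 2097152) Steps.nil))))))))))))))) (nat_lit 106) (nat_lit 0),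
  Rule.mk (nat_lit 4) (nat_lit 314) (Steps.bwd (nat_lit 8) (Steps.bwd (nat_lit 4) (Steps.bwd (nat_lit 9) (Steps.bwd (nat_lit 4) (Steps.fwd (nat_lit 2359296) (Steps.fwd (nat_lit 1048576) (Steps.bwd (nat_lit 9) (Steps.fwd (nat_lit 1048576) (Steps.bwd (nat_lit 8) (Steps.bwd (nat_lit 4) (Steps.fwd (nat_lit 2097152) (Steps.fwd (nat_lit 1048576) (Steps.fwd (nat_lit 2359296) (Steps.bwd (nat_lit 4) (Steps.bwd (nat_lit 9) Steps.nil))))))))))))))) (nat_lit 106) (nat_lit 0),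
  Rule.mk (nat_lit 4) (nat_lit 314) (Steps.bwd (nat_lit 8) (Steps.fwd (nat_lit 1048576) (Steps.bwd (nat_lit 9) (Steps.fwd (nat_lit 1048576) (Steps.fwd (nat_lit 2359296) (Steps.bwd (nat_lit 4) (Steps.fwd (nat_lit 2097152) (Steps.bwd (nat_lit 4) (Steps.fwd (nat_lit 2359296) (Steps.bwd (nat_lit 4) (Steps.fwd (nat_lit 2097152) (Steps.fwd (nat_lit 1048576) (Steps.fwd (nat_lit 2359296) (Steps.fwd (nat_lit 1048576) (Steps.bwd (nat_lit 9) Steps.nil))))))))))))))) (nat_lit 106) (nat_lit 0),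
  Rule.mk (nat_lit 4) (nat_lit 314) (Steps.bwd (nat_lit 9) (Steps.fwd (nat_lit 1048576) (Steps.fwd (nat_lit 2359296) (Steps.fwd (nat_lit 1048576) (Steps.bwd (nat_lit 9) (Steps.fwd (nat_lit 1048576) (Steps.bwd (nat_lit 8) (Steps.bwd (nat_lit 4) (Steps.bwd (nat_lit 9) (Steps.fwd (nat_lit 1048576) (Steps.bwd (nat_lit 8) (Steps.fwd (nat_lit 1048576) (Steps.bwd (nat_lit 9) (Steps.bwd (nat_lit 4) (Steps.fwd (nat_lit 2359296) Steps.nil))))))))))))))) (nat_lit 106) (nat_lit 2),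
  Rule.mk (nat_lit 4) (nat_lit 314) (Steps.bwd (nat_lit 9) (Steps.fwd (nat_lit 1048576) (Steps.bwd (nat_lit 8) (Steps.fwd (nat_lit 1048576) (Steps.fwd (nat_lit 2097152) (Steps.fwd (nat_lit 1048576) (Steps.fwd (nat_lit 2359296) (Steps.fwd (nat_lit 1048576) (Steps.fwd (nat_lit 2097152) (Steps.fwd (nat_lit 1048576) (Steps.bwd (nat_lit 8) (Steps.bwd (nat_lit 4) (Steps.fwd (nat_lit 2097152) (Steps.bwd (nat_lit 4) (Steps.fwd (nat_lit 2359296) Steps.nil))))))))))))))) (nat_lit 106) (nat_lit 2),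
  Rule.mk (nat_lit 5) (nat_lit 114) (Steps.bwd (nat_lit 3) (Steps.bwd (nat_lit 7) (Steps.fwd (nat_lit 1310720) (Steps.fwd (nat_lit 786432) (Steps.bwd (nat_lit 7) Steps.nil))))) (nat_lit 61) (nat_lit 5),
  Rule.mk (nat_lit 9) (nat_lit 314) (Steps.bwd (nat_lit 4) (Steps.fwd (nat_lit 2359296) (Steps.bwd (nat_lit 4) (Steps.bwd (nat_lit 9) (Steps.bwd (nat_lit 4) (Steps.bwd (nat_lit 8) (Steps.bwd (nat_lit 4) (Steps.fwd (nat_lit 2097152) (Steps.fwd (nat_lit 1048576) (Steps.fwd (nat_lit 2359296) (Steps.fwd (nat_lit 1048576) (Steps.fwd (nat_lit 2097152) (Steps.bwd (nat_lit 4) (Steps.fwd (nat_lit 2359296) (Steps.fwd (nat_lit 1048576) Steps.nil))))))))))))))) (nat_lit 106) (nat_lit 3),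
  Rule.mk (nat_lit 8) (nat_lit 314) (Steps.bwd (nat_lit 4) (Steps.fwd (nat_lit 2097152) (Steps.bwd (nat_lit 4) (Steps.fwd (nat_lit 2359296) (Steps.bwd (nat_lit 4) (Steps.fwd (nat_lit 2097152) (Steps.fwd (nat_lit 1048576) (Steps.fwd (nat_lit 2359296) (Steps.bwd (nat_lit 4) (Steps.bwd (nat_lit 9) (Steps.bwd (nat_lit 4) (Steps.fwd (nat_lit 2359296) (Steps.fwd (nat_lit 1048576) (Steps.bwd (nat_lit 9) (Steps.bwd (nat_lit 4) Steps.nil))))))))))))))) (nat_lit 106) (nat_lit 1),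
  Rule.mk (nat_lit 9) (nat_lit 314) (Steps.bwd (nat_lit 4) (Steps.bwd (nat_lit 8) (Steps.bwd (nat_lit 4) (Steps.bwd (nat_lit 9) (Steps.fwd (nat_lit 1048576) (Steps.bwd (nat_lit 8) (Steps.bwd (nat_lit 4) (Steps.bwd (nat_lit 9) (Steps.bwd (nat_lit 4) (Steps.bwd (nat_lit 8) (Steps.fwd (nat_lit 1048576) (Steps.fwd (nat_lit 2097152) (Steps.bwd (nat_lit 4) (Steps.fwd (nat_lit 2359296) (Steps.bwd (nat_lit 4) Steps.nil))))))))))))))) (nat_lit 106) (nat_lit 3),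
  Rule.mk (nat_lit 4) (nat_lit 154) (Steps.bwd (nat_lit 1) (Steps.bwd (nat_lit 6) (Steps.bwd (nat_lit 1) (Steps.bwd (nat_lit 4) (Steps.bwd (nat_lit 1) (Steps.bwd (nat_lit 6) (Steps.bwd (nat_lit 1) Steps.nil))))))) (nat_lit 74) (nat_lit 2),
  Rule.mk (nat_lit 6) (nat_lit 274) (Steps.bwd (nat_lit 1) (Steps.bwd (nat_lit 6) (Steps.bwd (nat_lit 5) (Steps.fwd (nat_lit 786432) (Steps.bwd (nat_lit 1) (Steps.bwd (nat_lit 6) (Steps.bwd (nat_lit 1) (Steps.fwd (nat_lit 786432) (Steps.fwd (nat_lit 262144) (Steps.fwd (nat_lit 1572864) (Steps.fwd (nat_lit 262144) (Steps.fwd (nat_lit 786432) (Steps.bwd (nat_lit 1) Steps.nil))))))))))))) (nat_lit 34) (nat_lit 11),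
  Rule.mk (nat_lit 6) (nat_lit 274) (Steps.bwd (nat_lit 1) (Steps.fwd (nat_lit 786432) (Steps.fwd (nat_lit 262144) (Steps.bwd (nat_lit 6) (Steps.bwd (nat_lit 1) (Steps.bwd (nat_lit 2) (Steps.bwd (nat_lit 1) (Steps.bwd (nat_lit 6) (Steps.fwd (nat_lit 262144) (Steps.bwd (nat_lit 6) (Steps.fwd (nat_lit 1310720) (Steps.fwd (nat_lit 786432) (Steps.fwd (nat_lit 262144) Steps.nil))))))))))))) (nat_lit 34) (nat_lit 3),
  Rule.mk (nat_lit 4) (nat_lit 114) (Steps.bwd (nat_lit 2) (Steps.fwd (nat_lit 1310720) (Steps.fwd (nat_lit 1048576) (Steps.fwd (nat_lit 786432) (Steps.bwd (nat_lit 6) Steps.nil))))) (nat_lit 58) (nat_lit 0),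
  Rule.mk (nat_lit 9) (nat_lit 314) (Steps.bwd (nat_lit 4) (Steps.bwd (nat_lit 8) (Steps.fwd (nat_lit 1048576) (Steps.fwd (nat_lit 2097152) (Steps.fwd (nat_lit 1048576) (Steps.bwd (nat_lit 8) (Steps.bwd (nat_lit 4) (Steps.bwd (nat_lit 9) (Steps.fwd (nat_lit 1048576) (Steps.fwd (nat_lit 2359296) (Steps.bwd (nat_lit 4) (Steps.bwd (nat_lit 9) (Steps.fwd (nat_lit 1048576) (Steps.fwd (nat_lit 2359296) (Steps.fwd (nat_lit 1048576) Steps.nil))))))))))))))) (nat_lit 106) (nat_lit 3),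
  Rule.mk (nat_lit 4) (nat_lit 154) (Steps.fwd (nat_lit 524288) (Steps.fwd (nat_lit 1835008) (Steps.fwd (nat_lit 1572864) (Steps.fwd (nat_lit 1048576) (Steps.bwd (nat_lit 3) (Steps.fwd (nat_lit 1835008) (Steps.bwd (nat_lit 5) Steps.nil))))))) (nat_lit 79) (nat_lit 7),
  Rule.mk (nat_lit 9) (nat_lit 314) (Steps.bwd (nat_lit 4) (Steps.fwd (nat_lit 2359296) (Steps.bwd (nat_lit 4) (Steps.fwd (nat_lit 2097152) (Steps.bwd (nat_lit 4) (Steps.fwd (nat_lit 2359296) (Steps.bwd (nat_lit 4) (Steps.bwd (nat_lit 9) (Steps.bwd (nat_lit 4) (Steps.fwd (nat_lit 2359296) (Steps.fwd (nat_lit 1048576) (Steps.bwd (nat_lit 9) (Steps.bwd (nat_lit 4) (Steps.bwd (nat_lit 8) (Steps.bwd (nat_lit 4) Steps.nil))))))))))))))) (nat_lit 106) (nat_lit 3),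
  Rule.mk (nat_lit 9) (nat_lit 314) (Steps.bwd (nat_lit 4) (Steps.fwd (nat_lit 2359296) (Steps.fwd (nat_lit 1048576) (Steps.bwd (nat_lit 9) (Steps.fwd (nat_lit 1048576) (Steps.fwd (nat_lit 2359296) (Steps.fwd (nat_lit 1048576) (Steps.fwd (nat_lit 2097152) (Steps.fwd (nat_lit 1048576) (Steps.bwd (nat_lit 8) (Steps.bwd (nat_lit 4) (Steps.fwd (nat_lit 2097152) (Steps.bwd (nat_lit 4) (Steps.fwd (nat_lit 2359296) (Steps.bwd (nat_lit 4) Steps.nil))))))))))))))) (nat_lit 106) (nat_lit 3),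
  Rule.mk (nat_lit 9) (nat_lit 314) (Steps.bwd (nat_lit 4) (Steps.bwd (nat_lit 8) (Steps.bwd (nat_lit 4) (Steps.fwd (nat_lit 2097152) (Steps.fwd (nat_lit 1048576) (Steps.bwd (nat_lit 8) (Steps.fwd (nat_lit 1048576) (Steps.bwd (nat_lit 9) (Steps.bwd (nat_lit 4) (Steps.fwd (nat_lit 2359296) (Steps.bwd (nat_lit 4) (Steps.fwd (nat_lit 2097152) (Steps.fwd (nat_lit 1048576) (Steps.fwd (nat_lit 2359296) (Steps.fwd (nat_lit 1048576) Steps.nil))))))))))))))) (nat_lit 106) (nat_lit 3),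
  Rule.mk (nat_lit 4) (nat_lit 314) (Steps.bwd (nat_lit 8) (Steps.bwd (nat_lit 4) (Steps.bwd (nat_lit 9) (Steps.bwd (nat_lit 4) (Steps.bwd (nat_lit 8) (Steps.bwd (nat_lit 4) (Steps.bwd (nat_lit 9) (Steps.fwd (nat_lit 1048576) (Steps.bwd (nat_lit 8) (Steps.bwd (nat_lit 4) (Steps.bwd (nat_lit 9) (Steps.fwd (nat_lit 1048576) (Steps.fwd (nat_lit 2359296) (Steps.fwd (nat_lit 1048576) (Steps.fwd (nat_lit 2097152) Steps.nil))))))))))))))) (nat_lit 106) (nat_lit 0),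
  Rule.mk (nat_lit 4) (nat_lit 314) (Steps.bwd (nat_lit 9) (Steps.fwd (nat_lit 1048576) (Steps.fwd (nat_lit 2359296) (Steps.fwd (nat_lit 1048576) (Steps.bwd (nat_lit 9) (Steps.fwd (nat_lit 1048576) (Steps.fwd (nat_lit 2359296) (Steps.fwd (nat_lit 1048576) (Steps.fwd (nat_lit 2097152) (Steps.bwd (nat_lit 4) (Steps.fwd (nat_lit 2359296) (Steps.fwd (nat_lit 1048576) (Steps.fwd (nat_lit 2097152) (Steps.fwd (nat_lit 1048576) (Steps.bwd (nat_lit 8) Steps.nil))))))))))))))) (nat_lit 106) (nat_lit 2),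
  Rule.mk (nat_lit 4) (nat_lit 154) (Steps.bwd (nat_lit 1) (Steps.bwd (nat_lit 4) (Steps.fwd (nat_lit 1835008) (Steps.fwd (nat_lit 262144) (Steps.fwd (nat_lit 1048576) (Steps.bwd (nat_lit 1) (Steps.fwd (nat_lit 1835008) Steps.nil))))))) (nat_lit 76) (nat_lit 5),
  Rule.mk (nat_lit 9) (nat_lit 314) (Steps.bwd (nat_lit 4) (Steps.fwd (nat_lit 2359296) (Steps.fwd (nat_lit 1048576) (Steps.fwd (nat_lit 2097152) (Steps.fwd (nat_lit 1048576) (Steps.bwd (nat_lit 8) (Steps.fwd (nat_lit 1048576) (Steps.bwd (nat_lit 9) (Steps.fwd (nat_lit 1048576) (Steps.bwd (nat_lit 8) (Steps.fwd (nat_lit 1048576) (Steps.fwd (nat_lit 2097152) (Steps.bwd (nat_lit 4) (Steps.fwd (nat_lit 2359296) (Steps.bwd (nat_lit 4) Steps.nil))))))))))))))) (nat_lit 106) (nat_lit 3),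
  Rule.mk (nat_lit 1) (nat_lit 274) (Steps.bwd (nat_lit 6) (Steps.bwd (nat_lit 1) (Steps.fwd (nat_lit 786432) (Steps.fwd (nat_lit 262144) (Steps.fwd (nat_lit 1572864) (Steps.fwd (nat_lit 262144) (Steps.fwd (nat_lit 786432) (Steps.bwd (nat_lit 1) (Steps.fwd (nat_lit 1572864) (Steps.fwd (nat_lit 262144) (Steps.bwd (nat_lit 6) (Steps.fwd (nat_lit 1310720) (Steps.fwd (nat_lit 786432) Steps.nil))))))))))))) (nat_lit 34) (nat_lit 2),
  Rule.mk (nat_lit 9) (nat_lit 314) (Steps.bwd (nat_lit 4) (Steps.bwd (nat_lit 8) (Steps.bwd (nat_lit 4) (Steps.fwd (nat_lit 2097152) (Steps.fwd (nat_lit 1048576) (Steps.bwd (nat_lit 8) (Steps.fwd (nat_lit 1048576) (Steps.fwd (nat_lit 2097152) (Steps.fwd (nat_lit 1048576) (Steps.bwd (nat_lit 8) (Steps.bwd (nat_lit 4) (Steps.bwd (nat_lit 9) (Steps.fwd (nat_lit 1048576) (Steps.fwd (nat_lit 2359296) (Steps.fwd (nat_lit 1048576) Steps.nil)))))))))))))))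 (nat_lit 106) (nat_lit 3),
  Rule.mk (nat_lit 4) (nat_lit 314) (Steps.bwd (nat_lit 9) (Steps.fwd (nat_lit 1048576) (Steps.bwd (nat_lit 8) (Steps.bwd (nat_lit 4) (Steps.bwd (nat_lit 9) (Steps.bwd (nat_lit 4) (Steps.fwd (nat_lit 2359296) (Steps.fwd (nat_lit 1048576) (Steps.bwd (nat_lit 9) (Steps.bwd (nat_lit 4) (Steps.bwd (nat_lit 8) (Steps.bwd (nat_lit 4) (Steps.fwd (nat_lit 2097152) (Steps.fwd (nat_lit 1048576) (Steps.fwd (nat_lit 2359296) Steps.nil))))))))))))))) (nat_lit 106) (nat_lit 2),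
  Rule.mk (nat_lit 9) (nat_lit 314) (Steps.bwd (nat_lit 4) (Steps.bwd (nat_lit 8) (Steps.fwd (nat_lit 1048576) (Steps.fwd (nat_lit 2097152) (Steps.fwd (nat_lit 1048576) (Steps.fwd (nat_lit 2359296) (Steps.bwd (nat_lit 4) (Steps.bwd (nat_lit 9) (Steps.bwd (nat_lit 4) (Steps.fwd (nat_lit 2359296) (Steps.fwd (nat_lit 1048576) (Steps.bwd (nat_lit 9) (Steps.bwd (nat_lit 4) (Steps.bwd (nat_lit 8) (Steps.fwd (nat_lit 1048576) Steps.nil))))))))))))))) (nat_lit 106) (nat_lit 3),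
  Rule.mk (nat_lit 9) (nat_lit 314) (Steps.fwd (nat_lit 1048576) (Steps.bwd (nat_lit 8) (Steps.bwd (nat_lit 4) (Steps.bwd (nat_lit 9) (Steps.bwd (nat_lit 4) (Steps.bwd (nat_lit 8) (Steps.bwd (nat_lit 4) (Steps.fwd (nat_lit 2097152) (Steps.fwd (nat_lit 1048576) (Steps.fwd (nat_lit 2359296) (Steps.bwd (nat_lit 4) (Steps.fwd (nat_lit 2097152) (Steps.fwd (nat_lit 1048576) (Steps.bwd (nat_lit 8) (Steps.bwd (nat_lit 4) Steps.nil))))))))))))))) (nat_lit 106) (nat_lit 3),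
  Rule.mk (nat_lit 4) (nat_lit 314) (Steps.bwd (nat_lit 8) (Steps.fwd (nat_lit 1048576) (Steps.bwd (nat_lit 9) (Steps.bwd (nat_lit 4) (Steps.fwd (nat_lit 2359296) (Steps.fwd (nat_lit 1048576) (Steps.bwd (nat_lit 9) (Steps.bwd (nat_lit 4) (Steps.fwd (nat_lit 2359296) (Steps.fwd (nat_lit 1048576) (Steps.bwd (nat_lit 9) (Steps.bwd (nat_lit 4) (Steps.fwd (nat_lit 2359296) (Steps.fwd (nat_lit 1048576) (Steps.bwd (nat_lit 9) Steps.nil))))))))))))))) (nat_lit 106) (nat_lit 0),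
  Rule.mk (nat_lit 4) (nat_lit 314) (Steps.bwd (nat_lit 9) (Steps.fwd (nat_lit 1048576) (Steps.fwd (nat_lit 2359296) (Steps.fwd (nat_lit 1048576) (Steps.bwd (nat_lit 9) (Steps.fwd (nat_lit 1048576) (Steps.bwd (nat_lit 8) (Steps.bwd (nat_lit 4) (Steps.bwd (nat_lit 9) (Steps.bwd (nat_lit 4) (Steps.fwd (nat_lit 2359296) (Steps.fwd (nat_lit 1048576) (Steps.bwd (nat_lit 9) (Steps.bwd (nat_lit 4) (Steps.fwd (nat_lit 2359296) Steps.nil))))))))))))))) (nat_lit 106) (nat_lit 2),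
  Rule.mk (nat_lit 8) (nat_lit 314) (Steps.bwd (nat_lit 4) (Steps.bwd (nat_lit 9) (Steps.fwd (nat_lit 1048576) (Steps.fwd (nat_lit 2359296) (Steps.bwd (nat_lit 4) (Steps.fwd (nat_lit 2097152) (Steps.bwd (nat_lit 4) (Steps.fwd (nat_lit 2359296) (Steps.fwd (nat_lit 1048576) (Steps.fwd (nat_lit 2097152) (Steps.bwd (nat_lit 4) (Steps.bwd (nat_lit 8) (Steps.fwd (nat_lit 1048576) (Steps.fwd (nat_lit 2097152) (Steps.fwd (nat_lit 1048576) Steps.nil))))))))))))))) (nat_lit 106) (nat_lit 1),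
  Rule.mk (nat_lit 4) (nat_lit 314) (Steps.bwd (nat_lit 8) (Steps.bwd (nat_lit 4) (Steps.bwd (nat_lit 9) (Steps.bwd (nat_lit 4) (Steps.bwd (nat_lit 8) (Steps.fwd (nat_lit 1048576) (Steps.bwd (nat_lit 9) (Steps.fwd (nat_lit 1048576) (Steps.fwd (nat_lit 2359296) (Steps.fwd (nat_lit 1048576) (Steps.fwd (nat_lit 2097152) (Steps.fwd (nat_lit 1048576) (Steps.fwd (nat_lit 2359296) (Steps.bwd (nat_lit 4) (Steps.fwd (nat_lit 2097152) Steps.nil))))))))))))))) (nat_lit 106) (nat_lit 0),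
  Rule.mk (nat_lit 9) (nat_lit 314) (Steps.bwd (nat_lit 4) (Steps.bwd (nat_lit 8) (Steps.bwd (nat_lit 4) (Steps.bwd (nat_lit 9) (Steps.bwd (nat_lit 4) (Steps.fwd (nat_lit 2359296) (Steps.bwd (nat_lit 4) (Steps.bwd (nat_lit 9) (Steps.fwd (nat_lit 1048576) (Steps.fwd (nat_lit 2359296) (Steps.fwd (nat_lit 1048576) (Steps.fwd (nat_lit 2097152) (Steps.fwd (nat_lit 1048576) (Steps.bwd (nat_lit 8) (Steps.fwd (nat_lit 1048576) Steps.nil))))))))))))))) (nat_lit 106) (nat_lit 3),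
  Rule.mk (nat_lit 7) (nat_lit 114) (Steps.bwd (nat_lit 2) (Steps.bwd (nat_lit 5) (Steps.bwd (nat_lit 7) (Steps.fwd (nat_lit 524288) (Steps.bwd (nat_lit 5) Steps.nil))))) (nat_lit 60) (nat_lit 0),
  Rule.mk (nat_lit 4) (nat_lit 154) (Steps.bwd (nat_lit 1) (Steps.fwd (nat_lit 1048576) (Steps.fwd (nat_lit 1835008) (Steps.fwd (nat_lit 262144) (Steps.bwd (nat_lit 4) (Steps.bwd (nat_lit 1) (Steps.fwd (nat_lit 1835008) Steps.nil))))))) (nat_lit 76) (nat_lit 5),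
  Rule.mk (nat_lit 9) (nat_lit 314) (Steps.bwd (nat_lit 4) (Steps.bwd (nat_lit 8) (Steps.bwd (nat_lit 4) (Steps.fwd (nat_lit 2097152) (Steps.bwd (nat_lit 4) (Steps.fwd (nat_lit 2359296) (Steps.fwd (nat_lit 1048576) (Steps.fwd (nat_lit 2097152) (Steps.fwd (nat_lit 1048576) (Steps.bwd (nat_lit 8) (Steps.bwd (nat_lit 4) (Steps.fwd (nat_lit 2097152) (Steps.bwd (nat_lit 4) (Steps.fwd (nat_lit 2359296) (Steps.bwd (nat_lit 4) Steps.nil))))))))))))))) (nat_lit 106) (nat_lit 3),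
  Rule.mk (nat_lit 6) (nat_lit 274) (Steps.bwd (nat_lit 1) (Steps.fwd (nat_lit 1572864) (Steps.fwd (nat_lit 1310720) (Steps.bwd (nat_lit 2) (Steps.bwd (nat_lit 1) (Steps.fwd (nat_lit 1572864) (Steps.fwd (nat_lit 262144) (Steps.fwd (nat_lit 786432) (Steps.bwd (nat_lit 1) (Steps.bwd (nat_lit 6) (Steps.fwd (nat_lit 262144) (Steps.bwd (nat_lit 2) (Steps.bwd (nat_lit 1) Steps.nil))))))))))))) (nat_lit 34) (nat_lit 11),
  Rule.mk (nat_lit 8) (nat_lit 314) (Steps.bwd (nat_lit 4) (Steps.bwd (nat_lit 9) (Steps.fwd (nat_lit 1048576) (Steps.fwd (nat_lit 2359296) (Steps.fwd (nat_lit 1048576) (Steps.fwd (nat_lit 2097152) (Steps.fwd (nat_lit 1048576) (Steps.fwd (nat_lit 2359296) (Steps.bwd (nat_lit 4) (Steps.fwd (nat_lit 2097152) (Steps.fwd (nat_lit 1048576) (Steps.bwd (nat_lit 8) (Steps.fwd (nat_lit 1048576) (Steps.fwd (nat_lit 2097152) (Steps.fwd (nat_lit 1048576) Steps.nil)))))))))))))))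 (nat_lit 106) (nat_lit 1),
  Rule.mk (nat_lit 9) (nat_lit 314) (Steps.bwd (nat_lit 4) (Steps.bwd (nat_lit 8) (Steps.fwd (nat_lit 1048576) (Steps.bwd (nat_lit 9) (Steps.bwd (nat_lit 4) (Steps.fwd (nat_lit 2359296) (Steps.fwd (nat_lit 1048576) (Steps.fwd (nat_lit 2097152) (Steps.bwd (nat_lit 4) (Steps.fwd (nat_lit 2359296) (Steps.fwd (nat_lit 1048576) (Steps.bwd (nat_lit 9) (Steps.bwd (nat_lit 4) (Steps.fwd (nat_lit 2359296) (Steps.fwd (nat_lit 1048576) Steps.nil))))))))))))))) (nat_lit 106) (nat_lit 3),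
  Rule.mk (nat_lit 4) (nat_lit 314) (Steps.bwd (nat_lit 9) (Steps.fwd (nat_lit 1048576) (Steps.bwd (nat_lit 8) (Steps.fwd (nat_lit 1048576) (Steps.fwd (nat_lit 2097152) (Steps.bwd (nat_lit 4) (Steps.fwd (nat_lit 2359296) (Steps.bwd (nat_lit 4) (Steps.bwd (nat_lit 9) (Steps.bwd (nat_lit 4) (Steps.fwd (nat_lit 2359296) (Steps.bwd (nat_lit 4) (Steps.fwd (nat_lit 2097152) (Steps.fwd (nat_lit 1048576) (Steps.bwd (nat_lit 8) Steps.nil))))))))))))))) (nat_lit 106) (nat_lit 2),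
  Rule.mk (nat_lit 4) (nat_lit 314) (Steps.bwd (nat_lit 9) (Steps.bwd (nat_lit 4) (Steps.fwd (nat_lit 2359296) (Steps.fwd (nat_lit 1048576) (Steps.bwd (nat_lit 9) (Steps.bwd (nat_lit 4) (Steps.bwd (nat_lit 8) (Steps.bwd (nat_lit 4) (Steps.bwd (nat_lit 9) (Steps.bwd (nat_lit 4) (Steps.fwd (nat_lit 2359296) (Steps.fwd (nat_lit 1048576) (Steps.fwd (nat_lit 2097152) (Steps.fwd (nat_lit 1048576) (Steps.bwd (nat_lit 8) Steps.nil))))))))))))))) (nat_lit 106) (nat_lit 2),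
  Rule.mk (nat_lit 4) (nat_lit 314) (Steps.bwd (nat_lit 9) (Steps.fwd (nat_lit 1048576) (Steps.bwd (nat_lit 8) (Steps.bwd (nat_lit 4) (Steps.bwd (nat_lit 9) (Steps.bwd (nat_lit 4) (Steps.fwd (nat_lit 2359296) (Steps.bwd (nat_lit 4) (Steps.bwd (nat_lit 9) (Steps.fwd (nat_lit 1048576) (Steps.bwd (nat_lit 8) (Steps.fwd (nat_lit 1048576) (Steps.fwd (nat_lit 2097152) (Steps.bwd (nat_lit 4) (Steps.fwd (nat_lit 2359296) Steps.nil))))))))))))))) (nat_lit 106) (nat_lit 2),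
  Rule.mk (nat_lit 1) (nat_lit 154) (Steps.fwd (nat_lit 1572864) (Steps.bwd (nat_lit 1) (Steps.bwd (nat_lit 4) (Steps.fwd (nat_lit 262144) (Steps.bwd (nat_lit 6) (Steps.fwd (nat_lit 262144) (Steps.bwd (nat_lit 4) Steps.nil))))))) (nat_lit 74) (nat_lit 3)]
noncomputable def R_122 : List (Rule) := [Rule.mk (nat_lit 8) (nat_lit 314) (Steps.bwd (nat_lit 4) (Steps.fwd (nat_lit 2097152) (Steps.bwd (nat_lit 4) (Steps.fwd (nat_lit 2359296) (Steps.bwd (nat_lit 4) (Steps.fwd (nat_lit 2097152) (Steps.fwd (nat_lit 1048576) (Steps.fwd (nat_lit 2359296) (Steps.fwd (nat_lit 1048576) (Steps.bwd (nat_lit 9) (Steps.bwd (nat_lit 4) (Steps.fwd (nat_lit 2359296) (Steps.fwd (nat_lit 1048576) (Steps.fwd (nat_lit 2097152) (Steps.fwd (nat_lit 1048576) Steps.nil))))))))))))))) (nat_lit 106) (nat_lit 1),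
  Rule.mk (nat_lit 9) (nat_lit 314) (Steps.bwd (nat_lit 4) (Steps.bwd (nat_lit 8) (Steps.bwd (nat_lit 4) (Steps.fwd (nat_lit 2097152) (Steps.bwd (nat_lit 4) (Steps.fwd (nat_lit 2359296) (Steps.bwd (nat_lit 4) (Steps.bwd (nat_lit 9) (Steps.fwd (nat_lit 1048576) (Steps.fwd (nat_lit 2359296) (Steps.bwd (nat_lit 4) (Steps.bwd (nat_lit 9) (Steps.fwd (nat_lit 1048576) (Steps.fwd (nat_lit 2359296) (Steps.bwd (nat_lit 4) Steps.nil))))))))))))))) (nat_lit 106) (nat_lit 3),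
  Rule.mk (nat_lit 8) (nat_lit 314) (Steps.bwd (nat_lit 4) (Steps.bwd (nat_lit 9) (Steps.fwd (nat_lit 1048576) (Steps.fwd (nat_lit 2359296) (Steps.fwd (nat_lit 1048576) (Steps.fwd (nat_lit 2097152) (Steps.bwd (nat_lit 4) (Steps.fwd (nat_lit 2359296) (Steps.fwd (nat_lit 1048576) (Steps.fwd (nat_lit 2097152) (Steps.bwd (nat_lit 4) (Steps.fwd (nat_lit 2359296) (Steps.bwd (nat_lit 4) (Steps.bwd (nat_lit 9) (Steps.bwd (nat_lit 4) Steps.nil))))))))))))))) (nat_lit 106) (nat_lit 1),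
  Rule.mk (nat_lit 8) (nat_lit 314) (Steps.bwd (nat_lit 4) (Steps.bwd (nat_lit 9) (Steps.bwd (nat_lit 4) (Steps.fwd (nat_lit 2359296) (Steps.fwd (nat_lit 1048576) (Steps.fwd (nat_lit 2097152) (Steps.fwd (nat_lit 1048576) (Steps.bwd (nat_lit 8) (Steps.fwd (nat_lit 1048576) (Steps.bwd (nat_lit 9) (Steps.fwd (nat_lit 1048576) (Steps.bwd (nat_lit 8) (Steps.bwd (nat_lit 4) (Steps.bwd (nat_lit 9) (Steps.fwd (nat_lit 1048576) Steps.nil))))))))))))))) (nat_lit 106) (nat_lit 1),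
  Rule.mk (nat_lit 6) (nat_lit 274) (Steps.bwd (nat_lit 1) (Steps.fwd (nat_lit 1572864) (Steps.fwd (nat_lit 1310720) (Steps.fwd (nat_lit 786432) (Steps.fwd (nat_lit 262144) (Steps.fwd (nat_lit 1572864) (Steps.bwd (nat_lit 1) (Steps.fwd (nat_lit 786432) (Steps.fwd (nat_lit 262144) (Steps.fwd (nat_lit 1572864) (Steps.bwd (nat_lit 1) (Steps.fwd (nat_lit 786432) (Steps.bwd (nat_lit 1) Steps.nil))))))))))))) (nat_lit 34) (nat_lit 11),
  Rule.mk (nat_lit 9) (nat_lit 314) (Steps.bwd (nat_lit 4) (Steps.bwd (nat_lit 8) (Steps.fwd (nat_lit 1048576) (Steps.fwd (nat_lit 2097152) (Steps.bwd (nat_lit 4) (Steps.bwd (nat_lit 8) (Steps.fwd (nat_lit 1048576) (Steps.bwd (nat_lit 9) (Steps.bwd (nat_lit 4) (Steps.bwd (nat_lit 8) (Steps.fwd (nat_lit 1048576) (Steps.fwd (nat_lit 2097152) (Steps.bwd (nat_lit 4) (Steps.fwd (nat_lit 2359296) (Steps.fwd (nat_lit 1048576) Steps.nil)))))))))))))))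 (nat_lit 106) (nat_lit 3),
  Rule.mk (nat_lit 8) (nat_lit 314) (Steps.bwd (nat_lit 4) (Steps.bwd (nat_lit 9) (Steps.bwd (nat_lit 4) (Steps.fwd (nat_lit 2359296) (Steps.fwd (nat_lit 1048576) (Steps.bwd (nat_lit 9) (Steps.bwd (nat_lit 4) (Steps.fwd (nat_lit 2359296) (Steps.bwd (nat_lit 4) (Steps.fwd (nat_lit 2097152) (Steps.bwd (nat_lit 4) (Steps.fwd (nat_lit 2359296) (Steps.fwd (nat_lit 1048576) (Steps.fwd (nat_lit 2097152) (Steps.fwd (nat_lit 1048576) Steps.nil))))))))))))))) (nat_lit 106) (nat_lit 1),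
  Rule.mk (nat_lit 4) (nat_lit 314) (Steps.bwd (nat_lit 9) (Steps.bwd (nat_lit 4) (Steps.bwd (nat_lit 8) (Steps.bwd (nat_lit 4) (Steps.bwd (nat_lit 9) (Steps.bwd (nat_lit 4) (Steps.bwd (nat_lit 8) (Steps.bwd (nat_lit 4) (Steps.bwd (nat_lit 9) (Steps.fwd (nat_lit 1048576) (Steps.bwd (nat_lit 8) (Steps.fwd (nat_lit 1048576) (Steps.bwd (nat_lit 9) (Steps.bwd (nat_lit 4) (Steps.fwd (nat_lit 2359296) Steps.nil))))))))))))))) (nat_lit 106) (nat_lit 2),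
  Rule.mk (nat_lit 9) (nat_lit 314) (Steps.bwd (nat_lit 4) (Steps.fwd (nat_lit 2359296) (Steps.bwd (nat_lit 4) (Steps.fwd (nat_lit 2097152) (Steps.bwd (nat_lit 4) (Steps.bwd (nat_lit 8) (Steps.bwd (nat_lit 4) (Steps.bwd (nat_lit 9) (Steps.bwd (nat_lit 4) (Steps.bwd (nat_lit 8) (Steps.fwd (nat_lit 1048576) (Steps.bwd (nat_lit 9) (Steps.fwd (nat_lit 1048576) (Steps.fwd (nat_lit 2359296) (Steps.fwd (nat_lit 1048576) Steps.nil))))))))))))))) (nat_lit 106) (nat_lit 3),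
  Rule.mk (nat_lit 9) (nat_lit 314) (Steps.bwd (nat_lit 4) (Steps.fwd (nat_lit 2359296) (Steps.fwd (nat_lit 1048576) (Steps.bwd (nat_lit 9) (Steps.fwd (nat_lit 1048576) (Steps.bwd (nat_lit 8) (Steps.bwd (nat_lit 4) (Steps.fwd (nat_lit 2097152) (Steps.bwd (nat_lit 4) (Steps.bwd (nat_lit 8) (Steps.fwd (nat_lit 1048576) (Steps.fwd (nat_lit 2097152) (Steps.fwd (nat_lit 1048576) (Steps.fwd (nat_lit 2359296) (Steps.bwd (nat_lit 4) Steps.nil))))))))))))))) (nat_lit 106) (nat_lit 3),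
  Rule.mk (nat_lit 1) (nat_lit 274) (Steps.bwd (nat_lit 6) (Steps.bwd (nat_lit 1) (Steps.fwd (nat_lit 1572864) (Steps.bwd (nat_lit 5) (Steps.bwd (nat_lit 2) (Steps.fwd (nat_lit 262144) (Steps.bwd (nat_lit 6) (Steps.fwd (nat_lit 262144) (Steps.bwd (nat_lit 2) (Steps.bwd (nat_lit 1) (Steps.fwd (nat_lit 1572864) (Steps.fwd (nat_lit 262144) (Steps.fwd (nat_lit 786432) Steps.nil))))))))))))) (nat_lit 34) (nat_lit 10),
  Rule.mk (nat_lit 4) (nat_lit 314) (Steps.bwd (nat_lit 9) (Steps.bwd (nat_lit 4) (Steps.bwd (nat_lit 8) (Steps.bwd (nat_lit 4) (Steps.bwd (nat_lit 9) (Steps.fwd (nat_lit 1048576) (Steps.fwd (nat_lit 2359296) (Steps.fwd (nat_lit 1048576) (Steps.bwd (nat_lit 9) (Steps.fwd (nat_lit 1048576) (Steps.bwd (nat_lit 8) (Steps.fwd (nat_lit 1048576) (Steps.fwd (nat_lit 2097152) (Steps.fwd (nat_lit 1048576) (Steps.fwd (nat_lit 2359296) Steps.nil))))))))))))))) (nat_lit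 106) (nat_lit 2),
  Rule.mk (nat_lit 9) (nat_lit 314) (Steps.bwd (nat_lit 4) (Steps.fwd (nat_lit 2359296) (Steps.fwd (nat_lit 1048576) (Steps.bwd (nat_lit 9) (Steps.fwd (nat_lit 1048576) (Steps.bwd (nat_lit 8) (Steps.bwd (nat_lit 4) (Steps.fwd (nat_lit 2097152) (Steps.bwd (nat_lit 4) (Steps.bwd (nat_lit 8) (Steps.fwd (nat_lit 1048576) (Steps.bwd (nat_lit 9) (Steps.fwd (nat_lit 1048576) (Steps.fwd (nat_lit 2359296) (Steps.fwd (nat_lit 1048576) Steps.nil))))))))))))))) (nat_lit 106) (nat_lit 3),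
  Rule.mk (nat_lit 9) (nat_lit 314) (Steps.bwd (nat_lit 4) (Steps.bwd (nat_lit 8) (Steps.bwd (nat_lit 4) (Steps.bwd (nat_lit 9) (Steps.bwd (nat_lit 4) (Steps.fwd (nat_lit 2359296) (Steps.bwd (nat_lit 4) (Steps.bwd (nat_lit 9) (Steps.bwd (nat_lit 4) (Steps.fwd (nat_lit 2359296) (Steps.fwd (nat_lit 1048576) (Steps.bwd (nat_lit 9) (Steps.fwd (nat_lit 1048576) (Steps.fwd (nat_lit 2359296) (Steps.bwd (nat_lit 4) Steps.nil))))))))))))))) (nat_lit 106) (nat_lit 3),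
  Rule.mk (nat_lit 1) (nat_lit 274) (Steps.bwd (nat_lit 6) (Steps.fwd (nat_lit 1310720) (Steps.bwd (nat_lit 2) (Steps.bwd (nat_lit 1) (Steps.fwd (nat_lit 1572864) (Steps.bwd (nat_lit 1) (Steps.fwd (nat_lit 786432) (Steps.fwd (nat_lit 262144) (Steps.fwd (nat_lit 1572864) (Steps.bwd (nat_lit 1) (Steps.bwd (nat_lit 2) (Steps.fwd (nat_lit 262144) (Steps.fwd (nat_lit 1572864) Steps.nil))))))))))))) (nat_lit 34) (nat_lit 12),
  Rule.mk (nat_lit 4) (nat_lit 314) (Steps.bwd (nat_lit 9) (Steps.fwd (nat_lit 1048576) (Steps.fwd (nat_lit 2359296) (Steps.bwd (nat_lit 4) (Steps.bwd (nat_lit 9) (Steps.fwd (nat_lit 1048576) (Steps.fwd (nat_lit 2359296) (Steps.fwd (nat_lit 1048576) (Steps.fwd (nat_lit 2097152) (Steps.bwd (nat_lit 4) (Steps.fwd (nat_lit 2359296) (Steps.bwd (nat_lit 4) (Steps.bwd (nat_lit 9) (Steps.bwd (nat_lit 4) (Steps.fwd (nat_lit 2359296) Steps.nil)))))))))))))))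 (nat_lit 106) (nat_lit 2),
  Rule.mk (nat_lit 4) (nat_lit 314) (Steps.bwd (nat_lit 8) (Steps.bwd (nat_lit 4) (Steps.bwd (nat_lit 9) (Steps.bwd (nat_lit 4) (Steps.fwd (nat_lit 2359296) (Steps.fwd (nat_lit 1048576) (Steps.bwd (nat_lit 9) (Steps.fwd (nat_lit 1048576) (Steps.fwd (nat_lit 2359296) (Steps.bwd (nat_lit 4) (Steps.bwd (nat_lit 9) (Steps.fwd (nat_lit 1048576) (Steps.fwd (nat_lit 2359296) (Steps.fwd (nat_lit 1048576) (Steps.fwd (nat_lit 2097152) Steps.nil))))))))))))))) (nat_lit 106) (nat_lit 0),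
  Rule.mk (nat_lit 9) (nat_lit 314) (Steps.bwd (nat_lit 4) (Steps.fwd (nat_lit 2359296) (Steps.fwd (nat_lit 1048576) (Steps.fwd (nat_lit 2097152) (Steps.fwd (nat_lit 1048576) (Steps.fwd (nat_lit 2359296) (Steps.bwd (nat_lit 4) (Steps.fwd (nat_lit 2097152) (Steps.fwd (nat_lit 1048576) (Steps.bwd (nat_lit 8) (Steps.bwd (nat_lit 4) (Steps.bwd (nat_lit 9) (Steps.bwd (nat_lit 4) (Steps.bwd (nat_lit 8) (Steps.bwd (nat_lit 4) Steps.nil))))))))))))))) (nat_lit 106) (nat_lit 3),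
  Rule.mk (nat_lit 8) (nat_lit 314) (Steps.bwd (nat_lit 4) (Steps.fwd (nat_lit 2097152) (Steps.fwd (nat_lit 1048576) (Steps.fwd (nat_lit 2359296) (Steps.bwd (nat_lit 4) (Steps.bwd (nat_lit 9) (Steps.fwd (nat_lit 1048576) (Steps.bwd (nat_lit 8) (Steps.bwd (nat_lit 4) (Steps.bwd (nat_lit 9) (Steps.bwd (nat_lit 4) (Steps.fwd (nat_lit 2359296) (Steps.fwd (nat_lit 1048576) (Steps.fwd (nat_lit 2097152) (Steps.fwd (nat_lit 1048576) Steps.nil))))))))))))))) (nat_lit 106) (nat_lit 1),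
  Rule.mk (nat_lit 8) (nat_lit 314) (Steps.bwd (nat_lit 4) (Steps.fwd (nat_lit 2097152) (Steps.fwd (nat_lit 1048576) (Steps.fwd (nat_lit 2359296) (Steps.bwd (nat_lit 4) (Steps.fwd (nat_lit 2097152) (Steps.bwd (nat_lit 4) (Steps.bwd (nat_lit 8) (Steps.bwd (nat_lit 4) (Steps.bwd (nat_lit 9) (Steps.fwd (nat_lit 1048576) (Steps.fwd (nat_lit 2359296) (Steps.fwd (nat_lit 1048576) (Steps.fwd (nat_lit 2097152) (Steps.bwd (nat_lit 4) Steps.nil))))))))))))))) (nat_lit 106) (nat_lit 1),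
  Rule.mk (nat_lit 4) (nat_lit 314) (Steps.bwd (nat_lit 9) (Steps.bwd (nat_lit 4) (Steps.bwd (nat_lit 8) (Steps.bwd (nat_lit 4) (Steps.bwd (nat_lit 9) (Steps.fwd (nat_lit 1048576) (Steps.bwd (nat_lit 8) (Steps.fwd (nat_lit 1048576) (Steps.bwd (nat_lit 9) (Steps.fwd (nat_lit 1048576) (Steps.fwd (nat_lit 2359296) (Steps.fwd (nat_lit 1048576) (Steps.fwd (nat_lit 2097152) (Steps.bwd (nat_lit 4) (Steps.fwd (nat_lit 2359296) Steps.nil))))))))))))))) (nat_lit 106) (nat_lit 2),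
  Rule.mk (nat_lit 8) (nat_lit 314) (Steps.bwd (nat_lit 4) (Steps.bwd (nat_lit 9) (Steps.bwd (nat_lit 4) (Steps.fwd (nat_lit 2359296) (Steps.fwd (nat_lit 1048576) (Steps.fwd (nat_lit 2097152) (Steps.fwd (nat_lit 1048576) (Steps.fwd (nat_lit 2359296) (Steps.fwd (nat_lit 1048576) (Steps.fwd (nat_lit 2097152) (Steps.bwd (nat_lit 4) (Steps.fwd (nat_lit 2359296) (Steps.fwd (nat_lit 1048576) (Steps.bwd (nat_lit 9) (Steps.bwd (nat_lit 4) Steps.nil))))))))))))))) (nat_lit 106) (nat_lit 1),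
  Rule.mk (nat_lit 9) (nat_lit 314) (Steps.bwd (nat_lit 4) (Steps.bwd (nat_lit 8) (Steps.bwd (nat_lit 4) (Steps.bwd (nat_lit 9) (Steps.bwd (nat_lit 4) (Steps.bwd (nat_lit 8) (Steps.fwd (nat_lit 1048576) (Steps.bwd (nat_lit 9) (Steps.fwd (nat_lit 1048576) (Steps.fwd (nat_lit 2359296) (Steps.fwd (nat_lit 1048576) (Steps.fwd (nat_lit 2097152) (Steps.bwd (nat_lit 4) (Steps.fwd (nat_lit 2359296) (Steps.fwd (nat_lit 1048576) Steps.nil))))))))))))))) (nat_lit 106) (nat_lit 3),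
  Rule.mk (nat_lit 8) (nat_lit 314) (Steps.bwd (nat_lit 4) (Steps.fwd (nat_lit 2097152) (Steps.fwd (nat_lit 1048576) (Steps.bwd (nat_lit 8) (Steps.bwd (nat_lit 4) (Steps.fwd (nat_lit 2097152) (Steps.fwd (nat_lit 1048576) (Steps.fwd (nat_lit 2359296) (Steps.fwd (nat_lit 1048576) (Steps.bwd (nat_lit 9) (Steps.bwd (nat_lit 4) (Steps.bwd (nat_lit 8) (Steps.fwd (nat_lit 1048576) (Steps.fwd (nat_lit 2097152) (Steps.fwd (nat_lit 1048576) Steps.nil))))))))))))))) (nat_lit 106) (nat_lit 1),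
  Rule.mk (nat_lit 1) (nat_lit 274) (Steps.bwd (nat_lit 6) (Steps.bwd (nat_lit 1) (Steps.bwd (nat_lit 3) (Steps.fwd (nat_lit 262144) (Steps.fwd (nat_lit 1572864) (Steps.fwd (nat_lit 262144) (Steps.fwd (nat_lit 524288) (Steps.fwd (nat_lit 1310720) (Steps.fwd (nat_lit 1572864) (Steps.bwd (nat_lit 1) (Steps.bwd (nat_lit 6) (Steps.bwd (nat_lit 1) (Steps.bwd (nat_lit 3) Steps.nil))))))))))))) (nat_lit 35) (nat_lit 7),
  Rule.mk (nat_lit 8) (nat_lit 314) (Steps.bwd (nat_lit 4) (Steps.bwd (nat_lit 9) (Steps.bwd (nat_lit 4) (Steps.bwd (nat_lit 8) (Steps.bwd (nat_lit 4) (Steps.bwd (nat_lit 9) (Steps.fwd (nat_lit 1048576) (Steps.fwd (nat_lit 2359296) (Steps.fwd (nat_lit 1048576) (Steps.fwd (nat_lit 2097152) (Steps.bwd (nat_lit 4) (Steps.fwd (nat_lit 2359296) (Steps.fwd (nat_lit 1048576) (Steps.fwd (nat_lit 2097152) (Steps.bwd (nat_lit 4) Steps.nil))))))))))))))) (nat_lit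 106) (nat_lit 1),
  Rule.mk (nat_lit 9) (nat_lit 314) (Steps.bwd (nat_lit 4) (Steps.bwd (nat_lit 8) (Steps.bwd (nat_lit 4) (Steps.bwd (nat_lit 9) (Steps.fwd (nat_lit 1048576) (Steps.fwd (nat_lit 2359296) (Steps.bwd (nat_lit 4) (Steps.bwd (nat_lit 9) (Steps.bwd (nat_lit 4) (Steps.fwd (nat_lit 2359296) (Steps.fwd (nat_lit 1048576) (Steps.bwd (nat_lit 9) (Steps.fwd (nat_lit 1048576) (Steps.fwd (nat_lit 2359296) (Steps.fwd (nat_lit 1048576) Steps.nil))))))))))))))) (nat_lit 106) (nat_lit 3),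
  Rule.mk (nat_lit 8) (nat_lit 314) (Steps.bwd (nat_lit 4) (Steps.bwd (nat_lit 9) (Steps.bwd (nat_lit 4) (Steps.fwd (nat_lit 2359296) (Steps.bwd (nat_lit 4) (Steps.bwd (nat_lit 9) (Steps.fwd (nat_lit 1048576) (Steps.fwd (nat_lit 2359296) (Steps.fwd (nat_lit 1048576) (Steps.bwd (nat_lit 9) (Steps.fwd (nat_lit 1048576) (Steps.fwd (nat_lit 2359296) (Steps.fwd (nat_lit 1048576) (Steps.fwd (nat_lit 2097152) (Steps.fwd (nat_lit 1048576) Steps.nil))))))))))))))) (nat_lit 106) (nat_lit 1),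
  Rule.mk (nat_lit 9) (nat_lit 314) (Steps.bwd (nat_lit 4) (Steps.fwd (nat_lit 2359296) (Steps.fwd (nat_lit 1048576) (Steps.bwd (nat_lit 9) (Steps.bwd (nat_lit 4) (Steps.fwd (nat_lit 2359296) (Steps.bwd (nat_lit 4) (Steps.bwd (nat_lit 9) (Steps.bwd (nat_lit 4) (Steps.bwd (nat_lit 8) (Steps.bwd (nat_lit 4) (Steps.bwd (nat_lit 9) (Steps.fwd (nat_lit 1048576) (Steps.fwd (nat_lit 2359296) (Steps.bwd (nat_lit 4) Steps.nil))))))))))))))) (nat_lit 106) (nat_lit 3),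
  Rule.mk (nat_lit 4) (nat_lit 314) (Steps.bwd (nat_lit 8) (Steps.bwd (nat_lit 4) (Steps.bwd (nat_lit 9) (Steps.bwd (nat_lit 4) (Steps.fwd (nat_lit 2359296) (Steps.fwd (nat_lit 1048576) (Steps.fwd (nat_lit 2097152) (Steps.bwd (nat_lit 4) (Steps.bwd (nat_lit 8) (Steps.bwd (nat_lit 4) (Steps.bwd (nat_lit 9) (Steps.fwd (nat_lit 1048576) (Steps.fwd (nat_lit 2359296) (Steps.fwd (nat_lit 1048576) (Steps.bwd (nat_lit 9) Steps.nil))))))))))))))) (nat_lit 106) (nat_lit 0),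
  Rule.mk (nat_lit 1) (nat_lit 274) (Steps.bwd (nat_lit 6) (Steps.fwd (nat_lit 1310720) (Steps.bwd (nat_lit 2) (Steps.bwd (nat_lit 1) (Steps.fwd (nat_lit 1572864) (Steps.bwd (nat_lit 1) (Steps.bwd (nat_lit 2) (Steps.fwd (nat_lit 262144) (Steps.bwd (nat_lit 6) (Steps.fwd (nat_lit 262144) (Steps.fwd (nat_lit 786432) (Steps.bwd (nat_lit 1) (Steps.bwd (nat_lit 6) Steps.nil))))))))))))) (nat_lit 34) (nat_lit 12),
  Rule.mk (nat_lit 9) (nat_lit 314) (Steps.bwd (nat_lit 4) (Steps.fwd (nat_lit 2359296) (Steps.bwd (nat_lit 4) (Steps.bwd (nat_lit 9) (Steps.bwd (nat_lit 4) (Steps.bwd (nat_lit 8) (Steps.bwd (nat_lit 4) (Steps.bwd (nat_lit 9) (Steps.bwd (nat_lit 4) (Steps.fwd (nat_lit 2359296) (Steps.fwd (nat_lit 1048576) (Steps.bwd (nat_lit 9) (Steps.bwd (nat_lit 4) (Steps.fwd (nat_lit 2359296) (Steps.fwd (nat_lit 1048576) Steps.nil))))))))))))))) (nat_lit 106) (nat_lit 3),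
  Rule.mk (nat_lit 8) (nat_lit 314) (Steps.bwd (nat_lit 4) (Steps.fwd (nat_lit 2097152) (Steps.fwd (nat_lit 1048576) (Steps.fwd (nat_lit 2359296) (Steps.bwd (nat_lit 4) (Steps.bwd (nat_lit 9) (Steps.bwd (nat_lit 4) (Steps.fwd (nat_lit 2359296) (Steps.bwd (nat_lit 4) (Steps.bwd (nat_lit 9) (Steps.fwd (nat_lit 1048576) (Steps.fwd (nat_lit 2359296) (Steps.bwd (nat_lit 4) (Steps.bwd (nat_lit 9) (Steps.fwd (nat_lit 1048576) Steps.nil))))))))))))))) (nat_lit 106) (nat_lit 1),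
  Rule.mk (nat_lit 9) (nat_lit 314) (Steps.bwd (nat_lit 4) (Steps.fwd (nat_lit 2359296) (Steps.fwd (nat_lit 1048576) (Steps.fwd (nat_lit 2097152) (Steps.fwd (nat_lit 1048576) (Steps.bwd (nat_lit 8) (Steps.bwd (nat_lit 4) (Steps.bwd (nat_lit 9) (Steps.fwd (nat_lit 1048576) (Steps.bwd (nat_lit 8) (Steps.fwd (nat_lit 1048576) (Steps.bwd (nat_lit 9) (Steps.bwd (nat_lit 4) (Steps.bwd (nat_lit 8) (Steps.bwd (nat_lit 4) Steps.nil))))))))))))))) (nat_lit 106) (nat_lit 3),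
  Rule.mk (nat_lit 8) (nat_lit 314) (Steps.bwd (nat_lit 4) (Steps.fwd (nat_lit 2097152) (Steps.fwd (nat_lit 1048576) (Steps.fwd (nat_lit 2359296) (Steps.fwd (nat_lit 1048576) (Steps.bwd (nat_lit 9) (Steps.bwd (nat_lit 4) (Steps.fwd (nat_lit 2359296) (Steps.fwd (nat_lit 1048576) (Steps.fwd (nat_lit 2097152) (Steps.fwd (nat_lit 1048576) (Steps.fwd (nat_lit 2359296) (Steps.fwd (nat_lit 1048576) (Steps.bwd (nat_lit 9) (Steps.bwd (nat_lit 4) Steps.nil))))))))))))))) (nat_lit 106) (nat_lit 1),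
  Rule.mk (nat_lit 9) (nat_lit 314) (Steps.bwd (nat_lit 4) (Steps.bwd (nat_lit 8) (Steps.bwd (nat_lit 4) (Steps.bwd (nat_lit 9) (Steps.fwd (nat_lit 1048576) (Steps.bwd (nat_lit 8) (Steps.bwd (nat_lit 4) (Steps.fwd (nat_lit 2097152) (Steps.bwd (nat_lit 4) (Steps.bwd (nat_lit 8) (Steps.fwd (nat_lit 1048576) (Steps.bwd (nat_lit 9) (Steps.fwd (nat_lit 1048576) (Steps.fwd (nat_lit 2359296) (Steps.fwd (nat_lit 1048576) Steps.nil))))))))))))))) (nat_lit 106) (nat_lit 3),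
  Rule.mk (nat_lit 9) (nat_lit 314) (Steps.bwd (nat_lit 4) (Steps.fwd (nat_lit 2359296) (Steps.fwd (nat_lit 1048576) (Steps.fwd (nat_lit 2097152) (Steps.fwd (nat_lit 1048576) (Steps.fwd (nat_lit 2359296) (Steps.bwd (nat_lit 4) (Steps.bwd (nat_lit 9) (Steps.bwd (nat_lit 4) (Steps.bwd (nat_lit 8) (Steps.bwd (nat_lit 4) (Steps.bwd (nat_lit 9) (Steps.fwd (nat_lit 1048576) (Steps.fwd (nat_lit 2359296) (Steps.fwd (nat_lit 1048576) Steps.nil))))))))))))))) (nat_lit 106) (nat_lit 3),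
  Rule.mk (nat_lit 7) (nat_lit 154) (Steps.fwd (nat_lit 262144) (Steps.bwd (nat_lit 4) (Steps.fwd (nat_lit 262144) (Steps.bwd (nat_lit 7) (Steps.bwd (nat_lit 4) (Steps.bwd (nat_lit 1) (Steps.fwd (nat_lit 1048576) Steps.nil))))))) (nat_lit 76) (nat_lit 0),
  Rule.mk (nat_lit 9) (nat_lit 314) (Steps.bwd (nat_lit 4) (Steps.bwd (nat_lit 8) (Steps.fwd (nat_lit 1048576) (Steps.fwd (nat_lit 2097152) (Steps.bwd (nat_lit 4) (Steps.bwd (nat_lit 8) (Steps.bwd (nat_lit 4) (Steps.bwd (nat_lit 9) (Steps.fwd (nat_lit 1048576) (Steps.fwd (nat_lit 2359296) (Steps.fwd (nat_lit 1048576) (Steps.bwd (nat_lit 9) (Steps.bwd (nat_lit 4) (Steps.bwd (nat_lit 8) (Steps.bwd (nat_lit 4) Steps.nil))))))))))))))) (nat_lit 106) (nat_lit 3),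
  Rule.mk (nat_lit 8) (nat_lit 314) (Steps.bwd (nat_lit 4) (Steps.bwd (nat_lit 9) (Steps.bwd (nat_lit 4) (Steps.fwd (nat_lit 2359296) (Steps.bwd (nat_lit 4) (Steps.fwd (nat_lit 2097152) (Steps.bwd (nat_lit 4) (Steps.bwd (nat_lit 8) (Steps.bwd (nat_lit 4) (Steps.fwd (nat_lit 2097152) (Steps.fwd (nat_lit 1048576) (Steps.bwd (nat_lit 8) (Steps.bwd (nat_lit 4) (Steps.fwd (nat_lit 2097152) (Steps.fwd (nat_lit 1048576) Steps.nil))))))))))))))) (nat_lit 106) (nat_lit 1),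
  Rule.mk (nat_lit 4) (nat_lit 314) (Steps.bwd (nat_lit 8) (Steps.bwd (nat_lit 4) (Steps.bwd (nat_lit 9) (Steps.bwd (nat_lit 4) (Steps.bwd (nat_lit 8) (Steps.bwd (nat_lit 4) (Steps.fwd (nat_lit 2097152) (Steps.fwd (nat_lit 1048576) (Steps.bwd (nat_lit 8) (Steps.bwd (nat_lit 4) (Steps.bwd (nat_lit 9) (Steps.fwd (nat_lit 1048576) (Steps.fwd (nat_lit 2359296) (Steps.bwd (nat_lit 4) (Steps.bwd (nat_lit 9) Steps.nil))))))))))))))) (nat_lit 106) (nat_lit 0),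
  Rule.mk (nat_lit 9) (nat_lit 314) (Steps.bwd (nat_lit 4) (Steps.fwd (nat_lit 2359296) (Steps.bwd (nat_lit 4) (Steps.fwd (nat_lit 2097152) (Steps.fwd (nat_lit 1048576) (Steps.fwd (nat_lit 2359296) (Steps.bwd (nat_lit 4) (Steps.fwd (nat_lit 2097152) (Steps.bwd (nat_lit 4) (Steps.bwd (nat_lit 8) (Steps.fwd (nat_lit 1048576) (Steps.bwd (nat_lit 9) (Steps.fwd (nat_lit 1048576) (Steps.fwd (nat_lit 2359296) (Steps.fwd (nat_lit 1048576) Steps.nil))))))))))))))) (nat_lit 106) (nat_lit 3),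
  Rule.mk (nat_lit 9) (nat_lit 314) (Steps.bwd (nat_lit 4) (Steps.fwd (nat_lit 2359296) (Steps.bwd (nat_lit 4) (Steps.fwd (nat_lit 2097152) (Steps.bwd (nat_lit 4) (Steps.bwd (nat_lit 8) (Steps.fwd (nat_lit 1048576) (Steps.fwd (nat_lit 2097152) (Steps.fwd (nat_lit 1048576) (Steps.fwd (nat_lit 2359296) (Steps.bwd (nat_lit 4) (Steps.bwd (nat_lit 9) (Steps.bwd (nat_lit 4) (Steps.bwd (nat_lit 8) (Steps.bwd (nat_lit 4) Steps.nil))))))))))))))) (nat_lit 106) (nat_lit 3),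
  Rule.mk (nat_lit 4) (nat_lit 314) (Steps.bwd (nat_lit 8) (Steps.bwd (nat_lit 4) (Steps.bwd (nat_lit 9) (Steps.bwd (nat_lit 4) (Steps.fwd (nat_lit 2359296) (Steps.fwd (nat_lit 1048576) (Steps.bwd (nat_lit 9) (Steps.bwd (nat_lit 4) (Steps.fwd (nat_lit 2359296) (Steps.fwd (nat_lit 1048576) (Steps.bwd (nat_lit 9) (Steps.bwd (nat_lit 4) (Steps.fwd (nat_lit 2359296) (Steps.fwd (nat_lit 1048576) (Steps.fwd (nat_lit 2097152) Steps.nil))))))))))))))) (nat_lit 106) (nat_lit 0),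
  Rule.mk (nat_lit 9) (nat_lit 314) (Steps.bwd (nat_lit 4) (Steps.fwd (nat_lit 2359296) (Steps.fwd (nat_lit 1048576) (Steps.fwd (nat_lit 2097152) (Steps.bwd (nat_lit 4) (Steps.bwd (nat_lit 8) (Steps.bwd (nat_lit 4) (Steps.bwd (nat_lit 9) (Steps.fwd (nat_lit 1048576) (Steps.fwd (nat_lit 2359296) (Steps.fwd (nat_lit 1048576) (Steps.fwd (nat_lit 2097152) (Steps.fwd (nat_lit 1048576) (Steps.fwd (nat_lit 2359296) (Steps.fwd (nat_lit 1048576) Steps.nil))))))))))))))) (nat_lit 106) (nat_lit 3),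
  Rule.mk (nat_lit 9) (nat_lit 314) (Steps.bwd (nat_lit 4) (Steps.fwd (nat_lit 2359296) (Steps.fwd (nat_lit 1048576) (Steps.bwd (nat_lit 9) (Steps.fwd (nat_lit 1048576) (Steps.bwd (nat_lit 8) (Steps.bwd (nat_lit 4) (Steps.fwd (nat_lit 2097152) (Steps.fwd (nat_lit 1048576) (Steps.bwd (nat_lit 8) (Steps.bwd (nat_lit 4) (Steps.bwd (nat_lit 9) (Steps.fwd (nat_lit 1048576) (Steps.fwd (nat_lit 2359296) (Steps.fwd (nat_lit 1048576) Steps.nil))))))))))))))) (nat_lit 106) (nat_lit 3),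
  Rule.mk (nat_lit 9) (nat_lit 314) (Steps.bwd (nat_lit 4) (Steps.bwd (nat_lit 8) (Steps.bwd (nat_lit 4) (Steps.fwd (nat_lit 2097152) (Steps.bwd (nat_lit 4) (Steps.bwd (nat_lit 8) (Steps.bwd (nat_lit 4) (Steps.fwd (nat_lit 2097152) (Steps.fwd (nat_lit 1048576) (Steps.bwd (nat_lit 8) (Steps.bwd (nat_lit 4) (Steps.bwd (nat_lit 9) (Steps.fwd (nat_lit 1048576) (Steps.fwd (nat_lit 2359296) (Steps.fwd (nat_lit 1048576) Steps.nil))))))))))))))) (nat_lit 106) (nat_lit 3),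
  Rule.mk (nat_lit 9) (nat_lit 314) (Steps.bwd (nat_lit 4) (Steps.bwd (nat_lit 8) (Steps.bwd (nat_lit 4) (Steps.bwd (nat_lit 9) (Steps.bwd (nat_lit 4) (Steps.fwd (nat_lit 2359296) (Steps.fwd (nat_lit 1048576) (Steps.fwd (nat_lit 2097152) (Steps.fwd (nat_lit 1048576) (Steps.fwd (nat_lit 2359296) (Steps.fwd (nat_lit 1048576) (Steps.fwd (nat_lit 2097152) (Steps.fwd (nat_lit 1048576) (Steps.fwd (nat_lit 2359296) (Steps.fwd (nat_lit 1048576) Steps.nil))))))))))))))) (nat_lit 106) (nat_lit 3),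
  Rule.mk (nat_lit 9) (nat_lit 314) (Steps.bwd (nat_lit 4) (Steps.bwd (nat_lit 8) (Steps.fwd (nat_lit 1048576) (Steps.bwd (nat_lit 9) (Steps.bwd (nat_lit 4) (Steps.fwd (nat_lit 2359296) (Steps.bwd (nat_lit 4) (Steps.fwd (nat_lit 2097152) (Steps.bwd (nat_lit 4) (Steps.bwd (nat_lit 8) (Steps.fwd (nat_lit 1048576) (Steps.fwd (nat_lit 2097152) (Steps.bwd (nat_lit 4) (Steps.bwd (nat_lit 8) (Steps.bwd (nat_lit 4) Steps.nil))))))))))))))) (nat_lit 106) (nat_lit 3),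
  Rule.mk (nat_lit 8) (nat_lit 314) (Steps.bwd (nat_lit 4) (Steps.bwd (nat_lit 9) (Steps.bwd (nat_lit 4) (Steps.fwd (nat_lit 2359296) (Steps.fwd (nat_lit 1048576) (Steps.bwd (nat_lit 9) (Steps.bwd (nat_lit 4) (Steps.fwd (nat_lit 2359296) (Steps.fwd (nat_lit 1048576) (Steps.fwd (nat_lit 2097152) (Steps.fwd (nat_lit 1048576) (Steps.fwd (nat_lit 2359296) (Steps.bwd (nat_lit 4) (Steps.fwd (nat_lit 2097152) (Steps.bwd (nat_lit 4) Steps.nil))))))))))))))) (nat_lit 106) (nat_lit 1),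
  Rule.mk (nat_lit 4) (nat_lit 314) (Steps.bwd (nat_lit 9) (Steps.fwd (nat_lit 1048576) (Steps.fwd (nat_lit 2359296) (Steps.bwd (nat_lit 4) (Steps.bwd (nat_lit 9) (Steps.bwd (nat_lit 4) (Steps.fwd (nat_lit 2359296) (Steps.fwd (nat_lit 1048576) (Steps.bwd (nat_lit 9) (Steps.fwd (nat_lit 1048576) (Steps.fwd (nat_lit 2359296) (Steps.fwd (nat_lit 1048576) (Steps.fwd (nat_lit 2097152) (Steps.bwd (nat_lit 4) (Steps.fwd (nat_lit 2359296) Steps.nil))))))))))))))) (nat_lit 106) (nat_lit 2),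
  Rule.mk (nat_lit 4) (nat_lit 314) (Steps.bwd (nat_lit 8) (Steps.fwd (nat_lit 1048576) (Steps.bwd (nat_lit 9) (Steps.bwd (nat_lit 4) (Steps.fwd (nat_lit 2359296) (Steps.bwd (nat_lit 4) (Steps.bwd (nat_lit 9) (Steps.fwd (nat_lit 1048576) (Steps.fwd (nat_lit 2359296) (Steps.fwd (nat_lit 1048576) (Steps.bwd (nat_lit 9) (Steps.bwd (nat_lit 4) (Steps.bwd (nat_lit 8) (Steps.fwd (nat_lit 1048576) (Steps.fwd (nat_lit 2097152) Steps.nil))))))))))))))) (nat_lit 106) (nat_lit 0),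
  Rule.mk (nat_lit 3) (nat_lit 154) (Steps.bwd (nat_lit 1) (Steps.bwd (nat_lit 3) (Steps.bwd (nat_lit 5) (Steps.fwd (nat_lit 262144) (Steps.fwd (nat_lit 524288) (Steps.fwd (nat_lit 262144) (Steps.fwd (nat_lit 1310720) Steps.nil))))))) (nat_lit 71) (nat_lit 2),
  Rule.mk (nat_lit 6) (nat_lit 274) (Steps.bwd (nat_lit 1) (Steps.bwd (nat_lit 3) (Steps.bwd (nat_lit 5) (Steps.fwd (nat_lit 1572864) (Steps.fwd (nat_lit 262144) (Steps.bwd (nat_lit 6) (Steps.bwd (nat_lit 1) (Steps.fwd (nat_lit 524288) (Steps.bwd (nat_lit 1) (Steps.fwd (nat_lit 1572864) (Steps.fwd (nat_lit 262144) (Steps.bwd (nat_lit 3) (Steps.fwd (nat_lit 262144) Steps.nil))))))))))))) (nat_lit 35) (nat_lit 12),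
  Rule.mk (nat_lit 8) (nat_lit 314) (Steps.bwd (nat_lit 4) (Steps.bwd (nat_lit 9) (Steps.fwd (nat_lit 1048576) (Steps.fwd (nat_lit 2359296) (Steps.fwd (nat_lit 1048576) (Steps.fwd (nat_lit 2097152) (Steps.bwd (nat_lit 4) (Steps.fwd (nat_lit 2359296) (Steps.fwd (nat_lit 1048576) (Steps.fwd (nat_lit 2097152) (Steps.bwd (nat_lit 4) (Steps.bwd (nat_lit 8) (Steps.bwd (nat_lit 4) (Steps.fwd (nat_lit 2097152) (Steps.fwd (nat_lit 1048576) Steps.nil))))))))))))))) (nat_lit 106) (nat_lit 1),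
  Rule.mk (nat_lit 8) (nat_lit 74) (Steps.fwd (nat_lit 1835008) (Steps.fwd (nat_lit 2097152) (Steps.fwd (nat_lit 1310720) Steps.nil))) (nat_lit 98) (nat_lit 1),
  Rule.mk (nat_lit 4) (nat_lit 314) (Steps.bwd (nat_lit 9) (Steps.fwd (nat_lit 1048576) (Steps.fwd (nat_lit 2359296) (Steps.fwd (nat_lit 1048576) (Steps.bwd (nat_lit 9) (Steps.bwd (nat_lit 4) (Steps.fwd (nat_lit 2359296) (Steps.fwd (nat_lit 1048576) (Steps.fwd (nat_lit 2097152) (Steps.fwd (nat_lit 1048576) (Steps.fwd (nat_lit 2359296) (Steps.bwd (nat_lit 4) (Steps.bwd (nat_lit 9) (Steps.fwd (nat_lit 1048576) (Steps.fwd (nat_lit 2359296) Steps.nil))))))))))))))) (nat_lit 106) (nat_lit 2),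
  Rule.mk (nat_lit 1) (nat_lit 154) (Steps.fwd (nat_lit 1048576) (Steps.bwd (nat_lit 7) (Steps.fwd (nat_lit 262144) (Steps.fwd (nat_lit 1048576) (Steps.bwd (nat_lit 1) (Steps.bwd (nat_lit 7) (Steps.bwd (nat_lit 4) Steps.nil))))))) (nat_lit 76) (nat_lit 6),
  Rule.mk (nat_lit 4) (nat_lit 314) (Steps.bwd (nat_lit 8) (Steps.fwd (nat_lit 1048576) (Steps.bwd (nat_lit 9) (Steps.bwd (nat_lit 4) (Steps.fwd (nat_lit 2359296) (Steps.bwd (nat_lit 4) (Steps.bwd (nat_lit 9) (Steps.fwd (nat_lit 1048576) (Steps.fwd (nat_lit 2359296) (Steps.bwd (nat_lit 4) (Steps.fwd (nat_lit 2097152) (Steps.fwd (nat_lit 1048576) (Steps.fwd (nat_lit 2359296) (Steps.bwd (nat_lit 4) (Steps.bwd (nat_lit 9) Steps.nil))))))))))))))) (nat_lit 106) (nat_lit 0),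
  Rule.mk (nat_lit 4) (nat_lit 314) (Steps.bwd (nat_lit 9) (Steps.fwd (nat_lit 1048576) (Steps.fwd (nat_lit 2359296) (Steps.bwd (nat_lit 4) (Steps.fwd (nat_lit 2097152) (Steps.fwd (nat_lit 1048576) (Steps.bwd (nat_lit 8) (Steps.bwd (nat_lit 4) (Steps.bwd (nat_lit 9) (Steps.fwd (nat_lit 1048576) (Steps.bwd (nat_lit 8) (Steps.bwd (nat_lit 4) (Steps.bwd (nat_lit 9) (Steps.bwd (nat_lit 4) (Steps.bwd (nat_lit 8) Steps.nil))))))))))))))) (nat_lit 106) (nat_lit 2),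
  Rule.mk (nat_lit 9) (nat_lit 314) (Steps.fwd (nat_lit 1048576) (Steps.fwd (nat_lit 2359296) (Steps.bwd (nat_lit 4) (Steps.bwd (nat_lit 9) (Steps.bwd (nat_lit 4) (Steps.bwd (nat_lit 8) (Steps.bwd (nat_lit 4) (Steps.bwd (nat_lit 9) (Steps.bwd (nat_lit 4) (Steps.bwd (nat_lit 8) (Steps.bwd (nat_lit 4) (Steps.fwd (nat_lit 2097152) (Steps.fwd (nat_lit 1048576) (Steps.fwd (nat_lit 2359296) (Steps.bwd (nat_lit 4) Steps.nil))))))))))))))) (nat_lit 106) (nat_lit 3),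
  Rule.mk (nat_lit 1) (nat_lit 154) (Steps.bwd (nat_lit 4) (Steps.fwd (nat_lit 262144) (Steps.fwd (nat_lit 1572864) (Steps.bwd (nat_lit 1) (Steps.bwd (nat_lit 4) (Steps.bwd (nat_lit 1) (Steps.bwd (nat_lit 6) Steps.nil))))))) (nat_lit 74) (nat_lit 1),
  Rule.mk (nat_lit 8) (nat_lit 314) (Steps.bwd (nat_lit 4) (Steps.bwd (nat_lit 9) (Steps.fwd (nat_lit 1048576) (Steps.bwd (nat_lit 8) (Steps.bwd (nat_lit 4) (Steps.fwd (nat_lit 2097152) (Steps.bwd (nat_lit 4) (Steps.bwd (nat_lit 8) (Steps.bwd (nat_lit 4) (Steps.bwd (nat_lit 9) (Steps.fwd (nat_lit 1048576) (Steps.fwd (nat_lit 2359296) (Steps.bwd (nat_lit 4) (Steps.bwd (nat_lit 9) (Steps.bwd (nat_lit 4) Steps.nil))))))))))))))) (nat_lit 106) (nat_lit 1),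
  Rule.mk (nat_lit 6) (nat_lit 114) (Steps.bwd (nat_lit 2) (Steps.fwd (nat_lit 1048576) (Steps.bwd (nat_lit 5) (Steps.fwd (nat_lit 786432) (Steps.bwd (nat_lit 4) Steps.nil))))) (nat_lit 54) (nat_lit 0)]
noncomputable def R_123 : List (Rule) := [Rule.mk (nat_lit 6) (nat_lit 154) (Steps.bwd (nat_lit 1) (Steps.fwd (nat_lit 1048576) (Steps.bwd (nat_lit 1) (Steps.fwd (nat_lit 1572864) (Steps.fwd (nat_lit 262144) (Steps.bwd (nat_lit 4) (Steps.bwd (nat_lit 1) Steps.nil))))))) (nat_lit 74) (nat_lit 0),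
  Rule.mk (nat_lit 4) (nat_lit 114) (Steps.bwd (nat_lit 3) (Steps.bwd (nat_lit 5) (Steps.fwd (nat_lit 1048576) (Steps.fwd (nat_lit 524288) (Steps.fwd (nat_lit 1572864) Steps.nil))))) (nat_lit 55) (nat_lit 2),
  Rule.mk (nat_lit 9) (nat_lit 314) (Steps.bwd (nat_lit 4) (Steps.bwd (nat_lit 8) (Steps.fwd (nat_lit 1048576) (Steps.bwd (nat_lit 9) (Steps.bwd (nat_lit 4) (Steps.fwd (nat_lit 2359296) (Steps.bwd (nat_lit 4) (Steps.bwd (nat_lit 9) (Steps.bwd (nat_lit 4) (Steps.fwd (nat_lit 2359296) (Steps.fwd (nat_lit 1048576) (Steps.fwd (nat_lit 2097152) (Steps.bwd (nat_lit 4) (Steps.fwd (nat_lit 2359296) (Steps.fwd (nat_lit 1048576) Steps.nil))))))))))))))) (nat_lit 106) (nat_lit 3),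
  Rule.mk (nat_lit 4) (nat_lit 314) (Steps.bwd (nat_lit 9) (Steps.fwd (nat_lit 1048576) (Steps.bwd (nat_lit 8) (Steps.fwd (nat_lit 1048576) (Steps.fwd (nat_lit 2097152) (Steps.fwd (nat_lit 1048576) (Steps.fwd (nat_lit 2359296) (Steps.bwd (nat_lit 4) (Steps.fwd (nat_lit 2097152) (Steps.bwd (nat_lit 4) (Steps.fwd (nat_lit 2359296) (Steps.bwd (nat_lit 4) (Steps.bwd (nat_lit 9) (Steps.fwd (nat_lit 1048576) (Steps.bwd (nat_lit 8) Steps.nil))))))))))))))) (nat_lit 106) (nat_lit 2),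
  Rule.mk (nat_lit 4) (nat_lit 314) (Steps.bwd (nat_lit 9) (Steps.fwd (nat_lit 1048576) (Steps.fwd (nat_lit 2359296) (Steps.bwd (nat_lit 4) (Steps.fwd (nat_lit 2097152) (Steps.bwd (nat_lit 4) (Steps.fwd (nat_lit 2359296) (Steps.fwd (nat_lit 1048576) (Steps.fwd (nat_lit 2097152) (Steps.fwd (nat_lit 1048576) (Steps.fwd (nat_lit 2359296) (Steps.bwd (nat_lit 4) (Steps.bwd (nat_lit 9) (Steps.bwd (nat_lit 4) (Steps.fwd (nat_lit 2359296) Steps.nil))))))))))))))) (nat_lit 106) (nat_lit 2),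
  Rule.mk (nat_lit 4) (nat_lit 314) (Steps.bwd (nat_lit 9) (Steps.fwd (nat_lit 1048576) (Steps.bwd (nat_lit 8) (Steps.bwd (nat_lit 4) (Steps.bwd (nat_lit 9) (Steps.fwd (nat_lit 1048576) (Steps.fwd (nat_lit 2359296) (Steps.fwd (nat_lit 1048576) (Steps.fwd (nat_lit 2097152) (Steps.bwd (nat_lit 4) (Steps.bwd (nat_lit 8) (Steps.bwd (nat_lit 4) (Steps.bwd (nat_lit 9) (Steps.fwd (nat_lit 1048576) (Steps.bwd (nat_lit 8) Steps.nil))))))))))))))) (nat_lit 106) (nat_lit 2),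
  Rule.mk (nat_lit 9) (nat_lit 314) (Steps.bwd (nat_lit 4) (Steps.bwd (nat_lit 8) (Steps.bwd (nat_lit 4) (Steps.fwd (nat_lit 2097152) (Steps.fwd (nat_lit 1048576) (Steps.bwd (nat_lit 8) (Steps.fwd (nat_lit 1048576) (Steps.fwd (nat_lit 2097152) (Steps.fwd (nat_lit 1048576) (Steps.fwd (nat_lit 2359296) (Steps.fwd (nat_lit 1048576) (Steps.fwd (nat_lit 2097152) (Steps.fwd (nat_lit 1048576) (Steps.fwd (nat_lit 2359296) (Steps.fwd (nat_lit 1048576) Steps.nil))))))))))))))) (nat_lit 106) (nat_lit 3),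
  Rule.mk (nat_lit 4) (nat_lit 314) (Steps.bwd (nat_lit 8) (Steps.fwd (nat_lit 1048576) (Steps.bwd (nat_lit 9) (Steps.fwd (nat_lit 1048576) (Steps.fwd (nat_lit 2359296) (Steps.fwd (nat_lit 1048576) (Steps.fwd (nat_lit 2097152) (Steps.fwd (nat_lit 1048576) (Steps.bwd (nat_lit 8) (Steps.fwd (nat_lit 1048576) (Steps.bwd (nat_lit 9) (Steps.bwd (nat_lit 4) (Steps.fwd (nat_lit 2359296) (Steps.bwd (nat_lit 4) (Steps.bwd (nat_lit 9) Steps.nil))))))))))))))) (nat_lit 106) (nat_lit 0),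
  Rule.mk (nat_lit 8) (nat_lit 314) (Steps.bwd (nat_lit 4) (Steps.bwd (nat_lit 9) (Steps.fwd (nat_lit 1048576) (Steps.bwd (nat_lit 8) (Steps.bwd (nat_lit 4) (Steps.fwd (nat_lit 2097152) (Steps.bwd (nat_lit 4) (Steps.bwd (nat_lit 8) (Steps.fwd (nat_lit 1048576) (Steps.fwd (nat_lit 2097152) (Steps.fwd (nat_lit 1048576) (Steps.bwd (nat_lit 8) (Steps.bwd (nat_lit 4) (Steps.bwd (nat_lit 9) (Steps.fwd (nat_lit 1048576) Steps.nil))))))))))))))) (nat_lit 106) (nat_lit 1),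
  Rule.mk (nat_lit 4) (nat_lit 314) (Steps.bwd (nat_lit 9) (Steps.bwd (nat_lit 4) (Steps.bwd (nat_lit 8) (Steps.bwd (nat_lit 4) (Steps.fwd (nat_lit 2097152) (Steps.bwd (nat_lit 4) (Steps.fwd (nat_lit 2359296) (Steps.fwd (nat_lit 1048576) (Steps.fwd (nat_lit 2097152) (Steps.fwd (nat_lit 1048576) (Steps.fwd (nat_lit 2359296) (Steps.fwd (nat_lit 1048576) (Steps.fwd (nat_lit 2097152) (Steps.fwd (nat_lit 1048576) (Steps.fwd (nat_lit 2359296) Steps.nil))))))))))))))) (nat_lit 106) (nat_lit 2),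
  Rule.mk (nat_lit 6) (nat_lit 114) (Steps.bwd (nat_lit 3) (Steps.bwd (nat_lit 7) (Steps.fwd (nat_lit 1572864) (Steps.bwd (nat_lit 2) (Steps.fwd (nat_lit 1835008) Steps.nil))))) (nat_lit 63) (nat_lit 5),
  Rule.mk (nat_lit 5) (nat_lit 114) (Steps.bwd (nat_lit 4) (Steps.fwd (nat_lit 786432) (Steps.fwd (nat_lit 1572864) (Steps.fwd (nat_lit 1048576) (Steps.bwd (nat_lit 2) Steps.nil))))) (nat_lit 58) (nat_lit 2),
  Rule.mk (nat_lit 9) (nat_lit 314) (Steps.bwd (nat_lit 4) (Steps.fwd (nat_lit 2359296) (Steps.bwd (nat_lit 4) (Steps.fwd (nat_lit 2097152) (Steps.fwd (nat_lit 1048576) (Steps.fwd (nat_lit 2359296) (Steps.bwd (nat_lit 4) (Steps.fwd (nat_lit 2097152) (Steps.fwd (nat_lit 1048576) (Steps.bwd (nat_lit 8) (Steps.bwd (nat_lit 4) (Steps.bwd (nat_lit 9) (Steps.fwd (nat_lit 1048576) (Steps.fwd (nat_lit 2359296) (Steps.fwd (nat_lit 1048576) Steps.nil)))))))))))))))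 (nat_lit 106) (nat_lit 3),
  Rule.mk (nat_lit 1) (nat_lit 274) (Steps.bwd (nat_lit 6) (Steps.bwd (nat_lit 5) (Steps.bwd (nat_lit 2) (Steps.bwd (nat_lit 1) (Steps.fwd (nat_lit 1572864) (Steps.bwd (nat_lit 1) (Steps.bwd (nat_lit 2) (Steps.bwd (nat_lit 1) (Steps.bwd (nat_lit 6) (Steps.fwd (nat_lit 262144) (Steps.bwd (nat_lit 2) (Steps.bwd (nat_lit 1) (Steps.bwd (nat_lit 6) Steps.nil))))))))))))) (nat_lit 34) (nat_lit 12),
  Rule.mk (nat_lit 8) (nat_lit 314) (Steps.bwd (nat_lit 4) (Steps.bwd (nat_lit 9) (Steps.fwd (nat_lit 1048576) (Steps.fwd (nat_lit 2359296) (Steps.bwd (nat_lit 4) (Steps.bwd (nat_lit 9) (Steps.fwd (nat_lit 1048576) (Steps.bwd (nat_lit 8) (Steps.fwd (nat_lit 1048576) (Steps.fwd (nat_lit 2097152) (Steps.bwd (nat_lit 4) (Steps.bwd (nat_lit 8) (Steps.fwd (nat_lit 1048576) (Steps.bwd (nat_lit 9) (Steps.fwd (nat_lit 1048576) Steps.nil))))))))))))))) (nat_lit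 106) (nat_lit 1),
  Rule.mk (nat_lit 1) (nat_lit 274) (Steps.bwd (nat_lit 6) (Steps.bwd (nat_lit 1) (Steps.bwd (nat_lit 6) (Steps.bwd (nat_lit 5) (Steps.fwd (nat_lit 786432) (Steps.fwd (nat_lit 262144) (Steps.fwd (nat_lit 1572864) (Steps.bwd (nat_lit 1) (Steps.fwd (nat_lit 786432) (Steps.bwd (nat_lit 1) (Steps.bwd (nat_lit 6) (Steps.bwd (nat_lit 1) (Steps.fwd (nat_lit 786432) Steps.nil))))))))))))) (nat_lit 34) (nat_lit 10),
  Rule.mk (nat_lit 9) (nat_lit 314) (Steps.bwd (nat_lit 4) (Steps.fwd (nat_lit 2359296) (Steps.fwd (nat_lit 1048576) (Steps.fwd (nat_lit 2097152) (Steps.fwd (nat_lit 1048576) (Steps.fwd (nat_lit 2359296) (Steps.bwd (nat_lit 4) (Steps.bwd (nat_lit 9) (Steps.bwd (nat_lit 4) (Steps.fwd (nat_lit 2359296) (Steps.fwd (nat_lit 1048576) (Steps.fwd (nat_lit 2097152) (Steps.fwd (nat_lit 1048576) (Steps.fwd (nat_lit 2359296) (Steps.bwd (nat_lit 4) Steps.nil)))))))))))))))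 (nat_lit 106) (nat_lit 3),
  Rule.mk (nat_lit 4) (nat_lit 314) (Steps.bwd (nat_lit 9) (Steps.fwd (nat_lit 1048576) (Steps.fwd (nat_lit 2359296) (Steps.fwd (nat_lit 1048576) (Steps.bwd (nat_lit 9) (Steps.fwd (nat_lit 1048576) (Steps.bwd (nat_lit 8) (Steps.fwd (nat_lit 1048576) (Steps.fwd (nat_lit 2097152) (Steps.bwd (nat_lit 4) (Steps.fwd (nat_lit 2359296) (Steps.bwd (nat_lit 4) (Steps.bwd (nat_lit 9) (Steps.fwd (nat_lit 1048576) (Steps.bwd (nat_lit 8) Steps.nil))))))))))))))) (nat_lit 106) (nat_lit 2),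
  Rule.mk (nat_lit 4) (nat_lit 314) (Steps.bwd (nat_lit 9) (Steps.fwd (nat_lit 1048576) (Steps.fwd (nat_lit 2359296) (Steps.fwd (nat_lit 1048576) (Steps.bwd (nat_lit 9) (Steps.bwd (nat_lit 4) (Steps.fwd (nat_lit 2359296) (Steps.fwd (nat_lit 1048576) (Steps.bwd (nat_lit 9) (Steps.bwd (nat_lit 4) (Steps.fwd (nat_lit 2359296) (Steps.fwd (nat_lit 1048576) (Steps.bwd (nat_lit 9) (Steps.fwd (nat_lit 1048576) (Steps.bwd (nat_lit 8) Steps.nil))))))))))))))) (nat_lit 106) (nat_lit 2),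
  Rule.mk (nat_lit 4) (nat_lit 314) (Steps.bwd (nat_lit 8) (Steps.fwd (nat_lit 1048576) (Steps.bwd (nat_lit 9) (Steps.bwd (nat_lit 4) (Steps.fwd (nat_lit 2359296) (Steps.fwd (nat_lit 1048576) (Steps.bwd (nat_lit 9) (Steps.bwd (nat_lit 4) (Steps.fwd (nat_lit 2359296) (Steps.fwd (nat_lit 1048576) (Steps.bwd (nat_lit 9) (Steps.bwd (nat_lit 4) (Steps.bwd (nat_lit 8) (Steps.fwd (nat_lit 1048576) (Steps.bwd (nat_lit 9) Steps.nil))))))))))))))) (nat_lit 106) (nat_lit 0),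
  Rule.mk (nat_lit 6) (nat_lit 274) (Steps.bwd (nat_lit 1) (Steps.bwd (nat_lit 2) (Steps.fwd (nat_lit 262144) (Steps.fwd (nat_lit 1572864) (Steps.bwd (nat_lit 1) (Steps.fwd (nat_lit 786432) (Steps.fwd (nat_lit 262144) (Steps.bwd (nat_lit 6) (Steps.fwd (nat_lit 262144) (Steps.fwd (nat_lit 1572864) (Steps.bwd (nat_lit 5) (Steps.fwd (nat_lit 786432) (Steps.fwd (nat_lit 262144) Steps.nil))))))))))))) (nat_lit 34) (nat_lit 3),
  Rule.mk (nat_lit 6) (nat_lit 274) (Steps.bwd (nat_lit 1) (Steps.fwd (nat_lit 1572864) (Steps.bwd (nat_lit 5) (Steps.fwd (nat_lit 786432) (Steps.fwd (nat_lit 262144) (Steps.bwd (nat_lit 6) (Steps.fwd (nat_lit 262144) (Steps.bwd (nat_lit 2) (Steps.bwd (nat_lit 1) (Steps.fwd (nat_lit 1572864) (Steps.bwd (nat_lit 1) (Steps.fwd (nat_lit 786432) (Steps.bwd (nat_lit 1) Steps.nil))))))))))))) (nat_lit 34) (nat_lit 11),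
  Rule.mk (nat_lit 8) (nat_lit 314) (Steps.bwd (nat_lit 4) (Steps.fwd (nat_lit 2097152) (Steps.fwd (nat_lit 1048576) (Steps.bwd (nat_lit 8) (Steps.bwd (nat_lit 4) (Steps.bwd (nat_lit 9) (Steps.bwd (nat_lit 4) (Steps.fwd (nat_lit 2359296) (Steps.bwd (nat_lit 4) (Steps.bwd (nat_lit 9) (Steps.fwd (nat_lit 1048576) (Steps.bwd (nat_lit 8) (Steps.fwd (nat_lit 1048576) (Steps.fwd (nat_lit 2097152) (Steps.fwd (nat_lit 1048576) Steps.nil))))))))))))))) (nat_lit 106) (nat_lit 1),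
  Rule.mk (nat_lit 9) (nat_lit 314) (Steps.bwd (nat_lit 4) (Steps.bwd (nat_lit 8) (Steps.bwd (nat_lit 4) (Steps.bwd (nat_lit 9) (Steps.fwd (nat_lit 1048576) (Steps.bwd (nat_lit 8) (Steps.fwd (nat_lit 1048576) (Steps.fwd (nat_lit 2097152) (Steps.bwd (nat_lit 4) (Steps.bwd (nat_lit 8) (Steps.fwd (nat_lit 1048576) (Steps.bwd (nat_lit 9) (Steps.fwd (nat_lit 1048576) (Steps.fwd (nat_lit 2359296) (Steps.fwd (nat_lit 1048576) Steps.nil))))))))))))))) (nat_lit 106) (nat_lit 3),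
  Rule.mk (nat_lit 4) (nat_lit 314) (Steps.bwd (nat_lit 8) (Steps.fwd (nat_lit 1048576) (Steps.fwd (nat_lit 2097152) (Steps.fwd (nat_lit 1048576) (Steps.fwd (nat_lit 2359296) (Steps.fwd (nat_lit 1048576) (Steps.fwd (nat_lit 2097152) (Steps.bwd (nat_lit 4) (Steps.fwd (nat_lit 2359296) (Steps.fwd (nat_lit 1048576) (Steps.fwd (nat_lit 2097152) (Steps.bwd (nat_lit 4) (Steps.fwd (nat_lit 2359296) (Steps.fwd (nat_lit 1048576) (Steps.fwd (nat_lit 2097152) Steps.nil))))))))))))))) (nat_lit 106) (nat_lit 0),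
  Rule.mk (nat_lit 4) (nat_lit 314) (Steps.bwd (nat_lit 9) (Steps.fwd (nat_lit 1048576) (Steps.fwd (nat_lit 2359296) (Steps.bwd (nat_lit 4) (Steps.bwd (nat_lit 9) (Steps.bwd (nat_lit 4) (Steps.fwd (nat_lit 2359296) (Steps.fwd (nat_lit 1048576) (Steps.fwd (nat_lit 2097152) (Steps.fwd (nat_lit 1048576) (Steps.fwd (nat_lit 2359296) (Steps.bwd (nat_lit 4) (Steps.bwd (nat_lit 9) (Steps.fwd (nat_lit 1048576) (Steps.fwd (nat_lit 2359296) Steps.nil))))))))))))))) (nat_lit 106) (nat_lit 2),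
  Rule.mk (nat_lit 6) (nat_lit 274) (Steps.bwd (nat_lit 1) (Steps.bwd (nat_lit 3) (Steps.bwd (nat_lit 1) (Steps.fwd (nat_lit 1572864) (Steps.bwd (nat_lit 1) (Steps.fwd (nat_lit 524288) (Steps.fwd (nat_lit 1310720) (Steps.bwd (nat_lit 6) (Steps.fwd (nat_lit 262144) (Steps.fwd (nat_lit 1572864) (Steps.fwd (nat_lit 262144) (Steps.fwd (nat_lit 524288) (Steps.fwd (nat_lit 262144) Steps.nil))))))))))))) (nat_lit 35) (nat_lit 8),
  Rule.mk (nat_lit 9) (nat_lit 314) (Steps.bwd (nat_lit 4) (Steps.fwd (nat_lit 2359296) (Steps.fwd (nat_lit 1048576) (Steps.bwd (nat_lit 9) (Steps.fwd (nat_lit 1048576) (Steps.bwd (nat_lit 8) (Steps.fwd (nat_lit 1048576) (Steps.bwd (nat_lit 9) (Steps.fwd (nat_lit 1048576) (Steps.fwd (nat_lit 2359296) (Steps.fwd (nat_lit 1048576) (Steps.fwd (nat_lit 2097152) (Steps.bwd (nat_lit 4) (Steps.fwd (nat_lit 2359296) (Steps.bwd (nat_lit 4) Steps.nil)))))))))))))))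 (nat_lit 106) (nat_lit 3),
  Rule.mk (nat_lit 8) (nat_lit 314) (Steps.bwd (nat_lit 4) (Steps.bwd (nat_lit 9) (Steps.fwd (nat_lit 1048576) (Steps.fwd (nat_lit 2359296) (Steps.bwd (nat_lit 4) (Steps.bwd (nat_lit 9) (Steps.bwd (nat_lit 4) (Steps.bwd (nat_lit 8) (Steps.fwd (nat_lit 1048576) (Steps.fwd (nat_lit 2097152) (Steps.fwd (nat_lit 1048576) (Steps.bwd (nat_lit 8) (Steps.bwd (nat_lit 4) (Steps.bwd (nat_lit 9) (Steps.bwd (nat_lit 4) Steps.nil))))))))))))))) (nat_lit 106) (nat_lit 1),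
  Rule.mk (nat_lit 1) (nat_lit 274) (Steps.bwd (nat_lit 6) (Steps.bwd (nat_lit 5) (Steps.bwd (nat_lit 2) (Steps.fwd (nat_lit 262144) (Steps.fwd (nat_lit 1572864) (Steps.bwd (nat_lit 1) (Steps.fwd (nat_lit 786432) (Steps.fwd (nat_lit 262144) (Steps.fwd (nat_lit 1572864) (Steps.bwd (nat_lit 1) (Steps.bwd (nat_lit 2) (Steps.fwd (nat_lit 262144) (Steps.bwd (nat_lit 6) Steps.nil))))))))))))) (nat_lit 34) (nat_lit 12),
  Rule.mk (nat_lit 5) (nat_lit 114) (Steps.bwd (nat_lit 4) (Steps.bwd (nat_lit 3) (Steps.fwd (nat_lit 1572864) (Steps.fwd (nat_lit 1048576) (Steps.bwd (nat_lit 3) Steps.nil))))) (nat_lit 55) (nat_lit 4),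
  Rule.mk (nat_lit 4) (nat_lit 154) (Steps.fwd (nat_lit 1572864) (Steps.bwd (nat_lit 7) (Steps.fwd (nat_lit 524288) (Steps.bwd (nat_lit 4) (Steps.fwd (nat_lit 1310720) (Steps.bwd (nat_lit 7) (Steps.bwd (nat_lit 3) Steps.nil))))))) (nat_lit 93) (nat_lit 1),
  Rule.mk (nat_lit 4) (nat_lit 154) (Steps.bwd (nat_lit 2) (Steps.bwd (nat_lit 5) (Steps.bwd (nat_lit 7) (Steps.bwd (nat_lit 4) (Steps.bwd (nat_lit 2) (Steps.fwd (nat_lit 1572864) (Steps.bwd (nat_lit 7) Steps.nil))))))) (nat_lit 88) (nat_lit 0),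
  Rule.mk (nat_lit 8) (nat_lit 314) (Steps.bwd (nat_lit 4) (Steps.bwd (nat_lit 9) (Steps.bwd (nat_lit 4) (Steps.bwd (nat_lit 8) (Steps.bwd (nat_lit 4) (Steps.bwd (nat_lit 9) (Steps.bwd (nat_lit 4) (Steps.bwd (nat_lit 8) (Steps.bwd (nat_lit 4) (Steps.bwd (nat_lit 9) (Steps.bwd (nat_lit 4) (Steps.fwd (nat_lit 2359296) (Steps.fwd (nat_lit 1048576) (Steps.fwd (nat_lit 2097152) (Steps.fwd (nat_lit 1048576) Steps.nil))))))))))))))) (nat_lit 106) (nat_lit 1),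
  Rule.mk (nat_lit 9) (nat_lit 314) (Steps.bwd (nat_lit 4) (Steps.bwd (nat_lit 8) (Steps.fwd (nat_lit 1048576) (Steps.fwd (nat_lit 2097152) (Steps.fwd (nat_lit 1048576) (Steps.bwd (nat_lit 8) (Steps.fwd (nat_lit 1048576) (Steps.fwd (nat_lit 2097152) (Steps.fwd (nat_lit 1048576) (Steps.bwd (nat_lit 8) (Steps.bwd (nat_lit 4) (Steps.fwd (nat_lit 2097152) (Steps.bwd (nat_lit 4) (Steps.bwd (nat_lit 8) (Steps.bwd (nat_lit 4) Steps.nil))))))))))))))) (nat_lit 106) (nat_lit 3),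
  Rule.mk (nat_lit 8) (nat_lit 314) (Steps.bwd (nat_lit 4) (Steps.fwd (nat_lit 2097152) (Steps.fwd (nat_lit 1048576) (Steps.bwd (nat_lit 8) (Steps.fwd (nat_lit 1048576) (Steps.fwd (nat_lit 2097152) (Steps.fwd (nat_lit 1048576) (Steps.fwd (nat_lit 2359296) (Steps.fwd (nat_lit 1048576) (Steps.bwd (nat_lit 9) (Steps.fwd (nat_lit 1048576) (Steps.fwd (nat_lit 2359296) (Steps.fwd (nat_lit 1048576) (Steps.fwd (nat_lit 2097152) (Steps.bwd (nat_lit 4) Steps.nil))))))))))))))) (nat_lit 106) (nat_lit 1),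
  Rule.mk (nat_lit 9) (nat_lit 314) (Steps.bwd (nat_lit 4) (Steps.bwd (nat_lit 8) (Steps.fwd (nat_lit 1048576) (Steps.bwd (nat_lit 9) (Steps.fwd (nat_lit 1048576) (Steps.fwd (nat_lit 2359296) (Steps.bwd (nat_lit 4) (Steps.bwd (nat_lit 9) (Steps.bwd (nat_lit 4) (Steps.bwd (nat_lit 8) (Steps.fwd (nat_lit 1048576) (Steps.bwd (nat_lit 9) (Steps.fwd (nat_lit 1048576) (Steps.fwd (nat_lit 2359296) (Steps.fwd (nat_lit 1048576) Steps.nil))))))))))))))) (nat_lit 106) (nat_lit 3),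
  Rule.mk (nat_lit 9) (nat_lit 314) (Steps.bwd (nat_lit 4) (Steps.fwd (nat_lit 2359296) (Steps.fwd (nat_lit 1048576) (Steps.bwd (nat_lit 9) (Steps.fwd (nat_lit 1048576) (Steps.fwd (nat_lit 2359296) (Steps.bwd (nat_lit 4) (Steps.fwd (nat_lit 2097152) (Steps.fwd (nat_lit 1048576) (Steps.bwd (nat_lit 8) (Steps.bwd (nat_lit 4) (Steps.bwd (nat_lit 9) (Steps.fwd (nat_lit 1048576) (Steps.fwd (nat_lit 2359296) (Steps.bwd (nat_lit 4) Steps.nil))))))))))))))) (nat_lit 106) (nat_lit 3),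
  Rule.mk (nat_lit 4) (nat_lit 314) (Steps.bwd (nat_lit 9) (Steps.bwd (nat_lit 4) (Steps.fwd (nat_lit 2359296) (Steps.fwd (nat_lit 1048576) (Steps.fwd (nat_lit 2097152) (Steps.bwd (nat_lit 4) (Steps.bwd (nat_lit 8) (Steps.fwd (nat_lit 1048576) (Steps.bwd (nat_lit 9) (Steps.fwd (nat_lit 1048576) (Steps.bwd (nat_lit 8) (Steps.bwd (nat_lit 4) (Steps.bwd (nat_lit 9) (Steps.fwd (nat_lit 1048576) (Steps.fwd (nat_lit 2359296) Steps.nil))))))))))))))) (nat_lit 106) (nat_lit 2),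
  Rule.mk (nat_lit 4) (nat_lit 314) (Steps.bwd (nat_lit 8) (Steps.fwd (nat_lit 1048576) (Steps.bwd (nat_lit 9) (Steps.bwd (nat_lit 4) (Steps.bwd (nat_lit 8) (Steps.bwd (nat_lit 4) (Steps.bwd (nat_lit 9) (Steps.bwd (nat_lit 4) (Steps.fwd (nat_lit 2359296) (Steps.fwd (nat_lit 1048576) (Steps.bwd (nat_lit 9) (Steps.fwd (nat_lit 1048576) (Steps.fwd (nat_lit 2359296) (Steps.bwd (nat_lit 4) (Steps.fwd (nat_lit 2097152) Steps.nil))))))))))))))) (nat_lit 106) (nat_lit 0),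
  Rule.mk (nat_lit 9) (nat_lit 314) (Steps.bwd (nat_lit 4) (Steps.fwd (nat_lit 2359296) (Steps.fwd (nat_lit 1048576) (Steps.bwd (nat_lit 9) (Steps.fwd (nat_lit 1048576) (Steps.fwd (nat_lit 2359296) (Steps.bwd (nat_lit 4) (Steps.fwd (nat_lit 2097152) (Steps.bwd (nat_lit 4) (Steps.fwd (nat_lit 2359296) (Steps.bwd (nat_lit 4) (Steps.bwd (nat_lit 9) (Steps.bwd (nat_lit 4) (Steps.bwd (nat_lit 8) (Steps.bwd (nat_lit 4) Steps.nil))))))))))))))) (nat_lit 106) (nat_lit 3),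
  Rule.mk (nat_lit 8) (nat_lit 314) (Steps.bwd (nat_lit 4) (Steps.bwd (nat_lit 9) (Steps.bwd (nat_lit 4) (Steps.fwd (nat_lit 2359296) (Steps.fwd (nat_lit 1048576) (Steps.bwd (nat_lit 9) (Steps.bwd (nat_lit 4) (Steps.bwd (nat_lit 8) (Steps.bwd (nat_lit 4) (Steps.fwd (nat_lit 2097152) (Steps.bwd (nat_lit 4) (Steps.fwd (nat_lit 2359296) (Steps.fwd (nat_lit 1048576) (Steps.fwd (nat_lit 2097152) (Steps.bwd (nat_lit 4) Steps.nil))))))))))))))) (nat_lit 106) (nat_lit 1),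
  Rule.mk (nat_lit 4) (nat_lit 314) (Steps.bwd (nat_lit 9) (Steps.bwd (nat_lit 4) (Steps.fwd (nat_lit 2359296) (Steps.fwd (nat_lit 1048576) (Steps.bwd (nat_lit 9) (Steps.bwd (nat_lit 4) (Steps.bwd (nat_lit 8) (Steps.fwd (nat_lit 1048576) (Steps.fwd (nat_lit 2097152) (Steps.fwd (nat_lit 1048576) (Steps.fwd (nat_lit 2359296) (Steps.fwd (nat_lit 1048576) (Steps.bwd (nat_lit 9) (Steps.bwd (nat_lit 4) (Steps.fwd (nat_lit 2359296) Steps.nil))))))))))))))) (nat_lit 106) (nat_lit 2),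
  Rule.mk (nat_lit 4) (nat_lit 314) (Steps.bwd (nat_lit 9) (Steps.fwd (nat_lit 1048576) (Steps.bwd (nat_lit 8) (Steps.bwd (nat_lit 4) (Steps.bwd (nat_lit 9) (Steps.fwd (nat_lit 1048576) (Steps.fwd (nat_lit 2359296) (Steps.fwd (nat_lit 1048576) (Steps.bwd (nat_lit 9) (Steps.bwd (nat_lit 4) (Steps.fwd (nat_lit 2359296) (Steps.fwd (nat_lit 1048576) (Steps.fwd (nat_lit 2097152) (Steps.bwd (nat_lit 4) (Steps.fwd (nat_lit 2359296) Steps.nil))))))))))))))) (nat_lit 106) (nat_lit 2),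
  Rule.mk (nat_lit 8) (nat_lit 314) (Steps.bwd (nat_lit 4) (Steps.bwd (nat_lit 9) (Steps.fwd (nat_lit 1048576) (Steps.fwd (nat_lit 2359296) (Steps.fwd (nat_lit 1048576) (Steps.fwd (nat_lit 2097152) (Steps.bwd (nat_lit 4) (Steps.fwd (nat_lit 2359296) (Steps.fwd (nat_lit 1048576) (Steps.fwd (nat_lit 2097152) (Steps.bwd (nat_lit 4) (Steps.fwd (nat_lit 2359296) (Steps.fwd (nat_lit 1048576) (Steps.bwd (nat_lit 9) (Steps.fwd (nat_lit 1048576) Steps.nil))))))))))))))) (nat_lit 106) (nat_lit 1),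
  Rule.mk (nat_lit 9) (nat_lit 314) (Steps.bwd (nat_lit 4) (Steps.bwd (nat_lit 8) (Steps.bwd (nat_lit 4) (Steps.bwd (nat_lit 9) (Steps.bwd (nat_lit 4) (Steps.bwd (nat_lit 8) (Steps.fwd (nat_lit 1048576) (Steps.fwd (nat_lit 2097152) (Steps.bwd (nat_lit 4) (Steps.bwd (nat_lit 8) (Steps.fwd (nat_lit 1048576) (Steps.bwd (nat_lit 9) (Steps.fwd (nat_lit 1048576) (Steps.fwd (nat_lit 2359296) (Steps.bwd (nat_lit 4) Steps.nil))))))))))))))) (nat_lit 106) (nat_lit 3),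
  Rule.mk (nat_lit 9) (nat_lit 314) (Steps.bwd (nat_lit 4) (Steps.bwd (nat_lit 8) (Steps.bwd (nat_lit 4) (Steps.fwd (nat_lit 2097152) (Steps.bwd (nat_lit 4) (Steps.bwd (nat_lit 8) (Steps.bwd (nat_lit 4) (Steps.bwd (nat_lit 9) (Steps.bwd (nat_lit 4) (Steps.fwd (nat_lit 2359296) (Steps.fwd (nat_lit 1048576) (Steps.bwd (nat_lit 9) (Steps.fwd (nat_lit 1048576) (Steps.bwd (nat_lit 8) (Steps.fwd (nat_lit 1048576) Steps.nil))))))))))))))) (nat_lit 106) (nat_lit 3),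
  Rule.mk (nat_lit 4) (nat_lit 314) (Steps.bwd (nat_lit 8) (Steps.fwd (nat_lit 1048576) (Steps.fwd (nat_lit 2097152) (Steps.bwd (nat_lit 4) (Steps.fwd (nat_lit 2359296) (Steps.bwd (nat_lit 4) (Steps.fwd (nat_lit 2097152) (Steps.fwd (nat_lit 1048576) (Steps.fwd (nat_lit 2359296) (Steps.fwd (nat_lit 1048576) (Steps.fwd (nat_lit 2097152) (Steps.bwd (nat_lit 4) (Steps.fwd (nat_lit 2359296) (Steps.bwd (nat_lit 4) (Steps.fwd (nat_lit 2097152) Steps.nil))))))))))))))) (nat_lit 106) (nat_lit 0),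
  Rule.mk (nat_lit 8) (nat_lit 314) (Steps.bwd (nat_lit 4) (Steps.bwd (nat_lit 9) (Steps.bwd (nat_lit 4) (Steps.fwd (nat_lit 2359296) (Steps.fwd (nat_lit 1048576) (Steps.fwd (nat_lit 2097152) (Steps.bwd (nat_lit 4) (Steps.bwd (nat_lit 8) (Steps.bwd (nat_lit 4) (Steps.bwd (nat_lit 9) (Steps.fwd (nat_lit 1048576) (Steps.bwd (nat_lit 8) (Steps.fwd (nat_lit 1048576) (Steps.fwd (nat_lit 2097152) (Steps.bwd (nat_lit 4) Steps.nil))))))))))))))) (nat_lit 106) (nat_lit 1),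
  Rule.mk (nat_lit 8) (nat_lit 314) (Steps.bwd (nat_lit 4) (Steps.bwd (nat_lit 9) (Steps.bwd (nat_lit 4) (Steps.bwd (nat_lit 8) (Steps.bwd (nat_lit 4) (Steps.bwd (nat_lit 9) (Steps.bwd (nat_lit 4) (Steps.bwd (nat_lit 8) (Steps.bwd (nat_lit 4) (Steps.fwd (nat_lit 2097152) (Steps.bwd (nat_lit 4) (Steps.bwd (nat_lit 8) (Steps.bwd (nat_lit 4) (Steps.bwd (nat_lit 9) (Steps.bwd (nat_lit 4) Steps.nil))))))))))))))) (nat_lit 106) (nat_lit 1),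
  Rule.mk (nat_lit 4) (nat_lit 314) (Steps.bwd (nat_lit 9) (Steps.fwd (nat_lit 1048576) (Steps.bwd (nat_lit 8) (Steps.fwd (nat_lit 1048576) (Steps.bwd (nat_lit 9) (Steps.bwd (nat_lit 4) (Steps.fwd (nat_lit 2359296) (Steps.bwd (nat_lit 4) (Steps.bwd (nat_lit 9) (Steps.fwd (nat_lit 1048576) (Steps.fwd (nat_lit 2359296) (Steps.fwd (nat_lit 1048576) (Steps.fwd (nat_lit 2097152) (Steps.bwd (nat_lit 4) (Steps.fwd (nat_lit 2359296) Steps.nil))))))))))))))) (nat_lit 106) (nat_lit 2),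
  Rule.mk (nat_lit 4) (nat_lit 314) (Steps.bwd (nat_lit 9) (Steps.bwd (nat_lit 4) (Steps.bwd (nat_lit 8) (Steps.bwd (nat_lit 4) (Steps.bwd (nat_lit 9) (Steps.fwd (nat_lit 1048576) (Steps.bwd (nat_lit 8) (Steps.fwd (nat_lit 1048576) (Steps.bwd (nat_lit 9) (Steps.bwd (nat_lit 4) (Steps.fwd (nat_lit 2359296) (Steps.fwd (nat_lit 1048576) (Steps.bwd (nat_lit 9) (Steps.fwd (nat_lit 1048576) (Steps.bwd (nat_lit 8) Steps.nil))))))))))))))) (nat_lit 106) (nat_lit 2),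
  Rule.mk (nat_lit 4) (nat_lit 314) (Steps.bwd (nat_lit 8) (Steps.fwd (nat_lit 1048576) (Steps.fwd (nat_lit 2097152) (Steps.bwd (nat_lit 4) (Steps.fwd (nat_lit 2359296) (Steps.fwd (nat_lit 1048576) (Steps.bwd (nat_lit 9) (Steps.bwd (nat_lit 4) (Steps.bwd (nat_lit 8) (Steps.bwd (nat_lit 4) (Steps.fwd (nat_lit 2097152) (Steps.fwd (nat_lit 1048576) (Steps.fwd (nat_lit 2359296) (Steps.bwd (nat_lit 4) (Steps.bwd (nat_lit 9) Steps.nil))))))))))))))) (nat_lit 106) (nat_lit 0),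
  Rule.mk (nat_lit 4) (nat_lit 314) (Steps.bwd (nat_lit 8) (Steps.bwd (nat_lit 4) (Steps.bwd (nat_lit 9) (Steps.bwd (nat_lit 4) (Steps.fwd (nat_lit 2359296) (Steps.bwd (nat_lit 4) (Steps.fwd (nat_lit 2097152) (Steps.fwd (nat_lit 1048576) (Steps.bwd (nat_lit 8) (Steps.fwd (nat_lit 1048576) (Steps.bwd (nat_lit 9) (Steps.fwd (nat_lit 1048576) (Steps.fwd (nat_lit 2359296) (Steps.fwd (nat_lit 1048576) (Steps.fwd (nat_lit 2097152) Steps.nil))))))))))))))) (nat_lit 106) (nat_lit 0),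
  Rule.mk (nat_lit 9) (nat_lit 314) (Steps.bwd (nat_lit 4) (Steps.fwd (nat_lit 2359296) (Steps.bwd (nat_lit 4) (Steps.fwd (nat_lit 2097152) (Steps.bwd (nat_lit 4) (Steps.bwd (nat_lit 8) (Steps.bwd (nat_lit 4) (Steps.bwd (nat_lit 9) (Steps.bwd (nat_lit 4) (Steps.bwd (nat_lit 8) (Steps.fwd (nat_lit 1048576) (Steps.fwd (nat_lit 2097152) (Steps.bwd (nat_lit 4) (Steps.fwd (nat_lit 2359296) (Steps.bwd (nat_lit 4) Steps.nil))))))))))))))) (nat_lit 106) (nat_lit 3),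
  Rule.mk (nat_lit 8) (nat_lit 314) (Steps.bwd (nat_lit 4) (Steps.fwd (nat_lit 2097152) (Steps.bwd (nat_lit 4) (Steps.bwd (nat_lit 8) (Steps.bwd (nat_lit 4) (Steps.bwd (nat_lit 9) (Steps.bwd (nat_lit 4) (Steps.fwd (nat_lit 2359296) (Steps.bwd (nat_lit 4) (Steps.bwd (nat_lit 9) (Steps.bwd (nat_lit 4) (Steps.bwd (nat_lit 8) (Steps.fwd (nat_lit 1048576) (Steps.fwd (nat_lit 2097152) (Steps.fwd (nat_lit 1048576) Steps.nil))))))))))))))) (nat_lit 106) (nat_lit 1),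
  Rule.mk (nat_lit 3) (nat_lit 154) (Steps.bwd (nat_lit 1) (Steps.bwd (nat_lit 3) (Steps.bwd (nat_lit 7) (Steps.fwd (nat_lit 262144) (Steps.fwd (nat_lit 524288) (Steps.bwd (nat_lit 1) (Steps.bwd (nat_lit 7) Steps.nil))))))) (nat_lit 73) (nat_lit 2),
  Rule.mk (nat_lit 8) (nat_lit 314) (Steps.bwd (nat_lit 4) (Steps.bwd (nat_lit 9) (Steps.bwd (nat_lit 4) (Steps.fwd (nat_lit 2359296) (Steps.bwd (nat_lit 4) (Steps.bwd (nat_lit 9) (Steps.bwd (nat_lit 4) (Steps.fwd (nat_lit 2359296) (Steps.fwd (nat_lit 1048576) (Steps.fwd (nat_lit 2097152) (Steps.bwd (nat_lit 4) (Steps.fwd (nat_lit 2359296) (Steps.fwd (nat_lit 1048576) (Steps.fwd (nat_lit 2097152) (Steps.fwd (nat_lit 1048576) Steps.nil))))))))))))))) (nat_lit 106) (nat_lit 1),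
  Rule.mk (nat_lit 4) (nat_lit 314) (Steps.bwd (nat_lit 9) (Steps.fwd (nat_lit 1048576) (Steps.fwd (nat_lit 2359296) (Steps.bwd (nat_lit 4) (Steps.fwd (nat_lit 2097152) (Steps.bwd (nat_lit 4) (Steps.fwd (nat_lit 2359296) (Steps.bwd (nat_lit 4) (Steps.fwd (nat_lit 2097152) (Steps.fwd (nat_lit 1048576) (Steps.fwd (nat_lit 2359296) (Steps.fwd (nat_lit 1048576) (Steps.fwd (nat_lit 2097152) (Steps.fwd (nat_lit 1048576) (Steps.fwd (nat_lit 2359296) Steps.nil))))))))))))))) (nat_lit 106) (nat_lit 2),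
  Rule.mk (nat_lit 9) (nat_lit 314) (Steps.bwd (nat_lit 4) (Steps.bwd (nat_lit 8) (Steps.bwd (nat_lit 4) (Steps.bwd (nat_lit 9) (Steps.bwd (nat_lit 4) (Steps.bwd (nat_lit 8) (Steps.fwd (nat_lit 1048576) (Steps.bwd (nat_lit 9) (Steps.fwd (nat_lit 1048576) (Steps.fwd (nat_lit 2359296) (Steps.bwd (nat_lit 4) (Steps.bwd (nat_lit 9) (Steps.bwd (nat_lit 4) (Steps.fwd (nat_lit 2359296) (Steps.fwd (nat_lit 1048576) Steps.nil))))))))))))))) (nat_lit 106) (nat_lit 3),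
  Rule.mk (nat_lit 9) (nat_lit 314) (Steps.bwd (nat_lit 4) (Steps.fwd (nat_lit 2359296) (Steps.fwd (nat_lit 1048576) (Steps.bwd (nat_lit 9) (Steps.fwd (nat_lit 1048576) (Steps.fwd (nat_lit 2359296) (Steps.fwd (nat_lit 1048576) (Steps.bwd (nat_lit 9) (Steps.bwd (nat_lit 4) (Steps.fwd (nat_lit 2359296) (Steps.fwd (nat_lit 1048576) (Steps.bwd (nat_lit 9) (Steps.bwd (nat_lit 4) (Steps.fwd (nat_lit 2359296) (Steps.bwd (nat_lit 4) Steps.nil))))))))))))))) (nat_lit 106) (nat_lit 3),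
  Rule.mk (nat_lit 8) (nat_lit 314) (Steps.bwd (nat_lit 4) (Steps.bwd (nat_lit 9) (Steps.bwd (nat_lit 4) (Steps.fwd (nat_lit 2359296) (Steps.bwd (nat_lit 4) (Steps.bwd (nat_lit 9) (Steps.fwd (nat_lit 1048576) (Steps.fwd (nat_lit 2359296) (Steps.bwd (nat_lit 4) (Steps.bwd (nat_lit 9) (Steps.fwd (nat_lit 1048576) (Steps.fwd (nat_lit 2359296) (Steps.fwd (nat_lit 1048576) (Steps.bwd (nat_lit 9) (Steps.bwd (nat_lit 4) Steps.nil))))))))))))))) (nat_lit 106) (nat_lit 1),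
  Rule.mk (nat_lit 9) (nat_lit 314) (Steps.bwd (nat_lit 4) (Steps.fwd (nat_lit 2359296) (Steps.fwd (nat_lit 1048576) (Steps.bwd (nat_lit 9) (Steps.bwd (nat_lit 4) (Steps.fwd (nat_lit 2359296) (Steps.bwd (nat_lit 4) (Steps.bwd (nat_lit 9) (Steps.fwd (nat_lit 1048576) (Steps.fwd (nat_lit 2359296) (Steps.bwd (nat_lit 4) (Steps.bwd (nat_lit 9) (Steps.fwd (nat_lit 1048576) (Steps.fwd (nat_lit 2359296) (Steps.fwd (nat_lit 1048576) Steps.nil))))))))))))))) (nat_lit 106) (nat_lit 3),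
  Rule.mk (nat_lit 8) (nat_lit 314) (Steps.bwd (nat_lit 4) (Steps.bwd (nat_lit 9) (Steps.bwd (nat_lit 4) (Steps.fwd (nat_lit 2359296) (Steps.bwd (nat_lit 4) (Steps.bwd (nat_lit 9) (Steps.fwd (nat_lit 1048576) (Steps.bwd (nat_lit 8) (Steps.fwd (nat_lit 1048576) (Steps.bwd (nat_lit 9) (Steps.fwd (nat_lit 1048576) (Steps.fwd (nat_lit 2359296) (Steps.fwd (nat_lit 1048576) (Steps.fwd (nat_lit 2097152) (Steps.fwd (nat_lit 1048576) Steps.nil))))))))))))))) (nat_lit 106) (nat_lit 1)]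
noncomputable def R_124 : List (Rule) := [Rule.mk (nat_lit 4) (nat_lit 314) (Steps.bwd (nat_lit 8) (Steps.bwd (nat_lit 4) (Steps.fwd (nat_lit 2097152) (Steps.fwd (nat_lit 1048576) (Steps.fwd (nat_lit 2359296) (Steps.bwd (nat_lit 4) (Steps.bwd (nat_lit 9) (Steps.bwd (nat_lit 4) (Steps.fwd (nat_lit 2359296) (Steps.fwd (nat_lit 1048576) (Steps.bwd (nat_lit 9) (Steps.fwd (nat_lit 1048576) (Steps.fwd (nat_lit 2359296) (Steps.bwd (nat_lit 4) (Steps.bwd (nat_lit 9) Steps.nil))))))))))))))) (nat_lit 106) (nat_lit 0),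
  Rule.mk (nat_lit 4) (nat_lit 314) (Steps.bwd (nat_lit 8) (Steps.bwd (nat_lit 4) (Steps.bwd (nat_lit 9) (Steps.bwd (nat_lit 4) (Steps.bwd (nat_lit 8) (Steps.fwd (nat_lit 1048576) (Steps.bwd (nat_lit 9) (Steps.bwd (nat_lit 4) (Steps.bwd (nat_lit 8) (Steps.bwd (nat_lit 4) (Steps.bwd (nat_lit 9) (Steps.bwd (nat_lit 4) (Steps.fwd (nat_lit 2359296) (Steps.bwd (nat_lit 4) (Steps.bwd (nat_lit 9) Steps.nil))))))))))))))) (nat_lit 106) (nat_lit 0),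
  Rule.mk (nat_lit 4) (nat_lit 314) (Steps.bwd (nat_lit 8) (Steps.bwd (nat_lit 4) (Steps.bwd (nat_lit 9) (Steps.bwd (nat_lit 4) (Steps.bwd (nat_lit 8) (Steps.bwd (nat_lit 4) (Steps.bwd (nat_lit 9) (Steps.fwd (nat_lit 1048576) (Steps.bwd (nat_lit 8) (Steps.bwd (nat_lit 4) (Steps.fwd (nat_lit 2097152) (Steps.bwd (nat_lit 4) (Steps.fwd (nat_lit 2359296) (Steps.fwd (nat_lit 1048576) (Steps.bwd (nat_lit 9) Steps.nil))))))))))))))) (nat_lit 106) (nat_lit 0),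
  Rule.mk (nat_lit 9) (nat_lit 314) (Steps.bwd (nat_lit 4) (Steps.bwd (nat_lit 8) (Steps.bwd (nat_lit 4) (Steps.bwd (nat_lit 9) (Steps.fwd (nat_lit 1048576) (Steps.fwd (nat_lit 2359296) (Steps.bwd (nat_lit 4) (Steps.bwd (nat_lit 9) (Steps.bwd (nat_lit 4) (Steps.fwd (nat_lit 2359296) (Steps.fwd (nat_lit 1048576) (Steps.fwd (nat_lit 2097152) (Steps.fwd (nat_lit 1048576) (Steps.fwd (nat_lit 2359296) (Steps.bwd (nat_lit 4) Steps.nil))))))))))))))) (nat_lit 106) (nat_lit 3),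
  Rule.mk (nat_lit 8) (nat_lit 314) (Steps.bwd (nat_lit 4) (Steps.bwd (nat_lit 9) (Steps.bwd (nat_lit 4) (Steps.fwd (nat_lit 2359296) (Steps.fwd (nat_lit 1048576) (Steps.bwd (nat_lit 9) (Steps.fwd (nat_lit 1048576) (Steps.fwd (nat_lit 2359296) (Steps.fwd (nat_lit 1048576) (Steps.fwd (nat_lit 2097152) (Steps.fwd (nat_lit 1048576) (Steps.bwd (nat_lit 8) (Steps.fwd (nat_lit 1048576) (Steps.bwd (nat_lit 9) (Steps.bwd (nat_lit 4) Steps.nil))))))))))))))) (nat_lit 106) (nat_lit 1),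
  Rule.mk (nat_lit 4) (nat_lit 314) (Steps.bwd (nat_lit 9) (Steps.bwd (nat_lit 4) (Steps.bwd (nat_lit 8) (Steps.bwd (nat_lit 4) (Steps.bwd (nat_lit 9) (Steps.bwd (nat_lit 4) (Steps.fwd (nat_lit 2359296) (Steps.fwd (nat_lit 1048576) (Steps.bwd (nat_lit 9) (Steps.bwd (nat_lit 4) (Steps.fwd (nat_lit 2359296) (Steps.bwd (nat_lit 4) (Steps.fwd (nat_lit 2097152) (Steps.fwd (nat_lit 1048576) (Steps.fwd (nat_lit 2359296) Steps.nil))))))))))))))) (nat_lit 106) (nat_lit 2),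
  Rule.mk (nat_lit 9) (nat_lit 314) (Steps.bwd (nat_lit 4) (Steps.fwd (nat_lit 2359296) (Steps.bwd (nat_lit 4) (Steps.bwd (nat_lit 9) (Steps.bwd (nat_lit 4) (Steps.bwd (nat_lit 8) (Steps.fwd (nat_lit 1048576) (Steps.fwd (nat_lit 2097152) (Steps.bwd (nat_lit 4) (Steps.bwd (nat_lit 8) (Steps.bwd (nat_lit 4) (Steps.fwd (nat_lit 2097152) (Steps.fwd (nat_lit 1048576) (Steps.fwd (nat_lit 2359296) (Steps.fwd (nat_lit 1048576) Steps.nil))))))))))))))) (nat_lit 106) (nat_lit 3),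
  Rule.mk (nat_lit 9) (nat_lit 314) (Steps.bwd (nat_lit 4) (Steps.fwd (nat_lit 2359296) (Steps.bwd (nat_lit 4) (Steps.bwd (nat_lit 9) (Steps.bwd (nat_lit 4) (Steps.bwd (nat_lit 8) (Steps.bwd (nat_lit 4) (Steps.fwd (nat_lit 2097152) (Steps.bwd (nat_lit 4) (Steps.bwd (nat_lit 8) (Steps.fwd (nat_lit 1048576) (Steps.bwd (nat_lit 9) (Steps.fwd (nat_lit 1048576) (Steps.fwd (nat_lit 2359296) (Steps.fwd (nat_lit 1048576) Steps.nil))))))))))))))) (nat_lit 106) (nat_lit 3),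
  Rule.mk (nat_lit 8) (nat_lit 314) (Steps.bwd (nat_lit 4) (Steps.bwd (nat_lit 9) (Steps.bwd (nat_lit 4) (Steps.fwd (nat_lit 2359296) (Steps.fwd (nat_lit 1048576) (Steps.fwd (nat_lit 2097152) (Steps.fwd (nat_lit 1048576) (Steps.bwd (nat_lit 8) (Steps.fwd (nat_lit 1048576) (Steps.bwd (nat_lit 9) (Steps.fwd (nat_lit 1048576) (Steps.fwd (nat_lit 2359296) (Steps.bwd (nat_lit 4) (Steps.fwd (nat_lit 2097152) (Steps.bwd (nat_lit 4) Steps.nil))))))))))))))) (nat_lit 106) (nat_lit 1),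
  Rule.mk (nat_lit 9) (nat_lit 314) (Steps.bwd (nat_lit 4) (Steps.bwd (nat_lit 8) (Steps.bwd (nat_lit 4) (Steps.bwd (nat_lit 9) (Steps.fwd (nat_lit 1048576) (Steps.fwd (nat_lit 2359296) (Steps.fwd (nat_lit 1048576) (Steps.fwd (nat_lit 2097152) (Steps.fwd (nat_lit 1048576) (Steps.fwd (nat_lit 2359296) (Steps.fwd (nat_lit 1048576) (Steps.bwd (nat_lit 9) (Steps.bwd (nat_lit 4) (Steps.fwd (nat_lit 2359296) (Steps.fwd (nat_lit 1048576) Steps.nil))))))))))))))) (nat_lit 106) (nat_lit 3),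
  Rule.mk (nat_lit 8) (nat_lit 314) (Steps.bwd (nat_lit 4) (Steps.bwd (nat_lit 9) (Steps.bwd (nat_lit 4) (Steps.fwd (nat_lit 2359296) (Steps.fwd (nat_lit 1048576) (Steps.fwd (nat_lit 2097152) (Steps.fwd (nat_lit 1048576) (Steps.fwd (nat_lit 2359296) (Steps.fwd (nat_lit 1048576) (Steps.fwd (nat_lit 2097152) (Steps.bwd (nat_lit 4) (Steps.bwd (nat_lit 8) (Steps.bwd (nat_lit 4) (Steps.fwd (nat_lit 2097152) (Steps.bwd (nat_lit 4) Steps.nil))))))))))))))) (nat_lit 106) (nat_lit 1),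
  Rule.mk (nat_lit 6) (nat_lit 154) (Steps.bwd (nat_lit 1) (Steps.bwd (nat_lit 4) (Steps.bwd (nat_lit 1) (Steps.fwd (nat_lit 1572864) (Steps.bwd (nat_lit 1) (Steps.fwd (nat_lit 1048576) (Steps.bwd (nat_lit 1) Steps.nil))))))) (nat_lit 74) (nat_lit 0),
  Rule.mk (nat_lit 8) (nat_lit 314) (Steps.bwd (nat_lit 4) (Steps.bwd (nat_lit 9) (Steps.bwd (nat_lit 4) (Steps.fwd (nat_lit 2359296) (Steps.bwd (nat_lit 4) (Steps.bwd (nat_lit 9) (Steps.bwd (nat_lit 4) (Steps.bwd (nat_lit 8) (Steps.bwd (nat_lit 4) (Steps.bwd (nat_lit 9) (Steps.bwd (nat_lit 4) (Steps.fwd (nat_lit 2359296) (Steps.fwd (nat_lit 1048576) (Steps.fwd (nat_lit 2097152) (Steps.fwd (nat_lit 1048576) Steps.nil))))))))))))))) (nat_lit 106) (nat_lit 1),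
  Rule.mk (nat_lit 9) (nat_lit 314) (Steps.bwd (nat_lit 4) (Steps.bwd (nat_lit 8) (Steps.bwd (nat_lit 4) (Steps.bwd (nat_lit 9) (Steps.bwd (nat_lit 4) (Steps.bwd (nat_lit 8) (Steps.fwd (nat_lit 1048576) (Steps.fwd (nat_lit 2097152) (Steps.fwd (nat_lit 1048576) (Steps.fwd (nat_lit 2359296) (Steps.bwd (nat_lit 4) (Steps.bwd (nat_lit 9) (Steps.bwd (nat_lit 4) (Steps.fwd (nat_lit 2359296) (Steps.fwd (nat_lit 1048576) Steps.nil))))))))))))))) (nat_lit 106) (nat_lit 3),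
  Rule.mk (nat_lit 4) (nat_lit 314) (Steps.bwd (nat_lit 9) (Steps.bwd (nat_lit 4) (Steps.bwd (nat_lit 8) (Steps.bwd (nat_lit 4) (Steps.fwd (nat_lit 2097152) (Steps.bwd (nat_lit 4) (Steps.bwd (nat_lit 8) (Steps.fwd (nat_lit 1048576) (Steps.fwd (nat_lit 2097152) (Steps.fwd (nat_lit 1048576) (Steps.fwd (nat_lit 2359296) (Steps.fwd (nat_lit 1048576) (Steps.fwd (nat_lit 2097152) (Steps.fwd (nat_lit 1048576) (Steps.fwd (nat_lit 2359296) Steps.nil))))))))))))))) (nat_lit 106) (nat_lit 2),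
  Rule.mk (nat_lit 4) (nat_lit 154) (Steps.bwd (nat_lit 1) (Steps.bwd (nat_lit 4) (Steps.bwd (nat_lit 7) (Steps.bwd (nat_lit 1) (Steps.fwd (nat_lit 1048576) (Steps.bwd (nat_lit 1) (Steps.fwd (nat_lit 1835008) Steps.nil))))))) (nat_lit 76) (nat_lit 5),
  Rule.mk (nat_lit 6) (nat_lit 274) (Steps.bwd (nat_lit 1) (Steps.fwd (nat_lit 1572864) (Steps.fwd (nat_lit 1310720) (Steps.bwd (nat_lit 2) (Steps.bwd (nat_lit 1) (Steps.fwd (nat_lit 1572864) (Steps.fwd (nat_lit 262144) (Steps.fwd (nat_lit 786432) (Steps.bwd (nat_lit 1) (Steps.bwd (nat_lit 6) (Steps.fwd (nat_lit 262144) (Steps.fwd (nat_lit 786432) (Steps.bwd (nat_lit 1) Steps.nil))))))))))))) (nat_lit 34) (nat_lit 11),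
  Rule.mk (nat_lit 8) (nat_lit 314) (Steps.bwd (nat_lit 4) (Steps.fwd (nat_lit 2097152) (Steps.fwd (nat_lit 1048576) (Steps.bwd (nat_lit 8) (Steps.fwd (nat_lit 1048576) (Steps.bwd (nat_lit 9) (Steps.bwd (nat_lit 4) (Steps.fwd (nat_lit 2359296) (Steps.fwd (nat_lit 1048576) (Steps.bwd (nat_lit 9) (Steps.fwd (nat_lit 1048576) (Steps.fwd (nat_lit 2359296) (Steps.bwd (nat_lit 4) (Steps.bwd (nat_lit 9) (Steps.fwd (nat_lit 1048576) Steps.nil))))))))))))))) (nat_lit 106) (nat_lit 1),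
  Rule.mk (nat_lit 4) (nat_lit 314) (Steps.bwd (nat_lit 8) (Steps.bwd (nat_lit 4) (Steps.bwd (nat_lit 9) (Steps.bwd (nat_lit 4) (Steps.bwd (nat_lit 8) (Steps.fwd (nat_lit 1048576) (Steps.bwd (nat_lit 9) (Steps.bwd (nat_lit 4) (Steps.bwd (nat_lit 8) (Steps.fwd (nat_lit 1048576) (Steps.bwd (nat_lit 9) (Steps.bwd (nat_lit 4) (Steps.fwd (nat_lit 2359296) (Steps.fwd (nat_lit 1048576) (Steps.bwd (nat_lit 9) Steps.nil))))))))))))))) (nat_lit 106) (nat_lit 0),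
  Rule.mk (nat_lit 9) (nat_lit 314) (Steps.bwd (nat_lit 4) (Steps.bwd (nat_lit 8) (Steps.fwd (nat_lit 1048576) (Steps.fwd (nat_lit 2097152) (Steps.bwd (nat_lit 4) (Steps.bwd (nat_lit 8) (Steps.fwd (nat_lit 1048576) (Steps.fwd (nat_lit 2097152) (Steps.fwd (nat_lit 1048576) (Steps.fwd (nat_lit 2359296) (Steps.bwd (nat_lit 4) (Steps.fwd (nat_lit 2097152) (Steps.fwd (nat_lit 1048576) (Steps.fwd (nat_lit 2359296) (Steps.fwd (nat_lit 1048576) Steps.nil))))))))))))))) (nat_lit 106) (nat_lit 3),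
  Rule.mk (nat_lit 8) (nat_lit 314) (Steps.bwd (nat_lit 4) (Steps.bwd (nat_lit 9) (Steps.fwd (nat_lit 1048576) (Steps.bwd (nat_lit 8) (Steps.bwd (nat_lit 4) (Steps.bwd (nat_lit 9) (Steps.fwd (nat_lit 1048576) (Steps.fwd (nat_lit 2359296) (Steps.fwd (nat_lit 1048576) (Steps.bwd (nat_lit 9) (Steps.bwd (nat_lit 4) (Steps.fwd (nat_lit 2359296) (Steps.bwd (nat_lit 4) (Steps.bwd (nat_lit 9) (Steps.fwd (nat_lit 1048576) Steps.nil))))))))))))))) (nat_lit 106) (nat_lit 1),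
  Rule.mk (nat_lit 9) (nat_lit 314) (Steps.bwd (nat_lit 4) (Steps.fwd (nat_lit 2359296) (Steps.fwd (nat_lit 1048576) (Steps.fwd (nat_lit 2097152) (Steps.bwd (nat_lit 4) (Steps.bwd (nat_lit 8) (Steps.bwd (nat_lit 4) (Steps.fwd (nat_lit 2097152) (Steps.fwd (nat_lit 1048576) (Steps.bwd (nat_lit 8) (Steps.fwd (nat_lit 1048576) (Steps.bwd (nat_lit 9) (Steps.fwd (nat_lit 1048576) (Steps.fwd (nat_lit 2359296) (Steps.fwd (nat_lit 1048576) Steps.nil))))))))))))))) (nat_lit 106) (nat_lit 3),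
  Rule.mk (nat_lit 8) (nat_lit 314) (Steps.bwd (nat_lit 4) (Steps.bwd (nat_lit 9) (Steps.bwd (nat_lit 4) (Steps.bwd (nat_lit 8) (Steps.bwd (nat_lit 4) (Steps.fwd (nat_lit 2097152) (Steps.bwd (nat_lit 4) (Steps.fwd (nat_lit 2359296) (Steps.fwd (nat_lit 1048576) (Steps.bwd (nat_lit 9) (Steps.fwd (nat_lit 1048576) (Steps.bwd (nat_lit 8) (Steps.bwd (nat_lit 4) (Steps.bwd (nat_lit 9) (Steps.fwd (nat_lit 1048576) Steps.nil))))))))))))))) (nat_lit 106) (nat_lit 1),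
  Rule.mk (nat_lit 8) (nat_lit 314) (Steps.bwd (nat_lit 4) (Steps.bwd (nat_lit 9) (Steps.fwd (nat_lit 1048576) (Steps.bwd (nat_lit 8) (Steps.bwd (nat_lit 4) (Steps.fwd (nat_lit 2097152) (Steps.fwd (nat_lit 1048576) (Steps.bwd (nat_lit 8) (Steps.fwd (nat_lit 1048576) (Steps.bwd (nat_lit 9) (Steps.fwd (nat_lit 1048576) (Steps.fwd (nat_lit 2359296) (Steps.bwd (nat_lit 4) (Steps.fwd (nat_lit 2097152) (Steps.bwd (nat_lit 4) Steps.nil))))))))))))))) (nat_lit 106) (nat_lit 1),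
  Rule.mk (nat_lit 4) (nat_lit 314) (Steps.bwd (nat_lit 9) (Steps.bwd (nat_lit 4) (Steps.bwd (nat_lit 8) (Steps.bwd (nat_lit 4) (Steps.fwd (nat_lit 2097152) (Steps.fwd (nat_lit 1048576) (Steps.fwd (nat_lit 2359296) (Steps.bwd (nat_lit 4) (Steps.fwd (nat_lit 2097152) (Steps.bwd (nat_lit 4) (Steps.fwd (nat_lit 2359296) (Steps.bwd (nat_lit 4) (Steps.bwd (nat_lit 9) (Steps.fwd (nat_lit 1048576) (Steps.bwd (nat_lit 8) Steps.nil))))))))))))))) (nat_lit 106) (nat_lit 2),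
  Rule.mk (nat_lit 4) (nat_lit 314) (Steps.bwd (nat_lit 8) (Steps.bwd (nat_lit 4) (Steps.bwd (nat_lit 9) (Steps.bwd (nat_lit 4) (Steps.bwd (nat_lit 8) (Steps.bwd (nat_lit 4) (Steps.bwd (nat_lit 9) (Steps.fwd (nat_lit 1048576) (Steps.fwd (nat_lit 2359296) (Steps.bwd (nat_lit 4) (Steps.bwd (nat_lit 9) (Steps.fwd (nat_lit 1048576) (Steps.fwd (nat_lit 2359296) (Steps.fwd (nat_lit 1048576) (Steps.fwd (nat_lit 2097152) Steps.nil))))))))))))))) (nat_lit 106) (nat_lit 0),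
  Rule.mk (nat_lit 4) (nat_lit 314) (Steps.bwd (nat_lit 9) (Steps.bwd (nat_lit 4) (Steps.bwd (nat_lit 8) (Steps.bwd (nat_lit 4) (Steps.bwd (nat_lit 9) (Steps.fwd (nat_lit 1048576) (Steps.fwd (nat_lit 2359296) (Steps.fwd (nat_lit 1048576) (Steps.bwd (nat_lit 9) (Steps.bwd (nat_lit 4) (Steps.fwd (nat_lit 2359296) (Steps.fwd (nat_lit 1048576) (Steps.bwd (nat_lit 9) (Steps.fwd (nat_lit 1048576) (Steps.bwd (nat_lit 8) Steps.nil))))))))))))))) (nat_lit 106) (nat_lit 2),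
  Rule.mk (nat_lit 8) (nat_lit 314) (Steps.bwd (nat_lit 4) (Steps.bwd (nat_lit 9) (Steps.bwd (nat_lit 4) (Steps.fwd (nat_lit 2359296) (Steps.fwd (nat_lit 1048576) (Steps.fwd (nat_lit 2097152) (Steps.fwd (nat_lit 1048576) (Steps.fwd (nat_lit 2359296) (Steps.bwd (nat_lit 4) (Steps.bwd (nat_lit 9) (Steps.fwd (nat_lit 1048576) (Steps.bwd (nat_lit 8) (Steps.fwd (nat_lit 1048576) (Steps.fwd (nat_lit 2097152) (Steps.bwd (nat_lit 4) Steps.nil))))))))))))))) (nat_lit 106) (nat_lit 1),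
  Rule.mk (nat_lit 9) (nat_lit 314) (Steps.bwd (nat_lit 4) (Steps.bwd (nat_lit 8) (Steps.fwd (nat_lit 1048576) (Steps.fwd (nat_lit 2097152) (Steps.fwd (nat_lit 1048576) (Steps.fwd (nat_lit 2359296) (Steps.fwd (nat_lit 1048576) (Steps.bwd (nat_lit 9) (Steps.bwd (nat_lit 4) (Steps.bwd (nat_lit 8) (Steps.fwd (nat_lit 1048576) (Steps.bwd (nat_lit 9) (Steps.bwd (nat_lit 4) (Steps.bwd (nat_lit 8) (Steps.bwd (nat_lit 4) Steps.nil))))))))))))))) (nat_lit 106) (nat_lit 3),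
  Rule.mk (nat_lit 9) (nat_lit 314) (Steps.bwd (nat_lit 4) (Steps.bwd (nat_lit 8) (Steps.bwd (nat_lit 4) (Steps.fwd (nat_lit 2097152) (Steps.fwd (nat_lit 1048576) (Steps.fwd (nat_lit 2359296) (Steps.bwd (nat_lit 4) (Steps.fwd (nat_lit 2097152) (Steps.fwd (nat_lit 1048576) (Steps.fwd (nat_lit 2359296) (Steps.fwd (nat_lit 1048576) (Steps.fwd (nat_lit 2097152) (Steps.fwd (nat_lit 1048576) (Steps.bwd (nat_lit 8) (Steps.bwd (nat_lit 4) Steps.nil))))))))))))))) (nat_lit 106) (nat_lit 3),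
  Rule.mk (nat_lit 4) (nat_lit 314) (Steps.bwd (nat_lit 8) (Steps.bwd (nat_lit 4) (Steps.bwd (nat_lit 9) (Steps.bwd (nat_lit 4) (Steps.fwd (nat_lit 2359296) (Steps.fwd (nat_lit 1048576) (Steps.fwd (nat_lit 2097152) (Steps.fwd (nat_lit 1048576) (Steps.bwd (nat_lit 8) (Steps.fwd (nat_lit 1048576) (Steps.bwd (nat_lit 9) (Steps.fwd (nat_lit 1048576) (Steps.fwd (nat_lit 2359296) (Steps.fwd (nat_lit 1048576) (Steps.bwd (nat_lit 9) Steps.nil))))))))))))))) (nat_lit 106) (nat_lit 0),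
  Rule.mk (nat_lit 8) (nat_lit 314) (Steps.bwd (nat_lit 4) (Steps.bwd (nat_lit 9) (Steps.fwd (nat_lit 1048576) (Steps.fwd (nat_lit 2359296) (Steps.bwd (nat_lit 4) (Steps.bwd (nat_lit 9) (Steps.fwd (nat_lit 1048576) (Steps.fwd (nat_lit 2359296) (Steps.fwd (nat_lit 1048576) (Steps.fwd (nat_lit 2097152) (Steps.bwd (nat_lit 4) (Steps.fwd (nat_lit 2359296) (Steps.fwd (nat_lit 1048576) (Steps.bwd (nat_lit 9) (Steps.bwd (nat_lit 4) Steps.nil))))))))))))))) (nat_lit 106) (nat_lit 1),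
  Rule.mk (nat_lit 3) (nat_lit 154) (Steps.bwd (nat_lit 1) (Steps.bwd (nat_lit 2) (Steps.fwd (nat_lit 262144) (Steps.bwd (nat_lit 3) (Steps.fwd (nat_lit 262144) (Steps.bwd (nat_lit 2) (Steps.fwd (nat_lit 262144) Steps.nil))))))) (nat_lit 68) (nat_lit 0),
  Rule.mk (nat_lit 4) (nat_lit 314) (Steps.bwd (nat_lit 9) (Steps.bwd (nat_lit 4) (Steps.bwd (nat_lit 8) (Steps.bwd (nat_lit 4) (Steps.bwd (nat_lit 9) (Steps.bwd (nat_lit 4) (Steps.fwd (nat_lit 2359296) (Steps.fwd (nat_lit 1048576) (Steps.fwd (nat_lit 2097152) (Steps.bwd (nat_lit 4) (Steps.fwd (nat_lit 2359296) (Steps.fwd (nat_lit 1048576) (Steps.bwd (nat_lit 9) (Steps.fwd (nat_lit 1048576) (Steps.bwd (nat_lit 8) Steps.nil))))))))))))))) (nat_lit 106) (nat_lit 2),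
  Rule.mk (nat_lit 3) (nat_lit 154) (Steps.bwd (nat_lit 1) (Steps.fwd (nat_lit 786432) (Steps.fwd (nat_lit 262144) (Steps.bwd (nat_lit 3) (Steps.fwd (nat_lit 262144) (Steps.bwd (nat_lit 2) (Steps.bwd (nat_lit 1) Steps.nil))))))) (nat_lit 68) (nat_lit 0),
  Rule.mk (nat_lit 6) (nat_lit 154) (Steps.bwd (nat_lit 1) (Steps.fwd (nat_lit 1048576) (Steps.bwd (nat_lit 1) (Steps.bwd (nat_lit 6) (Steps.bwd (nat_lit 1) (Steps.fwd (nat_lit 1048576) (Steps.bwd (nat_lit 1) Steps.nil))))))) (nat_lit 74) (nat_lit 0),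
  Rule.mk (nat_lit 4) (nat_lit 314) (Steps.bwd (nat_lit 8) (Steps.fwd (nat_lit 1048576) (Steps.bwd (nat_lit 9) (Steps.fwd (nat_lit 1048576) (Steps.bwd (nat_lit 8) (Steps.fwd (nat_lit 1048576) (Steps.fwd (nat_lit 2097152) (Steps.bwd (nat_lit 4) (Steps.fwd (nat_lit 2359296) (Steps.bwd (nat_lit 4) (Steps.bwd (nat_lit 9) (Steps.fwd (nat_lit 1048576) (Steps.fwd (nat_lit 2359296) (Steps.fwd (nat_lit 1048576) (Steps.bwd (nat_lit 9) Steps.nil))))))))))))))) (nat_lit 106) (nat_lit 0),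
  Rule.mk (nat_lit 9) (nat_lit 314) (Steps.bwd (nat_lit 4) (Steps.bwd (nat_lit 8) (Steps.bwd (nat_lit 4) (Steps.bwd (nat_lit 9) (Steps.bwd (nat_lit 4) (Steps.fwd (nat_lit 2359296) (Steps.bwd (nat_lit 4) (Steps.bwd (nat_lit 9) (Steps.bwd (nat_lit 4) (Steps.bwd (nat_lit 8) (Steps.fwd (nat_lit 1048576) (Steps.bwd (nat_lit 9) (Steps.fwd (nat_lit 1048576) (Steps.bwd (nat_lit 8) (Steps.fwd (nat_lit 1048576) Steps.nil))))))))))))))) (nat_lit 106) (nat_lit 3),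
  Rule.mk (nat_lit 9) (nat_lit 314) (Steps.bwd (nat_lit 4) (Steps.bwd (nat_lit 8) (Steps.bwd (nat_lit 4) (Steps.bwd (nat_lit 9) (Steps.bwd (nat_lit 4) (Steps.bwd (nat_lit 8) (Steps.fwd (nat_lit 1048576) (Steps.bwd (nat_lit 9) (Steps.bwd (nat_lit 4) (Steps.fwd (nat_lit 2359296) (Steps.bwd (nat_lit 4) (Steps.fwd (nat_lit 2097152) (Steps.fwd (nat_lit 1048576) (Steps.fwd (nat_lit 2359296) (Steps.fwd (nat_lit 1048576) Steps.nil))))))))))))))) (nat_lit 106) (nat_lit 3),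
  Rule.mk (nat_lit 1) (nat_lit 154) (Steps.bwd (nat_lit 4) (Steps.bwd (nat_lit 1) (Steps.fwd (nat_lit 1572864) (Steps.bwd (nat_lit 1) (Steps.fwd (nat_lit 1048576) (Steps.bwd (nat_lit 1) (Steps.bwd (nat_lit 6) Steps.nil))))))) (nat_lit 74) (nat_lit 1),
  Rule.mk (nat_lit 9) (nat_lit 314) (Steps.bwd (nat_lit 4) (Steps.bwd (nat_lit 8) (Steps.bwd (nat_lit 4) (Steps.bwd (nat_lit 9) (Steps.fwd (nat_lit 1048576) (Steps.fwd (nat_lit 2359296) (Steps.fwd (nat_lit 1048576) (Steps.bwd (nat_lit 9) (Steps.bwd (nat_lit 4) (Steps.bwd (nat_lit 8) (Steps.fwd (nat_lit 1048576) (Steps.bwd (nat_lit 9) (Steps.fwd (nat_lit 1048576) (Steps.fwd (nat_lit 2359296) (Steps.fwd (nat_lit 1048576) Steps.nil))))))))))))))) (nat_lit 106) (nat_lit 3),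
  Rule.mk (nat_lit 8) (nat_lit 314) (Steps.bwd (nat_lit 4) (Steps.fwd (nat_lit 2097152) (Steps.bwd (nat_lit 4) (Steps.bwd (nat_lit 8) (Steps.bwd (nat_lit 4) (Steps.bwd (nat_lit 9) (Steps.bwd (nat_lit 4) (Steps.fwd (nat_lit 2359296) (Steps.bwd (nat_lit 4) (Steps.bwd (nat_lit 9) (Steps.bwd (nat_lit 4) (Steps.fwd (nat_lit 2359296) (Steps.fwd (nat_lit 1048576) (Steps.fwd (nat_lit 2097152) (Steps.fwd (nat_lit 1048576) Steps.nil))))))))))))))) (nat_lit 106) (nat_lit 1),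
  Rule.mk (nat_lit 9) (nat_lit 314) (Steps.bwd (nat_lit 4) (Steps.fwd (nat_lit 2359296) (Steps.fwd (nat_lit 1048576) (Steps.fwd (nat_lit 2097152) (Steps.bwd (nat_lit 4) (Steps.bwd (nat_lit 8) (Steps.bwd (nat_lit 4) (Steps.bwd (nat_lit 9) (Steps.bwd (nat_lit 4) (Steps.bwd (nat_lit 8) (Steps.fwd (nat_lit 1048576) (Steps.bwd (nat_lit 9) (Steps.fwd (nat_lit 1048576) (Steps.fwd (nat_lit 2359296) (Steps.bwd (nat_lit 4) Steps.nil))))))))))))))) (nat_lit 106) (nat_lit 3),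
  Rule.mk (nat_lit 8) (nat_lit 314) (Steps.bwd (nat_lit 4) (Steps.bwd (nat_lit 9) (Steps.fwd (nat_lit 1048576) (Steps.bwd (nat_lit 8) (Steps.fwd (nat_lit 1048576) (Steps.bwd (nat_lit 9) (Steps.bwd (nat_lit 4) (Steps.fwd (nat_lit 2359296) (Steps.fwd (nat_lit 1048576) (Steps.bwd (nat_lit 9) (Steps.fwd (nat_lit 1048576) (Steps.bwd (nat_lit 8) (Steps.bwd (nat_lit 4) (Steps.fwd (nat_lit 2097152) (Steps.bwd (nat_lit 4) Steps.nil))))))))))))))) (nat_lit 106) (nat_lit 1),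
  Rule.mk (nat_lit 4) (nat_lit 314) (Steps.bwd (nat_lit 9) (Steps.fwd (nat_lit 1048576) (Steps.bwd (nat_lit 8) (Steps.bwd (nat_lit 4) (Steps.bwd (nat_lit 9) (Steps.bwd (nat_lit 4) (Steps.fwd (nat_lit 2359296) (Steps.fwd (nat_lit 1048576) (Steps.fwd (nat_lit 2097152) (Steps.fwd (nat_lit 1048576) (Steps.fwd (nat_lit 2359296) (Steps.fwd (nat_lit 1048576) (Steps.fwd (nat_lit 2097152) (Steps.fwd (nat_lit 1048576) (Steps.fwd (nat_lit 2359296) Steps.nil))))))))))))))) (nat_lit 106) (nat_lit 2),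
  Rule.mk (nat_lit 8) (nat_lit 314) (Steps.bwd (nat_lit 4) (Steps.bwd (nat_lit 9) (Steps.bwd (nat_lit 4) (Steps.bwd (nat_lit 8) (Steps.fwd (nat_lit 1048576) (Steps.bwd (nat_lit 9) (Steps.bwd (nat_lit 4) (Steps.bwd (nat_lit 8) (Steps.bwd (nat_lit 4) (Steps.fwd (nat_lit 2097152) (Steps.bwd (nat_lit 4) (Steps.fwd (nat_lit 2359296) (Steps.fwd (nat_lit 1048576) (Steps.fwd (nat_lit 2097152) (Steps.fwd (nat_lit 1048576) Steps.nil))))))))))))))) (nat_lit 106) (nat_lit 1),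
  Rule.mk (nat_lit 9) (nat_lit 314) (Steps.bwd (nat_lit 4) (Steps.bwd (nat_lit 8) (Steps.bwd (nat_lit 4) (Steps.bwd (nat_lit 9) (Steps.fwd (nat_lit 1048576) (Steps.bwd (nat_lit 8) (Steps.fwd (nat_lit 1048576) (Steps.fwd (nat_lit 2097152) (Steps.bwd (nat_lit 4) (Steps.bwd (nat_lit 8) (Steps.fwd (nat_lit 1048576) (Steps.fwd (nat_lit 2097152) (Steps.fwd (nat_lit 1048576) (Steps.fwd (nat_lit 2359296) (Steps.fwd (nat_lit 1048576) Steps.nil))))))))))))))) (nat_lit 106) (nat_lit 3),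
  Rule.mk (nat_lit 8) (nat_lit 314) (Steps.bwd (nat_lit 4) (Steps.bwd (nat_lit 9) (Steps.bwd (nat_lit 4) (Steps.fwd (nat_lit 2359296) (Steps.fwd (nat_lit 1048576) (Steps.fwd (nat_lit 2097152) (Steps.fwd (nat_lit 1048576) (Steps.bwd (nat_lit 8) (Steps.bwd (nat_lit 4) (Steps.fwd (nat_lit 2097152) (Steps.bwd (nat_lit 4) (Steps.fwd (nat_lit 2359296) (Steps.fwd (nat_lit 1048576) (Steps.fwd (nat_lit 2097152) (Steps.fwd (nat_lit 1048576) Steps.nil))))))))))))))) (nat_lit 106) (nat_lit 1),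
  Rule.mk (nat_lit 9) (nat_lit 314) (Steps.bwd (nat_lit 4) (Steps.fwd (nat_lit 2359296) (Steps.fwd (nat_lit 1048576) (Steps.bwd (nat_lit 9) (Steps.bwd (nat_lit 4) (Steps.bwd (nat_lit 8) (Steps.bwd (nat_lit 4) (Steps.fwd (nat_lit 2097152) (Steps.fwd (nat_lit 1048576) (Steps.bwd (nat_lit 8) (Steps.bwd (nat_lit 4) (Steps.fwd (nat_lit 2097152) (Steps.fwd (nat_lit 1048576) (Steps.bwd (nat_lit 8) (Steps.bwd (nat_lit 4) Steps.nil))))))))))))))) (nat_lit 106) (nat_lit 3),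
  Rule.mk (nat_lit 9) (nat_lit 314) (Steps.bwd (nat_lit 4) (Steps.bwd (nat_lit 8) (Steps.fwd (nat_lit 1048576) (Steps.bwd (nat_lit 9) (Steps.bwd (nat_lit 4) (Steps.fwd (nat_lit 2359296) (Steps.fwd (nat_lit 1048576) (Steps.bwd (nat_lit 9) (Steps.fwd (nat_lit 1048576) (Steps.fwd (nat_lit 2359296) (Steps.fwd (nat_lit 1048576) (Steps.bwd (nat_lit 9) (Steps.bwd (nat_lit 4) (Steps.fwd (nat_lit 2359296) (Steps.fwd (nat_lit 1048576) Steps.nil))))))))))))))) (nat_lit 106) (nat_lit 3),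
  Rule.mk (nat_lit 9) (nat_lit 314) (Steps.fwd (nat_lit 1048576) (Steps.bwd (nat_lit 8) (Steps.bwd (nat_lit 4) (Steps.fwd (nat_lit 2097152) (Steps.bwd (nat_lit 4) (Steps.bwd (nat_lit 8) (Steps.bwd (nat_lit 4) (Steps.bwd (nat_lit 9) (Steps.fwd (nat_lit 1048576) (Steps.fwd (nat_lit 2359296) (Steps.bwd (nat_lit 4) (Steps.bwd (nat_lit 9) (Steps.fwd (nat_lit 1048576) (Steps.fwd (nat_lit 2359296) (Steps.bwd (nat_lit 4) Steps.nil))))))))))))))) (nat_lit 106) (nat_lit 3),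
  Rule.mk (nat_lit 4) (nat_lit 314) (Steps.bwd (nat_lit 9) (Steps.fwd (nat_lit 1048576) (Steps.fwd (nat_lit 2359296) (Steps.bwd (nat_lit 4) (Steps.bwd (nat_lit 9) (Steps.fwd (nat_lit 1048576) (Steps.fwd (nat_lit 2359296) (Steps.bwd (nat_lit 4) (Steps.bwd (nat_lit 9) (Steps.bwd (nat_lit 4) (Steps.fwd (nat_lit 2359296) (Steps.fwd (nat_lit 1048576) (Steps.bwd (nat_lit 9) (Steps.bwd (nat_lit 4) (Steps.bwd (nat_lit 8) Steps.nil))))))))))))))) (nat_lit 106) (nat_lit 2),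
  Rule.mk (nat_lit 9) (nat_lit 314) (Steps.bwd (nat_lit 4) (Steps.fwd (nat_lit 2359296) (Steps.bwd (nat_lit 4) (Steps.fwd (nat_lit 2097152) (Steps.fwd (nat_lit 1048576) (Steps.bwd (nat_lit 8) (Steps.fwd (nat_lit 1048576) (Steps.fwd (nat_lit 2097152) (Steps.bwd (nat_lit 4) (Steps.fwd (nat_lit 2359296) (Steps.fwd (nat_lit 1048576) (Steps.fwd (nat_lit 2097152) (Steps.bwd (nat_lit 4) (Steps.fwd (nat_lit 2359296) (Steps.bwd (nat_lit 4) Steps.nil))))))))))))))) (nat_lit 106) (nat_lit 3),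
  Rule.mk (nat_lit 8) (nat_lit 314) (Steps.bwd (nat_lit 4) (Steps.bwd (nat_lit 9) (Steps.bwd (nat_lit 4) (Steps.fwd (nat_lit 2359296) (Steps.bwd (nat_lit 4) (Steps.bwd (nat_lit 9) (Steps.bwd (nat_lit 4) (Steps.fwd (nat_lit 2359296) (Steps.fwd (nat_lit 1048576) (Steps.bwd (nat_lit 9) (Steps.fwd (nat_lit 1048576) (Steps.fwd (nat_lit 2359296) (Steps.bwd (nat_lit 4) (Steps.bwd (nat_lit 9) (Steps.bwd (nat_lit 4) Steps.nil))))))))))))))) (nat_lit 106) (nat_lit 1),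
  Rule.mk (nat_lit 8) (nat_lit 314) (Steps.bwd (nat_lit 4) (Steps.bwd (nat_lit 9) (Steps.bwd (nat_lit 4) (Steps.fwd (nat_lit 2359296) (Steps.bwd (nat_lit 4) (Steps.bwd (nat_lit 9) (Steps.bwd (nat_lit 4) (Steps.bwd (nat_lit 8) (Steps.bwd (nat_lit 4) (Steps.fwd (nat_lit 2097152) (Steps.fwd (nat_lit 1048576) (Steps.fwd (nat_lit 2359296) (Steps.fwd (nat_lit 1048576) (Steps.bwd (nat_lit 9) (Steps.bwd (nat_lit 4) Steps.nil))))))))))))))) (nat_lit 106) (nat_lit 1),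
  Rule.mk (nat_lit 4) (nat_lit 314) (Steps.bwd (nat_lit 8) (Steps.fwd (nat_lit 1048576) (Steps.fwd (nat_lit 2097152) (Steps.fwd (nat_lit 1048576) (Steps.bwd (nat_lit 8) (Steps.bwd (nat_lit 4) (Steps.bwd (nat_lit 9) (Steps.bwd (nat_lit 4) (Steps.bwd (nat_lit 8) (Steps.bwd (nat_lit 4) (Steps.fwd (nat_lit 2097152) (Steps.fwd (nat_lit 1048576) (Steps.fwd (nat_lit 2359296) (Steps.bwd (nat_lit 4) (Steps.fwd (nat_lit 2097152) Steps.nil))))))))))))))) (nat_lit 106) (nat_lit 0),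
  Rule.mk (nat_lit 4) (nat_lit 314) (Steps.bwd (nat_lit 8) (Steps.fwd (nat_lit 1048576) (Steps.fwd (nat_lit 2097152) (Steps.bwd (nat_lit 4) (Steps.fwd (nat_lit 2359296) (Steps.fwd (nat_lit 1048576) (Steps.bwd (nat_lit 9) (Steps.bwd (nat_lit 4) (Steps.fwd (nat_lit 2359296) (Steps.fwd (nat_lit 1048576) (Steps.fwd (nat_lit 2097152) (Steps.fwd (nat_lit 1048576) (Steps.bwd (nat_lit 8) (Steps.bwd (nat_lit 4) (Steps.fwd (nat_lit 2097152) Steps.nil))))))))))))))) (nat_lit 106) (nat_lit 0),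
  Rule.mk (nat_lit 4) (nat_lit 314) (Steps.bwd (nat_lit 8) (Steps.fwd (nat_lit 1048576) (Steps.fwd (nat_lit 2097152) (Steps.bwd (nat_lit 4) (Steps.bwd (nat_lit 8) (Steps.fwd (nat_lit 1048576) (Steps.bwd (nat_lit 9) (Steps.fwd (nat_lit 1048576) (Steps.fwd (nat_lit 2359296) (Steps.fwd (nat_lit 1048576) (Steps.bwd (nat_lit 9) (Steps.bwd (nat_lit 4) (Steps.bwd (nat_lit 8) (Steps.bwd (nat_lit 4) (Steps.fwd (nat_lit 2097152) Steps.nil))))))))))))))) (nat_lit 106) (nat_lit 0),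
  Rule.mk (nat_lit 9) (nat_lit 314) (Steps.bwd (nat_lit 4) (Steps.fwd (nat_lit 2359296) (Steps.bwd (nat_lit 4) (Steps.fwd (nat_lit 2097152) (Steps.bwd (nat_lit 4) (Steps.bwd (nat_lit 8) (Steps.bwd (nat_lit 4) (Steps.fwd (nat_lit 2097152) (Steps.bwd (nat_lit 4) (Steps.fwd (nat_lit 2359296) (Steps.fwd (nat_lit 1048576) (Steps.bwd (nat_lit 9) (Steps.fwd (nat_lit 1048576) (Steps.fwd (nat_lit 2359296) (Steps.fwd (nat_lit 1048576) Steps.nil))))))))))))))) (nat_lit 106) (nat_lit 3),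
  Rule.mk (nat_lit 8) (nat_lit 314) (Steps.bwd (nat_lit 4) (Steps.bwd (nat_lit 9) (Steps.bwd (nat_lit 4) (Steps.fwd (nat_lit 2359296) (Steps.bwd (nat_lit 4) (Steps.bwd (nat_lit 9) (Steps.fwd (nat_lit 1048576) (Steps.bwd (nat_lit 8) (Steps.fwd (nat_lit 1048576) (Steps.fwd (nat_lit 2097152) (Steps.bwd (nat_lit 4) (Steps.bwd (nat_lit 8) (Steps.bwd (nat_lit 4) (Steps.bwd (nat_lit 9) (Steps.fwd (nat_lit 1048576) Steps.nil))))))))))))))) (nat_lit 106) (nat_lit 1),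
  Rule.mk (nat_lit 4) (nat_lit 314) (Steps.bwd (nat_lit 9) (Steps.fwd (nat_lit 1048576) (Steps.bwd (nat_lit 8) (Steps.bwd (nat_lit 4) (Steps.fwd (nat_lit 2097152) (Steps.fwd (nat_lit 1048576) (Steps.fwd (nat_lit 2359296) (Steps.bwd (nat_lit 4) (Steps.fwd (nat_lit 2097152) (Steps.bwd (nat_lit 4) (Steps.fwd (nat_lit 2359296) (Steps.bwd (nat_lit 4) (Steps.fwd (nat_lit 2097152) (Steps.bwd (nat_lit 4) (Steps.bwd (nat_lit 8) Steps.nil))))))))))))))) (nat_lit 106) (nat_lit 2),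
  Rule.mk (nat_lit 9) (nat_lit 314) (Steps.bwd (nat_lit 4) (Steps.fwd (nat_lit 2359296) (Steps.bwd (nat_lit 4) (Steps.fwd (nat_lit 2097152) (Steps.bwd (nat_lit 4) (Steps.fwd (nat_lit 2359296) (Steps.bwd (nat_lit 4) (Steps.bwd (nat_lit 9) (Steps.fwd (nat_lit 1048576) (Steps.bwd (nat_lit 8) (Steps.bwd (nat_lit 4) (Steps.bwd (nat_lit 9) (Steps.fwd (nat_lit 1048576) (Steps.fwd (nat_lit 2359296) (Steps.bwd (nat_lit 4) Steps.nil))))))))))))))) (nat_lit 106) (nat_lit 3),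
  Rule.mk (nat_lit 9) (nat_lit 314) (Steps.bwd (nat_lit 4) (Steps.fwd (nat_lit 2359296) (Steps.bwd (nat_lit 4) (Steps.bwd (nat_lit 9) (Steps.fwd (nat_lit 1048576) (Steps.bwd (nat_lit 8) (Steps.bwd (nat_lit 4) (Steps.bwd (nat_lit 9) (Steps.fwd (nat_lit 1048576) (Steps.fwd (nat_lit 2359296) (Steps.bwd (nat_lit 4) (Steps.bwd (nat_lit 9) (Steps.fwd (nat_lit 1048576) (Steps.fwd (nat_lit 2359296) (Steps.bwd (nat_lit 4) Steps.nil))))))))))))))) (nat_lit 106) (nat_lit 3),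
  Rule.mk (nat_lit 8) (nat_lit 314) (Steps.bwd (nat_lit 4) (Steps.bwd (nat_lit 9) (Steps.bwd (nat_lit 4) (Steps.fwd (nat_lit 2359296) (Steps.bwd (nat_lit 4) (Steps.bwd (nat_lit 9) (Steps.fwd (nat_lit 1048576) (Steps.fwd (nat_lit 2359296) (Steps.fwd (nat_lit 1048576) (Steps.fwd (nat_lit 2097152) (Steps.fwd (nat_lit 1048576) (Steps.fwd (nat_lit 2359296) (Steps.bwd (nat_lit 4) (Steps.bwd (nat_lit 9) (Steps.fwd (nat_lit 1048576) Steps.nil))))))))))))))) (nat_lit 106) (nat_lit 1)]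
noncomputable def R_125 : List (Rule) := [Rule.mk (nat_lit 9) (nat_lit 314) (Steps.bwd (nat_lit 4) (Steps.bwd (nat_lit 8) (Steps.fwd (nat_lit 1048576) (Steps.bwd (nat_lit 9) (Steps.fwd (nat_lit 1048576) (Steps.fwd (nat_lit 2359296) (Steps.fwd (nat_lit 1048576) (Steps.bwd (nat_lit 9) (Steps.bwd (nat_lit 4) (Steps.fwd (nat_lit 2359296) (Steps.fwd (nat_lit 1048576) (Steps.fwd (nat_lit 2097152) (Steps.bwd (nat_lit 4) (Steps.fwd (nat_lit 2359296) (Steps.fwd (nat_lit 1048576) Steps.nil))))))))))))))) (nat_lit 106) (nat_lit 3),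
  Rule.mk (nat_lit 4) (nat_lit 314) (Steps.bwd (nat_lit 9) (Steps.fwd (nat_lit 1048576) (Steps.bwd (nat_lit 8) (Steps.fwd (nat_lit 1048576) (Steps.bwd (nat_lit 9) (Steps.bwd (nat_lit 4) (Steps.fwd (nat_lit 2359296) (Steps.bwd (nat_lit 4) (Steps.fwd (nat_lit 2097152) (Steps.fwd (nat_lit 1048576) (Steps.fwd (nat_lit 2359296) (Steps.fwd (nat_lit 1048576) (Steps.fwd (nat_lit 2097152) (Steps.fwd (nat_lit 1048576) (Steps.fwd (nat_lit 2359296) Steps.nil))))))))))))))) (nat_lit 106) (nat_lit 2),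
  Rule.mk (nat_lit 8) (nat_lit 314) (Steps.bwd (nat_lit 4) (Steps.bwd (nat_lit 9) (Steps.bwd (nat_lit 4) (Steps.fwd (nat_lit 2359296) (Steps.bwd (nat_lit 4) (Steps.bwd (nat_lit 9) (Steps.bwd (nat_lit 4) (Steps.bwd (nat_lit 8) (Steps.bwd (nat_lit 4) (Steps.fwd (nat_lit 2097152) (Steps.fwd (nat_lit 1048576) (Steps.bwd (nat_lit 8) (Steps.bwd (nat_lit 4) (Steps.bwd (nat_lit 9) (Steps.fwd (nat_lit 1048576) Steps.nil))))))))))))))) (nat_lit 106) (nat_lit 1),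
  Rule.mk (nat_lit 8) (nat_lit 314) (Steps.bwd (nat_lit 4) (Steps.bwd (nat_lit 9) (Steps.bwd (nat_lit 4) (Steps.fwd (nat_lit 2359296) (Steps.bwd (nat_lit 4) (Steps.fwd (nat_lit 2097152) (Steps.fwd (nat_lit 1048576) (Steps.bwd (nat_lit 8) (Steps.bwd (nat_lit 4) (Steps.bwd (nat_lit 9) (Steps.bwd (nat_lit 4) (Steps.fwd (nat_lit 2359296) (Steps.fwd (nat_lit 1048576) (Steps.bwd (nat_lit 9) (Steps.fwd (nat_lit 1048576) Steps.nil))))))))))))))) (nat_lit 106) (nat_lit 1),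
  Rule.mk (nat_lit 9) (nat_lit 314) (Steps.bwd (nat_lit 4) (Steps.fwd (nat_lit 2359296) (Steps.fwd (nat_lit 1048576) (Steps.bwd (nat_lit 9) (Steps.bwd (nat_lit 4) (Steps.fwd (nat_lit 2359296) (Steps.fwd (nat_lit 1048576) (Steps.fwd (nat_lit 2097152) (Steps.bwd (nat_lit 4) (Steps.bwd (nat_lit 8) (Steps.bwd (nat_lit 4) (Steps.bwd (nat_lit 9) (Steps.bwd (nat_lit 4) (Steps.fwd (nat_lit 2359296) (Steps.fwd (nat_lit 1048576) Steps.nil))))))))))))))) (nat_lit 106) (nat_lit 3),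
  Rule.mk (nat_lit 8) (nat_lit 314) (Steps.bwd (nat_lit 4) (Steps.bwd (nat_lit 9) (Steps.bwd (nat_lit 4) (Steps.fwd (nat_lit 2359296) (Steps.fwd (nat_lit 1048576) (Steps.fwd (nat_lit 2097152) (Steps.fwd (nat_lit 1048576) (Steps.fwd (nat_lit 2359296) (Steps.fwd (nat_lit 1048576) (Steps.bwd (nat_lit 9) (Steps.fwd (nat_lit 1048576) (Steps.fwd (nat_lit 2359296) (Steps.bwd (nat_lit 4) (Steps.bwd (nat_lit 9) (Steps.fwd (nat_lit 1048576) Steps.nil))))))))))))))) (nat_lit 106) (nat_lit 1),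
  Rule.mk (nat_lit 9) (nat_lit 314) (Steps.bwd (nat_lit 4) (Steps.fwd (nat_lit 2359296) (Steps.bwd (nat_lit 4) (Steps.fwd (nat_lit 2097152) (Steps.bwd (nat_lit 4) (Steps.fwd (nat_lit 2359296) (Steps.bwd (nat_lit 4) (Steps.bwd (nat_lit 9) (Steps.fwd (nat_lit 1048576) (Steps.fwd (nat_lit 2359296) (Steps.bwd (nat_lit 4) (Steps.fwd (nat_lit 2097152) (Steps.fwd (nat_lit 1048576) (Steps.fwd (nat_lit 2359296) (Steps.fwd (nat_lit 1048576) Steps.nil))))))))))))))) (nat_lit 106) (nat_lit 3),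
  Rule.mk (nat_lit 9) (nat_lit 314) (Steps.bwd (nat_lit 4) (Steps.fwd (nat_lit 2359296) (Steps.fwd (nat_lit 1048576) (Steps.bwd (nat_lit 9) (Steps.bwd (nat_lit 4) (Steps.fwd (nat_lit 2359296) (Steps.bwd (nat_lit 4) (Steps.bwd (nat_lit 9) (Steps.bwd (nat_lit 4) (Steps.bwd (nat_lit 8) (Steps.fwd (nat_lit 1048576) (Steps.bwd (nat_lit 9) (Steps.bwd (nat_lit 4) (Steps.bwd (nat_lit 8) (Steps.bwd (nat_lit 4) Steps.nil))))))))))))))) (nat_lit 106) (nat_lit 3),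
  Rule.mk (nat_lit 8) (nat_lit 314) (Steps.bwd (nat_lit 4) (Steps.bwd (nat_lit 9) (Steps.bwd (nat_lit 4) (Steps.bwd (nat_lit 8) (Steps.bwd (nat_lit 4) (Steps.bwd (nat_lit 9) (Steps.fwd (nat_lit 1048576) (Steps.bwd (nat_lit 8) (Steps.bwd (nat_lit 4) (Steps.bwd (nat_lit 9) (Steps.bwd (nat_lit 4) (Steps.fwd (nat_lit 2359296) (Steps.fwd (nat_lit 1048576) (Steps.fwd (nat_lit 2097152) (Steps.bwd (nat_lit 4) Steps.nil))))))))))))))) (nat_lit 106) (nat_lit 1),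
  Rule.mk (nat_lit 8) (nat_lit 314) (Steps.bwd (nat_lit 4) (Steps.bwd (nat_lit 9) (Steps.fwd (nat_lit 1048576) (Steps.fwd (nat_lit 2359296) (Steps.bwd (nat_lit 4) (Steps.bwd (nat_lit 9) (Steps.bwd (nat_lit 4) (Steps.fwd (nat_lit 2359296) (Steps.fwd (nat_lit 1048576) (Steps.bwd (nat_lit 9) (Steps.fwd (nat_lit 1048576) (Steps.fwd (nat_lit 2359296) (Steps.bwd (nat_lit 4) (Steps.bwd (nat_lit 9) (Steps.fwd (nat_lit 1048576) Steps.nil))))))))))))))) (nat_lit 106) (nat_lit 1),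
  Rule.mk (nat_lit 4) (nat_lit 314) (Steps.bwd (nat_lit 9) (Steps.fwd (nat_lit 1048576) (Steps.fwd (nat_lit 2359296) (Steps.bwd (nat_lit 4) (Steps.fwd (nat_lit 2097152) (Steps.bwd (nat_lit 4) (Steps.bwd (nat_lit 8) (Steps.fwd (nat_lit 1048576) (Steps.fwd (nat_lit 2097152) (Steps.fwd (nat_lit 1048576) (Steps.fwd (nat_lit 2359296) (Steps.bwd (nat_lit 4) (Steps.bwd (nat_lit 9) (Steps.bwd (nat_lit 4) (Steps.fwd (nat_lit 2359296) Steps.nil))))))))))))))) (nat_lit 106) (nat_lit 2),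
  Rule.mk (nat_lit 9) (nat_lit 314) (Steps.bwd (nat_lit 4) (Steps.fwd (nat_lit 2359296) (Steps.bwd (nat_lit 4) (Steps.fwd (nat_lit 2097152) (Steps.fwd (nat_lit 1048576) (Steps.fwd (nat_lit 2359296) (Steps.bwd (nat_lit 4) (Steps.bwd (nat_lit 9) (Steps.bwd (nat_lit 4) (Steps.bwd (nat_lit 8) (Steps.bwd (nat_lit 4) (Steps.fwd (nat_lit 2097152) (Steps.fwd (nat_lit 1048576) (Steps.fwd (nat_lit 2359296) (Steps.fwd (nat_lit 1048576) Steps.nil))))))))))))))) (nat_lit 106) (nat_lit 3),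
  Rule.mk (nat_lit 9) (nat_lit 314) (Steps.bwd (nat_lit 4) (Steps.bwd (nat_lit 8) (Steps.fwd (nat_lit 1048576) (Steps.bwd (nat_lit 9) (Steps.bwd (nat_lit 4) (Steps.fwd (nat_lit 2359296) (Steps.fwd (nat_lit 1048576) (Steps.bwd (nat_lit 9) (Steps.bwd (nat_lit 4) (Steps.fwd (nat_lit 2359296) (Steps.fwd (nat_lit 1048576) (Steps.bwd (nat_lit 9) (Steps.bwd (nat_lit 4) (Steps.fwd (nat_lit 2359296) (Steps.bwd (nat_lit 4) Steps.nil))))))))))))))) (nat_lit 106) (nat_lit 3),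
  Rule.mk (nat_lit 1) (nat_lit 274) (Steps.fwd (nat_lit 524288) (Steps.bwd (nat_lit 1) (Steps.bwd (nat_lit 6) (Steps.fwd (nat_lit 262144) (Steps.fwd (nat_lit 524288) (Steps.fwd (nat_lit 1310720) (Steps.fwd (nat_lit 1572864) (Steps.fwd (nat_lit 262144) (Steps.fwd (nat_lit 1572864) (Steps.bwd (nat_lit 1) (Steps.fwd (nat_lit 524288) (Steps.fwd (nat_lit 262144) (Steps.bwd (nat_lit 6) Steps.nil))))))))))))) (nat_lit 35) (nat_lit 9),
  Rule.mk (nat_lit 9) (nat_lit 314) (Steps.bwd (nat_lit 4) (Steps.bwd (nat_lit 8) (Steps.bwd (nat_lit 4) (Steps.bwd (nat_lit 9) (Steps.fwd (nat_lit 1048576) (Steps.bwd (nat_lit 8) (Steps.bwd (nat_lit 4) (Steps.bwd (nat_lit 9) (Steps.fwd (nat_lit 1048576) (Steps.fwd (nat_lit 2359296) (Steps.bwd (nat_lit 4) (Steps.bwd (nat_lit 9) (Steps.fwd (nat_lit 1048576) (Steps.fwd (nat_lit 2359296) (Steps.fwd (nat_lit 1048576) Steps.nil)))))))))))))))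 (nat_lit 106) (nat_lit 3),
  Rule.mk (nat_lit 4) (nat_lit 314) (Steps.bwd (nat_lit 8) (Steps.bwd (nat_lit 4) (Steps.bwd (nat_lit 9) (Steps.fwd (nat_lit 1048576) (Steps.bwd (nat_lit 8) (Steps.fwd (nat_lit 1048576) (Steps.bwd (nat_lit 9) (Steps.fwd (nat_lit 1048576) (Steps.fwd (nat_lit 2359296) (Steps.fwd (nat_lit 1048576) (Steps.fwd (nat_lit 2097152) (Steps.fwd (nat_lit 1048576) (Steps.fwd (nat_lit 2359296) (Steps.fwd (nat_lit 1048576) (Steps.bwd (nat_lit 9) Steps.nil))))))))))))))) (nat_lit 106) (nat_lit 0),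
  Rule.mk (nat_lit 4) (nat_lit 314) (Steps.bwd (nat_lit 8) (Steps.bwd (nat_lit 4) (Steps.bwd (nat_lit 9) (Steps.bwd (nat_lit 4) (Steps.fwd (nat_lit 2359296) (Steps.fwd (nat_lit 1048576) (Steps.bwd (nat_lit 9) (Steps.fwd (nat_lit 1048576) (Steps.fwd (nat_lit 2359296) (Steps.bwd (nat_lit 4) (Steps.bwd (nat_lit 9) (Steps.fwd (nat_lit 1048576) (Steps.bwd (nat_lit 8) (Steps.bwd (nat_lit 4) (Steps.fwd (nat_lit 2097152) Steps.nil))))))))))))))) (nat_lit 106) (nat_lit 0),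
  Rule.mk (nat_lit 4) (nat_lit 314) (Steps.bwd (nat_lit 8) (Steps.bwd (nat_lit 4) (Steps.bwd (nat_lit 9) (Steps.fwd (nat_lit 1048576) (Steps.fwd (nat_lit 2359296) (Steps.bwd (nat_lit 4) (Steps.fwd (nat_lit 2097152) (Steps.bwd (nat_lit 4) (Steps.fwd (nat_lit 2359296) (Steps.fwd (nat_lit 1048576) (Steps.fwd (nat_lit 2097152) (Steps.bwd (nat_lit 4) (Steps.fwd (nat_lit 2359296) (Steps.fwd (nat_lit 1048576) (Steps.fwd (nat_lit 2097152) Steps.nil))))))))))))))) (nat_lit 106) (nat_lit 0),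
  Rule.mk (nat_lit 4) (nat_lit 314) (Steps.bwd (nat_lit 9) (Steps.bwd (nat_lit 4) (Steps.bwd (nat_lit 8) (Steps.fwd (nat_lit 1048576) (Steps.fwd (nat_lit 2097152) (Steps.fwd (nat_lit 1048576) (Steps.fwd (nat_lit 2359296) (Steps.fwd (nat_lit 1048576) (Steps.bwd (nat_lit 9) (Steps.bwd (nat_lit 4) (Steps.fwd (nat_lit 2359296) (Steps.fwd (nat_lit 1048576) (Steps.bwd (nat_lit 9) (Steps.fwd (nat_lit 1048576) (Steps.bwd (nat_lit 8) Steps.nil))))))))))))))) (nat_lit 106) (nat_lit 2),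
  Rule.mk (nat_lit 8) (nat_lit 314) (Steps.bwd (nat_lit 4) (Steps.bwd (nat_lit 9) (Steps.bwd (nat_lit 4) (Steps.fwd (nat_lit 2359296) (Steps.fwd (nat_lit 1048576) (Steps.fwd (nat_lit 2097152) (Steps.bwd (nat_lit 4) (Steps.fwd (nat_lit 2359296) (Steps.fwd (nat_lit 1048576) (Steps.bwd (nat_lit 9) (Steps.bwd (nat_lit 4) (Steps.bwd (nat_lit 8) (Steps.fwd (nat_lit 1048576) (Steps.bwd (nat_lit 9) (Steps.fwd (nat_lit 1048576) Steps.nil))))))))))))))) (nat_lit 106) (nat_lit 1),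
  Rule.mk (nat_lit 9) (nat_lit 314) (Steps.bwd (nat_lit 4) (Steps.bwd (nat_lit 8) (Steps.bwd (nat_lit 4) (Steps.bwd (nat_lit 9) (Steps.fwd (nat_lit 1048576) (Steps.fwd (nat_lit 2359296) (Steps.fwd (nat_lit 1048576) (Steps.fwd (nat_lit 2097152) (Steps.bwd (nat_lit 4) (Steps.fwd (nat_lit 2359296) (Steps.bwd (nat_lit 4) (Steps.fwd (nat_lit 2097152) (Steps.fwd (nat_lit 1048576) (Steps.fwd (nat_lit 2359296) (Steps.fwd (nat_lit 1048576) Steps.nil))))))))))))))) (nat_lit 106) (nat_lit 3),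
  Rule.mk (nat_lit 8) (nat_lit 314) (Steps.bwd (nat_lit 4) (Steps.bwd (nat_lit 9) (Steps.bwd (nat_lit 4) (Steps.fwd (nat_lit 2359296) (Steps.bwd (nat_lit 4) (Steps.bwd (nat_lit 9) (Steps.bwd (nat_lit 4) (Steps.bwd (nat_lit 8) (Steps.fwd (nat_lit 1048576) (Steps.bwd (nat_lit 9) (Steps.fwd (nat_lit 1048576) (Steps.bwd (nat_lit 8) (Steps.fwd (nat_lit 1048576) (Steps.bwd (nat_lit 9) (Steps.bwd (nat_lit 4) Steps.nil))))))))))))))) (nat_lit 106) (nat_lit 1),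
  Rule.mk (nat_lit 4) (nat_lit 314) (Steps.bwd (nat_lit 8) (Steps.bwd (nat_lit 4) (Steps.bwd (nat_lit 9) (Steps.bwd (nat_lit 4) (Steps.bwd (nat_lit 8) (Steps.bwd (nat_lit 4) (Steps.bwd (nat_lit 9) (Steps.fwd (nat_lit 1048576) (Steps.fwd (nat_lit 2359296) (Steps.bwd (nat_lit 4) (Steps.fwd (nat_lit 2097152) (Steps.bwd (nat_lit 4) (Steps.fwd (nat_lit 2359296) (Steps.fwd (nat_lit 1048576) (Steps.bwd (nat_lit 9) Steps.nil))))))))))))))) (nat_lit 106) (nat_lit 0),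
  Rule.mk (nat_lit 9) (nat_lit 314) (Steps.bwd (nat_lit 4) (Steps.fwd (nat_lit 2359296) (Steps.bwd (nat_lit 4) (Steps.bwd (nat_lit 9) (Steps.bwd (nat_lit 4) (Steps.bwd (nat_lit 8) (Steps.bwd (nat_lit 4) (Steps.fwd (nat_lit 2097152) (Steps.fwd (nat_lit 1048576) (Steps.bwd (nat_lit 8) (Steps.fwd (nat_lit 1048576) (Steps.fwd (nat_lit 2097152) (Steps.fwd (nat_lit 1048576) (Steps.bwd (nat_lit 8) (Steps.bwd (nat_lit 4) Steps.nil))))))))))))))) (nat_lit 106) (nat_lit 3),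
  Rule.mk (nat_lit 8) (nat_lit 314) (Steps.bwd (nat_lit 4) (Steps.bwd (nat_lit 9) (Steps.fwd (nat_lit 1048576) (Steps.bwd (nat_lit 8) (Steps.fwd (nat_lit 1048576) (Steps.bwd (nat_lit 9) (Steps.bwd (nat_lit 4) (Steps.bwd (nat_lit 8) (Steps.bwd (nat_lit 4) (Steps.fwd (nat_lit 2097152) (Steps.bwd (nat_lit 4) (Steps.bwd (nat_lit 8) (Steps.fwd (nat_lit 1048576) (Steps.bwd (nat_lit 9) (Steps.fwd (nat_lit 1048576) Steps.nil))))))))))))))) (nat_lit 106) (nat_lit 1),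
  Rule.mk (nat_lit 9) (nat_lit 314) (Steps.bwd (nat_lit 4) (Steps.bwd (nat_lit 8) (Steps.bwd (nat_lit 4) (Steps.fwd (nat_lit 2097152) (Steps.fwd (nat_lit 1048576) (Steps.fwd (nat_lit 2359296) (Steps.fwd (nat_lit 1048576) (Steps.bwd (nat_lit 9) (Steps.fwd (nat_lit 1048576) (Steps.bwd (nat_lit 8) (Steps.fwd (nat_lit 1048576) (Steps.bwd (nat_lit 9) (Steps.bwd (nat_lit 4) (Steps.fwd (nat_lit 2359296) (Steps.fwd (nat_lit 1048576) Steps.nil))))))))))))))) (nat_lit 106) (nat_lit 3),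
  Rule.mk (nat_lit 8) (nat_lit 314) (Steps.bwd (nat_lit 4) (Steps.bwd (nat_lit 9) (Steps.fwd (nat_lit 1048576) (Steps.bwd (nat_lit 8) (Steps.fwd (nat_lit 1048576) (Steps.fwd (nat_lit 2097152) (Steps.bwd (nat_lit 4) (Steps.bwd (nat_lit 8) (Steps.bwd (nat_lit 4) (Steps.bwd (nat_lit 9) (Steps.bwd (nat_lit 4) (Steps.bwd (nat_lit 8) (Steps.bwd (nat_lit 4) (Steps.fwd (nat_lit 2097152) (Steps.fwd (nat_lit 1048576) Steps.nil))))))))))))))) (nat_lit 106) (nat_lit 1),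
  Rule.mk (nat_lit 9) (nat_lit 314) (Steps.bwd (nat_lit 4) (Steps.bwd (nat_lit 8) (Steps.fwd (nat_lit 1048576) (Steps.fwd (nat_lit 2097152) (Steps.fwd (nat_lit 1048576) (Steps.bwd (nat_lit 8) (Steps.bwd (nat_lit 4) (Steps.bwd (nat_lit 9) (Steps.bwd (nat_lit 4) (Steps.fwd (nat_lit 2359296) (Steps.bwd (nat_lit 4) (Steps.bwd (nat_lit 9) (Steps.bwd (nat_lit 4) (Steps.fwd (nat_lit 2359296) (Steps.bwd (nat_lit 4) Steps.nil))))))))))))))) (nat_lit 106) (nat_lit 3),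
  Rule.mk (nat_lit 8) (nat_lit 314) (Steps.bwd (nat_lit 4) (Steps.bwd (nat_lit 9) (Steps.bwd (nat_lit 4) (Steps.fwd (nat_lit 2359296) (Steps.bwd (nat_lit 4) (Steps.fwd (nat_lit 2097152) (Steps.fwd (nat_lit 1048576) (Steps.bwd (nat_lit 8) (Steps.bwd (nat_lit 4) (Steps.bwd (nat_lit 9) (Steps.fwd (nat_lit 1048576) (Steps.bwd (nat_lit 8) (Steps.bwd (nat_lit 4) (Steps.fwd (nat_lit 2097152) (Steps.fwd (nat_lit 1048576) Steps.nil))))))))))))))) (nat_lit 106) (nat_lit 1),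
  Rule.mk (nat_lit 4) (nat_lit 314) (Steps.bwd (nat_lit 8) (Steps.bwd (nat_lit 4) (Steps.bwd (nat_lit 9) (Steps.bwd (nat_lit 4) (Steps.fwd (nat_lit 2359296) (Steps.bwd (nat_lit 4) (Steps.bwd (nat_lit 9) (Steps.fwd (nat_lit 1048576) (Steps.bwd (nat_lit 8) (Steps.bwd (nat_lit 4) (Steps.bwd (nat_lit 9) (Steps.fwd (nat_lit 1048576) (Steps.fwd (nat_lit 2359296) (Steps.fwd (nat_lit 1048576) (Steps.fwd (nat_lit 2097152) Steps.nil))))))))))))))) (nat_lit 106) (nat_lit 0),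
  Rule.mk (nat_lit 9) (nat_lit 314) (Steps.bwd (nat_lit 4) (Steps.fwd (nat_lit 2359296) (Steps.fwd (nat_lit 1048576) (Steps.bwd (nat_lit 9) (Steps.bwd (nat_lit 4) (Steps.bwd (nat_lit 8) (Steps.bwd (nat_lit 4) (Steps.fwd (nat_lit 2097152) (Steps.bwd (nat_lit 4) (Steps.bwd (nat_lit 8) (Steps.bwd (nat_lit 4) (Steps.fwd (nat_lit 2097152) (Steps.fwd (nat_lit 1048576) (Steps.fwd (nat_lit 2359296) (Steps.fwd (nat_lit 1048576) Steps.nil))))))))))))))) (nat_lit 106) (nat_lit 3),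
  Rule.mk (nat_lit 8) (nat_lit 314) (Steps.bwd (nat_lit 4) (Steps.bwd (nat_lit 9) (Steps.fwd (nat_lit 1048576) (Steps.fwd (nat_lit 2359296) (Steps.fwd (nat_lit 1048576) (Steps.bwd (nat_lit 9) (Steps.fwd (nat_lit 1048576) (Steps.bwd (nat_lit 8) (Steps.fwd (nat_lit 1048576) (Steps.bwd (nat_lit 9) (Steps.bwd (nat_lit 4) (Steps.fwd (nat_lit 2359296) (Steps.fwd (nat_lit 1048576) (Steps.fwd (nat_lit 2097152) (Steps.fwd (nat_lit 1048576) Steps.nil))))))))))))))) (nat_lit 106) (nat_lit 1),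
  Rule.mk (nat_lit 9) (nat_lit 314) (Steps.bwd (nat_lit 4) (Steps.bwd (nat_lit 8) (Steps.bwd (nat_lit 4) (Steps.fwd (nat_lit 2097152) (Steps.bwd (nat_lit 4) (Steps.fwd (nat_lit 2359296) (Steps.bwd (nat_lit 4) (Steps.bwd (nat_lit 9) (Steps.fwd (nat_lit 1048576) (Steps.fwd (nat_lit 2359296) (Steps.fwd (nat_lit 1048576) (Steps.fwd (nat_lit 2097152) (Steps.bwd (nat_lit 4) (Steps.fwd (nat_lit 2359296) (Steps.bwd (nat_lit 4) Steps.nil))))))))))))))) (nat_lit 106) (nat_lit 3),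
  Rule.mk (nat_lit 8) (nat_lit 314) (Steps.bwd (nat_lit 4) (Steps.bwd (nat_lit 9) (Steps.bwd (nat_lit 4) (Steps.fwd (nat_lit 2359296) (Steps.bwd (nat_lit 4) (Steps.bwd (nat_lit 9) (Steps.fwd (nat_lit 1048576) (Steps.bwd (nat_lit 8) (Steps.fwd (nat_lit 1048576) (Steps.bwd (nat_lit 9) (Steps.fwd (nat_lit 1048576) (Steps.fwd (nat_lit 2359296) (Steps.fwd (nat_lit 1048576) (Steps.bwd (nat_lit 9) (Steps.fwd (nat_lit 1048576) Steps.nil))))))))))))))) (nat_lit 106) (nat_lit 1),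
  Rule.mk (nat_lit 5) (nat_lit 114) (Steps.bwd (nat_lit 1) (Steps.fwd (nat_lit 1835008) (Steps.bwd (nat_lit 5) (Steps.bwd (nat_lit 1) (Steps.fwd (nat_lit 1835008) Steps.nil))))) (nat_lit 53) (nat_lit 2),
  Rule.mk (nat_lit 4) (nat_lit 314) (Steps.bwd (nat_lit 8) (Steps.fwd (nat_lit 1048576) (Steps.fwd (nat_lit 2097152) (Steps.fwd (nat_lit 1048576) (Steps.bwd (nat_lit 8) (Steps.bwd (nat_lit 4) (Steps.bwd (nat_lit 9) (Steps.bwd (nat_lit 4) (Steps.fwd (nat_lit 2359296) (Steps.fwd (nat_lit 1048576) (Steps.bwd (nat_lit 9) (Steps.bwd (nat_lit 4) (Steps.bwd (nat_lit 8) (Steps.fwd (nat_lit 1048576) (Steps.fwd (nat_lit 2097152) Steps.nil))))))))))))))) (nat_lit 106) (nat_lit 0),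
  Rule.mk (nat_lit 4) (nat_lit 314) (Steps.bwd (nat_lit 9) (Steps.fwd (nat_lit 1048576) (Steps.fwd (nat_lit 2359296) (Steps.fwd (nat_lit 1048576) (Steps.bwd (nat_lit 9) (Steps.bwd (nat_lit 4) (Steps.fwd (nat_lit 2359296) (Steps.bwd (nat_lit 4) (Steps.bwd (nat_lit 9) (Steps.bwd (nat_lit 4) (Steps.fwd (nat_lit 2359296) (Steps.fwd (nat_lit 1048576) (Steps.bwd (nat_lit 9) (Steps.bwd (nat_lit 4) (Steps.bwd (nat_lit 8) Steps.nil))))))))))))))) (nat_lit 106) (nat_lit 2),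
  Rule.mk (nat_lit 8) (nat_lit 314) (Steps.bwd (nat_lit 4) (Steps.bwd (nat_lit 9) (Steps.fwd (nat_lit 1048576) (Steps.bwd (nat_lit 8) (Steps.fwd (nat_lit 1048576) (Steps.fwd (nat_lit 2097152) (Steps.fwd (nat_lit 1048576) (Steps.fwd (nat_lit 2359296) (Steps.bwd (nat_lit 4) (Steps.fwd (nat_lit 2097152) (Steps.bwd (nat_lit 4) (Steps.fwd (nat_lit 2359296) (Steps.fwd (nat_lit 1048576) (Steps.fwd (nat_lit 2097152) (Steps.fwd (nat_lit 1048576) Steps.nil))))))))))))))) (nat_lit 106) (nat_lit 1),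
  Rule.mk (nat_lit 9) (nat_lit 314) (Steps.bwd (nat_lit 4) (Steps.bwd (nat_lit 8) (Steps.bwd (nat_lit 4) (Steps.fwd (nat_lit 2097152) (Steps.fwd (nat_lit 1048576) (Steps.bwd (nat_lit 8) (Steps.fwd (nat_lit 1048576) (Steps.fwd (nat_lit 2097152) (Steps.bwd (nat_lit 4) (Steps.bwd (nat_lit 8) (Steps.fwd (nat_lit 1048576) (Steps.bwd (nat_lit 9) (Steps.bwd (nat_lit 4) (Steps.fwd (nat_lit 2359296) (Steps.bwd (nat_lit 4) Steps.nil))))))))))))))) (nat_lit 106) (nat_lit 3),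
  Rule.mk (nat_lit 8) (nat_lit 314) (Steps.bwd (nat_lit 4) (Steps.bwd (nat_lit 9) (Steps.fwd (nat_lit 1048576) (Steps.fwd (nat_lit 2359296) (Steps.fwd (nat_lit 1048576) (Steps.bwd (nat_lit 9) (Steps.bwd (nat_lit 4) (Steps.fwd (nat_lit 2359296) (Steps.bwd (nat_lit 4) (Steps.fwd (nat_lit 2097152) (Steps.fwd (nat_lit 1048576) (Steps.fwd (nat_lit 2359296) (Steps.fwd (nat_lit 1048576) (Steps.bwd (nat_lit 9) (Steps.fwd (nat_lit 1048576) Steps.nil))))))))))))))) (nat_lit 106) (nat_lit 1),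
  Rule.mk (nat_lit 4) (nat_lit 314) (Steps.bwd (nat_lit 9) (Steps.bwd (nat_lit 4) (Steps.bwd (nat_lit 8) (Steps.bwd (nat_lit 4) (Steps.bwd (nat_lit 9) (Steps.fwd (nat_lit 1048576) (Steps.fwd (nat_lit 2359296) (Steps.fwd (nat_lit 1048576) (Steps.fwd (nat_lit 2097152) (Steps.bwd (nat_lit 4) (Steps.bwd (nat_lit 8) (Steps.bwd (nat_lit 4) (Steps.fwd (nat_lit 2097152) (Steps.fwd (nat_lit 1048576) (Steps.bwd (nat_lit 8) Steps.nil))))))))))))))) (nat_lit 106) (nat_lit 2),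
  Rule.mk (nat_lit 9) (nat_lit 314) (Steps.bwd (nat_lit 4) (Steps.bwd (nat_lit 8) (Steps.fwd (nat_lit 1048576) (Steps.fwd (nat_lit 2097152) (Steps.bwd (nat_lit 4) (Steps.bwd (nat_lit 8) (Steps.bwd (nat_lit 4) (Steps.bwd (nat_lit 9) (Steps.bwd (nat_lit 4) (Steps.fwd (nat_lit 2359296) (Steps.fwd (nat_lit 1048576) (Steps.fwd (nat_lit 2097152) (Steps.bwd (nat_lit 4) (Steps.fwd (nat_lit 2359296) (Steps.bwd (nat_lit 4) Steps.nil))))))))))))))) (nat_lit 106) (nat_lit 3),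
  Rule.mk (nat_lit 9) (nat_lit 314) (Steps.bwd (nat_lit 4) (Steps.bwd (nat_lit 8) (Steps.bwd (nat_lit 4) (Steps.fwd (nat_lit 2097152) (Steps.bwd (nat_lit 4) (Steps.bwd (nat_lit 8) (Steps.bwd (nat_lit 4) (Steps.bwd (nat_lit 9) (Steps.fwd (nat_lit 1048576) (Steps.fwd (nat_lit 2359296) (Steps.fwd (nat_lit 1048576) (Steps.fwd (nat_lit 2097152) (Steps.fwd (nat_lit 1048576) (Steps.fwd (nat_lit 2359296) (Steps.bwd (nat_lit 4) Steps.nil))))))))))))))) (nat_lit 106) (nat_lit 3),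
  Rule.mk (nat_lit 4) (nat_lit 314) (Steps.bwd (nat_lit 9) (Steps.fwd (nat_lit 1048576) (Steps.bwd (nat_lit 8) (Steps.bwd (nat_lit 4) (Steps.bwd (nat_lit 9) (Steps.bwd (nat_lit 4) (Steps.fwd (nat_lit 2359296) (Steps.fwd (nat_lit 1048576) (Steps.bwd (nat_lit 9) (Steps.fwd (nat_lit 1048576) (Steps.fwd (nat_lit 2359296) (Steps.bwd (nat_lit 4) (Steps.fwd (nat_lit 2097152) (Steps.bwd (nat_lit 4) (Steps.fwd (nat_lit 2359296) Steps.nil))))))))))))))) (nat_lit 106) (nat_lit 2),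
  Rule.mk (nat_lit 8) (nat_lit 314) (Steps.bwd (nat_lit 4) (Steps.bwd (nat_lit 9) (Steps.bwd (nat_lit 4) (Steps.fwd (nat_lit 2359296) (Steps.fwd (nat_lit 1048576) (Steps.fwd (nat_lit 2097152) (Steps.fwd (nat_lit 1048576) (Steps.bwd (nat_lit 8) (Steps.bwd (nat_lit 4) (Steps.bwd (nat_lit 9) (Steps.bwd (nat_lit 4) (Steps.fwd (nat_lit 2359296) (Steps.fwd (nat_lit 1048576) (Steps.bwd (nat_lit 9) (Steps.fwd (nat_lit 1048576) Steps.nil))))))))))))))) (nat_lit 106) (nat_lit 1),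
  Rule.mk (nat_lit 8) (nat_lit 314) (Steps.bwd (nat_lit 4) (Steps.bwd (nat_lit 9) (Steps.bwd (nat_lit 4) (Steps.bwd (nat_lit 8) (Steps.fwd (nat_lit 1048576) (Steps.bwd (nat_lit 9) (Steps.fwd (nat_lit 1048576) (Steps.bwd (nat_lit 8) (Steps.bwd (nat_lit 4) (Steps.fwd (nat_lit 2097152) (Steps.fwd (nat_lit 1048576) (Steps.bwd (nat_lit 8) (Steps.fwd (nat_lit 1048576) (Steps.bwd (nat_lit 9) (Steps.bwd (nat_lit 4) Steps.nil))))))))))))))) (nat_lit 106) (nat_lit 1),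
  Rule.mk (nat_lit 4) (nat_lit 314) (Steps.bwd (nat_lit 8) (Steps.bwd (nat_lit 4) (Steps.fwd (nat_lit 2097152) (Steps.bwd (nat_lit 4) (Steps.fwd (nat_lit 2359296) (Steps.fwd (nat_lit 1048576) (Steps.fwd (nat_lit 2097152) (Steps.bwd (nat_lit 4) (Steps.bwd (nat_lit 8) (Steps.bwd (nat_lit 4) (Steps.bwd (nat_lit 9) (Steps.bwd (nat_lit 4) (Steps.fwd (nat_lit 2359296) (Steps.fwd (nat_lit 1048576) (Steps.fwd (nat_lit 2097152) Steps.nil))))))))))))))) (nat_lit 106) (nat_lit 0),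
  Rule.mk (nat_lit 8) (nat_lit 314) (Steps.bwd (nat_lit 4) (Steps.bwd (nat_lit 9) (Steps.bwd (nat_lit 4) (Steps.bwd (nat_lit 8) (Steps.bwd (nat_lit 4) (Steps.fwd (nat_lit 2097152) (Steps.bwd (nat_lit 4) (Steps.fwd (nat_lit 2359296) (Steps.fwd (nat_lit 1048576) (Steps.fwd (nat_lit 2097152) (Steps.fwd (nat_lit 1048576) (Steps.fwd (nat_lit 2359296) (Steps.bwd (nat_lit 4) (Steps.fwd (nat_lit 2097152) (Steps.bwd (nat_lit 4) Steps.nil))))))))))))))) (nat_lit 106) (nat_lit 1),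
  Rule.mk (nat_lit 8) (nat_lit 314) (Steps.bwd (nat_lit 4) (Steps.fwd (nat_lit 2097152) (Steps.fwd (nat_lit 1048576) (Steps.bwd (nat_lit 8) (Steps.bwd (nat_lit 4) (Steps.fwd (nat_lit 2097152) (Steps.fwd (nat_lit 1048576) (Steps.fwd (nat_lit 2359296) (Steps.fwd (nat_lit 1048576) (Steps.bwd (nat_lit 9) (Steps.bwd (nat_lit 4) (Steps.bwd (nat_lit 8) (Steps.bwd (nat_lit 4) (Steps.bwd (nat_lit 9) (Steps.fwd (nat_lit 1048576) Steps.nil))))))))))))))) (nat_lit 106) (nat_lit 1),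
  Rule.mk (nat_lit 8) (nat_lit 314) (Steps.bwd (nat_lit 4) (Steps.bwd (nat_lit 9) (Steps.bwd (nat_lit 4) (Steps.fwd (nat_lit 2359296) (Steps.bwd (nat_lit 4) (Steps.bwd (nat_lit 9) (Steps.bwd (nat_lit 4) (Steps.bwd (nat_lit 8) (Steps.bwd (nat_lit 4) (Steps.bwd (nat_lit 9) (Steps.bwd (nat_lit 4) (Steps.fwd (nat_lit 2359296) (Steps.fwd (nat_lit 1048576) (Steps.bwd (nat_lit 9) (Steps.fwd (nat_lit 1048576) Steps.nil))))))))))))))) (nat_lit 106) (nat_lit 1),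
  Rule.mk (nat_lit 4) (nat_lit 314) (Steps.bwd (nat_lit 8) (Steps.fwd (nat_lit 1048576) (Steps.fwd (nat_lit 2097152) (Steps.fwd (nat_lit 1048576) (Steps.bwd (nat_lit 8) (Steps.fwd (nat_lit 1048576) (Steps.fwd (nat_lit 2097152) (Steps.bwd (nat_lit 4) (Steps.bwd (nat_lit 8) (Steps.fwd (nat_lit 1048576) (Steps.bwd (nat_lit 9) (Steps.fwd (nat_lit 1048576) (Steps.bwd (nat_lit 8) (Steps.fwd (nat_lit 1048576) (Steps.fwd (nat_lit 2097152) Steps.nil))))))))))))))) (nat_lit 106) (nat_lit 0),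
  Rule.mk (nat_lit 8) (nat_lit 314) (Steps.bwd (nat_lit 4) (Steps.bwd (nat_lit 9) (Steps.bwd (nat_lit 4) (Steps.bwd (nat_lit 8) (Steps.fwd (nat_lit 1048576) (Steps.bwd (nat_lit 9) (Steps.fwd (nat_lit 1048576) (Steps.fwd (nat_lit 2359296) (Steps.bwd (nat_lit 4) (Steps.bwd (nat_lit 9) (Steps.fwd (nat_lit 1048576) (Steps.fwd (nat_lit 2359296) (Steps.fwd (nat_lit 1048576) (Steps.bwd (nat_lit 9) (Steps.bwd (nat_lit 4) Steps.nil))))))))))))))) (nat_lit 106) (nat_lit 1),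
  Rule.mk (nat_lit 9) (nat_lit 314) (Steps.bwd (nat_lit 4) (Steps.fwd (nat_lit 2359296) (Steps.bwd (nat_lit 4) (Steps.bwd (nat_lit 9) (Steps.fwd (nat_lit 1048576) (Steps.bwd (nat_lit 8) (Steps.bwd (nat_lit 4) (Steps.bwd (nat_lit 9) (Steps.bwd (nat_lit 4) (Steps.fwd (nat_lit 2359296) (Steps.bwd (nat_lit 4) (Steps.bwd (nat_lit 9) (Steps.bwd (nat_lit 4) (Steps.fwd (nat_lit 2359296) (Steps.fwd (nat_lit 1048576) Steps.nil))))))))))))))) (nat_lit 106) (nat_lit 3),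
  Rule.mk (nat_lit 4) (nat_lit 314) (Steps.bwd (nat_lit 9) (Steps.bwd (nat_lit 4) (Steps.fwd (nat_lit 2359296) (Steps.bwd (nat_lit 4) (Steps.bwd (nat_lit 9) (Steps.fwd (nat_lit 1048576) (Steps.bwd (nat_lit 8) (Steps.fwd (nat_lit 1048576) (Steps.bwd (nat_lit 9) (Steps.fwd (nat_lit 1048576) (Steps.bwd (nat_lit 8) (Steps.bwd (nat_lit 4) (Steps.fwd (nat_lit 2097152) (Steps.fwd (nat_lit 1048576) (Steps.bwd (nat_lit 8) Steps.nil))))))))))))))) (nat_lit 106) (nat_lit 2),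
  Rule.mk (nat_lit 6) (nat_lit 274) (Steps.bwd (nat_lit 1) (Steps.fwd (nat_lit 1572864) (Steps.bwd (nat_lit 5) (Steps.bwd (nat_lit 2) (Steps.bwd (nat_lit 1) (Steps.fwd (nat_lit 1572864) (Steps.fwd (nat_lit 262144) (Steps.bwd (nat_lit 2) (Steps.fwd (nat_lit 262144) (Steps.fwd (nat_lit 1572864) (Steps.fwd (nat_lit 262144) (Steps.fwd (nat_lit 786432) (Steps.bwd (nat_lit 1) Steps.nil))))))))))))) (nat_lit 34) (nat_lit 11),
  Rule.mk (nat_lit 6) (nat_lit 274) (Steps.bwd (nat_lit 1) (Steps.fwd (nat_lit 1572864) (Steps.fwd (nat_lit 1310720) (Steps.fwd (nat_lit 786432) (Steps.fwd (nat_lit 262144) (Steps.bwd (nat_lit 6) (Steps.bwd (nat_lit 1) (Steps.bwd (nat_lit 2) (Steps.fwd (nat_lit 262144) (Steps.fwd (nat_lit 1572864) (Steps.fwd (nat_lit 262144) (Steps.fwd (nat_lit 786432) (Steps.fwd (nat_lit 262144) Steps.nil))))))))))))) (nat_lit 34) (nat_lit 11),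
  Rule.mk (nat_lit 1) (nat_lit 274) (Steps.bwd (nat_lit 6) (Steps.bwd (nat_lit 1) (Steps.bwd (nat_lit 2) (Steps.bwd (nat_lit 1) (Steps.fwd (nat_lit 1572864) (Steps.bwd (nat_lit 1) (Steps.bwd (nat_lit 6) (Steps.bwd (nat_lit 5) (Steps.bwd (nat_lit 2) (Steps.fwd (nat_lit 262144) (Steps.bwd (nat_lit 6) (Steps.fwd (nat_lit 262144) (Steps.fwd (nat_lit 786432) Steps.nil))))))))))))) (nat_lit 34) (nat_lit 6),
  Rule.mk (nat_lit 4) (nat_lit 314) (Steps.bwd (nat_lit 8) (Steps.bwd (nat_lit 4) (Steps.bwd (nat_lit 9) (Steps.bwd (nat_lit 4) (Steps.fwd (nat_lit 2359296) (Steps.fwd (nat_lit 1048576) (Steps.fwd (nat_lit 2097152) (Steps.bwd (nat_lit 4) (Steps.fwd (nat_lit 2359296) (Steps.fwd (nat_lit 1048576) (Steps.bwd (nat_lit 9) (Steps.fwd (nat_lit 1048576) (Steps.fwd (nat_lit 2359296) (Steps.bwd (nat_lit 4) (Steps.bwd (nat_lit 9) Steps.nil))))))))))))))) (nat_lit 106) (nat_lit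 0),
  Rule.mk (nat_lit 4) (nat_lit 314) (Steps.bwd (nat_lit 8) (Steps.bwd (nat_lit 4) (Steps.fwd (nat_lit 2097152) (Steps.bwd (nat_lit 4) (Steps.fwd (nat_lit 2359296) (Steps.bwd (nat_lit 4) (Steps.bwd (nat_lit 9) (Steps.bwd (nat_lit 4) (Steps.fwd (nat_lit 2359296) (Steps.fwd (nat_lit 1048576) (Steps.bwd (nat_lit 9) (Steps.bwd (nat_lit 4) (Steps.bwd (nat_lit 8) (Steps.fwd (nat_lit 1048576) (Steps.fwd (nat_lit 2097152) Steps.nil))))))))))))))) (nat_lit 106) (nat_lit 0),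
  Rule.mk (nat_lit 8) (nat_lit 314) (Steps.bwd (nat_lit 4) (Steps.bwd (nat_lit 9) (Steps.fwd (nat_lit 1048576) (Steps.bwd (nat_lit 8) (Steps.bwd (nat_lit 4) (Steps.fwd (nat_lit 2097152) (Steps.fwd (nat_lit 1048576) (Steps.fwd (nat_lit 2359296) (Steps.bwd (nat_lit 4) (Steps.bwd (nat_lit 9) (Steps.bwd (nat_lit 4) (Steps.bwd (nat_lit 8) (Steps.bwd (nat_lit 4) (Steps.fwd (nat_lit 2097152) (Steps.bwd (nat_lit 4) Steps.nil))))))))))))))) (nat_lit 106) (nat_lit 1),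
  Rule.mk (nat_lit 4) (nat_lit 314) (Steps.bwd (nat_lit 8) (Steps.fwd (nat_lit 1048576) (Steps.bwd (nat_lit 9) (Steps.fwd (nat_lit 1048576) (Steps.fwd (nat_lit 2359296) (Steps.bwd (nat_lit 4) (Steps.fwd (nat_lit 2097152) (Steps.bwd (nat_lit 4) (Steps.fwd (nat_lit 2359296) (Steps.bwd (nat_lit 4) (Steps.bwd (nat_lit 9) (Steps.bwd (nat_lit 4) (Steps.fwd (nat_lit 2359296) (Steps.fwd (nat_lit 1048576) (Steps.bwd (nat_lit 9) Steps.nil))))))))))))))) (nat_lit 106) (nat_lit 0),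
  Rule.mk (nat_lit 6) (nat_lit 114) (Steps.bwd (nat_lit 2) (Steps.bwd (nat_lit 7) (Steps.fwd (nat_lit 1572864) (Steps.fwd (nat_lit 524288) (Steps.bwd (nat_lit 7) Steps.nil))))) (nat_lit 63) (nat_lit 2),
  Rule.mk (nat_lit 4) (nat_lit 314) (Steps.bwd (nat_lit 9) (Steps.bwd (nat_lit 4) (Steps.bwd (nat_lit 8) (Steps.bwd (nat_lit 4) (Steps.bwd (nat_lit 9) (Steps.fwd (nat_lit 1048576) (Steps.bwd (nat_lit 8) (Steps.bwd (nat_lit 4) (Steps.bwd (nat_lit 9) (Steps.fwd (nat_lit 1048576) (Steps.fwd (nat_lit 2359296) (Steps.fwd (nat_lit 1048576) (Steps.bwd (nat_lit 9) (Steps.bwd (nat_lit 4) (Steps.fwd (nat_lit 2359296) Steps.nil))))))))))))))) (nat_lit 106) (nat_lit 2),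
  Rule.mk (nat_lit 4) (nat_lit 314) (Steps.bwd (nat_lit 8) (Steps.bwd (nat_lit 4) (Steps.bwd (nat_lit 9) (Steps.bwd (nat_lit 4) (Steps.fwd (nat_lit 2359296) (Steps.bwd (nat_lit 4) (Steps.fwd (nat_lit 2097152) (Steps.bwd (nat_lit 4) (Steps.fwd (nat_lit 2359296) (Steps.fwd (nat_lit 1048576) (Steps.bwd (nat_lit 9) (Steps.bwd (nat_lit 4) (Steps.bwd (nat_lit 8) (Steps.bwd (nat_lit 4) (Steps.bwd (nat_lit 9) Steps.nil))))))))))))))) (nat_lit 106) (nat_lit 0)]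
noncomputable def R_126 : List (Rule) := [Rule.mk (nat_lit 4) (nat_lit 314) (Steps.bwd (nat_lit 8) (Steps.fwd (nat_lit 1048576) (Steps.fwd (nat_lit 2097152) (Steps.bwd (nat_lit 4) (Steps.fwd (nat_lit 2359296) (Steps.bwd (nat_lit 4) (Steps.bwd (nat_lit 9) (Steps.bwd (nat_lit 4) (Steps.fwd (nat_lit 2359296) (Steps.fwd (nat_lit 1048576) (Steps.fwd (nat_lit 2097152) (Steps.fwd (nat_lit 1048576) (Steps.fwd (nat_lit 2359296) (Steps.bwd (nat_lit 4) (Steps.bwd (nat_lit 9) Steps.nil))))))))))))))) (nat_lit 106) (nat_lit 0),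
  Rule.mk (nat_lit 8) (nat_lit 314) (Steps.bwd (nat_lit 4) (Steps.bwd (nat_lit 9) (Steps.fwd (nat_lit 1048576) (Steps.bwd (nat_lit 8) (Steps.bwd (nat_lit 4) (Steps.fwd (nat_lit 2097152) (Steps.bwd (nat_lit 4) (Steps.bwd (nat_lit 8) (Steps.bwd (nat_lit 4) (Steps.bwd (nat_lit 9) (Steps.fwd (nat_lit 1048576) (Steps.bwd (nat_lit 8) (Steps.fwd (nat_lit 1048576) (Steps.fwd (nat_lit 2097152) (Steps.bwd (nat_lit 4) Steps.nil))))))))))))))) (nat_lit 106) (nat_lit 1),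
  Rule.mk (nat_lit 5) (nat_lit 154) (Steps.bwd (nat_lit 1) (Steps.bwd (nat_lit 2) (Steps.fwd (nat_lit 262144) (Steps.bwd (nat_lit 5) (Steps.bwd (nat_lit 2) (Steps.bwd (nat_lit 1) (Steps.bwd (nat_lit 2) Steps.nil))))))) (nat_lit 70) (nat_lit 0),
  Rule.mk (nat_lit 9) (nat_lit 314) (Steps.bwd (nat_lit 4) (Steps.fwd (nat_lit 2359296) (Steps.bwd (nat_lit 4) (Steps.fwd (nat_lit 2097152) (Steps.fwd (nat_lit 1048576) (Steps.fwd (nat_lit 2359296) (Steps.bwd (nat_lit 4) (Steps.bwd (nat_lit 9) (Steps.fwd (nat_lit 1048576) (Steps.fwd (nat_lit 2359296) (Steps.bwd (nat_lit 4) (Steps.bwd (nat_lit 9) (Steps.fwd (nat_lit 1048576) (Steps.fwd (nat_lit 2359296) (Steps.fwd (nat_lit 1048576) Steps.nil))))))))))))))) (nat_lit 106) (nat_lit 3),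
  Rule.mk (nat_lit 9) (nat_lit 314) (Steps.bwd (nat_lit 4) (Steps.fwd (nat_lit 2359296) (Steps.bwd (nat_lit 4) (Steps.fwd (nat_lit 2097152) (Steps.bwd (nat_lit 4) (Steps.fwd (nat_lit 2359296) (Steps.bwd (nat_lit 4) (Steps.fwd (nat_lit 2097152) (Steps.fwd (nat_lit 1048576) (Steps.fwd (nat_lit 2359296) (Steps.bwd (nat_lit 4) (Steps.bwd (nat_lit 9) (Steps.bwd (nat_lit 4) (Steps.bwd (nat_lit 8) (Steps.bwd (nat_lit 4) Steps.nil))))))))))))))) (nat_lit 106) (nat_lit 3),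
  Rule.mk (nat_lit 4) (nat_lit 314) (Steps.bwd (nat_lit 9) (Steps.fwd (nat_lit 1048576) (Steps.fwd (nat_lit 2359296) (Steps.bwd (nat_lit 4) (Steps.fwd (nat_lit 2097152) (Steps.fwd (nat_lit 1048576) (Steps.fwd (nat_lit 2359296) (Steps.bwd (nat_lit 4) (Steps.fwd (nat_lit 2097152) (Steps.fwd (nat_lit 1048576) (Steps.bwd (nat_lit 8) (Steps.bwd (nat_lit 4) (Steps.bwd (nat_lit 9) (Steps.bwd (nat_lit 4) (Steps.fwd (nat_lit 2359296) Steps.nil))))))))))))))) (nat_lit 106) (nat_lit 2),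
  Rule.mk (nat_lit 4) (nat_lit 314) (Steps.bwd (nat_lit 9) (Steps.fwd (nat_lit 1048576) (Steps.fwd (nat_lit 2359296) (Steps.bwd (nat_lit 4) (Steps.fwd (nat_lit 2097152) (Steps.fwd (nat_lit 1048576) (Steps.fwd (nat_lit 2359296) (Steps.fwd (nat_lit 1048576) (Steps.fwd (nat_lit 2097152) (Steps.fwd (nat_lit 1048576) (Steps.fwd (nat_lit 2359296) (Steps.bwd (nat_lit 4) (Steps.bwd (nat_lit 9) (Steps.bwd (nat_lit 4) (Steps.fwd (nat_lit 2359296) Steps.nil))))))))))))))) (nat_lit 106) (nat_lit 2),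
  Rule.mk (nat_lit 4) (nat_lit 314) (Steps.bwd (nat_lit 9) (Steps.fwd (nat_lit 1048576) (Steps.fwd (nat_lit 2359296) (Steps.bwd (nat_lit 4) (Steps.bwd (nat_lit 9) (Steps.fwd (nat_lit 1048576) (Steps.bwd (nat_lit 8) (Steps.fwd (nat_lit 1048576) (Steps.bwd (nat_lit 9) (Steps.bwd (nat_lit 4) (Steps.fwd (nat_lit 2359296) (Steps.bwd (nat_lit 4) (Steps.fwd (nat_lit 2097152) (Steps.bwd (nat_lit 4) (Steps.fwd (nat_lit 2359296) Steps.nil))))))))))))))) (nat_lit 106) (nat_lit 2),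
  Rule.mk (nat_lit 9) (nat_lit 314) (Steps.bwd (nat_lit 4) (Steps.bwd (nat_lit 8) (Steps.fwd (nat_lit 1048576) (Steps.fwd (nat_lit 2097152) (Steps.bwd (nat_lit 4) (Steps.bwd (nat_lit 8) (Steps.bwd (nat_lit 4) (Steps.bwd (nat_lit 9) (Steps.fwd (nat_lit 1048576) (Steps.fwd (nat_lit 2359296) (Steps.bwd (nat_lit 4) (Steps.bwd (nat_lit 9) (Steps.fwd (nat_lit 1048576) (Steps.fwd (nat_lit 2359296) (Steps.fwd (nat_lit 1048576) Steps.nil))))))))))))))) (nat_lit 106) (nat_lit 3),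
  Rule.mk (nat_lit 9) (nat_lit 314) (Steps.bwd (nat_lit 4) (Steps.fwd (nat_lit 2359296) (Steps.fwd (nat_lit 1048576) (Steps.bwd (nat_lit 9) (Steps.bwd (nat_lit 4) (Steps.fwd (nat_lit 2359296) (Steps.fwd (nat_lit 1048576) (Steps.bwd (nat_lit 9) (Steps.fwd (nat_lit 1048576) (Steps.fwd (nat_lit 2359296) (Steps.bwd (nat_lit 4) (Steps.bwd (nat_lit 9) (Steps.bwd (nat_lit 4) (Steps.fwd (nat_lit 2359296) (Steps.fwd (nat_lit 1048576) Steps.nil))))))))))))))) (nat_lit 106) (nat_lit 3),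
  Rule.mk (nat_lit 2) (nat_lit 154) (Steps.bwd (nat_lit 1) (Steps.bwd (nat_lit 2) (Steps.fwd (nat_lit 1835008) (Steps.bwd (nat_lit 1) (Steps.fwd (nat_lit 786432) (Steps.bwd (nat_lit 1) (Steps.bwd (nat_lit 7) Steps.nil))))))) (nat_lit 72) (nat_lit 5),
  Rule.mk (nat_lit 4) (nat_lit 314) (Steps.bwd (nat_lit 9) (Steps.bwd (nat_lit 4) (Steps.fwd (nat_lit 2359296) (Steps.bwd (nat_lit 4) (Steps.bwd (nat_lit 9) (Steps.fwd (nat_lit 1048576) (Steps.bwd (nat_lit 8) (Steps.bwd (nat_lit 4) (Steps.bwd (nat_lit 9) (Steps.fwd (nat_lit 1048576) (Steps.fwd (nat_lit 2359296) (Steps.fwd (nat_lit 1048576) (Steps.fwd (nat_lit 2097152) (Steps.fwd (nat_lit 1048576) (Steps.bwd (nat_lit 8) Steps.nil))))))))))))))) (nat_lit 106) (nat_lit 2),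
  Rule.mk (nat_lit 1) (nat_lit 154) (Steps.fwd (nat_lit 1835008) (Steps.fwd (nat_lit 1048576) (Steps.bwd (nat_lit 1) (Steps.fwd (nat_lit 1048576) (Steps.bwd (nat_lit 7) (Steps.bwd (nat_lit 1) (Steps.bwd (nat_lit 4) Steps.nil))))))) (nat_lit 76) (nat_lit 3),
  Rule.mk (nat_lit 9) (nat_lit 314) (Steps.bwd (nat_lit 4) (Steps.bwd (nat_lit 8) (Steps.bwd (nat_lit 4) (Steps.fwd (nat_lit 2097152) (Steps.fwd (nat_lit 1048576) (Steps.fwd (nat_lit 2359296) (Steps.bwd (nat_lit 4) (Steps.bwd (nat_lit 9) (Steps.bwd (nat_lit 4) (Steps.fwd (nat_lit 2359296) (Steps.fwd (nat_lit 1048576) (Steps.bwd (nat_lit 9) (Steps.bwd (nat_lit 4) (Steps.fwd (nat_lit 2359296) (Steps.fwd (nat_lit 1048576) Steps.nil))))))))))))))) (nat_lit 106) (nat_lit 3),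
  Rule.mk (nat_lit 8) (nat_lit 314) (Steps.bwd (nat_lit 4) (Steps.fwd (nat_lit 2097152) (Steps.bwd (nat_lit 4) (Steps.bwd (nat_lit 8) (Steps.bwd (nat_lit 4) (Steps.bwd (nat_lit 9) (Steps.bwd (nat_lit 4) (Steps.bwd (nat_lit 8) (Steps.fwd (nat_lit 1048576) (Steps.bwd (nat_lit 9) (Steps.fwd (nat_lit 1048576) (Steps.bwd (nat_lit 8) (Steps.fwd (nat_lit 1048576) (Steps.bwd (nat_lit 9) (Steps.fwd (nat_lit 1048576) Steps.nil))))))))))))))) (nat_lit 106) (nat_lit 1),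
  Rule.mk (nat_lit 1) (nat_lit 154) (Steps.fwd (nat_lit 1048576) (Steps.fwd (nat_lit 262144) (Steps.bwd (nat_lit 6) (Steps.fwd (nat_lit 262144) (Steps.bwd (nat_lit 4) (Steps.bwd (nat_lit 1) (Steps.bwd (nat_lit 6) Steps.nil))))))) (nat_lit 74) (nat_lit 1),
  Rule.mk (nat_lit 9) (nat_lit 314) (Steps.bwd (nat_lit 4) (Steps.fwd (nat_lit 2359296) (Steps.bwd (nat_lit 4) (Steps.bwd (nat_lit 9) (Steps.bwd (nat_lit 4) (Steps.bwd (nat_lit 8) (Steps.fwd (nat_lit 1048576) (Steps.fwd (nat_lit 2097152) (Steps.bwd (nat_lit 4) (Steps.fwd (nat_lit 2359296) (Steps.bwd (nat_lit 4) (Steps.bwd (nat_lit 9) (Steps.fwd (nat_lit 1048576) (Steps.bwd (nat_lit 8) (Steps.fwd (nat_lit 1048576) Steps.nil))))))))))))))) (nat_lit 106) (nat_lit 3),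
  Rule.mk (nat_lit 4) (nat_lit 314) (Steps.bwd (nat_lit 8) (Steps.fwd (nat_lit 1048576) (Steps.fwd (nat_lit 2097152) (Steps.bwd (nat_lit 4) (Steps.fwd (nat_lit 2359296) (Steps.bwd (nat_lit 4) (Steps.fwd (nat_lit 2097152) (Steps.bwd (nat_lit 4) (Steps.bwd (nat_lit 8) (Steps.fwd (nat_lit 1048576) (Steps.bwd (nat_lit 9) (Steps.bwd (nat_lit 4) (Steps.fwd (nat_lit 2359296) (Steps.bwd (nat_lit 4) (Steps.bwd (nat_lit 9) Steps.nil))))))))))))))) (nat_lit 106) (nat_lit 0),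
  Rule.mk (nat_lit 8) (nat_lit 314) (Steps.bwd (nat_lit 4) (Steps.bwd (nat_lit 9) (Steps.fwd (nat_lit 1048576) (Steps.bwd (nat_lit 8) (Steps.fwd (nat_lit 1048576) (Steps.bwd (nat_lit 9) (Steps.bwd (nat_lit 4) (Steps.bwd (nat_lit 8) (Steps.bwd (nat_lit 4) (Steps.fwd (nat_lit 2097152) (Steps.fwd (nat_lit 1048576) (Steps.fwd (nat_lit 2359296) (Steps.fwd (nat_lit 1048576) (Steps.fwd (nat_lit 2097152) (Steps.bwd (nat_lit 4) Steps.nil))))))))))))))) (nat_lit 106) (nat_lit 1),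
  Rule.mk (nat_lit 8) (nat_lit 314) (Steps.bwd (nat_lit 4) (Steps.bwd (nat_lit 9) (Steps.bwd (nat_lit 4) (Steps.bwd (nat_lit 8) (Steps.fwd (nat_lit 1048576) (Steps.fwd (nat_lit 2097152) (Steps.fwd (nat_lit 1048576) (Steps.fwd (nat_lit 2359296) (Steps.fwd (nat_lit 1048576) (Steps.fwd (nat_lit 2097152) (Steps.bwd (nat_lit 4) (Steps.fwd (nat_lit 2359296) (Steps.fwd (nat_lit 1048576) (Steps.bwd (nat_lit 9) (Steps.fwd (nat_lit 1048576) Steps.nil))))))))))))))) (nat_lit 106) (nat_lit 1),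
  Rule.mk (nat_lit 4) (nat_lit 314) (Steps.bwd (nat_lit 8) (Steps.fwd (nat_lit 1048576) (Steps.bwd (nat_lit 9) (Steps.fwd (nat_lit 1048576) (Steps.fwd (nat_lit 2359296) (Steps.fwd (nat_lit 1048576) (Steps.bwd (nat_lit 9) (Steps.fwd (nat_lit 1048576) (Steps.fwd (nat_lit 2359296) (Steps.bwd (nat_lit 4) (Steps.bwd (nat_lit 9) (Steps.fwd (nat_lit 1048576) (Steps.bwd (nat_lit 8) (Steps.bwd (nat_lit 4) (Steps.fwd (nat_lit 2097152) Steps.nil))))))))))))))) (nat_lit 106) (nat_lit 0),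
  Rule.mk (nat_lit 8) (nat_lit 314) (Steps.bwd (nat_lit 4) (Steps.fwd (nat_lit 2097152) (Steps.fwd (nat_lit 1048576) (Steps.fwd (nat_lit 2359296) (Steps.bwd (nat_lit 4) (Steps.bwd (nat_lit 9) (Steps.fwd (nat_lit 1048576) (Steps.fwd (nat_lit 2359296) (Steps.bwd (nat_lit 4) (Steps.fwd (nat_lit 2097152) (Steps.fwd (nat_lit 1048576) (Steps.bwd (nat_lit 8) (Steps.bwd (nat_lit 4) (Steps.bwd (nat_lit 9) (Steps.fwd (nat_lit 1048576) Steps.nil))))))))))))))) (nat_lit 106) (nat_lit 1),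
  Rule.mk (nat_lit 9) (nat_lit 314) (Steps.bwd (nat_lit 4) (Steps.fwd (nat_lit 2359296) (Steps.bwd (nat_lit 4) (Steps.bwd (nat_lit 9) (Steps.bwd (nat_lit 4) (Steps.bwd (nat_lit 8) (Steps.bwd (nat_lit 4) (Steps.bwd (nat_lit 9) (Steps.bwd (nat_lit 4) (Steps.bwd (nat_lit 8) (Steps.bwd (nat_lit 4) (Steps.fwd (nat_lit 2097152) (Steps.fwd (nat_lit 1048576) (Steps.fwd (nat_lit 2359296) (Steps.bwd (nat_lit 4) Steps.nil))))))))))))))) (nat_lit 106) (nat_lit 3),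
  Rule.mk (nat_lit 8) (nat_lit 314) (Steps.bwd (nat_lit 4) (Steps.bwd (nat_lit 9) (Steps.bwd (nat_lit 4) (Steps.fwd (nat_lit 2359296) (Steps.bwd (nat_lit 4) (Steps.bwd (nat_lit 9) (Steps.bwd (nat_lit 4) (Steps.bwd (nat_lit 8) (Steps.fwd (nat_lit 1048576) (Steps.fwd (nat_lit 2097152) (Steps.bwd (nat_lit 4) (Steps.bwd (nat_lit 8) (Steps.bwd (nat_lit 4) (Steps.bwd (nat_lit 9) (Steps.fwd (nat_lit 1048576) Steps.nil))))))))))))))) (nat_lit 106) (nat_lit 1),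
  Rule.mk (nat_lit 1) (nat_lit 274) (Steps.bwd (nat_lit 6) (Steps.bwd (nat_lit 1) (Steps.fwd (nat_lit 1572864) (Steps.fwd (nat_lit 1310720) (Steps.bwd (nat_lit 2) (Steps.fwd (nat_lit 262144) (Steps.fwd (nat_lit 1572864) (Steps.fwd (nat_lit 262144) (Steps.bwd (nat_lit 2) (Steps.fwd (nat_lit 262144) (Steps.bwd (nat_lit 6) (Steps.bwd (nat_lit 1) (Steps.fwd (nat_lit 786432) Steps.nil))))))))))))) (nat_lit 34) (nat_lit 10),
  Rule.mk (nat_lit 4) (nat_lit 314) (Steps.bwd (nat_lit 9) (Steps.bwd (nat_lit 4) (Steps.fwd (nat_lit 2359296) (Steps.bwd (nat_lit 4) (Steps.bwd (nat_lit 9) (Steps.bwd (nat_lit 4) (Steps.fwd (nat_lit 2359296) (Steps.bwd (nat_lit 4) (Steps.fwd (nat_lit 2097152) (Steps.fwd (nat_lit 1048576) (Steps.fwd (nat_lit 2359296) (Steps.bwd (nat_lit 4) (Steps.fwd (nat_lit 2097152) (Steps.fwd (nat_lit 1048576) (Steps.fwd (nat_lit 2359296) Steps.nil)))))))))))))))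 (nat_lit 106) (nat_lit 2),
  Rule.mk (nat_lit 9) (nat_lit 314) (Steps.bwd (nat_lit 4) (Steps.bwd (nat_lit 8) (Steps.bwd (nat_lit 4) (Steps.bwd (nat_lit 9) (Steps.bwd (nat_lit 4) (Steps.fwd (nat_lit 2359296) (Steps.bwd (nat_lit 4) (Steps.bwd (nat_lit 9) (Steps.fwd (nat_lit 1048576) (Steps.bwd (nat_lit 8) (Steps.bwd (nat_lit 4) (Steps.bwd (nat_lit 9) (Steps.bwd (nat_lit 4) (Steps.bwd (nat_lit 8) (Steps.bwd (nat_lit 4) Steps.nil))))))))))))))) (nat_lit 106) (nat_lit 3),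
  Rule.mk (nat_lit 4) (nat_lit 314) (Steps.bwd (nat_lit 8) (Steps.bwd (nat_lit 4) (Steps.bwd (nat_lit 9) (Steps.fwd (nat_lit 1048576) (Steps.bwd (nat_lit 8) (Steps.bwd (nat_lit 4) (Steps.bwd (nat_lit 9) (Steps.bwd (nat_lit 4) (Steps.fwd (nat_lit 2359296) (Steps.fwd (nat_lit 1048576) (Steps.bwd (nat_lit 9) (Steps.fwd (nat_lit 1048576) (Steps.fwd (nat_lit 2359296) (Steps.fwd (nat_lit 1048576) (Steps.fwd (nat_lit 2097152) Steps.nil))))))))))))))) (nat_lit 106) (nat_lit 0),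
  Rule.mk (nat_lit 4) (nat_lit 314) (Steps.bwd (nat_lit 9) (Steps.bwd (nat_lit 4) (Steps.bwd (nat_lit 8) (Steps.bwd (nat_lit 4) (Steps.fwd (nat_lit 2097152) (Steps.fwd (nat_lit 1048576) (Steps.fwd (nat_lit 2359296) (Steps.bwd (nat_lit 4) (Steps.bwd (nat_lit 9) (Steps.bwd (nat_lit 4) (Steps.fwd (nat_lit 2359296) (Steps.bwd (nat_lit 4) (Steps.bwd (nat_lit 9) (Steps.fwd (nat_lit 1048576) (Steps.fwd (nat_lit 2359296) Steps.nil))))))))))))))) (nat_lit 106) (nat_lit 2),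
  Rule.mk (nat_lit 4) (nat_lit 314) (Steps.bwd (nat_lit 9) (Steps.bwd (nat_lit 4) (Steps.fwd (nat_lit 2359296) (Steps.fwd (nat_lit 1048576) (Steps.fwd (nat_lit 2097152) (Steps.fwd (nat_lit 1048576) (Steps.bwd (nat_lit 8) (Steps.bwd (nat_lit 4) (Steps.fwd (nat_lit 2097152) (Steps.fwd (nat_lit 1048576) (Steps.bwd (nat_lit 8) (Steps.fwd (nat_lit 1048576) (Steps.fwd (nat_lit 2097152) (Steps.bwd (nat_lit 4) (Steps.fwd (nat_lit 2359296) Steps.nil))))))))))))))) (nat_lit 106) (nat_lit 2),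
  Rule.mk (nat_lit 4) (nat_lit 314) (Steps.bwd (nat_lit 8) (Steps.fwd (nat_lit 1048576) (Steps.bwd (nat_lit 9) (Steps.fwd (nat_lit 1048576) (Steps.bwd (nat_lit 8) (Steps.bwd (nat_lit 4) (Steps.bwd (nat_lit 9) (Steps.bwd (nat_lit 4) (Steps.fwd (nat_lit 2359296) (Steps.fwd (nat_lit 1048576) (Steps.bwd (nat_lit 9) (Steps.bwd (nat_lit 4) (Steps.bwd (nat_lit 8) (Steps.bwd (nat_lit 4) (Steps.fwd (nat_lit 2097152) Steps.nil))))))))))))))) (nat_lit 106) (nat_lit 0),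
  Rule.mk (nat_lit 4) (nat_lit 314) (Steps.bwd (nat_lit 8) (Steps.bwd (nat_lit 4) (Steps.bwd (nat_lit 9) (Steps.fwd (nat_lit 1048576) (Steps.bwd (nat_lit 8) (Steps.bwd (nat_lit 4) (Steps.fwd (nat_lit 2097152) (Steps.bwd (nat_lit 4) (Steps.fwd (nat_lit 2359296) (Steps.fwd (nat_lit 1048576) (Steps.fwd (nat_lit 2097152) (Steps.bwd (nat_lit 4) (Steps.bwd (nat_lit 8) (Steps.bwd (nat_lit 4) (Steps.fwd (nat_lit 2097152) Steps.nil))))))))))))))) (nat_lit 106) (nat_lit 0),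
  Rule.mk (nat_lit 4) (nat_lit 314) (Steps.bwd (nat_lit 9) (Steps.bwd (nat_lit 4) (Steps.bwd (nat_lit 8) (Steps.bwd (nat_lit 4) (Steps.bwd (nat_lit 9) (Steps.fwd (nat_lit 1048576) (Steps.fwd (nat_lit 2359296) (Steps.fwd (nat_lit 1048576) (Steps.fwd (nat_lit 2097152) (Steps.bwd (nat_lit 4) (Steps.fwd (nat_lit 2359296) (Steps.bwd (nat_lit 4) (Steps.bwd (nat_lit 9) (Steps.fwd (nat_lit 1048576) (Steps.bwd (nat_lit 8) Steps.nil))))))))))))))) (nat_lit 106) (nat_lit 2),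
  Rule.mk (nat_lit 4) (nat_lit 314) (Steps.bwd (nat_lit 9) (Steps.bwd (nat_lit 4) (Steps.fwd (nat_lit 2359296) (Steps.bwd (nat_lit 4) (Steps.bwd (nat_lit 9) (Steps.bwd (nat_lit 4) (Steps.fwd (nat_lit 2359296) (Steps.bwd (nat_lit 4) (Steps.fwd (nat_lit 2097152) (Steps.bwd (nat_lit 4) (Steps.fwd (nat_lit 2359296) (Steps.fwd (nat_lit 1048576) (Steps.fwd (nat_lit 2097152) (Steps.fwd (nat_lit 1048576) (Steps.fwd (nat_lit 2359296) Steps.nil))))))))))))))) (nat_lit 106) (nat_lit 2),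
  Rule.mk (nat_lit 4) (nat_lit 314) (Steps.bwd (nat_lit 8) (Steps.fwd (nat_lit 1048576) (Steps.fwd (nat_lit 2097152) (Steps.bwd (nat_lit 4) (Steps.fwd (nat_lit 2359296) (Steps.fwd (nat_lit 1048576) (Steps.fwd (nat_lit 2097152) (Steps.bwd (nat_lit 4) (Steps.fwd (nat_lit 2359296) (Steps.bwd (nat_lit 4) (Steps.bwd (nat_lit 9) (Steps.bwd (nat_lit 4) (Steps.fwd (nat_lit 2359296) (Steps.bwd (nat_lit 4) (Steps.fwd (nat_lit 2097152) Steps.nil))))))))))))))) (nat_lit 106) (nat_lit 0),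
  Rule.mk (nat_lit 4) (nat_lit 314) (Steps.bwd (nat_lit 9) (Steps.bwd (nat_lit 4) (Steps.fwd (nat_lit 2359296) (Steps.fwd (nat_lit 1048576) (Steps.bwd (nat_lit 9) (Steps.bwd (nat_lit 4) (Steps.bwd (nat_lit 8) (Steps.fwd (nat_lit 1048576) (Steps.bwd (nat_lit 9) (Steps.bwd (nat_lit 4) (Steps.fwd (nat_lit 2359296) (Steps.fwd (nat_lit 1048576) (Steps.fwd (nat_lit 2097152) (Steps.fwd (nat_lit 1048576) (Steps.fwd (nat_lit 2359296) Steps.nil))))))))))))))) (nat_lit 106) (nat_lit 2),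
  Rule.mk (nat_lit 9) (nat_lit 314) (Steps.bwd (nat_lit 4) (Steps.fwd (nat_lit 2359296) (Steps.fwd (nat_lit 1048576) (Steps.bwd (nat_lit 9) (Steps.bwd (nat_lit 4) (Steps.bwd (nat_lit 8) (Steps.bwd (nat_lit 4) (Steps.bwd (nat_lit 9) (Steps.fwd (nat_lit 1048576) (Steps.bwd (nat_lit 8) (Steps.bwd (nat_lit 4) (Steps.bwd (nat_lit 9) (Steps.bwd (nat_lit 4) (Steps.fwd (nat_lit 2359296) (Steps.bwd (nat_lit 4) Steps.nil))))))))))))))) (nat_lit 106) (nat_lit 3),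
  Rule.mk (nat_lit 8) (nat_lit 314) (Steps.bwd (nat_lit 4) (Steps.bwd (nat_lit 9) (Steps.fwd (nat_lit 1048576) (Steps.fwd (nat_lit 2359296) (Steps.fwd (nat_lit 1048576) (Steps.bwd (nat_lit 9) (Steps.bwd (nat_lit 4) (Steps.bwd (nat_lit 8) (Steps.bwd (nat_lit 4) (Steps.bwd (nat_lit 9) (Steps.bwd (nat_lit 4) (Steps.fwd (nat_lit 2359296) (Steps.fwd (nat_lit 1048576) (Steps.fwd (nat_lit 2097152) (Steps.fwd (nat_lit 1048576) Steps.nil))))))))))))))) (nat_lit 106) (nat_lit 1),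
  Rule.mk (nat_lit 9) (nat_lit 314) (Steps.bwd (nat_lit 4) (Steps.bwd (nat_lit 8) (Steps.bwd (nat_lit 4) (Steps.bwd (nat_lit 9) (Steps.fwd (nat_lit 1048576) (Steps.fwd (nat_lit 2359296) (Steps.fwd (nat_lit 1048576) (Steps.fwd (nat_lit 2097152) (Steps.fwd (nat_lit 1048576) (Steps.fwd (nat_lit 2359296) (Steps.fwd (nat_lit 1048576) (Steps.fwd (nat_lit 2097152) (Steps.bwd (nat_lit 4) (Steps.fwd (nat_lit 2359296) (Steps.bwd (nat_lit 4) Steps.nil))))))))))))))) (nat_lit 106) (nat_lit 3),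
  Rule.mk (nat_lit 4) (nat_lit 314) (Steps.bwd (nat_lit 8) (Steps.bwd (nat_lit 4) (Steps.bwd (nat_lit 9) (Steps.fwd (nat_lit 1048576) (Steps.fwd (nat_lit 2359296) (Steps.bwd (nat_lit 4) (Steps.bwd (nat_lit 9) (Steps.fwd (nat_lit 1048576) (Steps.fwd (nat_lit 2359296) (Steps.fwd (nat_lit 1048576) (Steps.bwd (nat_lit 9) (Steps.fwd (nat_lit 1048576) (Steps.fwd (nat_lit 2359296) (Steps.fwd (nat_lit 1048576) (Steps.fwd (nat_lit 2097152) Steps.nil))))))))))))))) (nat_lit 106) (nat_lit 0),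
  Rule.mk (nat_lit 4) (nat_lit 314) (Steps.bwd (nat_lit 9) (Steps.bwd (nat_lit 4) (Steps.bwd (nat_lit 8) (Steps.bwd (nat_lit 4) (Steps.bwd (nat_lit 9) (Steps.bwd (nat_lit 4) (Steps.bwd (nat_lit 8) (Steps.bwd (nat_lit 4) (Steps.bwd (nat_lit 9) (Steps.fwd (nat_lit 1048576) (Steps.fwd (nat_lit 2359296) (Steps.fwd (nat_lit 1048576) (Steps.fwd (nat_lit 2097152) (Steps.fwd (nat_lit 1048576) (Steps.bwd (nat_lit 8) Steps.nil))))))))))))))) (nat_lit 106) (nat_lit 2),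
  Rule.mk (nat_lit 8) (nat_lit 314) (Steps.bwd (nat_lit 4) (Steps.bwd (nat_lit 9) (Steps.fwd (nat_lit 1048576) (Steps.fwd (nat_lit 2359296) (Steps.fwd (nat_lit 1048576) (Steps.bwd (nat_lit 9) (Steps.fwd (nat_lit 1048576) (Steps.bwd (nat_lit 8) (Steps.bwd (nat_lit 4) (Steps.bwd (nat_lit 9) (Steps.fwd (nat_lit 1048576) (Steps.fwd (nat_lit 2359296) (Steps.bwd (nat_lit 4) (Steps.fwd (nat_lit 2097152) (Steps.fwd (nat_lit 1048576) Steps.nil))))))))))))))) (nat_lit 106) (nat_lit 1),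
  Rule.mk (nat_lit 8) (nat_lit 314) (Steps.bwd (nat_lit 4) (Steps.bwd (nat_lit 9) (Steps.bwd (nat_lit 4) (Steps.fwd (nat_lit 2359296) (Steps.bwd (nat_lit 4) (Steps.fwd (nat_lit 2097152) (Steps.bwd (nat_lit 4) (Steps.fwd (nat_lit 2359296) (Steps.fwd (nat_lit 1048576) (Steps.bwd (nat_lit 9) (Steps.bwd (nat_lit 4) (Steps.bwd (nat_lit 8) (Steps.bwd (nat_lit 4) (Steps.bwd (nat_lit 9) (Steps.bwd (nat_lit 4) Steps.nil))))))))))))))) (nat_lit 106) (nat_lit 1),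
  Rule.mk (nat_lit 9) (nat_lit 314) (Steps.bwd (nat_lit 4) (Steps.fwd (nat_lit 2359296) (Steps.bwd (nat_lit 4) (Steps.bwd (nat_lit 9) (Steps.fwd (nat_lit 1048576) (Steps.bwd (nat_lit 8) (Steps.bwd (nat_lit 4) (Steps.bwd (nat_lit 9) (Steps.bwd (nat_lit 4) (Steps.fwd (nat_lit 2359296) (Steps.fwd (nat_lit 1048576) (Steps.fwd (nat_lit 2097152) (Steps.bwd (nat_lit 4) (Steps.fwd (nat_lit 2359296) (Steps.fwd (nat_lit 1048576) Steps.nil))))))))))))))) (nat_lit 106) (nat_lit 3),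
  Rule.mk (nat_lit 4) (nat_lit 314) (Steps.bwd (nat_lit 8) (Steps.fwd (nat_lit 1048576) (Steps.bwd (nat_lit 9) (Steps.bwd (nat_lit 4) (Steps.bwd (nat_lit 8) (Steps.fwd (nat_lit 1048576) (Steps.fwd (nat_lit 2097152) (Steps.bwd (nat_lit 4) (Steps.bwd (nat_lit 8) (Steps.bwd (nat_lit 4) (Steps.bwd (nat_lit 9) (Steps.bwd (nat_lit 4) (Steps.fwd (nat_lit 2359296) (Steps.fwd (nat_lit 1048576) (Steps.bwd (nat_lit 9) Steps.nil))))))))))))))) (nat_lit 106) (nat_lit 0),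
  Rule.mk (nat_lit 4) (nat_lit 314) (Steps.bwd (nat_lit 9) (Steps.fwd (nat_lit 1048576) (Steps.bwd (nat_lit 8) (Steps.bwd (nat_lit 4) (Steps.fwd (nat_lit 2097152) (Steps.fwd (nat_lit 1048576) (Steps.bwd (nat_lit 8) (Steps.fwd (nat_lit 1048576) (Steps.bwd (nat_lit 9) (Steps.fwd (nat_lit 1048576) (Steps.fwd (nat_lit 2359296) (Steps.bwd (nat_lit 4) (Steps.bwd (nat_lit 9) (Steps.bwd (nat_lit 4) (Steps.fwd (nat_lit 2359296) Steps.nil))))))))))))))) (nat_lit 106) (nat_lit 2),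
  Rule.mk (nat_lit 4) (nat_lit 314) (Steps.bwd (nat_lit 9) (Steps.bwd (nat_lit 4) (Steps.bwd (nat_lit 8) (Steps.bwd (nat_lit 4) (Steps.bwd (nat_lit 9) (Steps.fwd (nat_lit 1048576) (Steps.fwd (nat_lit 2359296) (Steps.bwd (nat_lit 4) (Steps.fwd (nat_lit 2097152) (Steps.fwd (nat_lit 1048576) (Steps.fwd (nat_lit 2359296) (Steps.bwd (nat_lit 4) (Steps.bwd (nat_lit 9) (Steps.fwd (nat_lit 1048576) (Steps.bwd (nat_lit 8) Steps.nil))))))))))))))) (nat_lit 106) (nat_lit 2),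
  Rule.mk (nat_lit 9) (nat_lit 314) (Steps.bwd (nat_lit 4) (Steps.fwd (nat_lit 2359296) (Steps.bwd (nat_lit 4) (Steps.fwd (nat_lit 2097152) (Steps.bwd (nat_lit 4) (Steps.fwd (nat_lit 2359296) (Steps.fwd (nat_lit 1048576) (Steps.bwd (nat_lit 9) (Steps.bwd (nat_lit 4) (Steps.fwd (nat_lit 2359296) (Steps.fwd (nat_lit 1048576) (Steps.bwd (nat_lit 9) (Steps.fwd (nat_lit 1048576) (Steps.fwd (nat_lit 2359296) (Steps.fwd (nat_lit 1048576) Steps.nil))))))))))))))) (nat_lit 106) (nat_lit 3),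
  Rule.mk (nat_lit 9) (nat_lit 314) (Steps.bwd (nat_lit 4) (Steps.bwd (nat_lit 8) (Steps.fwd (nat_lit 1048576) (Steps.fwd (nat_lit 2097152) (Steps.bwd (nat_lit 4) (Steps.fwd (nat_lit 2359296) (Steps.fwd (nat_lit 1048576) (Steps.fwd (nat_lit 2097152) (Steps.bwd (nat_lit 4) (Steps.fwd (nat_lit 2359296) (Steps.fwd (nat_lit 1048576) (Steps.bwd (nat_lit 9) (Steps.bwd (nat_lit 4) (Steps.fwd (nat_lit 2359296) (Steps.bwd (nat_lit 4) Steps.nil))))))))))))))) (nat_lit 106) (nat_lit 3),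
  Rule.mk (nat_lit 4) (nat_lit 314) (Steps.bwd (nat_lit 8) (Steps.bwd (nat_lit 4) (Steps.bwd (nat_lit 9) (Steps.bwd (nat_lit 4) (Steps.fwd (nat_lit 2359296) (Steps.bwd (nat_lit 4) (Steps.bwd (nat_lit 9) (Steps.bwd (nat_lit 4) (Steps.bwd (nat_lit 8) (Steps.fwd (nat_lit 1048576) (Steps.fwd (nat_lit 2097152) (Steps.fwd (nat_lit 1048576) (Steps.bwd (nat_lit 8) (Steps.bwd (nat_lit 4) (Steps.bwd (nat_lit 9) Steps.nil))))))))))))))) (nat_lit 106) (nat_lit 0),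
  Rule.mk (nat_lit 8) (nat_lit 314) (Steps.bwd (nat_lit 4) (Steps.bwd (nat_lit 9) (Steps.bwd (nat_lit 4) (Steps.fwd (nat_lit 2359296) (Steps.bwd (nat_lit 4) (Steps.fwd (nat_lit 2097152) (Steps.fwd (nat_lit 1048576) (Steps.fwd (nat_lit 2359296) (Steps.fwd (nat_lit 1048576) (Steps.bwd (nat_lit 9) (Steps.fwd (nat_lit 1048576) (Steps.bwd (nat_lit 8) (Steps.fwd (nat_lit 1048576) (Steps.bwd (nat_lit 9) (Steps.fwd (nat_lit 1048576) Steps.nil))))))))))))))) (nat_lit 106) (nat_lit 1),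
  Rule.mk (nat_lit 8) (nat_lit 314) (Steps.bwd (nat_lit 4) (Steps.fwd (nat_lit 2097152) (Steps.fwd (nat_lit 1048576) (Steps.fwd (nat_lit 2359296) (Steps.bwd (nat_lit 4) (Steps.fwd (nat_lit 2097152) (Steps.bwd (nat_lit 4) (Steps.bwd (nat_lit 8) (Steps.bwd (nat_lit 4) (Steps.bwd (nat_lit 9) (Steps.bwd (nat_lit 4) (Steps.fwd (nat_lit 2359296) (Steps.fwd (nat_lit 1048576) (Steps.bwd (nat_lit 9) (Steps.bwd (nat_lit 4) Steps.nil))))))))))))))) (nat_lit 106) (nat_lit 1),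
  Rule.mk (nat_lit 4) (nat_lit 314) (Steps.bwd (nat_lit 8) (Steps.fwd (nat_lit 1048576) (Steps.bwd (nat_lit 9) (Steps.bwd (nat_lit 4) (Steps.fwd (nat_lit 2359296) (Steps.bwd (nat_lit 4) (Steps.bwd (nat_lit 9) (Steps.fwd (nat_lit 1048576) (Steps.fwd (nat_lit 2359296) (Steps.fwd (nat_lit 1048576) (Steps.bwd (nat_lit 9) (Steps.bwd (nat_lit 4) (Steps.fwd (nat_lit 2359296) (Steps.fwd (nat_lit 1048576) (Steps.fwd (nat_lit 2097152) Steps.nil))))))))))))))) (nat_lit 106) (nat_lit 0),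
  Rule.mk (nat_lit 8) (nat_lit 314) (Steps.bwd (nat_lit 4) (Steps.bwd (nat_lit 9) (Steps.fwd (nat_lit 1048576) (Steps.fwd (nat_lit 2359296) (Steps.fwd (nat_lit 1048576) (Steps.bwd (nat_lit 9) (Steps.bwd (nat_lit 4) (Steps.bwd (nat_lit 8) (Steps.bwd (nat_lit 4) (Steps.bwd (nat_lit 9) (Steps.fwd (nat_lit 1048576) (Steps.fwd (nat_lit 2359296) (Steps.fwd (nat_lit 1048576) (Steps.bwd (nat_lit 9) (Steps.fwd (nat_lit 1048576) Steps.nil))))))))))))))) (nat_lit 106) (nat_lit 1),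
  Rule.mk (nat_lit 9) (nat_lit 314) (Steps.bwd (nat_lit 4) (Steps.bwd (nat_lit 8) (Steps.bwd (nat_lit 4) (Steps.bwd (nat_lit 9) (Steps.fwd (nat_lit 1048576) (Steps.fwd (nat_lit 2359296) (Steps.bwd (nat_lit 4) (Steps.fwd (nat_lit 2097152) (Steps.fwd (nat_lit 1048576) (Steps.bwd (nat_lit 8) (Steps.bwd (nat_lit 4) (Steps.bwd (nat_lit 9) (Steps.fwd (nat_lit 1048576) (Steps.fwd (nat_lit 2359296) (Steps.fwd (nat_lit 1048576) Steps.nil))))))))))))))) (nat_lit 106) (nat_lit 3),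
  Rule.mk (nat_lit 8) (nat_lit 314) (Steps.bwd (nat_lit 4) (Steps.fwd (nat_lit 2097152) (Steps.bwd (nat_lit 4) (Steps.fwd (nat_lit 2359296) (Steps.bwd (nat_lit 4) (Steps.bwd (nat_lit 9) (Steps.fwd (nat_lit 1048576) (Steps.fwd (nat_lit 2359296) (Steps.fwd (nat_lit 1048576) (Steps.fwd (nat_lit 2097152) (Steps.fwd (nat_lit 1048576) (Steps.fwd (nat_lit 2359296) (Steps.fwd (nat_lit 1048576) (Steps.fwd (nat_lit 2097152) (Steps.fwd (nat_lit 1048576) Steps.nil))))))))))))))) (nat_lit 106) (nat_lit 1),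
  Rule.mk (nat_lit 4) (nat_lit 314) (Steps.bwd (nat_lit 9) (Steps.bwd (nat_lit 4) (Steps.fwd (nat_lit 2359296) (Steps.bwd (nat_lit 4) (Steps.fwd (nat_lit 2097152) (Steps.fwd (nat_lit 1048576) (Steps.fwd (nat_lit 2359296) (Steps.bwd (nat_lit 4) (Steps.fwd (nat_lit 2097152) (Steps.bwd (nat_lit 4) (Steps.bwd (nat_lit 8) (Steps.bwd (nat_lit 4) (Steps.bwd (nat_lit 9) (Steps.bwd (nat_lit 4) (Steps.bwd (nat_lit 8) Steps.nil))))))))))))))) (nat_lit 106) (nat_lit 2),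
  Rule.mk (nat_lit 1) (nat_lit 274) (Steps.fwd (nat_lit 1572864) (Steps.fwd (nat_lit 262144) (Steps.fwd (nat_lit 524288) (Steps.fwd (nat_lit 262144) (Steps.bwd (nat_lit 6) (Steps.bwd (nat_lit 1) (Steps.bwd (nat_lit 3) (Steps.bwd (nat_lit 1) (Steps.fwd (nat_lit 1572864) (Steps.fwd (nat_lit 262144) (Steps.bwd (nat_lit 3) (Steps.bwd (nat_lit 5) (Steps.bwd (nat_lit 6) Steps.nil))))))))))))) (nat_lit 35) (nat_lit 3),
  Rule.mk (nat_lit 8) (nat_lit 314) (Steps.bwd (nat_lit 4) (Steps.bwd (nat_lit 9) (Steps.bwd (nat_lit 4) (Steps.fwd (nat_lit 2359296) (Steps.fwd (nat_lit 1048576) (Steps.bwd (nat_lit 9) (Steps.fwd (nat_lit 1048576) (Steps.fwd (nat_lit 2359296) (Steps.bwd (nat_lit 4) (Steps.bwd (nat_lit 9) (Steps.bwd (nat_lit 4) (Steps.fwd (nat_lit 2359296) (Steps.bwd (nat_lit 4) (Steps.fwd (nat_lit 2097152) (Steps.fwd (nat_lit 1048576) Steps.nil))))))))))))))) (nat_lit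 106) (nat_lit 1),
  Rule.mk (nat_lit 4) (nat_lit 314) (Steps.bwd (nat_lit 9) (Steps.bwd (nat_lit 4) (Steps.fwd (nat_lit 2359296) (Steps.bwd (nat_lit 4) (Steps.bwd (nat_lit 9) (Steps.bwd (nat_lit 4) (Steps.fwd (nat_lit 2359296) (Steps.fwd (nat_lit 1048576) (Steps.fwd (nat_lit 2097152) (Steps.bwd (nat_lit 4) (Steps.bwd (nat_lit 8) (Steps.bwd (nat_lit 4) (Steps.bwd (nat_lit 9) (Steps.fwd (nat_lit 1048576) (Steps.bwd (nat_lit 8) Steps.nil))))))))))))))) (nat_lit 106) (nat_lit 2),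
  Rule.mk (nat_lit 9) (nat_lit 314) (Steps.bwd (nat_lit 4) (Steps.bwd (nat_lit 8) (Steps.fwd (nat_lit 1048576) (Steps.bwd (nat_lit 9) (Steps.bwd (nat_lit 4) (Steps.fwd (nat_lit 2359296) (Steps.bwd (nat_lit 4) (Steps.bwd (nat_lit 9) (Steps.fwd (nat_lit 1048576) (Steps.bwd (nat_lit 8) (Steps.fwd (nat_lit 1048576) (Steps.fwd (nat_lit 2097152) (Steps.bwd (nat_lit 4) (Steps.bwd (nat_lit 8) (Steps.fwd (nat_lit 1048576) Steps.nil))))))))))))))) (nat_lit 106) (nat_lit 3),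
  Rule.mk (nat_lit 4) (nat_lit 314) (Steps.bwd (nat_lit 8) (Steps.bwd (nat_lit 4) (Steps.bwd (nat_lit 9) (Steps.bwd (nat_lit 4) (Steps.fwd (nat_lit 2359296) (Steps.fwd (nat_lit 1048576) (Steps.fwd (nat_lit 2097152) (Steps.bwd (nat_lit 4) (Steps.fwd (nat_lit 2359296) (Steps.fwd (nat_lit 1048576) (Steps.bwd (nat_lit 9) (Steps.bwd (nat_lit 4) (Steps.bwd (nat_lit 8) (Steps.fwd (nat_lit 1048576) (Steps.fwd (nat_lit 2097152) Steps.nil))))))))))))))) (nat_lit 106) (nat_lit 0),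
  Rule.mk (nat_lit 4) (nat_lit 314) (Steps.bwd (nat_lit 9) (Steps.bwd (nat_lit 4) (Steps.fwd (nat_lit 2359296) (Steps.bwd (nat_lit 4) (Steps.bwd (nat_lit 9) (Steps.bwd (nat_lit 4) (Steps.fwd (nat_lit 2359296) (Steps.fwd (nat_lit 1048576) (Steps.fwd (nat_lit 2097152) (Steps.fwd (nat_lit 1048576) (Steps.bwd (nat_lit 8) (Steps.bwd (nat_lit 4) (Steps.fwd (nat_lit 2097152) (Steps.bwd (nat_lit 4) (Steps.fwd (nat_lit 2359296) Steps.nil))))))))))))))) (nat_lit 106) (nat_lit 2),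
  Rule.mk (nat_lit 7) (nat_lit 114) (Steps.fwd (nat_lit 786432) (Steps.bwd (nat_lit 4) (Steps.fwd (nat_lit 1835008) (Steps.bwd (nat_lit 2) (Steps.bwd (nat_lit 4) Steps.nil))))) (nat_lit 56) (nat_lit 0)]
noncomputable def R_127 : List (Rule) := [Rule.mk (nat_lit 9) (nat_lit 314) (Steps.bwd (nat_lit 4) (Steps.bwd (nat_lit 8) (Steps.fwd (nat_lit 1048576) (Steps.fwd (nat_lit 2097152) (Steps.bwd (nat_lit 4) (Steps.fwd (nat_lit 2359296) (Steps.fwd (nat_lit 1048576) (Steps.bwd (nat_lit 9) (Steps.fwd (nat_lit 1048576) (Steps.fwd (nat_lit 2359296) (Steps.fwd (nat_lit 1048576) (Steps.fwd (nat_lit 2097152) (Steps.bwd (nat_lit 4) (Steps.bwd (nat_lit 8) (Steps.bwd (nat_lit 4) Steps.nil))))))))))))))) (nat_lit 106) (nat_lit 3),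
  Rule.mk (nat_lit 8) (nat_lit 314) (Steps.bwd (nat_lit 4) (Steps.bwd (nat_lit 9) (Steps.bwd (nat_lit 4) (Steps.bwd (nat_lit 8) (Steps.bwd (nat_lit 4) (Steps.bwd (nat_lit 9) (Steps.fwd (nat_lit 1048576) (Steps.bwd (nat_lit 8) (Steps.fwd (nat_lit 1048576) (Steps.fwd (nat_lit 2097152) (Steps.bwd (nat_lit 4) (Steps.bwd (nat_lit 8) (Steps.fwd (nat_lit 1048576) (Steps.fwd (nat_lit 2097152) (Steps.fwd (nat_lit 1048576) Steps.nil))))))))))))))) (nat_lit 106) (nat_lit 1),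
  Rule.mk (nat_lit 8) (nat_lit 314) (Steps.bwd (nat_lit 4) (Steps.bwd (nat_lit 9) (Steps.fwd (nat_lit 1048576) (Steps.fwd (nat_lit 2359296) (Steps.fwd (nat_lit 1048576) (Steps.fwd (nat_lit 2097152) (Steps.bwd (nat_lit 4) (Steps.bwd (nat_lit 8) (Steps.fwd (nat_lit 1048576) (Steps.bwd (nat_lit 9) (Steps.bwd (nat_lit 4) (Steps.bwd (nat_lit 8) (Steps.bwd (nat_lit 4) (Steps.fwd (nat_lit 2097152) (Steps.fwd (nat_lit 1048576) Steps.nil))))))))))))))) (nat_lit 106) (nat_lit 1),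
  Rule.mk (nat_lit 8) (nat_lit 314) (Steps.bwd (nat_lit 4) (Steps.bwd (nat_lit 9) (Steps.bwd (nat_lit 4) (Steps.fwd (nat_lit 2359296) (Steps.bwd (nat_lit 4) (Steps.fwd (nat_lit 2097152) (Steps.fwd (nat_lit 1048576) (Steps.fwd (nat_lit 2359296) (Steps.fwd (nat_lit 1048576) (Steps.fwd (nat_lit 2097152) (Steps.bwd (nat_lit 4) (Steps.fwd (nat_lit 2359296) (Steps.bwd (nat_lit 4) (Steps.fwd (nat_lit 2097152) (Steps.fwd (nat_lit 1048576) Steps.nil))))))))))))))) (nat_lit 106) (nat_lit 1),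
  Rule.mk (nat_lit 4) (nat_lit 314) (Steps.bwd (nat_lit 8) (Steps.bwd (nat_lit 4) (Steps.bwd (nat_lit 9) (Steps.bwd (nat_lit 4) (Steps.bwd (nat_lit 8) (Steps.bwd (nat_lit 4) (Steps.fwd (nat_lit 2097152) (Steps.fwd (nat_lit 1048576) (Steps.fwd (nat_lit 2359296) (Steps.bwd (nat_lit 4) (Steps.bwd (nat_lit 9) (Steps.bwd (nat_lit 4) (Steps.fwd (nat_lit 2359296) (Steps.fwd (nat_lit 1048576) (Steps.fwd (nat_lit 2097152) Steps.nil))))))))))))))) (nat_lit 106) (nat_lit 0),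
  Rule.mk (nat_lit 9) (nat_lit 314) (Steps.bwd (nat_lit 4) (Steps.bwd (nat_lit 8) (Steps.bwd (nat_lit 4) (Steps.bwd (nat_lit 9) (Steps.bwd (nat_lit 4) (Steps.bwd (nat_lit 8) (Steps.fwd (nat_lit 1048576) (Steps.fwd (nat_lit 2097152) (Steps.fwd (nat_lit 1048576) (Steps.bwd (nat_lit 8) (Steps.bwd (nat_lit 4) (Steps.bwd (nat_lit 9) (Steps.bwd (nat_lit 4) (Steps.fwd (nat_lit 2359296) (Steps.bwd (nat_lit 4) Steps.nil))))))))))))))) (nat_lit 106) (nat_lit 3),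
  Rule.mk (nat_lit 9) (nat_lit 314) (Steps.bwd (nat_lit 4) (Steps.bwd (nat_lit 8) (Steps.fwd (nat_lit 1048576) (Steps.bwd (nat_lit 9) (Steps.bwd (nat_lit 4) (Steps.bwd (nat_lit 8) (Steps.fwd (nat_lit 1048576) (Steps.bwd (nat_lit 9) (Steps.fwd (nat_lit 1048576) (Steps.bwd (nat_lit 8) (Steps.fwd (nat_lit 1048576) (Steps.fwd (nat_lit 2097152) (Steps.bwd (nat_lit 4) (Steps.fwd (nat_lit 2359296) (Steps.bwd (nat_lit 4) Steps.nil))))))))))))))) (nat_lit 106) (nat_lit 3),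
  Rule.mk (nat_lit 9) (nat_lit 314) (Steps.bwd (nat_lit 4) (Steps.fwd (nat_lit 2359296) (Steps.fwd (nat_lit 1048576) (Steps.fwd (nat_lit 2097152) (Steps.bwd (nat_lit 4) (Steps.fwd (nat_lit 2359296) (Steps.bwd (nat_lit 4) (Steps.bwd (nat_lit 9) (Steps.fwd (nat_lit 1048576) (Steps.bwd (nat_lit 8) (Steps.bwd (nat_lit 4) (Steps.fwd (nat_lit 2097152) (Steps.fwd (nat_lit 1048576) (Steps.fwd (nat_lit 2359296) (Steps.bwd (nat_lit 4) Steps.nil))))))))))))))) (nat_lit 106) (nat_lit 3),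
  Rule.mk (nat_lit 6) (nat_lit 274) (Steps.bwd (nat_lit 1) (Steps.fwd (nat_lit 1572864) (Steps.fwd (nat_lit 1310720) (Steps.bwd (nat_lit 2) (Steps.fwd (nat_lit 262144) (Steps.bwd (nat_lit 6) (Steps.fwd (nat_lit 262144) (Steps.bwd (nat_lit 2) (Steps.bwd (nat_lit 1) (Steps.bwd (nat_lit 6) (Steps.fwd (nat_lit 262144) (Steps.bwd (nat_lit 2) (Steps.bwd (nat_lit 1) Steps.nil))))))))))))) (nat_lit 34) (nat_lit 11),
  Rule.mk (nat_lit 9) (nat_lit 314) (Steps.bwd (nat_lit 4) (Steps.bwd (nat_lit 8) (Steps.fwd (nat_lit 1048576) (Steps.bwd (nat_lit 9) (Steps.bwd (nat_lit 4) (Steps.fwd (nat_lit 2359296) (Steps.fwd (nat_lit 1048576) (Steps.bwd (nat_lit 9) (Steps.bwd (nat_lit 4) (Steps.bwd (nat_lit 8) (Steps.bwd (nat_lit 4) (Steps.bwd (nat_lit 9) (Steps.fwd (nat_lit 1048576) (Steps.fwd (nat_lit 2359296) (Steps.bwd (nat_lit 4) Steps.nil))))))))))))))) (nat_lit 106) (nat_lit 3),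
  Rule.mk (nat_lit 8) (nat_lit 314) (Steps.fwd (nat_lit 1048576) (Steps.fwd (nat_lit 2097152) (Steps.fwd (nat_lit 1048576) (Steps.fwd (nat_lit 2359296) (Steps.bwd (nat_lit 4) (Steps.bwd (nat_lit 9) (Steps.bwd (nat_lit 4) (Steps.fwd (nat_lit 2359296) (Steps.bwd (nat_lit 4) (Steps.fwd (nat_lit 2097152) (Steps.bwd (nat_lit 4) (Steps.fwd (nat_lit 2359296) (Steps.bwd (nat_lit 4) (Steps.bwd (nat_lit 9) (Steps.bwd (nat_lit 4) Steps.nil))))))))))))))) (nat_lit 106) (nat_lit 1),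
  Rule.mk (nat_lit 7) (nat_lit 154) (Steps.fwd (nat_lit 786432) (Steps.fwd (nat_lit 262144) (Steps.bwd (nat_lit 2) (Steps.fwd (nat_lit 1835008) (Steps.fwd (nat_lit 262144) (Steps.bwd (nat_lit 2) (Steps.bwd (nat_lit 1) Steps.nil))))))) (nat_lit 72) (nat_lit 4),
  Rule.mk (nat_lit 9) (nat_lit 314) (Steps.bwd (nat_lit 4) (Steps.bwd (nat_lit 8) (Steps.bwd (nat_lit 4) (Steps.bwd (nat_lit 9) (Steps.fwd (nat_lit 1048576) (Steps.bwd (nat_lit 8) (Steps.fwd (nat_lit 1048576) (Steps.bwd (nat_lit 9) (Steps.bwd (nat_lit 4) (Steps.bwd (nat_lit 8) (Steps.bwd (nat_lit 4) (Steps.bwd (nat_lit 9) (Steps.bwd (nat_lit 4) (Steps.fwd (nat_lit 2359296) (Steps.fwd (nat_lit 1048576) Steps.nil))))))))))))))) (nat_lit 106) (nat_lit 3),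
  Rule.mk (nat_lit 4) (nat_lit 314) (Steps.bwd (nat_lit 9) (Steps.fwd (nat_lit 1048576) (Steps.fwd (nat_lit 2359296) (Steps.bwd (nat_lit 4) (Steps.bwd (nat_lit 9) (Steps.bwd (nat_lit 4) (Steps.fwd (nat_lit 2359296) (Steps.bwd (nat_lit 4) (Steps.bwd (nat_lit 9) (Steps.fwd (nat_lit 1048576) (Steps.fwd (nat_lit 2359296) (Steps.bwd (nat_lit 4) (Steps.bwd (nat_lit 9) (Steps.bwd (nat_lit 4) (Steps.bwd (nat_lit 8) Steps.nil))))))))))))))) (nat_lit 106) (nat_lit 2),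
  Rule.mk (nat_lit 4) (nat_lit 314) (Steps.bwd (nat_lit 9) (Steps.bwd (nat_lit 4) (Steps.bwd (nat_lit 8) (Steps.bwd (nat_lit 4) (Steps.bwd (nat_lit 9) (Steps.bwd (nat_lit 4) (Steps.fwd (nat_lit 2359296) (Steps.fwd (nat_lit 1048576) (Steps.bwd (nat_lit 9) (Steps.fwd (nat_lit 1048576) (Steps.bwd (nat_lit 8) (Steps.bwd (nat_lit 4) (Steps.fwd (nat_lit 2097152) (Steps.bwd (nat_lit 4) (Steps.fwd (nat_lit 2359296) Steps.nil))))))))))))))) (nat_lit 106) (nat_lit 2),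
  Rule.mk (nat_lit 4) (nat_lit 314) (Steps.bwd (nat_lit 8) (Steps.fwd (nat_lit 1048576) (Steps.fwd (nat_lit 2097152) (Steps.fwd (nat_lit 1048576) (Steps.bwd (nat_lit 8) (Steps.bwd (nat_lit 4) (Steps.bwd (nat_lit 9) (Steps.bwd (nat_lit 4) (Steps.fwd (nat_lit 2359296) (Steps.bwd (nat_lit 4) (Steps.bwd (nat_lit 9) (Steps.fwd (nat_lit 1048576) (Steps.fwd (nat_lit 2359296) (Steps.fwd (nat_lit 1048576) (Steps.bwd (nat_lit 9) Steps.nil))))))))))))))) (nat_lit 106) (nat_lit 0),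
  Rule.mk (nat_lit 4) (nat_lit 314) (Steps.bwd (nat_lit 8) (Steps.fwd (nat_lit 1048576) (Steps.bwd (nat_lit 9) (Steps.fwd (nat_lit 1048576) (Steps.fwd (nat_lit 2359296) (Steps.fwd (nat_lit 1048576) (Steps.fwd (nat_lit 2097152) (Steps.fwd (nat_lit 1048576) (Steps.fwd (nat_lit 2359296) (Steps.fwd (nat_lit 1048576) (Steps.fwd (nat_lit 2097152) (Steps.bwd (nat_lit 4) (Steps.fwd (nat_lit 2359296) (Steps.fwd (nat_lit 1048576) (Steps.fwd (nat_lit 2097152) Steps.nil))))))))))))))) (nat_lit 106) (nat_lit 0),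
  Rule.mk (nat_lit 1) (nat_lit 274) (Steps.bwd (nat_lit 6) (Steps.fwd (nat_lit 1310720) (Steps.fwd (nat_lit 786432) (Steps.fwd (nat_lit 262144) (Steps.fwd (nat_lit 1572864) (Steps.bwd (nat_lit 1) (Steps.fwd (nat_lit 786432) (Steps.bwd (nat_lit 1) (Steps.fwd (nat_lit 1572864) (Steps.fwd (nat_lit 262144) (Steps.bwd (nat_lit 2) (Steps.fwd (nat_lit 262144) (Steps.bwd (nat_lit 6) Steps.nil))))))))))))) (nat_lit 34) (nat_lit 12),
  Rule.mk (nat_lit 4) (nat_lit 314) (Steps.bwd (nat_lit 9) (Steps.bwd (nat_lit 4) (Steps.bwd (nat_lit 8) (Steps.bwd (nat_lit 4) (Steps.bwd (nat_lit 9) (Steps.bwd (nat_lit 4) (Steps.fwd (nat_lit 2359296) (Steps.fwd (nat_lit 1048576) (Steps.bwd (nat_lit 9) (Steps.bwd (nat_lit 4) (Steps.fwd (nat_lit 2359296) (Steps.fwd (nat_lit 1048576) (Steps.fwd (nat_lit 2097152) (Steps.bwd (nat_lit 4) (Steps.bwd (nat_lit 8) Steps.nil))))))))))))))) (nat_lit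 106) (nat_lit 2),
  Rule.mk (nat_lit 4) (nat_lit 314) (Steps.bwd (nat_lit 9) (Steps.bwd (nat_lit 4) (Steps.fwd (nat_lit 2359296) (Steps.fwd (nat_lit 1048576) (Steps.bwd (nat_lit 9) (Steps.bwd (nat_lit 4) (Steps.fwd (nat_lit 2359296) (Steps.bwd (nat_lit 4) (Steps.bwd (nat_lit 9) (Steps.fwd (nat_lit 1048576) (Steps.fwd (nat_lit 2359296) (Steps.bwd (nat_lit 4) (Steps.fwd (nat_lit 2097152) (Steps.fwd (nat_lit 1048576) (Steps.fwd (nat_lit 2359296) Steps.nil))))))))))))))) (nat_lit 106) (nat_lit 2),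
  Rule.mk (nat_lit 4) (nat_lit 314) (Steps.bwd (nat_lit 9) (Steps.fwd (nat_lit 1048576) (Steps.fwd (nat_lit 2359296) (Steps.bwd (nat_lit 4) (Steps.bwd (nat_lit 9) (Steps.fwd (nat_lit 1048576) (Steps.fwd (nat_lit 2359296) (Steps.fwd (nat_lit 1048576) (Steps.bwd (nat_lit 9) (Steps.bwd (nat_lit 4) (Steps.fwd (nat_lit 2359296) (Steps.fwd (nat_lit 1048576) (Steps.bwd (nat_lit 9) (Steps.bwd (nat_lit 4) (Steps.fwd (nat_lit 2359296) Steps.nil))))))))))))))) (nat_lit 106) (nat_lit 2),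
  Rule.mk (nat_lit 1) (nat_lit 154) (Steps.fwd (nat_lit 1048576) (Steps.fwd (nat_lit 1835008) (Steps.bwd (nat_lit 1) (Steps.bwd (nat_lit 4) (Steps.fwd (nat_lit 262144) (Steps.bwd (nat_lit 7) (Steps.fwd (nat_lit 1048576) Steps.nil))))))) (nat_lit 76) (nat_lit 6),
  Rule.mk (nat_lit 4) (nat_lit 314) (Steps.bwd (nat_lit 8) (Steps.bwd (nat_lit 4) (Steps.bwd (nat_lit 9) (Steps.bwd (nat_lit 4) (Steps.fwd (nat_lit 2359296) (Steps.fwd (nat_lit 1048576) (Steps.fwd (nat_lit 2097152) (Steps.bwd (nat_lit 4) (Steps.bwd (nat_lit 8) (Steps.fwd (nat_lit 1048576) (Steps.fwd (nat_lit 2097152) (Steps.fwd (nat_lit 1048576) (Steps.bwd (nat_lit 8) (Steps.fwd (nat_lit 1048576) (Steps.fwd (nat_lit 2097152) Steps.nil))))))))))))))) (nat_lit 106) (nat_lit 0),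
  Rule.mk (nat_lit 9) (nat_lit 314) (Steps.bwd (nat_lit 4) (Steps.bwd (nat_lit 8) (Steps.fwd (nat_lit 1048576) (Steps.bwd (nat_lit 9) (Steps.fwd (nat_lit 1048576) (Steps.fwd (nat_lit 2359296) (Steps.bwd (nat_lit 4) (Steps.fwd (nat_lit 2097152) (Steps.bwd (nat_lit 4) (Steps.bwd (nat_lit 8) (Steps.bwd (nat_lit 4) (Steps.bwd (nat_lit 9) (Steps.fwd (nat_lit 1048576) (Steps.fwd (nat_lit 2359296) (Steps.fwd (nat_lit 1048576) Steps.nil))))))))))))))) (nat_lit 106) (nat_lit 3),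
  Rule.mk (nat_lit 8) (nat_lit 314) (Steps.bwd (nat_lit 4) (Steps.bwd (nat_lit 9) (Steps.bwd (nat_lit 4) (Steps.fwd (nat_lit 2359296) (Steps.bwd (nat_lit 4) (Steps.fwd (nat_lit 2097152) (Steps.fwd (nat_lit 1048576) (Steps.bwd (nat_lit 8) (Steps.fwd (nat_lit 1048576) (Steps.bwd (nat_lit 9) (Steps.bwd (nat_lit 4) (Steps.fwd (nat_lit 2359296) (Steps.bwd (nat_lit 4) (Steps.fwd (nat_lit 2097152) (Steps.bwd (nat_lit 4) Steps.nil))))))))))))))) (nat_lit 106) (nat_lit 1),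
  Rule.mk (nat_lit 4) (nat_lit 314) (Steps.bwd (nat_lit 9) (Steps.bwd (nat_lit 4) (Steps.fwd (nat_lit 2359296) (Steps.fwd (nat_lit 1048576) (Steps.fwd (nat_lit 2097152) (Steps.fwd (nat_lit 1048576) (Steps.bwd (nat_lit 8) (Steps.bwd (nat_lit 4) (Steps.bwd (nat_lit 9) (Steps.bwd (nat_lit 4) (Steps.bwd (nat_lit 8) (Steps.bwd (nat_lit 4) (Steps.bwd (nat_lit 9) (Steps.fwd (nat_lit 1048576) (Steps.fwd (nat_lit 2359296) Steps.nil))))))))))))))) (nat_lit 106) (nat_lit 2),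
  Rule.mk (nat_lit 3) (nat_lit 154) (Steps.bwd (nat_lit 1) (Steps.bwd (nat_lit 5) (Steps.fwd (nat_lit 524288) (Steps.fwd (nat_lit 262144) (Steps.bwd (nat_lit 3) (Steps.fwd (nat_lit 1310720) (Steps.bwd (nat_lit 1) Steps.nil))))))) (nat_lit 71) (nat_lit 7),
  Rule.mk (nat_lit 9) (nat_lit 314) (Steps.bwd (nat_lit 4) (Steps.bwd (nat_lit 8) (Steps.bwd (nat_lit 4) (Steps.bwd (nat_lit 9) (Steps.fwd (nat_lit 1048576) (Steps.fwd (nat_lit 2359296) (Steps.fwd (nat_lit 1048576) (Steps.fwd (nat_lit 2097152) (Steps.fwd (nat_lit 1048576) (Steps.fwd (nat_lit 2359296) (Steps.fwd (nat_lit 1048576) (Steps.bwd (nat_lit 9) (Steps.bwd (nat_lit 4) (Steps.fwd (nat_lit 2359296) (Steps.bwd (nat_lit 4) Steps.nil))))))))))))))) (nat_lit 106) (nat_lit 3),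
  Rule.mk (nat_lit 4) (nat_lit 314) (Steps.bwd (nat_lit 9) (Steps.bwd (nat_lit 4) (Steps.bwd (nat_lit 8) (Steps.bwd (nat_lit 4) (Steps.bwd (nat_lit 9) (Steps.fwd (nat_lit 1048576) (Steps.fwd (nat_lit 2359296) (Steps.bwd (nat_lit 4) (Steps.bwd (nat_lit 9) (Steps.fwd (nat_lit 1048576) (Steps.fwd (nat_lit 2359296) (Steps.fwd (nat_lit 1048576) (Steps.fwd (nat_lit 2097152) (Steps.fwd (nat_lit 1048576) (Steps.bwd (nat_lit 8) Steps.nil))))))))))))))) (nat_lit 106) (nat_lit 2),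
  Rule.mk (nat_lit 4) (nat_lit 314) (Steps.bwd (nat_lit 9) (Steps.bwd (nat_lit 4) (Steps.fwd (nat_lit 2359296) (Steps.fwd (nat_lit 1048576) (Steps.bwd (nat_lit 9) (Steps.fwd (nat_lit 1048576) (Steps.bwd (nat_lit 8) (Steps.bwd (nat_lit 4) (Steps.bwd (nat_lit 9) (Steps.fwd (nat_lit 1048576) (Steps.bwd (nat_lit 8) (Steps.bwd (nat_lit 4) (Steps.bwd (nat_lit 9) (Steps.fwd (nat_lit 1048576) (Steps.bwd (nat_lit 8) Steps.nil))))))))))))))) (nat_lit 106) (nat_lit 2),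
  Rule.mk (nat_lit 4) (nat_lit 314) (Steps.bwd (nat_lit 8) (Steps.fwd (nat_lit 1048576) (Steps.fwd (nat_lit 2097152) (Steps.fwd (nat_lit 1048576) (Steps.fwd (nat_lit 2359296) (Steps.fwd (nat_lit 1048576) (Steps.fwd (nat_lit 2097152) (Steps.fwd (nat_lit 1048576) (Steps.fwd (nat_lit 2359296) (Steps.fwd (nat_lit 1048576) (Steps.fwd (nat_lit 2097152) (Steps.bwd (nat_lit 4) (Steps.bwd (nat_lit 8) (Steps.bwd (nat_lit 4) (Steps.fwd (nat_lit 2097152) Steps.nil))))))))))))))) (nat_lit 106) (nat_lit 0),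
  Rule.mk (nat_lit 9) (nat_lit 314) (Steps.fwd (nat_lit 1048576) (Steps.fwd (nat_lit 2359296) (Steps.bwd (nat_lit 4) (Steps.bwd (nat_lit 9) (Steps.fwd (nat_lit 1048576) (Steps.fwd (nat_lit 2359296) (Steps.fwd (nat_lit 1048576) (Steps.fwd (nat_lit 2097152) (Steps.fwd (nat_lit 1048576) (Steps.bwd (nat_lit 8) (Steps.bwd (nat_lit 4) (Steps.fwd (nat_lit 2097152) (Steps.bwd (nat_lit 4) (Steps.bwd (nat_lit 8) (Steps.bwd (nat_lit 4) Steps.nil))))))))))))))) (nat_lit 106) (nat_lit 3),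
  Rule.mk (nat_lit 6) (nat_lit 274) (Steps.bwd (nat_lit 1) (Steps.bwd (nat_lit 6) (Steps.fwd (nat_lit 1310720) (Steps.bwd (nat_lit 2) (Steps.fwd (nat_lit 262144) (Steps.fwd (nat_lit 1572864) (Steps.fwd (nat_lit 262144) (Steps.bwd (nat_lit 2) (Steps.bwd (nat_lit 1) (Steps.bwd (nat_lit 6) (Steps.fwd (nat_lit 262144) (Steps.fwd (nat_lit 786432) (Steps.bwd (nat_lit 1) Steps.nil))))))))))))) (nat_lit 34) (nat_lit 11),
  Rule.mk (nat_lit 6) (nat_lit 114) (Steps.bwd (nat_lit 2) (Steps.bwd (nat_lit 7) (Steps.fwd (nat_lit 1572864) (Steps.bwd (nat_lit 3) (Steps.bwd (nat_lit 7) Steps.nil))))) (nat_lit 63) (nat_lit 2),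
  Rule.mk (nat_lit 9) (nat_lit 314) (Steps.bwd (nat_lit 4) (Steps.fwd (nat_lit 2359296) (Steps.bwd (nat_lit 4) (Steps.fwd (nat_lit 2097152) (Steps.bwd (nat_lit 4) (Steps.bwd (nat_lit 8) (Steps.bwd (nat_lit 4) (Steps.bwd (nat_lit 9) (Steps.bwd (nat_lit 4) (Steps.bwd (nat_lit 8) (Steps.fwd (nat_lit 1048576) (Steps.bwd (nat_lit 9) (Steps.bwd (nat_lit 4) (Steps.fwd (nat_lit 2359296) (Steps.fwd (nat_lit 1048576) Steps.nil))))))))))))))) (nat_lit 106) (nat_lit 3),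
  Rule.mk (nat_lit 8) (nat_lit 314) (Steps.bwd (nat_lit 4) (Steps.bwd (nat_lit 9) (Steps.bwd (nat_lit 4) (Steps.bwd (nat_lit 8) (Steps.bwd (nat_lit 4) (Steps.fwd (nat_lit 2097152) (Steps.bwd (nat_lit 4) (Steps.fwd (nat_lit 2359296) (Steps.fwd (nat_lit 1048576) (Steps.bwd (nat_lit 9) (Steps.fwd (nat_lit 1048576) (Steps.bwd (nat_lit 8) (Steps.fwd (nat_lit 1048576) (Steps.fwd (nat_lit 2097152) (Steps.fwd (nat_lit 1048576) Steps.nil))))))))))))))) (nat_lit 106) (nat_lit 1),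
  Rule.mk (nat_lit 6) (nat_lit 114) (Steps.bwd (nat_lit 3) (Steps.fwd (nat_lit 1835008) (Steps.fwd (nat_lit 1572864) (Steps.bwd (nat_lit 2) (Steps.bwd (nat_lit 7) Steps.nil))))) (nat_lit 63) (nat_lit 5),
  Rule.mk (nat_lit 8) (nat_lit 314) (Steps.bwd (nat_lit 4) (Steps.bwd (nat_lit 9) (Steps.fwd (nat_lit 1048576) (Steps.fwd (nat_lit 2359296) (Steps.fwd (nat_lit 1048576) (Steps.bwd (nat_lit 9) (Steps.fwd (nat_lit 1048576) (Steps.fwd (nat_lit 2359296) (Steps.bwd (nat_lit 4) (Steps.fwd (nat_lit 2097152) (Steps.bwd (nat_lit 4) (Steps.bwd (nat_lit 8) (Steps.bwd (nat_lit 4) (Steps.fwd (nat_lit 2097152) (Steps.bwd (nat_lit 4) Steps.nil))))))))))))))) (nat_lit 106) (nat_lit 1),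
  Rule.mk (nat_lit 4) (nat_lit 314) (Steps.bwd (nat_lit 8) (Steps.bwd (nat_lit 4) (Steps.bwd (nat_lit 9) (Steps.bwd (nat_lit 4) (Steps.fwd (nat_lit 2359296) (Steps.fwd (nat_lit 1048576) (Steps.fwd (nat_lit 2097152) (Steps.fwd (nat_lit 1048576) (Steps.fwd (nat_lit 2359296) (Steps.bwd (nat_lit 4) (Steps.fwd (nat_lit 2097152) (Steps.bwd (nat_lit 4) (Steps.fwd (nat_lit 2359296) (Steps.fwd (nat_lit 1048576) (Steps.fwd (nat_lit 2097152) Steps.nil))))))))))))))) (nat_lit 106) (nat_lit 0),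
  Rule.mk (nat_lit 8) (nat_lit 314) (Steps.bwd (nat_lit 4) (Steps.bwd (nat_lit 9) (Steps.bwd (nat_lit 4) (Steps.bwd (nat_lit 8) (Steps.fwd (nat_lit 1048576) (Steps.bwd (nat_lit 9) (Steps.bwd (nat_lit 4) (Steps.fwd (nat_lit 2359296) (Steps.bwd (nat_lit 4) (Steps.fwd (nat_lit 2097152) (Steps.bwd (nat_lit 4) (Steps.bwd (nat_lit 8) (Steps.fwd (nat_lit 1048576) (Steps.bwd (nat_lit 9) (Steps.fwd (nat_lit 1048576) Steps.nil))))))))))))))) (nat_lit 106) (nat_lit 1),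
  Rule.mk (nat_lit 8) (nat_lit 314) (Steps.bwd (nat_lit 4) (Steps.bwd (nat_lit 9) (Steps.bwd (nat_lit 4) (Steps.bwd (nat_lit 8) (Steps.fwd (nat_lit 1048576) (Steps.bwd (nat_lit 9) (Steps.bwd (nat_lit 4) (Steps.fwd (nat_lit 2359296) (Steps.bwd (nat_lit 4) (Steps.fwd (nat_lit 2097152) (Steps.fwd (nat_lit 1048576) (Steps.bwd (nat_lit 8) (Steps.bwd (nat_lit 4) (Steps.fwd (nat_lit 2097152) (Steps.fwd (nat_lit 1048576) Steps.nil))))))))))))))) (nat_lit 106) (nat_lit 1),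
  Rule.mk (nat_lit 4) (nat_lit 314) (Steps.bwd (nat_lit 9) (Steps.fwd (nat_lit 1048576) (Steps.fwd (nat_lit 2359296) (Steps.fwd (nat_lit 1048576) (Steps.bwd (nat_lit 9) (Steps.fwd (nat_lit 1048576) (Steps.bwd (nat_lit 8) (Steps.fwd (nat_lit 1048576) (Steps.fwd (nat_lit 2097152) (Steps.fwd (nat_lit 1048576) (Steps.fwd (nat_lit 2359296) (Steps.fwd (nat_lit 1048576) (Steps.bwd (nat_lit 9) (Steps.fwd (nat_lit 1048576) (Steps.bwd (nat_lit 8) Steps.nil))))))))))))))) (nat_lit 106) (nat_lit 2),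
  Rule.mk (nat_lit 4) (nat_lit 314) (Steps.bwd (nat_lit 8) (Steps.fwd (nat_lit 1048576) (Steps.bwd (nat_lit 9) (Steps.bwd (nat_lit 4) (Steps.bwd (nat_lit 8) (Steps.bwd (nat_lit 4) (Steps.fwd (nat_lit 2097152) (Steps.fwd (nat_lit 1048576) (Steps.bwd (nat_lit 8) (Steps.bwd (nat_lit 4) (Steps.bwd (nat_lit 9) (Steps.fwd (nat_lit 1048576) (Steps.fwd (nat_lit 2359296) (Steps.bwd (nat_lit 4) (Steps.bwd (nat_lit 9) Steps.nil))))))))))))))) (nat_lit 106) (nat_lit 0),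
  Rule.mk (nat_lit 8) (nat_lit 314) (Steps.bwd (nat_lit 4) (Steps.bwd (nat_lit 9) (Steps.bwd (nat_lit 4) (Steps.fwd (nat_lit 2359296) (Steps.bwd (nat_lit 4) (Steps.bwd (nat_lit 9) (Steps.fwd (nat_lit 1048576) (Steps.fwd (nat_lit 2359296) (Steps.fwd (nat_lit 1048576) (Steps.bwd (nat_lit 9) (Steps.bwd (nat_lit 4) (Steps.bwd (nat_lit 8) (Steps.bwd (nat_lit 4) (Steps.bwd (nat_lit 9) (Steps.bwd (nat_lit 4) Steps.nil))))))))))))))) (nat_lit 106) (nat_lit 1),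
  Rule.mk (nat_lit 8) (nat_lit 314) (Steps.bwd (nat_lit 4) (Steps.bwd (nat_lit 9) (Steps.bwd (nat_lit 4) (Steps.fwd (nat_lit 2359296) (Steps.bwd (nat_lit 4) (Steps.bwd (nat_lit 9) (Steps.fwd (nat_lit 1048576) (Steps.fwd (nat_lit 2359296) (Steps.bwd (nat_lit 4) (Steps.bwd (nat_lit 9) (Steps.bwd (nat_lit 4) (Steps.bwd (nat_lit 8) (Steps.fwd (nat_lit 1048576) (Steps.fwd (nat_lit 2097152) (Steps.bwd (nat_lit 4) Steps.nil))))))))))))))) (nat_lit 106) (nat_lit 1),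
  Rule.mk (nat_lit 9) (nat_lit 314) (Steps.bwd (nat_lit 4) (Steps.bwd (nat_lit 8) (Steps.fwd (nat_lit 1048576) (Steps.fwd (nat_lit 2097152) (Steps.fwd (nat_lit 1048576) (Steps.fwd (nat_lit 2359296) (Steps.bwd (nat_lit 4) (Steps.fwd (nat_lit 2097152) (Steps.bwd (nat_lit 4) (Steps.fwd (nat_lit 2359296) (Steps.bwd (nat_lit 4) (Steps.bwd (nat_lit 9) (Steps.fwd (nat_lit 1048576) (Steps.bwd (nat_lit 8) (Steps.bwd (nat_lit 4) Steps.nil))))))))))))))) (nat_lit 106) (nat_lit 3),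
  Rule.mk (nat_lit 4) (nat_lit 314) (Steps.bwd (nat_lit 9) (Steps.bwd (nat_lit 4) (Steps.fwd (nat_lit 2359296) (Steps.bwd (nat_lit 4) (Steps.bwd (nat_lit 9) (Steps.bwd (nat_lit 4) (Steps.fwd (nat_lit 2359296) (Steps.fwd (nat_lit 1048576) (Steps.fwd (nat_lit 2097152) (Steps.bwd (nat_lit 4) (Steps.fwd (nat_lit 2359296) (Steps.fwd (nat_lit 1048576) (Steps.fwd (nat_lit 2097152) (Steps.fwd (nat_lit 1048576) (Steps.bwd (nat_lit 8) Steps.nil))))))))))))))) (nat_lit 106) (nat_lit 2),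
  Rule.mk (nat_lit 9) (nat_lit 314) (Steps.bwd (nat_lit 4) (Steps.fwd (nat_lit 2359296) (Steps.bwd (nat_lit 4) (Steps.bwd (nat_lit 9) (Steps.bwd (nat_lit 4) (Steps.bwd (nat_lit 8) (Steps.bwd (nat_lit 4) (Steps.bwd (nat_lit 9) (Steps.bwd (nat_lit 4) (Steps.bwd (nat_lit 8) (Steps.fwd (nat_lit 1048576) (Steps.bwd (nat_lit 9) (Steps.bwd (nat_lit 4) (Steps.fwd (nat_lit 2359296) (Steps.bwd (nat_lit 4) Steps.nil))))))))))))))) (nat_lit 106) (nat_lit 3),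
  Rule.mk (nat_lit 8) (nat_lit 314) (Steps.bwd (nat_lit 4) (Steps.bwd (nat_lit 9) (Steps.bwd (nat_lit 4) (Steps.bwd (nat_lit 8) (Steps.bwd (nat_lit 4) (Steps.bwd (nat_lit 9) (Steps.bwd (nat_lit 4) (Steps.bwd (nat_lit 8) (Steps.bwd (nat_lit 4) (Steps.fwd (nat_lit 2097152) (Steps.bwd (nat_lit 4) (Steps.fwd (nat_lit 2359296) (Steps.fwd (nat_lit 1048576) (Steps.bwd (nat_lit 9) (Steps.fwd (nat_lit 1048576) Steps.nil))))))))))))))) (nat_lit 106) (nat_lit 1),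
  Rule.mk (nat_lit 4) (nat_lit 314) (Steps.bwd (nat_lit 9) (Steps.bwd (nat_lit 4) (Steps.fwd (nat_lit 2359296) (Steps.fwd (nat_lit 1048576) (Steps.bwd (nat_lit 9) (Steps.bwd (nat_lit 4) (Steps.fwd (nat_lit 2359296) (Steps.bwd (nat_lit 4) (Steps.fwd (nat_lit 2097152) (Steps.fwd (nat_lit 1048576) (Steps.fwd (nat_lit 2359296) (Steps.fwd (nat_lit 1048576) (Steps.fwd (nat_lit 2097152) (Steps.fwd (nat_lit 1048576) (Steps.bwd (nat_lit 8) Steps.nil))))))))))))))) (nat_lit 106) (nat_lit 2),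
  Rule.mk (nat_lit 4) (nat_lit 314) (Steps.bwd (nat_lit 9) (Steps.bwd (nat_lit 4) (Steps.bwd (nat_lit 8) (Steps.fwd (nat_lit 1048576) (Steps.bwd (nat_lit 9) (Steps.bwd (nat_lit 4) (Steps.fwd (nat_lit 2359296) (Steps.bwd (nat_lit 4) (Steps.bwd (nat_lit 9) (Steps.fwd (nat_lit 1048576) (Steps.fwd (nat_lit 2359296) (Steps.fwd (nat_lit 1048576) (Steps.fwd (nat_lit 2097152) (Steps.fwd (nat_lit 1048576) (Steps.bwd (nat_lit 8) Steps.nil))))))))))))))) (nat_lit 106) (nat_lit 2),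
  Rule.mk (nat_lit 4) (nat_lit 314) (Steps.bwd (nat_lit 9) (Steps.bwd (nat_lit 4) (Steps.bwd (nat_lit 8) (Steps.bwd (nat_lit 4) (Steps.bwd (nat_lit 9) (Steps.bwd (nat_lit 4) (Steps.bwd (nat_lit 8) (Steps.fwd (nat_lit 1048576) (Steps.fwd (nat_lit 2097152) (Steps.bwd (nat_lit 4) (Steps.fwd (nat_lit 2359296) (Steps.bwd (nat_lit 4) (Steps.bwd (nat_lit 9) (Steps.bwd (nat_lit 4) (Steps.bwd (nat_lit 8) Steps.nil))))))))))))))) (nat_lit 106) (nat_lit 2),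
  Rule.mk (nat_lit 8) (nat_lit 314) (Steps.bwd (nat_lit 4) (Steps.fwd (nat_lit 2097152) (Steps.fwd (nat_lit 1048576) (Steps.fwd (nat_lit 2359296) (Steps.fwd (nat_lit 1048576) (Steps.bwd (nat_lit 9) (Steps.fwd (nat_lit 1048576) (Steps.fwd (nat_lit 2359296) (Steps.fwd (nat_lit 1048576) (Steps.bwd (nat_lit 9) (Steps.fwd (nat_lit 1048576) (Steps.fwd (nat_lit 2359296) (Steps.bwd (nat_lit 4) (Steps.fwd (nat_lit 2097152) (Steps.bwd (nat_lit 4) Steps.nil))))))))))))))) (nat_lit 106) (nat_lit 1),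
  Rule.mk (nat_lit 4) (nat_lit 314) (Steps.bwd (nat_lit 9) (Steps.bwd (nat_lit 4) (Steps.fwd (nat_lit 2359296) (Steps.fwd (nat_lit 1048576) (Steps.bwd (nat_lit 9) (Steps.bwd (nat_lit 4) (Steps.fwd (nat_lit 2359296) (Steps.bwd (nat_lit 4) (Steps.bwd (nat_lit 9) (Steps.bwd (nat_lit 4) (Steps.bwd (nat_lit 8) (Steps.bwd (nat_lit 4) (Steps.bwd (nat_lit 9) (Steps.fwd (nat_lit 1048576) (Steps.fwd (nat_lit 2359296) Steps.nil))))))))))))))) (nat_lit 106) (nat_lit 2),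
  Rule.mk (nat_lit 4) (nat_lit 314) (Steps.bwd (nat_lit 8) (Steps.bwd (nat_lit 4) (Steps.bwd (nat_lit 9) (Steps.fwd (nat_lit 1048576) (Steps.fwd (nat_lit 2359296) (Steps.fwd (nat_lit 1048576) (Steps.bwd (nat_lit 9) (Steps.fwd (nat_lit 1048576) (Steps.bwd (nat_lit 8) (Steps.bwd (nat_lit 4) (Steps.bwd (nat_lit 9) (Steps.bwd (nat_lit 4) (Steps.fwd (nat_lit 2359296) (Steps.bwd (nat_lit 4) (Steps.bwd (nat_lit 9) Steps.nil))))))))))))))) (nat_lit 106) (nat_lit 0),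
  Rule.mk (nat_lit 4) (nat_lit 314) (Steps.bwd (nat_lit 9) (Steps.bwd (nat_lit 4) (Steps.bwd (nat_lit 8) (Steps.fwd (nat_lit 1048576) (Steps.bwd (nat_lit 9) (Steps.fwd (nat_lit 1048576) (Steps.bwd (nat_lit 8) (Steps.fwd (nat_lit 1048576) (Steps.bwd (nat_lit 9) (Steps.fwd (nat_lit 1048576) (Steps.fwd (nat_lit 2359296) (Steps.fwd (nat_lit 1048576) (Steps.bwd (nat_lit 9) (Steps.fwd (nat_lit 1048576) (Steps.bwd (nat_lit 8) Steps.nil))))))))))))))) (nat_lit 106) (nat_lit 2),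
  Rule.mk (nat_lit 4) (nat_lit 314) (Steps.bwd (nat_lit 8) (Steps.bwd (nat_lit 4) (Steps.bwd (nat_lit 9) (Steps.bwd (nat_lit 4) (Steps.bwd (nat_lit 8) (Steps.bwd (nat_lit 4) (Steps.bwd (nat_lit 9) (Steps.fwd (nat_lit 1048576) (Steps.fwd (nat_lit 2359296) (Steps.bwd (nat_lit 4) (Steps.fwd (nat_lit 2097152) (Steps.fwd (nat_lit 1048576) (Steps.fwd (nat_lit 2359296) (Steps.fwd (nat_lit 1048576) (Steps.fwd (nat_lit 2097152) Steps.nil))))))))))))))) (nat_lit 106) (nat_lit 0),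
  Rule.mk (nat_lit 4) (nat_lit 314) (Steps.bwd (nat_lit 8) (Steps.bwd (nat_lit 4) (Steps.bwd (nat_lit 9) (Steps.fwd (nat_lit 1048576) (Steps.fwd (nat_lit 2359296) (Steps.bwd (nat_lit 4) (Steps.bwd (nat_lit 9) (Steps.bwd (nat_lit 4) (Steps.fwd (nat_lit 2359296) (Steps.bwd (nat_lit 4) (Steps.bwd (nat_lit 9) (Steps.fwd (nat_lit 1048576) (Steps.fwd (nat_lit 2359296) (Steps.fwd (nat_lit 1048576) (Steps.fwd (nat_lit 2097152) Steps.nil))))))))))))))) (nat_lit 106) (nat_lit 0),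
  Rule.mk (nat_lit 9) (nat_lit 314) (Steps.bwd (nat_lit 4) (Steps.bwd (nat_lit 8) (Steps.bwd (nat_lit 4) (Steps.bwd (nat_lit 9) (Steps.fwd (nat_lit 1048576) (Steps.fwd (nat_lit 2359296) (Steps.fwd (nat_lit 1048576) (Steps.fwd (nat_lit 2097152) (Steps.fwd (nat_lit 1048576) (Steps.bwd (nat_lit 8) (Steps.bwd (nat_lit 4) (Steps.bwd (nat_lit 9) (Steps.fwd (nat_lit 1048576) (Steps.fwd (nat_lit 2359296) (Steps.fwd (nat_lit 1048576) Steps.nil))))))))))))))) (nat_lit 106) (nat_lit 3),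
  Rule.mk (nat_lit 8) (nat_lit 314) (Steps.bwd (nat_lit 4) (Steps.bwd (nat_lit 9) (Steps.fwd (nat_lit 1048576) (Steps.bwd (nat_lit 8) (Steps.fwd (nat_lit 1048576) (Steps.bwd (nat_lit 9) (Steps.bwd (nat_lit 4) (Steps.fwd (nat_lit 2359296) (Steps.fwd (nat_lit 1048576) (Steps.bwd (nat_lit 9) (Steps.bwd (nat_lit 4) (Steps.bwd (nat_lit 8) (Steps.fwd (nat_lit 1048576) (Steps.fwd (nat_lit 2097152) (Steps.fwd (nat_lit 1048576) Steps.nil))))))))))))))) (nat_lit 106) (nat_lit 1),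
  Rule.mk (nat_lit 4) (nat_lit 314) (Steps.bwd (nat_lit 8) (Steps.bwd (nat_lit 4) (Steps.fwd (nat_lit 2097152) (Steps.bwd (nat_lit 4) (Steps.bwd (nat_lit 8) (Steps.bwd (nat_lit 4) (Steps.bwd (nat_lit 9) (Steps.fwd (nat_lit 1048576) (Steps.bwd (nat_lit 8) (Steps.fwd (nat_lit 1048576) (Steps.bwd (nat_lit 9) (Steps.bwd (nat_lit 4) (Steps.fwd (nat_lit 2359296) (Steps.bwd (nat_lit 4) (Steps.bwd (nat_lit 9) Steps.nil))))))))))))))) (nat_lit 106) (nat_lit 0),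
  Rule.mk (nat_lit 8) (nat_lit 314) (Steps.bwd (nat_lit 4) (Steps.bwd (nat_lit 9) (Steps.fwd (nat_lit 1048576) (Steps.bwd (nat_lit 8) (Steps.fwd (nat_lit 1048576) (Steps.bwd (nat_lit 9) (Steps.bwd (nat_lit 4) (Steps.bwd (nat_lit 8) (Steps.fwd (nat_lit 1048576) (Steps.bwd (nat_lit 9) (Steps.bwd (nat_lit 4) (Steps.fwd (nat_lit 2359296) (Steps.fwd (nat_lit 1048576) (Steps.bwd (nat_lit 9) (Steps.fwd (nat_lit 1048576) Steps.nil))))))))))))))) (nat_lit 106) (nat_lit 1),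
  Rule.mk (nat_lit 4) (nat_lit 314) (Steps.bwd (nat_lit 8) (Steps.fwd (nat_lit 1048576) (Steps.bwd (nat_lit 9) (Steps.fwd (nat_lit 1048576) (Steps.bwd (nat_lit 8) (Steps.bwd (nat_lit 4) (Steps.fwd (nat_lit 2097152) (Steps.bwd (nat_lit 4) (Steps.fwd (nat_lit 2359296) (Steps.bwd (nat_lit 4) (Steps.bwd (nat_lit 9) (Steps.fwd (nat_lit 1048576) (Steps.fwd (nat_lit 2359296) (Steps.fwd (nat_lit 1048576) (Steps.bwd (nat_lit 9) Steps.nil))))))))))))))) (nat_lit 106) (nat_lit 0),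
  Rule.mk (nat_lit 9) (nat_lit 314) (Steps.bwd (nat_lit 4) (Steps.fwd (nat_lit 2359296) (Steps.bwd (nat_lit 4) (Steps.bwd (nat_lit 9) (Steps.fwd (nat_lit 1048576) (Steps.bwd (nat_lit 8) (Steps.fwd (nat_lit 1048576) (Steps.bwd (nat_lit 9) (Steps.bwd (nat_lit 4) (Steps.fwd (nat_lit 2359296) (Steps.bwd (nat_lit 4) (Steps.bwd (nat_lit 9) (Steps.bwd (nat_lit 4) (Steps.fwd (nat_lit 2359296) (Steps.bwd (nat_lit 4) Steps.nil))))))))))))))) (nat_lit 106) (nat_lit 3)]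
noncomputable def R_128 : List (Rule) := [Rule.mk (nat_lit 4) (nat_lit 314) (Steps.bwd (nat_lit 9) (Steps.bwd (nat_lit 4) (Steps.bwd (nat_lit 8) (Steps.fwd (nat_lit 1048576) (Steps.bwd (nat_lit 9) (Steps.bwd (nat_lit 4) (Steps.fwd (nat_lit 2359296) (Steps.bwd (nat_lit 4) (Steps.bwd (nat_lit 9) (Steps.fwd (nat_lit 1048576) (Steps.fwd (nat_lit 2359296) (Steps.fwd (nat_lit 1048576) (Steps.fwd (nat_lit 2097152) (Steps.fwd (nat_lit 1048576) (Steps.fwd (nat_lit 2359296) Steps.nil))))))))))))))) (nat_lit 106) (nat_lit 2),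
  Rule.mk (nat_lit 2) (nat_lit 154) (Steps.bwd (nat_lit 1) (Steps.bwd (nat_lit 2) (Steps.fwd (nat_lit 1835008) (Steps.fwd (nat_lit 262144) (Steps.fwd (nat_lit 786432) (Steps.bwd (nat_lit 1) (Steps.fwd (nat_lit 1835008) Steps.nil))))))) (nat_lit 72) (nat_lit 5),
  Rule.mk (nat_lit 9) (nat_lit 314) (Steps.bwd (nat_lit 4) (Steps.bwd (nat_lit 8) (Steps.bwd (nat_lit 4) (Steps.bwd (nat_lit 9) (Steps.bwd (nat_lit 4) (Steps.bwd (nat_lit 8) (Steps.bwd (nat_lit 4) (Steps.fwd (nat_lit 2097152) (Steps.fwd (nat_lit 1048576) (Steps.fwd (nat_lit 2359296) (Steps.fwd (nat_lit 1048576) (Steps.fwd (nat_lit 2097152) (Steps.bwd (nat_lit 4) (Steps.fwd (nat_lit 2359296) (Steps.fwd (nat_lit 1048576) Steps.nil))))))))))))))) (nat_lit 106) (nat_lit 3),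
  Rule.mk (nat_lit 4) (nat_lit 314) (Steps.bwd (nat_lit 9) (Steps.bwd (nat_lit 4) (Steps.fwd (nat_lit 2359296) (Steps.bwd (nat_lit 4) (Steps.fwd (nat_lit 2097152) (Steps.fwd (nat_lit 1048576) (Steps.fwd (nat_lit 2359296) (Steps.bwd (nat_lit 4) (Steps.fwd (nat_lit 2097152) (Steps.bwd (nat_lit 4) (Steps.fwd (nat_lit 2359296) (Steps.fwd (nat_lit 1048576) (Steps.fwd (nat_lit 2097152) (Steps.fwd (nat_lit 1048576) (Steps.bwd (nat_lit 8) Steps.nil))))))))))))))) (nat_lit 106) (nat_lit 2),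
  Rule.mk (nat_lit 6) (nat_lit 114) (Steps.bwd (nat_lit 3) (Steps.bwd (nat_lit 4) (Steps.fwd (nat_lit 1310720) (Steps.fwd (nat_lit 524288) (Steps.fwd (nat_lit 1048576) Steps.nil))))) (nat_lit 59) (nat_lit 2),
  Rule.mk (nat_lit 4) (nat_lit 314) (Steps.bwd (nat_lit 9) (Steps.bwd (nat_lit 4) (Steps.fwd (nat_lit 2359296) (Steps.bwd (nat_lit 4) (Steps.fwd (nat_lit 2097152) (Steps.bwd (nat_lit 4) (Steps.fwd (nat_lit 2359296) (Steps.fwd (nat_lit 1048576) (Steps.bwd (nat_lit 9) (Steps.fwd (nat_lit 1048576) (Steps.fwd (nat_lit 2359296) (Steps.fwd (nat_lit 1048576) (Steps.bwd (nat_lit 9) (Steps.fwd (nat_lit 1048576) (Steps.bwd (nat_lit 8) Steps.nil))))))))))))))) (nat_lit 106) (nat_lit 2),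
  Rule.mk (nat_lit 9) (nat_lit 314) (Steps.bwd (nat_lit 4) (Steps.bwd (nat_lit 8) (Steps.bwd (nat_lit 4) (Steps.bwd (nat_lit 9) (Steps.bwd (nat_lit 4) (Steps.fwd (nat_lit 2359296) (Steps.fwd (nat_lit 1048576) (Steps.bwd (nat_lit 9) (Steps.fwd (nat_lit 1048576) (Steps.bwd (nat_lit 8) (Steps.bwd (nat_lit 4) (Steps.bwd (nat_lit 9) (Steps.bwd (nat_lit 4) (Steps.fwd (nat_lit 2359296) (Steps.fwd (nat_lit 1048576) Steps.nil))))))))))))))) (nat_lit 106) (nat_lit 3),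
  Rule.mk (nat_lit 9) (nat_lit 314) (Steps.bwd (nat_lit 4) (Steps.fwd (nat_lit 2359296) (Steps.fwd (nat_lit 1048576) (Steps.fwd (nat_lit 2097152) (Steps.bwd (nat_lit 4) (Steps.fwd (nat_lit 2359296) (Steps.bwd (nat_lit 4) (Steps.bwd (nat_lit 9) (Steps.fwd (nat_lit 1048576) (Steps.bwd (nat_lit 8) (Steps.fwd (nat_lit 1048576) (Steps.bwd (nat_lit 9) (Steps.bwd (nat_lit 4) (Steps.bwd (nat_lit 8) (Steps.fwd (nat_lit 1048576) Steps.nil))))))))))))))) (nat_lit 106) (nat_lit 3),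
  Rule.mk (nat_lit 4) (nat_lit 314) (Steps.bwd (nat_lit 9) (Steps.bwd (nat_lit 4) (Steps.fwd (nat_lit 2359296) (Steps.bwd (nat_lit 4) (Steps.fwd (nat_lit 2097152) (Steps.bwd (nat_lit 4) (Steps.fwd (nat_lit 2359296) (Steps.fwd (nat_lit 1048576) (Steps.fwd (nat_lit 2097152) (Steps.fwd (nat_lit 1048576) (Steps.bwd (nat_lit 8) (Steps.fwd (nat_lit 1048576) (Steps.bwd (nat_lit 9) (Steps.fwd (nat_lit 1048576) (Steps.fwd (nat_lit 2359296) Steps.nil))))))))))))))) (nat_lit 106) (nat_lit 2),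
  Rule.mk (nat_lit 1) (nat_lit 154) (Steps.bwd (nat_lit 7) (Steps.bwd (nat_lit 4) (Steps.bwd (nat_lit 1) (Steps.bwd (nat_lit 4) (Steps.bwd (nat_lit 7) (Steps.fwd (nat_lit 262144) (Steps.bwd (nat_lit 4) Steps.nil))))))) (nat_lit 76) (nat_lit 3),
  Rule.mk (nat_lit 4) (nat_lit 314) (Steps.bwd (nat_lit 8) (Steps.bwd (nat_lit 4) (Steps.fwd (nat_lit 2097152) (Steps.bwd (nat_lit 4) (Steps.fwd (nat_lit 2359296) (Steps.bwd (nat_lit 4) (Steps.bwd (nat_lit 9) (Steps.bwd (nat_lit 4) (Steps.fwd (nat_lit 2359296) (Steps.bwd (nat_lit 4) (Steps.fwd (nat_lit 2097152) (Steps.fwd (nat_lit 1048576) (Steps.fwd (nat_lit 2359296) (Steps.fwd (nat_lit 1048576) (Steps.fwd (nat_lit 2097152) Steps.nil))))))))))))))) (nat_lit 106) (nat_lit 0),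
  Rule.mk (nat_lit 4) (nat_lit 314) (Steps.bwd (nat_lit 8) (Steps.fwd (nat_lit 1048576) (Steps.bwd (nat_lit 9) (Steps.fwd (nat_lit 1048576) (Steps.fwd (nat_lit 2359296) (Steps.bwd (nat_lit 4) (Steps.bwd (nat_lit 9) (Steps.bwd (nat_lit 4) (Steps.bwd (nat_lit 8) (Steps.fwd (nat_lit 1048576) (Steps.fwd (nat_lit 2097152) (Steps.fwd (nat_lit 1048576) (Steps.bwd (nat_lit 8) (Steps.fwd (nat_lit 1048576) (Steps.fwd (nat_lit 2097152) Steps.nil))))))))))))))) (nat_lit 106) (nat_lit 0),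
  Rule.mk (nat_lit 4) (nat_lit 314) (Steps.bwd (nat_lit 9) (Steps.bwd (nat_lit 4) (Steps.bwd (nat_lit 8) (Steps.bwd (nat_lit 4) (Steps.bwd (nat_lit 9) (Steps.bwd (nat_lit 4) (Steps.bwd (nat_lit 8) (Steps.fwd (nat_lit 1048576) (Steps.bwd (nat_lit 9) (Steps.bwd (nat_lit 4) (Steps.bwd (nat_lit 8) (Steps.fwd (nat_lit 1048576) (Steps.bwd (nat_lit 9) (Steps.fwd (nat_lit 1048576) (Steps.bwd (nat_lit 8) Steps.nil))))))))))))))) (nat_lit 106) (nat_lit 2),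
  Rule.mk (nat_lit 9) (nat_lit 314) (Steps.bwd (nat_lit 4) (Steps.bwd (nat_lit 8) (Steps.bwd (nat_lit 4) (Steps.bwd (nat_lit 9) (Steps.bwd (nat_lit 4) (Steps.bwd (nat_lit 8) (Steps.bwd (nat_lit 4) (Steps.bwd (nat_lit 9) (Steps.fwd (nat_lit 1048576) (Steps.fwd (nat_lit 2359296) (Steps.bwd (nat_lit 4) (Steps.bwd (nat_lit 9) (Steps.fwd (nat_lit 1048576) (Steps.fwd (nat_lit 2359296) (Steps.fwd (nat_lit 1048576) Steps.nil))))))))))))))) (nat_lit 106) (nat_lit 3),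
  Rule.mk (nat_lit 8) (nat_lit 314) (Steps.bwd (nat_lit 4) (Steps.bwd (nat_lit 9) (Steps.bwd (nat_lit 4) (Steps.fwd (nat_lit 2359296) (Steps.bwd (nat_lit 4) (Steps.bwd (nat_lit 9) (Steps.bwd (nat_lit 4) (Steps.fwd (nat_lit 2359296) (Steps.bwd (nat_lit 4) (Steps.fwd (nat_lit 2097152) (Steps.fwd (nat_lit 1048576) (Steps.bwd (nat_lit 8) (Steps.bwd (nat_lit 4) (Steps.bwd (nat_lit 9) (Steps.fwd (nat_lit 1048576) Steps.nil))))))))))))))) (nat_lit 106) (nat_lit 1),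
  Rule.mk (nat_lit 4) (nat_lit 314) (Steps.bwd (nat_lit 9) (Steps.bwd (nat_lit 4) (Steps.bwd (nat_lit 8) (Steps.fwd (nat_lit 1048576) (Steps.fwd (nat_lit 2097152) (Steps.bwd (nat_lit 4) (Steps.bwd (nat_lit 8) (Steps.fwd (nat_lit 1048576) (Steps.fwd (nat_lit 2097152) (Steps.fwd (nat_lit 1048576) (Steps.fwd (nat_lit 2359296) (Steps.bwd (nat_lit 4) (Steps.fwd (nat_lit 2097152) (Steps.fwd (nat_lit 1048576) (Steps.bwd (nat_lit 8) Steps.nil))))))))))))))) (nat_lit 106) (nat_lit 2),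
  Rule.mk (nat_lit 9) (nat_lit 314) (Steps.bwd (nat_lit 4) (Steps.fwd (nat_lit 2359296) (Steps.fwd (nat_lit 1048576) (Steps.fwd (nat_lit 2097152) (Steps.fwd (nat_lit 1048576) (Steps.fwd (nat_lit 2359296) (Steps.fwd (nat_lit 1048576) (Steps.fwd (nat_lit 2097152) (Steps.bwd (nat_lit 4) (Steps.fwd (nat_lit 2359296) (Steps.bwd (nat_lit 4) (Steps.bwd (nat_lit 9) (Steps.bwd (nat_lit 4) (Steps.fwd (nat_lit 2359296) (Steps.fwd (nat_lit 1048576) Steps.nil))))))))))))))) (nat_lit 106) (nat_lit 3),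
  Rule.mk (nat_lit 9) (nat_lit 314) (Steps.bwd (nat_lit 4) (Steps.fwd (nat_lit 2359296) (Steps.bwd (nat_lit 4) (Steps.bwd (nat_lit 9) (Steps.bwd (nat_lit 4) (Steps.bwd (nat_lit 8) (Steps.bwd (nat_lit 4) (Steps.fwd (nat_lit 2097152) (Steps.fwd (nat_lit 1048576) (Steps.fwd (nat_lit 2359296) (Steps.bwd (nat_lit 4) (Steps.bwd (nat_lit 9) (Steps.fwd (nat_lit 1048576) (Steps.fwd (nat_lit 2359296) (Steps.fwd (nat_lit 1048576) Steps.nil))))))))))))))) (nat_lit 106) (nat_lit 3),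
  Rule.mk (nat_lit 8) (nat_lit 314) (Steps.bwd (nat_lit 4) (Steps.bwd (nat_lit 9) (Steps.bwd (nat_lit 4) (Steps.bwd (nat_lit 8) (Steps.fwd (nat_lit 1048576) (Steps.bwd (nat_lit 9) (Steps.fwd (nat_lit 1048576) (Steps.fwd (nat_lit 2359296) (Steps.bwd (nat_lit 4) (Steps.bwd (nat_lit 9) (Steps.bwd (nat_lit 4) (Steps.fwd (nat_lit 2359296) (Steps.fwd (nat_lit 1048576) (Steps.bwd (nat_lit 9) (Steps.fwd (nat_lit 1048576) Steps.nil))))))))))))))) (nat_lit 106) (nat_lit 1),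
  Rule.mk (nat_lit 4) (nat_lit 314) (Steps.bwd (nat_lit 9) (Steps.bwd (nat_lit 4) (Steps.fwd (nat_lit 2359296) (Steps.bwd (nat_lit 4) (Steps.bwd (nat_lit 9) (Steps.fwd (nat_lit 1048576) (Steps.bwd (nat_lit 8) (Steps.bwd (nat_lit 4) (Steps.bwd (nat_lit 9) (Steps.fwd (nat_lit 1048576) (Steps.fwd (nat_lit 2359296) (Steps.fwd (nat_lit 1048576) (Steps.bwd (nat_lit 9) (Steps.fwd (nat_lit 1048576) (Steps.fwd (nat_lit 2359296) Steps.nil))))))))))))))) (nat_lit 106) (nat_lit 2),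
  Rule.mk (nat_lit 4) (nat_lit 314) (Steps.bwd (nat_lit 8) (Steps.bwd (nat_lit 4) (Steps.bwd (nat_lit 9) (Steps.fwd (nat_lit 1048576) (Steps.fwd (nat_lit 2359296) (Steps.bwd (nat_lit 4) (Steps.bwd (nat_lit 9) (Steps.bwd (nat_lit 4) (Steps.fwd (nat_lit 2359296) (Steps.bwd (nat_lit 4) (Steps.fwd (nat_lit 2097152) (Steps.fwd (nat_lit 1048576) (Steps.fwd (nat_lit 2359296) (Steps.fwd (nat_lit 1048576) (Steps.fwd (nat_lit 2097152) Steps.nil))))))))))))))) (nat_lit 106) (nat_lit 0),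
  Rule.mk (nat_lit 4) (nat_lit 314) (Steps.bwd (nat_lit 9) (Steps.bwd (nat_lit 4) (Steps.bwd (nat_lit 8) (Steps.fwd (nat_lit 1048576) (Steps.bwd (nat_lit 9) (Steps.fwd (nat_lit 1048576) (Steps.fwd (nat_lit 2359296) (Steps.bwd (nat_lit 4) (Steps.bwd (nat_lit 9) (Steps.fwd (nat_lit 1048576) (Steps.bwd (nat_lit 8) (Steps.fwd (nat_lit 1048576) (Steps.fwd (nat_lit 2097152) (Steps.fwd (nat_lit 1048576) (Steps.bwd (nat_lit 8) Steps.nil))))))))))))))) (nat_lit 106) (nat_lit 2),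
  Rule.mk (nat_lit 9) (nat_lit 314) (Steps.bwd (nat_lit 4) (Steps.fwd (nat_lit 2359296) (Steps.bwd (nat_lit 4) (Steps.fwd (nat_lit 2097152) (Steps.fwd (nat_lit 1048576) (Steps.fwd (nat_lit 2359296) (Steps.fwd (nat_lit 1048576) (Steps.bwd (nat_lit 9) (Steps.fwd (nat_lit 1048576) (Steps.bwd (nat_lit 8) (Steps.fwd (nat_lit 1048576) (Steps.bwd (nat_lit 9) (Steps.fwd (nat_lit 1048576) (Steps.fwd (nat_lit 2359296) (Steps.fwd (nat_lit 1048576) Steps.nil))))))))))))))) (nat_lit 106) (nat_lit 3),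
  Rule.mk (nat_lit 4) (nat_lit 314) (Steps.fwd (nat_lit 2359296) (Steps.bwd (nat_lit 4) (Steps.bwd (nat_lit 9) (Steps.fwd (nat_lit 1048576) (Steps.fwd (nat_lit 2359296) (Steps.bwd (nat_lit 4) (Steps.fwd (nat_lit 2097152) (Steps.fwd (nat_lit 1048576) (Steps.bwd (nat_lit 8) (Steps.fwd (nat_lit 1048576) (Steps.bwd (nat_lit 9) (Steps.bwd (nat_lit 4) (Steps.fwd (nat_lit 2359296) (Steps.fwd (nat_lit 1048576) (Steps.bwd (nat_lit 9) Steps.nil))))))))))))))) (nat_lit 106) (nat_lit 0),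
  Rule.mk (nat_lit 1) (nat_lit 154) (Steps.bwd (nat_lit 4) (Steps.fwd (nat_lit 262144) (Steps.fwd (nat_lit 1835008) (Steps.bwd (nat_lit 4) (Steps.fwd (nat_lit 262144) (Steps.fwd (nat_lit 1048576) (Steps.bwd (nat_lit 7) Steps.nil))))))) (nat_lit 76) (nat_lit 1),
  Rule.mk (nat_lit 9) (nat_lit 314) (Steps.bwd (nat_lit 4) (Steps.bwd (nat_lit 8) (Steps.bwd (nat_lit 4) (Steps.bwd (nat_lit 9) (Steps.bwd (nat_lit 4) (Steps.fwd (nat_lit 2359296) (Steps.fwd (nat_lit 1048576) (Steps.fwd (nat_lit 2097152) (Steps.bwd (nat_lit 4) (Steps.fwd (nat_lit 2359296) (Steps.bwd (nat_lit 4) (Steps.fwd (nat_lit 2097152) (Steps.bwd (nat_lit 4) (Steps.bwd (nat_lit 8) (Steps.bwd (nat_lit 4) Steps.nil))))))))))))))) (nat_lit 106) (nat_lit 3),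
  Rule.mk (nat_lit 8) (nat_lit 314) (Steps.bwd (nat_lit 4) (Steps.fwd (nat_lit 2097152) (Steps.bwd (nat_lit 4) (Steps.fwd (nat_lit 2359296) (Steps.bwd (nat_lit 4) (Steps.bwd (nat_lit 9) (Steps.bwd (nat_lit 4) (Steps.bwd (nat_lit 8) (Steps.fwd (nat_lit 1048576) (Steps.fwd (nat_lit 2097152) (Steps.fwd (nat_lit 1048576) (Steps.fwd (nat_lit 2359296) (Steps.fwd (nat_lit 1048576) (Steps.bwd (nat_lit 9) (Steps.fwd (nat_lit 1048576) Steps.nil))))))))))))))) (nat_lit 106) (nat_lit 1),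
  Rule.mk (nat_lit 8) (nat_lit 314) (Steps.bwd (nat_lit 4) (Steps.bwd (nat_lit 9) (Steps.bwd (nat_lit 4) (Steps.bwd (nat_lit 8) (Steps.bwd (nat_lit 4) (Steps.bwd (nat_lit 9) (Steps.bwd (nat_lit 4) (Steps.fwd (nat_lit 2359296) (Steps.fwd (nat_lit 1048576) (Steps.fwd (nat_lit 2097152) (Steps.fwd (nat_lit 1048576) (Steps.bwd (nat_lit 8) (Steps.fwd (nat_lit 1048576) (Steps.bwd (nat_lit 9) (Steps.fwd (nat_lit 1048576) Steps.nil))))))))))))))) (nat_lit 106) (nat_lit 1),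
  Rule.mk (nat_lit 9) (nat_lit 314) (Steps.bwd (nat_lit 4) (Steps.bwd (nat_lit 8) (Steps.bwd (nat_lit 4) (Steps.bwd (nat_lit 9) (Steps.bwd (nat_lit 4) (Steps.fwd (nat_lit 2359296) (Steps.fwd (nat_lit 1048576) (Steps.fwd (nat_lit 2097152) (Steps.bwd (nat_lit 4) (Steps.fwd (nat_lit 2359296) (Steps.fwd (nat_lit 1048576) (Steps.fwd (nat_lit 2097152) (Steps.fwd (nat_lit 1048576) (Steps.fwd (nat_lit 2359296) (Steps.fwd (nat_lit 1048576) Steps.nil))))))))))))))) (nat_lit 106) (nat_lit 3),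
  Rule.mk (nat_lit 8) (nat_lit 314) (Steps.bwd (nat_lit 4) (Steps.fwd (nat_lit 2097152) (Steps.bwd (nat_lit 4) (Steps.bwd (nat_lit 8) (Steps.fwd (nat_lit 1048576) (Steps.bwd (nat_lit 9) (Steps.bwd (nat_lit 4) (Steps.fwd (nat_lit 2359296) (Steps.fwd (nat_lit 1048576) (Steps.fwd (nat_lit 2097152) (Steps.fwd (nat_lit 1048576) (Steps.fwd (nat_lit 2359296) (Steps.bwd (nat_lit 4) (Steps.fwd (nat_lit 2097152) (Steps.fwd (nat_lit 1048576) Steps.nil))))))))))))))) (nat_lit 106) (nat_lit 1),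
  Rule.mk (nat_lit 8) (nat_lit 314) (Steps.bwd (nat_lit 4) (Steps.bwd (nat_lit 9) (Steps.fwd (nat_lit 1048576) (Steps.fwd (nat_lit 2359296) (Steps.bwd (nat_lit 4) (Steps.bwd (nat_lit 9) (Steps.fwd (nat_lit 1048576) (Steps.fwd (nat_lit 2359296) (Steps.fwd (nat_lit 1048576) (Steps.bwd (nat_lit 9) (Steps.bwd (nat_lit 4) (Steps.fwd (nat_lit 2359296) (Steps.fwd (nat_lit 1048576) (Steps.bwd (nat_lit 9) (Steps.bwd (nat_lit 4) Steps.nil))))))))))))))) (nat_lit 106) (nat_lit 1),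
  Rule.mk (nat_lit 8) (nat_lit 314) (Steps.bwd (nat_lit 4) (Steps.bwd (nat_lit 9) (Steps.fwd (nat_lit 1048576) (Steps.bwd (nat_lit 8) (Steps.bwd (nat_lit 4) (Steps.bwd (nat_lit 9) (Steps.bwd (nat_lit 4) (Steps.bwd (nat_lit 8) (Steps.bwd (nat_lit 4) (Steps.fwd (nat_lit 2097152) (Steps.fwd (nat_lit 1048576) (Steps.bwd (nat_lit 8) (Steps.bwd (nat_lit 4) (Steps.fwd (nat_lit 2097152) (Steps.bwd (nat_lit 4) Steps.nil))))))))))))))) (nat_lit 106) (nat_lit 1),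
  Rule.mk (nat_lit 9) (nat_lit 314) (Steps.bwd (nat_lit 4) (Steps.fwd (nat_lit 2359296) (Steps.fwd (nat_lit 1048576) (Steps.bwd (nat_lit 9) (Steps.fwd (nat_lit 1048576) (Steps.bwd (nat_lit 8) (Steps.bwd (nat_lit 4) (Steps.bwd (nat_lit 9) (Steps.bwd (nat_lit 4) (Steps.fwd (nat_lit 2359296) (Steps.fwd (nat_lit 1048576) (Steps.bwd (nat_lit 9) (Steps.fwd (nat_lit 1048576) (Steps.fwd (nat_lit 2359296) (Steps.bwd (nat_lit 4) Steps.nil))))))))))))))) (nat_lit 106) (nat_lit 3),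
  Rule.mk (nat_lit 4) (nat_lit 314) (Steps.bwd (nat_lit 8) (Steps.fwd (nat_lit 1048576) (Steps.bwd (nat_lit 9) (Steps.fwd (nat_lit 1048576) (Steps.bwd (nat_lit 8) (Steps.bwd (nat_lit 4) (Steps.bwd (nat_lit 9) (Steps.bwd (nat_lit 4) (Steps.fwd (nat_lit 2359296) (Steps.fwd (nat_lit 1048576) (Steps.fwd (nat_lit 2097152) (Steps.bwd (nat_lit 4) (Steps.fwd (nat_lit 2359296) (Steps.bwd (nat_lit 4) (Steps.bwd (nat_lit 9) Steps.nil))))))))))))))) (nat_lit 106) (nat_lit 0),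
  Rule.mk (nat_lit 6) (nat_lit 114) (Steps.fwd (nat_lit 524288) (Steps.fwd (nat_lit 1048576) (Steps.fwd (nat_lit 1310720) (Steps.bwd (nat_lit 3) (Steps.bwd (nat_lit 4) Steps.nil))))) (nat_lit 59) (nat_lit 2),
  Rule.mk (nat_lit 9) (nat_lit 314) (Steps.bwd (nat_lit 4) (Steps.bwd (nat_lit 8) (Steps.fwd (nat_lit 1048576) (Steps.fwd (nat_lit 2097152) (Steps.fwd (nat_lit 1048576) (Steps.fwd (nat_lit 2359296) (Steps.bwd (nat_lit 4) (Steps.bwd (nat_lit 9) (Steps.bwd (nat_lit 4) (Steps.fwd (nat_lit 2359296) (Steps.fwd (nat_lit 1048576) (Steps.bwd (nat_lit 9) (Steps.fwd (nat_lit 1048576) (Steps.fwd (nat_lit 2359296) (Steps.bwd (nat_lit 4) Steps.nil))))))))))))))) (nat_lit 106) (nat_lit 3),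
  Rule.mk (nat_lit 9) (nat_lit 314) (Steps.bwd (nat_lit 4) (Steps.fwd (nat_lit 2359296) (Steps.fwd (nat_lit 1048576) (Steps.fwd (nat_lit 2097152) (Steps.fwd (nat_lit 1048576) (Steps.bwd (nat_lit 8) (Steps.bwd (nat_lit 4) (Steps.bwd (nat_lit 9) (Steps.bwd (nat_lit 4) (Steps.fwd (nat_lit 2359296) (Steps.fwd (nat_lit 1048576) (Steps.bwd (nat_lit 9) (Steps.bwd (nat_lit 4) (Steps.fwd (nat_lit 2359296) (Steps.fwd (nat_lit 1048576) Steps.nil))))))))))))))) (nat_lit 106) (nat_lit 3),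
  Rule.mk (nat_lit 8) (nat_lit 314) (Steps.bwd (nat_lit 4) (Steps.bwd (nat_lit 9) (Steps.bwd (nat_lit 4) (Steps.bwd (nat_lit 8) (Steps.bwd (nat_lit 4) (Steps.bwd (nat_lit 9) (Steps.fwd (nat_lit 1048576) (Steps.fwd (nat_lit 2359296) (Steps.fwd (nat_lit 1048576) (Steps.bwd (nat_lit 9) (Steps.bwd (nat_lit 4) (Steps.bwd (nat_lit 8) (Steps.fwd (nat_lit 1048576) (Steps.fwd (nat_lit 2097152) (Steps.fwd (nat_lit 1048576) Steps.nil))))))))))))))) (nat_lit 106) (nat_lit 1),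
  Rule.mk (nat_lit 8) (nat_lit 314) (Steps.bwd (nat_lit 4) (Steps.fwd (nat_lit 2097152) (Steps.bwd (nat_lit 4) (Steps.fwd (nat_lit 2359296) (Steps.fwd (nat_lit 1048576) (Steps.bwd (nat_lit 9) (Steps.bwd (nat_lit 4) (Steps.bwd (nat_lit 8) (Steps.bwd (nat_lit 4) (Steps.bwd (nat_lit 9) (Steps.bwd (nat_lit 4) (Steps.fwd (nat_lit 2359296) (Steps.bwd (nat_lit 4) (Steps.bwd (nat_lit 9) (Steps.fwd (nat_lit 1048576) Steps.nil))))))))))))))) (nat_lit 106) (nat_lit 1),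
  Rule.mk (nat_lit 9) (nat_lit 314) (Steps.bwd (nat_lit 4) (Steps.bwd (nat_lit 8) (Steps.bwd (nat_lit 4) (Steps.bwd (nat_lit 9) (Steps.bwd (nat_lit 4) (Steps.fwd (nat_lit 2359296) (Steps.bwd (nat_lit 4) (Steps.bwd (nat_lit 9) (Steps.bwd (nat_lit 4) (Steps.bwd (nat_lit 8) (Steps.bwd (nat_lit 4) (Steps.bwd (nat_lit 9) (Steps.bwd (nat_lit 4) (Steps.fwd (nat_lit 2359296) (Steps.bwd (nat_lit 4) Steps.nil))))))))))))))) (nat_lit 106) (nat_lit 3),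
  Rule.mk (nat_lit 8) (nat_lit 314) (Steps.bwd (nat_lit 4) (Steps.bwd (nat_lit 9) (Steps.fwd (nat_lit 1048576) (Steps.fwd (nat_lit 2359296) (Steps.fwd (nat_lit 1048576) (Steps.bwd (nat_lit 9) (Steps.bwd (nat_lit 4) (Steps.bwd (nat_lit 8) (Steps.fwd (nat_lit 1048576) (Steps.fwd (nat_lit 2097152) (Steps.fwd (nat_lit 1048576) (Steps.fwd (nat_lit 2359296) (Steps.fwd (nat_lit 1048576) (Steps.bwd (nat_lit 9) (Steps.fwd (nat_lit 1048576) Steps.nil))))))))))))))) (nat_lit 106) (nat_lit 1),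
  Rule.mk (nat_lit 8) (nat_lit 314) (Steps.bwd (nat_lit 4) (Steps.bwd (nat_lit 9) (Steps.fwd (nat_lit 1048576) (Steps.bwd (nat_lit 8) (Steps.bwd (nat_lit 4) (Steps.fwd (nat_lit 2097152) (Steps.bwd (nat_lit 4) (Steps.bwd (nat_lit 8) (Steps.fwd (nat_lit 1048576) (Steps.fwd (nat_lit 2097152) (Steps.bwd (nat_lit 4) (Steps.bwd (nat_lit 8) (Steps.fwd (nat_lit 1048576) (Steps.fwd (nat_lit 2097152) (Steps.fwd (nat_lit 1048576) Steps.nil))))))))))))))) (nat_lit 106) (nat_lit 1),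
  Rule.mk (nat_lit 9) (nat_lit 314) (Steps.bwd (nat_lit 4) (Steps.fwd (nat_lit 2359296) (Steps.bwd (nat_lit 4) (Steps.bwd (nat_lit 9) (Steps.bwd (nat_lit 4) (Steps.fwd (nat_lit 2359296) (Steps.bwd (nat_lit 4) (Steps.fwd (nat_lit 2097152) (Steps.bwd (nat_lit 4) (Steps.fwd (nat_lit 2359296) (Steps.fwd (nat_lit 1048576) (Steps.fwd (nat_lit 2097152) (Steps.bwd (nat_lit 4) (Steps.fwd (nat_lit 2359296) (Steps.fwd (nat_lit 1048576) Steps.nil))))))))))))))) (nat_lit 106) (nat_lit 3),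
  Rule.mk (nat_lit 1) (nat_lit 154) (Steps.bwd (nat_lit 4) (Steps.bwd (nat_lit 1) (Steps.fwd (nat_lit 1572864) (Steps.bwd (nat_lit 1) (Steps.fwd (nat_lit 1048576) (Steps.bwd (nat_lit 1) (Steps.fwd (nat_lit 1572864) Steps.nil))))))) (nat_lit 74) (nat_lit 1),
  Rule.mk (nat_lit 9) (nat_lit 314) (Steps.bwd (nat_lit 4) (Steps.fwd (nat_lit 2359296) (Steps.bwd (nat_lit 4) (Steps.bwd (nat_lit 9) (Steps.bwd (nat_lit 4) (Steps.bwd (nat_lit 8) (Steps.bwd (nat_lit 4) (Steps.bwd (nat_lit 9) (Steps.bwd (nat_lit 4) (Steps.fwd (nat_lit 2359296) (Steps.bwd (nat_lit 4) (Steps.fwd (nat_lit 2097152) (Steps.fwd (nat_lit 1048576) (Steps.fwd (nat_lit 2359296) (Steps.fwd (nat_lit 1048576) Steps.nil))))))))))))))) (nat_lit 106) (nat_lit 3),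
  Rule.mk (nat_lit 8) (nat_lit 314) (Steps.bwd (nat_lit 4) (Steps.bwd (nat_lit 9) (Steps.bwd (nat_lit 4) (Steps.fwd (nat_lit 2359296) (Steps.bwd (nat_lit 4) (Steps.bwd (nat_lit 9) (Steps.bwd (nat_lit 4) (Steps.fwd (nat_lit 2359296) (Steps.fwd (nat_lit 1048576) (Steps.bwd (nat_lit 9) (Steps.fwd (nat_lit 1048576) (Steps.bwd (nat_lit 8) (Steps.fwd (nat_lit 1048576) (Steps.fwd (nat_lit 2097152) (Steps.bwd (nat_lit 4) Steps.nil))))))))))))))) (nat_lit 106) (nat_lit 1),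
  Rule.mk (nat_lit 4) (nat_lit 314) (Steps.bwd (nat_lit 9) (Steps.fwd (nat_lit 1048576) (Steps.fwd (nat_lit 2359296) (Steps.bwd (nat_lit 4) (Steps.bwd (nat_lit 9) (Steps.bwd (nat_lit 4) (Steps.fwd (nat_lit 2359296) (Steps.bwd (nat_lit 4) (Steps.fwd (nat_lit 2097152) (Steps.fwd (nat_lit 1048576) (Steps.bwd (nat_lit 8) (Steps.bwd (nat_lit 4) (Steps.fwd (nat_lit 2097152) (Steps.fwd (nat_lit 1048576) (Steps.bwd (nat_lit 8) Steps.nil))))))))))))))) (nat_lit 106) (nat_lit 2),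
  Rule.mk (nat_lit 9) (nat_lit 314) (Steps.bwd (nat_lit 4) (Steps.bwd (nat_lit 8) (Steps.bwd (nat_lit 4) (Steps.bwd (nat_lit 9) (Steps.fwd (nat_lit 1048576) (Steps.bwd (nat_lit 8) (Steps.bwd (nat_lit 4) (Steps.bwd (nat_lit 9) (Steps.fwd (nat_lit 1048576) (Steps.fwd (nat_lit 2359296) (Steps.fwd (nat_lit 1048576) (Steps.bwd (nat_lit 9) (Steps.fwd (nat_lit 1048576) (Steps.fwd (nat_lit 2359296) (Steps.bwd (nat_lit 4) Steps.nil))))))))))))))) (nat_lit 106) (nat_lit 3),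
  Rule.mk (nat_lit 8) (nat_lit 314) (Steps.bwd (nat_lit 4) (Steps.fwd (nat_lit 2097152) (Steps.bwd (nat_lit 4) (Steps.bwd (nat_lit 8) (Steps.fwd (nat_lit 1048576) (Steps.bwd (nat_lit 9) (Steps.fwd (nat_lit 1048576) (Steps.bwd (nat_lit 8) (Steps.fwd (nat_lit 1048576) (Steps.fwd (nat_lit 2097152) (Steps.fwd (nat_lit 1048576) (Steps.fwd (nat_lit 2359296) (Steps.fwd (nat_lit 1048576) (Steps.fwd (nat_lit 2097152) (Steps.fwd (nat_lit 1048576) Steps.nil))))))))))))))) (nat_lit 106) (nat_lit 1),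
  Rule.mk (nat_lit 9) (nat_lit 314) (Steps.bwd (nat_lit 4) (Steps.fwd (nat_lit 2359296) (Steps.fwd (nat_lit 1048576) (Steps.bwd (nat_lit 9) (Steps.bwd (nat_lit 4) (Steps.fwd (nat_lit 2359296) (Steps.fwd (nat_lit 1048576) (Steps.fwd (nat_lit 2097152) (Steps.bwd (nat_lit 4) (Steps.fwd (nat_lit 2359296) (Steps.fwd (nat_lit 1048576) (Steps.fwd (nat_lit 2097152) (Steps.fwd (nat_lit 1048576) (Steps.fwd (nat_lit 2359296) (Steps.bwd (nat_lit 4) Steps.nil))))))))))))))) (nat_lit 106) (nat_lit 3),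
  Rule.mk (nat_lit 4) (nat_lit 314) (Steps.bwd (nat_lit 8) (Steps.fwd (nat_lit 1048576) (Steps.fwd (nat_lit 2097152) (Steps.bwd (nat_lit 4) (Steps.bwd (nat_lit 8) (Steps.bwd (nat_lit 4) (Steps.bwd (nat_lit 9) (Steps.bwd (nat_lit 4) (Steps.bwd (nat_lit 8) (Steps.fwd (nat_lit 1048576) (Steps.bwd (nat_lit 9) (Steps.bwd (nat_lit 4) (Steps.bwd (nat_lit 8) (Steps.bwd (nat_lit 4) (Steps.fwd (nat_lit 2097152) Steps.nil))))))))))))))) (nat_lit 106) (nat_lit 0),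
  Rule.mk (nat_lit 4) (nat_lit 314) (Steps.bwd (nat_lit 9) (Steps.fwd (nat_lit 1048576) (Steps.fwd (nat_lit 2359296) (Steps.bwd (nat_lit 4) (Steps.fwd (nat_lit 2097152) (Steps.bwd (nat_lit 4) (Steps.fwd (nat_lit 2359296) (Steps.bwd (nat_lit 4) (Steps.bwd (nat_lit 9) (Steps.fwd (nat_lit 1048576) (Steps.bwd (nat_lit 8) (Steps.fwd (nat_lit 1048576) (Steps.fwd (nat_lit 2097152) (Steps.fwd (nat_lit 1048576) (Steps.fwd (nat_lit 2359296) Steps.nil))))))))))))))) (nat_lit 106) (nat_lit 2),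
  Rule.mk (nat_lit 9) (nat_lit 314) (Steps.bwd (nat_lit 4) (Steps.fwd (nat_lit 2359296) (Steps.fwd (nat_lit 1048576) (Steps.bwd (nat_lit 9) (Steps.bwd (nat_lit 4) (Steps.bwd (nat_lit 8) (Steps.bwd (nat_lit 4) (Steps.bwd (nat_lit 9) (Steps.bwd (nat_lit 4) (Steps.fwd (nat_lit 2359296) (Steps.fwd (nat_lit 1048576) (Steps.bwd (nat_lit 9) (Steps.fwd (nat_lit 1048576) (Steps.bwd (nat_lit 8) (Steps.bwd (nat_lit 4) Steps.nil))))))))))))))) (nat_lit 106) (nat_lit 3),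
  Rule.mk (nat_lit 4) (nat_lit 314) (Steps.bwd (nat_lit 8) (Steps.bwd (nat_lit 4) (Steps.bwd (nat_lit 9) (Steps.fwd (nat_lit 1048576) (Steps.bwd (nat_lit 8) (Steps.fwd (nat_lit 1048576) (Steps.bwd (nat_lit 9) (Steps.fwd (nat_lit 1048576) (Steps.bwd (nat_lit 8) (Steps.bwd (nat_lit 4) (Steps.fwd (nat_lit 2097152) (Steps.fwd (nat_lit 1048576) (Steps.fwd (nat_lit 2359296) (Steps.fwd (nat_lit 1048576) (Steps.fwd (nat_lit 2097152) Steps.nil))))))))))))))) (nat_lit 106) (nat_lit 0),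
  Rule.mk (nat_lit 9) (nat_lit 314) (Steps.bwd (nat_lit 4) (Steps.bwd (nat_lit 8) (Steps.bwd (nat_lit 4) (Steps.bwd (nat_lit 9) (Steps.bwd (nat_lit 4) (Steps.bwd (nat_lit 8) (Steps.bwd (nat_lit 4) (Steps.bwd (nat_lit 9) (Steps.fwd (nat_lit 1048576) (Steps.fwd (nat_lit 2359296) (Steps.bwd (nat_lit 4) (Steps.fwd (nat_lit 2097152) (Steps.bwd (nat_lit 4) (Steps.fwd (nat_lit 2359296) (Steps.fwd (nat_lit 1048576) Steps.nil))))))))))))))) (nat_lit 106) (nat_lit 3),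
  Rule.mk (nat_lit 8) (nat_lit 314) (Steps.bwd (nat_lit 4) (Steps.bwd (nat_lit 9) (Steps.fwd (nat_lit 1048576) (Steps.bwd (nat_lit 8) (Steps.bwd (nat_lit 4) (Steps.bwd (nat_lit 9) (Steps.bwd (nat_lit 4) (Steps.fwd (nat_lit 2359296) (Steps.bwd (nat_lit 4) (Steps.fwd (nat_lit 2097152) (Steps.fwd (nat_lit 1048576) (Steps.fwd (nat_lit 2359296) (Steps.fwd (nat_lit 1048576) (Steps.fwd (nat_lit 2097152) (Steps.bwd (nat_lit 4) Steps.nil))))))))))))))) (nat_lit 106) (nat_lit 1),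
  Rule.mk (nat_lit 9) (nat_lit 314) (Steps.bwd (nat_lit 4) (Steps.fwd (nat_lit 2359296) (Steps.fwd (nat_lit 1048576) (Steps.fwd (nat_lit 2097152) (Steps.bwd (nat_lit 4) (Steps.fwd (nat_lit 2359296) (Steps.bwd (nat_lit 4) (Steps.bwd (nat_lit 9) (Steps.bwd (nat_lit 4) (Steps.fwd (nat_lit 2359296) (Steps.fwd (nat_lit 1048576) (Steps.bwd (nat_lit 9) (Steps.fwd (nat_lit 1048576) (Steps.fwd (nat_lit 2359296) (Steps.fwd (nat_lit 1048576) Steps.nil))))))))))))))) (nat_lit 106) (nat_lit 3),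
  Rule.mk (nat_lit 9) (nat_lit 314) (Steps.bwd (nat_lit 4) (Steps.bwd (nat_lit 8) (Steps.fwd (nat_lit 1048576) (Steps.fwd (nat_lit 2097152) (Steps.bwd (nat_lit 4) (Steps.fwd (nat_lit 2359296) (Steps.bwd (nat_lit 4) (Steps.bwd (nat_lit 9) (Steps.fwd (nat_lit 1048576) (Steps.bwd (nat_lit 8) (Steps.fwd (nat_lit 1048576) (Steps.bwd (nat_lit 9) (Steps.bwd (nat_lit 4) (Steps.fwd (nat_lit 2359296) (Steps.fwd (nat_lit 1048576) Steps.nil))))))))))))))) (nat_lit 106) (nat_lit 3),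
  Rule.mk (nat_lit 4) (nat_lit 314) (Steps.bwd (nat_lit 8) (Steps.bwd (nat_lit 4) (Steps.fwd (nat_lit 2097152) (Steps.fwd (nat_lit 1048576) (Steps.fwd (nat_lit 2359296) (Steps.bwd (nat_lit 4) (Steps.bwd (nat_lit 9) (Steps.fwd (nat_lit 1048576) (Steps.bwd (nat_lit 8) (Steps.bwd (nat_lit 4) (Steps.fwd (nat_lit 2097152) (Steps.fwd (nat_lit 1048576) (Steps.fwd (nat_lit 2359296) (Steps.fwd (nat_lit 1048576) (Steps.fwd (nat_lit 2097152) Steps.nil))))))))))))))) (nat_lit 106) (nat_lit 0),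
  Rule.mk (nat_lit 4) (nat_lit 314) (Steps.bwd (nat_lit 8) (Steps.bwd (nat_lit 4) (Steps.bwd (nat_lit 9) (Steps.bwd (nat_lit 4) (Steps.fwd (nat_lit 2359296) (Steps.bwd (nat_lit 4) (Steps.bwd (nat_lit 9) (Steps.fwd (nat_lit 1048576) (Steps.fwd (nat_lit 2359296) (Steps.bwd (nat_lit 4) (Steps.bwd (nat_lit 9) (Steps.bwd (nat_lit 4) (Steps.fwd (nat_lit 2359296) (Steps.bwd (nat_lit 4) (Steps.bwd (nat_lit 9) Steps.nil))))))))))))))) (nat_lit 106) (nat_lit 0),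
  Rule.mk (nat_lit 3) (nat_lit 154) (Steps.bwd (nat_lit 1) (Steps.bwd (nat_lit 3) (Steps.bwd (nat_lit 5) (Steps.bwd (nat_lit 1) (Steps.fwd (nat_lit 524288) (Steps.bwd (nat_lit 1) (Steps.bwd (nat_lit 5) Steps.nil))))))) (nat_lit 71) (nat_lit 2),
  Rule.mk (nat_lit 7) (nat_lit 114) (Steps.bwd (nat_lit 4) (Steps.bwd (nat_lit 5) (Steps.bwd (nat_lit 7) (Steps.fwd (nat_lit 1048576) (Steps.bwd (nat_lit 6) Steps.nil))))) (nat_lit 66) (nat_lit 0),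
  Rule.mk (nat_lit 4) (nat_lit 314) (Steps.bwd (nat_lit 8) (Steps.bwd (nat_lit 4) (Steps.fwd (nat_lit 2097152) (Steps.fwd (nat_lit 1048576) (Steps.fwd (nat_lit 2359296) (Steps.fwd (nat_lit 1048576) (Steps.bwd (nat_lit 9) (Steps.fwd (nat_lit 1048576) (Steps.bwd (nat_lit 8) (Steps.fwd (nat_lit 1048576) (Steps.fwd (nat_lit 2097152) (Steps.fwd (nat_lit 1048576) (Steps.fwd (nat_lit 2359296) (Steps.fwd (nat_lit 1048576) (Steps.fwd (nat_lit 2097152) Steps.nil))))))))))))))) (nat_lit 106) (nat_lit 0),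
  Rule.mk (nat_lit 4) (nat_lit 314) (Steps.bwd (nat_lit 8) (Steps.bwd (nat_lit 4) (Steps.fwd (nat_lit 2097152) (Steps.bwd (nat_lit 4) (Steps.fwd (nat_lit 2359296) (Steps.fwd (nat_lit 1048576) (Steps.bwd (nat_lit 9) (Steps.bwd (nat_lit 4) (Steps.fwd (nat_lit 2359296) (Steps.bwd (nat_lit 4) (Steps.bwd (nat_lit 9) (Steps.bwd (nat_lit 4) (Steps.fwd (nat_lit 2359296) (Steps.fwd (nat_lit 1048576) (Steps.bwd (nat_lit 9) Steps.nil))))))))))))))) (nat_lit 106) (nat_lit 0)]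
noncomputable def R_129 : List (Rule) := [Rule.mk (nat_lit 4) (nat_lit 314) (Steps.bwd (nat_lit 8) (Steps.fwd (nat_lit 1048576) (Steps.bwd (nat_lit 9) (Steps.bwd (nat_lit 4) (Steps.fwd (nat_lit 2359296) (Steps.fwd (nat_lit 1048576) (Steps.fwd (nat_lit 2097152) (Steps.fwd (nat_lit 1048576) (Steps.bwd (nat_lit 8) (Steps.fwd (nat_lit 1048576) (Steps.bwd (nat_lit 9) (Steps.bwd (nat_lit 4) (Steps.bwd (nat_lit 8) (Steps.bwd (nat_lit 4) (Steps.bwd (nat_lit 9) Steps.nil))))))))))))))) (nat_lit 106) (nat_lit 0),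
  Rule.mk (nat_lit 4) (nat_lit 314) (Steps.bwd (nat_lit 9) (Steps.fwd (nat_lit 1048576) (Steps.bwd (nat_lit 8) (Steps.fwd (nat_lit 1048576) (Steps.fwd (nat_lit 2097152) (Steps.fwd (nat_lit 1048576) (Steps.fwd (nat_lit 2359296) (Steps.bwd (nat_lit 4) (Steps.fwd (nat_lit 2097152) (Steps.bwd (nat_lit 4) (Steps.bwd (nat_lit 8) (Steps.fwd (nat_lit 1048576) (Steps.fwd (nat_lit 2097152) (Steps.fwd (nat_lit 1048576) (Steps.bwd (nat_lit 8) Steps.nil))))))))))))))) (nat_lit 106) (nat_lit 2),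
  Rule.mk (nat_lit 4) (nat_lit 314) (Steps.bwd (nat_lit 8) (Steps.bwd (nat_lit 4) (Steps.bwd (nat_lit 9) (Steps.bwd (nat_lit 4) (Steps.bwd (nat_lit 8) (Steps.fwd (nat_lit 1048576) (Steps.fwd (nat_lit 2097152) (Steps.bwd (nat_lit 4) (Steps.bwd (nat_lit 8) (Steps.bwd (nat_lit 4) (Steps.bwd (nat_lit 9) (Steps.fwd (nat_lit 1048576) (Steps.fwd (nat_lit 2359296) (Steps.fwd (nat_lit 1048576) (Steps.fwd (nat_lit 2097152) Steps.nil))))))))))))))) (nat_lit 106) (nat_lit 0),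
  Rule.mk (nat_lit 4) (nat_lit 314) (Steps.bwd (nat_lit 8) (Steps.bwd (nat_lit 4) (Steps.bwd (nat_lit 9) (Steps.bwd (nat_lit 4) (Steps.fwd (nat_lit 2359296) (Steps.bwd (nat_lit 4) (Steps.fwd (nat_lit 2097152) (Steps.bwd (nat_lit 4) (Steps.bwd (nat_lit 8) (Steps.fwd (nat_lit 1048576) (Steps.fwd (nat_lit 2097152) (Steps.bwd (nat_lit 4) (Steps.fwd (nat_lit 2359296) (Steps.fwd (nat_lit 1048576) (Steps.bwd (nat_lit 9) Steps.nil))))))))))))))) (nat_lit 106) (nat_lit 0),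
  Rule.mk (nat_lit 8) (nat_lit 314) (Steps.bwd (nat_lit 4) (Steps.bwd (nat_lit 9) (Steps.bwd (nat_lit 4) (Steps.fwd (nat_lit 2359296) (Steps.bwd (nat_lit 4) (Steps.fwd (nat_lit 2097152) (Steps.bwd (nat_lit 4) (Steps.bwd (nat_lit 8) (Steps.fwd (nat_lit 1048576) (Steps.fwd (nat_lit 2097152) (Steps.fwd (nat_lit 1048576) (Steps.fwd (nat_lit 2359296) (Steps.fwd (nat_lit 1048576) (Steps.fwd (nat_lit 2097152) (Steps.fwd (nat_lit 1048576) Steps.nil))))))))))))))) (nat_lit 106) (nat_lit 1),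
  Rule.mk (nat_lit 4) (nat_lit 314) (Steps.bwd (nat_lit 8) (Steps.fwd (nat_lit 1048576) (Steps.fwd (nat_lit 2097152) (Steps.bwd (nat_lit 4) (Steps.fwd (nat_lit 2359296) (Steps.bwd (nat_lit 4) (Steps.fwd (nat_lit 2097152) (Steps.bwd (nat_lit 4) (Steps.bwd (nat_lit 8) (Steps.fwd (nat_lit 1048576) (Steps.fwd (nat_lit 2097152) (Steps.fwd (nat_lit 1048576) (Steps.fwd (nat_lit 2359296) (Steps.fwd (nat_lit 1048576) (Steps.bwd (nat_lit 9) Steps.nil))))))))))))))) (nat_lit 106) (nat_lit 0),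
  Rule.mk (nat_lit 4) (nat_lit 314) (Steps.bwd (nat_lit 8) (Steps.fwd (nat_lit 1048576) (Steps.bwd (nat_lit 9) (Steps.bwd (nat_lit 4) (Steps.fwd (nat_lit 2359296) (Steps.bwd (nat_lit 4) (Steps.fwd (nat_lit 2097152) (Steps.fwd (nat_lit 1048576) (Steps.bwd (nat_lit 8) (Steps.fwd (nat_lit 1048576) (Steps.bwd (nat_lit 9) (Steps.fwd (nat_lit 1048576) (Steps.fwd (nat_lit 2359296) (Steps.bwd (nat_lit 4) (Steps.fwd (nat_lit 2097152) Steps.nil))))))))))))))) (nat_lit 106) (nat_lit 0),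
  Rule.mk (nat_lit 9) (nat_lit 314) (Steps.bwd (nat_lit 4) (Steps.bwd (nat_lit 8) (Steps.bwd (nat_lit 4) (Steps.bwd (nat_lit 9) (Steps.bwd (nat_lit 4) (Steps.fwd (nat_lit 2359296) (Steps.fwd (nat_lit 1048576) (Steps.fwd (nat_lit 2097152) (Steps.fwd (nat_lit 1048576) (Steps.fwd (nat_lit 2359296) (Steps.bwd (nat_lit 4) (Steps.bwd (nat_lit 9) (Steps.fwd (nat_lit 1048576) (Steps.fwd (nat_lit 2359296) (Steps.fwd (nat_lit 1048576) Steps.nil))))))))))))))) (nat_lit 106) (nat_lit 3),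
  Rule.mk (nat_lit 8) (nat_lit 314) (Steps.bwd (nat_lit 4) (Steps.fwd (nat_lit 2097152) (Steps.bwd (nat_lit 4) (Steps.bwd (nat_lit 8) (Steps.fwd (nat_lit 1048576) (Steps.fwd (nat_lit 2097152) (Steps.fwd (nat_lit 1048576) (Steps.fwd (nat_lit 2359296) (Steps.bwd (nat_lit 4) (Steps.bwd (nat_lit 9) (Steps.bwd (nat_lit 4) (Steps.fwd (nat_lit 2359296) (Steps.fwd (nat_lit 1048576) (Steps.bwd (nat_lit 9) (Steps.bwd (nat_lit 4) Steps.nil))))))))))))))) (nat_lit 106) (nat_lit 1),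
  Rule.mk (nat_lit 4) (nat_lit 314) (Steps.bwd (nat_lit 9) (Steps.bwd (nat_lit 4) (Steps.fwd (nat_lit 2359296) (Steps.fwd (nat_lit 1048576) (Steps.fwd (nat_lit 2097152) (Steps.fwd (nat_lit 1048576) (Steps.bwd (nat_lit 8) (Steps.bwd (nat_lit 4) (Steps.bwd (nat_lit 9) (Steps.fwd (nat_lit 1048576) (Steps.bwd (nat_lit 8) (Steps.fwd (nat_lit 1048576) (Steps.fwd (nat_lit 2097152) (Steps.fwd (nat_lit 1048576) (Steps.fwd (nat_lit 2359296) Steps.nil))))))))))))))) (nat_lit 106) (nat_lit 2),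
  Rule.mk (nat_lit 4) (nat_lit 314) (Steps.fwd (nat_lit 2359296) (Steps.fwd (nat_lit 1048576) (Steps.bwd (nat_lit 9) (Steps.bwd (nat_lit 4) (Steps.bwd (nat_lit 8) (Steps.fwd (nat_lit 1048576) (Steps.bwd (nat_lit 9) (Steps.fwd (nat_lit 1048576) (Steps.bwd (nat_lit 8) (Steps.fwd (nat_lit 1048576) (Steps.bwd (nat_lit 9) (Steps.fwd (nat_lit 1048576) (Steps.fwd (nat_lit 2359296) (Steps.fwd (nat_lit 1048576) (Steps.bwd (nat_lit 9) Steps.nil))))))))))))))) (nat_lit 106) (nat_lit 0),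
  Rule.mk (nat_lit 9) (nat_lit 314) (Steps.bwd (nat_lit 4) (Steps.bwd (nat_lit 8) (Steps.fwd (nat_lit 1048576) (Steps.fwd (nat_lit 2097152) (Steps.fwd (nat_lit 1048576) (Steps.fwd (nat_lit 2359296) (Steps.fwd (nat_lit 1048576) (Steps.fwd (nat_lit 2097152) (Steps.bwd (nat_lit 4) (Steps.fwd (nat_lit 2359296) (Steps.bwd (nat_lit 4) (Steps.bwd (nat_lit 9) (Steps.bwd (nat_lit 4) (Steps.fwd (nat_lit 2359296) (Steps.fwd (nat_lit 1048576) Steps.nil))))))))))))))) (nat_lit 106) (nat_lit 3),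
  Rule.mk (nat_lit 8) (nat_lit 314) (Steps.bwd (nat_lit 4) (Steps.fwd (nat_lit 2097152) (Steps.bwd (nat_lit 4) (Steps.bwd (nat_lit 8) (Steps.fwd (nat_lit 1048576) (Steps.fwd (nat_lit 2097152) (Steps.fwd (nat_lit 1048576) (Steps.fwd (nat_lit 2359296) (Steps.fwd (nat_lit 1048576) (Steps.fwd (nat_lit 2097152) (Steps.fwd (nat_lit 1048576) (Steps.bwd (nat_lit 8) (Steps.bwd (nat_lit 4) (Steps.fwd (nat_lit 2097152) (Steps.fwd (nat_lit 1048576) Steps.nil))))))))))))))) (nat_lit 106) (nat_lit 1),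
  Rule.mk (nat_lit 4) (nat_lit 314) (Steps.bwd (nat_lit 8) (Steps.bwd (nat_lit 4) (Steps.bwd (nat_lit 9) (Steps.bwd (nat_lit 4) (Steps.fwd (nat_lit 2359296) (Steps.bwd (nat_lit 4) (Steps.fwd (nat_lit 2097152) (Steps.fwd (nat_lit 1048576) (Steps.fwd (nat_lit 2359296) (Steps.bwd (nat_lit 4) (Steps.bwd (nat_lit 9) (Steps.fwd (nat_lit 1048576) (Steps.bwd (nat_lit 8) (Steps.fwd (nat_lit 1048576) (Steps.bwd (nat_lit 9) Steps.nil))))))))))))))) (nat_lit 106) (nat_lit 0),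
  Rule.mk (nat_lit 4) (nat_lit 314) (Steps.bwd (nat_lit 9) (Steps.bwd (nat_lit 4) (Steps.bwd (nat_lit 8) (Steps.bwd (nat_lit 4) (Steps.bwd (nat_lit 9) (Steps.fwd (nat_lit 1048576) (Steps.fwd (nat_lit 2359296) (Steps.bwd (nat_lit 4) (Steps.fwd (nat_lit 2097152) (Steps.bwd (nat_lit 4) (Steps.fwd (nat_lit 2359296) (Steps.bwd (nat_lit 4) (Steps.bwd (nat_lit 9) (Steps.fwd (nat_lit 1048576) (Steps.fwd (nat_lit 2359296) Steps.nil))))))))))))))) (nat_lit 106) (nat_lit 2),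
  Rule.mk (nat_lit 8) (nat_lit 314) (Steps.bwd (nat_lit 4) (Steps.bwd (nat_lit 9) (Steps.bwd (nat_lit 4) (Steps.fwd (nat_lit 2359296) (Steps.bwd (nat_lit 4) (Steps.fwd (nat_lit 2097152) (Steps.fwd (nat_lit 1048576) (Steps.bwd (nat_lit 8) (Steps.bwd (nat_lit 4) (Steps.fwd (nat_lit 2097152) (Steps.bwd (nat_lit 4) (Steps.fwd (nat_lit 2359296) (Steps.bwd (nat_lit 4) (Steps.bwd (nat_lit 9) (Steps.fwd (nat_lit 1048576) Steps.nil))))))))))))))) (nat_lit 106) (nat_lit 1),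
  Rule.mk (nat_lit 4) (nat_lit 314) (Steps.bwd (nat_lit 9) (Steps.bwd (nat_lit 4) (Steps.bwd (nat_lit 8) (Steps.bwd (nat_lit 4) (Steps.fwd (nat_lit 2097152) (Steps.bwd (nat_lit 4) (Steps.fwd (nat_lit 2359296) (Steps.bwd (nat_lit 4) (Steps.bwd (nat_lit 9) (Steps.bwd (nat_lit 4) (Steps.fwd (nat_lit 2359296) (Steps.fwd (nat_lit 1048576) (Steps.bwd (nat_lit 9) (Steps.fwd (nat_lit 1048576) (Steps.fwd (nat_lit 2359296) Steps.nil))))))))))))))) (nat_lit 106) (nat_lit 2),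
  Rule.mk (nat_lit 9) (nat_lit 314) (Steps.bwd (nat_lit 4) (Steps.fwd (nat_lit 2359296) (Steps.bwd (nat_lit 4) (Steps.fwd (nat_lit 2097152) (Steps.bwd (nat_lit 4) (Steps.bwd (nat_lit 8) (Steps.bwd (nat_lit 4) (Steps.bwd (nat_lit 9) (Steps.fwd (nat_lit 1048576) (Steps.bwd (nat_lit 8) (Steps.fwd (nat_lit 1048576) (Steps.bwd (nat_lit 9) (Steps.bwd (nat_lit 4) (Steps.bwd (nat_lit 8) (Steps.bwd (nat_lit 4) Steps.nil))))))))))))))) (nat_lit 106) (nat_lit 3),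
  Rule.mk (nat_lit 8) (nat_lit 314) (Steps.bwd (nat_lit 4) (Steps.bwd (nat_lit 9) (Steps.fwd (nat_lit 1048576) (Steps.fwd (nat_lit 2359296) (Steps.bwd (nat_lit 4) (Steps.bwd (nat_lit 9) (Steps.bwd (nat_lit 4) (Steps.bwd (nat_lit 8) (Steps.fwd (nat_lit 1048576) (Steps.bwd (nat_lit 9) (Steps.fwd (nat_lit 1048576) (Steps.fwd (nat_lit 2359296) (Steps.fwd (nat_lit 1048576) (Steps.bwd (nat_lit 9) (Steps.fwd (nat_lit 1048576) Steps.nil))))))))))))))) (nat_lit 106) (nat_lit 1),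
  Rule.mk (nat_lit 9) (nat_lit 314) (Steps.bwd (nat_lit 4) (Steps.bwd (nat_lit 8) (Steps.fwd (nat_lit 1048576) (Steps.bwd (nat_lit 9) (Steps.fwd (nat_lit 1048576) (Steps.bwd (nat_lit 8) (Steps.fwd (nat_lit 1048576) (Steps.bwd (nat_lit 9) (Steps.bwd (nat_lit 4) (Steps.fwd (nat_lit 2359296) (Steps.bwd (nat_lit 4) (Steps.bwd (nat_lit 9) (Steps.fwd (nat_lit 1048576) (Steps.fwd (nat_lit 2359296) (Steps.fwd (nat_lit 1048576) Steps.nil))))))))))))))) (nat_lit 106) (nat_lit 3),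
  Rule.mk (nat_lit 4) (nat_lit 314) (Steps.bwd (nat_lit 9) (Steps.bwd (nat_lit 4) (Steps.fwd (nat_lit 2359296) (Steps.bwd (nat_lit 4) (Steps.fwd (nat_lit 2097152) (Steps.fwd (nat_lit 1048576) (Steps.bwd (nat_lit 8) (Steps.bwd (nat_lit 4) (Steps.bwd (nat_lit 9) (Steps.fwd (nat_lit 1048576) (Steps.fwd (nat_lit 2359296) (Steps.fwd (nat_lit 1048576) (Steps.fwd (nat_lit 2097152) (Steps.fwd (nat_lit 1048576) (Steps.fwd (nat_lit 2359296) Steps.nil))))))))))))))) (nat_lit 106) (nat_lit 2),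
  Rule.mk (nat_lit 8) (nat_lit 314) (Steps.fwd (nat_lit 1048576) (Steps.fwd (nat_lit 2097152) (Steps.fwd (nat_lit 1048576) (Steps.fwd (nat_lit 2359296) (Steps.bwd (nat_lit 4) (Steps.bwd (nat_lit 9) (Steps.fwd (nat_lit 1048576) (Steps.bwd (nat_lit 8) (Steps.bwd (nat_lit 4) (Steps.bwd (nat_lit 9) (Steps.fwd (nat_lit 1048576) (Steps.fwd (nat_lit 2359296) (Steps.bwd (nat_lit 4) (Steps.bwd (nat_lit 9) (Steps.bwd (nat_lit 4) Steps.nil))))))))))))))) (nat_lit 106) (nat_lit 1),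
  Rule.mk (nat_lit 9) (nat_lit 314) (Steps.bwd (nat_lit 4) (Steps.fwd (nat_lit 2359296) (Steps.fwd (nat_lit 1048576) (Steps.fwd (nat_lit 2097152) (Steps.fwd (nat_lit 1048576) (Steps.fwd (nat_lit 2359296) (Steps.fwd (nat_lit 1048576) (Steps.fwd (nat_lit 2097152) (Steps.bwd (nat_lit 4) (Steps.bwd (nat_lit 8) (Steps.fwd (nat_lit 1048576) (Steps.fwd (nat_lit 2097152) (Steps.bwd (nat_lit 4) (Steps.bwd (nat_lit 8) (Steps.bwd (nat_lit 4) Steps.nil))))))))))))))) (nat_lit 106) (nat_lit 3),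
  Rule.mk (nat_lit 4) (nat_lit 314) (Steps.bwd (nat_lit 8) (Steps.bwd (nat_lit 4) (Steps.bwd (nat_lit 9) (Steps.fwd (nat_lit 1048576) (Steps.bwd (nat_lit 8) (Steps.bwd (nat_lit 4) (Steps.bwd (nat_lit 9) (Steps.bwd (nat_lit 4) (Steps.bwd (nat_lit 8) (Steps.bwd (nat_lit 4) (Steps.fwd (nat_lit 2097152) (Steps.fwd (nat_lit 1048576) (Steps.bwd (nat_lit 8) (Steps.fwd (nat_lit 1048576) (Steps.bwd (nat_lit 9) Steps.nil))))))))))))))) (nat_lit 106) (nat_lit 0),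
  Rule.mk (nat_lit 4) (nat_lit 314) (Steps.bwd (nat_lit 9) (Steps.bwd (nat_lit 4) (Steps.fwd (nat_lit 2359296) (Steps.bwd (nat_lit 4) (Steps.bwd (nat_lit 9) (Steps.bwd (nat_lit 4) (Steps.bwd (nat_lit 8) (Steps.fwd (nat_lit 1048576) (Steps.bwd (nat_lit 9) (Steps.fwd (nat_lit 1048576) (Steps.bwd (nat_lit 8) (Steps.fwd (nat_lit 1048576) (Steps.fwd (nat_lit 2097152) (Steps.bwd (nat_lit 4) (Steps.bwd (nat_lit 8) Steps.nil))))))))))))))) (nat_lit 106) (nat_lit 2),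
  Rule.mk (nat_lit 9) (nat_lit 314) (Steps.bwd (nat_lit 4) (Steps.bwd (nat_lit 8) (Steps.bwd (nat_lit 4) (Steps.fwd (nat_lit 2097152) (Steps.bwd (nat_lit 4) (Steps.bwd (nat_lit 8) (Steps.bwd (nat_lit 4) (Steps.bwd (nat_lit 9) (Steps.fwd (nat_lit 1048576) (Steps.fwd (nat_lit 2359296) (Steps.bwd (nat_lit 4) (Steps.bwd (nat_lit 9) (Steps.bwd (nat_lit 4) (Steps.fwd (nat_lit 2359296) (Steps.fwd (nat_lit 1048576) Steps.nil))))))))))))))) (nat_lit 106) (nat_lit 3),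
  Rule.mk (nat_lit 9) (nat_lit 314) (Steps.fwd (nat_lit 1048576) (Steps.fwd (nat_lit 2359296) (Steps.fwd (nat_lit 1048576) (Steps.fwd (nat_lit 2097152) (Steps.fwd (nat_lit 1048576) (Steps.fwd (nat_lit 2359296) (Steps.bwd (nat_lit 4) (Steps.bwd (nat_lit 9) (Steps.fwd (nat_lit 1048576) (Steps.bwd (nat_lit 8) (Steps.fwd (nat_lit 1048576) (Steps.fwd (nat_lit 2097152) (Steps.bwd (nat_lit 4) (Steps.fwd (nat_lit 2359296) (Steps.bwd (nat_lit 4) Steps.nil))))))))))))))) (nat_lit 106) (nat_lit 3),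
  Rule.mk (nat_lit 4) (nat_lit 314) (Steps.bwd (nat_lit 8) (Steps.bwd (nat_lit 4) (Steps.bwd (nat_lit 9) (Steps.fwd (nat_lit 1048576) (Steps.bwd (nat_lit 8) (Steps.fwd (nat_lit 1048576) (Steps.bwd (nat_lit 9) (Steps.fwd (nat_lit 1048576) (Steps.fwd (nat_lit 2359296) (Steps.fwd (nat_lit 1048576) (Steps.fwd (nat_lit 2097152) (Steps.bwd (nat_lit 4) (Steps.bwd (nat_lit 8) (Steps.bwd (nat_lit 4) (Steps.bwd (nat_lit 9) Steps.nil))))))))))))))) (nat_lit 106) (nat_lit 0),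
  Rule.mk (nat_lit 5) (nat_lit 94) (Steps.fwd (nat_lit 1835008) (Steps.fwd (nat_lit 2359296) (Steps.bwd (nat_lit 5) (Steps.bwd (nat_lit 9) Steps.nil)))) (nat_lit 100) (nat_lit 4),
  Rule.mk (nat_lit 4) (nat_lit 314) (Steps.bwd (nat_lit 9) (Steps.bwd (nat_lit 4) (Steps.fwd (nat_lit 2359296) (Steps.bwd (nat_lit 4) (Steps.bwd (nat_lit 9) (Steps.fwd (nat_lit 1048576) (Steps.fwd (nat_lit 2359296) (Steps.fwd (nat_lit 1048576) (Steps.fwd (nat_lit 2097152) (Steps.fwd (nat_lit 1048576) (Steps.fwd (nat_lit 2359296) (Steps.fwd (nat_lit 1048576) (Steps.bwd (nat_lit 9) (Steps.bwd (nat_lit 4) (Steps.bwd (nat_lit 8) Steps.nil))))))))))))))) (nat_lit 106) (nat_lit 2),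
  Rule.mk (nat_lit 6) (nat_lit 274) (Steps.bwd (nat_lit 1) (Steps.fwd (nat_lit 524288) (Steps.bwd (nat_lit 5) (Steps.fwd (nat_lit 1572864) (Steps.bwd (nat_lit 1) (Steps.fwd (nat_lit 1572864) (Steps.bwd (nat_lit 1) (Steps.bwd (nat_lit 3) (Steps.bwd (nat_lit 1) (Steps.fwd (nat_lit 1572864) (Steps.fwd (nat_lit 262144) (Steps.bwd (nat_lit 3) (Steps.bwd (nat_lit 1) Steps.nil))))))))))))) (nat_lit 35) (nat_lit 12),
  Rule.mk (nat_lit 9) (nat_lit 314) (Steps.bwd (nat_lit 4) (Steps.bwd (nat_lit 8) (Steps.bwd (nat_lit 4) (Steps.bwd (nat_lit 9) (Steps.fwd (nat_lit 1048576) (Steps.fwd (nat_lit 2359296) (Steps.bwd (nat_lit 4) (Steps.fwd (nat_lit 2097152) (Steps.bwd (nat_lit 4) (Steps.fwd (nat_lit 2359296) (Steps.fwd (nat_lit 1048576) (Steps.fwd (nat_lit 2097152) (Steps.fwd (nat_lit 1048576) (Steps.fwd (nat_lit 2359296) (Steps.fwd (nat_lit 1048576) Steps.nil)))))))))))))))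 (nat_lit 106) (nat_lit 3),
  Rule.mk (nat_lit 3) (nat_lit 154) (Steps.bwd (nat_lit 1) (Steps.fwd (nat_lit 786432) (Steps.fwd (nat_lit 262144) (Steps.fwd (nat_lit 524288) (Steps.fwd (nat_lit 262144) (Steps.fwd (nat_lit 786432) (Steps.bwd (nat_lit 1) Steps.nil))))))) (nat_lit 68) (nat_lit 0),
  Rule.mk (nat_lit 9) (nat_lit 314) (Steps.bwd (nat_lit 4) (Steps.fwd (nat_lit 2359296) (Steps.bwd (nat_lit 4) (Steps.bwd (nat_lit 9) (Steps.bwd (nat_lit 4) (Steps.bwd (nat_lit 8) (Steps.fwd (nat_lit 1048576) (Steps.bwd (nat_lit 9) (Steps.fwd (nat_lit 1048576) (Steps.fwd (nat_lit 2359296) (Steps.fwd (nat_lit 1048576) (Steps.fwd (nat_lit 2097152) (Steps.fwd (nat_lit 1048576) (Steps.fwd (nat_lit 2359296) (Steps.fwd (nat_lit 1048576) Steps.nil))))))))))))))) (nat_lit 106) (nat_lit 3),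
  Rule.mk (nat_lit 8) (nat_lit 314) (Steps.bwd (nat_lit 4) (Steps.bwd (nat_lit 9) (Steps.bwd (nat_lit 4) (Steps.fwd (nat_lit 2359296) (Steps.bwd (nat_lit 4) (Steps.bwd (nat_lit 9) (Steps.bwd (nat_lit 4) (Steps.fwd (nat_lit 2359296) (Steps.bwd (nat_lit 4) (Steps.fwd (nat_lit 2097152) (Steps.bwd (nat_lit 4) (Steps.bwd (nat_lit 8) (Steps.bwd (nat_lit 4) (Steps.bwd (nat_lit 9) (Steps.fwd (nat_lit 1048576) Steps.nil))))))))))))))) (nat_lit 106) (nat_lit 1),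
  Rule.mk (nat_lit 4) (nat_lit 314) (Steps.bwd (nat_lit 9) (Steps.bwd (nat_lit 4) (Steps.fwd (nat_lit 2359296) (Steps.bwd (nat_lit 4) (Steps.bwd (nat_lit 9) (Steps.bwd (nat_lit 4) (Steps.fwd (nat_lit 2359296) (Steps.fwd (nat_lit 1048576) (Steps.fwd (nat_lit 2097152) (Steps.fwd (nat_lit 1048576) (Steps.fwd (nat_lit 2359296) (Steps.bwd (nat_lit 4) (Steps.bwd (nat_lit 9) (Steps.bwd (nat_lit 4) (Steps.bwd (nat_lit 8) Steps.nil))))))))))))))) (nat_lit 106) (nat_lit 2),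
  Rule.mk (nat_lit 4) (nat_lit 314) (Steps.bwd (nat_lit 9) (Steps.fwd (nat_lit 1048576) (Steps.bwd (nat_lit 8) (Steps.bwd (nat_lit 4) (Steps.bwd (nat_lit 9) (Steps.fwd (nat_lit 1048576) (Steps.bwd (nat_lit 8) (Steps.bwd (nat_lit 4) (Steps.bwd (nat_lit 9) (Steps.fwd (nat_lit 1048576) (Steps.bwd (nat_lit 8) (Steps.bwd (nat_lit 4) (Steps.bwd (nat_lit 9) (Steps.fwd (nat_lit 1048576) (Steps.fwd (nat_lit 2359296) Steps.nil))))))))))))))) (nat_lit 106) (nat_lit 2),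
  Rule.mk (nat_lit 4) (nat_lit 314) (Steps.bwd (nat_lit 9) (Steps.fwd (nat_lit 1048576) (Steps.bwd (nat_lit 8) (Steps.fwd (nat_lit 1048576) (Steps.fwd (nat_lit 2097152) (Steps.bwd (nat_lit 4) (Steps.fwd (nat_lit 2359296) (Steps.fwd (nat_lit 1048576) (Steps.bwd (nat_lit 9) (Steps.bwd (nat_lit 4) (Steps.fwd (nat_lit 2359296) (Steps.fwd (nat_lit 1048576) (Steps.bwd (nat_lit 9) (Steps.fwd (nat_lit 1048576) (Steps.bwd (nat_lit 8) Steps.nil))))))))))))))) (nat_lit 106) (nat_lit 2),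
  Rule.mk (nat_lit 9) (nat_lit 314) (Steps.bwd (nat_lit 4) (Steps.fwd (nat_lit 2359296) (Steps.fwd (nat_lit 1048576) (Steps.fwd (nat_lit 2097152) (Steps.fwd (nat_lit 1048576) (Steps.fwd (nat_lit 2359296) (Steps.bwd (nat_lit 4) (Steps.bwd (nat_lit 9) (Steps.bwd (nat_lit 4) (Steps.bwd (nat_lit 8) (Steps.bwd (nat_lit 4) (Steps.bwd (nat_lit 9) (Steps.bwd (nat_lit 4) (Steps.fwd (nat_lit 2359296) (Steps.fwd (nat_lit 1048576) Steps.nil))))))))))))))) (nat_lit 106) (nat_lit 3),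
  Rule.mk (nat_lit 8) (nat_lit 314) (Steps.bwd (nat_lit 4) (Steps.bwd (nat_lit 9) (Steps.bwd (nat_lit 4) (Steps.fwd (nat_lit 2359296) (Steps.bwd (nat_lit 4) (Steps.bwd (nat_lit 9) (Steps.bwd (nat_lit 4) (Steps.fwd (nat_lit 2359296) (Steps.fwd (nat_lit 1048576) (Steps.bwd (nat_lit 9) (Steps.fwd (nat_lit 1048576) (Steps.bwd (nat_lit 8) (Steps.bwd (nat_lit 4) (Steps.fwd (nat_lit 2097152) (Steps.fwd (nat_lit 1048576) Steps.nil))))))))))))))) (nat_lit 106) (nat_lit 1),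
  Rule.mk (nat_lit 9) (nat_lit 314) (Steps.bwd (nat_lit 4) (Steps.fwd (nat_lit 2359296) (Steps.bwd (nat_lit 4) (Steps.fwd (nat_lit 2097152) (Steps.bwd (nat_lit 4) (Steps.fwd (nat_lit 2359296) (Steps.fwd (nat_lit 1048576) (Steps.fwd (nat_lit 2097152) (Steps.fwd (nat_lit 1048576) (Steps.fwd (nat_lit 2359296) (Steps.bwd (nat_lit 4) (Steps.bwd (nat_lit 9) (Steps.bwd (nat_lit 4) (Steps.fwd (nat_lit 2359296) (Steps.bwd (nat_lit 4) Steps.nil))))))))))))))) (nat_lit 106) (nat_lit 3),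
  Rule.mk (nat_lit 4) (nat_lit 314) (Steps.bwd (nat_lit 8) (Steps.fwd (nat_lit 1048576) (Steps.bwd (nat_lit 9) (Steps.fwd (nat_lit 1048576) (Steps.bwd (nat_lit 8) (Steps.bwd (nat_lit 4) (Steps.bwd (nat_lit 9) (Steps.fwd (nat_lit 1048576) (Steps.fwd (nat_lit 2359296) (Steps.fwd (nat_lit 1048576) (Steps.bwd (nat_lit 9) (Steps.fwd (nat_lit 1048576) (Steps.bwd (nat_lit 8) (Steps.bwd (nat_lit 4) (Steps.bwd (nat_lit 9) Steps.nil))))))))))))))) (nat_lit 106) (nat_lit 0),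
  Rule.mk (nat_lit 4) (nat_lit 314) (Steps.bwd (nat_lit 9) (Steps.fwd (nat_lit 1048576) (Steps.bwd (nat_lit 8) (Steps.fwd (nat_lit 1048576) (Steps.fwd (nat_lit 2097152) (Steps.fwd (nat_lit 1048576) (Steps.bwd (nat_lit 8) (Steps.fwd (nat_lit 1048576) (Steps.fwd (nat_lit 2097152) (Steps.fwd (nat_lit 1048576) (Steps.fwd (nat_lit 2359296) (Steps.fwd (nat_lit 1048576) (Steps.bwd (nat_lit 9) (Steps.fwd (nat_lit 1048576) (Steps.fwd (nat_lit 2359296) Steps.nil))))))))))))))) (nat_lit 106) (nat_lit 2),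
  Rule.mk (nat_lit 4) (nat_lit 314) (Steps.bwd (nat_lit 9) (Steps.bwd (nat_lit 4) (Steps.fwd (nat_lit 2359296) (Steps.bwd (nat_lit 4) (Steps.fwd (nat_lit 2097152) (Steps.fwd (nat_lit 1048576) (Steps.fwd (nat_lit 2359296) (Steps.fwd (nat_lit 1048576) (Steps.bwd (nat_lit 9) (Steps.bwd (nat_lit 4) (Steps.bwd (nat_lit 8) (Steps.fwd (nat_lit 1048576) (Steps.bwd (nat_lit 9) (Steps.fwd (nat_lit 1048576) (Steps.fwd (nat_lit 2359296) Steps.nil))))))))))))))) (nat_lit 106) (nat_lit 2),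
  Rule.mk (nat_lit 8) (nat_lit 314) (Steps.bwd (nat_lit 4) (Steps.fwd (nat_lit 2097152) (Steps.bwd (nat_lit 4) (Steps.fwd (nat_lit 2359296) (Steps.fwd (nat_lit 1048576) (Steps.fwd (nat_lit 2097152) (Steps.bwd (nat_lit 4) (Steps.bwd (nat_lit 8) (Steps.fwd (nat_lit 1048576) (Steps.fwd (nat_lit 2097152) (Steps.bwd (nat_lit 4) (Steps.fwd (nat_lit 2359296) (Steps.fwd (nat_lit 1048576) (Steps.bwd (nat_lit 9) (Steps.bwd (nat_lit 4) Steps.nil))))))))))))))) (nat_lit 106) (nat_lit 1),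
  Rule.mk (nat_lit 9) (nat_lit 314) (Steps.bwd (nat_lit 4) (Steps.fwd (nat_lit 2359296) (Steps.bwd (nat_lit 4) (Steps.fwd (nat_lit 2097152) (Steps.bwd (nat_lit 4) (Steps.bwd (nat_lit 8) (Steps.bwd (nat_lit 4) (Steps.bwd (nat_lit 9) (Steps.bwd (nat_lit 4) (Steps.fwd (nat_lit 2359296) (Steps.fwd (nat_lit 1048576) (Steps.fwd (nat_lit 2097152) (Steps.bwd (nat_lit 4) (Steps.fwd (nat_lit 2359296) (Steps.fwd (nat_lit 1048576) Steps.nil))))))))))))))) (nat_lit 106) (nat_lit 3),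
  Rule.mk (nat_lit 9) (nat_lit 314) (Steps.bwd (nat_lit 4) (Steps.bwd (nat_lit 8) (Steps.bwd (nat_lit 4) (Steps.bwd (nat_lit 9) (Steps.bwd (nat_lit 4) (Steps.fwd (nat_lit 2359296) (Steps.bwd (nat_lit 4) (Steps.bwd (nat_lit 9) (Steps.bwd (nat_lit 4) (Steps.fwd (nat_lit 2359296) (Steps.bwd (nat_lit 4) (Steps.bwd (nat_lit 9) (Steps.fwd (nat_lit 1048576) (Steps.bwd (nat_lit 8) (Steps.bwd (nat_lit 4) Steps.nil))))))))))))))) (nat_lit 106) (nat_lit 3),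
  Rule.mk (nat_lit 4) (nat_lit 314) (Steps.bwd (nat_lit 9) (Steps.bwd (nat_lit 4) (Steps.bwd (nat_lit 8) (Steps.bwd (nat_lit 4) (Steps.bwd (nat_lit 9) (Steps.fwd (nat_lit 1048576) (Steps.bwd (nat_lit 8) (Steps.bwd (nat_lit 4) (Steps.fwd (nat_lit 2097152) (Steps.bwd (nat_lit 4) (Steps.fwd (nat_lit 2359296) (Steps.bwd (nat_lit 4) (Steps.bwd (nat_lit 9) (Steps.fwd (nat_lit 1048576) (Steps.bwd (nat_lit 8) Steps.nil))))))))))))))) (nat_lit 106) (nat_lit 2),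
  Rule.mk (nat_lit 4) (nat_lit 314) (Steps.bwd (nat_lit 9) (Steps.bwd (nat_lit 4) (Steps.fwd (nat_lit 2359296) (Steps.fwd (nat_lit 1048576) (Steps.bwd (nat_lit 9) (Steps.fwd (nat_lit 1048576) (Steps.fwd (nat_lit 2359296) (Steps.fwd (nat_lit 1048576) (Steps.bwd (nat_lit 9) (Steps.fwd (nat_lit 1048576) (Steps.fwd (nat_lit 2359296) (Steps.fwd (nat_lit 1048576) (Steps.fwd (nat_lit 2097152) (Steps.fwd (nat_lit 1048576) (Steps.fwd (nat_lit 2359296) Steps.nil))))))))))))))) (nat_lit 106) (nat_lit 2),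
  Rule.mk (nat_lit 9) (nat_lit 314) (Steps.bwd (nat_lit 4) (Steps.bwd (nat_lit 8) (Steps.bwd (nat_lit 4) (Steps.bwd (nat_lit 9) (Steps.bwd (nat_lit 4) (Steps.bwd (nat_lit 8) (Steps.bwd (nat_lit 4) (Steps.fwd (nat_lit 2097152) (Steps.fwd (nat_lit 1048576) (Steps.bwd (nat_lit 8) (Steps.fwd (nat_lit 1048576) (Steps.bwd (nat_lit 9) (Steps.fwd (nat_lit 1048576) (Steps.bwd (nat_lit 8) (Steps.fwd (nat_lit 1048576) Steps.nil))))))))))))))) (nat_lit 106) (nat_lit 3),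
  Rule.mk (nat_lit 4) (nat_lit 314) (Steps.bwd (nat_lit 8) (Steps.bwd (nat_lit 4) (Steps.fwd (nat_lit 2097152) (Steps.bwd (nat_lit 4) (Steps.bwd (nat_lit 8) (Steps.bwd (nat_lit 4) (Steps.fwd (nat_lit 2097152) (Steps.bwd (nat_lit 4) (Steps.fwd (nat_lit 2359296) (Steps.fwd (nat_lit 1048576) (Steps.fwd (nat_lit 2097152) (Steps.fwd (nat_lit 1048576) (Steps.fwd (nat_lit 2359296) (Steps.fwd (nat_lit 1048576) (Steps.fwd (nat_lit 2097152) Steps.nil))))))))))))))) (nat_lit 106) (nat_lit 0),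
  Rule.mk (nat_lit 8) (nat_lit 314) (Steps.bwd (nat_lit 4) (Steps.bwd (nat_lit 9) (Steps.fwd (nat_lit 1048576) (Steps.bwd (nat_lit 8) (Steps.fwd (nat_lit 1048576) (Steps.fwd (nat_lit 2097152) (Steps.fwd (nat_lit 1048576) (Steps.fwd (nat_lit 2359296) (Steps.fwd (nat_lit 1048576) (Steps.bwd (nat_lit 9) (Steps.fwd (nat_lit 1048576) (Steps.fwd (nat_lit 2359296) (Steps.bwd (nat_lit 4) (Steps.bwd (nat_lit 9) (Steps.bwd (nat_lit 4) Steps.nil))))))))))))))) (nat_lit 106) (nat_lit 1),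
  Rule.mk (nat_lit 4) (nat_lit 314) (Steps.bwd (nat_lit 8) (Steps.bwd (nat_lit 4) (Steps.bwd (nat_lit 9) (Steps.fwd (nat_lit 1048576) (Steps.fwd (nat_lit 2359296) (Steps.fwd (nat_lit 1048576) (Steps.bwd (nat_lit 9) (Steps.bwd (nat_lit 4) (Steps.fwd (nat_lit 2359296) (Steps.bwd (nat_lit 4) (Steps.fwd (nat_lit 2097152) (Steps.fwd (nat_lit 1048576) (Steps.fwd (nat_lit 2359296) (Steps.fwd (nat_lit 1048576) (Steps.bwd (nat_lit 9) Steps.nil))))))))))))))) (nat_lit 106) (nat_lit 0),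
  Rule.mk (nat_lit 4) (nat_lit 314) (Steps.bwd (nat_lit 8) (Steps.bwd (nat_lit 4) (Steps.bwd (nat_lit 9) (Steps.fwd (nat_lit 1048576) (Steps.fwd (nat_lit 2359296) (Steps.bwd (nat_lit 4) (Steps.fwd (nat_lit 2097152) (Steps.fwd (nat_lit 1048576) (Steps.bwd (nat_lit 8) (Steps.bwd (nat_lit 4) (Steps.bwd (nat_lit 9) (Steps.fwd (nat_lit 1048576) (Steps.bwd (nat_lit 8) (Steps.bwd (nat_lit 4) (Steps.fwd (nat_lit 2097152) Steps.nil))))))))))))))) (nat_lit 106) (nat_lit 0),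
  Rule.mk (nat_lit 8) (nat_lit 314) (Steps.bwd (nat_lit 4) (Steps.bwd (nat_lit 9) (Steps.bwd (nat_lit 4) (Steps.bwd (nat_lit 8) (Steps.bwd (nat_lit 4) (Steps.bwd (nat_lit 9) (Steps.fwd (nat_lit 1048576) (Steps.fwd (nat_lit 2359296) (Steps.fwd (nat_lit 1048576) (Steps.bwd (nat_lit 9) (Steps.bwd (nat_lit 4) (Steps.bwd (nat_lit 8) (Steps.fwd (nat_lit 1048576) (Steps.bwd (nat_lit 9) (Steps.fwd (nat_lit 1048576) Steps.nil))))))))))))))) (nat_lit 106) (nat_lit 1),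
  Rule.mk (nat_lit 8) (nat_lit 314) (Steps.fwd (nat_lit 1048576) (Steps.bwd (nat_lit 9) (Steps.fwd (nat_lit 1048576) (Steps.bwd (nat_lit 8) (Steps.fwd (nat_lit 1048576) (Steps.fwd (nat_lit 2097152) (Steps.bwd (nat_lit 4) (Steps.fwd (nat_lit 2359296) (Steps.bwd (nat_lit 4) (Steps.fwd (nat_lit 2097152) (Steps.bwd (nat_lit 4) (Steps.fwd (nat_lit 2359296) (Steps.bwd (nat_lit 4) (Steps.bwd (nat_lit 9) (Steps.bwd (nat_lit 4) Steps.nil))))))))))))))) (nat_lit 106) (nat_lit 1),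
  Rule.mk (nat_lit 9) (nat_lit 314) (Steps.bwd (nat_lit 4) (Steps.fwd (nat_lit 2359296) (Steps.bwd (nat_lit 4) (Steps.bwd (nat_lit 9) (Steps.bwd (nat_lit 4) (Steps.fwd (nat_lit 2359296) (Steps.bwd (nat_lit 4) (Steps.bwd (nat_lit 9) (Steps.fwd (nat_lit 1048576) (Steps.bwd (nat_lit 8) (Steps.bwd (nat_lit 4) (Steps.fwd (nat_lit 2097152) (Steps.fwd (nat_lit 1048576) (Steps.fwd (nat_lit 2359296) (Steps.fwd (nat_lit 1048576) Steps.nil))))))))))))))) (nat_lit 106) (nat_lit 3),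
  Rule.mk (nat_lit 8) (nat_lit 314) (Steps.bwd (nat_lit 4) (Steps.bwd (nat_lit 9) (Steps.bwd (nat_lit 4) (Steps.fwd (nat_lit 2359296) (Steps.bwd (nat_lit 4) (Steps.bwd (nat_lit 9) (Steps.bwd (nat_lit 4) (Steps.fwd (nat_lit 2359296) (Steps.fwd (nat_lit 1048576) (Steps.fwd (nat_lit 2097152) (Steps.fwd (nat_lit 1048576) (Steps.fwd (nat_lit 2359296) (Steps.bwd (nat_lit 4) (Steps.bwd (nat_lit 9) (Steps.bwd (nat_lit 4) Steps.nil))))))))))))))) (nat_lit 106) (nat_lit 1),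
  Rule.mk (nat_lit 8) (nat_lit 314) (Steps.bwd (nat_lit 4) (Steps.bwd (nat_lit 9) (Steps.fwd (nat_lit 1048576) (Steps.bwd (nat_lit 8) (Steps.bwd (nat_lit 4) (Steps.bwd (nat_lit 9) (Steps.fwd (nat_lit 1048576) (Steps.fwd (nat_lit 2359296) (Steps.bwd (nat_lit 4) (Steps.bwd (nat_lit 9) (Steps.fwd (nat_lit 1048576) (Steps.bwd (nat_lit 8) (Steps.fwd (nat_lit 1048576) (Steps.bwd (nat_lit 9) (Steps.bwd (nat_lit 4) Steps.nil))))))))))))))) (nat_lit 106) (nat_lit 1),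
  Rule.mk (nat_lit 9) (nat_lit 314) (Steps.bwd (nat_lit 4) (Steps.bwd (nat_lit 8) (Steps.bwd (nat_lit 4) (Steps.fwd (nat_lit 2097152) (Steps.bwd (nat_lit 4) (Steps.fwd (nat_lit 2359296) (Steps.fwd (nat_lit 1048576) (Steps.fwd (nat_lit 2097152) (Steps.bwd (nat_lit 4) (Steps.fwd (nat_lit 2359296) (Steps.bwd (nat_lit 4) (Steps.bwd (nat_lit 9) (Steps.fwd (nat_lit 1048576) (Steps.fwd (nat_lit 2359296) (Steps.fwd (nat_lit 1048576) Steps.nil))))))))))))))) (nat_lit 106) (nat_lit 3),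
  Rule.mk (nat_lit 8) (nat_lit 314) (Steps.bwd (nat_lit 4) (Steps.fwd (nat_lit 2097152) (Steps.bwd (nat_lit 4) (Steps.fwd (nat_lit 2359296) (Steps.bwd (nat_lit 4) (Steps.bwd (nat_lit 9) (Steps.bwd (nat_lit 4) (Steps.fwd (nat_lit 2359296) (Steps.fwd (nat_lit 1048576) (Steps.fwd (nat_lit 2097152) (Steps.bwd (nat_lit 4) (Steps.fwd (nat_lit 2359296) (Steps.fwd (nat_lit 1048576) (Steps.bwd (nat_lit 9) (Steps.bwd (nat_lit 4) Steps.nil))))))))))))))) (nat_lit 106) (nat_lit 1),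
  Rule.mk (nat_lit 4) (nat_lit 314) (Steps.bwd (nat_lit 8) (Steps.bwd (nat_lit 4) (Steps.bwd (nat_lit 9) (Steps.bwd (nat_lit 4) (Steps.fwd (nat_lit 2359296) (Steps.bwd (nat_lit 4) (Steps.bwd (nat_lit 9) (Steps.fwd (nat_lit 1048576) (Steps.fwd (nat_lit 2359296) (Steps.bwd (nat_lit 4) (Steps.fwd (nat_lit 2097152) (Steps.bwd (nat_lit 4) (Steps.fwd (nat_lit 2359296) (Steps.fwd (nat_lit 1048576) (Steps.fwd (nat_lit 2097152) Steps.nil))))))))))))))) (nat_lit 106) (nat_lit 0),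
  Rule.mk (nat_lit 8) (nat_lit 314) (Steps.bwd (nat_lit 4) (Steps.bwd (nat_lit 9) (Steps.bwd (nat_lit 4) (Steps.bwd (nat_lit 8) (Steps.bwd (nat_lit 4) (Steps.fwd (nat_lit 2097152) (Steps.fwd (nat_lit 1048576) (Steps.fwd (nat_lit 2359296) (Steps.fwd (nat_lit 1048576) (Steps.bwd (nat_lit 9) (Steps.fwd (nat_lit 1048576) (Steps.bwd (nat_lit 8) (Steps.fwd (nat_lit 1048576) (Steps.bwd (nat_lit 9) (Steps.bwd (nat_lit 4) Steps.nil))))))))))))))) (nat_lit 106) (nat_lit 1),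
  Rule.mk (nat_lit 8) (nat_lit 314) (Steps.bwd (nat_lit 4) (Steps.bwd (nat_lit 9) (Steps.fwd (nat_lit 1048576) (Steps.fwd (nat_lit 2359296) (Steps.bwd (nat_lit 4) (Steps.bwd (nat_lit 9) (Steps.fwd (nat_lit 1048576) (Steps.bwd (nat_lit 8) (Steps.bwd (nat_lit 4) (Steps.bwd (nat_lit 9) (Steps.bwd (nat_lit 4) (Steps.bwd (nat_lit 8) (Steps.bwd (nat_lit 4) (Steps.fwd (nat_lit 2097152) (Steps.fwd (nat_lit 1048576) Steps.nil))))))))))))))) (nat_lit 106) (nat_lit 1)]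
noncomputable def R_130 : List (Rule) := [Rule.mk (nat_lit 4) (nat_lit 314) (Steps.bwd (nat_lit 9) (Steps.bwd (nat_lit 4) (Steps.fwd (nat_lit 2359296) (Steps.fwd (nat_lit 1048576) (Steps.bwd (nat_lit 9) (Steps.fwd (nat_lit 1048576) (Steps.fwd (nat_lit 2359296) (Steps.fwd (nat_lit 1048576) (Steps.bwd (nat_lit 9) (Steps.fwd (nat_lit 1048576) (Steps.fwd (nat_lit 2359296) (Steps.bwd (nat_lit 4) (Steps.fwd (nat_lit 2097152) (Steps.bwd (nat_lit 4) (Steps.bwd (nat_lit 8) Steps.nil))))))))))))))) (nat_lit 106) (nat_lit 2),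
  Rule.mk (nat_lit 4) (nat_lit 314) (Steps.bwd (nat_lit 8) (Steps.fwd (nat_lit 1048576) (Steps.bwd (nat_lit 9) (Steps.fwd (nat_lit 1048576) (Steps.fwd (nat_lit 2359296) (Steps.fwd (nat_lit 1048576) (Steps.fwd (nat_lit 2097152) (Steps.bwd (nat_lit 4) (Steps.fwd (nat_lit 2359296) (Steps.fwd (nat_lit 1048576) (Steps.fwd (nat_lit 2097152) (Steps.fwd (nat_lit 1048576) (Steps.fwd (nat_lit 2359296) (Steps.fwd (nat_lit 1048576) (Steps.fwd (nat_lit 2097152) Steps.nil))))))))))))))) (nat_lit 106) (nat_lit 0),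
  Rule.mk (nat_lit 6) (nat_lit 274) (Steps.bwd (nat_lit 1) (Steps.fwd (nat_lit 1572864) (Steps.bwd (nat_lit 5) (Steps.bwd (nat_lit 2) (Steps.bwd (nat_lit 1) (Steps.fwd (nat_lit 1572864) (Steps.fwd (nat_lit 262144) (Steps.fwd (nat_lit 786432) (Steps.fwd (nat_lit 262144) (Steps.fwd (nat_lit 1572864) (Steps.bwd (nat_lit 1) (Steps.bwd (nat_lit 2) (Steps.bwd (nat_lit 1) Steps.nil))))))))))))) (nat_lit 34) (nat_lit 11),
  Rule.mk (nat_lit 9) (nat_lit 314) (Steps.bwd (nat_lit 4) (Steps.fwd (nat_lit 2359296) (Steps.bwd (nat_lit 4) (Steps.bwd (nat_lit 9) (Steps.bwd (nat_lit 4) (Steps.bwd (nat_lit 8) (Steps.bwd (nat_lit 4) (Steps.fwd (nat_lit 2097152) (Steps.fwd (nat_lit 1048576) (Steps.fwd (nat_lit 2359296) (Steps.bwd (nat_lit 4) (Steps.bwd (nat_lit 9) (Steps.fwd (nat_lit 1048576) (Steps.bwd (nat_lit 8) (Steps.fwd (nat_lit 1048576) Steps.nil))))))))))))))) (nat_lit 106)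 (nat_lit 3),
  Rule.mk (nat_lit 8) (nat_lit 314) (Steps.bwd (nat_lit 4) (Steps.bwd (nat_lit 9) (Steps.bwd (nat_lit 4) (Steps.fwd (nat_lit 2359296) (Steps.bwd (nat_lit 4) (Steps.fwd (nat_lit 2097152) (Steps.fwd (nat_lit 1048576) (Steps.fwd (nat_lit 2359296) (Steps.fwd (nat_lit 1048576) (Steps.fwd (nat_lit 2097152) (Steps.bwd (nat_lit 4) (Steps.fwd (nat_lit 2359296) (Steps.fwd (nat_lit 1048576) (Steps.bwd (nat_lit 9) (Steps.fwd (nat_lit 1048576) Steps.nil))))))))))))))) (nat_lit 106) (nat_lit 1),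
  Rule.mk (nat_lit 6) (nat_lit 274) (Steps.bwd (nat_lit 1) (Steps.bwd (nat_lit 6) (Steps.bwd (nat_lit 5) (Steps.bwd (nat_lit 2) (Steps.bwd (nat_lit 1) (Steps.fwd (nat_lit 1572864) (Steps.bwd (nat_lit 1) (Steps.bwd (nat_lit 2) (Steps.bwd (nat_lit 1) (Steps.fwd (nat_lit 1572864) (Steps.fwd (nat_lit 262144) (Steps.fwd (nat_lit 786432) (Steps.bwd (nat_lit 1) Steps.nil))))))))))))) (nat_lit 34) (nat_lit 11),
  Rule.mk (nat_lit 1) (nat_lit 154) (Steps.bwd (nat_lit 2) (Steps.bwd (nat_lit 1) (Steps.fwd (nat_lit 524288) (Steps.fwd (nat_lit 262144) (Steps.fwd (nat_lit 786432) (Steps.fwd (nat_lit 262144) (Steps.bwd (nat_lit 3) Steps.nil))))))) (nat_lit 68) (nat_lit 1),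
  Rule.mk (nat_lit 8) (nat_lit 314) (Steps.bwd (nat_lit 4) (Steps.bwd (nat_lit 9) (Steps.bwd (nat_lit 4) (Steps.fwd (nat_lit 2359296) (Steps.fwd (nat_lit 1048576) (Steps.bwd (nat_lit 9) (Steps.fwd (nat_lit 1048576) (Steps.bwd (nat_lit 8) (Steps.bwd (nat_lit 4) (Steps.fwd (nat_lit 2097152) (Steps.bwd (nat_lit 4) (Steps.fwd (nat_lit 2359296) (Steps.fwd (nat_lit 1048576) (Steps.bwd (nat_lit 9) (Steps.fwd (nat_lit 1048576) Steps.nil))))))))))))))) (nat_lit 106) (nat_lit 1),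
  Rule.mk (nat_lit 4) (nat_lit 314) (Steps.bwd (nat_lit 8) (Steps.bwd (nat_lit 4) (Steps.bwd (nat_lit 9) (Steps.fwd (nat_lit 1048576) (Steps.fwd (nat_lit 2359296) (Steps.fwd (nat_lit 1048576) (Steps.bwd (nat_lit 9) (Steps.bwd (nat_lit 4) (Steps.bwd (nat_lit 8) (Steps.bwd (nat_lit 4) (Steps.fwd (nat_lit 2097152) (Steps.fwd (nat_lit 1048576) (Steps.bwd (nat_lit 8) (Steps.fwd (nat_lit 1048576) (Steps.bwd (nat_lit 9) Steps.nil))))))))))))))) (nat_lit 106) (nat_lit 0),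
  Rule.mk (nat_lit 4) (nat_lit 314) (Steps.bwd (nat_lit 9) (Steps.bwd (nat_lit 4) (Steps.fwd (nat_lit 2359296) (Steps.bwd (nat_lit 4) (Steps.bwd (nat_lit 9) (Steps.fwd (nat_lit 1048576) (Steps.bwd (nat_lit 8) (Steps.bwd (nat_lit 4) (Steps.bwd (nat_lit 9) (Steps.bwd (nat_lit 4) (Steps.bwd (nat_lit 8) (Steps.fwd (nat_lit 1048576) (Steps.fwd (nat_lit 2097152) (Steps.fwd (nat_lit 1048576) (Steps.bwd (nat_lit 8) Steps.nil))))))))))))))) (nat_lit 106) (nat_lit 2),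
  Rule.mk (nat_lit 1) (nat_lit 154) (Steps.fwd (nat_lit 524288) (Steps.fwd (nat_lit 262144) (Steps.fwd (nat_lit 1310720) (Steps.fwd (nat_lit 524288) (Steps.bwd (nat_lit 1) (Steps.bwd (nat_lit 3) (Steps.bwd (nat_lit 5) Steps.nil))))))) (nat_lit 71) (nat_lit 6),
  Rule.mk (nat_lit 4) (nat_lit 314) (Steps.bwd (nat_lit 8) (Steps.fwd (nat_lit 1048576) (Steps.fwd (nat_lit 2097152) (Steps.fwd (nat_lit 1048576) (Steps.bwd (nat_lit 8) (Steps.fwd (nat_lit 1048576) (Steps.fwd (nat_lit 2097152) (Steps.bwd (nat_lit 4) (Steps.bwd (nat_lit 8) (Steps.fwd (nat_lit 1048576) (Steps.fwd (nat_lit 2097152) (Steps.bwd (nat_lit 4) (Steps.fwd (nat_lit 2359296) (Steps.bwd (nat_lit 4) (Steps.bwd (nat_lit 9) Steps.nil))))))))))))))) (nat_lit 106) (nat_lit 0),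
  Rule.mk (nat_lit 9) (nat_lit 314) (Steps.bwd (nat_lit 4) (Steps.fwd (nat_lit 2359296) (Steps.fwd (nat_lit 1048576) (Steps.fwd (nat_lit 2097152) (Steps.bwd (nat_lit 4) (Steps.fwd (nat_lit 2359296) (Steps.fwd (nat_lit 1048576) (Steps.bwd (nat_lit 9) (Steps.fwd (nat_lit 1048576) (Steps.fwd (nat_lit 2359296) (Steps.bwd (nat_lit 4) (Steps.fwd (nat_lit 2097152) (Steps.fwd (nat_lit 1048576) (Steps.fwd (nat_lit 2359296) (Steps.bwd (nat_lit 4) Steps.nil))))))))))))))) (nat_lit 106) (nat_lit 3),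
  Rule.mk (nat_lit 4) (nat_lit 314) (Steps.fwd (nat_lit 2097152) (Steps.bwd (nat_lit 4) (Steps.fwd (nat_lit 2359296) (Steps.bwd (nat_lit 4) (Steps.fwd (nat_lit 2097152) (Steps.fwd (nat_lit 1048576) (Steps.fwd (nat_lit 2359296) (Steps.fwd (nat_lit 1048576) (Steps.bwd (nat_lit 9) (Steps.bwd (nat_lit 4) (Steps.bwd (nat_lit 8) (Steps.fwd (nat_lit 1048576) (Steps.bwd (nat_lit 9) (Steps.fwd (nat_lit 1048576) (Steps.bwd (nat_lit 8) Steps.nil))))))))))))))) (nat_lit 106) (nat_lit 2),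
  Rule.mk (nat_lit 9) (nat_lit 314) (Steps.bwd (nat_lit 4) (Steps.fwd (nat_lit 2359296) (Steps.fwd (nat_lit 1048576) (Steps.bwd (nat_lit 9) (Steps.fwd (nat_lit 1048576) (Steps.bwd (nat_lit 8) (Steps.fwd (nat_lit 1048576) (Steps.bwd (nat_lit 9) (Steps.fwd (nat_lit 1048576) (Steps.bwd (nat_lit 8) (Steps.fwd (nat_lit 1048576) (Steps.fwd (nat_lit 2097152) (Steps.fwd (nat_lit 1048576) (Steps.fwd (nat_lit 2359296) (Steps.bwd (nat_lit 4) Steps.nil))))))))))))))) (nat_lit 106) (nat_lit 3),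
  Rule.mk (nat_lit 8) (nat_lit 314) (Steps.bwd (nat_lit 4) (Steps.fwd (nat_lit 2097152) (Steps.bwd (nat_lit 4) (Steps.bwd (nat_lit 8) (Steps.bwd (nat_lit 4) (Steps.fwd (nat_lit 2097152) (Steps.bwd (nat_lit 4) (Steps.fwd (nat_lit 2359296) (Steps.bwd (nat_lit 4) (Steps.bwd (nat_lit 9) (Steps.bwd (nat_lit 4) (Steps.fwd (nat_lit 2359296) (Steps.fwd (nat_lit 1048576) (Steps.bwd (nat_lit 9) (Steps.bwd (nat_lit 4) Steps.nil))))))))))))))) (nat_lit 106) (nat_lit 1),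
  Rule.mk (nat_lit 4) (nat_lit 314) (Steps.bwd (nat_lit 9) (Steps.bwd (nat_lit 4) (Steps.fwd (nat_lit 2359296) (Steps.fwd (nat_lit 1048576) (Steps.fwd (nat_lit 2097152) (Steps.bwd (nat_lit 4) (Steps.bwd (nat_lit 8) (Steps.fwd (nat_lit 1048576) (Steps.fwd (nat_lit 2097152) (Steps.fwd (nat_lit 1048576) (Steps.bwd (nat_lit 8) (Steps.fwd (nat_lit 1048576) (Steps.fwd (nat_lit 2097152) (Steps.bwd (nat_lit 4) (Steps.fwd (nat_lit 2359296) Steps.nil))))))))))))))) (nat_lit 106) (nat_lit 2),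
  Rule.mk (nat_lit 8) (nat_lit 314) (Steps.bwd (nat_lit 4) (Steps.fwd (nat_lit 2097152) (Steps.fwd (nat_lit 1048576) (Steps.bwd (nat_lit 8) (Steps.bwd (nat_lit 4) (Steps.bwd (nat_lit 9) (Steps.bwd (nat_lit 4) (Steps.fwd (nat_lit 2359296) (Steps.bwd (nat_lit 4) (Steps.fwd (nat_lit 2097152) (Steps.fwd (nat_lit 1048576) (Steps.fwd (nat_lit 2359296) (Steps.fwd (nat_lit 1048576) (Steps.bwd (nat_lit 9) (Steps.fwd (nat_lit 1048576) Steps.nil))))))))))))))) (nat_lit 106) (nat_lit 1),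
  Rule.mk (nat_lit 9) (nat_lit 314) (Steps.bwd (nat_lit 4) (Steps.fwd (nat_lit 2359296) (Steps.bwd (nat_lit 4) (Steps.bwd (nat_lit 9) (Steps.fwd (nat_lit 1048576) (Steps.bwd (nat_lit 8) (Steps.fwd (nat_lit 1048576) (Steps.bwd (nat_lit 9) (Steps.bwd (nat_lit 4) (Steps.bwd (nat_lit 8) (Steps.fwd (nat_lit 1048576) (Steps.bwd (nat_lit 9) (Steps.bwd (nat_lit 4) (Steps.fwd (nat_lit 2359296) (Steps.bwd (nat_lit 4) Steps.nil))))))))))))))) (nat_lit 106) (nat_lit 3),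
  Rule.mk (nat_lit 4) (nat_lit 314) (Steps.bwd (nat_lit 8) (Steps.bwd (nat_lit 4) (Steps.fwd (nat_lit 2097152) (Steps.fwd (nat_lit 1048576) (Steps.fwd (nat_lit 2359296) (Steps.bwd (nat_lit 4) (Steps.fwd (nat_lit 2097152) (Steps.bwd (nat_lit 4) (Steps.fwd (nat_lit 2359296) (Steps.bwd (nat_lit 4) (Steps.fwd (nat_lit 2097152) (Steps.fwd (nat_lit 1048576) (Steps.fwd (nat_lit 2359296) (Steps.fwd (nat_lit 1048576) (Steps.fwd (nat_lit 2097152) Steps.nil))))))))))))))) (nat_lit 106) (nat_lit 0),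
  Rule.mk (nat_lit 4) (nat_lit 314) (Steps.bwd (nat_lit 9) (Steps.fwd (nat_lit 1048576) (Steps.fwd (nat_lit 2359296) (Steps.bwd (nat_lit 4) (Steps.bwd (nat_lit 9) (Steps.fwd (nat_lit 1048576) (Steps.bwd (nat_lit 8) (Steps.fwd (nat_lit 1048576) (Steps.fwd (nat_lit 2097152) (Steps.fwd (nat_lit 1048576) (Steps.fwd (nat_lit 2359296) (Steps.fwd (nat_lit 1048576) (Steps.bwd (nat_lit 9) (Steps.fwd (nat_lit 1048576) (Steps.bwd (nat_lit 8) Steps.nil))))))))))))))) (nat_lit 106) (nat_lit 2),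
  Rule.mk (nat_lit 1) (nat_lit 154) (Steps.fwd (nat_lit 524288) (Steps.bwd (nat_lit 1) (Steps.fwd (nat_lit 1310720) (Steps.bwd (nat_lit 3) (Steps.bwd (nat_lit 1) (Steps.fwd (nat_lit 524288) (Steps.bwd (nat_lit 5) Steps.nil))))))) (nat_lit 71) (nat_lit 6),
  Rule.mk (nat_lit 6) (nat_lit 274) (Steps.bwd (nat_lit 1) (Steps.fwd (nat_lit 786432) (Steps.fwd (nat_lit 262144) (Steps.bwd (nat_lit 6) (Steps.bwd (nat_lit 1) (Steps.fwd (nat_lit 1572864) (Steps.bwd (nat_lit 5) (Steps.fwd (nat_lit 786432) (Steps.fwd (nat_lit 262144) (Steps.bwd (nat_lit 6) (Steps.bwd (nat_lit 1) (Steps.bwd (nat_lit 2) (Steps.bwd (nat_lit 1) Steps.nil))))))))))))) (nat_lit 34) (nat_lit 7),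
  Rule.mk (nat_lit 9) (nat_lit 314) (Steps.bwd (nat_lit 4) (Steps.fwd (nat_lit 2359296) (Steps.bwd (nat_lit 4) (Steps.fwd (nat_lit 2097152) (Steps.fwd (nat_lit 1048576) (Steps.fwd (nat_lit 2359296) (Steps.fwd (nat_lit 1048576) (Steps.fwd (nat_lit 2097152) (Steps.fwd (nat_lit 1048576) (Steps.fwd (nat_lit 2359296) (Steps.bwd (nat_lit 4) (Steps.fwd (nat_lit 2097152) (Steps.bwd (nat_lit 4) (Steps.bwd (nat_lit 8) (Steps.bwd (nat_lit 4) Steps.nil))))))))))))))) (nat_lit 106) (nat_lit 3),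
  Rule.mk (nat_lit 8) (nat_lit 314) (Steps.bwd (nat_lit 4) (Steps.bwd (nat_lit 9) (Steps.bwd (nat_lit 4) (Steps.bwd (nat_lit 8) (Steps.bwd (nat_lit 4) (Steps.bwd (nat_lit 9) (Steps.bwd (nat_lit 4) (Steps.fwd (nat_lit 2359296) (Steps.fwd (nat_lit 1048576) (Steps.bwd (nat_lit 9) (Steps.bwd (nat_lit 4) (Steps.fwd (nat_lit 2359296) (Steps.bwd (nat_lit 4) (Steps.fwd (nat_lit 2097152) (Steps.bwd (nat_lit 4) Steps.nil))))))))))))))) (nat_lit 106) (nat_lit 1),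
  Rule.mk (nat_lit 4) (nat_lit 314) (Steps.bwd (nat_lit 9) (Steps.bwd (nat_lit 4) (Steps.fwd (nat_lit 2359296) (Steps.bwd (nat_lit 4) (Steps.bwd (nat_lit 9) (Steps.fwd (nat_lit 1048576) (Steps.fwd (nat_lit 2359296) (Steps.bwd (nat_lit 4) (Steps.fwd (nat_lit 2097152) (Steps.fwd (nat_lit 1048576) (Steps.bwd (nat_lit 8) (Steps.fwd (nat_lit 1048576) (Steps.fwd (nat_lit 2097152) (Steps.fwd (nat_lit 1048576) (Steps.fwd (nat_lit 2359296) Steps.nil))))))))))))))) (nat_lit 106) (nat_lit 2),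
  Rule.mk (nat_lit 1) (nat_lit 154) (Steps.fwd (nat_lit 1572864) (Steps.bwd (nat_lit 1) (Steps.bwd (nat_lit 4) (Steps.fwd (nat_lit 262144) (Steps.bwd (nat_lit 6) (Steps.bwd (nat_lit 1) (Steps.bwd (nat_lit 4) Steps.nil))))))) (nat_lit 74) (nat_lit 3),
  Rule.mk (nat_lit 9) (nat_lit 314) (Steps.bwd (nat_lit 4) (Steps.fwd (nat_lit 2359296) (Steps.fwd (nat_lit 1048576) (Steps.bwd (nat_lit 9) (Steps.bwd (nat_lit 4) (Steps.bwd (nat_lit 8) (Steps.fwd (nat_lit 1048576) (Steps.fwd (nat_lit 2097152) (Steps.bwd (nat_lit 4) (Steps.fwd (nat_lit 2359296) (Steps.bwd (nat_lit 4) (Steps.fwd (nat_lit 2097152) (Steps.bwd (nat_lit 4) (Steps.fwd (nat_lit 2359296) (Steps.fwd (nat_lit 1048576) Steps.nil))))))))))))))) (nat_lit 106) (nat_lit 3),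
  Rule.mk (nat_lit 8) (nat_lit 314) (Steps.bwd (nat_lit 4) (Steps.bwd (nat_lit 9) (Steps.fwd (nat_lit 1048576) (Steps.bwd (nat_lit 8) (Steps.bwd (nat_lit 4) (Steps.bwd (nat_lit 9) (Steps.bwd (nat_lit 4) (Steps.fwd (nat_lit 2359296) (Steps.bwd (nat_lit 4) (Steps.fwd (nat_lit 2097152) (Steps.fwd (nat_lit 1048576) (Steps.fwd (nat_lit 2359296) (Steps.bwd (nat_lit 4) (Steps.fwd (nat_lit 2097152) (Steps.bwd (nat_lit 4) Steps.nil))))))))))))))) (nat_lit 106) (nat_lit 1),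
  Rule.mk (nat_lit 4) (nat_lit 314) (Steps.bwd (nat_lit 9) (Steps.fwd (nat_lit 1048576) (Steps.fwd (nat_lit 2359296) (Steps.fwd (nat_lit 1048576) (Steps.fwd (nat_lit 2097152) (Steps.fwd (nat_lit 1048576) (Steps.fwd (nat_lit 2359296) (Steps.fwd (nat_lit 1048576) (Steps.fwd (nat_lit 2097152) (Steps.fwd (nat_lit 1048576) (Steps.bwd (nat_lit 8) (Steps.fwd (nat_lit 1048576) (Steps.fwd (nat_lit 2097152) (Steps.bwd (nat_lit 4) (Steps.fwd (nat_lit 2359296) Steps.nil))))))))))))))) (nat_lit 106) (nat_lit 2),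
  Rule.mk (nat_lit 9) (nat_lit 314) (Steps.bwd (nat_lit 4) (Steps.bwd (nat_lit 8) (Steps.fwd (nat_lit 1048576) (Steps.bwd (nat_lit 9) (Steps.bwd (nat_lit 4) (Steps.fwd (nat_lit 2359296) (Steps.bwd (nat_lit 4) (Steps.fwd (nat_lit 2097152) (Steps.bwd (nat_lit 4) (Steps.bwd (nat_lit 8) (Steps.bwd (nat_lit 4) (Steps.bwd (nat_lit 9) (Steps.bwd (nat_lit 4) (Steps.fwd (nat_lit 2359296) (Steps.fwd (nat_lit 1048576) Steps.nil))))))))))))))) (nat_lit 106) (nat_lit 3),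
  Rule.mk (nat_lit 8) (nat_lit 314) (Steps.bwd (nat_lit 4) (Steps.fwd (nat_lit 2097152) (Steps.bwd (nat_lit 4) (Steps.bwd (nat_lit 8) (Steps.bwd (nat_lit 4) (Steps.bwd (nat_lit 9) (Steps.fwd (nat_lit 1048576) (Steps.bwd (nat_lit 8) (Steps.fwd (nat_lit 1048576) (Steps.fwd (nat_lit 2097152) (Steps.fwd (nat_lit 1048576) (Steps.fwd (nat_lit 2359296) (Steps.fwd (nat_lit 1048576) (Steps.fwd (nat_lit 2097152) (Steps.fwd (nat_lit 1048576) Steps.nil))))))))))))))) (nat_lit 106) (nat_lit 1),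
  Rule.mk (nat_lit 9) (nat_lit 314) (Steps.bwd (nat_lit 4) (Steps.fwd (nat_lit 2359296) (Steps.bwd (nat_lit 4) (Steps.bwd (nat_lit 9) (Steps.fwd (nat_lit 1048576) (Steps.fwd (nat_lit 2359296) (Steps.bwd (nat_lit 4) (Steps.bwd (nat_lit 9) (Steps.bwd (nat_lit 4) (Steps.fwd (nat_lit 2359296) (Steps.bwd (nat_lit 4) (Steps.bwd (nat_lit 9) (Steps.fwd (nat_lit 1048576) (Steps.bwd (nat_lit 8) (Steps.bwd (nat_lit 4) Steps.nil))))))))))))))) (nat_lit 106) (nat_lit 3),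
  Rule.mk (nat_lit 8) (nat_lit 314) (Steps.bwd (nat_lit 4) (Steps.bwd (nat_lit 9) (Steps.fwd (nat_lit 1048576) (Steps.bwd (nat_lit 8) (Steps.fwd (nat_lit 1048576) (Steps.fwd (nat_lit 2097152) (Steps.bwd (nat_lit 4) (Steps.bwd (nat_lit 8) (Steps.fwd (nat_lit 1048576) (Steps.fwd (nat_lit 2097152) (Steps.bwd (nat_lit 4) (Steps.fwd (nat_lit 2359296) (Steps.fwd (nat_lit 1048576) (Steps.fwd (nat_lit 2097152) (Steps.fwd (nat_lit 1048576) Steps.nil))))))))))))))) (nat_lit 106) (nat_lit 1),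
  Rule.mk (nat_lit 9) (nat_lit 314) (Steps.bwd (nat_lit 4) (Steps.bwd (nat_lit 8) (Steps.fwd (nat_lit 1048576) (Steps.fwd (nat_lit 2097152) (Steps.fwd (nat_lit 1048576) (Steps.fwd (nat_lit 2359296) (Steps.fwd (nat_lit 1048576) (Steps.fwd (nat_lit 2097152) (Steps.fwd (nat_lit 1048576) (Steps.bwd (nat_lit 8) (Steps.bwd (nat_lit 4) (Steps.fwd (nat_lit 2097152) (Steps.bwd (nat_lit 4) (Steps.bwd (nat_lit 8) (Steps.bwd (nat_lit 4) Steps.nil))))))))))))))) (nat_lit 106) (nat_lit 3),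
  Rule.mk (nat_lit 9) (nat_lit 314) (Steps.bwd (nat_lit 4) (Steps.bwd (nat_lit 8) (Steps.fwd (nat_lit 1048576) (Steps.bwd (nat_lit 9) (Steps.bwd (nat_lit 4) (Steps.bwd (nat_lit 8) (Steps.bwd (nat_lit 4) (Steps.bwd (nat_lit 9) (Steps.bwd (nat_lit 4) (Steps.fwd (nat_lit 2359296) (Steps.fwd (nat_lit 1048576) (Steps.fwd (nat_lit 2097152) (Steps.fwd (nat_lit 1048576) (Steps.bwd (nat_lit 8) (Steps.fwd (nat_lit 1048576) Steps.nil))))))))))))))) (nat_lit 106) (nat_lit 3),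
  Rule.mk (nat_lit 9) (nat_lit 314) (Steps.bwd (nat_lit 4) (Steps.fwd (nat_lit 2359296) (Steps.fwd (nat_lit 1048576) (Steps.bwd (nat_lit 9) (Steps.bwd (nat_lit 4) (Steps.fwd (nat_lit 2359296) (Steps.bwd (nat_lit 4) (Steps.bwd (nat_lit 9) (Steps.fwd (nat_lit 1048576) (Steps.bwd (nat_lit 8) (Steps.fwd (nat_lit 1048576) (Steps.bwd (nat_lit 9) (Steps.bwd (nat_lit 4) (Steps.fwd (nat_lit 2359296) (Steps.fwd (nat_lit 1048576) Steps.nil))))))))))))))) (nat_lit 106) (nat_lit 3),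
  Rule.mk (nat_lit 8) (nat_lit 314) (Steps.bwd (nat_lit 4) (Steps.bwd (nat_lit 9) (Steps.bwd (nat_lit 4) (Steps.fwd (nat_lit 2359296) (Steps.bwd (nat_lit 4) (Steps.bwd (nat_lit 9) (Steps.fwd (nat_lit 1048576) (Steps.bwd (nat_lit 8) (Steps.fwd (nat_lit 1048576) (Steps.fwd (nat_lit 2097152) (Steps.bwd (nat_lit 4) (Steps.bwd (nat_lit 8) (Steps.bwd (nat_lit 4) (Steps.fwd (nat_lit 2097152) (Steps.fwd (nat_lit 1048576) Steps.nil))))))))))))))) (nat_lit 106) (nat_lit 1),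
  Rule.mk (nat_lit 9) (nat_lit 314) (Steps.bwd (nat_lit 4) (Steps.bwd (nat_lit 8) (Steps.fwd (nat_lit 1048576) (Steps.bwd (nat_lit 9) (Steps.fwd (nat_lit 1048576) (Steps.fwd (nat_lit 2359296) (Steps.bwd (nat_lit 4) (Steps.fwd (nat_lit 2097152) (Steps.bwd (nat_lit 4) (Steps.fwd (nat_lit 2359296) (Steps.fwd (nat_lit 1048576) (Steps.bwd (nat_lit 9) (Steps.bwd (nat_lit 4) (Steps.bwd (nat_lit 8) (Steps.fwd (nat_lit 1048576) Steps.nil))))))))))))))) (nat_lit 106) (nat_lit 3),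
  Rule.mk (nat_lit 8) (nat_lit 314) (Steps.bwd (nat_lit 4) (Steps.fwd (nat_lit 2097152) (Steps.fwd (nat_lit 1048576) (Steps.bwd (nat_lit 8) (Steps.bwd (nat_lit 4) (Steps.bwd (nat_lit 9) (Steps.bwd (nat_lit 4) (Steps.bwd (nat_lit 8) (Steps.bwd (nat_lit 4) (Steps.fwd (nat_lit 2097152) (Steps.fwd (nat_lit 1048576) (Steps.bwd (nat_lit 8) (Steps.bwd (nat_lit 4) (Steps.fwd (nat_lit 2097152) (Steps.fwd (nat_lit 1048576) Steps.nil))))))))))))))) (nat_lit 106) (nat_lit 1),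
  Rule.mk (nat_lit 4) (nat_lit 314) (Steps.bwd (nat_lit 8) (Steps.bwd (nat_lit 4) (Steps.bwd (nat_lit 9) (Steps.fwd (nat_lit 1048576) (Steps.bwd (nat_lit 8) (Steps.bwd (nat_lit 4) (Steps.bwd (nat_lit 9) (Steps.bwd (nat_lit 4) (Steps.fwd (nat_lit 2359296) (Steps.fwd (nat_lit 1048576) (Steps.bwd (nat_lit 9) (Steps.fwd (nat_lit 1048576) (Steps.fwd (nat_lit 2359296) (Steps.fwd (nat_lit 1048576) (Steps.bwd (nat_lit 9) Steps.nil))))))))))))))) (nat_lit 106) (nat_lit 0),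
  Rule.mk (nat_lit 9) (nat_lit 314) (Steps.bwd (nat_lit 4) (Steps.fwd (nat_lit 2359296) (Steps.bwd (nat_lit 4) (Steps.bwd (nat_lit 9) (Steps.bwd (nat_lit 4) (Steps.fwd (nat_lit 2359296) (Steps.fwd (nat_lit 1048576) (Steps.fwd (nat_lit 2097152) (Steps.bwd (nat_lit 4) (Steps.fwd (nat_lit 2359296) (Steps.fwd (nat_lit 1048576) (Steps.bwd (nat_lit 9) (Steps.bwd (nat_lit 4) (Steps.fwd (nat_lit 2359296) (Steps.bwd (nat_lit 4) Steps.nil))))))))))))))) (nat_lit 106) (nat_lit 3),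
  Rule.mk (nat_lit 4) (nat_lit 314) (Steps.bwd (nat_lit 8) (Steps.bwd (nat_lit 4) (Steps.fwd (nat_lit 2097152) (Steps.bwd (nat_lit 4) (Steps.bwd (nat_lit 8) (Steps.fwd (nat_lit 1048576) (Steps.fwd (nat_lit 2097152) (Steps.bwd (nat_lit 4) (Steps.bwd (nat_lit 8) (Steps.fwd (nat_lit 1048576) (Steps.fwd (nat_lit 2097152) (Steps.bwd (nat_lit 4) (Steps.fwd (nat_lit 2359296) (Steps.fwd (nat_lit 1048576) (Steps.fwd (nat_lit 2097152) Steps.nil))))))))))))))) (nat_lit 106) (nat_lit 0),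
  Rule.mk (nat_lit 9) (nat_lit 314) (Steps.bwd (nat_lit 4) (Steps.fwd (nat_lit 2359296) (Steps.bwd (nat_lit 4) (Steps.bwd (nat_lit 9) (Steps.bwd (nat_lit 4) (Steps.fwd (nat_lit 2359296) (Steps.bwd (nat_lit 4) (Steps.bwd (nat_lit 9) (Steps.fwd (nat_lit 1048576) (Steps.bwd (nat_lit 8) (Steps.fwd (nat_lit 1048576) (Steps.bwd (nat_lit 9) (Steps.bwd (nat_lit 4) (Steps.fwd (nat_lit 2359296) (Steps.fwd (nat_lit 1048576) Steps.nil))))))))))))))) (nat_lit 106) (nat_lit 3),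
  Rule.mk (nat_lit 8) (nat_lit 314) (Steps.bwd (nat_lit 4) (Steps.bwd (nat_lit 9) (Steps.fwd (nat_lit 1048576) (Steps.fwd (nat_lit 2359296) (Steps.fwd (nat_lit 1048576) (Steps.fwd (nat_lit 2097152) (Steps.fwd (nat_lit 1048576) (Steps.fwd (nat_lit 2359296) (Steps.fwd (nat_lit 1048576) (Steps.fwd (nat_lit 2097152) (Steps.fwd (nat_lit 1048576) (Steps.fwd (nat_lit 2359296) (Steps.bwd (nat_lit 4) (Steps.bwd (nat_lit 9) (Steps.fwd (nat_lit 1048576) Steps.nil))))))))))))))) (nat_lit 106) (nat_lit 1),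
  Rule.mk (nat_lit 4) (nat_lit 314) (Steps.bwd (nat_lit 8) (Steps.fwd (nat_lit 1048576) (Steps.bwd (nat_lit 9) (Steps.fwd (nat_lit 1048576) (Steps.fwd (nat_lit 2359296) (Steps.bwd (nat_lit 4) (Steps.bwd (nat_lit 9) (Steps.bwd (nat_lit 4) (Steps.fwd (nat_lit 2359296) (Steps.bwd (nat_lit 4) (Steps.bwd (nat_lit 9) (Steps.fwd (nat_lit 1048576) (Steps.bwd (nat_lit 8) (Steps.fwd (nat_lit 1048576) (Steps.fwd (nat_lit 2097152) Steps.nil))))))))))))))) (nat_lit 106) (nat_lit 0),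
  Rule.mk (nat_lit 4) (nat_lit 314) (Steps.bwd (nat_lit 9) (Steps.bwd (nat_lit 4) (Steps.bwd (nat_lit 8) (Steps.fwd (nat_lit 1048576) (Steps.fwd (nat_lit 2097152) (Steps.bwd (nat_lit 4) (Steps.fwd (nat_lit 2359296) (Steps.bwd (nat_lit 4) (Steps.fwd (nat_lit 2097152) (Steps.bwd (nat_lit 4) (Steps.fwd (nat_lit 2359296) (Steps.fwd (nat_lit 1048576) (Steps.bwd (nat_lit 9) (Steps.fwd (nat_lit 1048576) (Steps.fwd (nat_lit 2359296) Steps.nil))))))))))))))) (nat_lit 106) (nat_lit 2),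
  Rule.mk (nat_lit 6) (nat_lit 274) (Steps.bwd (nat_lit 1) (Steps.bwd (nat_lit 2) (Steps.bwd (nat_lit 1) (Steps.fwd (nat_lit 1572864) (Steps.fwd (nat_lit 262144) (Steps.fwd (nat_lit 786432) (Steps.fwd (nat_lit 262144) (Steps.fwd (nat_lit 1572864) (Steps.bwd (nat_lit 1) (Steps.fwd (nat_lit 1572864) (Steps.bwd (nat_lit 5) (Steps.fwd (nat_lit 786432) (Steps.fwd (nat_lit 262144) Steps.nil))))))))))))) (nat_lit 34) (nat_lit 3),
  Rule.mk (nat_lit 9) (nat_lit 314) (Steps.bwd (nat_lit 4) (Steps.fwd (nat_lit 2359296) (Steps.fwd (nat_lit 1048576) (Steps.fwd (nat_lit 2097152) (Steps.fwd (nat_lit 1048576) (Steps.bwd (nat_lit 8) (Steps.fwd (nat_lit 1048576) (Steps.fwd (nat_lit 2097152) (Steps.bwd (nat_lit 4) (Steps.fwd (nat_lit 2359296) (Steps.fwd (nat_lit 1048576) (Steps.bwd (nat_lit 9) (Steps.fwd (nat_lit 1048576) (Steps.fwd (nat_lit 2359296) (Steps.bwd (nat_lit 4) Steps.nil)))))))))))))))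 (nat_lit 106) (nat_lit 3),
  Rule.mk (nat_lit 8) (nat_lit 314) (Steps.bwd (nat_lit 4) (Steps.bwd (nat_lit 9) (Steps.bwd (nat_lit 4) (Steps.bwd (nat_lit 8) (Steps.bwd (nat_lit 4) (Steps.bwd (nat_lit 9) (Steps.fwd (nat_lit 1048576) (Steps.fwd (nat_lit 2359296) (Steps.bwd (nat_lit 4) (Steps.fwd (nat_lit 2097152) (Steps.fwd (nat_lit 1048576) (Steps.fwd (nat_lit 2359296) (Steps.fwd (nat_lit 1048576) (Steps.fwd (nat_lit 2097152) (Steps.bwd (nat_lit 4) Steps.nil))))))))))))))) (nat_lit 106) (nat_lit 1),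
  Rule.mk (nat_lit 9) (nat_lit 314) (Steps.bwd (nat_lit 4) (Steps.bwd (nat_lit 8) (Steps.bwd (nat_lit 4) (Steps.bwd (nat_lit 9) (Steps.bwd (nat_lit 4) (Steps.bwd (nat_lit 8) (Steps.bwd (nat_lit 4) (Steps.bwd (nat_lit 9) (Steps.fwd (nat_lit 1048576) (Steps.fwd (nat_lit 2359296) (Steps.fwd (nat_lit 1048576) (Steps.fwd (nat_lit 2097152) (Steps.bwd (nat_lit 4) (Steps.fwd (nat_lit 2359296) (Steps.fwd (nat_lit 1048576) Steps.nil))))))))))))))) (nat_lit 106) (nat_lit 3),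
  Rule.mk (nat_lit 8) (nat_lit 314) (Steps.bwd (nat_lit 4) (Steps.fwd (nat_lit 2097152) (Steps.bwd (nat_lit 4) (Steps.bwd (nat_lit 8) (Steps.bwd (nat_lit 4) (Steps.bwd (nat_lit 9) (Steps.bwd (nat_lit 4) (Steps.fwd (nat_lit 2359296) (Steps.fwd (nat_lit 1048576) (Steps.fwd (nat_lit 2097152) (Steps.fwd (nat_lit 1048576) (Steps.fwd (nat_lit 2359296) (Steps.bwd (nat_lit 4) (Steps.fwd (nat_lit 2097152) (Steps.fwd (nat_lit 1048576) Steps.nil))))))))))))))) (nat_lit 106) (nat_lit 1),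
  Rule.mk (nat_lit 4) (nat_lit 314) (Steps.bwd (nat_lit 8) (Steps.bwd (nat_lit 4) (Steps.bwd (nat_lit 9) (Steps.bwd (nat_lit 4) (Steps.fwd (nat_lit 2359296) (Steps.fwd (nat_lit 1048576) (Steps.bwd (nat_lit 9) (Steps.fwd (nat_lit 1048576) (Steps.bwd (nat_lit 8) (Steps.fwd (nat_lit 1048576) (Steps.fwd (nat_lit 2097152) (Steps.bwd (nat_lit 4) (Steps.fwd (nat_lit 2359296) (Steps.bwd (nat_lit 4) (Steps.fwd (nat_lit 2097152) Steps.nil))))))))))))))) (nat_lit 106) (nat_lit 0),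
  Rule.mk (nat_lit 4) (nat_lit 314) (Steps.bwd (nat_lit 9) (Steps.bwd (nat_lit 4) (Steps.fwd (nat_lit 2359296) (Steps.fwd (nat_lit 1048576) (Steps.bwd (nat_lit 9) (Steps.fwd (nat_lit 1048576) (Steps.bwd (nat_lit 8) (Steps.bwd (nat_lit 4) (Steps.bwd (nat_lit 9) (Steps.fwd (nat_lit 1048576) (Steps.fwd (nat_lit 2359296) (Steps.fwd (nat_lit 1048576) (Steps.bwd (nat_lit 9) (Steps.bwd (nat_lit 4) (Steps.bwd (nat_lit 8) Steps.nil))))))))))))))) (nat_lit 106) (nat_lit 2),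
  Rule.mk (nat_lit 4) (nat_lit 314) (Steps.bwd (nat_lit 8) (Steps.bwd (nat_lit 4) (Steps.bwd (nat_lit 9) (Steps.fwd (nat_lit 1048576) (Steps.fwd (nat_lit 2359296) (Steps.bwd (nat_lit 4) (Steps.bwd (nat_lit 9) (Steps.fwd (nat_lit 1048576) (Steps.bwd (nat_lit 8) (Steps.fwd (nat_lit 1048576) (Steps.fwd (nat_lit 2097152) (Steps.bwd (nat_lit 4) (Steps.fwd (nat_lit 2359296) (Steps.fwd (nat_lit 1048576) (Steps.bwd (nat_lit 9) Steps.nil))))))))))))))) (nat_lit 106) (nat_lit 0),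
  Rule.mk (nat_lit 9) (nat_lit 314) (Steps.bwd (nat_lit 4) (Steps.fwd (nat_lit 2359296) (Steps.fwd (nat_lit 1048576) (Steps.bwd (nat_lit 9) (Steps.bwd (nat_lit 4) (Steps.fwd (nat_lit 2359296) (Steps.bwd (nat_lit 4) (Steps.fwd (nat_lit 2097152) (Steps.fwd (nat_lit 1048576) (Steps.fwd (nat_lit 2359296) (Steps.fwd (nat_lit 1048576) (Steps.bwd (nat_lit 9) (Steps.fwd (nat_lit 1048576) (Steps.bwd (nat_lit 8) (Steps.bwd (nat_lit 4) Steps.nil))))))))))))))) (nat_lit 106) (nat_lit 3),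
  Rule.mk (nat_lit 9) (nat_lit 314) (Steps.bwd (nat_lit 4) (Steps.fwd (nat_lit 2359296) (Steps.fwd (nat_lit 1048576) (Steps.bwd (nat_lit 9) (Steps.bwd (nat_lit 4) (Steps.fwd (nat_lit 2359296) (Steps.fwd (nat_lit 1048576) (Steps.bwd (nat_lit 9) (Steps.fwd (nat_lit 1048576) (Steps.bwd (nat_lit 8) (Steps.bwd (nat_lit 4) (Steps.bwd (nat_lit 9) (Steps.bwd (nat_lit 4) (Steps.bwd (nat_lit 8) (Steps.fwd (nat_lit 1048576) Steps.nil))))))))))))))) (nat_lit 106) (nat_lit 3),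
  Rule.mk (nat_lit 8) (nat_lit 314) (Steps.bwd (nat_lit 4) (Steps.fwd (nat_lit 2097152) (Steps.fwd (nat_lit 1048576) (Steps.bwd (nat_lit 8) (Steps.fwd (nat_lit 1048576) (Steps.bwd (nat_lit 9) (Steps.bwd (nat_lit 4) (Steps.bwd (nat_lit 8) (Steps.bwd (nat_lit 4) (Steps.bwd (nat_lit 9) (Steps.bwd (nat_lit 4) (Steps.bwd (nat_lit 8) (Steps.bwd (nat_lit 4) (Steps.fwd (nat_lit 2097152) (Steps.bwd (nat_lit 4) Steps.nil))))))))))))))) (nat_lit 106) (nat_lit 1),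
  Rule.mk (nat_lit 5) (nat_lit 114) (Steps.fwd (nat_lit 1835008) (Steps.fwd (nat_lit 262144) (Steps.bwd (nat_lit 5) (Steps.bwd (nat_lit 7) (Steps.bwd (nat_lit 1) Steps.nil))))) (nat_lit 52) (nat_lit 2),
  Rule.mk (nat_lit 4) (nat_lit 314) (Steps.bwd (nat_lit 9) (Steps.bwd (nat_lit 4) (Steps.fwd (nat_lit 2359296) (Steps.bwd (nat_lit 4) (Steps.bwd (nat_lit 9) (Steps.bwd (nat_lit 4) (Steps.bwd (nat_lit 8) (Steps.bwd (nat_lit 4) (Steps.bwd (nat_lit 9) (Steps.fwd (nat_lit 1048576) (Steps.fwd (nat_lit 2359296) (Steps.fwd (nat_lit 1048576) (Steps.bwd (nat_lit 9) (Steps.bwd (nat_lit 4) (Steps.fwd (nat_lit 2359296) Steps.nil))))))))))))))) (nat_lit 106) (nat_lit 2),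
  Rule.mk (nat_lit 7) (nat_lit 154) (Steps.bwd (nat_lit 1) (Steps.bwd (nat_lit 3) (Steps.fwd (nat_lit 262144) (Steps.fwd (nat_lit 1835008) (Steps.fwd (nat_lit 524288) (Steps.fwd (nat_lit 262144) (Steps.bwd (nat_lit 3) Steps.nil))))))) (nat_lit 73) (nat_lit 5),
  Rule.mk (nat_lit 4) (nat_lit 314) (Steps.bwd (nat_lit 9) (Steps.bwd (nat_lit 4) (Steps.fwd (nat_lit 2359296) (Steps.bwd (nat_lit 4) (Steps.bwd (nat_lit 9) (Steps.fwd (nat_lit 1048576) (Steps.fwd (nat_lit 2359296) (Steps.bwd (nat_lit 4) (Steps.bwd (nat_lit 9) (Steps.fwd (nat_lit 1048576) (Steps.bwd (nat_lit 8) (Steps.bwd (nat_lit 4) (Steps.bwd (nat_lit 9) (Steps.fwd (nat_lit 1048576) (Steps.bwd (nat_lit 8) Steps.nil))))))))))))))) (nat_lit 106) (nat_lit 2),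
  Rule.mk (nat_lit 6) (nat_lit 274) (Steps.bwd (nat_lit 5) (Steps.fwd (nat_lit 786432) (Steps.bwd (nat_lit 1) (Steps.bwd (nat_lit 6) (Steps.fwd (nat_lit 262144) (Steps.fwd (nat_lit 786432) (Steps.fwd (nat_lit 262144) (Steps.bwd (nat_lit 6) (Steps.bwd (nat_lit 1) (Steps.bwd (nat_lit 2) (Steps.bwd (nat_lit 1) (Steps.fwd (nat_lit 1572864) (Steps.fwd (nat_lit 262144) Steps.nil))))))))))))) (nat_lit 34) (nat_lit 13),
  Rule.mk (nat_lit 8) (nat_lit 314) (Steps.bwd (nat_lit 4) (Steps.bwd (nat_lit 9) (Steps.bwd (nat_lit 4) (Steps.fwd (nat_lit 2359296) (Steps.fwd (nat_lit 1048576) (Steps.bwd (nat_lit 9) (Steps.fwd (nat_lit 1048576) (Steps.fwd (nat_lit 2359296) (Steps.fwd (nat_lit 1048576) (Steps.bwd (nat_lit 9) (Steps.bwd (nat_lit 4) (Steps.fwd (nat_lit 2359296) (Steps.fwd (nat_lit 1048576) (Steps.fwd (nat_lit 2097152) (Steps.fwd (nat_lit 1048576) Steps.nil)))))))))))))))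 (nat_lit 106) (nat_lit 1)]
noncomputable def R_131 : List (Rule) := [Rule.mk (nat_lit 6) (nat_lit 274) (Steps.bwd (nat_lit 1) (Steps.bwd (nat_lit 6) (Steps.fwd (nat_lit 1310720) (Steps.bwd (nat_lit 2) (Steps.fwd (nat_lit 262144) (Steps.fwd (nat_lit 1572864) (Steps.bwd (nat_lit 1) (Steps.fwd (nat_lit 786432) (Steps.bwd (nat_lit 1) (Steps.bwd (nat_lit 6) (Steps.fwd (nat_lit 262144) (Steps.bwd (nat_lit 2) (Steps.fwd (nat_lit 262144) Steps.nil))))))))))))) (nat_lit 34) (nat_lit 11),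
  Rule.mk (nat_lit 9) (nat_lit 314) (Steps.bwd (nat_lit 4) (Steps.bwd (nat_lit 8) (Steps.bwd (nat_lit 4) (Steps.bwd (nat_lit 9) (Steps.bwd (nat_lit 4) (Steps.bwd (nat_lit 8) (Steps.fwd (nat_lit 1048576) (Steps.bwd (nat_lit 9) (Steps.fwd (nat_lit 1048576) (Steps.fwd (nat_lit 2359296) (Steps.fwd (nat_lit 1048576) (Steps.fwd (nat_lit 2097152) (Steps.fwd (nat_lit 1048576) (Steps.bwd (nat_lit 8) (Steps.fwd (nat_lit 1048576) Steps.nil))))))))))))))) (nat_lit 106) (nat_lit 3),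
  Rule.mk (nat_lit 8) (nat_lit 314) (Steps.bwd (nat_lit 4) (Steps.bwd (nat_lit 9) (Steps.fwd (nat_lit 1048576) (Steps.bwd (nat_lit 8) (Steps.bwd (nat_lit 4) (Steps.fwd (nat_lit 2097152) (Steps.fwd (nat_lit 1048576) (Steps.fwd (nat_lit 2359296) (Steps.bwd (nat_lit 4) (Steps.bwd (nat_lit 9) (Steps.bwd (nat_lit 4) (Steps.fwd (nat_lit 2359296) (Steps.bwd (nat_lit 4) (Steps.bwd (nat_lit 9) (Steps.fwd (nat_lit 1048576) Steps.nil))))))))))))))) (nat_lit 106) (nat_lit 1),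
  Rule.mk (nat_lit 4) (nat_lit 314) (Steps.bwd (nat_lit 9) (Steps.fwd (nat_lit 1048576) (Steps.bwd (nat_lit 8) (Steps.fwd (nat_lit 1048576) (Steps.fwd (nat_lit 2097152) (Steps.fwd (nat_lit 1048576) (Steps.bwd (nat_lit 8) (Steps.fwd (nat_lit 1048576) (Steps.bwd (nat_lit 9) (Steps.fwd (nat_lit 1048576) (Steps.bwd (nat_lit 8) (Steps.bwd (nat_lit 4) (Steps.fwd (nat_lit 2097152) (Steps.fwd (nat_lit 1048576) (Steps.fwd (nat_lit 2359296) Steps.nil))))))))))))))) (nat_lit 106) (nat_lit 2),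
  Rule.mk (nat_lit 6) (nat_lit 274) (Steps.bwd (nat_lit 1) (Steps.bwd (nat_lit 6) (Steps.fwd (nat_lit 1310720) (Steps.bwd (nat_lit 2) (Steps.bwd (nat_lit 1) (Steps.bwd (nat_lit 6) (Steps.fwd (nat_lit 262144) (Steps.bwd (nat_lit 2) (Steps.bwd (nat_lit 1) (Steps.fwd (nat_lit 1572864) (Steps.fwd (nat_lit 262144) (Steps.bwd (nat_lit 2) (Steps.bwd (nat_lit 1) Steps.nil))))))))))))) (nat_lit 34) (nat_lit 11),
  Rule.mk (nat_lit 8) (nat_lit 314) (Steps.bwd (nat_lit 4) (Steps.fwd (nat_lit 2097152) (Steps.fwd (nat_lit 1048576) (Steps.bwd (nat_lit 8) (Steps.bwd (nat_lit 4) (Steps.bwd (nat_lit 9) (Steps.bwd (nat_lit 4) (Steps.fwd (nat_lit 2359296) (Steps.fwd (nat_lit 1048576) (Steps.fwd (nat_lit 2097152) (Steps.fwd (nat_lit 1048576) (Steps.fwd (nat_lit 2359296) (Steps.bwd (nat_lit 4) (Steps.bwd (nat_lit 9) (Steps.fwd (nat_lit 1048576) Steps.nil))))))))))))))) (nat_lit 106)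 (nat_lit 1),
  Rule.mk (nat_lit 8) (nat_lit 314) (Steps.bwd (nat_lit 4) (Steps.fwd (nat_lit 2097152) (Steps.bwd (nat_lit 4) (Steps.bwd (nat_lit 8) (Steps.bwd (nat_lit 4) (Steps.bwd (nat_lit 9) (Steps.fwd (nat_lit 1048576) (Steps.bwd (nat_lit 8) (Steps.bwd (nat_lit 4) (Steps.bwd (nat_lit 9) (Steps.fwd (nat_lit 1048576) (Steps.fwd (nat_lit 2359296) (Steps.bwd (nat_lit 4) (Steps.bwd (nat_lit 9) (Steps.fwd (nat_lit 1048576) Steps.nil))))))))))))))) (nat_lit 106) (nat_lit 1),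
  Rule.mk (nat_lit 9) (nat_lit 314) (Steps.bwd (nat_lit 4) (Steps.fwd (nat_lit 2359296) (Steps.bwd (nat_lit 4) (Steps.fwd (nat_lit 2097152) (Steps.bwd (nat_lit 4) (Steps.fwd (nat_lit 2359296) (Steps.bwd (nat_lit 4) (Steps.bwd (nat_lit 9) (Steps.fwd (nat_lit 1048576) (Steps.fwd (nat_lit 2359296) (Steps.fwd (nat_lit 1048576) (Steps.fwd (nat_lit 2097152) (Steps.fwd (nat_lit 1048576) (Steps.fwd (nat_lit 2359296) (Steps.fwd (nat_lit 1048576) Steps.nil))))))))))))))) (nat_lit 106) (nat_lit 3),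
  Rule.mk (nat_lit 9) (nat_lit 314) (Steps.bwd (nat_lit 4) (Steps.fwd (nat_lit 2359296) (Steps.fwd (nat_lit 1048576) (Steps.bwd (nat_lit 9) (Steps.bwd (nat_lit 4) (Steps.fwd (nat_lit 2359296) (Steps.bwd (nat_lit 4) (Steps.bwd (nat_lit 9) (Steps.bwd (nat_lit 4) (Steps.fwd (nat_lit 2359296) (Steps.fwd (nat_lit 1048576) (Steps.fwd (nat_lit 2097152) (Steps.bwd (nat_lit 4) (Steps.fwd (nat_lit 2359296) (Steps.fwd (nat_lit 1048576) Steps.nil))))))))))))))) (nat_lit 106) (nat_lit 3),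
  Rule.mk (nat_lit 8) (nat_lit 314) (Steps.bwd (nat_lit 4) (Steps.bwd (nat_lit 9) (Steps.bwd (nat_lit 4) (Steps.bwd (nat_lit 8) (Steps.bwd (nat_lit 4) (Steps.bwd (nat_lit 9) (Steps.bwd (nat_lit 4) (Steps.bwd (nat_lit 8) (Steps.fwd (nat_lit 1048576) (Steps.fwd (nat_lit 2097152) (Steps.fwd (nat_lit 1048576) (Steps.bwd (nat_lit 8) (Steps.fwd (nat_lit 1048576) (Steps.bwd (nat_lit 9) (Steps.bwd (nat_lit 4) Steps.nil))))))))))))))) (nat_lit 106) (nat_lit 1),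
  Rule.mk (nat_lit 8) (nat_lit 314) (Steps.bwd (nat_lit 4) (Steps.bwd (nat_lit 9) (Steps.bwd (nat_lit 4) (Steps.fwd (nat_lit 2359296) (Steps.bwd (nat_lit 4) (Steps.fwd (nat_lit 2097152) (Steps.bwd (nat_lit 4) (Steps.bwd (nat_lit 8) (Steps.bwd (nat_lit 4) (Steps.fwd (nat_lit 2097152) (Steps.fwd (nat_lit 1048576) (Steps.fwd (nat_lit 2359296) (Steps.bwd (nat_lit 4) (Steps.bwd (nat_lit 9) (Steps.fwd (nat_lit 1048576) Steps.nil))))))))))))))) (nat_lit 106) (nat_lit 1),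
  Rule.mk (nat_lit 6) (nat_lit 274) (Steps.bwd (nat_lit 1) (Steps.fwd (nat_lit 1572864) (Steps.bwd (nat_lit 5) (Steps.fwd (nat_lit 786432) (Steps.fwd (nat_lit 262144) (Steps.bwd (nat_lit 6) (Steps.fwd (nat_lit 262144) (Steps.bwd (nat_lit 2) (Steps.bwd (nat_lit 1) (Steps.bwd (nat_lit 6) (Steps.bwd (nat_lit 1) (Steps.bwd (nat_lit 2) (Steps.fwd (nat_lit 262144) Steps.nil))))))))))))) (nat_lit 34) (nat_lit 11),
  Rule.mk (nat_lit 9) (nat_lit 314) (Steps.bwd (nat_lit 4) (Steps.fwd (nat_lit 2359296) (Steps.bwd (nat_lit 4) (Steps.bwd (nat_lit 9) (Steps.bwd (nat_lit 4) (Steps.fwd (nat_lit 2359296) (Steps.fwd (nat_lit 1048576) (Steps.bwd (nat_lit 9) (Steps.fwd (nat_lit 1048576) (Steps.bwd (nat_lit 8) (Steps.fwd (nat_lit 1048576) (Steps.fwd (nat_lit 2097152) (Steps.fwd (nat_lit 1048576) (Steps.fwd (nat_lit 2359296) (Steps.fwd (nat_lit 1048576) Steps.nil))))))))))))))) (nat_lit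 106) (nat_lit 3),
  Rule.mk (nat_lit 9) (nat_lit 314) (Steps.bwd (nat_lit 4) (Steps.bwd (nat_lit 8) (Steps.fwd (nat_lit 1048576) (Steps.bwd (nat_lit 9) (Steps.bwd (nat_lit 4) (Steps.bwd (nat_lit 8) (Steps.bwd (nat_lit 4) (Steps.fwd (nat_lit 2097152) (Steps.bwd (nat_lit 4) (Steps.fwd (nat_lit 2359296) (Steps.bwd (nat_lit 4) (Steps.bwd (nat_lit 9) (Steps.fwd (nat_lit 1048576) (Steps.fwd (nat_lit 2359296) (Steps.fwd (nat_lit 1048576) Steps.nil))))))))))))))) (nat_lit 106) (nat_lit 3),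
  Rule.mk (nat_lit 8) (nat_lit 314) (Steps.bwd (nat_lit 4) (Steps.fwd (nat_lit 2097152) (Steps.bwd (nat_lit 4) (Steps.fwd (nat_lit 2359296) (Steps.fwd (nat_lit 1048576) (Steps.fwd (nat_lit 2097152) (Steps.bwd (nat_lit 4) (Steps.fwd (nat_lit 2359296) (Steps.bwd (nat_lit 4) (Steps.bwd (nat_lit 9) (Steps.fwd (nat_lit 1048576) (Steps.fwd (nat_lit 2359296) (Steps.bwd (nat_lit 4) (Steps.fwd (nat_lit 2097152) (Steps.bwd (nat_lit 4) Steps.nil))))))))))))))) (nat_lit 106) (nat_lit 1),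
  Rule.mk (nat_lit 9) (nat_lit 314) (Steps.bwd (nat_lit 4) (Steps.bwd (nat_lit 8) (Steps.fwd (nat_lit 1048576) (Steps.fwd (nat_lit 2097152) (Steps.bwd (nat_lit 4) (Steps.fwd (nat_lit 2359296) (Steps.fwd (nat_lit 1048576) (Steps.fwd (nat_lit 2097152) (Steps.fwd (nat_lit 1048576) (Steps.fwd (nat_lit 2359296) (Steps.bwd (nat_lit 4) (Steps.fwd (nat_lit 2097152) (Steps.bwd (nat_lit 4) (Steps.bwd (nat_lit 8) (Steps.fwd (nat_lit 1048576) Steps.nil))))))))))))))) (nat_lit 106) (nat_lit 3),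
  Rule.mk (nat_lit 8) (nat_lit 314) (Steps.bwd (nat_lit 4) (Steps.fwd (nat_lit 2097152) (Steps.fwd (nat_lit 1048576) (Steps.fwd (nat_lit 2359296) (Steps.fwd (nat_lit 1048576) (Steps.fwd (nat_lit 2097152) (Steps.fwd (nat_lit 1048576) (Steps.fwd (nat_lit 2359296) (Steps.fwd (nat_lit 1048576) (Steps.bwd (nat_lit 9) (Steps.bwd (nat_lit 4) (Steps.bwd (nat_lit 8) (Steps.fwd (nat_lit 1048576) (Steps.bwd (nat_lit 9) (Steps.bwd (nat_lit 4) Steps.nil))))))))))))))) (nat_lit 106) (nat_lit 1),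
  Rule.mk (nat_lit 8) (nat_lit 314) (Steps.bwd (nat_lit 4) (Steps.fwd (nat_lit 2097152) (Steps.bwd (nat_lit 4) (Steps.bwd (nat_lit 8) (Steps.fwd (nat_lit 1048576) (Steps.fwd (nat_lit 2097152) (Steps.fwd (nat_lit 1048576) (Steps.bwd (nat_lit 8) (Steps.bwd (nat_lit 4) (Steps.bwd (nat_lit 9) (Steps.bwd (nat_lit 4) (Steps.bwd (nat_lit 8) (Steps.bwd (nat_lit 4) (Steps.fwd (nat_lit 2097152) (Steps.fwd (nat_lit 1048576) Steps.nil))))))))))))))) (nat_lit 106) (nat_lit 1),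
  Rule.mk (nat_lit 8) (nat_lit 314) (Steps.bwd (nat_lit 4) (Steps.bwd (nat_lit 9) (Steps.bwd (nat_lit 4) (Steps.fwd (nat_lit 2359296) (Steps.bwd (nat_lit 4) (Steps.bwd (nat_lit 9) (Steps.bwd (nat_lit 4) (Steps.bwd (nat_lit 8) (Steps.fwd (nat_lit 1048576) (Steps.bwd (nat_lit 9) (Steps.bwd (nat_lit 4) (Steps.bwd (nat_lit 8) (Steps.fwd (nat_lit 1048576) (Steps.bwd (nat_lit 9) (Steps.fwd (nat_lit 1048576) Steps.nil))))))))))))))) (nat_lit 106) (nat_lit 1),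
  Rule.mk (nat_lit 9) (nat_lit 314) (Steps.bwd (nat_lit 4) (Steps.bwd (nat_lit 8) (Steps.bwd (nat_lit 4) (Steps.fwd (nat_lit 2097152) (Steps.bwd (nat_lit 4) (Steps.bwd (nat_lit 8) (Steps.bwd (nat_lit 4) (Steps.bwd (nat_lit 9) (Steps.fwd (nat_lit 1048576) (Steps.bwd (nat_lit 8) (Steps.fwd (nat_lit 1048576) (Steps.fwd (nat_lit 2097152) (Steps.fwd (nat_lit 1048576) (Steps.fwd (nat_lit 2359296) (Steps.fwd (nat_lit 1048576) Steps.nil))))))))))))))) (nat_lit 106) (nat_lit 3),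
  Rule.mk (nat_lit 8) (nat_lit 314) (Steps.bwd (nat_lit 4) (Steps.bwd (nat_lit 9) (Steps.fwd (nat_lit 1048576) (Steps.bwd (nat_lit 8) (Steps.bwd (nat_lit 4) (Steps.fwd (nat_lit 2097152) (Steps.bwd (nat_lit 4) (Steps.fwd (nat_lit 2359296) (Steps.bwd (nat_lit 4) (Steps.fwd (nat_lit 2097152) (Steps.fwd (nat_lit 1048576) (Steps.fwd (nat_lit 2359296) (Steps.fwd (nat_lit 1048576) (Steps.fwd (nat_lit 2097152) (Steps.fwd (nat_lit 1048576) Steps.nil))))))))))))))) (nat_lit 106) (nat_lit 1),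
  Rule.mk (nat_lit 8) (nat_lit 314) (Steps.bwd (nat_lit 4) (Steps.bwd (nat_lit 9) (Steps.bwd (nat_lit 4) (Steps.fwd (nat_lit 2359296) (Steps.fwd (nat_lit 1048576) (Steps.fwd (nat_lit 2097152) (Steps.fwd (nat_lit 1048576) (Steps.fwd (nat_lit 2359296) (Steps.bwd (nat_lit 4) (Steps.bwd (nat_lit 9) (Steps.bwd (nat_lit 4) (Steps.fwd (nat_lit 2359296) (Steps.fwd (nat_lit 1048576) (Steps.bwd (nat_lit 9) (Steps.fwd (nat_lit 1048576) Steps.nil))))))))))))))) (nat_lit 106) (nat_lit 1),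
  Rule.mk (nat_lit 8) (nat_lit 314) (Steps.bwd (nat_lit 4) (Steps.fwd (nat_lit 2097152) (Steps.bwd (nat_lit 4) (Steps.bwd (nat_lit 8) (Steps.bwd (nat_lit 4) (Steps.bwd (nat_lit 9) (Steps.bwd (nat_lit 4) (Steps.bwd (nat_lit 8) (Steps.bwd (nat_lit 4) (Steps.fwd (nat_lit 2097152) (Steps.fwd (nat_lit 1048576) (Steps.fwd (nat_lit 2359296) (Steps.fwd (nat_lit 1048576) (Steps.bwd (nat_lit 9) (Steps.fwd (nat_lit 1048576) Steps.nil))))))))))))))) (nat_lit 106) (nat_lit 1),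
  Rule.mk (nat_lit 9) (nat_lit 314) (Steps.bwd (nat_lit 4) (Steps.fwd (nat_lit 2359296) (Steps.fwd (nat_lit 1048576) (Steps.fwd (nat_lit 2097152) (Steps.fwd (nat_lit 1048576) (Steps.fwd (nat_lit 2359296) (Steps.fwd (nat_lit 1048576) (Steps.bwd (nat_lit 9) (Steps.bwd (nat_lit 4) (Steps.bwd (nat_lit 8) (Steps.bwd (nat_lit 4) (Steps.fwd (nat_lit 2097152) (Steps.fwd (nat_lit 1048576) (Steps.bwd (nat_lit 8) (Steps.fwd (nat_lit 1048576) Steps.nil))))))))))))))) (nat_lit 106) (nat_lit 3),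
  Rule.mk (nat_lit 9) (nat_lit 314) (Steps.bwd (nat_lit 4) (Steps.fwd (nat_lit 2359296) (Steps.bwd (nat_lit 4) (Steps.bwd (nat_lit 9) (Steps.bwd (nat_lit 4) (Steps.fwd (nat_lit 2359296) (Steps.bwd (nat_lit 4) (Steps.fwd (nat_lit 2097152) (Steps.fwd (nat_lit 1048576) (Steps.bwd (nat_lit 8) (Steps.bwd (nat_lit 4) (Steps.bwd (nat_lit 9) (Steps.bwd (nat_lit 4) (Steps.bwd (nat_lit 8) (Steps.fwd (nat_lit 1048576) Steps.nil))))))))))))))) (nat_lit 106) (nat_lit 3),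
  Rule.mk (nat_lit 9) (nat_lit 314) (Steps.bwd (nat_lit 4) (Steps.fwd (nat_lit 2359296) (Steps.bwd (nat_lit 4) (Steps.fwd (nat_lit 2097152) (Steps.bwd (nat_lit 4) (Steps.fwd (nat_lit 2359296) (Steps.fwd (nat_lit 1048576) (Steps.bwd (nat_lit 9) (Steps.fwd (nat_lit 1048576) (Steps.bwd (nat_lit 8) (Steps.fwd (nat_lit 1048576) (Steps.bwd (nat_lit 9) (Steps.bwd (nat_lit 4) (Steps.bwd (nat_lit 8) (Steps.fwd (nat_lit 1048576) Steps.nil))))))))))))))) (nat_lit 106) (nat_lit 3),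
  Rule.mk (nat_lit 9) (nat_lit 314) (Steps.bwd (nat_lit 4) (Steps.bwd (nat_lit 8) (Steps.bwd (nat_lit 4) (Steps.fwd (nat_lit 2097152) (Steps.bwd (nat_lit 4) (Steps.bwd (nat_lit 8) (Steps.fwd (nat_lit 1048576) (Steps.fwd (nat_lit 2097152) (Steps.bwd (nat_lit 4) (Steps.bwd (nat_lit 8) (Steps.bwd (nat_lit 4) (Steps.bwd (nat_lit 9) (Steps.fwd (nat_lit 1048576) (Steps.fwd (nat_lit 2359296) (Steps.fwd (nat_lit 1048576) Steps.nil))))))))))))))) (nat_lit 106) (nat_lit 3),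
  Rule.mk (nat_lit 9) (nat_lit 314) (Steps.bwd (nat_lit 4) (Steps.fwd (nat_lit 2359296) (Steps.fwd (nat_lit 1048576) (Steps.bwd (nat_lit 9) (Steps.bwd (nat_lit 4) (Steps.fwd (nat_lit 2359296) (Steps.fwd (nat_lit 1048576) (Steps.bwd (nat_lit 9) (Steps.fwd (nat_lit 1048576) (Steps.bwd (nat_lit 8) (Steps.bwd (nat_lit 4) (Steps.fwd (nat_lit 2097152) (Steps.bwd (nat_lit 4) (Steps.bwd (nat_lit 8) (Steps.fwd (nat_lit 1048576) Steps.nil))))))))))))))) (nat_lit 106) (nat_lit 3),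
  Rule.mk (nat_lit 9) (nat_lit 314) (Steps.bwd (nat_lit 4) (Steps.fwd (nat_lit 2359296) (Steps.bwd (nat_lit 4) (Steps.bwd (nat_lit 9) (Steps.fwd (nat_lit 1048576) (Steps.fwd (nat_lit 2359296) (Steps.fwd (nat_lit 1048576) (Steps.bwd (nat_lit 9) (Steps.bwd (nat_lit 4) (Steps.fwd (nat_lit 2359296) (Steps.bwd (nat_lit 4) (Steps.bwd (nat_lit 9) (Steps.fwd (nat_lit 1048576) (Steps.fwd (nat_lit 2359296) (Steps.fwd (nat_lit 1048576) Steps.nil))))))))))))))) (nat_lit 106) (nat_lit 3),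
  Rule.mk (nat_lit 9) (nat_lit 314) (Steps.bwd (nat_lit 4) (Steps.bwd (nat_lit 8) (Steps.fwd (nat_lit 1048576) (Steps.bwd (nat_lit 9) (Steps.bwd (nat_lit 4) (Steps.fwd (nat_lit 2359296) (Steps.fwd (nat_lit 1048576) (Steps.bwd (nat_lit 9) (Steps.fwd (nat_lit 1048576) (Steps.fwd (nat_lit 2359296) (Steps.bwd (nat_lit 4) (Steps.fwd (nat_lit 2097152) (Steps.bwd (nat_lit 4) (Steps.bwd (nat_lit 8) (Steps.fwd (nat_lit 1048576) Steps.nil))))))))))))))) (nat_lit 106) (nat_lit 3),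
  Rule.mk (nat_lit 8) (nat_lit 314) (Steps.bwd (nat_lit 4) (Steps.fwd (nat_lit 2097152) (Steps.bwd (nat_lit 4) (Steps.fwd (nat_lit 2359296) (Steps.bwd (nat_lit 4) (Steps.bwd (nat_lit 9) (Steps.fwd (nat_lit 1048576) (Steps.fwd (nat_lit 2359296) (Steps.bwd (nat_lit 4) (Steps.bwd (nat_lit 9) (Steps.bwd (nat_lit 4) (Steps.fwd (nat_lit 2359296) (Steps.bwd (nat_lit 4) (Steps.bwd (nat_lit 9) (Steps.fwd (nat_lit 1048576) Steps.nil))))))))))))))) (nat_lit 106) (nat_lit 1),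
  Rule.mk (nat_lit 8) (nat_lit 314) (Steps.bwd (nat_lit 4) (Steps.fwd (nat_lit 2097152) (Steps.bwd (nat_lit 4) (Steps.fwd (nat_lit 2359296) (Steps.bwd (nat_lit 4) (Steps.bwd (nat_lit 9) (Steps.fwd (nat_lit 1048576) (Steps.fwd (nat_lit 2359296) (Steps.fwd (nat_lit 1048576) (Steps.bwd (nat_lit 9) (Steps.bwd (nat_lit 4) (Steps.fwd (nat_lit 2359296) (Steps.fwd (nat_lit 1048576) (Steps.fwd (nat_lit 2097152) (Steps.fwd (nat_lit 1048576) Steps.nil))))))))))))))) (nat_lit 106) (nat_lit 1),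
  Rule.mk (nat_lit 9) (nat_lit 314) (Steps.bwd (nat_lit 4) (Steps.fwd (nat_lit 2359296) (Steps.fwd (nat_lit 1048576) (Steps.bwd (nat_lit 9) (Steps.fwd (nat_lit 1048576) (Steps.fwd (nat_lit 2359296) (Steps.bwd (nat_lit 4) (Steps.fwd (nat_lit 2097152) (Steps.bwd (nat_lit 4) (Steps.fwd (nat_lit 2359296) (Steps.bwd (nat_lit 4) (Steps.bwd (nat_lit 9) (Steps.bwd (nat_lit 4) (Steps.fwd (nat_lit 2359296) (Steps.fwd (nat_lit 1048576) Steps.nil))))))))))))))) (nat_lit 106) (nat_lit 3),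
  Rule.mk (nat_lit 8) (nat_lit 314) (Steps.bwd (nat_lit 4) (Steps.fwd (nat_lit 2097152) (Steps.fwd (nat_lit 1048576) (Steps.fwd (nat_lit 2359296) (Steps.bwd (nat_lit 4) (Steps.fwd (nat_lit 2097152) (Steps.fwd (nat_lit 1048576) (Steps.fwd (nat_lit 2359296) (Steps.fwd (nat_lit 1048576) (Steps.bwd (nat_lit 9) (Steps.bwd (nat_lit 4) (Steps.fwd (nat_lit 2359296) (Steps.fwd (nat_lit 1048576) (Steps.bwd (nat_lit 9) (Steps.fwd (nat_lit 1048576) Steps.nil))))))))))))))) (nat_lit 106) (nat_lit 1),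
  Rule.mk (nat_lit 9) (nat_lit 314) (Steps.bwd (nat_lit 4) (Steps.bwd (nat_lit 8) (Steps.fwd (nat_lit 1048576) (Steps.fwd (nat_lit 2097152) (Steps.fwd (nat_lit 1048576) (Steps.bwd (nat_lit 8) (Steps.fwd (nat_lit 1048576) (Steps.bwd (nat_lit 9) (Steps.fwd (nat_lit 1048576) (Steps.fwd (nat_lit 2359296) (Steps.bwd (nat_lit 4) (Steps.bwd (nat_lit 9) (Steps.fwd (nat_lit 1048576) (Steps.fwd (nat_lit 2359296) (Steps.fwd (nat_lit 1048576) Steps.nil))))))))))))))) (nat_lit 106) (nat_lit 3),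
  Rule.mk (nat_lit 8) (nat_lit 314) (Steps.bwd (nat_lit 4) (Steps.bwd (nat_lit 9) (Steps.bwd (nat_lit 4) (Steps.fwd (nat_lit 2359296) (Steps.bwd (nat_lit 4) (Steps.bwd (nat_lit 9) (Steps.bwd (nat_lit 4) (Steps.fwd (nat_lit 2359296) (Steps.bwd (nat_lit 4) (Steps.bwd (nat_lit 9) (Steps.fwd (nat_lit 1048576) (Steps.fwd (nat_lit 2359296) (Steps.fwd (nat_lit 1048576) (Steps.bwd (nat_lit 9) (Steps.fwd (nat_lit 1048576) Steps.nil))))))))))))))) (nat_lit 106) (nat_lit 1),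
  Rule.mk (nat_lit 9) (nat_lit 314) (Steps.bwd (nat_lit 4) (Steps.bwd (nat_lit 8) (Steps.fwd (nat_lit 1048576) (Steps.fwd (nat_lit 2097152) (Steps.fwd (nat_lit 1048576) (Steps.bwd (nat_lit 8) (Steps.fwd (nat_lit 1048576) (Steps.bwd (nat_lit 9) (Steps.fwd (nat_lit 1048576) (Steps.fwd (nat_lit 2359296) (Steps.bwd (nat_lit 4) (Steps.fwd (nat_lit 2097152) (Steps.bwd (nat_lit 4) (Steps.bwd (nat_lit 8) (Steps.fwd (nat_lit 1048576) Steps.nil))))))))))))))) (nat_lit 106) (nat_lit 3),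
  Rule.mk (nat_lit 8) (nat_lit 314) (Steps.bwd (nat_lit 4) (Steps.bwd (nat_lit 9) (Steps.bwd (nat_lit 4) (Steps.bwd (nat_lit 8) (Steps.bwd (nat_lit 4) (Steps.bwd (nat_lit 9) (Steps.bwd (nat_lit 4) (Steps.bwd (nat_lit 8) (Steps.fwd (nat_lit 1048576) (Steps.fwd (nat_lit 2097152) (Steps.bwd (nat_lit 4) (Steps.bwd (nat_lit 8) (Steps.fwd (nat_lit 1048576) (Steps.fwd (nat_lit 2097152) (Steps.fwd (nat_lit 1048576) Steps.nil))))))))))))))) (nat_lit 106) (nat_lit 1),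
  Rule.mk (nat_lit 8) (nat_lit 314) (Steps.bwd (nat_lit 4) (Steps.fwd (nat_lit 2097152) (Steps.fwd (nat_lit 1048576) (Steps.fwd (nat_lit 2359296) (Steps.bwd (nat_lit 4) (Steps.fwd (nat_lit 2097152) (Steps.fwd (nat_lit 1048576) (Steps.bwd (nat_lit 8) (Steps.fwd (nat_lit 1048576) (Steps.fwd (nat_lit 2097152) (Steps.fwd (nat_lit 1048576) (Steps.fwd (nat_lit 2359296) (Steps.fwd (nat_lit 1048576) (Steps.bwd (nat_lit 9) (Steps.fwd (nat_lit 1048576) Steps.nil))))))))))))))) (nat_lit 106) (nat_lit 1),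
  Rule.mk (nat_lit 8) (nat_lit 314) (Steps.bwd (nat_lit 4) (Steps.bwd (nat_lit 9) (Steps.bwd (nat_lit 4) (Steps.bwd (nat_lit 8) (Steps.bwd (nat_lit 4) (Steps.fwd (nat_lit 2097152) (Steps.fwd (nat_lit 1048576) (Steps.bwd (nat_lit 8) (Steps.fwd (nat_lit 1048576) (Steps.bwd (nat_lit 9) (Steps.bwd (nat_lit 4) (Steps.fwd (nat_lit 2359296) (Steps.fwd (nat_lit 1048576) (Steps.fwd (nat_lit 2097152) (Steps.fwd (nat_lit 1048576) Steps.nil))))))))))))))) (nat_lit 106) (nat_lit 1),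
  Rule.mk (nat_lit 8) (nat_lit 314) (Steps.bwd (nat_lit 4) (Steps.fwd (nat_lit 2097152) (Steps.bwd (nat_lit 4) (Steps.fwd (nat_lit 2359296) (Steps.fwd (nat_lit 1048576) (Steps.fwd (nat_lit 2097152) (Steps.fwd (nat_lit 1048576) (Steps.fwd (nat_lit 2359296) (Steps.bwd (nat_lit 4) (Steps.bwd (nat_lit 9) (Steps.fwd (nat_lit 1048576) (Steps.bwd (nat_lit 8) (Steps.fwd (nat_lit 1048576) (Steps.fwd (nat_lit 2097152) (Steps.fwd (nat_lit 1048576) Steps.nil))))))))))))))) (nat_lit 106) (nat_lit 1),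
  Rule.mk (nat_lit 9) (nat_lit 314) (Steps.bwd (nat_lit 4) (Steps.fwd (nat_lit 2359296) (Steps.fwd (nat_lit 1048576) (Steps.bwd (nat_lit 9) (Steps.bwd (nat_lit 4) (Steps.bwd (nat_lit 8) (Steps.bwd (nat_lit 4) (Steps.bwd (nat_lit 9) (Steps.fwd (nat_lit 1048576) (Steps.fwd (nat_lit 2359296) (Steps.fwd (nat_lit 1048576) (Steps.bwd (nat_lit 9) (Steps.fwd (nat_lit 1048576) (Steps.fwd (nat_lit 2359296) (Steps.fwd (nat_lit 1048576) Steps.nil))))))))))))))) (nat_lit 106) (nat_lit 3),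
  Rule.mk (nat_lit 8) (nat_lit 314) (Steps.bwd (nat_lit 4) (Steps.fwd (nat_lit 2097152) (Steps.fwd (nat_lit 1048576) (Steps.bwd (nat_lit 8) (Steps.fwd (nat_lit 1048576) (Steps.bwd (nat_lit 9) (Steps.bwd (nat_lit 4) (Steps.bwd (nat_lit 8) (Steps.fwd (nat_lit 1048576) (Steps.fwd (nat_lit 2097152) (Steps.bwd (nat_lit 4) (Steps.fwd (nat_lit 2359296) (Steps.fwd (nat_lit 1048576) (Steps.bwd (nat_lit 9) (Steps.fwd (nat_lit 1048576) Steps.nil))))))))))))))) (nat_lit 106) (nat_lit 1),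
  Rule.mk (nat_lit 9) (nat_lit 314) (Steps.bwd (nat_lit 4) (Steps.fwd (nat_lit 2359296) (Steps.bwd (nat_lit 4) (Steps.bwd (nat_lit 9) (Steps.fwd (nat_lit 1048576) (Steps.bwd (nat_lit 8) (Steps.fwd (nat_lit 1048576) (Steps.bwd (nat_lit 9) (Steps.fwd (nat_lit 1048576) (Steps.bwd (nat_lit 8) (Steps.bwd (nat_lit 4) (Steps.bwd (nat_lit 9) (Steps.fwd (nat_lit 1048576) (Steps.fwd (nat_lit 2359296) (Steps.fwd (nat_lit 1048576) Steps.nil))))))))))))))) (nat_lit 106) (nat_lit 3),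
  Rule.mk (nat_lit 9) (nat_lit 314) (Steps.bwd (nat_lit 4) (Steps.fwd (nat_lit 2359296) (Steps.bwd (nat_lit 4) (Steps.fwd (nat_lit 2097152) (Steps.bwd (nat_lit 4) (Steps.fwd (nat_lit 2359296) (Steps.bwd (nat_lit 4) (Steps.bwd (nat_lit 9) (Steps.bwd (nat_lit 4) (Steps.fwd (nat_lit 2359296) (Steps.bwd (nat_lit 4) (Steps.bwd (nat_lit 9) (Steps.fwd (nat_lit 1048576) (Steps.bwd (nat_lit 8) (Steps.fwd (nat_lit 1048576) Steps.nil))))))))))))))) (nat_lit 106) (nat_lit 3),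
  Rule.mk (nat_lit 9) (nat_lit 314) (Steps.bwd (nat_lit 4) (Steps.bwd (nat_lit 8) (Steps.bwd (nat_lit 4) (Steps.bwd (nat_lit 9) (Steps.bwd (nat_lit 4) (Steps.bwd (nat_lit 8) (Steps.bwd (nat_lit 4) (Steps.fwd (nat_lit 2097152) (Steps.bwd (nat_lit 4) (Steps.bwd (nat_lit 8) (Steps.fwd (nat_lit 1048576) (Steps.bwd (nat_lit 9) (Steps.fwd (nat_lit 1048576) (Steps.bwd (nat_lit 8) (Steps.fwd (nat_lit 1048576) Steps.nil))))))))))))))) (nat_lit 106) (nat_lit 3),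
  Rule.mk (nat_lit 8) (nat_lit 314) (Steps.bwd (nat_lit 4) (Steps.bwd (nat_lit 9) (Steps.bwd (nat_lit 4) (Steps.bwd (nat_lit 8) (Steps.bwd (nat_lit 4) (Steps.bwd (nat_lit 9) (Steps.fwd (nat_lit 1048576) (Steps.bwd (nat_lit 8) (Steps.bwd (nat_lit 4) (Steps.bwd (nat_lit 9) (Steps.fwd (nat_lit 1048576) (Steps.fwd (nat_lit 2359296) (Steps.fwd (nat_lit 1048576) (Steps.bwd (nat_lit 9) (Steps.fwd (nat_lit 1048576) Steps.nil))))))))))))))) (nat_lit 106) (nat_lit 1),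
  Rule.mk (nat_lit 8) (nat_lit 314) (Steps.bwd (nat_lit 4) (Steps.bwd (nat_lit 9) (Steps.bwd (nat_lit 4) (Steps.fwd (nat_lit 2359296) (Steps.fwd (nat_lit 1048576) (Steps.bwd (nat_lit 9) (Steps.fwd (nat_lit 1048576) (Steps.fwd (nat_lit 2359296) (Steps.fwd (nat_lit 1048576) (Steps.fwd (nat_lit 2097152) (Steps.bwd (nat_lit 4) (Steps.fwd (nat_lit 2359296) (Steps.fwd (nat_lit 1048576) (Steps.bwd (nat_lit 9) (Steps.fwd (nat_lit 1048576) Steps.nil))))))))))))))) (nat_lit 106) (nat_lit 1),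
  Rule.mk (nat_lit 9) (nat_lit 314) (Steps.bwd (nat_lit 4) (Steps.fwd (nat_lit 2359296) (Steps.fwd (nat_lit 1048576) (Steps.bwd (nat_lit 9) (Steps.fwd (nat_lit 1048576) (Steps.fwd (nat_lit 2359296) (Steps.bwd (nat_lit 4) (Steps.bwd (nat_lit 9) (Steps.bwd (nat_lit 4) (Steps.bwd (nat_lit 8) (Steps.fwd (nat_lit 1048576) (Steps.bwd (nat_lit 9) (Steps.fwd (nat_lit 1048576) (Steps.fwd (nat_lit 2359296) (Steps.fwd (nat_lit 1048576) Steps.nil))))))))))))))) (nat_lit 106) (nat_lit 3),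
  Rule.mk (nat_lit 8) (nat_lit 314) (Steps.bwd (nat_lit 4) (Steps.fwd (nat_lit 2097152) (Steps.fwd (nat_lit 1048576) (Steps.fwd (nat_lit 2359296) (Steps.fwd (nat_lit 1048576) (Steps.fwd (nat_lit 2097152) (Steps.bwd (nat_lit 4) (Steps.fwd (nat_lit 2359296) (Steps.bwd (nat_lit 4) (Steps.fwd (nat_lit 2097152) (Steps.bwd (nat_lit 4) (Steps.bwd (nat_lit 8) (Steps.bwd (nat_lit 4) (Steps.bwd (nat_lit 9) (Steps.fwd (nat_lit 1048576) Steps.nil))))))))))))))) (nat_lit 106) (nat_lit 1),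
  Rule.mk (nat_lit 9) (nat_lit 314) (Steps.bwd (nat_lit 4) (Steps.bwd (nat_lit 8) (Steps.bwd (nat_lit 4) (Steps.bwd (nat_lit 9) (Steps.fwd (nat_lit 1048576) (Steps.bwd (nat_lit 8) (Steps.fwd (nat_lit 1048576) (Steps.fwd (nat_lit 2097152) (Steps.bwd (nat_lit 4) (Steps.fwd (nat_lit 2359296) (Steps.bwd (nat_lit 4) (Steps.fwd (nat_lit 2097152) (Steps.fwd (nat_lit 1048576) (Steps.bwd (nat_lit 8) (Steps.fwd (nat_lit 1048576) Steps.nil))))))))))))))) (nat_lit 106) (nat_lit 3),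
  Rule.mk (nat_lit 8) (nat_lit 314) (Steps.bwd (nat_lit 4) (Steps.bwd (nat_lit 9) (Steps.bwd (nat_lit 4) (Steps.bwd (nat_lit 8) (Steps.bwd (nat_lit 4) (Steps.bwd (nat_lit 9) (Steps.bwd (nat_lit 4) (Steps.fwd (nat_lit 2359296) (Steps.bwd (nat_lit 4) (Steps.fwd (nat_lit 2097152) (Steps.bwd (nat_lit 4) (Steps.bwd (nat_lit 8) (Steps.bwd (nat_lit 4) (Steps.bwd (nat_lit 9) (Steps.fwd (nat_lit 1048576) Steps.nil))))))))))))))) (nat_lit 106) (nat_lit 1),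
  Rule.mk (nat_lit 4) (nat_lit 314) (Steps.bwd (nat_lit 8) (Steps.bwd (nat_lit 4) (Steps.bwd (nat_lit 9) (Steps.bwd (nat_lit 4) (Steps.bwd (nat_lit 8) (Steps.fwd (nat_lit 1048576) (Steps.fwd (nat_lit 2097152) (Steps.fwd (nat_lit 1048576) (Steps.fwd (nat_lit 2359296) (Steps.fwd (nat_lit 1048576) (Steps.bwd (nat_lit 9) (Steps.fwd (nat_lit 1048576) (Steps.fwd (nat_lit 2359296) (Steps.fwd (nat_lit 1048576) (Steps.bwd (nat_lit 9) Steps.nil))))))))))))))) (nat_lit 106) (nat_lit 0),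
  Rule.mk (nat_lit 8) (nat_lit 314) (Steps.bwd (nat_lit 4) (Steps.fwd (nat_lit 2097152) (Steps.bwd (nat_lit 4) (Steps.bwd (nat_lit 8) (Steps.bwd (nat_lit 4) (Steps.fwd (nat_lit 2097152) (Steps.bwd (nat_lit 4) (Steps.bwd (nat_lit 8) (Steps.fwd (nat_lit 1048576) (Steps.fwd (nat_lit 2097152) (Steps.fwd (nat_lit 1048576) (Steps.bwd (nat_lit 8) (Steps.fwd (nat_lit 1048576) (Steps.fwd (nat_lit 2097152) (Steps.fwd (nat_lit 1048576) Steps.nil))))))))))))))) (nat_lit 106) (nat_lit 1),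
  Rule.mk (nat_lit 8) (nat_lit 314) (Steps.bwd (nat_lit 4) (Steps.fwd (nat_lit 2097152) (Steps.bwd (nat_lit 4) (Steps.fwd (nat_lit 2359296) (Steps.fwd (nat_lit 1048576) (Steps.bwd (nat_lit 9) (Steps.bwd (nat_lit 4) (Steps.fwd (nat_lit 2359296) (Steps.bwd (nat_lit 4) (Steps.bwd (nat_lit 9) (Steps.fwd (nat_lit 1048576) (Steps.fwd (nat_lit 2359296) (Steps.fwd (nat_lit 1048576) (Steps.bwd (nat_lit 9) (Steps.fwd (nat_lit 1048576) Steps.nil))))))))))))))) (nat_lit 106) (nat_lit 1),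
  Rule.mk (nat_lit 9) (nat_lit 314) (Steps.bwd (nat_lit 4) (Steps.bwd (nat_lit 8) (Steps.bwd (nat_lit 4) (Steps.bwd (nat_lit 9) (Steps.bwd (nat_lit 4) (Steps.fwd (nat_lit 2359296) (Steps.fwd (nat_lit 1048576) (Steps.bwd (nat_lit 9) (Steps.bwd (nat_lit 4) (Steps.fwd (nat_lit 2359296) (Steps.fwd (nat_lit 1048576) (Steps.bwd (nat_lit 9) (Steps.fwd (nat_lit 1048576) (Steps.bwd (nat_lit 8) (Steps.fwd (nat_lit 1048576) Steps.nil))))))))))))))) (nat_lit 106) (nat_lit 3),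
  Rule.mk (nat_lit 9) (nat_lit 314) (Steps.bwd (nat_lit 4) (Steps.bwd (nat_lit 8) (Steps.fwd (nat_lit 1048576) (Steps.bwd (nat_lit 9) (Steps.fwd (nat_lit 1048576) (Steps.fwd (nat_lit 2359296) (Steps.fwd (nat_lit 1048576) (Steps.bwd (nat_lit 9) (Steps.fwd (nat_lit 1048576) (Steps.bwd (nat_lit 8) (Steps.fwd (nat_lit 1048576) (Steps.bwd (nat_lit 9) (Steps.bwd (nat_lit 4) (Steps.fwd (nat_lit 2359296) (Steps.fwd (nat_lit 1048576) Steps.nil))))))))))))))) (nat_lit 106) (nat_lit 3),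
  Rule.mk (nat_lit 4) (nat_lit 314) (Steps.bwd (nat_lit 8) (Steps.bwd (nat_lit 4) (Steps.bwd (nat_lit 9) (Steps.bwd (nat_lit 4) (Steps.fwd (nat_lit 2359296) (Steps.bwd (nat_lit 4) (Steps.bwd (nat_lit 9) (Steps.fwd (nat_lit 1048576) (Steps.bwd (nat_lit 8) (Steps.fwd (nat_lit 1048576) (Steps.fwd (nat_lit 2097152) (Steps.bwd (nat_lit 4) (Steps.fwd (nat_lit 2359296) (Steps.fwd (nat_lit 1048576) (Steps.fwd (nat_lit 2097152) Steps.nil))))))))))))))) (nat_lit 106) (nat_lit 0),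
  Rule.mk (nat_lit 9) (nat_lit 314) (Steps.bwd (nat_lit 4) (Steps.bwd (nat_lit 8) (Steps.bwd (nat_lit 4) (Steps.bwd (nat_lit 9) (Steps.bwd (nat_lit 4) (Steps.fwd (nat_lit 2359296) (Steps.fwd (nat_lit 1048576) (Steps.fwd (nat_lit 2097152) (Steps.fwd (nat_lit 1048576) (Steps.bwd (nat_lit 8) (Steps.fwd (nat_lit 1048576) (Steps.fwd (nat_lit 2097152) (Steps.fwd (nat_lit 1048576) (Steps.fwd (nat_lit 2359296) (Steps.fwd (nat_lit 1048576) Steps.nil))))))))))))))) (nat_lit 106) (nat_lit 3),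
  Rule.mk (nat_lit 4) (nat_lit 314) (Steps.bwd (nat_lit 9) (Steps.bwd (nat_lit 4) (Steps.fwd (nat_lit 2359296) (Steps.fwd (nat_lit 1048576) (Steps.bwd (nat_lit 9) (Steps.bwd (nat_lit 4) (Steps.fwd (nat_lit 2359296) (Steps.fwd (nat_lit 1048576) (Steps.bwd (nat_lit 9) (Steps.bwd (nat_lit 4) (Steps.fwd (nat_lit 2359296) (Steps.fwd (nat_lit 1048576) (Steps.bwd (nat_lit 9) (Steps.fwd (nat_lit 1048576) (Steps.bwd (nat_lit 8) Steps.nil))))))))))))))) (nat_lit 106) (nat_lit 2),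
  Rule.mk (nat_lit 4) (nat_lit 314) (Steps.bwd (nat_lit 8) (Steps.bwd (nat_lit 4) (Steps.bwd (nat_lit 9) (Steps.bwd (nat_lit 4) (Steps.bwd (nat_lit 8) (Steps.fwd (nat_lit 1048576) (Steps.fwd (nat_lit 2097152) (Steps.fwd (nat_lit 1048576) (Steps.fwd (nat_lit 2359296) (Steps.fwd (nat_lit 1048576) (Steps.bwd (nat_lit 9) (Steps.fwd (nat_lit 1048576) (Steps.bwd (nat_lit 8) (Steps.fwd (nat_lit 1048576) (Steps.bwd (nat_lit 9) Steps.nil))))))))))))))) (nat_lit 106) (nat_lit 0),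
  Rule.mk (nat_lit 9) (nat_lit 314) (Steps.bwd (nat_lit 4) (Steps.fwd (nat_lit 2359296) (Steps.fwd (nat_lit 1048576) (Steps.bwd (nat_lit 9) (Steps.fwd (nat_lit 1048576) (Steps.bwd (nat_lit 8) (Steps.fwd (nat_lit 1048576) (Steps.fwd (nat_lit 2097152) (Steps.fwd (nat_lit 1048576) (Steps.fwd (nat_lit 2359296) (Steps.bwd (nat_lit 4) (Steps.fwd (nat_lit 2097152) (Steps.bwd (nat_lit 4) (Steps.fwd (nat_lit 2359296) (Steps.fwd (nat_lit 1048576) Steps.nil))))))))))))))) (nat_lit 106) (nat_lit 3),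
  Rule.mk (nat_lit 4) (nat_lit 314) (Steps.bwd (nat_lit 9) (Steps.bwd (nat_lit 4) (Steps.bwd (nat_lit 8) (Steps.bwd (nat_lit 4) (Steps.fwd (nat_lit 2097152) (Steps.bwd (nat_lit 4) (Steps.fwd (nat_lit 2359296) (Steps.bwd (nat_lit 4) (Steps.bwd (nat_lit 9) (Steps.fwd (nat_lit 1048576) (Steps.bwd (nat_lit 8) (Steps.bwd (nat_lit 4) (Steps.bwd (nat_lit 9) (Steps.fwd (nat_lit 1048576) (Steps.bwd (nat_lit 8) Steps.nil))))))))))))))) (nat_lit 106) (nat_lit 2),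
  Rule.mk (nat_lit 4) (nat_lit 314) (Steps.bwd (nat_lit 9) (Steps.bwd (nat_lit 4) (Steps.fwd (nat_lit 2359296) (Steps.bwd (nat_lit 4) (Steps.fwd (nat_lit 2097152) (Steps.bwd (nat_lit 4) (Steps.bwd (nat_lit 8) (Steps.bwd (nat_lit 4) (Steps.bwd (nat_lit 9) (Steps.bwd (nat_lit 4) (Steps.bwd (nat_lit 8) (Steps.fwd (nat_lit 1048576) (Steps.fwd (nat_lit 2097152) (Steps.fwd (nat_lit 1048576) (Steps.fwd (nat_lit 2359296) Steps.nil))))))))))))))) (nat_lit 106) (nat_lit 2)]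
noncomputable def R_132 : List (Rule) := [Rule.mk (nat_lit 7) (nat_lit 114) (Steps.fwd (nat_lit 786432) (Steps.fwd (nat_lit 1572864) (Steps.fwd (nat_lit 1835008) (Steps.bwd (nat_lit 3) (Steps.fwd (nat_lit 1572864) Steps.nil))))) (nat_lit 62) (nat_lit 0),
  Rule.mk (nat_lit 4) (nat_lit 314) (Steps.bwd (nat_lit 9) (Steps.bwd (nat_lit 4) (Steps.fwd (nat_lit 2359296) (Steps.bwd (nat_lit 4) (Steps.bwd (nat_lit 9) (Steps.bwd (nat_lit 4) (Steps.fwd (nat_lit 2359296) (Steps.fwd (nat_lit 1048576) (Steps.bwd (nat_lit 9) (Steps.bwd (nat_lit 4) (Steps.fwd (nat_lit 2359296) (Steps.fwd (nat_lit 1048576) (Steps.bwd (nat_lit 9) (Steps.fwd (nat_lit 1048576) (Steps.bwd (nat_lit 8) Steps.nil))))))))))))))) (nat_lit 106) (nat_lit 2),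
  Rule.mk (nat_lit 4) (nat_lit 314) (Steps.bwd (nat_lit 9) (Steps.bwd (nat_lit 4) (Steps.bwd (nat_lit 8) (Steps.bwd (nat_lit 4) (Steps.bwd (nat_lit 9) (Steps.fwd (nat_lit 1048576) (Steps.fwd (nat_lit 2359296) (Steps.fwd (nat_lit 1048576) (Steps.bwd (nat_lit 9) (Steps.fwd (nat_lit 1048576) (Steps.bwd (nat_lit 8) (Steps.fwd (nat_lit 1048576) (Steps.bwd (nat_lit 9) (Steps.fwd (nat_lit 1048576) (Steps.bwd (nat_lit 8) Steps.nil))))))))))))))) (nat_lit 106) (nat_lit 2),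
  Rule.mk (nat_lit 1) (nat_lit 154) (Steps.fwd (nat_lit 786432) (Steps.bwd (nat_lit 1) (Steps.fwd (nat_lit 524288) (Steps.fwd (nat_lit 262144) (Steps.bwd (nat_lit 2) (Steps.fwd (nat_lit 262144) (Steps.bwd (nat_lit 3) Steps.nil))))))) (nat_lit 68) (nat_lit 1),
  Rule.mk (nat_lit 1) (nat_lit 154) (Steps.fwd (nat_lit 786432) (Steps.fwd (nat_lit 262144) (Steps.fwd (nat_lit 1835008) (Steps.fwd (nat_lit 786432) (Steps.fwd (nat_lit 262144) (Steps.bwd (nat_lit 2) (Steps.fwd (nat_lit 1835008) Steps.nil))))))) (nat_lit 72) (nat_lit 1),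
  Rule.mk (nat_lit 4) (nat_lit 314) (Steps.bwd (nat_lit 8) (Steps.bwd (nat_lit 4) (Steps.fwd (nat_lit 2097152) (Steps.bwd (nat_lit 4) (Steps.fwd (nat_lit 2359296) (Steps.bwd (nat_lit 4) (Steps.bwd (nat_lit 9) (Steps.bwd (nat_lit 4) (Steps.bwd (nat_lit 8) (Steps.fwd (nat_lit 1048576) (Steps.fwd (nat_lit 2097152) (Steps.fwd (nat_lit 1048576) (Steps.fwd (nat_lit 2359296) (Steps.fwd (nat_lit 1048576) (Steps.bwd (nat_lit 9) Steps.nil))))))))))))))) (nat_lit 106) (nat_lit 0),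
  Rule.mk (nat_lit 4) (nat_lit 314) (Steps.bwd (nat_lit 9) (Steps.bwd (nat_lit 4) (Steps.bwd (nat_lit 8) (Steps.bwd (nat_lit 4) (Steps.bwd (nat_lit 9) (Steps.bwd (nat_lit 4) (Steps.fwd (nat_lit 2359296) (Steps.bwd (nat_lit 4) (Steps.bwd (nat_lit 9) (Steps.bwd (nat_lit 4) (Steps.fwd (nat_lit 2359296) (Steps.fwd (nat_lit 1048576) (Steps.bwd (nat_lit 9) (Steps.fwd (nat_lit 1048576) (Steps.bwd (nat_lit 8) Steps.nil))))))))))))))) (nat_lit 106) (nat_lit 2),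
  Rule.mk (nat_lit 8) (nat_lit 314) (Steps.bwd (nat_lit 4) (Steps.bwd (nat_lit 9) (Steps.bwd (nat_lit 4) (Steps.fwd (nat_lit 2359296) (Steps.bwd (nat_lit 4) (Steps.bwd (nat_lit 9) (Steps.bwd (nat_lit 4) (Steps.fwd (nat_lit 2359296) (Steps.bwd (nat_lit 4) (Steps.bwd (nat_lit 9) (Steps.fwd (nat_lit 1048576) (Steps.fwd (nat_lit 2359296) (Steps.fwd (nat_lit 1048576) (Steps.fwd (nat_lit 2097152) (Steps.fwd (nat_lit 1048576) Steps.nil))))))))))))))) (nat_lit 106) (nat_lit 1),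
  Rule.mk (nat_lit 9) (nat_lit 314) (Steps.bwd (nat_lit 4) (Steps.fwd (nat_lit 2359296) (Steps.bwd (nat_lit 4) (Steps.fwd (nat_lit 2097152) (Steps.fwd (nat_lit 1048576) (Steps.fwd (nat_lit 2359296) (Steps.bwd (nat_lit 4) (Steps.fwd (nat_lit 2097152) (Steps.fwd (nat_lit 1048576) (Steps.fwd (nat_lit 2359296) (Steps.fwd (nat_lit 1048576) (Steps.fwd (nat_lit 2097152) (Steps.fwd (nat_lit 1048576) (Steps.bwd (nat_lit 8) (Steps.fwd (nat_lit 1048576) Steps.nil))))))))))))))) (nat_lit 106) (nat_lit 3),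
  Rule.mk (nat_lit 9) (nat_lit 314) (Steps.bwd (nat_lit 4) (Steps.fwd (nat_lit 2359296) (Steps.bwd (nat_lit 4) (Steps.fwd (nat_lit 2097152) (Steps.bwd (nat_lit 4) (Steps.bwd (nat_lit 8) (Steps.fwd (nat_lit 1048576) (Steps.bwd (nat_lit 9) (Steps.bwd (nat_lit 4) (Steps.fwd (nat_lit 2359296) (Steps.fwd (nat_lit 1048576) (Steps.fwd (nat_lit 2097152) (Steps.fwd (nat_lit 1048576) (Steps.bwd (nat_lit 8) (Steps.fwd (nat_lit 1048576) Steps.nil))))))))))))))) (nat_lit 106) (nat_lit 3),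
  Rule.mk (nat_lit 9) (nat_lit 314) (Steps.bwd (nat_lit 4) (Steps.fwd (nat_lit 2359296) (Steps.bwd (nat_lit 4) (Steps.bwd (nat_lit 9) (Steps.bwd (nat_lit 4) (Steps.fwd (nat_lit 2359296) (Steps.bwd (nat_lit 4) (Steps.fwd (nat_lit 2097152) (Steps.fwd (nat_lit 1048576) (Steps.bwd (nat_lit 8) (Steps.fwd (nat_lit 1048576) (Steps.fwd (nat_lit 2097152) (Steps.fwd (nat_lit 1048576) (Steps.bwd (nat_lit 8) (Steps.fwd (nat_lit 1048576) Steps.nil))))))))))))))) (nat_lit 106) (nat_lit 3),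
  Rule.mk (nat_lit 8) (nat_lit 314) (Steps.bwd (nat_lit 4) (Steps.fwd (nat_lit 2097152) (Steps.bwd (nat_lit 4) (Steps.bwd (nat_lit 8) (Steps.fwd (nat_lit 1048576) (Steps.bwd (nat_lit 9) (Steps.fwd (nat_lit 1048576) (Steps.bwd (nat_lit 8) (Steps.bwd (nat_lit 4) (Steps.fwd (nat_lit 2097152) (Steps.fwd (nat_lit 1048576) (Steps.fwd (nat_lit 2359296) (Steps.fwd (nat_lit 1048576) (Steps.fwd (nat_lit 2097152) (Steps.fwd (nat_lit 1048576) Steps.nil))))))))))))))) (nat_lit 106) (nat_lit 1),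
  Rule.mk (nat_lit 8) (nat_lit 314) (Steps.bwd (nat_lit 4) (Steps.fwd (nat_lit 2097152) (Steps.bwd (nat_lit 4) (Steps.fwd (nat_lit 2359296) (Steps.bwd (nat_lit 4) (Steps.bwd (nat_lit 9) (Steps.fwd (nat_lit 1048576) (Steps.bwd (nat_lit 8) (Steps.fwd (nat_lit 1048576) (Steps.bwd (nat_lit 9) (Steps.bwd (nat_lit 4) (Steps.fwd (nat_lit 2359296) (Steps.fwd (nat_lit 1048576) (Steps.fwd (nat_lit 2097152) (Steps.fwd (nat_lit 1048576) Steps.nil))))))))))))))) (nat_lit 106) (nat_lit 1),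
  Rule.mk (nat_lit 8) (nat_lit 314) (Steps.bwd (nat_lit 4) (Steps.fwd (nat_lit 2097152) (Steps.bwd (nat_lit 4) (Steps.fwd (nat_lit 2359296) (Steps.fwd (nat_lit 1048576) (Steps.fwd (nat_lit 2097152) (Steps.fwd (nat_lit 1048576) (Steps.bwd (nat_lit 8) (Steps.bwd (nat_lit 4) (Steps.bwd (nat_lit 9) (Steps.fwd (nat_lit 1048576) (Steps.fwd (nat_lit 2359296) (Steps.fwd (nat_lit 1048576) (Steps.bwd (nat_lit 9) (Steps.fwd (nat_lit 1048576) Steps.nil))))))))))))))) (nat_lit 106) (nat_lit 1),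
  Rule.mk (nat_lit 9) (nat_lit 314) (Steps.bwd (nat_lit 4) (Steps.fwd (nat_lit 2359296) (Steps.bwd (nat_lit 4) (Steps.bwd (nat_lit 9) (Steps.fwd (nat_lit 1048576) (Steps.fwd (nat_lit 2359296) (Steps.bwd (nat_lit 4) (Steps.bwd (nat_lit 9) (Steps.bwd (nat_lit 4) (Steps.fwd (nat_lit 2359296) (Steps.fwd (nat_lit 1048576) (Steps.bwd (nat_lit 9) (Steps.fwd (nat_lit 1048576) (Steps.fwd (nat_lit 2359296) (Steps.fwd (nat_lit 1048576) Steps.nil))))))))))))))) (nat_lit 106) (nat_lit 3),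
  Rule.mk (nat_lit 9) (nat_lit 314) (Steps.bwd (nat_lit 4) (Steps.fwd (nat_lit 2359296) (Steps.bwd (nat_lit 4) (Steps.fwd (nat_lit 2097152) (Steps.fwd (nat_lit 1048576) (Steps.bwd (nat_lit 8) (Steps.fwd (nat_lit 1048576) (Steps.bwd (nat_lit 9) (Steps.bwd (nat_lit 4) (Steps.fwd (nat_lit 2359296) (Steps.bwd (nat_lit 4) (Steps.fwd (nat_lit 2097152) (Steps.fwd (nat_lit 1048576) (Steps.fwd (nat_lit 2359296) (Steps.fwd (nat_lit 1048576) Steps.nil))))))))))))))) (nat_lit 106) (nat_lit 3),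
  Rule.mk (nat_lit 8) (nat_lit 314) (Steps.bwd (nat_lit 4) (Steps.bwd (nat_lit 9) (Steps.bwd (nat_lit 4) (Steps.fwd (nat_lit 2359296) (Steps.fwd (nat_lit 1048576) (Steps.bwd (nat_lit 9) (Steps.fwd (nat_lit 1048576) (Steps.bwd (nat_lit 8) (Steps.bwd (nat_lit 4) (Steps.bwd (nat_lit 9) (Steps.bwd (nat_lit 4) (Steps.fwd (nat_lit 2359296) (Steps.fwd (nat_lit 1048576) (Steps.fwd (nat_lit 2097152) (Steps.fwd (nat_lit 1048576) Steps.nil))))))))))))))) (nat_lit 106) (nat_lit 1),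
  Rule.mk (nat_lit 9) (nat_lit 314) (Steps.bwd (nat_lit 4) (Steps.fwd (nat_lit 2359296) (Steps.bwd (nat_lit 4) (Steps.bwd (nat_lit 9) (Steps.fwd (nat_lit 1048576) (Steps.fwd (nat_lit 2359296) (Steps.fwd (nat_lit 1048576) (Steps.bwd (nat_lit 9) (Steps.bwd (nat_lit 4) (Steps.bwd (nat_lit 8) (Steps.bwd (nat_lit 4) (Steps.bwd (nat_lit 9) (Steps.fwd (nat_lit 1048576) (Steps.bwd (nat_lit 8) (Steps.fwd (nat_lit 1048576) Steps.nil))))))))))))))) (nat_lit 106) (nat_lit 3),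
  Rule.mk (nat_lit 8) (nat_lit 314) (Steps.bwd (nat_lit 4) (Steps.bwd (nat_lit 9) (Steps.bwd (nat_lit 4) (Steps.fwd (nat_lit 2359296) (Steps.bwd (nat_lit 4) (Steps.bwd (nat_lit 9) (Steps.bwd (nat_lit 4) (Steps.bwd (nat_lit 8) (Steps.bwd (nat_lit 4) (Steps.fwd (nat_lit 2097152) (Steps.bwd (nat_lit 4) (Steps.bwd (nat_lit 8) (Steps.fwd (nat_lit 1048576) (Steps.fwd (nat_lit 2097152) (Steps.fwd (nat_lit 1048576) Steps.nil))))))))))))))) (nat_lit 106) (nat_lit 1),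
  Rule.mk (nat_lit 8) (nat_lit 314) (Steps.bwd (nat_lit 4) (Steps.fwd (nat_lit 2097152) (Steps.bwd (nat_lit 4) (Steps.fwd (nat_lit 2359296) (Steps.bwd (nat_lit 4) (Steps.fwd (nat_lit 2097152) (Steps.fwd (nat_lit 1048576) (Steps.fwd (nat_lit 2359296) (Steps.fwd (nat_lit 1048576) (Steps.bwd (nat_lit 9) (Steps.fwd (nat_lit 1048576) (Steps.bwd (nat_lit 8) (Steps.fwd (nat_lit 1048576) (Steps.fwd (nat_lit 2097152) (Steps.fwd (nat_lit 1048576) Steps.nil))))))))))))))) (nat_lit 106) (nat_lit 1),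
  Rule.mk (nat_lit 9) (nat_lit 314) (Steps.bwd (nat_lit 4) (Steps.fwd (nat_lit 2359296) (Steps.bwd (nat_lit 4) (Steps.fwd (nat_lit 2097152) (Steps.fwd (nat_lit 1048576) (Steps.bwd (nat_lit 8) (Steps.fwd (nat_lit 1048576) (Steps.bwd (nat_lit 9) (Steps.bwd (nat_lit 4) (Steps.bwd (nat_lit 8) (Steps.fwd (nat_lit 1048576) (Steps.bwd (nat_lit 9) (Steps.fwd (nat_lit 1048576) (Steps.fwd (nat_lit 2359296) (Steps.fwd (nat_lit 1048576) Steps.nil))))))))))))))) (nat_lit 106) (nat_lit 3),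
  Rule.mk (nat_lit 8) (nat_lit 314) (Steps.bwd (nat_lit 4) (Steps.bwd (nat_lit 9) (Steps.bwd (nat_lit 4) (Steps.fwd (nat_lit 2359296) (Steps.fwd (nat_lit 1048576) (Steps.bwd (nat_lit 9) (Steps.fwd (nat_lit 1048576) (Steps.fwd (nat_lit 2359296) (Steps.fwd (nat_lit 1048576) (Steps.bwd (nat_lit 9) (Steps.bwd (nat_lit 4) (Steps.fwd (nat_lit 2359296) (Steps.fwd (nat_lit 1048576) (Steps.bwd (nat_lit 9) (Steps.fwd (nat_lit 1048576) Steps.nil))))))))))))))) (nat_lit 106) (nat_lit 1),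
  Rule.mk (nat_lit 9) (nat_lit 314) (Steps.bwd (nat_lit 4) (Steps.fwd (nat_lit 2359296) (Steps.bwd (nat_lit 4) (Steps.bwd (nat_lit 9) (Steps.fwd (nat_lit 1048576) (Steps.fwd (nat_lit 2359296) (Steps.bwd (nat_lit 4) (Steps.bwd (nat_lit 9) (Steps.fwd (nat_lit 1048576) (Steps.fwd (nat_lit 2359296) (Steps.bwd (nat_lit 4) (Steps.bwd (nat_lit 9) (Steps.fwd (nat_lit 1048576) (Steps.fwd (nat_lit 2359296) (Steps.fwd (nat_lit 1048576) Steps.nil))))))))))))))) (nat_lit 106) (nat_lit 3),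
  Rule.mk (nat_lit 8) (nat_lit 314) (Steps.bwd (nat_lit 4) (Steps.bwd (nat_lit 9) (Steps.bwd (nat_lit 4) (Steps.fwd (nat_lit 2359296) (Steps.bwd (nat_lit 4) (Steps.bwd (nat_lit 9) (Steps.fwd (nat_lit 1048576) (Steps.fwd (nat_lit 2359296) (Steps.bwd (nat_lit 4) (Steps.fwd (nat_lit 2097152) (Steps.fwd (nat_lit 1048576) (Steps.fwd (nat_lit 2359296) (Steps.fwd (nat_lit 1048576) (Steps.fwd (nat_lit 2097152) (Steps.fwd (nat_lit 1048576) Steps.nil))))))))))))))) (nat_lit 106) (nat_lit 1),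
  Rule.mk (nat_lit 4) (nat_lit 314) (Steps.bwd (nat_lit 9) (Steps.bwd (nat_lit 4) (Steps.bwd (nat_lit 8) (Steps.bwd (nat_lit 4) (Steps.fwd (nat_lit 2097152) (Steps.fwd (nat_lit 1048576) (Steps.bwd (nat_lit 8) (Steps.fwd (nat_lit 1048576) (Steps.fwd (nat_lit 2097152) (Steps.bwd (nat_lit 4) (Steps.fwd (nat_lit 2359296) (Steps.fwd (nat_lit 1048576) (Steps.bwd (nat_lit 9) (Steps.fwd (nat_lit 1048576) (Steps.bwd (nat_lit 8) Steps.nil))))))))))))))) (nat_lit 106) (nat_lit 2),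
  Rule.mk (nat_lit 4) (nat_lit 314) (Steps.bwd (nat_lit 8) (Steps.bwd (nat_lit 4) (Steps.fwd (nat_lit 2097152) (Steps.bwd (nat_lit 4) (Steps.fwd (nat_lit 2359296) (Steps.fwd (nat_lit 1048576) (Steps.fwd (nat_lit 2097152) (Steps.fwd (nat_lit 1048576) (Steps.fwd (nat_lit 2359296) (Steps.bwd (nat_lit 4) (Steps.bwd (nat_lit 9) (Steps.fwd (nat_lit 1048576) (Steps.bwd (nat_lit 8) (Steps.fwd (nat_lit 1048576) (Steps.bwd (nat_lit 9) Steps.nil))))))))))))))) (nat_lit 106) (nat_lit 0),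
  Rule.mk (nat_lit 1) (nat_lit 154) (Steps.bwd (nat_lit 2) (Steps.fwd (nat_lit 262144) (Steps.fwd (nat_lit 1310720) (Steps.bwd (nat_lit 2) (Steps.bwd (nat_lit 1) (Steps.bwd (nat_lit 2) (Steps.fwd (nat_lit 1310720) Steps.nil))))))) (nat_lit 70) (nat_lit 1),
  Rule.mk (nat_lit 4) (nat_lit 314) (Steps.bwd (nat_lit 8) (Steps.bwd (nat_lit 4) (Steps.fwd (nat_lit 2097152) (Steps.bwd (nat_lit 4) (Steps.fwd (nat_lit 2359296) (Steps.bwd (nat_lit 4) (Steps.bwd (nat_lit 9) (Steps.fwd (nat_lit 1048576) (Steps.fwd (nat_lit 2359296) (Steps.fwd (nat_lit 1048576) (Steps.bwd (nat_lit 9) (Steps.fwd (nat_lit 1048576) (Steps.bwd (nat_lit 8) (Steps.fwd (nat_lit 1048576) (Steps.fwd (nat_lit 2097152) Steps.nil))))))))))))))) (nat_lit 106) (nat_lit 0)]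
noncomputable def R : List (List (Rule)) := [R_0, R_1, R_2, R_3, R_4, R_5, R_6, R_7, R_8, R_9, R_10, R_11, R_12, R_13, R_14, R_15, R_16, R_17, R_18, R_19, R_20, R_21, R_22, R_23, R_24, R_25, R_26, R_27, R_28, R_29, R_30, R_31, R_32, R_33, R_34, R_35, R_36, R_37, R_38, R_39, R_40, R_41, R_42, R_43, R_44, R_45, R_46, R_47, R_48, R_49, R_50, R_51, R_52, R_53, R_54, R_55, R_56, R_57, R_58, R_59, R_60, R_61, R_62, R_63, R_64, R_65, R_66, R_67, R_68, R_69, R_70, R_71, R_72, R_73, R_74, R_75, R_76, R_77, R_78, R_79, R_80, R_81, R_82, R_83, R_84, R_85, R_86, R_87, R_88, R_89, R_90, R_91, R_92, R_93, R_94, R_95, R_96, R_97, R_98, R_99, R_100, R_101, R_102, R_103, R_104, R_105, R_106, R_107, R_108, R_109, R_110, R_111, R_112, R_113, R_114, R_115, R_116, R_117, R_118, R_119, R_120, R_121, R_122, R_123, R_124, R_125, R_126, R_127, R_128, R_129, R_130, R_131, R_132]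
def LW : List Word := [[], [0], [2], [3], [4], [6], [8], [10], [12], [13], [2], [3], [4], [5], [6], [7], [8], [9], [10], [11], [12], [13]]
def par : Par := ⟨18, 5, 23, 41, 262143, 8388607, 2199023255551⟩
theorem hpar : par.ok := by decide
theorem hR0_0 : lall (ltake (ltake (R) 57) 20) (fun l => lall l (ruleOK Rb0 LW par)) = true := by decide +kernel
theorem hR0_1 : lall (ltake (ldrop (ltake (R) 57) 20) 18) (fun l => lall l (ruleOK Rb0 LW par)) = true := by decide +kernel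
theorem hR0_2 : lall (ldrop (ldrop (ltake (R) 57) 20) 18) (fun l => lall l (ruleOK Rb0 LW par)) = true := by decide +kernel
theorem hR0_3 : lall (ltake (ltake (ldrop (R) 57) 41) 21) (fun l => lall l (ruleOK Rb0 LW par)) = true := by decide +kernel
theorem hR0_4 : lall (ldrop (ltake (ldrop (R) 57) 41) 21) (fun l => lall l (ruleOK Rb0 LW par)) = true := by decide +kernel
theorem hR0_5 : lall (ltake (ldrop (ldrop (R) 57) 41) 18) (fun l => lall l (ruleOK Rb0 LW par)) = true := by decide +kernel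
theorem hR0_6 : lall (ldrop (ldrop (ldrop (R) 57) 41) 18) (fun l => lall l (ruleOK Rb0 LW par)) = true := by decide +kernel
theorem hR0 : lall (R) (fun l => lall l (ruleOK Rb0 LW par)) = true := (lall_split 57 (lall_split 20 hR0_0 (lall_split 18 hR0_1 hR0_2)) (lall_split 41 (lall_split 21 hR0_3 hR0_4) (lall_split 18 hR0_5 hR0_6)))
theorem hR : RulesOK Rb0 LW par R := rulesOK_of rfl hR0
def cols : List (ℕ × ℕ) := [(262144, 1), (524288, 3), (1048576, 4), (1310720, 5), (1572864, 6), (1835008, 7), (2097152, 9)]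
theorem hcols : lall cols (colOK Rb0 LW par) = true := by decide +kernel
end
end CA.JKd
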