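import Cfsg.Agent.Lib.Comp.CTodd
set_option autoImplicit false
set_option linter.all false
set_option maxRecDepth 100000
universe u
namespace CA.JL16
open CA.CNet CA.CWord CA.CLevel CA.CSimple CA.CPoint CA.CTodd 
noncomputable section
def RL : List Word := [[0,0,0,0,0,0,0,0,0,0,0,0,0,0,0], [2,2], [4,4], [4,0,4,0], [4,2,4,2,4,2], [2,0,2,0,0,0,2,1,1,1,1], [2,0,2,1,2,0,2,1], [2,0,0,2,1,1,2,0,0,2,1,1], [2,0,0,0,2,1,1,1,2,0,0,0,2,1,1,1]]
namespace a
noncomputable def A_0 : List (ℕ) := [nat_lit 0x620e0720d06a0b0640a05a090540804a070440603a050340402a030240201a010140000a00]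
noncomputable def A : List (List (ℕ)) := [A_0]
noncomputable def K_0 : List (ℕ) := [nat_lit 0x436190b854261107834160903814060000]
noncomputable def K : List (List (ℕ)) := [K_0]
noncomputable def R_0 : List (Rule) := [Rule.mk (nat_lit 1) (nat_lit 127) (Steps.bwd (nat_lit 1) (Steps.bwd (nat_lit 1) (Steps.bwd (nat_lit 1) (Steps.bwd (nat_lit 1) (Steps.bwd (nat_lit 1) (Steps.bwd (nat_lit 1) (Steps.bwd (nat_lit 1) (Steps.bwd (nat_lit 1) (Steps.fwd (nat_lit 1024) (Steps.fwd (nat_lit 1024) (Steps.fwd (nat_lit 1024) (Steps.fwd (nat_lit 1024) (Steps.fwd (nat_lit 1024) (Steps.fwd (nat_lit 1024) Steps.nil)))))))))))))) (nat_lit 0) (nat_lit 0)]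
noncomputable def R : List (List (Rule)) := [R_0]
def LW : List Word := [[], [0], [1]]
def par : Par := ⟨9, 2, 11, 20, 511, 2047, 1048575⟩
theorem hpar : par.ok := by decide
theorem hR0_0 : lall (R) (fun l => lall l (ruleOK RL LW par)) = true := by decide +kernel
theorem hR0 : lall (R) (fun l => lall l (ruleOK RL LW par)) = true := hR0_0
theorem hR : RulesOK RL LW par R := rulesOK_of rfl hR0
def cols : List (ℕ × ℕ) := [(512, 2)]
theorem hcols : lall cols (colOK RL LW par) = true := by decide +kernel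
noncomputable def JS0 : List ℕ := [nat_lit 0x8080604028180d058240e050180401]
theorem S0_c : blocks (facts 9 2 11 20 511 2047 1048575 9 511 1 1 A R 32) 32 JS0 269 = true := by decide +kernel
theorem S0 : On (Step.{u} RL LW par A) 269 301 :=
  steps_of_blocks hpar hR S0_c (by decide +kernel)
theorem D0_c : allB (defOK 9 11 20 511 1048575 270 A K) 1 2 = true := by decide +kernel
theorem D0 : On (fun r => defOK par.W par.WL par.E par.mW par.mE 270 A K r = true) 256 384 :=
  On.of_allB D0_c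
noncomputable def JW0 : List ℕ := [nat_lit 0x3e10045108491184d1285113855148591585a]
theorem W0_c : blocks (rows 9 2 11 20 511 2047 1048575 10 1023 10 A 301 15 cols 128) 128 JW0 0 = true := by decide +kernel
theorem W0 : On (Row.{u} RL LW par A 301 15 cols) 0 128 :=
  rows_of_blocks hpar (by decide) hcols W0_c (by decide +kernel)
theorem idx : Idx.{u} RL [[0]] [] 15 :=
  idx_of_cert hpar hR (K := K) (by decide +kernel) (T := 270) (T' := 384) (by decide) D0
    (subs := []) (by decide +kernel) (T1 := 269) (by decide) (N := 301) S0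
    (by decide) (n' := 128) (by decide) W0 (by decide +kernel) (by decide +kernel)
end a
namespace b
noncomputable def A_0 : List (ℕ) := [nat_lit 0x720782883c12c1c0d60c0410681982c04c0a036070010003d8281480c0e20c0610403482c16412092050430201900c0a40e072040210100d0040440201600]
noncomputable def A : List (List (ℕ)) := [A_0]
noncomputable def K_0 : List (ℕ) := [nat_lit 0x87432150b84c3611078241a0b03814060000]
noncomputable def K : List (List (ℕ)) := [K_0]
noncomputable def R_0 : List (Rule) := [Rule.mk (nat_lit 3) (nat_lit 94) (Steps.bwd (nat_lit 1) (Steps.bwd (nat_lit 1) (Steps.bwd (nat_lit 1) (Steps.bwd (nat_lit 3) (Steps.fwd (nat_lit 512) (Steps.fwd (nat_lit 512) (Steps.fwd (nat_lit 512) (Steps.fwd (nat_lit 512) (Steps.fwd (nat_lit 1536) (Steps.fwd (nat_lit 1024) Steps.nil)))))))))) (nat_lit 10) (nat_lit 3),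
  Rule.mk (nat_lit 3) (nat_lit 67) (Steps.bwd (nat_lit 1) (Steps.fwd (nat_lit 1536) (Steps.bwd (nat_lit 2) (Steps.bwd (nat_lit 3) (Steps.bwd (nat_lit 1) (Steps.fwd (nat_lit 1536) (Steps.fwd (nat_lit 512) Steps.nil))))))) (nat_lit 12) (nat_lit 1),
  Rule.mk (nat_lit 3) (nat_lit 94) (Steps.bwd (nat_lit 1) (Steps.bwd (nat_lit 1) (Steps.bwd (nat_lit 1) (Steps.fwd (nat_lit 1536) (Steps.bwd (nat_lit 2) (Steps.fwd (nat_lit 512) (Steps.fwd (nat_lit 512) (Steps.fwd (nat_lit 512) (Steps.fwd (nat_lit 1536) (Steps.fwd (nat_lit 1024) Steps.nil)))))))))) (nat_lit 10) (nat_lit 3),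
  Rule.mk (nat_lit 1) (nat_lit 94) (Steps.bwd (nat_lit 1) (Steps.bwd (nat_lit 1) (Steps.bwd (nat_lit 1) (Steps.fwd (nat_lit 1536) (Steps.fwd (nat_lit 512) (Steps.fwd (nat_lit 512) (Steps.fwd (nat_lit 512) (Steps.fwd (nat_lit 1536) (Steps.fwd (nat_lit 512) (Steps.fwd (nat_lit 1536) Steps.nil)))))))))) (nat_lit 11) (nat_lit 1),
  Rule.mk (nat_lit 3) (nat_lit 67) (Steps.bwd (nat_lit 1) (Steps.bwd (nat_lit 3) (Steps.fwd (nat_lit 512) (Steps.fwd (nat_lit 1536) (Steps.fwd (nat_lit 1024) (Steps.bwd (nat_lit 3) (Steps.fwd (nat_lit 512) Steps.nil))))))) (nat_lit 12) (nat_lit 1),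
  Rule.mk (nat_lit 3) (nat_lit 67) (Steps.bwd (nat_lit 1) (Steps.fwd (nat_lit 1536) (Steps.fwd (nat_lit 512) (Steps.bwd (nat_lit 3) (Steps.bwd (nat_lit 1) (Steps.bwd (nat_lit 3) (Steps.fwd (nat_lit 512) Steps.nil))))))) (nat_lit 12) (nat_lit 1),
  Rule.mk (nat_lit 1) (nat_lit 94) (Steps.bwd (nat_lit 3) (Steps.bwd (nat_lit 2) (Steps.bwd (nat_lit 2) (Steps.bwd (nat_lit 2) (Steps.fwd (nat_lit 512) (Steps.bwd (nat_lit 3) (Steps.bwd (nat_lit 1) (Steps.fwd (nat_lit 1536) (Steps.fwd (nat_lit 1024) (Steps.fwd (nat_lit 1024) Steps.nil)))))))))) (nat_lit 10) (nat_lit 6),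
  Rule.mk (nat_lit 2) (nat_lit 94) (Steps.bwd (nat_lit 3) (Steps.bwd (nat_lit 2) (Steps.bwd (nat_lit 3) (Steps.bwd (nat_lit 1) (Steps.bwd (nat_lit 1) (Steps.bwd (nat_lit 1) (Steps.bwd (nat_lit 1) (Steps.fwd (nat_lit 1536) (Steps.fwd (nat_lit 512) (Steps.fwd (nat_lit 512) Steps.nil)))))))))) (nat_lit 11) (nat_lit 8)]
noncomputable def R : List (List (Rule)) := [R_0]
def LW : List Word := [[], [0], [1], [2], [0], [1]]
def par : Par := ⟨9, 3, 12, 21, 511, 4095, 2097151⟩
theorem hpar : par.ok := by decide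
theorem hR0_0 : lall (R) (fun l => lall l (ruleOK RL LW par)) = true := by decide +kernel
theorem hR0 : lall (R) (fun l => lall l (ruleOK RL LW par)) = true := hR0_0
theorem hR : RulesOK RL LW par R := rulesOK_of rfl hR0
def cols : List (ℕ × ℕ) := [(512, 2), (1536, 3)]
theorem hcols : lall cols (colOK RL LW par) = true := by decide +kernel
noncomputable def JS0 : List ℕ := [nat_lit 0x28160f090441c0d02024110080781420040a04c1e0803b83006110680400086048041a030783010a0b078041a0e07804140904202c020d070401e01060241060f08004200e0002c81a0f00000000007838180b1]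
theorem S0_c : blocks (facts 9 3 12 21 511 4095 2097151 9 511 4 15 A R 32) 32 JS0 271 = true := by decide +kernel
theorem S0 : On (Step.{u} RL LW par A) 271 303 :=
  steps_of_blocks hpar hR S0_c (by decide +kernel)
theorem D0_c : allB (defOK 9 12 21 511 2097151 271 A K) 1 2 = true := by decide +kernel
theorem D0 : On (fun r => defOK par.W par.WL par.E par.mW par.mE 271 A K r = true) 256 384 :=
  On.of_allB D0_c
noncomputable def JW0 : List ℕ := [nat_lit 0x10c320d0310dc380d8460e84a108450d44c144480f8540ec530f04e140560fc5b0f45817c5c17840]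
theorem W0_c : blocks (rows 9 3 12 21 511 4095 2097151 10 1023 20 A 303 16 cols 64) 64 JW0 0 = true := by decide +kernel
theorem W0 : On (Row.{u} RL LW par A 303 16 cols) 0 64 :=
  rows_of_blocks hpar (by decide) hcols W0_c (by decide +kernel)
theorem idx : Idx.{u} RL [[0], [2]] [[0]] 16 :=
  idx_of_cert hpar hR (K := K) (by decide +kernel) (T := 271) (T' := 384) (by decide) D0
    (subs := [1]) (by decide +kernel) (T1 := 271) (by decide) (N := 303) S0
    (by decide) (n' := 64) (by decide) W0 (by decide +kernel) (by decide +kernel)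
end b
namespace c
noncomputable def A_0 : List (ℕ) := [nat_lit 0x1e8090490381e60e06a038146100520401220f0398341820b03202c0e20c02081c066060218200420401200802201001800002000710402040b0788341a20a050818126050598301880803a0140c2080408140a20302200c0620201180402800]
noncomputable def A : List (List (ℕ)) := [A_0]
noncomputable def K_0 : List (ℕ) := [nat_lit 0x10e86c3e190884c2e150583c1a0903814060000]
noncomputable def K : List (List (ℕ)) := [K_0]
noncomputable def R_0 : List (Rule) := [Rule.mk (nat_lit 1) (nat_lit 31) (Steps.bwd (nat_lit 4) (Steps.bwd (nat_lit 1) (Steps.fwd (nat_lit 2048) Steps.nil))) (nat_lit 6) (nat_lit 0),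
  Rule.mk (nat_lit 4) (nat_lit 49) (Steps.bwd (nat_lit 3) (Steps.bwd (nat_lit 4) (Steps.fwd (nat_lit 1536) (Steps.fwd (nat_lit 2048) (Steps.fwd (nat_lit 1536) Steps.nil))))) (nat_lit 8) (nat_lit 1),
  Rule.mk (nat_lit 3) (nat_lit 94) (Steps.bwd (nat_lit 1) (Steps.bwd (nat_lit 1) (Steps.bwd (nat_lit 1) (Steps.bwd (nat_lit 3) (Steps.fwd (nat_lit 512) (Steps.fwd (nat_lit 512) (Steps.fwd (nat_lit 512) (Steps.fwd (nat_lit 512) (Steps.fwd (nat_lit 1536) (Steps.bwd (nat_lit 1) Steps.nil)))))))))) (nat_lit 10) (nat_lit 3),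
  Rule.mk (nat_lit 3) (nat_lit 67) (Steps.bwd (nat_lit 1) (Steps.fwd (nat_lit 1536) (Steps.fwd (nat_lit 512) (Steps.bwd (nat_lit 3) (Steps.bwd (nat_lit 1) (Steps.fwd (nat_lit 1536) (Steps.fwd (nat_lit 512) Steps.nil))))))) (nat_lit 12) (nat_lit 1),
  Rule.mk (nat_lit 4) (nat_lit 49) (Steps.bwd (nat_lit 3) (Steps.bwd (nat_lit 4) (Steps.fwd (nat_lit 1536) (Steps.bwd (nat_lit 4) (Steps.bwd (nat_lit 3) Steps.nil))))) (nat_lit 8) (nat_lit 1),
  Rule.mk (nat_lit 1) (nat_lit 94) (Steps.bwd (nat_lit 3) (Steps.fwd (nat_lit 512) (Steps.fwd (nat_lit 512) (Steps.fwd (nat_lit 512) (Steps.fwd (nat_lit 512) (Steps.bwd (nat_lit 3) (Steps.bwd (nat_lit 1) (Steps.fwd (nat_lit 1536) (Steps.bwd (nat_lit 1) (Steps.bwd (nat_lit 1) Steps.nil)))))))))) (nat_lit 10) (nat_lit 6),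
  Rule.mk (nat_lit 3) (nat_lit 94) (Steps.bwd (nat_lit 1) (Steps.bwd (nat_lit 1) (Steps.bwd (nat_lit 1) (Steps.fwd (nat_lit 1536) (Steps.fwd (nat_lit 512) (Steps.fwd (nat_lit 512) (Steps.fwd (nat_lit 512) (Steps.fwd (nat_lit 512) (Steps.fwd (nat_lit 1536) (Steps.bwd (nat_lit 1) Steps.nil)))))))))) (nat_lit 10) (nat_lit 3),
  Rule.mk (nat_lit 1) (nat_lit 94) (Steps.bwd (nat_lit 1) (Steps.bwd (nat_lit 1) (Steps.bwd (nat_lit 1) (Steps.fwd (nat_lit 1536) (Steps.fwd (nat_lit 512) (Steps.fwd (nat_lit 512) (Steps.fwd (nat_lit 512) (Steps.fwd (nat_lit 1536) (Steps.fwd (nat_lit 512) (Steps.fwd (nat_lit 1536) Steps.nil)))))))))) (nat_lit 11) (nat_lit 1),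
  Rule.mk (nat_lit 4) (nat_lit 31) (Steps.bwd (nat_lit 2) (Steps.fwd (nat_lit 2048) (Steps.fwd (nat_lit 512) Steps.nil))) (nat_lit 7) (nat_lit 0),
  Rule.mk (nat_lit 3) (nat_lit 67) (Steps.bwd (nat_lit 2) (Steps.bwd (nat_lit 3) (Steps.bwd (nat_lit 1) (Steps.bwd (nat_lit 3) (Steps.fwd (nat_lit 512) (Steps.bwd (nat_lit 3) (Steps.bwd (nat_lit 1) Steps.nil))))))) (nat_lit 12) (nat_lit 3),
  Rule.mk (nat_lit 3) (nat_lit 67) (Steps.bwd (nat_lit 2) (Steps.fwd (nat_lit 1536) (Steps.bwd (nat_lit 1) (Steps.fwd (nat_lit 1536) (Steps.fwd (nat_lit 512) (Steps.fwd (nat_lit 1536) (Steps.bwd (nat_lit 1) Steps.nil))))))) (nat_lit 12) (nat_lit 3),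
  Rule.mk (nat_lit 2) (nat_lit 94) (Steps.bwd (nat_lit 2) (Steps.fwd (nat_lit 1536) (Steps.bwd (nat_lit 1) (Steps.fwd (nat_lit 1536) (Steps.bwd (nat_lit 1) (Steps.bwd (nat_lit 1) (Steps.bwd (nat_lit 1) (Steps.bwd (nat_lit 3) (Steps.fwd (nat_lit 512) (Steps.fwd (nat_lit 512) Steps.nil)))))))))) (nat_lit 10) (nat_lit 10)]
noncomputable def R : List (List (Rule)) := [R_0]
def LW : List Word := [[], [0], [1], [2], [4], [0], [1], [2], [3]]
def par : Par := ⟨9, 4, 13, 22, 511, 8191, 4194303⟩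
theorem hpar : par.ok := by decide
theorem hR0_0 : lall (R) (fun l => lall l (ruleOK RL LW par)) = true := by decide +kernel
theorem hR0 : lall (R) (fun l => lall l (ruleOK RL LW par)) = true := hR0_0
theorem hR : RulesOK RL LW par R := rulesOK_of rfl hR0
def cols : List (ℕ × ℕ) := [(512, 2), (1536, 3), (2048, 4)]
theorem hcols : lall cols (colOK RL LW par) = true := by decide +kernel
noncomputable def JS0 : List ℕ := [nat_lit 0x28020048102605048303c0a0a808238030a86c121400842c240107c84404050a00c280fa0880c1d2110b8142a160b814200f07400c0a150b0600c050a03c1ce010101026030b81404010830082a030803d4201207884c240f1098500614008001e8000980804020104c24100798002210108848021208904402111]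
theorem S0_c : blocks (facts 9 4 13 22 511 8191 4194303 9 511 4 15 A R 32) 32 JS0 273 = true := by decide +kernel
theorem S0 : On (Step.{u} RL LW par A) 273 305 :=
  steps_of_blocks hpar hR S0_c (by decide +kernel)
theorem D0_c : allB (defOK 9 13 22 511 4194303 272 A K) 1 2 = true := by decide +kernel
theorem D0 : On (fun r => defOK par.W par.WL par.E par.mW par.mE 272 A K r = true) 256 384 :=
  On.of_allB D0_c
noncomputable def JW0 : List ℕ := [nat_lit 0x280984707c230a824088450942c12053140320c0510b82909c4a0784f084520e0561542d0d0310d84c1504e1605d0e43a170371683c1845e18c600f86210042]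
theorem W0_c : blocks (rows 9 4 13 22 511 8191 4194303 10 1023 30 A 305 17 cols 42) 42 JW0 0 = true := by decide +kernel
theorem W0 : On (Row.{u} RL LW par A 305 17 cols) 0 42 :=
  rows_of_blocks hpar (by decide) hcols W0_c (by decide +kernel)
theorem idx : Idx.{u} RL [[0], [2], [4]] [[0], [2]] 17 :=
  idx_of_cert hpar hR (K := K) (by decide +kernel) (T := 272) (T' := 384) (by decide) D0
    (subs := [1,3]) (by decide +kernel) (T1 := 273) (by decide) (N := 305) S0
    (by decide) (n' := 42) (by decide) W0 (by decide +kernel) (by decide +kernel)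
end c
end
end CA.JL16
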