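import Cfsg.Agent.Lib.Comp.CTodd
set_option autoImplicit false
set_option linter.all false
set_option maxRecDepth 100000
universe u
namespace CA.MwT
open CA.CNet CA.CWord CA.CLevel CA.CSimple CA.CPoint CA.CTodd 
noncomputable section
def RM : List Word := [[0,0], [4,4], [6,6], [8,8], [10,10], [2,2,2], [0,3,10,2], [2,6,2,6], [0,2,0,10,3], [0,4,6,0,6], [4,8,10,4,10]]
def Rr : List Word := [[12,12,12], [12,0,13,0], [12,8,13,4], [12,4,13,4,8], [10,12,10,12], [12,2,4,3,13,8,4,6], [12,6,13,0,2,4,3,6]]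
def Rg : List Word := [[14,14], [14,0,14,0], [14,10,14,10], [14,12,14,13], [14,10,8,14,10,8,14,10,8], [2,14,10,8,3,8,10,14]]
def wy : Word := [2,12,2,12,2,12]
def gM : List Word := [[0], [2], [4], [6], [8], [10]]
def gR : List Word := [[0], [2], [4], [6], [8], [10], [12]]
def gG : List Word := [[0], [2], [4], [6], [8], [10], [12], [14]]
def Rf : List Word := [[0,0], [4,4], [6,6], [8,8], [10,10], [2,2,2], [0,3,10,2], [2,6,2,6], [0,2,0,10,3], [0,4,6,0,6], [4,8,10,4,10], [12,12,12], [12,0,13,0], [12,8,13,4], [12,4,13,4,8], [10,12,10,12], [12,2,4,3,13,8,4,6], [12,6,13,0,2,4,3,6], [14,14], [14,0,14,0], [14,10,14,10], [14,12,14,13], [14,10,8,14,10,8,14,10,8], [2,14,10,8,3,8,10,14]]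
def Rc0 : List Word := [[0,0], [4,4], [6,6], [8,8], [10,10], [2,2,2], [0,3,10,2], [2,6,2,6], [0,2,0,10,3], [0,4,6,0,6], [4,8,10,4,10], [12,12,12], [12,0,13,0], [12,8,13,4], [12,4,13,4,8], [10,12,10,12], [12,2,4,3,13,8,4,6], [12,6,13,0,2,4,3,6], [2,12,2,12,2,12,8,13,3,13,3,13,3,8,2,12,2,12,2,12,8,13,3,13,3,13,3,8]]
def Rc1 : List Word := [[0,0], [4,4], [6,6], [8,8], [10,10], [2,2,2], [0,3,10,2], [2,6,2,6], [0,2,0,10,3], [0,4,6,0,6], [4,8,10,4,10], [12,12,12], [12,0,13,0], [12,8,13,4], [12,4,13,4,8], [10,12,10,12], [12,2,4,3,13,8,4,6], [12,6,13,0,2,4,3,6], [2,12,2,12,2,12,8,13,3,13,3,13,3,4,2,12,2,12,2,12,8,13,3,13,3,13,3,4]]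
def Rc2 : List Word := [[0,0], [4,4], [6,6], [8,8], [10,10], [2,2,2], [0,3,10,2], [2,6,2,6], [0,2,0,10,3], [0,4,6,0,6], [4,8,10,4,10], [12,12,12], [12,0,13,0], [12,8,13,4], [12,4,13,4,8], [10,12,10,12], [12,2,4,3,13,8,4,6], [12,6,13,0,2,4,3,6], [2,12,2,12,2,12,8,13,3,13,3,13,3,8,4,2,12,2,12,2,12,8,13,3,13,3,13,3,8,4]]
namespace m
noncomputable def A_0 : List (ℕ) := [nat_lit 0x3dd5486093c37842078210340d01f07c0dc3e04e1b166180360c0158562fe0c06e1782b8b1490961724b36c53132a9c2f0986daa40b4249ce924e144c278700b5251349b449cda5546d139399ef9cc33caa0be2e35b171449ec9bcd617a4d0ca2686105c0883027e5104d1382d89c114481c80b00d05812864084140aa1c015080518400ac280321204f0901d048104400ee20007038078342cc1a0220e01f0b00100c10c12016084df50a551803bcb659a2b4013c1e30a8548525362c573532852d8ee8728768c412191710788fc28b22a050358a7c9188cc761523f241142c12ed7695ea2eaa4f22e9d19b17c8f4ad6a82930d192a94624caa5e4a442408d503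c1f004112341a6070c9178759209088542b3f24ba351b86e3be9119f430dfa391ccca4563c1e12c161870524ac56c633193b1da1bd625229167c3e12d96e154d2516b327d5195e2f21f4fb9188b84020209a5fa7527d3275e411ff140a21c4e24883d2132270984e00c7c4844269a4b14e19a8c09c4fe7f8992094ca652753a5289488c2d10f07a174bc5188c6843d12e9752d0a89502da0c2f9128960e508472394894491b0daa050317abf2af57c603032d8450ca65c575c2432191c0de56eb7672397131b8a28868988aabd5ea53adb9811f0d86cc245a45cae4a69309346769c4e3351a0ab15890683e611c71198488c474d46a8243174d26a2a15189aba8b55ab301e4980c10ae7e2572bb552a8aad570a2502a954c2793d86c43c341ac040fc0d86c8b061c562b80c066008be0b058c964baa653153a9e13498548a46492491309a024e04944a87336a399cd154aa45c2e67b3db359ac8909a8a2174040c5289450644ec482460b0590c8660143840a0a801036000418142940605a00024000490804080e0720d06b070398582c4120340204b008238080480001200,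
  nat_lit 0x42d1a0d10bcbfc68838341062fa0f0c8c39083280e1d5192138c9638b058e3a0f21d0e88406707485c3358f482408ed20cb683a90469428e2a357e91a8d4ab5534915d249254ac8ec921e4490ee2342187691c3c0841b8ce8386e4664a63340a1ba3a244c751c8628e49e5b9ff12d3394863e7f10b319d90ac838984ee763ae3793b05c530ea5689316e0596b1f0f585c54c190f62d9771540bc3c1ce5a1e32d169915274784583e22d1e85091421c7829a5814e3b05f8a414c525664f2b20d92f9596f0c6b1a7643458adea445d0f8bca7c59d2d9a72252f0d267a6959f349a19a4468d2b3c5e51c59ab1acd0696665a21115038f9088cc444626225ee4c1e71993117e22e675b633abe19cce180afa9745d5fa2d8e0a0d167d6613ea548ba9f5474aaa3c9d37751925a8d48946bc6b75e2392532f115d788be7d1b6459032292e48098a404a720105100dd92e7549738b4b8f524cea5269469338a3a84b0fce507e09c2838e130f79c47b8e41283d4a21e911a74938889964409a2090f04c85426148421f50925b8f8c487c9ce424c321199a597292c66e985cb330848c060cfe4e41a20c272a2939734fe9aa415a54c97a274bb53a5aa9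43d42d17a87913cbc36e8c3d5461eb8b574cf454e5d1590d152869505682d2543631681883018c4a5f41f4242fad697cd944a6c2ba5d54223e8e4dd112b6a894541b2ff20570502bfe7e55a5fae32bcafd5e22ec0306112e39957116c6eab83825c1bea18de8dc4ce6f13237a93adc864e42666e24f21a2910c98914b62bd3cf5ea3dad91e56a6ac8f53747ad39b0db968b9ca63575c99ca60d4cce68a9c3475488d9a0a1d58382832821c185aa4410c26ba61044119889a8c5440b5c6235c3129f26975d506bcba53f5a9e5298fd0f22ca790fd3007c8bc5f4fc1ba573dc5513eaa8a155618850,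
  nat_lit 0x4dd2190b26c8d136a749b4a94daf5a6c7d92a9589f1fd4aabba556a92a1da0602e0e9520748c83a5921d1db0e967070b3cf82d85958b2ca81165018a6ac8804b54014ba00fed00304805053c1e18acf08ec64e783443c21f2a4ef8d064c4f1543b94c8a88f4544fe2a052150d71410595852c1829c4106394d5d4a64b6534b6572ba1714255c796ae4e650a8611cef5428f4a14113ba1f9dd128ee878645f5438d4a1d08d0e5ca821af41179208b99644725c22f2e0e91714188e584470e3238531188b93eb28965044e2b2ac9648b69feb24825911ba813e8f872a9f48a4f8569182b806158432470a8458540c82a48c162242428a92068c902f448436582c21612456075ab042f582bd2c0e1976bb8745115d9c6aed57d764aca24f451215288fcd449ec730fa1f8fd17c4ac500c4281453a1d0a788953cbee9e5a24f1d309d5bce82d6743de5f2fa2955a57cba4be28e56ab6220a555a546ad2941a9909489cca46366410a320c71f8cd0620da3140f188cd8c494862a546555652a392951054a88cab1ad441c3a206e9103643507a1b0e303c73c1e37a0f191078970207384611e2508e010e20447742206611]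
noncomputable def A : List (List (ℕ)) := [A_0]
noncomputable def K_0 : List (ℕ) := [nat_lit 0x15aae6969f82d4cf29557aa53a774bc26c313aaadedf49459acda673d9349f4124c1ea36dafd769edb47dfcfadd49bf5cf7d6cbee5b1198a6e472b68c0542bf9fda55b2f61a26cebbbbb84e303878dd9e75badae2af9a68f54ef321aad4a3f4c8d5030b46a45cab1a2c5cfe8539b1da6cdb2c35af798e9be323b65dc68e2d34995c633259448247abd8eb72177a8dd2df7fbddd6f18fca666c143c957b3d9bc9e6b432d95472c929966e71b7a8ac8ac514a0d66630997dab7b11974c225178c417590dbb42b390ecec1a0f2b89c4207028443e190b824060000]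
noncomputable def K : List (List (ℕ)) := [K_0]
noncomputable def R_0 : List (Rule) := [Rule.mk (nat_lit 3) (nat_lit 38) (Steps.bwd (nat_lit 7) (Steps.bwd (nat_lit 2) (Steps.fwd (nat_lit 512) Steps.nil))) (nat_lit 12) (nat_lit 2),
  Rule.mk (nat_lit 3) (nat_lit 28) (Steps.bwd (nat_lit 3) (Steps.bwd (nat_lit 3) Steps.nil)) (nat_lit 11) (nat_lit 0),
  Rule.mk (nat_lit 2) (nat_lit 28) (Steps.bwd (nat_lit 2) (Steps.bwd (nat_lit 2) Steps.nil)) (nat_lit 10) (nat_lit 0),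
  Rule.mk (nat_lit 7) (nat_lit 48) (Steps.bwd (nat_lit 1) (Steps.bwd (nat_lit 3) (Steps.bwd (nat_lit 1) (Steps.bwd (nat_lit 2) Steps.nil)))) (nat_lit 17) (nat_lit 2),
  Rule.mk (nat_lit 1) (nat_lit 38) (Steps.bwd (nat_lit 3) (Steps.fwd (nat_lit 3584) (Steps.bwd (nat_lit 2) Steps.nil))) (nat_lit 12) (nat_lit 1),
  Rule.mk (nat_lit 7) (nat_lit 48) (Steps.bwd (nat_lit 3) (Steps.fwd (nat_lit 512) (Steps.bwd (nat_lit 2) (Steps.fwd (nat_lit 512) Steps.nil)))) (nat_lit 16) (nat_lit 4),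
  Rule.mk (nat_lit 7) (nat_lit 48) (Steps.bwd (nat_lit 1) (Steps.bwd (nat_lit 3) (Steps.fwd (nat_lit 512) (Steps.bwd (nat_lit 2) Steps.nil)))) (nat_lit 17) (nat_lit 2),
  Rule.mk (nat_lit 7) (nat_lit 38) (Steps.bwd (nat_lit 2) (Steps.bwd (nat_lit 1) (Steps.bwd (nat_lit 3) Steps.nil))) (nat_lit 12) (nat_lit 3),
  Rule.mk (nat_lit 1) (nat_lit 48) (Steps.bwd (nat_lit 2) (Steps.bwd (nat_lit 1) (Steps.fwd (nat_lit 3584) (Steps.bwd (nat_lit 3) Steps.nil)))) (nat_lit 16) (nat_lit 1),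
  Rule.mk (nat_lit 7) (nat_lit 38) (Steps.bwd (nat_lit 2) (Steps.fwd (nat_lit 512) (Steps.bwd (nat_lit 3) Steps.nil))) (nat_lit 12) (nat_lit 3),
  Rule.mk (nat_lit 1) (nat_lit 48) (Steps.bwd (nat_lit 2) (Steps.fwd (nat_lit 512) (Steps.bwd (nat_lit 7) (Steps.fwd (nat_lit 1024) Steps.nil)))) (nat_lit 16) (nat_lit 1),
  Rule.mk (nat_lit 3) (nat_lit 38) (Steps.bwd (nat_lit 5) (Steps.fwd (nat_lit 1024) (Steps.fwd (nat_lit 2560) Steps.nil))) (nat_lit 15) (nat_lit 0),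
  Rule.mk (nat_lit 5) (nat_lit 38) (Steps.bwd (nat_lit 3) (Steps.bwd (nat_lit 5) (Steps.fwd (nat_lit 1024) Steps.nil))) (nat_lit 15) (nat_lit 1),
  Rule.mk (nat_lit 5) (nat_lit 48) (Steps.bwd (nat_lit 1) (Steps.bwd (nat_lit 5) (Steps.fwd (nat_lit 512) (Steps.fwd (nat_lit 2048) Steps.nil)))) (nat_lit 18) (nat_lit 3),
  Rule.mk (nat_lit 1) (nat_lit 48) (Steps.bwd (nat_lit 5) (Steps.bwd (nat_lit 1) (Steps.bwd (nat_lit 5) (Steps.fwd (nat_lit 2048) Steps.nil)))) (nat_lit 19) (nat_lit 0),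
  Rule.mk (nat_lit 5) (nat_lit 48) (Steps.bwd (nat_lit 4) (Steps.fwd (nat_lit 512) (Steps.fwd (nat_lit 2560) (Steps.fwd (nat_lit 512) Steps.nil)))) (nat_lit 19) (nat_lit 3),
  Rule.mk (nat_lit 5) (nat_lit 48) (Steps.bwd (nat_lit 1) (Steps.fwd (nat_lit 2560) (Steps.bwd (nat_lit 1) (Steps.bwd (nat_lit 4) Steps.nil)))) (nat_lit 18) (nat_lit 3),
  Rule.mk (nat_lit 4) (nat_lit 48) (Steps.bwd (nat_lit 1) (Steps.fwd (nat_lit 2560) (Steps.bwd (nat_lit 1) (Steps.bwd (nat_lit 5) Steps.nil)))) (nat_lit 19) (nat_lit 4),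
  Rule.mk (nat_lit 5) (nat_lit 38) (Steps.bwd (nat_lit 3) (Steps.fwd (nat_lit 2560) (Steps.bwd (nat_lit 3) Steps.nil))) (nat_lit 15) (nat_lit 1),
  Rule.mk (nat_lit 2) (nat_lit 38) (Steps.bwd (nat_lit 5) (Steps.bwd (nat_lit 2) (Steps.fwd (nat_lit 2560) Steps.nil))) (nat_lit 14) (nat_lit 1),
  Rule.mk (nat_lit 5) (nat_lit 38) (Steps.bwd (nat_lit 2) (Steps.fwd (nat_lit 2560) (Steps.bwd (nat_lit 2) Steps.nil))) (nat_lit 14) (nat_lit 0),
  Rule.mk (nat_lit 5) (nat_lit 48) (Steps.bwd (nat_lit 4) (Steps.fwd (nat_lit 512) (Steps.bwd (nat_lit 5) (Steps.fwd (nat_lit 512) Steps.nil)))) (nat_lit 19) (nat_lit 3),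
  Rule.mk (nat_lit 4) (nat_lit 48) (Steps.bwd (nat_lit 1) (Steps.fwd (nat_lit 2560) (Steps.bwd (nat_lit 1) (Steps.fwd (nat_lit 2560) Steps.nil)))) (nat_lit 19) (nat_lit 4),
  Rule.mk (nat_lit 5) (nat_lit 38) (Steps.bwd (nat_lit 3) (Steps.fwd (nat_lit 2560) (Steps.fwd (nat_lit 1024) Steps.nil))) (nat_lit 15) (nat_lit 1),
  Rule.mk (nat_lit 4) (nat_lit 48) (Steps.bwd (nat_lit 1) (Steps.fwd (nat_lit 2560) (Steps.fwd (nat_lit 512) (Steps.fwd (nat_lit 2560) Steps.nil)))) (nat_lit 19) (nat_lit 4),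
  Rule.mk (nat_lit 5) (nat_lit 48) (Steps.bwd (nat_lit 4) (Steps.bwd (nat_lit 1) (Steps.bwd (nat_lit 5) (Steps.fwd (nat_lit 512) Steps.nil)))) (nat_lit 19) (nat_lit 3),
  Rule.mk (nat_lit 1) (nat_lit 48) (Steps.bwd (nat_lit 5) (Steps.bwd (nat_lit 1) (Steps.bwd (nat_lit 4) (Steps.fwd (nat_lit 2560) Steps.nil)))) (nat_lit 18) (nat_lit 4),
  Rule.mk (nat_lit 4) (nat_lit 48) (Steps.bwd (nat_lit 5) (Steps.bwd (nat_lit 1) (Steps.fwd (nat_lit 2560) (Steps.bwd (nat_lit 1) Steps.nil)))) (nat_lit 18) (nat_lit 2),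
  Rule.mk (nat_lit 7) (nat_lit 48) (Steps.bwd (nat_lit 3) (Steps.fwd (nat_lit 512) (Steps.bwd (nat_lit 2) (Steps.bwd (nat_lit 1) Steps.nil)))) (nat_lit 16) (nat_lit 4),
  Rule.mk (nat_lit 6) (nat_lit 48) (Steps.bwd (nat_lit 4) (Steps.fwd (nat_lit 3584) (Steps.bwd (nat_lit 4) (Steps.bwd (nat_lit 7) Steps.nil)))) (nat_lit 21) (nat_lit 4),
  Rule.mk (nat_lit 7) (nat_lit 48) (Steps.bwd (nat_lit 6) (Steps.fwd (nat_lit 2048) (Steps.bwd (nat_lit 7) (Steps.fwd (nat_lit 2048) Steps.nil)))) (nat_lit 21) (nat_lit 3),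
  Rule.mk (nat_lit 6) (nat_lit 48) (Steps.bwd (nat_lit 4) (Steps.fwd (nat_lit 3584) (Steps.bwd (nat_lit 4) (Steps.fwd (nat_lit 3584) Steps.nil)))) (nat_lit 21) (nat_lit 4),
  Rule.mk (nat_lit 4) (nat_lit 48) (Steps.bwd (nat_lit 7) (Steps.bwd (nat_lit 4) (Steps.bwd (nat_lit 6) (Steps.bwd (nat_lit 7) Steps.nil)))) (nat_lit 20) (nat_lit 4),
  Rule.mk (nat_lit 6) (nat_lit 48) (Steps.bwd (nat_lit 7) (Steps.bwd (nat_lit 4) (Steps.fwd (nat_lit 3584) (Steps.bwd (nat_lit 4) Steps.nil)))) (nat_lit 20) (nat_lit 2),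
  Rule.mk (nat_lit 7) (nat_lit 48) (Steps.bwd (nat_lit 4) (Steps.fwd (nat_lit 3584) (Steps.bwd (nat_lit 4) (Steps.fwd (nat_lit 3072) Steps.nil)))) (nat_lit 20) (nat_lit 3),
  Rule.mk (nat_lit 4) (nat_lit 48) (Steps.bwd (nat_lit 6) (Steps.bwd (nat_lit 7) (Steps.fwd (nat_lit 2048) (Steps.fwd (nat_lit 3584) Steps.nil)))) (nat_lit 20) (nat_lit 1),
  Rule.mk (nat_lit 4) (nat_lit 48) (Steps.bwd (nat_lit 7) (Steps.fwd (nat_lit 2048) (Steps.bwd (nat_lit 6) (Steps.bwd (nat_lit 7) Steps.nil)))) (nat_lit 20) (nat_lit 4),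
  Rule.mk (nat_lit 6) (nat_lit 48) (Steps.bwd (nat_lit 7) (Steps.fwd (nat_lit 2048) (Steps.bwd (nat_lit 7) (Steps.bwd (nat_lit 4) Steps.nil)))) (nat_lit 20) (nat_lit 2),
  Rule.mk (nat_lit 5) (nat_lit 48) (Steps.bwd (nat_lit 4) (Steps.fwd (nat_lit 512) (Steps.bwd (nat_lit 5) (Steps.bwd (nat_lit 1) Steps.nil)))) (nat_lit 19) (nat_lit 3),
  Rule.mk (nat_lit 5) (nat_lit 48) (Steps.bwd (nat_lit 1) (Steps.fwd (nat_lit 2560) (Steps.bwd (nat_lit 1) (Steps.fwd (nat_lit 2048) Steps.nil)))) (nat_lit 18) (nat_lit 3),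
  Rule.mk (nat_lit 1) (nat_lit 48) (Steps.bwd (nat_lit 5) (Steps.bwd (nat_lit 1) (Steps.fwd (nat_lit 2560) (Steps.fwd (nat_lit 2048) Steps.nil)))) (nat_lit 19) (nat_lit 0),
  Rule.mk (nat_lit 2) (nat_lit 38) (Steps.fwd (nat_lit 2560) (Steps.fwd (nat_lit 1536) (Steps.bwd (nat_lit 5) Steps.nil))) (nat_lit 14) (nat_lit 1),
  Rule.mk (nat_lit 5) (nat_lit 48) (Steps.fwd (nat_lit 512) (Steps.bwd (nat_lit 5) (Steps.fwd (nat_lit 512) (Steps.bwd (nat_lit 4) Steps.nil)))) (nat_lit 18) (nat_lit 3),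
  Rule.mk (nat_lit 1) (nat_lit 48) (Steps.bwd (nat_lit 4) (Steps.fwd (nat_lit 2560) (Steps.bwd (nat_lit 1) (Steps.fwd (nat_lit 2560) Steps.nil)))) (nat_lit 18) (nat_lit 1),
  Rule.mk (nat_lit 4) (nat_lit 48) (Steps.bwd (nat_lit 5) (Steps.fwd (nat_lit 512) (Steps.bwd (nat_lit 5) (Steps.fwd (nat_lit 512) Steps.nil)))) (nat_lit 18) (nat_lit 2),
  Rule.mk (nat_lit 4) (nat_lit 48) (Steps.bwd (nat_lit 1) (Steps.bwd (nat_lit 5) (Steps.fwd (nat_lit 512) (Steps.bwd (nat_lit 5) Steps.nil)))) (nat_lit 19) (nat_lit 4),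
  Rule.mk (nat_lit 3) (nat_lit 38) (Steps.fwd (nat_lit 2560) (Steps.bwd (nat_lit 3) (Steps.bwd (nat_lit 5) Steps.nil))) (nat_lit 15) (nat_lit 0),
  Rule.mk (nat_lit 2) (nat_lit 48) (Steps.bwd (nat_lit 7) (Steps.fwd (nat_lit 512) (Steps.bwd (nat_lit 3) (Steps.fwd (nat_lit 512) Steps.nil)))) (nat_lit 17) (nat_lit 1),
  Rule.mk (nat_lit 1) (nat_lit 48) (Steps.bwd (nat_lit 7) (Steps.bwd (nat_lit 3) (Steps.fwd (nat_lit 512) (Steps.bwd (nat_lit 2) Steps.nil)))) (nat_lit 16) (nat_lit 3),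
  Rule.mk (nat_lit 7) (nat_lit 38) (Steps.bwd (nat_lit 2) (Steps.fwd (nat_lit 512) (Steps.fwd (nat_lit 1024) Steps.nil))) (nat_lit 12) (nat_lit 3),
  Rule.mk (nat_lit 3) (nat_lit 48) (Steps.bwd (nat_lit 1) (Steps.bwd (nat_lit 2) (Steps.fwd (nat_lit 512) (Steps.bwd (nat_lit 7) Steps.nil)))) (nat_lit 16) (nat_lit 0),
  Rule.mk (nat_lit 7) (nat_lit 38) (Steps.fwd (nat_lit 1536) (Steps.bwd (nat_lit 1) (Steps.bwd (nat_lit 3) Steps.nil))) (nat_lit 12) (nat_lit 3),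
  Rule.mk (nat_lit 1) (nat_lit 48) (Steps.bwd (nat_lit 2) (Steps.fwd (nat_lit 3584) (Steps.bwd (nat_lit 1) (Steps.bwd (nat_lit 3) Steps.nil)))) (nat_lit 17) (nat_lit 0),
  Rule.mk (nat_lit 7) (nat_lit 48) (Steps.bwd (nat_lit 1) (Steps.fwd (nat_lit 1024) (Steps.fwd (nat_lit 512) (Steps.fwd (nat_lit 1536) Steps.nil)))) (nat_lit 17) (nat_lit 2),
  Rule.mk (nat_lit 6) (nat_lit 48) (Steps.fwd (nat_lit 2048) (Steps.fwd (nat_lit 3584) (Steps.fwd (nat_lit 2048) (Steps.bwd (nat_lit 7) Steps.nil)))) (nat_lit 21) (nat_lit 4),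
  Rule.mk (nat_lit 7) (nat_lit 48) (Steps.bwd (nat_lit 4) (Steps.fwd (nat_lit 3584) (Steps.bwd (nat_lit 4) (Steps.bwd (nat_lit 6) Steps.nil)))) (nat_lit 20) (nat_lit 3),
  Rule.mk (nat_lit 1) (nat_lit 48) (Steps.bwd (nat_lit 3) (Steps.fwd (nat_lit 512) (Steps.bwd (nat_lit 2) (Steps.bwd (nat_lit 7) Steps.nil)))) (nat_lit 17) (nat_lit 3),
  Rule.mk (nat_lit 3) (nat_lit 38) (Steps.bwd (nat_lit 7) (Steps.fwd (nat_lit 1536) (Steps.fwd (nat_lit 512) Steps.nil))) (nat_lit 12) (nat_lit 2),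
  Rule.mk (nat_lit 1) (nat_lit 48) (Steps.bwd (nat_lit 2) (Steps.fwd (nat_lit 512) (Steps.bwd (nat_lit 7) (Steps.bwd (nat_lit 3) Steps.nil)))) (nat_lit 16) (nat_lit 1),
  Rule.mk (nat_lit 3) (nat_lit 48) (Steps.bwd (nat_lit 1) (Steps.bwd (nat_lit 2) (Steps.fwd (nat_lit 3584) (Steps.bwd (nat_lit 1) Steps.nil)))) (nat_lit 17) (nat_lit 4),
  Rule.mk (nat_lit 1) (nat_lit 48) (Steps.bwd (nat_lit 7) (Steps.bwd (nat_lit 3) (Steps.bwd (nat_lit 1) (Steps.bwd (nat_lit 2) Steps.nil)))) (nat_lit 16) (nat_lit 3),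
  Rule.mk (nat_lit 2) (nat_lit 38) (Steps.bwd (nat_lit 1) (Steps.bwd (nat_lit 3) (Steps.bwd (nat_lit 7) Steps.nil))) (nat_lit 12) (nat_lit 0),
  Rule.mk (nat_lit 2) (nat_lit 38) (Steps.bwd (nat_lit 1) (Steps.fwd (nat_lit 1024) (Steps.bwd (nat_lit 7) Steps.nil))) (nat_lit 12) (nat_lit 0),
  Rule.mk (nat_lit 5) (nat_lit 38) (Steps.bwd (nat_lit 2) (Steps.bwd (nat_lit 5) (Steps.bwd (nat_lit 2) Steps.nil))) (nat_lit 14) (nat_lit 0)]
noncomputable def R_1 : List (Rule) := [Rule.mk (nat_lit 4) (nat_lit 48) (Steps.bwd (nat_lit 1) (Steps.fwd (nat_lit 2560) (Steps.fwd (nat_lit 512) (Steps.bwd (nat_lit 5) Steps.nil)))) (nat_lit 19) (nat_lit 4),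
  Rule.mk (nat_lit 7) (nat_lit 48) (Steps.bwd (nat_lit 6) (Steps.fwd (nat_lit 2048) (Steps.fwd (nat_lit 3584) (Steps.fwd (nat_lit 2048) Steps.nil)))) (nat_lit 21) (nat_lit 3),
  Rule.mk (nat_lit 2) (nat_lit 48) (Steps.bwd (nat_lit 1) (Steps.fwd (nat_lit 3584) (Steps.bwd (nat_lit 3) (Steps.bwd (nat_lit 1) Steps.nil)))) (nat_lit 16) (nat_lit 2),
  Rule.mk (nat_lit 1) (nat_lit 48) (Steps.bwd (nat_lit 4) (Steps.fwd (nat_lit 2560) (Steps.fwd (nat_lit 512) (Steps.bwd (nat_lit 5) Steps.nil)))) (nat_lit 18) (nat_lit 1),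
  Rule.mk (nat_lit 6) (nat_lit 48) (Steps.bwd (nat_lit 4) (Steps.fwd (nat_lit 3584) (Steps.fwd (nat_lit 2048) (Steps.fwd (nat_lit 3584) Steps.nil)))) (nat_lit 21) (nat_lit 4),
  Rule.mk (nat_lit 4) (nat_lit 48) (Steps.bwd (nat_lit 5) (Steps.fwd (nat_lit 512) (Steps.fwd (nat_lit 2560) (Steps.bwd (nat_lit 1) Steps.nil)))) (nat_lit 18) (nat_lit 2),
  Rule.mk (nat_lit 5) (nat_lit 48) (Steps.bwd (nat_lit 1) (Steps.bwd (nat_lit 5) (Steps.fwd (nat_lit 512) (Steps.bwd (nat_lit 4) Steps.nil)))) (nat_lit 18) (nat_lit 3),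
  Rule.mk (nat_lit 4) (nat_lit 48) (Steps.bwd (nat_lit 1) (Steps.bwd (nat_lit 5) (Steps.fwd (nat_lit 512) (Steps.fwd (nat_lit 2560) Steps.nil)))) (nat_lit 19) (nat_lit 4),
  Rule.mk (nat_lit 5) (nat_lit 38) (Steps.bwd (nat_lit 2) (Steps.fwd (nat_lit 2560) (Steps.fwd (nat_lit 1536) Steps.nil))) (nat_lit 14) (nat_lit 0),
  Rule.mk (nat_lit 1) (nat_lit 48) (Steps.bwd (nat_lit 5) (Steps.bwd (nat_lit 1) (Steps.fwd (nat_lit 2560) (Steps.bwd (nat_lit 4) Steps.nil)))) (nat_lit 19) (nat_lit 0),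
  Rule.mk (nat_lit 2) (nat_lit 38) (Steps.bwd (nat_lit 5) (Steps.fwd (nat_lit 1536) (Steps.bwd (nat_lit 5) Steps.nil))) (nat_lit 14) (nat_lit 1),
  Rule.mk (nat_lit 3) (nat_lit 48) (Steps.fwd (nat_lit 512) (Steps.bwd (nat_lit 2) (Steps.bwd (nat_lit 1) (Steps.bwd (nat_lit 7) Steps.nil)))) (nat_lit 16) (nat_lit 0),
  Rule.mk (nat_lit 1) (nat_lit 48) (Steps.bwd (nat_lit 3) (Steps.fwd (nat_lit 512) (Steps.bwd (nat_lit 2) (Steps.fwd (nat_lit 3584) Steps.nil)))) (nat_lit 17) (nat_lit 3),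
  Rule.mk (nat_lit 3) (nat_lit 38) (Steps.bwd (nat_lit 5) (Steps.bwd (nat_lit 3) (Steps.fwd (nat_lit 2560) Steps.nil))) (nat_lit 15) (nat_lit 0),
  Rule.mk (nat_lit 1) (nat_lit 48) (Steps.bwd (nat_lit 2) (Steps.fwd (nat_lit 3584) (Steps.fwd (nat_lit 512) (Steps.bwd (nat_lit 3) Steps.nil)))) (nat_lit 17) (nat_lit 0),
  Rule.mk (nat_lit 5) (nat_lit 48) (Steps.fwd (nat_lit 2048) (Steps.bwd (nat_lit 1) (Steps.fwd (nat_lit 2560) (Steps.bwd (nat_lit 1) Steps.nil)))) (nat_lit 19) (nat_lit 3),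
  Rule.mk (nat_lit 1) (nat_lit 48) (Steps.fwd (nat_lit 2560) (Steps.fwd (nat_lit 512) (Steps.bwd (nat_lit 5) (Steps.fwd (nat_lit 2048) Steps.nil)))) (nat_lit 19) (nat_lit 0),
  Rule.mk (nat_lit 3) (nat_lit 48) (Steps.bwd (nat_lit 1) (Steps.bwd (nat_lit 2) (Steps.fwd (nat_lit 512) (Steps.fwd (nat_lit 3584) Steps.nil)))) (nat_lit 16) (nat_lit 0),
  Rule.mk (nat_lit 7) (nat_lit 48) (Steps.bwd (nat_lit 3) (Steps.bwd (nat_lit 1) (Steps.bwd (nat_lit 2) (Steps.bwd (nat_lit 1) Steps.nil)))) (nat_lit 16) (nat_lit 4),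
  Rule.mk (nat_lit 5) (nat_lit 48) (Steps.bwd (nat_lit 1) (Steps.fwd (nat_lit 2560) (Steps.fwd (nat_lit 512) (Steps.fwd (nat_lit 2048) Steps.nil)))) (nat_lit 18) (nat_lit 3),
  Rule.mk (nat_lit 2) (nat_lit 38) (Steps.fwd (nat_lit 2560) (Steps.bwd (nat_lit 2) (Steps.bwd (nat_lit 5) Steps.nil))) (nat_lit 14) (nat_lit 1),
  Rule.mk (nat_lit 3) (nat_lit 48) (Steps.fwd (nat_lit 512) (Steps.bwd (nat_lit 2) (Steps.fwd (nat_lit 512) (Steps.fwd (nat_lit 3584) Steps.nil)))) (nat_lit 16) (nat_lit 0),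
  Rule.mk (nat_lit 3) (nat_lit 48) (Steps.bwd (nat_lit 1) (Steps.fwd (nat_lit 1536) (Steps.bwd (nat_lit 1) (Steps.fwd (nat_lit 3584) Steps.nil)))) (nat_lit 16) (nat_lit 0),
  Rule.mk (nat_lit 3) (nat_lit 28) (Steps.bwd (nat_lit 3) (Steps.fwd (nat_lit 1024) Steps.nil)) (nat_lit 11) (nat_lit 0),
  Rule.mk (nat_lit 2) (nat_lit 38) (Steps.bwd (nat_lit 1) (Steps.bwd (nat_lit 3) (Steps.fwd (nat_lit 3584) Steps.nil))) (nat_lit 12) (nat_lit 0),
  Rule.mk (nat_lit 4) (nat_lit 48) (Steps.fwd (nat_lit 512) (Steps.bwd (nat_lit 5) (Steps.fwd (nat_lit 512) (Steps.fwd (nat_lit 2560) Steps.nil)))) (nat_lit 19) (nat_lit 4),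
  Rule.mk (nat_lit 5) (nat_lit 48) (Steps.bwd (nat_lit 4) (Steps.bwd (nat_lit 1) (Steps.fwd (nat_lit 2560) (Steps.bwd (nat_lit 1) Steps.nil)))) (nat_lit 19) (nat_lit 3),
  Rule.mk (nat_lit 6) (nat_lit 48) (Steps.bwd (nat_lit 4) (Steps.bwd (nat_lit 7) (Steps.bwd (nat_lit 4) (Steps.bwd (nat_lit 7) Steps.nil)))) (nat_lit 21) (nat_lit 4),
  Rule.mk (nat_lit 3) (nat_lit 38) (Steps.bwd (nat_lit 7) (Steps.bwd (nat_lit 2) (Steps.bwd (nat_lit 1) Steps.nil))) (nat_lit 12) (nat_lit 2),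
  Rule.mk (nat_lit 6) (nat_lit 48) (Steps.bwd (nat_lit 7) (Steps.bwd (nat_lit 4) (Steps.bwd (nat_lit 7) (Steps.bwd (nat_lit 4) Steps.nil)))) (nat_lit 20) (nat_lit 2),
  Rule.mk (nat_lit 3) (nat_lit 28) (Steps.fwd (nat_lit 1024) (Steps.bwd (nat_lit 3) Steps.nil)) (nat_lit 11) (nat_lit 0),
  Rule.mk (nat_lit 4) (nat_lit 48) (Steps.bwd (nat_lit 7) (Steps.bwd (nat_lit 4) (Steps.bwd (nat_lit 6) (Steps.fwd (nat_lit 3584) Steps.nil)))) (nat_lit 20) (nat_lit 4),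
  Rule.mk (nat_lit 6) (nat_lit 48) (Steps.bwd (nat_lit 7) (Steps.bwd (nat_lit 4) (Steps.fwd (nat_lit 3584) (Steps.fwd (nat_lit 2048) Steps.nil)))) (nat_lit 20) (nat_lit 2),
  Rule.mk (nat_lit 2) (nat_lit 48) (Steps.bwd (nat_lit 7) (Steps.bwd (nat_lit 1) (Steps.bwd (nat_lit 3) (Steps.fwd (nat_lit 512) Steps.nil)))) (nat_lit 17) (nat_lit 1),
  Rule.mk (nat_lit 2) (nat_lit 48) (Steps.bwd (nat_lit 7) (Steps.fwd (nat_lit 512) (Steps.fwd (nat_lit 1024) (Steps.fwd (nat_lit 512) Steps.nil)))) (nat_lit 17) (nat_lit 1),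
  Rule.mk (nat_lit 6) (nat_lit 48) (Steps.bwd (nat_lit 7) (Steps.fwd (nat_lit 2048) (Steps.fwd (nat_lit 3584) (Steps.fwd (nat_lit 2048) Steps.nil)))) (nat_lit 20) (nat_lit 2),
  Rule.mk (nat_lit 6) (nat_lit 48) (Steps.bwd (nat_lit 4) (Steps.bwd (nat_lit 7) (Steps.fwd (nat_lit 2048) (Steps.bwd (nat_lit 7) Steps.nil)))) (nat_lit 21) (nat_lit 4),
  Rule.mk (nat_lit 2) (nat_lit 38) (Steps.fwd (nat_lit 512) (Steps.fwd (nat_lit 1024) (Steps.bwd (nat_lit 7) Steps.nil))) (nat_lit 12) (nat_lit 0),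
  Rule.mk (nat_lit 5) (nat_lit 38) (Steps.fwd (nat_lit 1024) (Steps.bwd (nat_lit 5) (Steps.bwd (nat_lit 3) Steps.nil))) (nat_lit 15) (nat_lit 1),
  Rule.mk (nat_lit 5) (nat_lit 48) (Steps.fwd (nat_lit 2048) (Steps.fwd (nat_lit 512) (Steps.bwd (nat_lit 5) (Steps.bwd (nat_lit 1) Steps.nil)))) (nat_lit 19) (nat_lit 3),
  Rule.mk (nat_lit 5) (nat_lit 38) (Steps.fwd (nat_lit 1024) (Steps.fwd (nat_lit 2560) (Steps.bwd (nat_lit 3) Steps.nil))) (nat_lit 15) (nat_lit 1),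
  Rule.mk (nat_lit 5) (nat_lit 48) (Steps.bwd (nat_lit 1) (Steps.fwd (nat_lit 2048) (Steps.bwd (nat_lit 5) (Steps.bwd (nat_lit 1) Steps.nil)))) (nat_lit 18) (nat_lit 0),
  Rule.mk (nat_lit 0) (nat_lit 58) (Steps.fwd (nat_lit 2048) (Steps.bwd (nat_lit 5) (Steps.bwd (nat_lit 1) (Steps.fwd (nat_lit 2560) (Steps.fwd (nat_lit 512) Steps.nil))))) (nat_lit 18) (nat_lit 1),
  Rule.mk (nat_lit 4) (nat_lit 28) (Steps.bwd (nat_lit 0) (Steps.fwd (nat_lit 2048) Steps.nil)) (nat_lit 22) (nat_lit 0),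
  Rule.mk (nat_lit 6) (nat_lit 28) (Steps.bwd (nat_lit 0) (Steps.bwd (nat_lit 6) Steps.nil)) (nat_lit 22) (nat_lit 0),
  Rule.mk (nat_lit 7) (nat_lit 28) (Steps.bwd (nat_lit 0) (Steps.fwd (nat_lit 3584) Steps.nil)) (nat_lit 22) (nat_lit 0),
  Rule.mk (nat_lit 4) (nat_lit 48) (Steps.bwd (nat_lit 1) (Steps.bwd (nat_lit 5) (Steps.bwd (nat_lit 1) (Steps.fwd (nat_lit 2560) Steps.nil)))) (nat_lit 19) (nat_lit 4),
  Rule.mk (nat_lit 1) (nat_lit 48) (Steps.bwd (nat_lit 7) (Steps.bwd (nat_lit 3) (Steps.fwd (nat_lit 512) (Steps.fwd (nat_lit 1536) Steps.nil)))) (nat_lit 16) (nat_lit 3),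
  Rule.mk (nat_lit 6) (nat_lit 48) (Steps.fwd (nat_lit 3584) (Steps.fwd (nat_lit 2048) (Steps.bwd (nat_lit 7) (Steps.bwd (nat_lit 4) Steps.nil)))) (nat_lit 20) (nat_lit 2),
  Rule.mk (nat_lit 5) (nat_lit 48) (Steps.bwd (nat_lit 1) (Steps.bwd (nat_lit 5) (Steps.bwd (nat_lit 1) (Steps.bwd (nat_lit 4) Steps.nil)))) (nat_lit 18) (nat_lit 3),
  Rule.mk (nat_lit 4) (nat_lit 48) (Steps.bwd (nat_lit 1) (Steps.bwd (nat_lit 5) (Steps.bwd (nat_lit 1) (Steps.bwd (nat_lit 5) Steps.nil)))) (nat_lit 19) (nat_lit 4),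
  Rule.mk (nat_lit 7) (nat_lit 48) (Steps.bwd (nat_lit 6) (Steps.fwd (nat_lit 2048) (Steps.fwd (nat_lit 3584) (Steps.bwd (nat_lit 4) Steps.nil)))) (nat_lit 21) (nat_lit 3),
  Rule.mk (nat_lit 3) (nat_lit 48) (Steps.bwd (nat_lit 1) (Steps.bwd (nat_lit 2) (Steps.bwd (nat_lit 1) (Steps.fwd (nat_lit 3584) Steps.nil)))) (nat_lit 16) (nat_lit 0),
  Rule.mk (nat_lit 6) (nat_lit 48) (Steps.bwd (nat_lit 4) (Steps.fwd (nat_lit 3584) (Steps.fwd (nat_lit 2048) (Steps.bwd (nat_lit 7) Steps.nil)))) (nat_lit 21) (nat_lit 4),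
  Rule.mk (nat_lit 7) (nat_lit 48) (Steps.bwd (nat_lit 1) (Steps.bwd (nat_lit 3) (Steps.bwd (nat_lit 1) (Steps.fwd (nat_lit 1536) Steps.nil)))) (nat_lit 17) (nat_lit 2),
  Rule.mk (nat_lit 1) (nat_lit 38) (Steps.bwd (nat_lit 3) (Steps.fwd (nat_lit 3584) (Steps.fwd (nat_lit 1536) Steps.nil))) (nat_lit 12) (nat_lit 1),
  Rule.mk (nat_lit 5) (nat_lit 48) (Steps.bwd (nat_lit 1) (Steps.bwd (nat_lit 4) (Steps.fwd (nat_lit 2560) (Steps.bwd (nat_lit 1) Steps.nil)))) (nat_lit 18) (nat_lit 0),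
  Rule.mk (nat_lit 5) (nat_lit 38) (Steps.fwd (nat_lit 1536) (Steps.bwd (nat_lit 5) (Steps.bwd (nat_lit 2) Steps.nil))) (nat_lit 14) (nat_lit 0),
  Rule.mk (nat_lit 7) (nat_lit 48) (Steps.bwd (nat_lit 3) (Steps.fwd (nat_lit 512) (Steps.fwd (nat_lit 1536) (Steps.fwd (nat_lit 512) Steps.nil)))) (nat_lit 16) (nat_lit 4),
  Rule.mk (nat_lit 7) (nat_lit 48) (Steps.fwd (nat_lit 512) (Steps.bwd (nat_lit 3) (Steps.fwd (nat_lit 512) (Steps.fwd (nat_lit 1536) Steps.nil)))) (nat_lit 17) (nat_lit 2),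
  Rule.mk (nat_lit 6) (nat_lit 48) (Steps.fwd (nat_lit 3584) (Steps.bwd (nat_lit 4) (Steps.bwd (nat_lit 7) (Steps.bwd (nat_lit 4) Steps.nil)))) (nat_lit 20) (nat_lit 2),
  Rule.mk (nat_lit 6) (nat_lit 48) (Steps.bwd (nat_lit 4) (Steps.bwd (nat_lit 7) (Steps.bwd (nat_lit 4) (Steps.fwd (nat_lit 3584) Steps.nil)))) (nat_lit 21) (nat_lit 4),
  Rule.mk (nat_lit 6) (nat_lit 48) (Steps.fwd (nat_lit 3584) (Steps.fwd (nat_lit 2048) (Steps.bwd (nat_lit 7) (Steps.fwd (nat_lit 2048) Steps.nil)))) (nat_lit 20) (nat_lit 2),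
  Rule.mk (nat_lit 6) (nat_lit 48) (Steps.fwd (nat_lit 2048) (Steps.bwd (nat_lit 7) (Steps.fwd (nat_lit 2048) (Steps.bwd (nat_lit 7) Steps.nil)))) (nat_lit 21) (nat_lit 4)]
noncomputable def R_2 : List (Rule) := [Rule.mk (nat_lit 7) (nat_lit 48) (Steps.fwd (nat_lit 3072) (Steps.bwd (nat_lit 4) (Steps.bwd (nat_lit 7) (Steps.bwd (nat_lit 4) Steps.nil)))) (nat_lit 21) (nat_lit 3),
  Rule.mk (nat_lit 6) (nat_lit 48) (Steps.fwd (nat_lit 2048) (Steps.bwd (nat_lit 7) (Steps.bwd (nat_lit 4) (Steps.bwd (nat_lit 7) Steps.nil)))) (nat_lit 21) (nat_lit 4),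
  Rule.mk (nat_lit 7) (nat_lit 38) (Steps.fwd (nat_lit 1536) (Steps.fwd (nat_lit 512) (Steps.bwd (nat_lit 3) Steps.nil))) (nat_lit 12) (nat_lit 3),
  Rule.mk (nat_lit 5) (nat_lit 38) (Steps.bwd (nat_lit 3) (Steps.bwd (nat_lit 5) (Steps.bwd (nat_lit 3) Steps.nil))) (nat_lit 15) (nat_lit 1),
  Rule.mk (nat_lit 4) (nat_lit 48) (Steps.fwd (nat_lit 512) (Steps.bwd (nat_lit 5) (Steps.fwd (nat_lit 512) (Steps.bwd (nat_lit 5) Steps.nil)))) (nat_lit 19) (nat_lit 4),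
  Rule.mk (nat_lit 2) (nat_lit 48) (Steps.bwd (nat_lit 7) (Steps.fwd (nat_lit 512) (Steps.fwd (nat_lit 1024) (Steps.bwd (nat_lit 1) Steps.nil)))) (nat_lit 17) (nat_lit 1),
  Rule.mk (nat_lit 1) (nat_lit 48) (Steps.bwd (nat_lit 7) (Steps.fwd (nat_lit 1024) (Steps.bwd (nat_lit 1) (Steps.bwd (nat_lit 2) Steps.nil)))) (nat_lit 16) (nat_lit 3),
  Rule.mk (nat_lit 4) (nat_lit 48) (Steps.bwd (nat_lit 6) (Steps.bwd (nat_lit 7) (Steps.bwd (nat_lit 4) (Steps.fwd (nat_lit 3584) Steps.nil)))) (nat_lit 20) (nat_lit 1),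
  Rule.mk (nat_lit 4) (nat_lit 48) (Steps.bwd (nat_lit 7) (Steps.fwd (nat_lit 2048) (Steps.fwd (nat_lit 3072) (Steps.bwd (nat_lit 7) Steps.nil)))) (nat_lit 20) (nat_lit 4),
  Rule.mk (nat_lit 6) (nat_lit 48) (Steps.bwd (nat_lit 7) (Steps.fwd (nat_lit 2048) (Steps.bwd (nat_lit 7) (Steps.fwd (nat_lit 2048) Steps.nil)))) (nat_lit 20) (nat_lit 2),
  Rule.mk (nat_lit 2) (nat_lit 38) (Steps.bwd (nat_lit 5) (Steps.bwd (nat_lit 2) (Steps.bwd (nat_lit 5) Steps.nil))) (nat_lit 14) (nat_lit 1),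
  Rule.mk (nat_lit 3) (nat_lit 38) (Steps.bwd (nat_lit 5) (Steps.bwd (nat_lit 3) (Steps.bwd (nat_lit 5) Steps.nil))) (nat_lit 15) (nat_lit 0),
  Rule.mk (nat_lit 2) (nat_lit 38) (Steps.fwd (nat_lit 512) (Steps.bwd (nat_lit 3) (Steps.bwd (nat_lit 7) Steps.nil))) (nat_lit 12) (nat_lit 0),
  Rule.mk (nat_lit 5) (nat_lit 48) (Steps.bwd (nat_lit 4) (Steps.fwd (nat_lit 512) (Steps.fwd (nat_lit 2560) (Steps.bwd (nat_lit 1) Steps.nil)))) (nat_lit 19) (nat_lit 3),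
  Rule.mk (nat_lit 3) (nat_lit 38) (Steps.fwd (nat_lit 2560) (Steps.fwd (nat_lit 1024) (Steps.bwd (nat_lit 5) Steps.nil))) (nat_lit 15) (nat_lit 0),
  Rule.mk (nat_lit 1) (nat_lit 48) (Steps.bwd (nat_lit 4) (Steps.fwd (nat_lit 2560) (Steps.bwd (nat_lit 1) (Steps.bwd (nat_lit 5) Steps.nil)))) (nat_lit 18) (nat_lit 1),
  Rule.mk (nat_lit 4) (nat_lit 48) (Steps.bwd (nat_lit 6) (Steps.fwd (nat_lit 3584) (Steps.fwd (nat_lit 2048) (Steps.fwd (nat_lit 3584) Steps.nil)))) (nat_lit 20) (nat_lit 1),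
  Rule.mk (nat_lit 1) (nat_lit 48) (Steps.fwd (nat_lit 2560) (Steps.bwd (nat_lit 1) (Steps.fwd (nat_lit 2560) (Steps.bwd (nat_lit 4) Steps.nil)))) (nat_lit 19) (nat_lit 0),
  Rule.mk (nat_lit 7) (nat_lit 48) (Steps.bwd (nat_lit 1) (Steps.bwd (nat_lit 3) (Steps.fwd (nat_lit 512) (Steps.fwd (nat_lit 1536) Steps.nil)))) (nat_lit 17) (nat_lit 2),
  Rule.mk (nat_lit 5) (nat_lit 38) (Steps.bwd (nat_lit 2) (Steps.bwd (nat_lit 5) (Steps.fwd (nat_lit 1536) Steps.nil))) (nat_lit 14) (nat_lit 0),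
  Rule.mk (nat_lit 6) (nat_lit 48) (Steps.fwd (nat_lit 3584) (Steps.bwd (nat_lit 4) (Steps.fwd (nat_lit 3584) (Steps.bwd (nat_lit 4) Steps.nil)))) (nat_lit 20) (nat_lit 2),
  Rule.mk (nat_lit 1) (nat_lit 48) (Steps.bwd (nat_lit 4) (Steps.bwd (nat_lit 5) (Steps.fwd (nat_lit 512) (Steps.bwd (nat_lit 5) Steps.nil)))) (nat_lit 18) (nat_lit 1),
  Rule.mk (nat_lit 5) (nat_lit 48) (Steps.bwd (nat_lit 4) (Steps.bwd (nat_lit 1) (Steps.fwd (nat_lit 2560) (Steps.fwd (nat_lit 512) Steps.nil)))) (nat_lit 19) (nat_lit 3),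
  Rule.mk (nat_lit 2) (nat_lit 28) (Steps.fwd (nat_lit 1536) (Steps.bwd (nat_lit 2) Steps.nil)) (nat_lit 10) (nat_lit 0),
  Rule.mk (nat_lit 3) (nat_lit 48) (Steps.bwd (nat_lit 1) (Steps.fwd (nat_lit 1536) (Steps.fwd (nat_lit 512) (Steps.fwd (nat_lit 3584) Steps.nil)))) (nat_lit 16) (nat_lit 0),
  Rule.mk (nat_lit 7) (nat_lit 48) (Steps.bwd (nat_lit 1) (Steps.fwd (nat_lit 1024) (Steps.fwd (nat_lit 512) (Steps.bwd (nat_lit 2) Steps.nil)))) (nat_lit 17) (nat_lit 2),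
  Rule.mk (nat_lit 5) (nat_lit 48) (Steps.bwd (nat_lit 1) (Steps.bwd (nat_lit 5) (Steps.bwd (nat_lit 1) (Steps.fwd (nat_lit 2048) Steps.nil)))) (nat_lit 18) (nat_lit 3),
  Rule.mk (nat_lit 6) (nat_lit 48) (Steps.fwd (nat_lit 3584) (Steps.fwd (nat_lit 2048) (Steps.fwd (nat_lit 3584) (Steps.bwd (nat_lit 4) Steps.nil)))) (nat_lit 20) (nat_lit 2),
  Rule.mk (nat_lit 2) (nat_lit 28) (Steps.bwd (nat_lit 2) (Steps.fwd (nat_lit 1536) Steps.nil)) (nat_lit 10) (nat_lit 0),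
  Rule.mk (nat_lit 4) (nat_lit 48) (Steps.fwd (nat_lit 2560) (Steps.bwd (nat_lit 1) (Steps.bwd (nat_lit 5) (Steps.bwd (nat_lit 1) Steps.nil)))) (nat_lit 18) (nat_lit 2),
  Rule.mk (nat_lit 7) (nat_lit 48) (Steps.bwd (nat_lit 3) (Steps.bwd (nat_lit 1) (Steps.bwd (nat_lit 2) (Steps.fwd (nat_lit 512) Steps.nil)))) (nat_lit 16) (nat_lit 4),
  Rule.mk (nat_lit 2) (nat_lit 48) (Steps.bwd (nat_lit 7) (Steps.bwd (nat_lit 1) (Steps.fwd (nat_lit 1024) (Steps.bwd (nat_lit 1) Steps.nil)))) (nat_lit 17) (nat_lit 1),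
  Rule.mk (nat_lit 4) (nat_lit 48) (Steps.fwd (nat_lit 2560) (Steps.bwd (nat_lit 1) (Steps.fwd (nat_lit 2560) (Steps.bwd (nat_lit 1) Steps.nil)))) (nat_lit 18) (nat_lit 2),
  Rule.mk (nat_lit 2) (nat_lit 38) (Steps.bwd (nat_lit 1) (Steps.fwd (nat_lit 1024) (Steps.fwd (nat_lit 3584) Steps.nil))) (nat_lit 12) (nat_lit 0),
  Rule.mk (nat_lit 3) (nat_lit 48) (Steps.bwd (nat_lit 1) (Steps.fwd (nat_lit 1536) (Steps.fwd (nat_lit 512) (Steps.bwd (nat_lit 7) Steps.nil)))) (nat_lit 16) (nat_lit 0),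
  Rule.mk (nat_lit 7) (nat_lit 48) (Steps.bwd (nat_lit 1) (Steps.fwd (nat_lit 1024) (Steps.bwd (nat_lit 1) (Steps.bwd (nat_lit 2) Steps.nil)))) (nat_lit 17) (nat_lit 2),
  Rule.mk (nat_lit 4) (nat_lit 48) (Steps.bwd (nat_lit 6) (Steps.fwd (nat_lit 3584) (Steps.bwd (nat_lit 4) (Steps.bwd (nat_lit 7) Steps.nil)))) (nat_lit 20) (nat_lit 1),
  Rule.mk (nat_lit 6) (nat_lit 48) (Steps.fwd (nat_lit 2048) (Steps.fwd (nat_lit 3584) (Steps.bwd (nat_lit 4) (Steps.bwd (nat_lit 7) Steps.nil)))) (nat_lit 21) (nat_lit 4),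
  Rule.mk (nat_lit 6) (nat_lit 48) (Steps.bwd (nat_lit 7) (Steps.bwd (nat_lit 4) (Steps.bwd (nat_lit 7) (Steps.fwd (nat_lit 2048) Steps.nil)))) (nat_lit 20) (nat_lit 2),
  Rule.mk (nat_lit 2) (nat_lit 48) (Steps.bwd (nat_lit 7) (Steps.bwd (nat_lit 1) (Steps.bwd (nat_lit 3) (Steps.bwd (nat_lit 1) Steps.nil)))) (nat_lit 17) (nat_lit 1),
  Rule.mk (nat_lit 1) (nat_lit 48) (Steps.bwd (nat_lit 2) (Steps.fwd (nat_lit 512) (Steps.fwd (nat_lit 3584) (Steps.bwd (nat_lit 3) Steps.nil)))) (nat_lit 16) (nat_lit 1),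
  Rule.mk (nat_lit 7) (nat_lit 38) (Steps.bwd (nat_lit 2) (Steps.bwd (nat_lit 1) (Steps.fwd (nat_lit 1024) Steps.nil))) (nat_lit 12) (nat_lit 3),
  Rule.mk (nat_lit 1) (nat_lit 38) (Steps.bwd (nat_lit 3) (Steps.bwd (nat_lit 7) (Steps.bwd (nat_lit 2) Steps.nil))) (nat_lit 12) (nat_lit 1),
  Rule.mk (nat_lit 4) (nat_lit 48) (Steps.bwd (nat_lit 5) (Steps.bwd (nat_lit 1) (Steps.bwd (nat_lit 5) (Steps.bwd (nat_lit 1) Steps.nil)))) (nat_lit 18) (nat_lit 2),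
  Rule.mk (nat_lit 6) (nat_lit 48) (Steps.fwd (nat_lit 2048) (Steps.bwd (nat_lit 7) (Steps.bwd (nat_lit 4) (Steps.fwd (nat_lit 3584) Steps.nil)))) (nat_lit 21) (nat_lit 4),
  Rule.mk (nat_lit 7) (nat_lit 48) (Steps.bwd (nat_lit 6) (Steps.bwd (nat_lit 4) (Steps.fwd (nat_lit 3584) (Steps.bwd (nat_lit 4) Steps.nil)))) (nat_lit 21) (nat_lit 3),
  Rule.mk (nat_lit 5) (nat_lit 48) (Steps.bwd (nat_lit 1) (Steps.fwd (nat_lit 2560) (Steps.fwd (nat_lit 512) (Steps.bwd (nat_lit 4) Steps.nil)))) (nat_lit 18) (nat_lit 3),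
  Rule.mk (nat_lit 2) (nat_lit 38) (Steps.bwd (nat_lit 5) (Steps.fwd (nat_lit 1536) (Steps.fwd (nat_lit 2560) Steps.nil))) (nat_lit 14) (nat_lit 1),
  Rule.mk (nat_lit 4) (nat_lit 48) (Steps.bwd (nat_lit 5) (Steps.bwd (nat_lit 1) (Steps.fwd (nat_lit 2560) (Steps.fwd (nat_lit 512) Steps.nil)))) (nat_lit 18) (nat_lit 2),
  Rule.mk (nat_lit 7) (nat_lit 48) (Steps.fwd (nat_lit 2048) (Steps.fwd (nat_lit 3072) (Steps.bwd (nat_lit 7) (Steps.bwd (nat_lit 4) Steps.nil)))) (nat_lit 20) (nat_lit 0),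
  Rule.mk (nat_lit 3) (nat_lit 38) (Steps.bwd (nat_lit 7) (Steps.fwd (nat_lit 1536) (Steps.bwd (nat_lit 1) Steps.nil))) (nat_lit 12) (nat_lit 2),
  Rule.mk (nat_lit 4) (nat_lit 48) (Steps.bwd (nat_lit 7) (Steps.bwd (nat_lit 4) (Steps.fwd (nat_lit 3072) (Steps.fwd (nat_lit 3584) Steps.nil)))) (nat_lit 20) (nat_lit 4)]
noncomputable def R : List (List (Rule)) := [R_0, R_1, R_2]
def LW : List Word := [[], [0], [2], [3], [4], [6], [8], [10]]
def par : Par := ⟨9, 3, 12, 21, 511, 4095, 2097151⟩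
theorem hpar : par.ok := by decide
theorem hR0_0 : lall (R) (fun l => lall l (ruleOK RM LW par)) = true := by decide +kernel
theorem hR0 : lall (R) (fun l => lall l (ruleOK RM LW par)) = true := hR0_0
theorem hR : RulesOK RM LW par R := rulesOK_of rfl hR0
def cols : List (ℕ × ℕ) := [(512, 1), (1024, 3), (2048, 4), (2560, 5), (3072, 6), (3584, 7)]
theorem hcols : lall cols (colOK RM LW par) = true := by decide +kernel
noncomputable def JS0 : List ℕ := [nat_lit 0x30cc202310003081401324c83081001310c215310c103000c103018c23045001310c10a054013044cc13000814004c01300c02004c01230801000bf1100001300bf10314c42fc000f2fccf30cbe0e334c230034002fc08c0028bf0c31cc9008c10b0240130028c02fc0c08008c02fc24c02fcbe08314022fcbe07314c4004be062f8bd022fc002f41400308bf2f410c02f40c002f408bf2f8bd01,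
  nat_lit 0x80e7000cb270900532c14cd00c0132c98343b000328940132c0232890323b80132878e93b4003248cdf01cce3241ccc008ca324882f328c932084023280032080c9004e33207c2c3880032078203640132074cb008c93207013324c831c6c023240031c5cc80040731c68100180031c64cc004c71800cc9004c717324c8000c61131c0138cc616040e2000c6123840f00cc6103300d008c60b33c0131428c53100c0c008c531024c5310c30832802310c307330c9004c306,
  nat_lit 0x400354d4360000b378d435354d402004da3504c00360043435801350d3330040034cc80038c0134cc4e2000d434cc0013e8162f00c0234cd22e01001348d10e12401000d12d000480f0d12c004f60ec472b34c02344d0220c4d1340cf21008d1000cf2034001398cf1f0b8e5000cf1e38c00340cf1d004e0384a8030080133848dd004003344400004ce33440d6004cd000a4da35800330a0d1004cc1300cce004cc17338cd000cb1133001088cb1a3a021000cb19,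
  nat_lit 0x3b00a004e04600434058e045020ea3b0df4400105411030441103004de4300ce0004de20380df000dd3837801008dd1f3a001000dd1e000e73f0dd42000e23900c410080137054dc36c0c02120db4000007378fcde008db3681cdb368d93e420dc000d91d008da000d93d42000004d93c4190536420003600c3a364d81400404400d83b070ff35cc8003a8d73a0041a3a8e939010d8004d620008d7000d53835802384d51f0ece0004d51e000df0e83037,
  nat_lit 0x2450013b4491f44c003b04512000ed3b0411d038003b150f4004ec1500cee004ec173b8ed000eb113b0013b8eb1600ced000eb173b0023b8eb163d0f33b0eb043d0f33c8eb530040f3a84c00034063410c033a8e9523a8023a4c9223a80200144013a40314940e7000010a8f40001c3e3993c05004e64e14001398004d15042000e54c0050c1012c030080138c4909004003884400004e338840f6004e2001290607400384a01b004e14903003388e14802802384e047,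
  nat_lit 0x4140c400e9050390e4018c0140c0c3fcc50e434fe5d4040a42cfe62014033fcfe61494013f8fd602b003004fd45000022ad545c0090800cfc04000a9549215e020fe018fb41414003ecfa43005035f214ad3e8f95e400003e174013e8122a108822a8f75c3dc01280f65b5789f000f65a00459580540447cf53d01d293d0f3593d002474f31d474f25800447474f2571151d3c4f8004651a0a014013c13930004f00013533044003bd58013e81155,
  nat_lit 0x1dc95188015c25061000395e06017011406f18c026e500016d4f8006c1e81404c004f5ad3b00117049a8012545b690007e5f5800103004012d07f2f0017624ca9740010e43da00229972670004e0e83537175390090b07188600090a521780042564024e45a4d930011805d6601909005072000908001063841c0446d061f0c91a00d0620009190c446650140e431053b07016411240f429033204902030fc2b0990264008034490162,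
  nat_lit 0x1b152146793bc004b5e1ae6ad2e4b5dc023ad2d13000cd229307637cbb0052c073198a0052b75004c7374b94c0018d620f8c421c004a5d0024ac004a45d2a0055e4a46880574004a5042500529130792c00529174b52b00128284a81c645281a0012f14c58220515005527730454f05126720149205125042397505124575941248cf80006066149c41562414488648c5c412484cd600412059528024c4411100037360552c0e883015883a4b558011c08d208033a,
  nat_lit 0x43d1a000012e004f675e100127d855261dba615485d2758300948860014e09550850143451e1180285460556566008217e0042029ce4825900007ca65e000711ca0da120c0051dd4011c4823f55003058e3821c1530081481004143849e711b951000135e0413d02c4f6f4f80f4f00a1c1e073018f680014f53a418371c4043d0e87f1dd5d009b57e005b4395401e56c006cce47d3dc06009597c6c8f6014017b4c800021a44e0083042005307a005b23cc5446,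
  nat_lit 0x1673e40094000b53dd98b501804585d1b7399335822132008042ce09b539131005f8e34c0000097800015284ce14032815c406358c56c2041584030009965789e50064c2d790003e000134b522925743d005579155c000f15c5e5956659c017b004d500c0b90000470f63cd30040054e38012b95305348e800454ad0000d51001b18d3902e00630e10b8008b005550a1572b0254f0054d8a094010014c895340753d4c880054e0194c640154d000227d,
  nat_lit 0x17c0340f1c009ec5e814bc5e56042025790c1d8065e22c002d47c37671a62d8745ddbd212d4735da6d77014025d669820f5845d26574001733f005829843d307c972220e5bb7c1718600c330d17031005274ddda1e009b05bc54da3416e320c56d030016d03005aa6ad99c63da075b080033d6065ac8c2a0a5435aa5c0f051375a6580100dc23c879a200002705f4032e4ba83001bf3be009505c160096519078150056454418f90056352,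
  nat_lit 0x2003650c99464c0c2e0681300080017080e03504053f9de644ecba28590943f5dc63cca175553463e280a03d33638944a135ff63681fc7f58c3a01c0d64e13373a800036d80073964eb628018c72c070012db46d401001500536dc6618ecba34d8594619c4610c9c460c0c0001c1b5059403010e460a7cdc604094481986001f8000100760e7804351bd5fc24d25fa754a4e814001d80000d7f04048033097c846e97b58,
  nat_lit 0x9c7cdac0a1a9ab03014f43c1ab61731cb275aaa89258d6a4e8ed3c40201e9c983b8000129c018453b79049a6002104ea78af2980049000037359804729a468c106368da23e68c02721a253000c528154d668c01684a1ba685a03e00c4c6821001015d575a9800011d437694065101767a904579817675d54f0559ca2001d0745849c0641805d9b6f038170599a7211de104d99a353c1366289af1444e0019400171b4216845966005658ecc40159515,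
  nat_lit 0x903411ac024c77c1c409080c070d00c37b9c208305c19d0580200d79ad004025e15f71160140000161004050240b735de4391dbd7b0116c6f2124a6ec09082c813000800001006036b004535b9ab595b858419026f4007e000020240d7300d2c6d901456d675b71d2096d42c04821b40a821b303000421184973705136c86059445b1057f1b0020146c6c055c416dafaa71dae03004a03d808650109b7d1ada9,
  nat_lit 0x55e43277e1d7579dde5d4c844120005c001ef135ed1219d93770542997ddb0a975da9d0054b8cd4d11a11b5841d922514cf83dd8b479843835d786015e30f9d687290a5756cc014fd3a33498004f8c737ec9435054074ec4da2f1d20c01807746c0005cd8c059f43576c0474064327680373ebde64e803739dcb47f403734ce5a005cc5975cd2005240119de24da8c001a1f98d06c19011c9ae59e4f019c89105c020164e7e00404935655e05c150000322,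
  nat_lit 0x5f414975724d5f00cde25e138430c9e1b49e1e80b9e0a8]
theorem S0_c : blocks (facts 9 3 12 21 511 4095 2097151 10 1023 8 255 A R 32) 32 JS0 447 = true := by decide +kernel
theorem S0 : On (Step.{u} RM LW par A) 447 959 :=
  steps_of_blocks hpar hR S0_c (by decide +kernel)
theorem D0_c : allB (defOK 9 12 21 511 2097151 448 A K) 2 2 = true := by decide +kernel
theorem D0 : On (fun r => defOK par.W par.WL par.E par.mW par.mE 448 A K r = true) 256 512 :=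
  On.of_allB D0_c
noncomputable def JW0 : List ℕ := [nat_lit 0x20e0cbacaa9df1a03920a8952493901239f428b550a5df53e62ee5e4be17a1d711d029bd7c0706b199a2d85a8b74458845c1f7c4838463ab9bf67e4e64a7b93ae35b9cb52996d49976aea77e7a1ec3d67a7565cdb957bf57d06bdc7d2a3de8d3aaf35d2bd9727aad65febed7e0e2d1c387ad95bdc6d6109ce24bfaeb3ea146b3d5a7cb571c7d1e7b75a6a73dd7f2392b24927f4f9ebd1787c3112bb3f77e74a1ecd5e7ff5fdf8d60acd5a2be57e,
  nat_lit 0x10520940e79606465910a3890c8b23d0a1e792a7a0ebeaabb99b0a41d653b64f4e0bb1735e92ec8ecb876b399ea4feaaf52a7c1749fad61a5cfa48ec411cccd4748f28eb8446ce18ecabb7dc625ae355ad4fb1c638a6e3485773733e87c5694ab8352a20285009e1482a0563ee169ef3d7193575c73856ef48108523a3947d7138857cb81de9ee7b556ea955812623aa8b7f798e0d059e278ee95e539f7f03b9d8ba97eb5d4740e51c639c76427,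
  nat_lit 0x1550455527f956495526a550029653123d021be3f86e4fcc618ae6f0be9bb0b2688cb44d322670cc19b2da5d57d4ba8292f27c96b3565eda834f8b7150b79c03907156ba71986c00b44c017222cb09402cc2ccc24493006187ac468b2678e199d2a6710c918a32063e0c1712a052ca714c2a90f692b90934e495eaba72ee61bad2b304dc9df1ec4b6876a3d445b47a65b85f25eb9dcd3916df4aa96d22a48e52035273b4b844340a10820444082,
  nat_lit 0x49064128246078830d623c9e941872509e7139aa1452a63c369a229beb7e4ab45c4387e6f74628db823be78d612c028b275e2d0478d4c9e43b363e771d1ba49b94d5099d2a5ee704bb9e87c43dd853f38f4f194a9d754ea131d391d23bc790f01ed0a60e8c410a288630bf1b63287103d84b088608cd4027fe2fa02922a70928f1537231942a30703999532555c0ed52aa692f252431dd58cb05504a14f09cd3b47e4f49d244a8a092a308c426,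
  nat_lit 0x1a487c68e1e515cf348c92113a4a9ded0d5ba4293653559a3d62533d1bccc2ad0f03b87f8762b8a41433af198e6a1428f1a680b5e6bad811fb5b9ec635ab3546a73ee713116e14360150a30a621792f02352e56a22e5a6b2e254ad5bc7cd66caa8612c0600bd16e268610be8087c1104731a91c0fb1eb59eb40fdca90ba16e0385e0c415ccb99440c3ea31c6061b339bb50ca234390946736879d07c647787c92e472a855156f9ef5c614c9fae6,
  nat_lit 0x13747d4b51e92bc760b87a90f21c1b91c5dd931702de6a4bc25b67b56cad18692c598a436dcdb04fd0b0ed02c380780e70205507d14a200560a83bc8210b46b0e91a2439e11fe791442852584ac9010686648ddd1167574faa03b89b2a506fa8d4d0c914929121722940c8d2c6415d6bae9a54f58f1e06371a9904d54c29f58bafd63936dda33d74ee85db3b267539d7ace45d2bdde23676aed85e0d4b682cde7e4ff68ad691422344c89116475,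
  nat_lit 0x2299b636a6e0d90fd8ac6fd0d1ca8df1b0d044c34d13cd29a3670cd97dce5666cd62d1b739872e2e9ce8a5154d51ba3586a56b47c5b129a57cac4de9c128c7f4a71d136a729bec05964da5aa8897f2fc97d304b115f2c04e8b215d1561ec580af82e2ca2c0f9634866681cf20267cc0c4e8a26a0c998c5f0bc45acbd9ee62cd39879e8d385c08d16c2405d0a92a2c0a614c5880c10350650d0198374093ac74d6249f0db2718314a6e8db48ad0f,
  nat_lit 0x1b4b637454ce70530672cfa973a06d54c61f9588744c8ad15c646751d339da6f4d13025f4ba8c53247985e43879910224426000a014828c5309d1b4314388d18430786b8cc1bc1187042324c45c9211125048a4125e598b2a514a555e285a30d09e32620083a0720f01f040a00d8963d039d93aa421d55912794fca056c9013ba45562d0a41a7c49c8953f275556264348ce5692642504409011c260414f29ad674a750f292429d13fa79941284,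
  nat_lit 0x13626a43f1ed33c7821841085107854421b2b665f341d6eaf6680cfd62ce85733ad89b0b62cc558c3056447410da159af35271a495fec520932f6d0d7d79d06a12cd19db3c5933a6592e44528bd10a304691dc6b0bc1a433c6c41f3426550ba180c31b4800f81fc3ec810fc618c2927a4b8593182589812a26e0889c25a4e09e13b86e4d5a608c1a619d19cf221a579be51535d44a171596f4de0d8d136901e9c05194b1459b250558740a5a2e5,
  nat_lit 0x183b034a0911844c724e4c05893326c4d1982419bd31021b2e]
theorem W0_c : blocks (rows 9 3 12 21 511 4095 2097151 11 2047 66 A 959 192 cols 21) 21 JW0 0 = true := by decide +kernel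
theorem W0 : On (Row.{u} RM LW par A 959 192 cols) 0 210 :=
  rows_of_blocks hpar (by decide) hcols W0_c (by decide +kernel)
theorem idx : Idx.{u} RM [[0], [2], [4], [6], [8], [10]] [] 192 :=
  idx_of_cert hpar hR (K := K) (by decide +kernel) (T := 448) (T' := 512) (by decide) D0
    (subs := []) (by decide +kernel) (T1 := 447) (by decide) (N := 959) S0
    (by decide) (n' := 210) (by decide) W0 (by decide +kernel) (by decide +kernel)
end m
namespace f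
noncomputable def A_0 : List (ℕ) := [nat_lit 0x39d45696267fdff1b04c1192941083719072b9853a46c49db96e4ca3a8e35213f09f67da8591ec4148822051ab3a90a419201f8e6c1b062709c1a4691987145d4358e2a0988239ba6e98ea3a949ea6e66b5fe4998b49126719479b5aa3c4f409fe7fa86d634e791e683c8f240a84924c92408b0ac235c5714a4848a4721c8e18078525c93486018100f0b1007ab476c1b0322288a867228e6d9b663a0e81b7ade98fd3308210dc70c4fe50b87ea85a7f4efa8baa075fc3bf6fd98691e8c141f2a161263b48d218ce338672af4940cb62324c90d8160527815c13d8a451dafd28397e5029b2e76e9ba3320c828fa7e0e779de67ddf71b42d0991f4e886018031191d2192648c43170837a40a1c11f50de8928683d8e771dc21d1f63a5efa8dd24a543a21211a46950488390f73dc62c1f49164561038e69dd2748c89a26a1a90d1a5e9798774294318eea16c421828342424458e9ca7264390e50cc8c986c17820f8e6415c5718383b28271b1412850119064504213a0267d1292a4a140d0310be9f112749c68e23891b4a3407620281805d0038e0119c6712208810bf2fc62208e47cdf3184010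24432d04220885058ac49a26884b52d4421954462d8b1b10c425f27c8c3695692bcad48721aa0123b127e1f813c4f110b054911b46c6d2b4a94186d08a827a01b281287a1e14f53d10fa7310cf33c6c8b2292ccb3320c8310f03b522995e54691a09e05924b02c082a97290ecf541ca72a05518023a8ea24912421304c0c5919485d17431ac6b48b0780859164a0f04c11685a112e4b903d0f460a83e917c5f3086119c1c10c20a87420543850220820050c8c0785c40dc37182217a80e0350020d411986610c43e10942506318c69084242818f89c1304cc1f07c30ec0e480828904c13060c030901c52503408a40506900c832802015488c23044511444a92a40c431183a1c8c6f1bd23e8fa61602938280a100616020e8a820740f10120ea45b16c21284a20845318e83a2462188c10838908822381410840b028801816500c3b1be0f8180601c40102c70781238360d985515460f03c6024065002028804010400bde70300c3006040c02025401006a00002400200a000,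
  nat_lit 0x73050d43445f97e1bb6eb99755d48edbd057b1ec0bb6ed95166a508b36a16f1bc13b2d7115976088b3dc5749534ba4a025a06f86dfbb274511420d2ea951374c88730c94bd383ae0d8a5334ad2990f054c10b20c8af2110510eafabe82fd303b9ee799c5704e90a4264d1341b58a71d354d4cf23c8a629b83c330c99ac6b066d3c67775875324991d18460c99a663745d13390f2a98d560ed93a074b52d325c970d0c70c2ea38aa3c88139bce41dc2708c8621831e479326cf391825e14e226ca699de5326f011ba524ce5bcca695c4420cf10d7a6504769b262789e521ecb24ec72cf0c43067199a517eb29d5555504c1786310ca1a58b21d373894c0ade77010230baac998940466f9be61f92849dc6ba960558f0bc2e666599520ecf110a68146118280f5eb1b30e49e16858ce3b8ea40cb809a85ba0b65dc65634c962d5d3a9a70244d6bc66e1b8912c8c405cdd8d7b1fd21537e33a4e948a046a42e2a105394e80dd1e1924a60d9c6712a5a966211430924b1089223c4178542036153a1b0a1c7a7746c5a7874ed3b310e4b1886218665ba83634875198cc1d694b0f09c26645d2a3adab698cb32c6a7a9e63fa123a324024f75706cf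b3e94419d4a74d191ce7386b017c92ecbb207c62a0c431101f11c784611329aa68c88220c161c87284a132fabe8d80841224a44456d5b194c5324366314759c673a89f4868b19d4a83cf0741c655d571a9506a4336c88aa2a838320c485a24842d4c546f10aa128eb48a26d244a37906e97a731c833294a50cc731cc1f87ea05db619d8bca4a062847613a7384e110a4bd8ce712860b896206180194816880e0d8e280a02068a2395415904e0d022886671344e109a2688193e143aaec382e0b31a5051cc6318c82a0aa17d953c130499a2688704410681d513aa0a818d03414221ac61220750862428153482699a6a119e13c0d031a058154824087350d4334ed38d7c5f0c6ab1c92b9df22e4b90c9a2692192dc9261e952d66aa8c95b0261986a0f4c2487ab320956a8ebfafe6701c0523a84246118422b2e0480e03192244a899210e45ad6925560492e4ca08b22d018ad4763d8f319a668ca380929ec024802001b26c9a4b4,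
  nat_lit 0x3d487696012bcaf3072579c530ec85787272c0b030a62910b23d4c591eaa2e4e539727a84b915507a8645260f0193023186017ce300c0411460483e2fa4600952358d651682310ca2c981d19902c8fa41647d08b22a94f0118e2188a70543d092a1e883a04ca1e92e10c41d38b431a05a098a3784c71605a404205a42617ca1183e516c1f383e050c1f089411846108c23401411901608d20f028608c63288a22a043054821828510c1228741c045204901c0205040102020081c1a040c0802010641140201928320c821f06470c83218aa0f0c3203841701e80bc0e381a06940d03480681a60340e401a2984391bce3a04a61985b20cc331c241a84330c421a80b30482d986a188e350d440946a48de3ea46a0a443e0c440906208481208240f941f07c70f83e102c098c1204c40300ea04c13382607841304c0f8be2103c0753e207180e03880701c10601a281c08941806080c03060601a10a20da05204480883270441130220d0411064a0c83240641930320d101a068c0d01080680f28622a0c31118a3a00c50547d28520910390a4214852a0a41450280a0414078814828803029402814a40c070c1484a81601d20b00e145806ca2a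01e703c0f50080d880f16c610842716c2518b6059c25024a0e8c450881b20a62aa83b154e1d8aa10ec0a50380e041c07100b00c60583b182c0b01f00710f8012407022084406040c03140601870302220180601ef7bc81102c80880a30440b041607820f01640840a0814051421079205016202c12307602180401cc0380e401c04200804140701ce0380e101008100e0f281602440d836104812180c0da808015409006901809400c049c06018203008701005300a0418080148028107014052808028408004402818a7bc0c18180410080242048068024031006019c0300c2018021004012802009001004c008045008022004011c01008c010041008004004001c00000c00000500000200000080000020013625d1b32ab4529ce9728ecf28c66e1453a00cda0c059d064ad016b9b43b08b98d745d12cba8483ddda33d8a0a1cd60d2f6bda1759d612eaf505dc77050dc364455151baaa90d536112f73502755b74b9c80252e,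
  nat_lit 0x2ace779ca07dc395164c808b214d45594892acef03f28908ab2c80fd15607e0a4415e769ca47e10523f43641f80bf4559df97e4c729da87e50e4b20891d9047c2c8342a65d1f11defc0d123bd4578a6a7e0ee29806004c9300459a0e6300f732741e9cc04e8e8827414753a127a3e893a260c18a4862549539925a8cc9474e4c23a246870123a33945c1ac22e0b861ac5c483a2e205b18ce2e24084252942408fa1134a4e8fa2491a5290a247b15073d86580d033d85311dce929f6424cfaa1284a5391a72871c6944c634a12344d0910d2849d1318948497e60f510312e4b9cf7158a7b9e233dd07397e8389061804839f461bc6b21f43324fa3e82379f451c0fa38d0578cfa158e2b0aca1785710ac8705134bd4e68c864350a08ec32210a1b023b8ee30a07710c8321c77108a5a8f811084250843e287c108e3e0ca61086830e831906819d2340d011d06828c0580c68438687232a459191a32110c5e11c42f0bc51a85e303e2f1c5e1788100bc91107548bc4a18731f0c2b8ae53c45738ca2ba82019422b9747250732a4a3984ba09c43985081d86c10d8141c6c0a0632016a0a075284e13907409ce3584e618c2708c605a027194a81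a0662d50321f85a1d03344c929e24495253a0c928d241d469297257d0b9127c51903528d47294673d4a309ca5ca0a3100217826810018382e0b941705c80b82e605c17081a0c201749025f96832fcbf287c7e190f0e8c5a21e42d51a3a1e88090f43c433a3421c0980a2013187019c8130ce71645a30ce381c7d1c082d0ce80907048e831247019542388e708047482a10184711d02308a908047084023901f08040f83e07cc0a104010142511ca33044211c4530ea2310751d4e2220c21804448ea22181517c8220be1110b422345a05060eca5a07472d4f030a878993d4f48689a25250d13966688c9511466887052b1884a3436991a4680f907022a8b209565598b90e08559da12b4ad21721c18ad0d540806a714835089e1c2035150e789f852e8fc38da7e0c9716867e0a453b052115236903a1b441307251b438389e2790e513d40c8a4813c7c2a7a781d3d3d4a501605418b320a81d04b3118659966514cf511cc2918ed,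
  nat_lit 0x3491039aa3120d410901a944834d0240908194d23890b60cd334cad29a647f91c29a432a0d334922b88aa3497c53c26a88d48106619a8a2ccd1540884198e5acac712642689a513448989a5ac4efae265b96b22dcb621e95b0e6a92aa5b1603184b584c2248eb32d68599890b80e008ea7006889d0a6a90850c00fa861184c208c27184ae20c2118c611944308c25410992a104c89702290449085244842124372084264cb593215809922e218a0994982c7b1e24a58f1962b5193e3354669cc13353e399a6689825a8655ad424498f5190b505a42b94b5158680a0223e90104a02b4b01238464d883326d285932b45009ce43bce7395a73984f39c2521ce82c0b241cec105976094dd3427608ad41625898a360845194607fcb121485884ef2c4694962a2c0b14072591cb1324c822087491040a0e82090317c48219062b84121906404ee320a8e99032bcfa1990a429854804dcb1233edb952209d29893ece889f694399049f69fa11f4fd289a7e74807d527e20a87b3b883d8f661587b38f63d953a1ec2208f821ec4138822094c9108420a46a6acf419b06c0c7122826c0fc31747e11fe6c28971f826d9eea1f91738ec8b84fe45d036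1f2845c7148ec7e84711c467a0e280a0f938e27509114dd44126e33a1bd1a6e7995fe3cc4b49e88718fd1b5a6d89ad3d0ed68ba33fc5451e8c694ab63485631a67d18d09d878a18d3cc8d29e66644f30a382a20f30bca4905e22402f21223915240c88390e621c82718e41818721ac61e07832e83c086009903c0c043192820c09528601798930bce16058a0342f405834a511449088a401445bd52b47e88db22867c9b6a1b83151145d18cc330e39998543ccc09282e08cc474c3727ca4f912332ecb88b94f84cbb741685ba11ea7309ba498c7319ca338e651ccc80d266906779642499a4123e7b18ee15887b0dc52b86e10da370c263dc2371fc7428fe40ee2ea0fe42907e9fa81905d39fa86a9fd17427c8ee8175f513f6e90dfb1e94fe0f434352f18f43620f9338e7327c1338ce1342d228f63b94931d865e8a022f4bd05f43b4abd3224605a53302c405813b445b15c21bc39115c5218353bcc72b4223945349de76a0ef,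
  nat_lit 0x839416896a83cde2c1a6d160c3784d909240cc4a289224881712842492084c48518584804853a92759d64378de31d66f04da13106f18ea2f43f11069ba48320d415920720c2c087e20203f0fd00988070fce12b6cc50db66848db31465e50f4af2bc94b65e4ec42f435e5933b14c5257a629081952562976213a4e8caa0e064e9c2430ca911c259157b5ec25616ca5ed7b21d8bd9cb65ed25a94065ec2e305c25184a128e1709411303420941b183612cc2585a60b45030a0169c4b444ae01d453a8dd29ba25905012c62606e512da72b005b05802b14c030082cd803958c02591288cc005a40d82d185c28942d0d821986c513036186e088c360b8a280a011345110a07910a22892c094483c0d42944510c3528825489ca2882b41046e90dd3750261d443a89050982898510acc1589861304c385615842e03441589c61385149d41a18340dcc1b952a0dcaa50a21a28a00d0e1b86850cc3410660808340406198a271384e289a27043706442725254a5a23aec798da2688a8fb045609924b265b203a2a4c5b2366648b44b24c91d7a13c45018c1540c8498cb4a98e318ec731c0828a0395254a11a621054a3694711b40da79051b3b0e8d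95a22b0ac0402c9898d63410032655a9694ad4b5249439903e0f884f93d41545618aa2b4a5514012a9254316c6998b2e4ac595408097a0b16c581f44f8ac41cc94f842419c6720cd28ca6689e5398cd209068a4d45d8acab8c25411c1aecd39cf335125634e83c58d434e66a042541493a4c949c73424e6b1d27348c93aec349d270416b510d23bcab49ac463cd60ad258958f498a739a2a644d43b2267159130c4c8886a33c57499e6920cf34ce67ad2633ce5299e618ccf644102090133ccf040f05296981ccb4b4435a5690410b4a09463d05d0e69499264c166b25a43310d21e65690d32348d201fe3b92a831c15455149ec7c05083e10680ac83e0f839a0a898f8541505af815da0b39ac39a20b654cbb0c2941508420a841d05340282c10a8299519a4ca9cc3688c6198608259509aa6029951592681a02814d652a26b14a43590663fc8358d61b4ebe0cd6810a67342530e071c08618e0781ca72c0e734e07089103a057,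
  nat_lit 0x428ae73466429a33a9e9614764b02d1aa05218c412584304c421924d0649219720a9e432886218e4d10c253d2c3ae48b99725c810990c40b09621104b287225924992c80c09611fc489c9664c6ea3a85449d443608911d4540843922321c87285843a55121d07b10e345d2a090ecc1581660867330a3199831a6cc05276610c797486614f5258a795c65b8a65b1c432c3f298c7f096d5b4ab8ada4420cb4882b6a0c6310a9519085b4c62254950c764a905725496396d51744a292a4e550911c523840190047088020024208052015c2ab8e311635b84e333a23098e13c2a8096e5446ae33e3545512b3e61119f6894cfadc167d5c42a847115c314ace98a268d05298e850cbe0f145f17c1244bb2a206608bb1c825d98e82ec5c19765d9c3c0f0c5d98e92f8be20806298be58cc48126258d630a9a4404c72f424987882f4bd30806290bd0fc862188a310c5518a629cc431424d07c8315194ae07f1561214a8bae0445c91122e8b82030c1448910a24c9339104420722450442b692388e1880471c85534c4290a08448e090617288e6e50d11a0358561520c8229713404b8bc275b971040ab7020680ca42aae84916622aeb8a157224844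91280b42d5116ab988b0fc645906222c4b510845820e0b064210a221084041e25a4db36c86daa8656cff3aa87c8d543f14aa2a816b5ad2b7a6d94e84dca7e8e25489b02afebf88dd6c04bfa8e8385aa0a8ed5993f6ac4d51f266155b130aad05ab48c2deb0a22987e20fc9195b20cd04e1bc5270d8213853049c12506c1380834eb29b10690d80b504514c6228da291453108a5506451b008408a04187410e83a102826e156ca639d0bfa8a66a907213a1284351942508ca2284a6a94285fd7c2142dd14e43908b61aa45f5e1423abb21897012be2f855f57d1148720ca0390427942a0d8e409c22828e4834d0809a61349d506626a8e10ccc19892612610241b08060c3acb0813e529a0c214d0618a6834253244a5e8eb1244c611a7630ec0b1815e58c427a55218c5202d81042520821a8e900ce36e4471b603374e3210471a8f038cc4109c838cda213ebca89f368c4f9d6127d4a52c7070c830fc7072ae231e0f190b07882c,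
  nat_lit 0x5646ad2b2a27159493aac888d51ceaca025174854a02809d5b37d4a39d0137cdf21be3f14df13526f938737ce041be7f99014f0c940e6a4a0873a509421504a087c25015b5281a149408be580a941ae435cd738fe6b848935d0249b0835d564b3a4595566648b038e571cf82b325fa1995c42ccb32271d56198ccc8cf855909d2ac767d99333ecf82175582f0aeca559ce333cdea59e678ad1b3c2674c2133cd005e930d0d0182750d70118260959c30444c9821598c24182d105eb7ad4b73d646edeb3af8b619eb6c8c91244971dc92bbee48de1530ce4a9a47258e1b92e49d5c71ccae2b80859c722baa61dc771c47c39293fdc90b8c8e29c92e08c523652e0b81ad85c08d32e105a97095ecb8396e1d28b82dd45ab2a22dcb72a4e5b88d22dc8c416e6470b70b221d20b72b46bbaee6275770afabb949d6548bbb4c6631254b4c6a11a6698a7934c1629a63b4a790da66c92aeaba6238bd12baae854a5354ae8fe6380e020fe7004e9234a701f66569aa2b56d79547208a6e1d243711e51b8449cdc3a4c6e0fe1370db49b8ad11af29ca539185230da391846108c230c5391a82310e2a1cc815bb6ec473afaa6edbb3afa7219bb1f923f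95051fce849d27494e36e4adfb7e86e8fb237e46895a56d44690412348d215054188d29c85394e727cfb1950c488a8621453950a468a809c61ba0a821108f2c434791e291e8f1c994790373c24479e13338840d4c670684298a2d19c3ae292299c52d4aba96755d9c420882214b2206a5a9a252d4b2934a60561530ab810a4531601a86ce994350d2602864201431b9c5f1543464a3627217490d08f486a9d2424ce6a2c3735d2139ae901fd739286a5e7435cd03ea8681f64bc10ab9a145869322ce90d167d448b0f4a4e51603f63d1d194e40fe23208507a04248c852f7d90e739c75892f4ac498953158887f2c415c0902ac447a56025d24791ea1248f390047848b24044785450ac80505415182a1348150fc80a82a389215044b0ac4153eaa855fb5428c40ddd774acbb2e47753b4a789d90d0220a9da7635c89a1a76d1893c4f046298454f15122783da53b32c29e27891eccb52784b0d6d340a4b29a55c97253463b192c,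
  nat_lit 0x6b0cbc2f00865b80a44c5a9b84e4a9ca7286bde34272c811e36bd0f1bc66781e30bc4f195eb78c6c9302378d87194ebc058761d0a630e43fd873a44c3a5de560cc3a30977d181b90ef0d18744aef3a24779d15364e89d0c7450ac29a8745854a30b819df5c9099a3054cd2e0a6699911946083626457947a22649685184c86f2a642799324a468c29c34c82e836ca4c93623caf309e5794ee2bca1709e54292d6a1e5560646202456158429a8629584b449b26c51e90d2b84e1092d4bca96a0494b52d20eee8219e4348e825c953d2e225e3b952e4b843cba03715d04b7a96a9d47814e83ce670d484b86e1912970cedb386570dc3134c7909c3714ae2a624715c54b8ce2a0f47202e29181204812902409081204c7110280ac8149043ca8814d84e10f274c47941069ba0791e4a140c854315d4a188625b27090ae2a88709c81bbce420ff7212e4b84a3b11b53908b21dd6d8cf13ce9735e23bcef395e779c2eebce2631c413cebc0c9f614abc1e845e17842c2f321784d90e5bcc74d9de4a98f305de6fccd7bba6751d43bc0ad21e0780ab63c016d9e0134a8d89e0524841b5a952549534ea4855c524a41a927719491aac630d49798af3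3cc64c56143ccc609c4710ac63884601c43b16e218f27102c934a8711791bc4f115947890e923e47899452eeca18e16508d132875dd940b765b09946ad0db1b24364d949b42524d93654809b21374d929b26c9c8d3646d535633649e293c4f109e27827513c35bc9e493e4f203427849f95072799622f27e25966594ae32c62e1960b4ecb1592658e8e32c37ad981b2cae955d5288e5a94572dcb1b34e5890572ceb0b8c6585610430e585c74954e5aac66699a2aaecd1d99669083b3434159c0b34b294935948a5aca6249650b3ab2a1e14750b2aaa422d5532ccb72155328a5e178431cbc092c5e0d2a2f145d97892f4bc40785e08762f8e5e19414ecc4199465293b3290209944414ca39966524cb4a8c6520215916431e8b20c9c590491ac88241644a626ea964388a711c44388e239d67104a73890271c683893f2adeb799aa5bc69fade87ad6f0b724c296f4094d83be9615020b0a8114ff408edea043404df1a04ac857f,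
  nat_lit 0x2246a92cca549e942a4a90540548ac22a485b16f22a48a2984610ca9b0816fd8443429f91845f8cd43d276a1a841aad405d7424ad43c4a6dce21b6edb8db86dcec336e1485b72b70dba10d3f48db8f0a4008c1a00800d58400cc320016c5002ab080214f1748802fc95fdbc3afcbf09ee734abf2ea15f8a14afcbf11ec7304f63d80869e83398dfa9cc7b8ee62124731cc4304e60db54502e636a75d49d4aeabaa5595d4aec22835d5d81baeeb951475ced03ae96b9954baeefa9e87a12a43b017a1b51bd8f40da07b10bebd07755e84386e691e876d2df2ee976dee13b66b89a96a4888b52a5c1a93b5eeea1a9680adab4066d5e93378de24e43a54de36aa381bc4354daa4e151d2dab5c66f995435ca01dae6b94a1b5c5521ae11b8d789ae760c8a3b096c1d843a8e99dd87642f73dc9685ee33aae911ee54c8d5aa6a7395343c4a98c896bc2a9982a501404186a011b950043f9f65500e91b7cdf25776f8a9031246f9d92bb2cba51476489cbb286fdd94b74e999d94ad4eaba61755d54b6ceaa1ab44c8eabd2274dd32ba6e9a99e74d2f02b4974d862204c31587618453b0ca79d8642c4c30d877042c32702599ce0a709595386bd49c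27084853822589c247a4acc9c216a6c4de1b62d88db26c4ce0b6274d1b12ac8d8a1723e48d8aaa34ad2b3bbe95859e4ad0918ec44ad3118f03c0d301e129a0f064c8783a663c050b1e109605041e1351a16e7890b42ca9aa1667410b3a5cd1a50b77c4af2bc57855e12d6af108f578eceabc63055e0aaacfa15e5744a228852f544117aa2119d5114afa886201440a96a2219a41d0a22c6257d5f1126af90c157cc47abe155d9942bee795cf73d0d639e34d5d10b9e980d3173c8f33ca64c163439e3c91304c10a52601431ac5260e094f47050b813e348578124290955b4848388f494858523829729344d1296268448d542a689a08da70469138223adc14a3290a9e37754e0a6a11e535411cada135740af23c814d9e41ba0f225227910e3bc82715de3bc8ef194e43089ab8447914e2390e4154e4cc4a729c27454e4202a724854d544629c14c4da529cd605583e4ad62c696b1ac22c89b91b86e067137084d9b84b96dc1d78,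
  nat_lit 0x136635c9b21364d94d726ce70136a5d49b49384da03326c6b994a126d944b66eb21b36ccca0366a76db3228ed99dbe6cc2c1b662381b41366c188a5294a4494a2610a5214a52a97e294c4494a80d8a6414ae5156377c2e5394a761ca12cae50d67729096b94453dca4a04b119ca5146a31022519462a8aa329cf518ed628c46b5460b64a3254a4c12a32681515455266a28881515085a8a46f5454b46db99455544cdb3655999b1256cd919a66d4ebb3673099b3284cd856750d0cdaca259d672abeb3919c59d4d42ce75ad67323c4921675a14492d0235da912d0b415745a0cb9ad075496822feb424d56a12b43b2a6d1740b68ac95b46d06703688731b42290da2582504cda2e846c1a932e88a25746fceba2e8a7b9ed52e6b9a57d5ccec1ae616f9732b52b9a1ec7008b9acc2509422aaaa109385088ab284a1fd423ac0a1051e2010a13403769da1bd0ed15cc7694b2bb477a9da2350ed05157692e02f897687f1282a095895044a028244814152c4a09d535042d4bce85058332a4df29d6758cee3ac776dec53068a09d67b4ef63da67a9d64b28dda1ed6f06f6b404759e923daee15d67644f6bda56f1834376c191aa60c6c22a6560de91bd48a89a867548abb8a579db322ac4a115770e8a8d25455764a2a8a91d77704ebbae086ddc1bb0ee25a26d48ee3a627a9ea2bd2f529557a88de3b886e5ea4bd6b7a5ea]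
noncomputable def A : List (List (ℕ)) := [A_0]
noncomputable def K_0 : List (ℕ) := [nat_lit 0x781c97216a7d19e70a3767da7555e1779dd5a54c6c9a656d6b945e7a45cd7fd605526697aaf91698aaa4f7a29673a50ae9eeaa22a8622189a275d22b57dbf811cb9deb16b1fa92e339b26b85a15a89ae5ee6e93ab29b54e55a9da71bd5cd77575587f957569ba5b5755b9725a28fa3a60c61b96063d99563976b9919edc6a1b821505228049937755dc761dba1e6aa429581dcf832679f67f94a0b935e9b2674a4def489387cdc3b16e66598c54918639d77a97e48dca5958b5353a685945f53953d894d91783d535158f719ab46d4952d1f6359d42d1e4652d4c23e592398e12f90a43952285e92849d7650d957c9809293251dd644542491414f63f5b23b8e93f495d44f13e901d38f2864858a6214a4693551115451785190a471164312b4a92e5fd0e4a5204cd0d4b140475314ed054491340d0443d09421074090140000,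
  nat_lit 0x7f5e571dc5711b86ddb36c5a5691875e56f4d11041af2c2af9a8708866fab12beb42dab5abc896c0876c1a0f07be30dbbaf3bf309bb27ebad9bb46ceb826f672ffadf17a82c8a79e3b2abdb2ec7b7e11a4aef732f5a51b57ded9c0649bdb11c6657ba1d1a5ef478ad77c613bdf028829a599c09c22f6c2a39caa49c68bc52b5a967c6dab88c6bb801bc579b48161e77e5f5c6477e170b56ea7e703c2dfc6ee4184afd9921f911be922c3a6e36bef0fc421c7660eaba1a9e21782a0679312c4e14ad2b09728876a09b8ae4a6673985d2ab2cf966a7ace56bc7048b62c9dadc9a28ca2a4cafdf07db16c56e3a270ec32f07d58458682a05af64ae979ac2b6eddb4ad494ee1662ccb367bb9e7968ea960dc1619517b262b79aa6a68d6b58259d59642d37ad93c16ed669a87417c58991666c6b959768a106815c8c9fb616adaaf00,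
  nat_lit 0xc1afeb62b6a9a9fa16849ea759a66396e5a962558d6348c22e8a62488e228360380a01]
noncomputable def K : List (List (ℕ)) := [K_0]
noncomputable def R_0 : List (Rule) := [Rule.mk (nat_lit 8) (nat_lit 34) (Steps.bwd (nat_lit 8) (Steps.bwd (nat_lit 8) Steps.nil)) (nat_lit 22) (nat_lit 0),
  Rule.mk (nat_lit 1) (nat_lit 46) (Steps.fwd (nat_lit 8192) (Steps.fwd (nat_lit 1024) (Steps.bwd (nat_lit 8) Steps.nil))) (nat_lit 24) (nat_lit 2),
  Rule.mk (nat_lit 6) (nat_lit 46) (Steps.fwd (nat_lit 8192) (Steps.fwd (nat_lit 4096) (Steps.bwd (nat_lit 8) Steps.nil))) (nat_lit 26) (nat_lit 2),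
  Rule.mk (nat_lit 7) (nat_lit 46) (Steps.bwd (nat_lit 8) (Steps.fwd (nat_lit 7168) (Steps.bwd (nat_lit 8) Steps.nil))) (nat_lit 30) (nat_lit 1),
  Rule.mk (nat_lit 4) (nat_lit 58) (Steps.fwd (nat_lit 8192) (Steps.fwd (nat_lit 4096) (Steps.fwd (nat_lit 6144) (Steps.bwd (nat_lit 8) Steps.nil)))) (nat_lit 28) (nat_lit 2),
  Rule.mk (nat_lit 5) (nat_lit 94) (Steps.fwd (nat_lit 8192) (Steps.fwd (nat_lit 1024) (Steps.bwd (nat_lit 2) (Steps.fwd (nat_lit 4096) (Steps.fwd (nat_lit 2048) (Steps.fwd (nat_lit 5120) (Steps.bwd (nat_lit 8) Steps.nil))))))) (nat_lit 34) (nat_lit 2),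
  Rule.mk (nat_lit 4) (nat_lit 58) (Steps.fwd (nat_lit 6144) (Steps.fwd (nat_lit 7168) (Steps.fwd (nat_lit 4096) (Steps.bwd (nat_lit 7) Steps.nil)))) (nat_lit 20) (nat_lit 1),
  Rule.mk (nat_lit 5) (nat_lit 94) (Steps.bwd (nat_lit 8) (Steps.bwd (nat_lit 2) (Steps.fwd (nat_lit 4096) (Steps.fwd (nat_lit 2048) (Steps.fwd (nat_lit 8192) (Steps.fwd (nat_lit 6144) (Steps.fwd (nat_lit 4096) Steps.nil))))))) (nat_lit 32) (nat_lit 0),
  Rule.mk (nat_lit 1) (nat_lit 46) (Steps.bwd (nat_lit 10) (Steps.fwd (nat_lit 1024) (Steps.fwd (nat_lit 10240) Steps.nil))) (nat_lit 38) (nat_lit 0),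
  Rule.mk (nat_lit 7) (nat_lit 46) (Steps.bwd (nat_lit 10) (Steps.fwd (nat_lit 7168) (Steps.fwd (nat_lit 10240) Steps.nil))) (nat_lit 40) (nat_lit 0),
  Rule.mk (nat_lit 2) (nat_lit 94) (Steps.bwd (nat_lit 10) (Steps.fwd (nat_lit 7168) (Steps.fwd (nat_lit 6144) (Steps.fwd (nat_lit 2048) (Steps.fwd (nat_lit 6144) (Steps.fwd (nat_lit 7168) (Steps.fwd (nat_lit 10240) Steps.nil))))))) (nat_lit 46) (nat_lit 1),
  Rule.mk (nat_lit 8) (nat_lit 46) (Steps.bwd (nat_lit 10) (Steps.fwd (nat_lit 8192) (Steps.fwd (nat_lit 10240) Steps.nil))) (nat_lit 42) (nat_lit 2),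
  Rule.mk (nat_lit 4) (nat_lit 94) (Steps.bwd (nat_lit 3) (Steps.fwd (nat_lit 8192) (Steps.fwd (nat_lit 6144) (Steps.fwd (nat_lit 4096) (Steps.fwd (nat_lit 5120) (Steps.bwd (nat_lit 8) (Steps.fwd (nat_lit 3072) Steps.nil))))))) (nat_lit 32) (nat_lit 3),
  Rule.mk (nat_lit 3) (nat_lit 94) (Steps.bwd (nat_lit 6) (Steps.fwd (nat_lit 7168) (Steps.bwd (nat_lit 10) (Steps.bwd (nat_lit 2) (Steps.fwd (nat_lit 10240) (Steps.fwd (nat_lit 7168) (Steps.fwd (nat_lit 6144) Steps.nil))))))) (nat_lit 46) (nat_lit 5),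
  Rule.mk (nat_lit 10) (nat_lit 106) (Steps.bwd (nat_lit 7) (Steps.bwd (nat_lit 6) (Steps.bwd (nat_lit 10) (Steps.fwd (nat_lit 7168) (Steps.fwd (nat_lit 6144) (Steps.fwd (nat_lit 10240) (Steps.fwd (nat_lit 7168) (Steps.fwd (nat_lit 6144) Steps.nil)))))))) (nat_lit 44) (nat_lit 1),
  Rule.mk (nat_lit 2) (nat_lit 34) (Steps.bwd (nat_lit 2) (Steps.bwd (nat_lit 2) Steps.nil)) (nat_lit 10) (nat_lit 0),
  Rule.mk (nat_lit 1) (nat_lit 46) (Steps.bwd (nat_lit 3) (Steps.bwd (nat_lit 7) (Steps.bwd (nat_lit 2) Steps.nil))) (nat_lit 12) (nat_lit 1),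
  Rule.mk (nat_lit 5) (nat_lit 46) (Steps.bwd (nat_lit 2) (Steps.fwd (nat_lit 5120) (Steps.bwd (nat_lit 2) Steps.nil))) (nat_lit 14) (nat_lit 0),
  Rule.mk (nat_lit 7) (nat_lit 58) (Steps.fwd (nat_lit 2048) (Steps.fwd (nat_lit 1024) (Steps.bwd (nat_lit 2) (Steps.bwd (nat_lit 1) Steps.nil)))) (nat_lit 16) (nat_lit 4),
  Rule.mk (nat_lit 4) (nat_lit 94) (Steps.fwd (nat_lit 2048) (Steps.fwd (nat_lit 8192) (Steps.fwd (nat_lit 6144) (Steps.fwd (nat_lit 4096) (Steps.fwd (nat_lit 5120) (Steps.bwd (nat_lit 8) (Steps.bwd (nat_lit 2) Steps.nil))))))) (nat_lit 32) (nat_lit 3),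
  Rule.mk (nat_lit 6) (nat_lit 58) (Steps.bwd (nat_lit 7) (Steps.fwd (nat_lit 4096) (Steps.fwd (nat_lit 7168) (Steps.fwd (nat_lit 4096) Steps.nil)))) (nat_lit 20) (nat_lit 2),
  Rule.mk (nat_lit 6) (nat_lit 58) (Steps.fwd (nat_lit 7168) (Steps.fwd (nat_lit 4096) (Steps.bwd (nat_lit 7) (Steps.fwd (nat_lit 4096) Steps.nil)))) (nat_lit 20) (nat_lit 2),
  Rule.mk (nat_lit 7) (nat_lit 46) (Steps.bwd (nat_lit 2) (Steps.fwd (nat_lit 1024) (Steps.fwd (nat_lit 2048) Steps.nil))) (nat_lit 12) (nat_lit 3),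
  Rule.mk (nat_lit 9) (nat_lit 46) (Steps.bwd (nat_lit 10) (Steps.bwd (nat_lit 8) (Steps.fwd (nat_lit 10240) Steps.nil))) (nat_lit 42) (nat_lit 0),
  Rule.mk (nat_lit 10) (nat_lit 94) (Steps.bwd (nat_lit 7) (Steps.bwd (nat_lit 6) (Steps.bwd (nat_lit 3) (Steps.bwd (nat_lit 6) (Steps.bwd (nat_lit 7) (Steps.bwd (nat_lit 10) (Steps.bwd (nat_lit 2) Steps.nil))))))) (nat_lit 46) (nat_lit 2),
  Rule.mk (nat_lit 10) (nat_lit 46) (Steps.bwd (nat_lit 7) (Steps.bwd (nat_lit 10) (Steps.bwd (nat_lit 7) Steps.nil))) (nat_lit 40) (nat_lit 1),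
  Rule.mk (nat_lit 3) (nat_lit 94) (Steps.bwd (nat_lit 10) (Steps.fwd (nat_lit 7168) (Steps.fwd (nat_lit 6144) (Steps.fwd (nat_lit 3072) (Steps.fwd (nat_lit 6144) (Steps.bwd (nat_lit 7) (Steps.bwd (nat_lit 10) Steps.nil))))))) (nat_lit 47) (nat_lit 0),
  Rule.mk (nat_lit 1) (nat_lit 46) (Steps.fwd (nat_lit 10240) (Steps.bwd (nat_lit 1) (Steps.fwd (nat_lit 10240) Steps.nil))) (nat_lit 38) (nat_lit 0),
  Rule.mk (nat_lit 2) (nat_lit 46) (Steps.bwd (nat_lit 1) (Steps.bwd (nat_lit 3) (Steps.fwd (nat_lit 7168) Steps.nil))) (nat_lit 12) (nat_lit 0),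
  Rule.mk (nat_lit 10) (nat_lit 106) (Steps.bwd (nat_lit 7) (Steps.bwd (nat_lit 6) (Steps.bwd (nat_lit 10) (Steps.bwd (nat_lit 7) (Steps.fwd (nat_lit 6144) (Steps.fwd (nat_lit 10240) (Steps.fwd (nat_lit 7168) (Steps.fwd (nat_lit 6144) Steps.nil)))))))) (nat_lit 44) (nat_lit 1),
  Rule.mk (nat_lit 2) (nat_lit 34) (Steps.bwd (nat_lit 2) (Steps.fwd (nat_lit 3072) Steps.nil)) (nat_lit 10) (nat_lit 0),
  Rule.mk (nat_lit 1) (nat_lit 46) (Steps.fwd (nat_lit 2048) (Steps.fwd (nat_lit 7168) (Steps.bwd (nat_lit 2) Steps.nil))) (nat_lit 12) (nat_lit 1),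
  Rule.mk (nat_lit 7) (nat_lit 58) (Steps.bwd (nat_lit 1) (Steps.fwd (nat_lit 2048) (Steps.bwd (nat_lit 1) (Steps.bwd (nat_lit 2) Steps.nil)))) (nat_lit 17) (nat_lit 2),
  Rule.mk (nat_lit 5) (nat_lit 58) (Steps.bwd (nat_lit 1) (Steps.fwd (nat_lit 5120) (Steps.bwd (nat_lit 1) (Steps.fwd (nat_lit 4096) Steps.nil)))) (nat_lit 18) (nat_lit 3),
  Rule.mk (nat_lit 4) (nat_lit 58) (Steps.fwd (nat_lit 5120) (Steps.bwd (nat_lit 1) (Steps.bwd (nat_lit 5) (Steps.bwd (nat_lit 1) Steps.nil)))) (nat_lit 18) (nat_lit 2),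
  Rule.mk (nat_lit 4) (nat_lit 58) (Steps.bwd (nat_lit 1) (Steps.fwd (nat_lit 5120) (Steps.bwd (nat_lit 1) (Steps.bwd (nat_lit 5) Steps.nil)))) (nat_lit 19) (nat_lit 4),
  Rule.mk (nat_lit 6) (nat_lit 58) (Steps.fwd (nat_lit 7168) (Steps.fwd (nat_lit 4096) (Steps.fwd (nat_lit 7168) (Steps.fwd (nat_lit 4096) Steps.nil)))) (nat_lit 20) (nat_lit 2),
  Rule.mk (nat_lit 6) (nat_lit 94) (Steps.bwd (nat_lit 3) (Steps.bwd (nat_lit 6) (Steps.fwd (nat_lit 7168) (Steps.bwd (nat_lit 10) (Steps.fwd (nat_lit 3072) (Steps.fwd (nat_lit 10240) (Steps.fwd (nat_lit 7168) Steps.nil))))))) (nat_lit 46) (nat_lit 4),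
  Rule.mk (nat_lit 2) (nat_lit 46) (Steps.bwd (nat_lit 5) (Steps.bwd (nat_lit 2) (Steps.fwd (nat_lit 5120) Steps.nil))) (nat_lit 14) (nat_lit 1),
  Rule.mk (nat_lit 9) (nat_lit 46) (Steps.bwd (nat_lit 4) (Steps.bwd (nat_lit 8) (Steps.fwd (nat_lit 6144) Steps.nil))) (nat_lit 26) (nat_lit 3),
  Rule.mk (nat_lit 5) (nat_lit 58) (Steps.bwd (nat_lit 1) (Steps.bwd (nat_lit 5) (Steps.fwd (nat_lit 1024) (Steps.fwd (nat_lit 4096) Steps.nil)))) (nat_lit 18) (nat_lit 3),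
  Rule.mk (nat_lit 1) (nat_lit 58) (Steps.bwd (nat_lit 5) (Steps.bwd (nat_lit 1) (Steps.bwd (nat_lit 5) (Steps.fwd (nat_lit 4096) Steps.nil)))) (nat_lit 19) (nat_lit 0),
  Rule.mk (nat_lit 4) (nat_lit 58) (Steps.fwd (nat_lit 5120) (Steps.fwd (nat_lit 1024) (Steps.bwd (nat_lit 5) (Steps.bwd (nat_lit 1) Steps.nil)))) (nat_lit 18) (nat_lit 2),
  Rule.mk (nat_lit 1) (nat_lit 46) (Steps.bwd (nat_lit 9) (Steps.fwd (nat_lit 1024) (Steps.fwd (nat_lit 9216) Steps.nil))) (nat_lit 24) (nat_lit 2),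
  Rule.mk (nat_lit 1) (nat_lit 46) (Steps.fwd (nat_lit 10240) (Steps.fwd (nat_lit 1024) (Steps.bwd (nat_lit 10) Steps.nil))) (nat_lit 38) (nat_lit 0),
  Rule.mk (nat_lit 6) (nat_lit 58) (Steps.bwd (nat_lit 7) (Steps.bwd (nat_lit 4) (Steps.fwd (nat_lit 7168) (Steps.fwd (nat_lit 4096) Steps.nil)))) (nat_lit 20) (nat_lit 2),
  Rule.mk (nat_lit 8) (nat_lit 46) (Steps.bwd (nat_lit 7) (Steps.fwd (nat_lit 9216) (Steps.fwd (nat_lit 7168) Steps.nil))) (nat_lit 30) (nat_lit 0),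
  Rule.mk (nat_lit 4) (nat_lit 58) (Steps.bwd (nat_lit 7) (Steps.bwd (nat_lit 4) (Steps.fwd (nat_lit 6144) (Steps.fwd (nat_lit 7168) Steps.nil)))) (nat_lit 20) (nat_lit 4),
  Rule.mk (nat_lit 0) (nat_lit 70) (Steps.bwd (nat_lit 4) (Steps.fwd (nat_lit 6144) (Steps.fwd (nat_lit 7168) (Steps.fwd (nat_lit 4096) (Steps.bwd (nat_lit 7) Steps.nil))))) (nat_lit 20) (nat_lit 0),
  Rule.mk (nat_lit 4) (nat_lit 34) (Steps.bwd (nat_lit 0) (Steps.bwd (nat_lit 4) Steps.nil)) (nat_lit 48) (nat_lit 0),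
  Rule.mk (nat_lit 7) (nat_lit 34) (Steps.bwd (nat_lit 0) (Steps.bwd (nat_lit 7) Steps.nil)) (nat_lit 48) (nat_lit 0),
  Rule.mk (nat_lit 10) (nat_lit 34) (Steps.bwd (nat_lit 0) (Steps.fwd (nat_lit 10240) Steps.nil)) (nat_lit 48) (nat_lit 0),
  Rule.mk (nat_lit 1) (nat_lit 46) (Steps.bwd (nat_lit 3) (Steps.fwd (nat_lit 7168) (Steps.fwd (nat_lit 3072) Steps.nil))) (nat_lit 12) (nat_lit 1),
  Rule.mk (nat_lit 4) (nat_lit 58) (Steps.bwd (nat_lit 9) (Steps.bwd (nat_lit 4) (Steps.bwd (nat_lit 6) (Steps.bwd (nat_lit 8) Steps.nil)))) (nat_lit 28) (nat_lit 2),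
  Rule.mk (nat_lit 8) (nat_lit 46) (Steps.bwd (nat_lit 6) (Steps.fwd (nat_lit 8192) (Steps.bwd (nat_lit 4) Steps.nil))) (nat_lit 26) (nat_lit 1),
  Rule.mk (nat_lit 0) (nat_lit 46) (Steps.fwd (nat_lit 8192) (Steps.bwd (nat_lit 9) (Steps.fwd (nat_lit 8192) Steps.nil))) (nat_lit 23) (nat_lit 0),
  Rule.mk (nat_lit 3) (nat_lit 34) (Steps.bwd (nat_lit 0) (Steps.fwd (nat_lit 3072) Steps.nil)) (nat_lit 48) (nat_lit 0),
  Rule.mk (nat_lit 6) (nat_lit 34) (Steps.bwd (nat_lit 0) (Steps.bwd (nat_lit 6) Steps.nil)) (nat_lit 48) (nat_lit 0),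
  Rule.mk (nat_lit 8) (nat_lit 34) (Steps.bwd (nat_lit 0) (Steps.fwd (nat_lit 8192) Steps.nil)) (nat_lit 48) (nat_lit 0),
  Rule.mk (nat_lit 1) (nat_lit 46) (Steps.bwd (nat_lit 8) (Steps.fwd (nat_lit 1024) (Steps.fwd (nat_lit 8192) Steps.nil))) (nat_lit 24) (nat_lit 0),
  Rule.mk (nat_lit 10) (nat_lit 46) (Steps.bwd (nat_lit 8) (Steps.fwd (nat_lit 10240) (Steps.bwd (nat_lit 9) Steps.nil))) (nat_lit 42) (nat_lit 1),
  Rule.mk (nat_lit 1) (nat_lit 46) (Steps.bwd (nat_lit 3) (Steps.bwd (nat_lit 7) (Steps.fwd (nat_lit 3072) Steps.nil))) (nat_lit 12) (nat_lit 1),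
  Rule.mk (nat_lit 7) (nat_lit 58) (Steps.bwd (nat_lit 3) (Steps.fwd (nat_lit 1024) (Steps.fwd (nat_lit 3072) (Steps.fwd (nat_lit 1024) Steps.nil)))) (nat_lit 16) (nat_lit 4),
  Rule.mk (nat_lit 10) (nat_lit 94) (Steps.bwd (nat_lit 3) (Steps.fwd (nat_lit 10240) (Steps.fwd (nat_lit 7168) (Steps.fwd (nat_lit 6144) (Steps.fwd (nat_lit 3072) (Steps.bwd (nat_lit 6) (Steps.fwd (nat_lit 7168) Steps.nil))))))) (nat_lit 47) (nat_lit 7)]
noncomputable def R_1 : List (Rule) := [Rule.mk (nat_lit 4) (nat_lit 94) (Steps.bwd (nat_lit 3) (Steps.bwd (nat_lit 9) (Steps.bwd (nat_lit 6) (Steps.fwd (nat_lit 4096) (Steps.bwd (nat_lit 5) (Steps.bwd (nat_lit 8) (Steps.bwd (nat_lit 2) Steps.nil))))))) (nat_lit 32) (nat_lit 3),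
  Rule.mk (nat_lit 5) (nat_lit 94) (Steps.bwd (nat_lit 4) (Steps.bwd (nat_lit 6) (Steps.bwd (nat_lit 8) (Steps.bwd (nat_lit 2) (Steps.bwd (nat_lit 4) (Steps.bwd (nat_lit 3) (Steps.bwd (nat_lit 9) Steps.nil))))))) (nat_lit 33) (nat_lit 1),
  Rule.mk (nat_lit 5) (nat_lit 94) (Steps.bwd (nat_lit 9) (Steps.bwd (nat_lit 1) (Steps.bwd (nat_lit 2) (Steps.fwd (nat_lit 4096) (Steps.fwd (nat_lit 2048) (Steps.bwd (nat_lit 5) (Steps.bwd (nat_lit 8) Steps.nil))))))) (nat_lit 34) (nat_lit 2),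
  Rule.mk (nat_lit 7) (nat_lit 46) (Steps.bwd (nat_lit 2) (Steps.bwd (nat_lit 1) (Steps.fwd (nat_lit 2048) Steps.nil))) (nat_lit 12) (nat_lit 3),
  Rule.mk (nat_lit 3) (nat_lit 58) (Steps.bwd (nat_lit 1) (Steps.bwd (nat_lit 2) (Steps.bwd (nat_lit 1) (Steps.bwd (nat_lit 7) Steps.nil)))) (nat_lit 16) (nat_lit 0),
  Rule.mk (nat_lit 7) (nat_lit 58) (Steps.bwd (nat_lit 1) (Steps.bwd (nat_lit 3) (Steps.bwd (nat_lit 1) (Steps.bwd (nat_lit 2) Steps.nil)))) (nat_lit 17) (nat_lit 2),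
  Rule.mk (nat_lit 3) (nat_lit 46) (Steps.bwd (nat_lit 7) (Steps.fwd (nat_lit 3072) (Steps.fwd (nat_lit 1024) Steps.nil))) (nat_lit 12) (nat_lit 2),
  Rule.mk (nat_lit 10) (nat_lit 94) (Steps.fwd (nat_lit 7168) (Steps.fwd (nat_lit 6144) (Steps.fwd (nat_lit 2048) (Steps.fwd (nat_lit 6144) (Steps.fwd (nat_lit 7168) (Steps.fwd (nat_lit 10240) (Steps.bwd (nat_lit 2) Steps.nil))))))) (nat_lit 46) (nat_lit 2),
  Rule.mk (nat_lit 5) (nat_lit 58) (Steps.bwd (nat_lit 1) (Steps.fwd (nat_lit 5120) (Steps.fwd (nat_lit 1024) (Steps.bwd (nat_lit 4) Steps.nil)))) (nat_lit 18) (nat_lit 3),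
  Rule.mk (nat_lit 8) (nat_lit 46) (Steps.bwd (nat_lit 1) (Steps.bwd (nat_lit 9) (Steps.bwd (nat_lit 1) Steps.nil))) (nat_lit 24) (nat_lit 1),
  Rule.mk (nat_lit 6) (nat_lit 58) (Steps.bwd (nat_lit 7) (Steps.bwd (nat_lit 4) (Steps.fwd (nat_lit 7168) (Steps.bwd (nat_lit 4) Steps.nil)))) (nat_lit 20) (nat_lit 2),
  Rule.mk (nat_lit 9) (nat_lit 46) (Steps.fwd (nat_lit 4096) (Steps.fwd (nat_lit 9216) (Steps.bwd (nat_lit 6) Steps.nil))) (nat_lit 26) (nat_lit 3),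
  Rule.mk (nat_lit 8) (nat_lit 58) (Steps.bwd (nat_lit 4) (Steps.fwd (nat_lit 8192) (Steps.bwd (nat_lit 4) (Steps.bwd (nat_lit 6) Steps.nil)))) (nat_lit 28) (nat_lit 1),
  Rule.mk (nat_lit 8) (nat_lit 34) (Steps.fwd (nat_lit 9216) (Steps.bwd (nat_lit 8) Steps.nil)) (nat_lit 22) (nat_lit 0),
  Rule.mk (nat_lit 4) (nat_lit 58) (Steps.bwd (nat_lit 8) (Steps.bwd (nat_lit 4) (Steps.fwd (nat_lit 8192) (Steps.fwd (nat_lit 6144) Steps.nil)))) (nat_lit 29) (nat_lit 2),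
  Rule.mk (nat_lit 10) (nat_lit 46) (Steps.bwd (nat_lit 8) (Steps.fwd (nat_lit 10240) (Steps.fwd (nat_lit 8192) Steps.nil))) (nat_lit 42) (nat_lit 1),
  Rule.mk (nat_lit 10) (nat_lit 46) (Steps.bwd (nat_lit 7) (Steps.fwd (nat_lit 10240) (Steps.fwd (nat_lit 7168) Steps.nil))) (nat_lit 40) (nat_lit 1),
  Rule.mk (nat_lit 4) (nat_lit 94) (Steps.bwd (nat_lit 3) (Steps.bwd (nat_lit 9) (Steps.bwd (nat_lit 6) (Steps.fwd (nat_lit 4096) (Steps.fwd (nat_lit 5120) (Steps.bwd (nat_lit 8) (Steps.fwd (nat_lit 3072) Steps.nil))))))) (nat_lit 32) (nat_lit 3),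
  Rule.mk (nat_lit 5) (nat_lit 94) (Steps.fwd (nat_lit 4096) (Steps.bwd (nat_lit 6) (Steps.bwd (nat_lit 8) (Steps.fwd (nat_lit 3072) (Steps.bwd (nat_lit 4) (Steps.bwd (nat_lit 3) (Steps.bwd (nat_lit 9) Steps.nil))))))) (nat_lit 33) (nat_lit 1),
  Rule.mk (nat_lit 5) (nat_lit 94) (Steps.bwd (nat_lit 9) (Steps.bwd (nat_lit 1) (Steps.bwd (nat_lit 2) (Steps.bwd (nat_lit 4) (Steps.bwd (nat_lit 3) (Steps.fwd (nat_lit 5120) (Steps.bwd (nat_lit 8) Steps.nil))))))) (nat_lit 34) (nat_lit 2),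
  Rule.mk (nat_lit 5) (nat_lit 94) (Steps.fwd (nat_lit 3072) (Steps.fwd (nat_lit 4096) (Steps.fwd (nat_lit 2048) (Steps.fwd (nat_lit 1024) (Steps.bwd (nat_lit 8) (Steps.bwd (nat_lit 5) (Steps.bwd (nat_lit 9) Steps.nil))))))) (nat_lit 35) (nat_lit 1),
  Rule.mk (nat_lit 3) (nat_lit 34) (Steps.bwd (nat_lit 3) (Steps.fwd (nat_lit 2048) Steps.nil)) (nat_lit 11) (nat_lit 0),
  Rule.mk (nat_lit 5) (nat_lit 46) (Steps.bwd (nat_lit 3) (Steps.fwd (nat_lit 5120) (Steps.fwd (nat_lit 2048) Steps.nil))) (nat_lit 15) (nat_lit 1),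
  Rule.mk (nat_lit 1) (nat_lit 46) (Steps.bwd (nat_lit 9) (Steps.bwd (nat_lit 1) (Steps.bwd (nat_lit 8) Steps.nil))) (nat_lit 24) (nat_lit 2),
  Rule.mk (nat_lit 6) (nat_lit 46) (Steps.bwd (nat_lit 9) (Steps.fwd (nat_lit 4096) (Steps.fwd (nat_lit 9216) Steps.nil))) (nat_lit 26) (nat_lit 2),
  Rule.mk (nat_lit 7) (nat_lit 46) (Steps.bwd (nat_lit 9) (Steps.fwd (nat_lit 7168) (Steps.fwd (nat_lit 8192) Steps.nil))) (nat_lit 31) (nat_lit 0),
  Rule.mk (nat_lit 4) (nat_lit 58) (Steps.bwd (nat_lit 9) (Steps.fwd (nat_lit 4096) (Steps.fwd (nat_lit 6144) (Steps.fwd (nat_lit 9216) Steps.nil)))) (nat_lit 28) (nat_lit 2),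
  Rule.mk (nat_lit 2) (nat_lit 94) (Steps.bwd (nat_lit 4) (Steps.bwd (nat_lit 3) (Steps.bwd (nat_lit 9) (Steps.fwd (nat_lit 6144) (Steps.fwd (nat_lit 4096) (Steps.fwd (nat_lit 5120) (Steps.bwd (nat_lit 8) Steps.nil))))))) (nat_lit 32) (nat_lit 2),
  Rule.mk (nat_lit 5) (nat_lit 94) (Steps.bwd (nat_lit 9) (Steps.bwd (nat_lit 1) (Steps.bwd (nat_lit 2) (Steps.fwd (nat_lit 4096) (Steps.fwd (nat_lit 2048) (Steps.fwd (nat_lit 5120) (Steps.fwd (nat_lit 9216) Steps.nil))))))) (nat_lit 34) (nat_lit 2),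
  Rule.mk (nat_lit 5) (nat_lit 94) (Steps.bwd (nat_lit 9) (Steps.fwd (nat_lit 1024) (Steps.bwd (nat_lit 2) (Steps.fwd (nat_lit 4096) (Steps.fwd (nat_lit 2048) (Steps.fwd (nat_lit 5120) (Steps.bwd (nat_lit 8) Steps.nil))))))) (nat_lit 34) (nat_lit 2),
  Rule.mk (nat_lit 1) (nat_lit 58) (Steps.fwd (nat_lit 4096) (Steps.fwd (nat_lit 5120) (Steps.fwd (nat_lit 1024) (Steps.bwd (nat_lit 5) Steps.nil)))) (nat_lit 18) (nat_lit 1),
  Rule.mk (nat_lit 4) (nat_lit 58) (Steps.bwd (nat_lit 1) (Steps.fwd (nat_lit 5120) (Steps.fwd (nat_lit 1024) (Steps.bwd (nat_lit 5) Steps.nil)))) (nat_lit 19) (nat_lit 4),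
  Rule.mk (nat_lit 10) (nat_lit 94) (Steps.bwd (nat_lit 7) (Steps.bwd (nat_lit 6) (Steps.bwd (nat_lit 3) (Steps.fwd (nat_lit 6144) (Steps.bwd (nat_lit 7) (Steps.bwd (nat_lit 10) (Steps.bwd (nat_lit 2) Steps.nil))))))) (nat_lit 46) (nat_lit 2),
  Rule.mk (nat_lit 1) (nat_lit 46) (Steps.bwd (nat_lit 10) (Steps.fwd (nat_lit 1024) (Steps.bwd (nat_lit 10) Steps.nil))) (nat_lit 38) (nat_lit 0),
  Rule.mk (nat_lit 0) (nat_lit 58) (Steps.fwd (nat_lit 10240) (Steps.fwd (nat_lit 7168) (Steps.bwd (nat_lit 10) (Steps.bwd (nat_lit 7) Steps.nil)))) (nat_lit 40) (nat_lit 0),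
  Rule.mk (nat_lit 1) (nat_lit 34) (Steps.bwd (nat_lit 0) (Steps.bwd (nat_lit 1) Steps.nil)) (nat_lit 48) (nat_lit 0),
  Rule.mk (nat_lit 2) (nat_lit 94) (Steps.bwd (nat_lit 10) (Steps.fwd (nat_lit 7168) (Steps.fwd (nat_lit 6144) (Steps.fwd (nat_lit 2048) (Steps.fwd (nat_lit 6144) (Steps.fwd (nat_lit 7168) (Steps.bwd (nat_lit 10) Steps.nil))))))) (nat_lit 46) (nat_lit 1),
  Rule.mk (nat_lit 3) (nat_lit 94) (Steps.fwd (nat_lit 10240) (Steps.fwd (nat_lit 7168) (Steps.fwd (nat_lit 6144) (Steps.bwd (nat_lit 2) (Steps.fwd (nat_lit 6144) (Steps.fwd (nat_lit 7168) (Steps.bwd (nat_lit 10) Steps.nil))))))) (nat_lit 47) (nat_lit 0),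
  Rule.mk (nat_lit 2) (nat_lit 94) (Steps.fwd (nat_lit 6144) (Steps.fwd (nat_lit 7168) (Steps.bwd (nat_lit 10) (Steps.fwd (nat_lit 2048) (Steps.bwd (nat_lit 10) (Steps.fwd (nat_lit 7168) (Steps.bwd (nat_lit 6) Steps.nil))))))) (nat_lit 47) (nat_lit 4),
  Rule.mk (nat_lit 10) (nat_lit 94) (Steps.bwd (nat_lit 2) (Steps.fwd (nat_lit 10240) (Steps.fwd (nat_lit 7168) (Steps.fwd (nat_lit 6144) (Steps.fwd (nat_lit 2048) (Steps.bwd (nat_lit 6) (Steps.fwd (nat_lit 7168) Steps.nil))))))) (nat_lit 46) (nat_lit 0),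
  Rule.mk (nat_lit 2) (nat_lit 46) (Steps.bwd (nat_lit 5) (Steps.fwd (nat_lit 3072) (Steps.fwd (nat_lit 5120) Steps.nil))) (nat_lit 14) (nat_lit 1),
  Rule.mk (nat_lit 1) (nat_lit 58) (Steps.bwd (nat_lit 5) (Steps.fwd (nat_lit 1024) (Steps.fwd (nat_lit 4096) (Steps.fwd (nat_lit 5120) Steps.nil)))) (nat_lit 18) (nat_lit 4),
  Rule.mk (nat_lit 4) (nat_lit 58) (Steps.bwd (nat_lit 5) (Steps.fwd (nat_lit 1024) (Steps.fwd (nat_lit 5120) (Steps.fwd (nat_lit 1024) Steps.nil)))) (nat_lit 18) (nat_lit 2),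
  Rule.mk (nat_lit 2) (nat_lit 94) (Steps.bwd (nat_lit 4) (Steps.bwd (nat_lit 3) (Steps.bwd (nat_lit 9) (Steps.fwd (nat_lit 6144) (Steps.bwd (nat_lit 4) (Steps.bwd (nat_lit 5) (Steps.fwd (nat_lit 9216) Steps.nil))))))) (nat_lit 32) (nat_lit 2),
  Rule.mk (nat_lit 9) (nat_lit 94) (Steps.bwd (nat_lit 1) (Steps.bwd (nat_lit 2) (Steps.bwd (nat_lit 4) (Steps.fwd (nat_lit 2048) (Steps.bwd (nat_lit 5) (Steps.fwd (nat_lit 9216) (Steps.fwd (nat_lit 5120) Steps.nil))))))) (nat_lit 34) (nat_lit 3),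
  Rule.mk (nat_lit 9) (nat_lit 34) (Steps.bwd (nat_lit 9) (Steps.bwd (nat_lit 9) Steps.nil)) (nat_lit 23) (nat_lit 0),
  Rule.mk (nat_lit 4) (nat_lit 46) (Steps.bwd (nat_lit 8) (Steps.fwd (nat_lit 6144) (Steps.bwd (nat_lit 9) Steps.nil))) (nat_lit 26) (nat_lit 0),
  Rule.mk (nat_lit 7) (nat_lit 58) (Steps.bwd (nat_lit 4) (Steps.fwd (nat_lit 7168) (Steps.bwd (nat_lit 4) (Steps.fwd (nat_lit 6144) Steps.nil)))) (nat_lit 20) (nat_lit 3),
  Rule.mk (nat_lit 6) (nat_lit 58) (Steps.bwd (nat_lit 4) (Steps.fwd (nat_lit 7168) (Steps.bwd (nat_lit 4) (Steps.bwd (nat_lit 7) Steps.nil)))) (nat_lit 21) (nat_lit 4),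
  Rule.mk (nat_lit 6) (nat_lit 58) (Steps.fwd (nat_lit 4096) (Steps.bwd (nat_lit 7) (Steps.bwd (nat_lit 4) (Steps.fwd (nat_lit 7168) Steps.nil)))) (nat_lit 21) (nat_lit 4),
  Rule.mk (nat_lit 2) (nat_lit 94) (Steps.bwd (nat_lit 4) (Steps.bwd (nat_lit 3) (Steps.bwd (nat_lit 1) (Steps.bwd (nat_lit 8) (Steps.fwd (nat_lit 5120) (Steps.bwd (nat_lit 9) (Steps.fwd (nat_lit 5120) Steps.nil))))))) (nat_lit 35) (nat_lit 2),
  Rule.mk (nat_lit 4) (nat_lit 58) (Steps.bwd (nat_lit 7) (Steps.fwd (nat_lit 4096) (Steps.bwd (nat_lit 6) (Steps.bwd (nat_lit 7) Steps.nil)))) (nat_lit 20) (nat_lit 4),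
  Rule.mk (nat_lit 6) (nat_lit 58) (Steps.bwd (nat_lit 7) (Steps.fwd (nat_lit 4096) (Steps.bwd (nat_lit 7) (Steps.bwd (nat_lit 4) Steps.nil)))) (nat_lit 20) (nat_lit 2),
  Rule.mk (nat_lit 7) (nat_lit 46) (Steps.bwd (nat_lit 9) (Steps.bwd (nat_lit 7) (Steps.bwd (nat_lit 9) Steps.nil))) (nat_lit 31) (nat_lit 0),
  Rule.mk (nat_lit 8) (nat_lit 34) (Steps.bwd (nat_lit 8) (Steps.fwd (nat_lit 9216) Steps.nil)) (nat_lit 22) (nat_lit 0),
  Rule.mk (nat_lit 5) (nat_lit 94) (Steps.fwd (nat_lit 8192) (Steps.bwd (nat_lit 1) (Steps.fwd (nat_lit 3072) (Steps.fwd (nat_lit 4096) (Steps.fwd (nat_lit 2048) (Steps.bwd (nat_lit 5) (Steps.bwd (nat_lit 8) Steps.nil))))))) (nat_lit 34) (nat_lit 2),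
  Rule.mk (nat_lit 7) (nat_lit 46) (Steps.bwd (nat_lit 8) (Steps.fwd (nat_lit 7168) (Steps.fwd (nat_lit 9216) Steps.nil))) (nat_lit 30) (nat_lit 1),
  Rule.mk (nat_lit 8) (nat_lit 46) (Steps.bwd (nat_lit 10) (Steps.bwd (nat_lit 9) (Steps.fwd (nat_lit 10240) Steps.nil))) (nat_lit 42) (nat_lit 2),
  Rule.mk (nat_lit 2) (nat_lit 94) (Steps.bwd (nat_lit 4) (Steps.bwd (nat_lit 3) (Steps.bwd (nat_lit 9) (Steps.fwd (nat_lit 6144) (Steps.fwd (nat_lit 4096) (Steps.bwd (nat_lit 5) (Steps.fwd (nat_lit 9216) Steps.nil))))))) (nat_lit 32) (nat_lit 2),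
  Rule.mk (nat_lit 3) (nat_lit 34) (Steps.bwd (nat_lit 3) (Steps.bwd (nat_lit 3) Steps.nil)) (nat_lit 11) (nat_lit 0),
  Rule.mk (nat_lit 7) (nat_lit 46) (Steps.fwd (nat_lit 3072) (Steps.fwd (nat_lit 1024) (Steps.bwd (nat_lit 3) Steps.nil))) (nat_lit 12) (nat_lit 3),
  Rule.mk (nat_lit 1) (nat_lit 58) (Steps.bwd (nat_lit 2) (Steps.fwd (nat_lit 1024) (Steps.bwd (nat_lit 7) (Steps.bwd (nat_lit 3) Steps.nil)))) (nat_lit 16) (nat_lit 1),
  Rule.mk (nat_lit 10) (nat_lit 94) (Steps.fwd (nat_lit 7168) (Steps.bwd (nat_lit 6) (Steps.bwd (nat_lit 2) (Steps.fwd (nat_lit 6144) (Steps.fwd (nat_lit 7168) (Steps.fwd (nat_lit 10240) (Steps.bwd (nat_lit 3) Steps.nil))))))) (nat_lit 47) (nat_lit 1),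
  Rule.mk (nat_lit 1) (nat_lit 46) (Steps.fwd (nat_lit 8192) (Steps.bwd (nat_lit 1) (Steps.bwd (nat_lit 8) Steps.nil))) (nat_lit 24) (nat_lit 2)]
noncomputable def R_2 : List (Rule) := [Rule.mk (nat_lit 7) (nat_lit 46) (Steps.bwd (nat_lit 8) (Steps.bwd (nat_lit 7) (Steps.bwd (nat_lit 8) Steps.nil))) (nat_lit 30) (nat_lit 1),
  Rule.mk (nat_lit 5) (nat_lit 94) (Steps.fwd (nat_lit 8192) (Steps.fwd (nat_lit 1024) (Steps.bwd (nat_lit 2) (Steps.bwd (nat_lit 4) (Steps.bwd (nat_lit 3) (Steps.fwd (nat_lit 5120) (Steps.bwd (nat_lit 8) Steps.nil))))))) (nat_lit 34) (nat_lit 2),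
  Rule.mk (nat_lit 8) (nat_lit 46) (Steps.bwd (nat_lit 10) (Steps.bwd (nat_lit 9) (Steps.bwd (nat_lit 10) Steps.nil))) (nat_lit 42) (nat_lit 2),
  Rule.mk (nat_lit 5) (nat_lit 46) (Steps.bwd (nat_lit 2) (Steps.fwd (nat_lit 5120) (Steps.fwd (nat_lit 3072) Steps.nil))) (nat_lit 14) (nat_lit 0),
  Rule.mk (nat_lit 5) (nat_lit 58) (Steps.bwd (nat_lit 1) (Steps.fwd (nat_lit 5120) (Steps.fwd (nat_lit 1024) (Steps.fwd (nat_lit 4096) Steps.nil)))) (nat_lit 18) (nat_lit 3),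
  Rule.mk (nat_lit 5) (nat_lit 94) (Steps.bwd (nat_lit 8) (Steps.fwd (nat_lit 5120) (Steps.fwd (nat_lit 8192) (Steps.fwd (nat_lit 1024) (Steps.bwd (nat_lit 2) (Steps.bwd (nat_lit 4) (Steps.bwd (nat_lit 3) Steps.nil))))))) (nat_lit 34) (nat_lit 0),
  Rule.mk (nat_lit 6) (nat_lit 58) (Steps.bwd (nat_lit 7) (Steps.fwd (nat_lit 4096) (Steps.bwd (nat_lit 7) (Steps.fwd (nat_lit 4096) Steps.nil)))) (nat_lit 20) (nat_lit 2),
  Rule.mk (nat_lit 9) (nat_lit 46) (Steps.bwd (nat_lit 4) (Steps.bwd (nat_lit 8) (Steps.bwd (nat_lit 6) Steps.nil))) (nat_lit 26) (nat_lit 3),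
  Rule.mk (nat_lit 4) (nat_lit 58) (Steps.bwd (nat_lit 7) (Steps.bwd (nat_lit 4) (Steps.bwd (nat_lit 7) (Steps.bwd (nat_lit 6) Steps.nil)))) (nat_lit 21) (nat_lit 0),
  Rule.mk (nat_lit 8) (nat_lit 58) (Steps.bwd (nat_lit 4) (Steps.bwd (nat_lit 9) (Steps.fwd (nat_lit 4096) (Steps.bwd (nat_lit 6) Steps.nil)))) (nat_lit 28) (nat_lit 1),
  Rule.mk (nat_lit 10) (nat_lit 46) (Steps.bwd (nat_lit 8) (Steps.bwd (nat_lit 10) (Steps.bwd (nat_lit 9) Steps.nil))) (nat_lit 42) (nat_lit 1),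
  Rule.mk (nat_lit 3) (nat_lit 94) (Steps.bwd (nat_lit 9) (Steps.bwd (nat_lit 6) (Steps.fwd (nat_lit 4096) (Steps.fwd (nat_lit 5120) (Steps.fwd (nat_lit 9216) (Steps.bwd (nat_lit 2) (Steps.fwd (nat_lit 4096) Steps.nil))))))) (nat_lit 32) (nat_lit 4),
  Rule.mk (nat_lit 5) (nat_lit 46) (Steps.bwd (nat_lit 3) (Steps.fwd (nat_lit 5120) (Steps.bwd (nat_lit 3) Steps.nil))) (nat_lit 15) (nat_lit 1),
  Rule.mk (nat_lit 5) (nat_lit 94) (Steps.bwd (nat_lit 4) (Steps.fwd (nat_lit 6144) (Steps.fwd (nat_lit 9216) (Steps.bwd (nat_lit 2) (Steps.fwd (nat_lit 4096) (Steps.bwd (nat_lit 3) (Steps.bwd (nat_lit 9) Steps.nil))))))) (nat_lit 33) (nat_lit 1),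
  Rule.mk (nat_lit 9) (nat_lit 94) (Steps.bwd (nat_lit 1) (Steps.bwd (nat_lit 2) (Steps.bwd (nat_lit 4) (Steps.bwd (nat_lit 3) (Steps.fwd (nat_lit 5120) (Steps.fwd (nat_lit 9216) (Steps.fwd (nat_lit 5120) Steps.nil))))))) (nat_lit 34) (nat_lit 3),
  Rule.mk (nat_lit 7) (nat_lit 46) (Steps.fwd (nat_lit 8192) (Steps.fwd (nat_lit 7168) (Steps.bwd (nat_lit 9) Steps.nil))) (nat_lit 31) (nat_lit 0),
  Rule.mk (nat_lit 5) (nat_lit 94) (Steps.fwd (nat_lit 3072) (Steps.fwd (nat_lit 4096) (Steps.bwd (nat_lit 3) (Steps.fwd (nat_lit 1024) (Steps.fwd (nat_lit 9216) (Steps.fwd (nat_lit 5120) (Steps.bwd (nat_lit 9) Steps.nil))))))) (nat_lit 35) (nat_lit 1),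
  Rule.mk (nat_lit 7) (nat_lit 46) (Steps.bwd (nat_lit 8) (Steps.bwd (nat_lit 7) (Steps.fwd (nat_lit 9216) Steps.nil))) (nat_lit 30) (nat_lit 1),
  Rule.mk (nat_lit 5) (nat_lit 58) (Steps.fwd (nat_lit 4096) (Steps.bwd (nat_lit 1) (Steps.fwd (nat_lit 5120) (Steps.bwd (nat_lit 1) Steps.nil)))) (nat_lit 19) (nat_lit 3),
  Rule.mk (nat_lit 2) (nat_lit 46) (Steps.fwd (nat_lit 5120) (Steps.fwd (nat_lit 3072) (Steps.bwd (nat_lit 5) Steps.nil))) (nat_lit 14) (nat_lit 1),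
  Rule.mk (nat_lit 1) (nat_lit 58) (Steps.bwd (nat_lit 4) (Steps.fwd (nat_lit 5120) (Steps.bwd (nat_lit 1) (Steps.bwd (nat_lit 5) Steps.nil)))) (nat_lit 18) (nat_lit 1),
  Rule.mk (nat_lit 7) (nat_lit 46) (Steps.fwd (nat_lit 3072) (Steps.bwd (nat_lit 1) (Steps.fwd (nat_lit 2048) Steps.nil))) (nat_lit 12) (nat_lit 3),
  Rule.mk (nat_lit 7) (nat_lit 46) (Steps.fwd (nat_lit 8192) (Steps.bwd (nat_lit 7) (Steps.bwd (nat_lit 9) Steps.nil))) (nat_lit 31) (nat_lit 0),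
  Rule.mk (nat_lit 5) (nat_lit 46) (Steps.bwd (nat_lit 2) (Steps.bwd (nat_lit 5) (Steps.fwd (nat_lit 3072) Steps.nil))) (nat_lit 14) (nat_lit 0),
  Rule.mk (nat_lit 1) (nat_lit 58) (Steps.bwd (nat_lit 5) (Steps.fwd (nat_lit 1024) (Steps.bwd (nat_lit 4) (Steps.fwd (nat_lit 5120) Steps.nil)))) (nat_lit 18) (nat_lit 4),
  Rule.mk (nat_lit 8) (nat_lit 94) (Steps.bwd (nat_lit 5) (Steps.bwd (nat_lit 9) (Steps.bwd (nat_lit 5) (Steps.fwd (nat_lit 3072) (Steps.bwd (nat_lit 4) (Steps.fwd (nat_lit 2048) (Steps.bwd (nat_lit 1) Steps.nil))))))) (nat_lit 35) (nat_lit 6),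
  Rule.mk (nat_lit 6) (nat_lit 46) (Steps.bwd (nat_lit 9) (Steps.bwd (nat_lit 4) (Steps.bwd (nat_lit 8) Steps.nil))) (nat_lit 26) (nat_lit 2),
  Rule.mk (nat_lit 9) (nat_lit 34) (Steps.bwd (nat_lit 9) (Steps.fwd (nat_lit 8192) Steps.nil)) (nat_lit 23) (nat_lit 0),
  Rule.mk (nat_lit 9) (nat_lit 94) (Steps.bwd (nat_lit 1) (Steps.bwd (nat_lit 2) (Steps.bwd (nat_lit 4) (Steps.bwd (nat_lit 3) (Steps.bwd (nat_lit 5) (Steps.fwd (nat_lit 9216) (Steps.fwd (nat_lit 5120) Steps.nil))))))) (nat_lit 34) (nat_lit 3),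
  Rule.mk (nat_lit 7) (nat_lit 58) (Steps.bwd (nat_lit 4) (Steps.bwd (nat_lit 7) (Steps.bwd (nat_lit 4) (Steps.fwd (nat_lit 6144) Steps.nil)))) (nat_lit 20) (nat_lit 3),
  Rule.mk (nat_lit 6) (nat_lit 58) (Steps.bwd (nat_lit 4) (Steps.bwd (nat_lit 7) (Steps.bwd (nat_lit 4) (Steps.fwd (nat_lit 7168) Steps.nil)))) (nat_lit 21) (nat_lit 4),
  Rule.mk (nat_lit 5) (nat_lit 46) (Steps.bwd (nat_lit 3) (Steps.bwd (nat_lit 5) (Steps.bwd (nat_lit 3) Steps.nil))) (nat_lit 15) (nat_lit 1),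
  Rule.mk (nat_lit 1) (nat_lit 46) (Steps.bwd (nat_lit 9) (Steps.fwd (nat_lit 1024) (Steps.bwd (nat_lit 8) Steps.nil))) (nat_lit 24) (nat_lit 2),
  Rule.mk (nat_lit 10) (nat_lit 46) (Steps.bwd (nat_lit 9) (Steps.fwd (nat_lit 10240) (Steps.bwd (nat_lit 8) Steps.nil))) (nat_lit 42) (nat_lit 3),
  Rule.mk (nat_lit 4) (nat_lit 58) (Steps.bwd (nat_lit 9) (Steps.bwd (nat_lit 4) (Steps.fwd (nat_lit 6144) (Steps.bwd (nat_lit 8) Steps.nil)))) (nat_lit 28) (nat_lit 2),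
  Rule.mk (nat_lit 6) (nat_lit 58) (Steps.fwd (nat_lit 4096) (Steps.bwd (nat_lit 8) (Steps.bwd (nat_lit 4) (Steps.bwd (nat_lit 9) Steps.nil)))) (nat_lit 29) (nat_lit 1),
  Rule.mk (nat_lit 7) (nat_lit 58) (Steps.bwd (nat_lit 6) (Steps.fwd (nat_lit 4096) (Steps.fwd (nat_lit 7168) (Steps.bwd (nat_lit 4) Steps.nil)))) (nat_lit 21) (nat_lit 3),
  Rule.mk (nat_lit 4) (nat_lit 58) (Steps.bwd (nat_lit 5) (Steps.bwd (nat_lit 1) (Steps.fwd (nat_lit 5120) (Steps.bwd (nat_lit 1) Steps.nil)))) (nat_lit 18) (nat_lit 2),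
  Rule.mk (nat_lit 7) (nat_lit 58) (Steps.fwd (nat_lit 4096) (Steps.bwd (nat_lit 6) (Steps.bwd (nat_lit 7) (Steps.bwd (nat_lit 4) Steps.nil)))) (nat_lit 20) (nat_lit 0),
  Rule.mk (nat_lit 6) (nat_lit 58) (Steps.bwd (nat_lit 7) (Steps.bwd (nat_lit 4) (Steps.bwd (nat_lit 7) (Steps.bwd (nat_lit 4) Steps.nil)))) (nat_lit 20) (nat_lit 2),
  Rule.mk (nat_lit 1) (nat_lit 58) (Steps.bwd (nat_lit 5) (Steps.bwd (nat_lit 1) (Steps.fwd (nat_lit 5120) (Steps.fwd (nat_lit 4096) Steps.nil)))) (nat_lit 19) (nat_lit 0),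
  Rule.mk (nat_lit 4) (nat_lit 58) (Steps.bwd (nat_lit 9) (Steps.fwd (nat_lit 4096) (Steps.bwd (nat_lit 6) (Steps.bwd (nat_lit 8) Steps.nil)))) (nat_lit 28) (nat_lit 2),
  Rule.mk (nat_lit 6) (nat_lit 46) (Steps.bwd (nat_lit 9) (Steps.fwd (nat_lit 4096) (Steps.bwd (nat_lit 8) Steps.nil))) (nat_lit 26) (nat_lit 2),
  Rule.mk (nat_lit 2) (nat_lit 94) (Steps.bwd (nat_lit 4) (Steps.bwd (nat_lit 3) (Steps.bwd (nat_lit 9) (Steps.bwd (nat_lit 6) (Steps.bwd (nat_lit 4) (Steps.fwd (nat_lit 5120) (Steps.bwd (nat_lit 8) Steps.nil))))))) (nat_lit 32) (nat_lit 2),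
  Rule.mk (nat_lit 5) (nat_lit 94) (Steps.fwd (nat_lit 4096) (Steps.bwd (nat_lit 6) (Steps.bwd (nat_lit 8) (Steps.bwd (nat_lit 2) (Steps.bwd (nat_lit 4) (Steps.bwd (nat_lit 3) (Steps.bwd (nat_lit 9) Steps.nil))))))) (nat_lit 33) (nat_lit 1),
  Rule.mk (nat_lit 3) (nat_lit 46) (Steps.bwd (nat_lit 5) (Steps.bwd (nat_lit 3) (Steps.fwd (nat_lit 5120) Steps.nil))) (nat_lit 15) (nat_lit 0),
  Rule.mk (nat_lit 1) (nat_lit 58) (Steps.bwd (nat_lit 5) (Steps.bwd (nat_lit 1) (Steps.fwd (nat_lit 4096) (Steps.bwd (nat_lit 5) Steps.nil)))) (nat_lit 18) (nat_lit 4),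
  Rule.mk (nat_lit 5) (nat_lit 58) (Steps.bwd (nat_lit 4) (Steps.fwd (nat_lit 1024) (Steps.fwd (nat_lit 5120) (Steps.fwd (nat_lit 1024) Steps.nil)))) (nat_lit 19) (nat_lit 3),
  Rule.mk (nat_lit 5) (nat_lit 94) (Steps.bwd (nat_lit 9) (Steps.bwd (nat_lit 1) (Steps.bwd (nat_lit 2) (Steps.bwd (nat_lit 4) (Steps.fwd (nat_lit 2048) (Steps.fwd (nat_lit 5120) (Steps.bwd (nat_lit 8) Steps.nil))))))) (nat_lit 34) (nat_lit 2),
  Rule.mk (nat_lit 5) (nat_lit 46) (Steps.bwd (nat_lit 2) (Steps.bwd (nat_lit 5) (Steps.bwd (nat_lit 2) Steps.nil))) (nat_lit 14) (nat_lit 0),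
  Rule.mk (nat_lit 10) (nat_lit 46) (Steps.fwd (nat_lit 8192) (Steps.fwd (nat_lit 10240) (Steps.bwd (nat_lit 8) Steps.nil))) (nat_lit 42) (nat_lit 3),
  Rule.mk (nat_lit 4) (nat_lit 58) (Steps.fwd (nat_lit 8192) (Steps.bwd (nat_lit 4) (Steps.fwd (nat_lit 6144) (Steps.bwd (nat_lit 8) Steps.nil)))) (nat_lit 28) (nat_lit 2),
  Rule.mk (nat_lit 7) (nat_lit 46) (Steps.bwd (nat_lit 10) (Steps.bwd (nat_lit 7) (Steps.fwd (nat_lit 10240) Steps.nil))) (nat_lit 40) (nat_lit 0),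
  Rule.mk (nat_lit 5) (nat_lit 58) (Steps.bwd (nat_lit 1) (Steps.fwd (nat_lit 5120) (Steps.bwd (nat_lit 1) (Steps.bwd (nat_lit 4) Steps.nil)))) (nat_lit 18) (nat_lit 3),
  Rule.mk (nat_lit 2) (nat_lit 46) (Steps.bwd (nat_lit 5) (Steps.fwd (nat_lit 3072) (Steps.bwd (nat_lit 5) Steps.nil))) (nat_lit 14) (nat_lit 1),
  Rule.mk (nat_lit 4) (nat_lit 58) (Steps.bwd (nat_lit 1) (Steps.bwd (nat_lit 5) (Steps.bwd (nat_lit 1) (Steps.bwd (nat_lit 5) Steps.nil)))) (nat_lit 19) (nat_lit 4),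
  Rule.mk (nat_lit 2) (nat_lit 94) (Steps.bwd (nat_lit 4) (Steps.bwd (nat_lit 3) (Steps.bwd (nat_lit 9) (Steps.fwd (nat_lit 6144) (Steps.bwd (nat_lit 4) (Steps.fwd (nat_lit 5120) (Steps.bwd (nat_lit 8) Steps.nil))))))) (nat_lit 32) (nat_lit 2),
  Rule.mk (nat_lit 5) (nat_lit 94) (Steps.bwd (nat_lit 9) (Steps.bwd (nat_lit 1) (Steps.bwd (nat_lit 2) (Steps.fwd (nat_lit 4096) (Steps.fwd (nat_lit 2048) (Steps.fwd (nat_lit 5120) (Steps.bwd (nat_lit 8) Steps.nil))))))) (nat_lit 34) (nat_lit 2),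
  Rule.mk (nat_lit 3) (nat_lit 34) (Steps.fwd (nat_lit 2048) (Steps.bwd (nat_lit 3) Steps.nil)) (nat_lit 11) (nat_lit 0),
  Rule.mk (nat_lit 7) (nat_lit 46) (Steps.bwd (nat_lit 2) (Steps.bwd (nat_lit 1) (Steps.bwd (nat_lit 3) Steps.nil))) (nat_lit 12) (nat_lit 3),
  Rule.mk (nat_lit 7) (nat_lit 58) (Steps.fwd (nat_lit 1024) (Steps.bwd (nat_lit 3) (Steps.bwd (nat_lit 1) (Steps.fwd (nat_lit 3072) Steps.nil)))) (nat_lit 17) (nat_lit 2),
  Rule.mk (nat_lit 4) (nat_lit 58) (Steps.fwd (nat_lit 7168) (Steps.fwd (nat_lit 4096) (Steps.fwd (nat_lit 7168) (Steps.bwd (nat_lit 6) Steps.nil)))) (nat_lit 21) (nat_lit 0),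
  Rule.mk (nat_lit 4) (nat_lit 58) (Steps.bwd (nat_lit 9) (Steps.fwd (nat_lit 4096) (Steps.fwd (nat_lit 6144) (Steps.bwd (nat_lit 8) Steps.nil)))) (nat_lit 28) (nat_lit 2),
  Rule.mk (nat_lit 6) (nat_lit 58) (Steps.fwd (nat_lit 7168) (Steps.fwd (nat_lit 4096) (Steps.fwd (nat_lit 7168) (Steps.bwd (nat_lit 4) Steps.nil)))) (nat_lit 20) (nat_lit 2)]
noncomputable def R_3 : List (Rule) := [Rule.mk (nat_lit 0) (nat_lit 106) (Steps.fwd (nat_lit 9216) (Steps.fwd (nat_lit 3072) (Steps.fwd (nat_lit 4096) (Steps.fwd (nat_lit 2048) (Steps.fwd (nat_lit 8192) (Steps.bwd (nat_lit 6) (Steps.bwd (nat_lit 4) (Steps.bwd (nat_lit 5) Steps.nil)))))))) (nat_lit 32) (nat_lit 0),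
  Rule.mk (nat_lit 9) (nat_lit 34) (Steps.bwd (nat_lit 0) (Steps.fwd (nat_lit 9216) Steps.nil)) (nat_lit 48) (nat_lit 0),
  Rule.mk (nat_lit 3) (nat_lit 58) (Steps.bwd (nat_lit 1) (Steps.bwd (nat_lit 2) (Steps.bwd (nat_lit 1) (Steps.fwd (nat_lit 7168) Steps.nil)))) (nat_lit 16) (nat_lit 0),
  Rule.mk (nat_lit 7) (nat_lit 46) (Steps.fwd (nat_lit 3072) (Steps.bwd (nat_lit 1) (Steps.bwd (nat_lit 3) Steps.nil))) (nat_lit 12) (nat_lit 3),
  Rule.mk (nat_lit 4) (nat_lit 58) (Steps.bwd (nat_lit 7) (Steps.bwd (nat_lit 6) (Steps.bwd (nat_lit 4) (Steps.bwd (nat_lit 7) Steps.nil)))) (nat_lit 21) (nat_lit 2),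
  Rule.mk (nat_lit 6) (nat_lit 58) (Steps.bwd (nat_lit 4) (Steps.bwd (nat_lit 7) (Steps.bwd (nat_lit 4) (Steps.bwd (nat_lit 7) Steps.nil)))) (nat_lit 21) (nat_lit 4),
  Rule.mk (nat_lit 6) (nat_lit 58) (Steps.fwd (nat_lit 4096) (Steps.fwd (nat_lit 7168) (Steps.fwd (nat_lit 4096) (Steps.fwd (nat_lit 7168) Steps.nil)))) (nat_lit 21) (nat_lit 4),
  Rule.mk (nat_lit 7) (nat_lit 58) (Steps.fwd (nat_lit 1024) (Steps.bwd (nat_lit 3) (Steps.fwd (nat_lit 1024) (Steps.bwd (nat_lit 2) Steps.nil)))) (nat_lit 17) (nat_lit 2),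
  Rule.mk (nat_lit 9) (nat_lit 46) (Steps.fwd (nat_lit 1024) (Steps.fwd (nat_lit 9216) (Steps.bwd (nat_lit 1) Steps.nil))) (nat_lit 24) (nat_lit 3),
  Rule.mk (nat_lit 2) (nat_lit 58) (Steps.fwd (nat_lit 7168) (Steps.bwd (nat_lit 1) (Steps.fwd (nat_lit 2048) (Steps.bwd (nat_lit 1) Steps.nil)))) (nat_lit 17) (nat_lit 1),
  Rule.mk (nat_lit 7) (nat_lit 58) (Steps.fwd (nat_lit 2048) (Steps.bwd (nat_lit 1) (Steps.bwd (nat_lit 2) (Steps.bwd (nat_lit 1) Steps.nil)))) (nat_lit 16) (nat_lit 4),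
  Rule.mk (nat_lit 4) (nat_lit 58) (Steps.bwd (nat_lit 7) (Steps.fwd (nat_lit 4096) (Steps.bwd (nat_lit 6) (Steps.fwd (nat_lit 7168) Steps.nil)))) (nat_lit 20) (nat_lit 4),
  Rule.mk (nat_lit 2) (nat_lit 94) (Steps.bwd (nat_lit 4) (Steps.bwd (nat_lit 3) (Steps.bwd (nat_lit 9) (Steps.fwd (nat_lit 6144) (Steps.bwd (nat_lit 4) (Steps.bwd (nat_lit 5) (Steps.bwd (nat_lit 8) Steps.nil))))))) (nat_lit 32) (nat_lit 2),
  Rule.mk (nat_lit 5) (nat_lit 94) (Steps.bwd (nat_lit 8) (Steps.fwd (nat_lit 5120) (Steps.bwd (nat_lit 9) (Steps.fwd (nat_lit 1024) (Steps.bwd (nat_lit 2) (Steps.bwd (nat_lit 4) (Steps.bwd (nat_lit 3) Steps.nil))))))) (nat_lit 34) (nat_lit 0),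
  Rule.mk (nat_lit 0) (nat_lit 58) (Steps.bwd (nat_lit 3) (Steps.bwd (nat_lit 5) (Steps.bwd (nat_lit 3) (Steps.fwd (nat_lit 5120) Steps.nil)))) (nat_lit 15) (nat_lit 1),
  Rule.mk (nat_lit 2) (nat_lit 34) (Steps.bwd (nat_lit 0) (Steps.bwd (nat_lit 3) Steps.nil)) (nat_lit 48) (nat_lit 0),
  Rule.mk (nat_lit 4) (nat_lit 34) (Steps.bwd (nat_lit 0) (Steps.fwd (nat_lit 4096) Steps.nil)) (nat_lit 48) (nat_lit 0),
  Rule.mk (nat_lit 9) (nat_lit 94) (Steps.bwd (nat_lit 5) (Steps.fwd (nat_lit 4096) (Steps.fwd (nat_lit 6144) (Steps.fwd (nat_lit 9216) (Steps.fwd (nat_lit 3072) (Steps.fwd (nat_lit 4096) (Steps.fwd (nat_lit 2048) Steps.nil))))))) (nat_lit 33) (nat_lit 0),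
  Rule.mk (nat_lit 8) (nat_lit 46) (Steps.bwd (nat_lit 1) (Steps.bwd (nat_lit 9) (Steps.fwd (nat_lit 1024) Steps.nil))) (nat_lit 24) (nat_lit 1),
  Rule.mk (nat_lit 6) (nat_lit 58) (Steps.bwd (nat_lit 4) (Steps.fwd (nat_lit 9216) (Steps.bwd (nat_lit 4) (Steps.bwd (nat_lit 9) Steps.nil)))) (nat_lit 29) (nat_lit 1),
  Rule.mk (nat_lit 9) (nat_lit 46) (Steps.bwd (nat_lit 4) (Steps.fwd (nat_lit 9216) (Steps.bwd (nat_lit 6) Steps.nil))) (nat_lit 26) (nat_lit 3),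
  Rule.mk (nat_lit 7) (nat_lit 58) (Steps.bwd (nat_lit 6) (Steps.bwd (nat_lit 4) (Steps.fwd (nat_lit 7168) (Steps.fwd (nat_lit 4096) Steps.nil)))) (nat_lit 21) (nat_lit 3),
  Rule.mk (nat_lit 10) (nat_lit 94) (Steps.bwd (nat_lit 7) (Steps.bwd (nat_lit 6) (Steps.fwd (nat_lit 2048) (Steps.fwd (nat_lit 6144) (Steps.fwd (nat_lit 7168) (Steps.bwd (nat_lit 10) (Steps.bwd (nat_lit 2) Steps.nil))))))) (nat_lit 46) (nat_lit 2),
  Rule.mk (nat_lit 9) (nat_lit 94) (Steps.bwd (nat_lit 1) (Steps.bwd (nat_lit 2) (Steps.bwd (nat_lit 4) (Steps.bwd (nat_lit 3) (Steps.bwd (nat_lit 5) (Steps.bwd (nat_lit 8) (Steps.fwd (nat_lit 5120) Steps.nil))))))) (nat_lit 34) (nat_lit 3),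
  Rule.mk (nat_lit 8) (nat_lit 46) (Steps.fwd (nat_lit 1024) (Steps.bwd (nat_lit 9) (Steps.bwd (nat_lit 1) Steps.nil))) (nat_lit 24) (nat_lit 1),
  Rule.mk (nat_lit 7) (nat_lit 46) (Steps.bwd (nat_lit 9) (Steps.fwd (nat_lit 7168) (Steps.bwd (nat_lit 9) Steps.nil))) (nat_lit 31) (nat_lit 0),
  Rule.mk (nat_lit 6) (nat_lit 58) (Steps.bwd (nat_lit 8) (Steps.fwd (nat_lit 4096) (Steps.bwd (nat_lit 9) (Steps.bwd (nat_lit 4) Steps.nil)))) (nat_lit 28) (nat_lit 0),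
  Rule.mk (nat_lit 7) (nat_lit 58) (Steps.fwd (nat_lit 4096) (Steps.fwd (nat_lit 7168) (Steps.bwd (nat_lit 4) (Steps.bwd (nat_lit 6) Steps.nil)))) (nat_lit 20) (nat_lit 3),
  Rule.mk (nat_lit 4) (nat_lit 58) (Steps.bwd (nat_lit 7) (Steps.fwd (nat_lit 4096) (Steps.bwd (nat_lit 7) (Steps.bwd (nat_lit 6) Steps.nil)))) (nat_lit 21) (nat_lit 0),
  Rule.mk (nat_lit 1) (nat_lit 46) (Steps.fwd (nat_lit 2048) (Steps.bwd (nat_lit 7) (Steps.fwd (nat_lit 3072) Steps.nil))) (nat_lit 12) (nat_lit 1),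
  Rule.mk (nat_lit 2) (nat_lit 58) (Steps.bwd (nat_lit 1) (Steps.bwd (nat_lit 7) (Steps.fwd (nat_lit 2048) (Steps.fwd (nat_lit 1024) Steps.nil)))) (nat_lit 16) (nat_lit 2),
  Rule.mk (nat_lit 2) (nat_lit 58) (Steps.bwd (nat_lit 7) (Steps.fwd (nat_lit 1024) (Steps.fwd (nat_lit 2048) (Steps.fwd (nat_lit 1024) Steps.nil)))) (nat_lit 17) (nat_lit 1),
  Rule.mk (nat_lit 4) (nat_lit 58) (Steps.fwd (nat_lit 7168) (Steps.fwd (nat_lit 4096) (Steps.bwd (nat_lit 6) (Steps.bwd (nat_lit 7) Steps.nil)))) (nat_lit 20) (nat_lit 4),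
  Rule.mk (nat_lit 6) (nat_lit 58) (Steps.bwd (nat_lit 4) (Steps.fwd (nat_lit 7168) (Steps.fwd (nat_lit 4096) (Steps.fwd (nat_lit 7168) Steps.nil)))) (nat_lit 21) (nat_lit 4),
  Rule.mk (nat_lit 5) (nat_lit 58) (Steps.fwd (nat_lit 1024) (Steps.bwd (nat_lit 5) (Steps.bwd (nat_lit 1) (Steps.bwd (nat_lit 4) Steps.nil)))) (nat_lit 18) (nat_lit 3),
  Rule.mk (nat_lit 3) (nat_lit 46) (Steps.bwd (nat_lit 5) (Steps.bwd (nat_lit 3) (Steps.bwd (nat_lit 5) Steps.nil))) (nat_lit 15) (nat_lit 0),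
  Rule.mk (nat_lit 1) (nat_lit 58) (Steps.bwd (nat_lit 5) (Steps.fwd (nat_lit 1024) (Steps.bwd (nat_lit 5) (Steps.fwd (nat_lit 4096) Steps.nil)))) (nat_lit 19) (nat_lit 0),
  Rule.mk (nat_lit 5) (nat_lit 94) (Steps.fwd (nat_lit 8192) (Steps.fwd (nat_lit 1024) (Steps.bwd (nat_lit 2) (Steps.bwd (nat_lit 4) (Steps.bwd (nat_lit 3) (Steps.bwd (nat_lit 5) (Steps.bwd (nat_lit 8) Steps.nil))))))) (nat_lit 34) (nat_lit 2),
  Rule.mk (nat_lit 10) (nat_lit 46) (Steps.fwd (nat_lit 8192) (Steps.bwd (nat_lit 10) (Steps.bwd (nat_lit 8) Steps.nil))) (nat_lit 42) (nat_lit 3),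
  Rule.mk (nat_lit 4) (nat_lit 58) (Steps.fwd (nat_lit 8192) (Steps.bwd (nat_lit 4) (Steps.bwd (nat_lit 6) (Steps.bwd (nat_lit 8) Steps.nil)))) (nat_lit 28) (nat_lit 2),
  Rule.mk (nat_lit 2) (nat_lit 94) (Steps.bwd (nat_lit 4) (Steps.bwd (nat_lit 3) (Steps.bwd (nat_lit 9) (Steps.bwd (nat_lit 6) (Steps.fwd (nat_lit 4096) (Steps.fwd (nat_lit 5120) (Steps.fwd (nat_lit 9216) Steps.nil))))))) (nat_lit 32) (nat_lit 2),
  Rule.mk (nat_lit 5) (nat_lit 94) (Steps.bwd (nat_lit 9) (Steps.bwd (nat_lit 1) (Steps.bwd (nat_lit 2) (Steps.bwd (nat_lit 4) (Steps.fwd (nat_lit 2048) (Steps.fwd (nat_lit 5120) (Steps.fwd (nat_lit 9216) Steps.nil))))))) (nat_lit 34) (nat_lit 2),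
  Rule.mk (nat_lit 4) (nat_lit 58) (Steps.bwd (nat_lit 7) (Steps.bwd (nat_lit 4) (Steps.bwd (nat_lit 6) (Steps.bwd (nat_lit 7) Steps.nil)))) (nat_lit 20) (nat_lit 4),
  Rule.mk (nat_lit 4) (nat_lit 58) (Steps.bwd (nat_lit 6) (Steps.fwd (nat_lit 7168) (Steps.fwd (nat_lit 4096) (Steps.bwd (nat_lit 7) Steps.nil)))) (nat_lit 20) (nat_lit 1),
  Rule.mk (nat_lit 6) (nat_lit 58) (Steps.fwd (nat_lit 4096) (Steps.fwd (nat_lit 7168) (Steps.fwd (nat_lit 4096) (Steps.bwd (nat_lit 7) Steps.nil)))) (nat_lit 21) (nat_lit 4),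
  Rule.mk (nat_lit 7) (nat_lit 46) (Steps.fwd (nat_lit 9216) (Steps.fwd (nat_lit 7168) (Steps.bwd (nat_lit 8) Steps.nil))) (nat_lit 30) (nat_lit 1),
  Rule.mk (nat_lit 5) (nat_lit 58) (Steps.bwd (nat_lit 1) (Steps.bwd (nat_lit 5) (Steps.fwd (nat_lit 1024) (Steps.bwd (nat_lit 4) Steps.nil)))) (nat_lit 18) (nat_lit 3),
  Rule.mk (nat_lit 10) (nat_lit 46) (Steps.bwd (nat_lit 1) (Steps.bwd (nat_lit 10) (Steps.bwd (nat_lit 1) Steps.nil))) (nat_lit 38) (nat_lit 1),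
  Rule.mk (nat_lit 3) (nat_lit 94) (Steps.bwd (nat_lit 10) (Steps.bwd (nat_lit 7) (Steps.bwd (nat_lit 6) (Steps.bwd (nat_lit 2) (Steps.fwd (nat_lit 6144) (Steps.fwd (nat_lit 7168) (Steps.bwd (nat_lit 10) Steps.nil))))))) (nat_lit 47) (nat_lit 0),
  Rule.mk (nat_lit 7) (nat_lit 46) (Steps.bwd (nat_lit 10) (Steps.fwd (nat_lit 7168) (Steps.bwd (nat_lit 10) Steps.nil))) (nat_lit 40) (nat_lit 0),
  Rule.mk (nat_lit 2) (nat_lit 94) (Steps.bwd (nat_lit 10) (Steps.fwd (nat_lit 7168) (Steps.bwd (nat_lit 6) (Steps.fwd (nat_lit 2048) (Steps.fwd (nat_lit 6144) (Steps.bwd (nat_lit 7) (Steps.fwd (nat_lit 10240) Steps.nil))))))) (nat_lit 46) (nat_lit 1),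
  Rule.mk (nat_lit 8) (nat_lit 46) (Steps.bwd (nat_lit 10) (Steps.fwd (nat_lit 8192) (Steps.bwd (nat_lit 10) Steps.nil))) (nat_lit 42) (nat_lit 2),
  Rule.mk (nat_lit 1) (nat_lit 46) (Steps.bwd (nat_lit 3) (Steps.fwd (nat_lit 7168) (Steps.bwd (nat_lit 2) Steps.nil))) (nat_lit 12) (nat_lit 1),
  Rule.mk (nat_lit 5) (nat_lit 46) (Steps.fwd (nat_lit 3072) (Steps.bwd (nat_lit 5) (Steps.bwd (nat_lit 2) Steps.nil))) (nat_lit 14) (nat_lit 0),
  Rule.mk (nat_lit 7) (nat_lit 58) (Steps.bwd (nat_lit 3) (Steps.fwd (nat_lit 1024) (Steps.bwd (nat_lit 2) (Steps.bwd (nat_lit 1) Steps.nil)))) (nat_lit 16) (nat_lit 4),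
  Rule.mk (nat_lit 1) (nat_lit 58) (Steps.fwd (nat_lit 4096) (Steps.bwd (nat_lit 5) (Steps.bwd (nat_lit 1) (Steps.fwd (nat_lit 5120) Steps.nil)))) (nat_lit 18) (nat_lit 1),
  Rule.mk (nat_lit 10) (nat_lit 46) (Steps.fwd (nat_lit 1024) (Steps.fwd (nat_lit 10240) (Steps.bwd (nat_lit 1) Steps.nil))) (nat_lit 38) (nat_lit 1),
  Rule.mk (nat_lit 5) (nat_lit 58) (Steps.fwd (nat_lit 1024) (Steps.fwd (nat_lit 4096) (Steps.fwd (nat_lit 5120) (Steps.bwd (nat_lit 1) Steps.nil)))) (nat_lit 18) (nat_lit 0),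
  Rule.mk (nat_lit 6) (nat_lit 58) (Steps.bwd (nat_lit 7) (Steps.bwd (nat_lit 4) (Steps.bwd (nat_lit 7) (Steps.fwd (nat_lit 4096) Steps.nil)))) (nat_lit 20) (nat_lit 2),
  Rule.mk (nat_lit 9) (nat_lit 94) (Steps.bwd (nat_lit 1) (Steps.fwd (nat_lit 3072) (Steps.bwd (nat_lit 4) (Steps.fwd (nat_lit 2048) (Steps.fwd (nat_lit 5120) (Steps.bwd (nat_lit 8) (Steps.fwd (nat_lit 5120) Steps.nil))))))) (nat_lit 34) (nat_lit 3),
  Rule.mk (nat_lit 4) (nat_lit 46) (Steps.fwd (nat_lit 9216) (Steps.bwd (nat_lit 6) (Steps.bwd (nat_lit 9) Steps.nil))) (nat_lit 26) (nat_lit 0),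
  Rule.mk (nat_lit 5) (nat_lit 94) (Steps.bwd (nat_lit 4) (Steps.bwd (nat_lit 6) (Steps.bwd (nat_lit 8) (Steps.fwd (nat_lit 3072) (Steps.fwd (nat_lit 4096) (Steps.fwd (nat_lit 2048) (Steps.bwd (nat_lit 9) Steps.nil))))))) (nat_lit 33) (nat_lit 1),
  Rule.mk (nat_lit 3) (nat_lit 46) (Steps.bwd (nat_lit 5) (Steps.fwd (nat_lit 2048) (Steps.bwd (nat_lit 5) Steps.nil))) (nat_lit 15) (nat_lit 0),
  Rule.mk (nat_lit 3) (nat_lit 94) (Steps.bwd (nat_lit 6) (Steps.fwd (nat_lit 7168) (Steps.fwd (nat_lit 10240) (Steps.bwd (nat_lit 2) (Steps.bwd (nat_lit 10) (Steps.bwd (nat_lit 7) (Steps.fwd (nat_lit 6144) Steps.nil))))))) (nat_lit 46) (nat_lit 5)]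
noncomputable def R_4 : List (Rule) := [Rule.mk (nat_lit 10) (nat_lit 106) (Steps.bwd (nat_lit 7) (Steps.bwd (nat_lit 6) (Steps.bwd (nat_lit 10) (Steps.bwd (nat_lit 7) (Steps.fwd (nat_lit 6144) (Steps.bwd (nat_lit 10) (Steps.bwd (nat_lit 7) (Steps.fwd (nat_lit 6144) Steps.nil)))))))) (nat_lit 44) (nat_lit 1),
  Rule.mk (nat_lit 3) (nat_lit 94) (Steps.fwd (nat_lit 6144) (Steps.fwd (nat_lit 7168) (Steps.fwd (nat_lit 10240) (Steps.fwd (nat_lit 3072) (Steps.bwd (nat_lit 10) (Steps.bwd (nat_lit 7) (Steps.bwd (nat_lit 6) Steps.nil))))))) (nat_lit 46) (nat_lit 5),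
  Rule.mk (nat_lit 3) (nat_lit 94) (Steps.bwd (nat_lit 9) (Steps.fwd (nat_lit 6144) (Steps.bwd (nat_lit 4) (Steps.fwd (nat_lit 5120) (Steps.fwd (nat_lit 9216) (Steps.fwd (nat_lit 3072) (Steps.fwd (nat_lit 4096) Steps.nil))))))) (nat_lit 32) (nat_lit 4),
  Rule.mk (nat_lit 5) (nat_lit 46) (Steps.fwd (nat_lit 2048) (Steps.fwd (nat_lit 5120) (Steps.bwd (nat_lit 3) Steps.nil))) (nat_lit 15) (nat_lit 1),
  Rule.mk (nat_lit 1) (nat_lit 58) (Steps.fwd (nat_lit 3072) (Steps.bwd (nat_lit 1) (Steps.bwd (nat_lit 7) (Steps.bwd (nat_lit 3) Steps.nil)))) (nat_lit 16) (nat_lit 1),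
  Rule.mk (nat_lit 9) (nat_lit 46) (Steps.bwd (nat_lit 1) (Steps.fwd (nat_lit 9216) (Steps.bwd (nat_lit 1) Steps.nil))) (nat_lit 24) (nat_lit 3),
  Rule.mk (nat_lit 4) (nat_lit 58) (Steps.bwd (nat_lit 1) (Steps.fwd (nat_lit 5120) (Steps.bwd (nat_lit 1) (Steps.fwd (nat_lit 5120) Steps.nil)))) (nat_lit 19) (nat_lit 4),
  Rule.mk (nat_lit 6) (nat_lit 58) (Steps.fwd (nat_lit 9216) (Steps.bwd (nat_lit 4) (Steps.fwd (nat_lit 8192) (Steps.bwd (nat_lit 4) Steps.nil)))) (nat_lit 28) (nat_lit 0),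
  Rule.mk (nat_lit 6) (nat_lit 94) (Steps.bwd (nat_lit 3) (Steps.bwd (nat_lit 6) (Steps.bwd (nat_lit 7) (Steps.fwd (nat_lit 10240) (Steps.bwd (nat_lit 2) (Steps.fwd (nat_lit 10240) (Steps.bwd (nat_lit 7) Steps.nil))))))) (nat_lit 46) (nat_lit 4),
  Rule.mk (nat_lit 7) (nat_lit 58) (Steps.bwd (nat_lit 4) (Steps.fwd (nat_lit 7168) (Steps.fwd (nat_lit 4096) (Steps.bwd (nat_lit 6) Steps.nil)))) (nat_lit 20) (nat_lit 3),
  Rule.mk (nat_lit 10) (nat_lit 94) (Steps.fwd (nat_lit 2048) (Steps.fwd (nat_lit 10240) (Steps.bwd (nat_lit 7) (Steps.bwd (nat_lit 6) (Steps.bwd (nat_lit 2) (Steps.bwd (nat_lit 6) (Steps.bwd (nat_lit 7) Steps.nil))))))) (nat_lit 47) (nat_lit 7),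
  Rule.mk (nat_lit 10) (nat_lit 106) (Steps.bwd (nat_lit 7) (Steps.bwd (nat_lit 6) (Steps.bwd (nat_lit 10) (Steps.fwd (nat_lit 7168) (Steps.fwd (nat_lit 6144) (Steps.fwd (nat_lit 10240) (Steps.bwd (nat_lit 7) (Steps.bwd (nat_lit 6) Steps.nil)))))))) (nat_lit 44) (nat_lit 1),
  Rule.mk (nat_lit 1) (nat_lit 58) (Steps.bwd (nat_lit 7) (Steps.fwd (nat_lit 2048) (Steps.fwd (nat_lit 1024) (Steps.bwd (nat_lit 2) Steps.nil)))) (nat_lit 16) (nat_lit 3),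
  Rule.mk (nat_lit 2) (nat_lit 46) (Steps.fwd (nat_lit 1024) (Steps.bwd (nat_lit 3) (Steps.bwd (nat_lit 7) Steps.nil))) (nat_lit 12) (nat_lit 0),
  Rule.mk (nat_lit 3) (nat_lit 58) (Steps.bwd (nat_lit 1) (Steps.fwd (nat_lit 3072) (Steps.bwd (nat_lit 1) (Steps.bwd (nat_lit 7) Steps.nil)))) (nat_lit 16) (nat_lit 0),
  Rule.mk (nat_lit 10) (nat_lit 106) (Steps.bwd (nat_lit 7) (Steps.bwd (nat_lit 6) (Steps.bwd (nat_lit 10) (Steps.fwd (nat_lit 7168) (Steps.bwd (nat_lit 6) (Steps.fwd (nat_lit 10240) (Steps.bwd (nat_lit 7) (Steps.fwd (nat_lit 6144) Steps.nil)))))))) (nat_lit 44) (nat_lit 1),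
  Rule.mk (nat_lit 1) (nat_lit 46) (Steps.bwd (nat_lit 10) (Steps.bwd (nat_lit 1) (Steps.fwd (nat_lit 10240) Steps.nil))) (nat_lit 38) (nat_lit 0),
  Rule.mk (nat_lit 10) (nat_lit 94) (Steps.fwd (nat_lit 7168) (Steps.bwd (nat_lit 6) (Steps.fwd (nat_lit 2048) (Steps.bwd (nat_lit 6) (Steps.bwd (nat_lit 7) (Steps.fwd (nat_lit 10240) (Steps.bwd (nat_lit 2) Steps.nil))))))) (nat_lit 46) (nat_lit 2),
  Rule.mk (nat_lit 3) (nat_lit 94) (Steps.bwd (nat_lit 9) (Steps.bwd (nat_lit 6) (Steps.bwd (nat_lit 4) (Steps.fwd (nat_lit 5120) (Steps.bwd (nat_lit 8) (Steps.fwd (nat_lit 3072) (Steps.bwd (nat_lit 4) Steps.nil))))))) (nat_lit 32) (nat_lit 4),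
  Rule.mk (nat_lit 1) (nat_lit 58) (Steps.fwd (nat_lit 3072) (Steps.fwd (nat_lit 1024) (Steps.fwd (nat_lit 7168) (Steps.bwd (nat_lit 3) Steps.nil)))) (nat_lit 16) (nat_lit 1),
  Rule.mk (nat_lit 2) (nat_lit 94) (Steps.bwd (nat_lit 4) (Steps.bwd (nat_lit 3) (Steps.fwd (nat_lit 5120) (Steps.bwd (nat_lit 8) (Steps.fwd (nat_lit 5120) (Steps.bwd (nat_lit 9) (Steps.fwd (nat_lit 1024) Steps.nil))))))) (nat_lit 34) (nat_lit 5),
  Rule.mk (nat_lit 7) (nat_lit 58) (Steps.fwd (nat_lit 1024) (Steps.fwd (nat_lit 2048) (Steps.fwd (nat_lit 1024) (Steps.bwd (nat_lit 2) Steps.nil)))) (nat_lit 17) (nat_lit 2),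
  Rule.mk (nat_lit 7) (nat_lit 58) (Steps.bwd (nat_lit 3) (Steps.bwd (nat_lit 1) (Steps.fwd (nat_lit 3072) (Steps.fwd (nat_lit 1024) Steps.nil)))) (nat_lit 16) (nat_lit 4),
  Rule.mk (nat_lit 6) (nat_lit 58) (Steps.fwd (nat_lit 4096) (Steps.bwd (nat_lit 7) (Steps.fwd (nat_lit 4096) (Steps.bwd (nat_lit 7) Steps.nil)))) (nat_lit 21) (nat_lit 4),
  Rule.mk (nat_lit 10) (nat_lit 46) (Steps.bwd (nat_lit 1) (Steps.bwd (nat_lit 10) (Steps.fwd (nat_lit 1024) Steps.nil))) (nat_lit 38) (nat_lit 1),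
  Rule.mk (nat_lit 2) (nat_lit 94) (Steps.bwd (nat_lit 10) (Steps.fwd (nat_lit 7168) (Steps.fwd (nat_lit 6144) (Steps.bwd (nat_lit 3) (Steps.bwd (nat_lit 6) (Steps.fwd (nat_lit 7168) (Steps.bwd (nat_lit 10) Steps.nil))))))) (nat_lit 46) (nat_lit 1),
  Rule.mk (nat_lit 3) (nat_lit 94) (Steps.bwd (nat_lit 10) (Steps.fwd (nat_lit 7168) (Steps.bwd (nat_lit 6) (Steps.fwd (nat_lit 3072) (Steps.bwd (nat_lit 6) (Steps.fwd (nat_lit 7168) (Steps.bwd (nat_lit 10) Steps.nil))))))) (nat_lit 47) (nat_lit 0),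
  Rule.mk (nat_lit 7) (nat_lit 58) (Steps.fwd (nat_lit 1024) (Steps.bwd (nat_lit 3) (Steps.fwd (nat_lit 1024) (Steps.fwd (nat_lit 3072) Steps.nil)))) (nat_lit 17) (nat_lit 2),
  Rule.mk (nat_lit 3) (nat_lit 94) (Steps.bwd (nat_lit 6) (Steps.bwd (nat_lit 7) (Steps.bwd (nat_lit 10) (Steps.bwd (nat_lit 2) (Steps.fwd (nat_lit 10240) (Steps.fwd (nat_lit 7168) (Steps.fwd (nat_lit 6144) Steps.nil))))))) (nat_lit 46) (nat_lit 5),
  Rule.mk (nat_lit 6) (nat_lit 94) (Steps.bwd (nat_lit 3) (Steps.bwd (nat_lit 6) (Steps.fwd (nat_lit 7168) (Steps.fwd (nat_lit 10240) (Steps.bwd (nat_lit 2) (Steps.fwd (nat_lit 10240) (Steps.fwd (nat_lit 7168) Steps.nil))))))) (nat_lit 46) (nat_lit 4),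
  Rule.mk (nat_lit 10) (nat_lit 106) (Steps.bwd (nat_lit 7) (Steps.bwd (nat_lit 6) (Steps.bwd (nat_lit 10) (Steps.fwd (nat_lit 7168) (Steps.fwd (nat_lit 6144) (Steps.bwd (nat_lit 10) (Steps.bwd (nat_lit 7) (Steps.fwd (nat_lit 6144) Steps.nil)))))))) (nat_lit 44) (nat_lit 1),
  Rule.mk (nat_lit 3) (nat_lit 46) (Steps.bwd (nat_lit 7) (Steps.bwd (nat_lit 2) (Steps.fwd (nat_lit 1024) Steps.nil))) (nat_lit 12) (nat_lit 2),
  Rule.mk (nat_lit 9) (nat_lit 46) (Steps.fwd (nat_lit 1024) (Steps.bwd (nat_lit 8) (Steps.bwd (nat_lit 1) Steps.nil))) (nat_lit 24) (nat_lit 3),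
  Rule.mk (nat_lit 8) (nat_lit 46) (Steps.fwd (nat_lit 7168) (Steps.bwd (nat_lit 8) (Steps.bwd (nat_lit 7) Steps.nil))) (nat_lit 30) (nat_lit 0),
  Rule.mk (nat_lit 7) (nat_lit 58) (Steps.bwd (nat_lit 4) (Steps.bwd (nat_lit 7) (Steps.fwd (nat_lit 4096) (Steps.bwd (nat_lit 6) Steps.nil)))) (nat_lit 20) (nat_lit 3),
  Rule.mk (nat_lit 8) (nat_lit 46) (Steps.fwd (nat_lit 7168) (Steps.fwd (nat_lit 9216) (Steps.bwd (nat_lit 7) Steps.nil))) (nat_lit 30) (nat_lit 0),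
  Rule.mk (nat_lit 9) (nat_lit 46) (Steps.bwd (nat_lit 7) (Steps.fwd (nat_lit 8192) (Steps.bwd (nat_lit 7) Steps.nil))) (nat_lit 31) (nat_lit 1),
  Rule.mk (nat_lit 6) (nat_lit 58) (Steps.bwd (nat_lit 4) (Steps.bwd (nat_lit 7) (Steps.fwd (nat_lit 4096) (Steps.bwd (nat_lit 7) Steps.nil)))) (nat_lit 21) (nat_lit 4),
  Rule.mk (nat_lit 5) (nat_lit 94) (Steps.bwd (nat_lit 9) (Steps.fwd (nat_lit 1024) (Steps.fwd (nat_lit 3072) (Steps.fwd (nat_lit 4096) (Steps.fwd (nat_lit 2048) (Steps.fwd (nat_lit 5120) (Steps.fwd (nat_lit 9216) Steps.nil))))))) (nat_lit 34) (nat_lit 2),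
  Rule.mk (nat_lit 2) (nat_lit 94) (Steps.bwd (nat_lit 4) (Steps.bwd (nat_lit 3) (Steps.fwd (nat_lit 8192) (Steps.bwd (nat_lit 6) (Steps.fwd (nat_lit 4096) (Steps.bwd (nat_lit 5) (Steps.fwd (nat_lit 9216) Steps.nil))))))) (nat_lit 32) (nat_lit 2),
  Rule.mk (nat_lit 7) (nat_lit 58) (Steps.bwd (nat_lit 1) (Steps.fwd (nat_lit 2048) (Steps.fwd (nat_lit 1024) (Steps.bwd (nat_lit 2) Steps.nil)))) (nat_lit 17) (nat_lit 2),
  Rule.mk (nat_lit 7) (nat_lit 58) (Steps.bwd (nat_lit 3) (Steps.bwd (nat_lit 1) (Steps.fwd (nat_lit 3072) (Steps.bwd (nat_lit 1) Steps.nil)))) (nat_lit 16) (nat_lit 4),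
  Rule.mk (nat_lit 2) (nat_lit 94) (Steps.bwd (nat_lit 4) (Steps.bwd (nat_lit 3) (Steps.bwd (nat_lit 5) (Steps.fwd (nat_lit 9216) (Steps.fwd (nat_lit 5120) (Steps.bwd (nat_lit 9) (Steps.fwd (nat_lit 1024) Steps.nil))))))) (nat_lit 34) (nat_lit 5),
  Rule.mk (nat_lit 1) (nat_lit 46) (Steps.fwd (nat_lit 2048) (Steps.bwd (nat_lit 7) (Steps.bwd (nat_lit 2) Steps.nil))) (nat_lit 12) (nat_lit 1),
  Rule.mk (nat_lit 7) (nat_lit 58) (Steps.fwd (nat_lit 4096) (Steps.bwd (nat_lit 7) (Steps.bwd (nat_lit 4) (Steps.bwd (nat_lit 6) Steps.nil)))) (nat_lit 20) (nat_lit 3),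
  Rule.mk (nat_lit 2) (nat_lit 46) (Steps.fwd (nat_lit 1024) (Steps.fwd (nat_lit 2048) (Steps.bwd (nat_lit 7) Steps.nil))) (nat_lit 12) (nat_lit 0),
  Rule.mk (nat_lit 1) (nat_lit 58) (Steps.bwd (nat_lit 3) (Steps.bwd (nat_lit 1) (Steps.fwd (nat_lit 3072) (Steps.bwd (nat_lit 7) Steps.nil)))) (nat_lit 17) (nat_lit 3),
  Rule.mk (nat_lit 10) (nat_lit 94) (Steps.bwd (nat_lit 7) (Steps.bwd (nat_lit 6) (Steps.bwd (nat_lit 3) (Steps.bwd (nat_lit 6) (Steps.fwd (nat_lit 7168) (Steps.bwd (nat_lit 10) (Steps.fwd (nat_lit 3072) Steps.nil))))))) (nat_lit 46) (nat_lit 2),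
  Rule.mk (nat_lit 3) (nat_lit 94) (Steps.bwd (nat_lit 10) (Steps.fwd (nat_lit 7168) (Steps.bwd (nat_lit 6) (Steps.fwd (nat_lit 3072) (Steps.fwd (nat_lit 6144) (Steps.bwd (nat_lit 7) (Steps.bwd (nat_lit 10) Steps.nil))))))) (nat_lit 47) (nat_lit 0),
  Rule.mk (nat_lit 2) (nat_lit 94) (Steps.bwd (nat_lit 10) (Steps.bwd (nat_lit 7) (Steps.fwd (nat_lit 6144) (Steps.bwd (nat_lit 3) (Steps.bwd (nat_lit 6) (Steps.fwd (nat_lit 7168) (Steps.fwd (nat_lit 10240) Steps.nil))))))) (nat_lit 46) (nat_lit 1),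
  Rule.mk (nat_lit 10) (nat_lit 106) (Steps.bwd (nat_lit 7) (Steps.bwd (nat_lit 6) (Steps.bwd (nat_lit 10) (Steps.bwd (nat_lit 7) (Steps.bwd (nat_lit 6) (Steps.fwd (nat_lit 10240) (Steps.bwd (nat_lit 7) (Steps.fwd (nat_lit 6144) Steps.nil)))))))) (nat_lit 44) (nat_lit 1),
  Rule.mk (nat_lit 9) (nat_lit 46) (Steps.bwd (nat_lit 10) (Steps.fwd (nat_lit 9216) (Steps.fwd (nat_lit 10240) Steps.nil))) (nat_lit 42) (nat_lit 0),
  Rule.mk (nat_lit 6) (nat_lit 46) (Steps.fwd (nat_lit 8192) (Steps.bwd (nat_lit 4) (Steps.bwd (nat_lit 8) Steps.nil))) (nat_lit 26) (nat_lit 2),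
  Rule.mk (nat_lit 3) (nat_lit 46) (Steps.fwd (nat_lit 7168) (Steps.fwd (nat_lit 3072) (Steps.bwd (nat_lit 1) Steps.nil))) (nat_lit 12) (nat_lit 2),
  Rule.mk (nat_lit 7) (nat_lit 106) (Steps.bwd (nat_lit 10) (Steps.fwd (nat_lit 6144) (Steps.fwd (nat_lit 7168) (Steps.bwd (nat_lit 10) (Steps.fwd (nat_lit 6144) (Steps.bwd (nat_lit 7) (Steps.fwd (nat_lit 10240) (Steps.bwd (nat_lit 6) Steps.nil)))))))) (nat_lit 45) (nat_lit 2),
  Rule.mk (nat_lit 8) (nat_lit 46) (Steps.bwd (nat_lit 7) (Steps.fwd (nat_lit 9216) (Steps.bwd (nat_lit 7) Steps.nil))) (nat_lit 30) (nat_lit 0),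
  Rule.mk (nat_lit 0) (nat_lit 58) (Steps.bwd (nat_lit 8) (Steps.fwd (nat_lit 7168) (Steps.bwd (nat_lit 8) (Steps.fwd (nat_lit 7168) Steps.nil)))) (nat_lit 30) (nat_lit 1),
  Rule.mk (nat_lit 0) (nat_lit 46) (Steps.fwd (nat_lit 1024) (Steps.fwd (nat_lit 0) (Steps.fwd (nat_lit 1024) Steps.nil))) (nat_lit 48) (nat_lit 0),
  Rule.mk (nat_lit 0) (nat_lit 46) (Steps.fwd (nat_lit 7168) (Steps.bwd (nat_lit 0) (Steps.bwd (nat_lit 7) Steps.nil))) (nat_lit 48) (nat_lit 0),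
  Rule.mk (nat_lit 9) (nat_lit 34) (Steps.bwd (nat_lit 0) (Steps.bwd (nat_lit 8) Steps.nil)) (nat_lit 48) (nat_lit 0),
  Rule.mk (nat_lit 10) (nat_lit 34) (Steps.bwd (nat_lit 0) (Steps.bwd (nat_lit 10) Steps.nil)) (nat_lit 48) (nat_lit 0),
  Rule.mk (nat_lit 0) (nat_lit 46) (Steps.fwd (nat_lit 6144) (Steps.bwd (nat_lit 0) (Steps.bwd (nat_lit 6) Steps.nil))) (nat_lit 48) (nat_lit 0),
  Rule.mk (nat_lit 7) (nat_lit 34) (Steps.bwd (nat_lit 0) (Steps.fwd (nat_lit 7168) Steps.nil)) (nat_lit 48) (nat_lit 0),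
  Rule.mk (nat_lit 6) (nat_lit 34) (Steps.bwd (nat_lit 0) (Steps.fwd (nat_lit 6144) Steps.nil)) (nat_lit 48) (nat_lit 0)]
noncomputable def R_5 : List (Rule) := [Rule.mk (nat_lit 6) (nat_lit 58) (Steps.fwd (nat_lit 4096) (Steps.bwd (nat_lit 7) (Steps.bwd (nat_lit 4) (Steps.bwd (nat_lit 7) Steps.nil)))) (nat_lit 21) (nat_lit 4),
  Rule.mk (nat_lit 2) (nat_lit 58) (Steps.bwd (nat_lit 1) (Steps.bwd (nat_lit 7) (Steps.fwd (nat_lit 2048) (Steps.bwd (nat_lit 1) Steps.nil)))) (nat_lit 16) (nat_lit 2),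
  Rule.mk (nat_lit 2) (nat_lit 34) (Steps.fwd (nat_lit 3072) (Steps.bwd (nat_lit 2) Steps.nil)) (nat_lit 10) (nat_lit 0),
  Rule.mk (nat_lit 2) (nat_lit 94) (Steps.bwd (nat_lit 4) (Steps.bwd (nat_lit 3) (Steps.bwd (nat_lit 9) (Steps.bwd (nat_lit 6) (Steps.fwd (nat_lit 4096) (Steps.bwd (nat_lit 5) (Steps.fwd (nat_lit 9216) Steps.nil))))))) (nat_lit 32) (nat_lit 2),
  Rule.mk (nat_lit 5) (nat_lit 94) (Steps.bwd (nat_lit 9) (Steps.fwd (nat_lit 1024) (Steps.fwd (nat_lit 3072) (Steps.fwd (nat_lit 4096) (Steps.bwd (nat_lit 3) (Steps.bwd (nat_lit 5) (Steps.fwd (nat_lit 9216) Steps.nil))))))) (nat_lit 34) (nat_lit 2),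
  Rule.mk (nat_lit 1) (nat_lit 58) (Steps.fwd (nat_lit 5120) (Steps.fwd (nat_lit 1024) (Steps.bwd (nat_lit 4) (Steps.bwd (nat_lit 5) Steps.nil)))) (nat_lit 18) (nat_lit 4),
  Rule.mk (nat_lit 6) (nat_lit 46) (Steps.bwd (nat_lit 9) (Steps.bwd (nat_lit 4) (Steps.fwd (nat_lit 9216) Steps.nil))) (nat_lit 26) (nat_lit 2),
  Rule.mk (nat_lit 10) (nat_lit 94) (Steps.bwd (nat_lit 7) (Steps.bwd (nat_lit 6) (Steps.bwd (nat_lit 3) (Steps.fwd (nat_lit 6144) (Steps.fwd (nat_lit 7168) (Steps.fwd (nat_lit 10240) (Steps.bwd (nat_lit 2) Steps.nil))))))) (nat_lit 46) (nat_lit 2),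
  Rule.mk (nat_lit 2) (nat_lit 94) (Steps.bwd (nat_lit 6) (Steps.fwd (nat_lit 7168) (Steps.bwd (nat_lit 10) (Steps.fwd (nat_lit 2048) (Steps.bwd (nat_lit 10) (Steps.bwd (nat_lit 7) (Steps.bwd (nat_lit 6) Steps.nil))))))) (nat_lit 47) (nat_lit 4),
  Rule.mk (nat_lit 3) (nat_lit 94) (Steps.bwd (nat_lit 6) (Steps.bwd (nat_lit 7) (Steps.bwd (nat_lit 10) (Steps.bwd (nat_lit 2) (Steps.fwd (nat_lit 10240) (Steps.bwd (nat_lit 7) (Steps.fwd (nat_lit 6144) Steps.nil))))))) (nat_lit 46) (nat_lit 5),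
  Rule.mk (nat_lit 3) (nat_lit 94) (Steps.bwd (nat_lit 6) (Steps.fwd (nat_lit 7168) (Steps.bwd (nat_lit 10) (Steps.bwd (nat_lit 2) (Steps.bwd (nat_lit 10) (Steps.bwd (nat_lit 7) (Steps.fwd (nat_lit 6144) Steps.nil))))))) (nat_lit 46) (nat_lit 5),
  Rule.mk (nat_lit 2) (nat_lit 94) (Steps.bwd (nat_lit 6) (Steps.fwd (nat_lit 7168) (Steps.bwd (nat_lit 10) (Steps.fwd (nat_lit 2048) (Steps.fwd (nat_lit 10240) (Steps.fwd (nat_lit 7168) (Steps.bwd (nat_lit 6) Steps.nil))))))) (nat_lit 47) (nat_lit 4),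
  Rule.mk (nat_lit 10) (nat_lit 106) (Steps.bwd (nat_lit 7) (Steps.fwd (nat_lit 6144) (Steps.fwd (nat_lit 10240) (Steps.bwd (nat_lit 7) (Steps.fwd (nat_lit 6144) (Steps.fwd (nat_lit 10240) (Steps.fwd (nat_lit 7168) (Steps.bwd (nat_lit 6) Steps.nil)))))))) (nat_lit 44) (nat_lit 1),
  Rule.mk (nat_lit 8) (nat_lit 46) (Steps.bwd (nat_lit 7) (Steps.bwd (nat_lit 8) (Steps.bwd (nat_lit 7) Steps.nil))) (nat_lit 30) (nat_lit 0),
  Rule.mk (nat_lit 1) (nat_lit 58) (Steps.bwd (nat_lit 7) (Steps.bwd (nat_lit 3) (Steps.fwd (nat_lit 1024) (Steps.fwd (nat_lit 3072) Steps.nil)))) (nat_lit 16) (nat_lit 3),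
  Rule.mk (nat_lit 3) (nat_lit 46) (Steps.bwd (nat_lit 7) (Steps.fwd (nat_lit 3072) (Steps.bwd (nat_lit 1) Steps.nil))) (nat_lit 12) (nat_lit 2),
  Rule.mk (nat_lit 2) (nat_lit 58) (Steps.bwd (nat_lit 1) (Steps.bwd (nat_lit 7) (Steps.bwd (nat_lit 3) (Steps.bwd (nat_lit 1) Steps.nil)))) (nat_lit 16) (nat_lit 2),
  Rule.mk (nat_lit 5) (nat_lit 58) (Steps.bwd (nat_lit 1) (Steps.bwd (nat_lit 5) (Steps.bwd (nat_lit 4) (Steps.bwd (nat_lit 1) Steps.nil)))) (nat_lit 19) (nat_lit 1),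
  Rule.mk (nat_lit 4) (nat_lit 58) (Steps.fwd (nat_lit 1024) (Steps.fwd (nat_lit 5120) (Steps.fwd (nat_lit 1024) (Steps.fwd (nat_lit 5120) Steps.nil)))) (nat_lit 19) (nat_lit 4),
  Rule.mk (nat_lit 2) (nat_lit 94) (Steps.fwd (nat_lit 10240) (Steps.fwd (nat_lit 7168) (Steps.bwd (nat_lit 6) (Steps.fwd (nat_lit 2048) (Steps.fwd (nat_lit 6144) (Steps.fwd (nat_lit 7168) (Steps.bwd (nat_lit 10) Steps.nil))))))) (nat_lit 46) (nat_lit 1),
  Rule.mk (nat_lit 3) (nat_lit 94) (Steps.bwd (nat_lit 10) (Steps.bwd (nat_lit 7) (Steps.fwd (nat_lit 6144) (Steps.fwd (nat_lit 3072) (Steps.bwd (nat_lit 6) (Steps.fwd (nat_lit 7168) (Steps.fwd (nat_lit 10240) Steps.nil))))))) (nat_lit 47) (nat_lit 0),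
  Rule.mk (nat_lit 3) (nat_lit 94) (Steps.fwd (nat_lit 10240) (Steps.fwd (nat_lit 7168) (Steps.bwd (nat_lit 6) (Steps.bwd (nat_lit 2) (Steps.fwd (nat_lit 6144) (Steps.fwd (nat_lit 7168) (Steps.fwd (nat_lit 10240) Steps.nil))))))) (nat_lit 47) (nat_lit 0),
  Rule.mk (nat_lit 10) (nat_lit 94) (Steps.fwd (nat_lit 7168) (Steps.fwd (nat_lit 6144) (Steps.bwd (nat_lit 3) (Steps.bwd (nat_lit 6) (Steps.bwd (nat_lit 7) (Steps.fwd (nat_lit 10240) (Steps.bwd (nat_lit 2) Steps.nil))))))) (nat_lit 46) (nat_lit 2),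
  Rule.mk (nat_lit 6) (nat_lit 106) (Steps.fwd (nat_lit 10240) (Steps.fwd (nat_lit 7168) (Steps.fwd (nat_lit 6144) (Steps.bwd (nat_lit 10) (Steps.bwd (nat_lit 7) (Steps.fwd (nat_lit 6144) (Steps.fwd (nat_lit 10240) (Steps.fwd (nat_lit 7168) Steps.nil)))))))) (nat_lit 44) (nat_lit 0),
  Rule.mk (nat_lit 2) (nat_lit 94) (Steps.bwd (nat_lit 6) (Steps.fwd (nat_lit 7168) (Steps.bwd (nat_lit 10) (Steps.bwd (nat_lit 3) (Steps.fwd (nat_lit 10240) (Steps.fwd (nat_lit 7168) (Steps.bwd (nat_lit 6) Steps.nil))))))) (nat_lit 47) (nat_lit 4),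
  Rule.mk (nat_lit 2) (nat_lit 58) (Steps.bwd (nat_lit 7) (Steps.bwd (nat_lit 1) (Steps.fwd (nat_lit 2048) (Steps.fwd (nat_lit 1024) Steps.nil)))) (nat_lit 17) (nat_lit 1),
  Rule.mk (nat_lit 6) (nat_lit 94) (Steps.bwd (nat_lit 2) (Steps.fwd (nat_lit 6144) (Steps.bwd (nat_lit 7) (Steps.bwd (nat_lit 10) (Steps.bwd (nat_lit 3) (Steps.fwd (nat_lit 10240) (Steps.fwd (nat_lit 7168) Steps.nil))))))) (nat_lit 47) (nat_lit 3),
  Rule.mk (nat_lit 10) (nat_lit 46) (Steps.bwd (nat_lit 1) (Steps.fwd (nat_lit 10240) (Steps.fwd (nat_lit 1024) Steps.nil))) (nat_lit 38) (nat_lit 1),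
  Rule.mk (nat_lit 2) (nat_lit 94) (Steps.bwd (nat_lit 4) (Steps.bwd (nat_lit 3) (Steps.fwd (nat_lit 8192) (Steps.fwd (nat_lit 6144) (Steps.fwd (nat_lit 4096) (Steps.bwd (nat_lit 5) (Steps.fwd (nat_lit 9216) Steps.nil))))))) (nat_lit 32) (nat_lit 2),
  Rule.mk (nat_lit 3) (nat_lit 94) (Steps.bwd (nat_lit 10) (Steps.fwd (nat_lit 7168) (Steps.bwd (nat_lit 6) (Steps.bwd (nat_lit 2) (Steps.bwd (nat_lit 6) (Steps.bwd (nat_lit 7) (Steps.bwd (nat_lit 10) Steps.nil))))))) (nat_lit 47) (nat_lit 0),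
  Rule.mk (nat_lit 2) (nat_lit 94) (Steps.bwd (nat_lit 10) (Steps.bwd (nat_lit 7) (Steps.fwd (nat_lit 6144) (Steps.bwd (nat_lit 3) (Steps.bwd (nat_lit 6) (Steps.bwd (nat_lit 7) (Steps.fwd (nat_lit 10240) Steps.nil))))))) (nat_lit 46) (nat_lit 1),
  Rule.mk (nat_lit 5) (nat_lit 58) (Steps.bwd (nat_lit 4) (Steps.bwd (nat_lit 1) (Steps.bwd (nat_lit 5) (Steps.bwd (nat_lit 1) Steps.nil)))) (nat_lit 19) (nat_lit 3),
  Rule.mk (nat_lit 2) (nat_lit 94) (Steps.bwd (nat_lit 4) (Steps.fwd (nat_lit 2048) (Steps.bwd (nat_lit 1) (Steps.bwd (nat_lit 8) (Steps.bwd (nat_lit 5) (Steps.bwd (nat_lit 9) (Steps.bwd (nat_lit 5) Steps.nil))))))) (nat_lit 35) (nat_lit 2),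
  Rule.mk (nat_lit 1) (nat_lit 58) (Steps.fwd (nat_lit 5120) (Steps.fwd (nat_lit 1024) (Steps.fwd (nat_lit 5120) (Steps.bwd (nat_lit 4) Steps.nil)))) (nat_lit 19) (nat_lit 0),
  Rule.mk (nat_lit 3) (nat_lit 94) (Steps.fwd (nat_lit 5120) (Steps.fwd (nat_lit 9216) (Steps.fwd (nat_lit 5120) (Steps.fwd (nat_lit 8192) (Steps.bwd (nat_lit 1) (Steps.fwd (nat_lit 3072) (Steps.bwd (nat_lit 4) Steps.nil))))))) (nat_lit 34) (nat_lit 7),
  Rule.mk (nat_lit 2) (nat_lit 58) (Steps.bwd (nat_lit 7) (Steps.fwd (nat_lit 1024) (Steps.bwd (nat_lit 3) (Steps.fwd (nat_lit 1024) Steps.nil)))) (nat_lit 17) (nat_lit 1),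
  Rule.mk (nat_lit 5) (nat_lit 94) (Steps.bwd (nat_lit 9) (Steps.fwd (nat_lit 1024) (Steps.bwd (nat_lit 2) (Steps.bwd (nat_lit 4) (Steps.bwd (nat_lit 3) (Steps.fwd (nat_lit 5120) (Steps.bwd (nat_lit 8) Steps.nil))))))) (nat_lit 34) (nat_lit 2),
  Rule.mk (nat_lit 5) (nat_lit 94) (Steps.bwd (nat_lit 9) (Steps.fwd (nat_lit 1024) (Steps.fwd (nat_lit 3072) (Steps.fwd (nat_lit 4096) (Steps.fwd (nat_lit 2048) (Steps.bwd (nat_lit 5) (Steps.bwd (nat_lit 8) Steps.nil))))))) (nat_lit 34) (nat_lit 2),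
  Rule.mk (nat_lit 3) (nat_lit 94) (Steps.bwd (nat_lit 10) (Steps.fwd (nat_lit 7168) (Steps.bwd (nat_lit 6) (Steps.bwd (nat_lit 2) (Steps.fwd (nat_lit 6144) (Steps.fwd (nat_lit 7168) (Steps.fwd (nat_lit 10240) Steps.nil))))))) (nat_lit 47) (nat_lit 0),
  Rule.mk (nat_lit 2) (nat_lit 94) (Steps.bwd (nat_lit 10) (Steps.fwd (nat_lit 7168) (Steps.fwd (nat_lit 6144) (Steps.bwd (nat_lit 3) (Steps.bwd (nat_lit 6) (Steps.fwd (nat_lit 7168) (Steps.fwd (nat_lit 10240) Steps.nil))))))) (nat_lit 46) (nat_lit 1),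
  Rule.mk (nat_lit 3) (nat_lit 94) (Steps.bwd (nat_lit 10) (Steps.fwd (nat_lit 7168) (Steps.fwd (nat_lit 6144) (Steps.bwd (nat_lit 2) (Steps.bwd (nat_lit 6) (Steps.bwd (nat_lit 7) (Steps.fwd (nat_lit 10240) Steps.nil))))))) (nat_lit 47) (nat_lit 0),
  Rule.mk (nat_lit 2) (nat_lit 94) (Steps.bwd (nat_lit 4) (Steps.fwd (nat_lit 2048) (Steps.bwd (nat_lit 9) (Steps.bwd (nat_lit 6) (Steps.fwd (nat_lit 4096) (Steps.bwd (nat_lit 5) (Steps.bwd (nat_lit 8) Steps.nil))))))) (nat_lit 32) (nat_lit 2),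
  Rule.mk (nat_lit 5) (nat_lit 94) (Steps.bwd (nat_lit 9) (Steps.bwd (nat_lit 1) (Steps.bwd (nat_lit 2) (Steps.bwd (nat_lit 4) (Steps.fwd (nat_lit 2048) (Steps.bwd (nat_lit 5) (Steps.bwd (nat_lit 8) Steps.nil))))))) (nat_lit 34) (nat_lit 2),
  Rule.mk (nat_lit 3) (nat_lit 94) (Steps.bwd (nat_lit 6) (Steps.fwd (nat_lit 7168) (Steps.fwd (nat_lit 10240) (Steps.bwd (nat_lit 2) (Steps.fwd (nat_lit 10240) (Steps.bwd (nat_lit 7) (Steps.fwd (nat_lit 6144) Steps.nil))))))) (nat_lit 46) (nat_lit 5),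
  Rule.mk (nat_lit 10) (nat_lit 106) (Steps.bwd (nat_lit 7) (Steps.bwd (nat_lit 6) (Steps.bwd (nat_lit 10) (Steps.fwd (nat_lit 7168) (Steps.bwd (nat_lit 6) (Steps.bwd (nat_lit 10) (Steps.bwd (nat_lit 7) (Steps.fwd (nat_lit 6144) Steps.nil)))))))) (nat_lit 44) (nat_lit 1),
  Rule.mk (nat_lit 2) (nat_lit 94) (Steps.fwd (nat_lit 6144) (Steps.fwd (nat_lit 7168) (Steps.fwd (nat_lit 10240) (Steps.bwd (nat_lit 3) (Steps.bwd (nat_lit 10) (Steps.bwd (nat_lit 7) (Steps.bwd (nat_lit 6) Steps.nil))))))) (nat_lit 47) (nat_lit 4),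
  Rule.mk (nat_lit 2) (nat_lit 94) (Steps.bwd (nat_lit 10) (Steps.fwd (nat_lit 7168) (Steps.bwd (nat_lit 6) (Steps.fwd (nat_lit 2048) (Steps.bwd (nat_lit 6) (Steps.bwd (nat_lit 7) (Steps.bwd (nat_lit 10) Steps.nil))))))) (nat_lit 46) (nat_lit 1),
  Rule.mk (nat_lit 3) (nat_lit 94) (Steps.bwd (nat_lit 10) (Steps.bwd (nat_lit 7) (Steps.bwd (nat_lit 6) (Steps.bwd (nat_lit 2) (Steps.bwd (nat_lit 6) (Steps.bwd (nat_lit 7) (Steps.bwd (nat_lit 10) Steps.nil))))))) (nat_lit 47) (nat_lit 0),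
  Rule.mk (nat_lit 1) (nat_lit 58) (Steps.fwd (nat_lit 7168) (Steps.bwd (nat_lit 3) (Steps.bwd (nat_lit 1) (Steps.fwd (nat_lit 3072) Steps.nil)))) (nat_lit 16) (nat_lit 3),
  Rule.mk (nat_lit 5) (nat_lit 46) (Steps.fwd (nat_lit 3072) (Steps.fwd (nat_lit 5120) (Steps.bwd (nat_lit 2) Steps.nil))) (nat_lit 14) (nat_lit 0),
  Rule.mk (nat_lit 6) (nat_lit 94) (Steps.fwd (nat_lit 7168) (Steps.bwd (nat_lit 10) (Steps.fwd (nat_lit 2048) (Steps.fwd (nat_lit 10240) (Steps.fwd (nat_lit 7168) (Steps.fwd (nat_lit 6144) (Steps.bwd (nat_lit 2) Steps.nil))))))) (nat_lit 47) (nat_lit 5),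
  Rule.mk (nat_lit 4) (nat_lit 58) (Steps.bwd (nat_lit 6) (Steps.fwd (nat_lit 7168) (Steps.bwd (nat_lit 4) (Steps.bwd (nat_lit 7) Steps.nil)))) (nat_lit 20) (nat_lit 1),
  Rule.mk (nat_lit 10) (nat_lit 94) (Steps.fwd (nat_lit 7168) (Steps.bwd (nat_lit 6) (Steps.fwd (nat_lit 2048) (Steps.fwd (nat_lit 6144) (Steps.fwd (nat_lit 7168) (Steps.fwd (nat_lit 10240) (Steps.bwd (nat_lit 2) Steps.nil))))))) (nat_lit 46) (nat_lit 2),
  Rule.mk (nat_lit 7) (nat_lit 46) (Steps.bwd (nat_lit 10) (Steps.bwd (nat_lit 7) (Steps.bwd (nat_lit 10) Steps.nil))) (nat_lit 40) (nat_lit 0),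
  Rule.mk (nat_lit 9) (nat_lit 46) (Steps.bwd (nat_lit 10) (Steps.fwd (nat_lit 9216) (Steps.bwd (nat_lit 10) Steps.nil))) (nat_lit 42) (nat_lit 0),
  Rule.mk (nat_lit 10) (nat_lit 94) (Steps.bwd (nat_lit 7) (Steps.bwd (nat_lit 6) (Steps.bwd (nat_lit 3) (Steps.bwd (nat_lit 6) (Steps.fwd (nat_lit 7168) (Steps.fwd (nat_lit 10240) (Steps.bwd (nat_lit 2) Steps.nil))))))) (nat_lit 46) (nat_lit 2),
  Rule.mk (nat_lit 10) (nat_lit 46) (Steps.fwd (nat_lit 7168) (Steps.bwd (nat_lit 10) (Steps.bwd (nat_lit 7) Steps.nil))) (nat_lit 40) (nat_lit 1),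
  Rule.mk (nat_lit 3) (nat_lit 94) (Steps.bwd (nat_lit 10) (Steps.fwd (nat_lit 7168) (Steps.fwd (nat_lit 6144) (Steps.bwd (nat_lit 2) (Steps.fwd (nat_lit 6144) (Steps.fwd (nat_lit 7168) (Steps.bwd (nat_lit 10) Steps.nil))))))) (nat_lit 47) (nat_lit 0),
  Rule.mk (nat_lit 2) (nat_lit 94) (Steps.bwd (nat_lit 10) (Steps.fwd (nat_lit 7168) (Steps.fwd (nat_lit 6144) (Steps.bwd (nat_lit 3) (Steps.fwd (nat_lit 6144) (Steps.fwd (nat_lit 7168) (Steps.fwd (nat_lit 10240) Steps.nil))))))) (nat_lit 46) (nat_lit 1),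
  Rule.mk (nat_lit 1) (nat_lit 58) (Steps.bwd (nat_lit 2) (Steps.fwd (nat_lit 1024) (Steps.fwd (nat_lit 7168) (Steps.bwd (nat_lit 3) Steps.nil)))) (nat_lit 16) (nat_lit 1),
  Rule.mk (nat_lit 4) (nat_lit 58) (Steps.bwd (nat_lit 1) (Steps.bwd (nat_lit 5) (Steps.bwd (nat_lit 1) (Steps.fwd (nat_lit 5120) Steps.nil)))) (nat_lit 19) (nat_lit 4),
  Rule.mk (nat_lit 7) (nat_lit 58) (Steps.bwd (nat_lit 1) (Steps.bwd (nat_lit 3) (Steps.fwd (nat_lit 1024) (Steps.bwd (nat_lit 2) Steps.nil)))) (nat_lit 17) (nat_lit 2),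
  Rule.mk (nat_lit 7) (nat_lit 94) (Steps.bwd (nat_lit 6) (Steps.bwd (nat_lit 3) (Steps.bwd (nat_lit 6) (Steps.bwd (nat_lit 7) (Steps.bwd (nat_lit 10) (Steps.fwd (nat_lit 3072) (Steps.bwd (nat_lit 10) Steps.nil))))))) (nat_lit 46) (nat_lit 3),
  Rule.mk (nat_lit 3) (nat_lit 58) (Steps.bwd (nat_lit 1) (Steps.bwd (nat_lit 2) (Steps.fwd (nat_lit 1024) (Steps.bwd (nat_lit 7) Steps.nil)))) (nat_lit 16) (nat_lit 0)]
noncomputable def R_6 : List (Rule) := [Rule.mk (nat_lit 1) (nat_lit 58) (Steps.fwd (nat_lit 2048) (Steps.bwd (nat_lit 1) (Steps.bwd (nat_lit 2) (Steps.bwd (nat_lit 7) Steps.nil)))) (nat_lit 17) (nat_lit 3),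
  Rule.mk (nat_lit 4) (nat_lit 58) (Steps.bwd (nat_lit 6) (Steps.bwd (nat_lit 7) (Steps.bwd (nat_lit 4) (Steps.bwd (nat_lit 7) Steps.nil)))) (nat_lit 20) (nat_lit 1),
  Rule.mk (nat_lit 0) (nat_lit 70) (Steps.fwd (nat_lit 6144) (Steps.fwd (nat_lit 7168) (Steps.fwd (nat_lit 4096) (Steps.fwd (nat_lit 7168) (Steps.fwd (nat_lit 4096) Steps.nil))))) (nat_lit 20) (nat_lit 1),
  Rule.mk (nat_lit 8) (nat_lit 46) (Steps.bwd (nat_lit 6) (Steps.fwd (nat_lit 8192) (Steps.fwd (nat_lit 4096) Steps.nil))) (nat_lit 26) (nat_lit 1),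
  Rule.mk (nat_lit 7) (nat_lit 94) (Steps.bwd (nat_lit 6) (Steps.fwd (nat_lit 3072) (Steps.bwd (nat_lit 6) (Steps.bwd (nat_lit 7) (Steps.bwd (nat_lit 10) (Steps.fwd (nat_lit 2048) (Steps.fwd (nat_lit 10240) Steps.nil))))))) (nat_lit 47) (nat_lit 2),
  Rule.mk (nat_lit 10) (nat_lit 46) (Steps.fwd (nat_lit 7168) (Steps.fwd (nat_lit 10240) (Steps.bwd (nat_lit 7) Steps.nil))) (nat_lit 40) (nat_lit 1),
  Rule.mk (nat_lit 4) (nat_lit 58) (Steps.fwd (nat_lit 8192) (Steps.fwd (nat_lit 4096) (Steps.bwd (nat_lit 6) (Steps.bwd (nat_lit 8) Steps.nil)))) (nat_lit 28) (nat_lit 2),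
  Rule.mk (nat_lit 2) (nat_lit 94) (Steps.bwd (nat_lit 4) (Steps.bwd (nat_lit 3) (Steps.bwd (nat_lit 9) (Steps.fwd (nat_lit 6144) (Steps.fwd (nat_lit 4096) (Steps.fwd (nat_lit 5120) (Steps.fwd (nat_lit 9216) Steps.nil))))))) (nat_lit 32) (nat_lit 2),
  Rule.mk (nat_lit 1) (nat_lit 46) (Steps.bwd (nat_lit 9) (Steps.bwd (nat_lit 1) (Steps.fwd (nat_lit 9216) Steps.nil))) (nat_lit 24) (nat_lit 2),
  Rule.mk (nat_lit 4) (nat_lit 58) (Steps.bwd (nat_lit 9) (Steps.bwd (nat_lit 4) (Steps.fwd (nat_lit 6144) (Steps.fwd (nat_lit 9216) Steps.nil)))) (nat_lit 28) (nat_lit 2),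
  Rule.mk (nat_lit 5) (nat_lit 94) (Steps.bwd (nat_lit 9) (Steps.fwd (nat_lit 1024) (Steps.bwd (nat_lit 2) (Steps.bwd (nat_lit 4) (Steps.fwd (nat_lit 2048) (Steps.fwd (nat_lit 5120) (Steps.fwd (nat_lit 9216) Steps.nil))))))) (nat_lit 34) (nat_lit 2),
  Rule.mk (nat_lit 4) (nat_lit 58) (Steps.fwd (nat_lit 1024) (Steps.fwd (nat_lit 5120) (Steps.bwd (nat_lit 1) (Steps.bwd (nat_lit 5) Steps.nil)))) (nat_lit 19) (nat_lit 4),
  Rule.mk (nat_lit 2) (nat_lit 94) (Steps.bwd (nat_lit 10) (Steps.fwd (nat_lit 7168) (Steps.bwd (nat_lit 6) (Steps.fwd (nat_lit 2048) (Steps.fwd (nat_lit 6144) (Steps.bwd (nat_lit 7) (Steps.bwd (nat_lit 10) Steps.nil))))))) (nat_lit 46) (nat_lit 1),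
  Rule.mk (nat_lit 3) (nat_lit 94) (Steps.fwd (nat_lit 10240) (Steps.fwd (nat_lit 7168) (Steps.bwd (nat_lit 6) (Steps.bwd (nat_lit 2) (Steps.fwd (nat_lit 6144) (Steps.bwd (nat_lit 7) (Steps.bwd (nat_lit 10) Steps.nil))))))) (nat_lit 47) (nat_lit 0),
  Rule.mk (nat_lit 2) (nat_lit 94) (Steps.bwd (nat_lit 6) (Steps.bwd (nat_lit 7) (Steps.bwd (nat_lit 10) (Steps.fwd (nat_lit 2048) (Steps.bwd (nat_lit 10) (Steps.bwd (nat_lit 7) (Steps.bwd (nat_lit 6) Steps.nil))))))) (nat_lit 47) (nat_lit 4),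
  Rule.mk (nat_lit 1) (nat_lit 58) (Steps.bwd (nat_lit 2) (Steps.bwd (nat_lit 1) (Steps.bwd (nat_lit 7) (Steps.fwd (nat_lit 2048) Steps.nil)))) (nat_lit 16) (nat_lit 1),
  Rule.mk (nat_lit 6) (nat_lit 94) (Steps.bwd (nat_lit 7) (Steps.fwd (nat_lit 10240) (Steps.bwd (nat_lit 2) (Steps.bwd (nat_lit 10) (Steps.fwd (nat_lit 7168) (Steps.fwd (nat_lit 6144) (Steps.fwd (nat_lit 2048) Steps.nil))))))) (nat_lit 46) (nat_lit 6),
  Rule.mk (nat_lit 2) (nat_lit 94) (Steps.fwd (nat_lit 6144) (Steps.fwd (nat_lit 7168) (Steps.bwd (nat_lit 10) (Steps.fwd (nat_lit 2048) (Steps.fwd (nat_lit 10240) (Steps.bwd (nat_lit 7) (Steps.fwd (nat_lit 6144) Steps.nil))))))) (nat_lit 47) (nat_lit 4),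
  Rule.mk (nat_lit 1) (nat_lit 58) (Steps.bwd (nat_lit 2) (Steps.bwd (nat_lit 1) (Steps.bwd (nat_lit 7) (Steps.bwd (nat_lit 3) Steps.nil)))) (nat_lit 16) (nat_lit 1),
  Rule.mk (nat_lit 8) (nat_lit 46) (Steps.bwd (nat_lit 7) (Steps.bwd (nat_lit 8) (Steps.fwd (nat_lit 7168) Steps.nil))) (nat_lit 30) (nat_lit 0),
  Rule.mk (nat_lit 5) (nat_lit 94) (Steps.bwd (nat_lit 9) (Steps.bwd (nat_lit 5) (Steps.fwd (nat_lit 3072) (Steps.fwd (nat_lit 4096) (Steps.bwd (nat_lit 3) (Steps.bwd (nat_lit 1) (Steps.bwd (nat_lit 8) Steps.nil))))))) (nat_lit 35) (nat_lit 7),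
  Rule.mk (nat_lit 5) (nat_lit 94) (Steps.bwd (nat_lit 2) (Steps.bwd (nat_lit 4) (Steps.bwd (nat_lit 3) (Steps.bwd (nat_lit 1) (Steps.bwd (nat_lit 8) (Steps.bwd (nat_lit 5) (Steps.bwd (nat_lit 9) Steps.nil))))))) (nat_lit 35) (nat_lit 1),
  Rule.mk (nat_lit 4) (nat_lit 58) (Steps.bwd (nat_lit 5) (Steps.bwd (nat_lit 1) (Steps.fwd (nat_lit 5120) (Steps.fwd (nat_lit 1024) Steps.nil)))) (nat_lit 18) (nat_lit 2),
  Rule.mk (nat_lit 7) (nat_lit 58) (Steps.fwd (nat_lit 4096) (Steps.fwd (nat_lit 6144) (Steps.bwd (nat_lit 7) (Steps.bwd (nat_lit 4) Steps.nil)))) (nat_lit 20) (nat_lit 0),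
  Rule.mk (nat_lit 6) (nat_lit 58) (Steps.fwd (nat_lit 7168) (Steps.bwd (nat_lit 4) (Steps.bwd (nat_lit 7) (Steps.bwd (nat_lit 4) Steps.nil)))) (nat_lit 20) (nat_lit 2),
  Rule.mk (nat_lit 10) (nat_lit 94) (Steps.fwd (nat_lit 7168) (Steps.bwd (nat_lit 6) (Steps.fwd (nat_lit 2048) (Steps.fwd (nat_lit 6144) (Steps.fwd (nat_lit 7168) (Steps.bwd (nat_lit 10) (Steps.bwd (nat_lit 2) Steps.nil))))))) (nat_lit 46) (nat_lit 2),
  Rule.mk (nat_lit 10) (nat_lit 46) (Steps.bwd (nat_lit 9) (Steps.bwd (nat_lit 10) (Steps.fwd (nat_lit 9216) Steps.nil))) (nat_lit 42) (nat_lit 3),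
  Rule.mk (nat_lit 10) (nat_lit 106) (Steps.bwd (nat_lit 7) (Steps.bwd (nat_lit 6) (Steps.bwd (nat_lit 10) (Steps.bwd (nat_lit 7) (Steps.bwd (nat_lit 6) (Steps.bwd (nat_lit 10) (Steps.bwd (nat_lit 7) (Steps.bwd (nat_lit 6) Steps.nil)))))))) (nat_lit 44) (nat_lit 1),
  Rule.mk (nat_lit 4) (nat_lit 58) (Steps.bwd (nat_lit 9) (Steps.fwd (nat_lit 4096) (Steps.bwd (nat_lit 6) (Steps.fwd (nat_lit 9216) Steps.nil)))) (nat_lit 28) (nat_lit 2),
  Rule.mk (nat_lit 10) (nat_lit 46) (Steps.bwd (nat_lit 9) (Steps.fwd (nat_lit 10240) (Steps.fwd (nat_lit 9216) Steps.nil))) (nat_lit 42) (nat_lit 3),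
  Rule.mk (nat_lit 5) (nat_lit 94) (Steps.bwd (nat_lit 9) (Steps.bwd (nat_lit 1) (Steps.fwd (nat_lit 3072) (Steps.fwd (nat_lit 4096) (Steps.fwd (nat_lit 2048) (Steps.fwd (nat_lit 5120) (Steps.fwd (nat_lit 9216) Steps.nil))))))) (nat_lit 34) (nat_lit 2),
  Rule.mk (nat_lit 10) (nat_lit 94) (Steps.bwd (nat_lit 7) (Steps.bwd (nat_lit 6) (Steps.bwd (nat_lit 3) (Steps.bwd (nat_lit 6) (Steps.fwd (nat_lit 7168) (Steps.fwd (nat_lit 10240) (Steps.fwd (nat_lit 3072) Steps.nil))))))) (nat_lit 46) (nat_lit 2),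
  Rule.mk (nat_lit 3) (nat_lit 94) (Steps.bwd (nat_lit 10) (Steps.bwd (nat_lit 7) (Steps.fwd (nat_lit 6144) (Steps.bwd (nat_lit 2) (Steps.fwd (nat_lit 6144) (Steps.fwd (nat_lit 7168) (Steps.bwd (nat_lit 10) Steps.nil))))))) (nat_lit 47) (nat_lit 0),
  Rule.mk (nat_lit 2) (nat_lit 94) (Steps.bwd (nat_lit 10) (Steps.fwd (nat_lit 7168) (Steps.bwd (nat_lit 6) (Steps.bwd (nat_lit 3) (Steps.bwd (nat_lit 6) (Steps.bwd (nat_lit 7) (Steps.fwd (nat_lit 10240) Steps.nil))))))) (nat_lit 46) (nat_lit 1),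
  Rule.mk (nat_lit 10) (nat_lit 106) (Steps.bwd (nat_lit 7) (Steps.bwd (nat_lit 6) (Steps.bwd (nat_lit 10) (Steps.bwd (nat_lit 7) (Steps.bwd (nat_lit 6) (Steps.bwd (nat_lit 10) (Steps.bwd (nat_lit 7) (Steps.fwd (nat_lit 6144) Steps.nil)))))))) (nat_lit 44) (nat_lit 1),
  Rule.mk (nat_lit 8) (nat_lit 46) (Steps.fwd (nat_lit 1024) (Steps.bwd (nat_lit 9) (Steps.fwd (nat_lit 1024) Steps.nil))) (nat_lit 24) (nat_lit 1),
  Rule.mk (nat_lit 5) (nat_lit 94) (Steps.bwd (nat_lit 9) (Steps.fwd (nat_lit 1024) (Steps.bwd (nat_lit 2) (Steps.fwd (nat_lit 4096) (Steps.fwd (nat_lit 2048) (Steps.bwd (nat_lit 5) (Steps.fwd (nat_lit 9216) Steps.nil))))))) (nat_lit 34) (nat_lit 2),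
  Rule.mk (nat_lit 5) (nat_lit 58) (Steps.bwd (nat_lit 1) (Steps.fwd (nat_lit 4096) (Steps.bwd (nat_lit 5) (Steps.bwd (nat_lit 1) Steps.nil)))) (nat_lit 18) (nat_lit 0),
  Rule.mk (nat_lit 5) (nat_lit 94) (Steps.bwd (nat_lit 8) (Steps.bwd (nat_lit 2) (Steps.fwd (nat_lit 4096) (Steps.fwd (nat_lit 2048) (Steps.fwd (nat_lit 8192) (Steps.bwd (nat_lit 6) (Steps.bwd (nat_lit 4) Steps.nil))))))) (nat_lit 32) (nat_lit 0),
  Rule.mk (nat_lit 2) (nat_lit 94) (Steps.bwd (nat_lit 10) (Steps.fwd (nat_lit 7168) (Steps.bwd (nat_lit 6) (Steps.bwd (nat_lit 3) (Steps.fwd (nat_lit 6144) (Steps.bwd (nat_lit 7) (Steps.fwd (nat_lit 10240) Steps.nil))))))) (nat_lit 46) (nat_lit 1),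
  Rule.mk (nat_lit 3) (nat_lit 94) (Steps.bwd (nat_lit 10) (Steps.fwd (nat_lit 7168) (Steps.bwd (nat_lit 6) (Steps.bwd (nat_lit 2) (Steps.bwd (nat_lit 6) (Steps.bwd (nat_lit 7) (Steps.fwd (nat_lit 10240) Steps.nil))))))) (nat_lit 47) (nat_lit 0),
  Rule.mk (nat_lit 5) (nat_lit 94) (Steps.fwd (nat_lit 8192) (Steps.bwd (nat_lit 1) (Steps.bwd (nat_lit 2) (Steps.bwd (nat_lit 4) (Steps.bwd (nat_lit 3) (Steps.bwd (nat_lit 5) (Steps.bwd (nat_lit 8) Steps.nil))))))) (nat_lit 34) (nat_lit 2),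
  Rule.mk (nat_lit 5) (nat_lit 46) (Steps.bwd (nat_lit 3) (Steps.bwd (nat_lit 5) (Steps.fwd (nat_lit 2048) Steps.nil))) (nat_lit 15) (nat_lit 1),
  Rule.mk (nat_lit 5) (nat_lit 94) (Steps.bwd (nat_lit 9) (Steps.fwd (nat_lit 1024) (Steps.bwd (nat_lit 2) (Steps.fwd (nat_lit 4096) (Steps.fwd (nat_lit 2048) (Steps.bwd (nat_lit 5) (Steps.bwd (nat_lit 8) Steps.nil))))))) (nat_lit 34) (nat_lit 2),
  Rule.mk (nat_lit 10) (nat_lit 94) (Steps.bwd (nat_lit 7) (Steps.bwd (nat_lit 6) (Steps.bwd (nat_lit 3) (Steps.bwd (nat_lit 6) (Steps.bwd (nat_lit 7) (Steps.bwd (nat_lit 10) (Steps.fwd (nat_lit 3072) Steps.nil))))))) (nat_lit 46) (nat_lit 2),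
  Rule.mk (nat_lit 0) (nat_lit 58) (Steps.fwd (nat_lit 7168) (Steps.fwd (nat_lit 10240) (Steps.fwd (nat_lit 7168) (Steps.fwd (nat_lit 10240) Steps.nil)))) (nat_lit 40) (nat_lit 1),
  Rule.mk (nat_lit 3) (nat_lit 94) (Steps.fwd (nat_lit 10240) (Steps.bwd (nat_lit 7) (Steps.fwd (nat_lit 6144) (Steps.fwd (nat_lit 3072) (Steps.bwd (nat_lit 6) (Steps.bwd (nat_lit 7) (Steps.bwd (nat_lit 10) Steps.nil))))))) (nat_lit 47) (nat_lit 0),
  Rule.mk (nat_lit 6) (nat_lit 94) (Steps.bwd (nat_lit 3) (Steps.bwd (nat_lit 6) (Steps.bwd (nat_lit 7) (Steps.bwd (nat_lit 10) (Steps.fwd (nat_lit 3072) (Steps.fwd (nat_lit 10240) (Steps.fwd (nat_lit 7168) Steps.nil))))))) (nat_lit 46) (nat_lit 4),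
  Rule.mk (nat_lit 8) (nat_lit 46) (Steps.bwd (nat_lit 6) (Steps.bwd (nat_lit 9) (Steps.fwd (nat_lit 4096) Steps.nil))) (nat_lit 26) (nat_lit 1),
  Rule.mk (nat_lit 6) (nat_lit 106) (Steps.bwd (nat_lit 10) (Steps.bwd (nat_lit 7) (Steps.bwd (nat_lit 6) (Steps.fwd (nat_lit 10240) (Steps.fwd (nat_lit 7168) (Steps.fwd (nat_lit 6144) (Steps.fwd (nat_lit 10240) (Steps.fwd (nat_lit 7168) Steps.nil)))))))) (nat_lit 44) (nat_lit 0),
  Rule.mk (nat_lit 7) (nat_lit 106) (Steps.bwd (nat_lit 10) (Steps.bwd (nat_lit 6) (Steps.fwd (nat_lit 7168) (Steps.bwd (nat_lit 10) (Steps.fwd (nat_lit 6144) (Steps.bwd (nat_lit 7) (Steps.bwd (nat_lit 10) (Steps.bwd (nat_lit 6) Steps.nil)))))))) (nat_lit 45) (nat_lit 2),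
  Rule.mk (nat_lit 9) (nat_lit 46) (Steps.fwd (nat_lit 4096) (Steps.bwd (nat_lit 8) (Steps.fwd (nat_lit 6144) Steps.nil))) (nat_lit 26) (nat_lit 3),
  Rule.mk (nat_lit 9) (nat_lit 46) (Steps.fwd (nat_lit 7168) (Steps.bwd (nat_lit 9) (Steps.bwd (nat_lit 7) Steps.nil))) (nat_lit 31) (nat_lit 1),
  Rule.mk (nat_lit 0) (nat_lit 58) (Steps.bwd (nat_lit 8) (Steps.bwd (nat_lit 10) (Steps.bwd (nat_lit 9) (Steps.fwd (nat_lit 10240) Steps.nil)))) (nat_lit 42) (nat_lit 1),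
  Rule.mk (nat_lit 5) (nat_lit 34) (Steps.bwd (nat_lit 0) (Steps.fwd (nat_lit 5120) Steps.nil)) (nat_lit 48) (nat_lit 0),
  Rule.mk (nat_lit 8) (nat_lit 34) (Steps.bwd (nat_lit 0) (Steps.bwd (nat_lit 9) Steps.nil)) (nat_lit 48) (nat_lit 0),
  Rule.mk (nat_lit 9) (nat_lit 46) (Steps.bwd (nat_lit 7) (Steps.bwd (nat_lit 9) (Steps.fwd (nat_lit 7168) Steps.nil))) (nat_lit 31) (nat_lit 1),
  Rule.mk (nat_lit 0) (nat_lit 70) (Steps.bwd (nat_lit 6) (Steps.bwd (nat_lit 8) (Steps.fwd (nat_lit 4096) (Steps.bwd (nat_lit 9) (Steps.fwd (nat_lit 4096) Steps.nil))))) (nat_lit 28) (nat_lit 4),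
  Rule.mk (nat_lit 0) (nat_lit 70) (Steps.bwd (nat_lit 8) (Steps.fwd (nat_lit 4096) (Steps.bwd (nat_lit 9) (Steps.bwd (nat_lit 6) (Steps.bwd (nat_lit 4) Steps.nil))))) (nat_lit 29) (nat_lit 2),
  Rule.mk (nat_lit 0) (nat_lit 46) (Steps.fwd (nat_lit 3072) (Steps.fwd (nat_lit 0) (Steps.bwd (nat_lit 3) Steps.nil))) (nat_lit 48) (nat_lit 0),
  Rule.mk (nat_lit 5) (nat_lit 34) (Steps.bwd (nat_lit 0) (Steps.bwd (nat_lit 5) Steps.nil)) (nat_lit 48) (nat_lit 0),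
  Rule.mk (nat_lit 5) (nat_lit 94) (Steps.bwd (nat_lit 4) (Steps.bwd (nat_lit 6) (Steps.bwd (nat_lit 8) (Steps.fwd (nat_lit 3072) (Steps.bwd (nat_lit 4) (Steps.fwd (nat_lit 2048) (Steps.bwd (nat_lit 9) Steps.nil))))))) (nat_lit 33) (nat_lit 1),
  Rule.mk (nat_lit 5) (nat_lit 58) (Steps.fwd (nat_lit 1024) (Steps.bwd (nat_lit 5) (Steps.bwd (nat_lit 1) (Steps.fwd (nat_lit 4096) Steps.nil)))) (nat_lit 18) (nat_lit 3),
  Rule.mk (nat_lit 1) (nat_lit 58) (Steps.bwd (nat_lit 4) (Steps.bwd (nat_lit 5) (Steps.bwd (nat_lit 1) (Steps.fwd (nat_lit 5120) Steps.nil)))) (nat_lit 18) (nat_lit 1)]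
noncomputable def R_7 : List (Rule) := [Rule.mk (nat_lit 4) (nat_lit 58) (Steps.fwd (nat_lit 1024) (Steps.bwd (nat_lit 5) (Steps.bwd (nat_lit 1) (Steps.fwd (nat_lit 5120) Steps.nil)))) (nat_lit 19) (nat_lit 4),
  Rule.mk (nat_lit 5) (nat_lit 58) (Steps.fwd (nat_lit 1024) (Steps.bwd (nat_lit 4) (Steps.fwd (nat_lit 5120) (Steps.bwd (nat_lit 1) Steps.nil)))) (nat_lit 18) (nat_lit 0),
  Rule.mk (nat_lit 4) (nat_lit 58) (Steps.fwd (nat_lit 6144) (Steps.bwd (nat_lit 7) (Steps.bwd (nat_lit 4) (Steps.fwd (nat_lit 7168) Steps.nil)))) (nat_lit 20) (nat_lit 1),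
  Rule.mk (nat_lit 0) (nat_lit 70) (Steps.bwd (nat_lit 7) (Steps.bwd (nat_lit 4) (Steps.bwd (nat_lit 6) (Steps.fwd (nat_lit 7168) (Steps.bwd (nat_lit 4) Steps.nil))))) (nat_lit 20) (nat_lit 4),
  Rule.mk (nat_lit 8) (nat_lit 58) (Steps.fwd (nat_lit 4096) (Steps.fwd (nat_lit 8192) (Steps.bwd (nat_lit 4) (Steps.bwd (nat_lit 6) Steps.nil)))) (nat_lit 28) (nat_lit 1),
  Rule.mk (nat_lit 8) (nat_lit 94) (Steps.fwd (nat_lit 3072) (Steps.bwd (nat_lit 4) (Steps.bwd (nat_lit 3) (Steps.fwd (nat_lit 8192) (Steps.fwd (nat_lit 6144) (Steps.bwd (nat_lit 4) (Steps.fwd (nat_lit 5120) Steps.nil))))))) (nat_lit 32) (nat_lit 1),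
  Rule.mk (nat_lit 3) (nat_lit 58) (Steps.fwd (nat_lit 1024) (Steps.fwd (nat_lit 3072) (Steps.bwd (nat_lit 7) (Steps.bwd (nat_lit 1) Steps.nil)))) (nat_lit 17) (nat_lit 4),
  Rule.mk (nat_lit 2) (nat_lit 94) (Steps.bwd (nat_lit 10) (Steps.fwd (nat_lit 7168) (Steps.bwd (nat_lit 6) (Steps.fwd (nat_lit 2048) (Steps.bwd (nat_lit 6) (Steps.bwd (nat_lit 7) (Steps.fwd (nat_lit 10240) Steps.nil))))))) (nat_lit 46) (nat_lit 1),
  Rule.mk (nat_lit 4) (nat_lit 94) (Steps.fwd (nat_lit 2048) (Steps.bwd (nat_lit 9) (Steps.bwd (nat_lit 6) (Steps.bwd (nat_lit 4) (Steps.fwd (nat_lit 5120) (Steps.bwd (nat_lit 8) (Steps.fwd (nat_lit 3072) Steps.nil))))))) (nat_lit 32) (nat_lit 3),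
  Rule.mk (nat_lit 5) (nat_lit 58) (Steps.bwd (nat_lit 1) (Steps.bwd (nat_lit 4) (Steps.fwd (nat_lit 5120) (Steps.bwd (nat_lit 1) Steps.nil)))) (nat_lit 18) (nat_lit 0),
  Rule.mk (nat_lit 5) (nat_lit 58) (Steps.bwd (nat_lit 4) (Steps.bwd (nat_lit 1) (Steps.fwd (nat_lit 5120) (Steps.fwd (nat_lit 1024) Steps.nil)))) (nat_lit 19) (nat_lit 3),
  Rule.mk (nat_lit 9) (nat_lit 46) (Steps.bwd (nat_lit 1) (Steps.bwd (nat_lit 8) (Steps.fwd (nat_lit 1024) Steps.nil))) (nat_lit 24) (nat_lit 3),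
  Rule.mk (nat_lit 5) (nat_lit 94) (Steps.fwd (nat_lit 3072) (Steps.fwd (nat_lit 4096) (Steps.fwd (nat_lit 2048) (Steps.bwd (nat_lit 1) (Steps.bwd (nat_lit 8) (Steps.bwd (nat_lit 5) (Steps.bwd (nat_lit 9) Steps.nil))))))) (nat_lit 35) (nat_lit 1),
  Rule.mk (nat_lit 0) (nat_lit 58) (Steps.fwd (nat_lit 5120) (Steps.bwd (nat_lit 2) (Steps.bwd (nat_lit 5) (Steps.fwd (nat_lit 3072) Steps.nil)))) (nat_lit 14) (nat_lit 1),
  Rule.mk (nat_lit 1) (nat_lit 34) (Steps.bwd (nat_lit 0) (Steps.fwd (nat_lit 1024) Steps.nil)) (nat_lit 48) (nat_lit 0),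
  Rule.mk (nat_lit 0) (nat_lit 46) (Steps.bwd (nat_lit 4) (Steps.fwd (nat_lit 0) (Steps.fwd (nat_lit 4096) Steps.nil))) (nat_lit 48) (nat_lit 0),
  Rule.mk (nat_lit 8) (nat_lit 94) (Steps.bwd (nat_lit 5) (Steps.bwd (nat_lit 9) (Steps.bwd (nat_lit 1) (Steps.bwd (nat_lit 2) (Steps.fwd (nat_lit 4096) (Steps.fwd (nat_lit 2048) (Steps.fwd (nat_lit 5120) Steps.nil))))))) (nat_lit 34) (nat_lit 1),
  Rule.mk (nat_lit 5) (nat_lit 94) (Steps.bwd (nat_lit 9) (Steps.fwd (nat_lit 5120) (Steps.fwd (nat_lit 3072) (Steps.fwd (nat_lit 4096) (Steps.fwd (nat_lit 2048) (Steps.fwd (nat_lit 1024) (Steps.fwd (nat_lit 9216) Steps.nil))))))) (nat_lit 35) (nat_lit 7),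
  Rule.mk (nat_lit 0) (nat_lit 46) (Steps.bwd (nat_lit 4) (Steps.fwd (nat_lit 0) (Steps.bwd (nat_lit 4) Steps.nil))) (nat_lit 48) (nat_lit 0),
  Rule.mk (nat_lit 2) (nat_lit 34) (Steps.bwd (nat_lit 0) (Steps.fwd (nat_lit 2048) Steps.nil)) (nat_lit 48) (nat_lit 0),
  Rule.mk (nat_lit 7) (nat_lit 58) (Steps.bwd (nat_lit 3) (Steps.bwd (nat_lit 1) (Steps.bwd (nat_lit 2) (Steps.bwd (nat_lit 1) Steps.nil)))) (nat_lit 16) (nat_lit 4),
  Rule.mk (nat_lit 1) (nat_lit 58) (Steps.bwd (nat_lit 3) (Steps.bwd (nat_lit 1) (Steps.bwd (nat_lit 2) (Steps.bwd (nat_lit 7) Steps.nil)))) (nat_lit 17) (nat_lit 3),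
  Rule.mk (nat_lit 8) (nat_lit 46) (Steps.bwd (nat_lit 1) (Steps.fwd (nat_lit 8192) (Steps.bwd (nat_lit 1) Steps.nil))) (nat_lit 24) (nat_lit 1),
  Rule.mk (nat_lit 8) (nat_lit 58) (Steps.bwd (nat_lit 4) (Steps.bwd (nat_lit 9) (Steps.bwd (nat_lit 4) (Steps.fwd (nat_lit 6144) Steps.nil)))) (nat_lit 28) (nat_lit 1),
  Rule.mk (nat_lit 0) (nat_lit 58) (Steps.bwd (nat_lit 10) (Steps.bwd (nat_lit 9) (Steps.fwd (nat_lit 10240) (Steps.fwd (nat_lit 9216) Steps.nil)))) (nat_lit 42) (nat_lit 2),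
  Rule.mk (nat_lit 1) (nat_lit 46) (Steps.fwd (nat_lit 9216) (Steps.fwd (nat_lit 1024) (Steps.bwd (nat_lit 9) Steps.nil))) (nat_lit 24) (nat_lit 0),
  Rule.mk (nat_lit 2) (nat_lit 46) (Steps.bwd (nat_lit 1) (Steps.fwd (nat_lit 2048) (Steps.bwd (nat_lit 7) Steps.nil))) (nat_lit 12) (nat_lit 0),
  Rule.mk (nat_lit 7) (nat_lit 58) (Steps.bwd (nat_lit 1) (Steps.bwd (nat_lit 3) (Steps.bwd (nat_lit 1) (Steps.fwd (nat_lit 3072) Steps.nil)))) (nat_lit 17) (nat_lit 2),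
  Rule.mk (nat_lit 8) (nat_lit 58) (Steps.fwd (nat_lit 4096) (Steps.fwd (nat_lit 8192) (Steps.fwd (nat_lit 4096) (Steps.bwd (nat_lit 6) Steps.nil)))) (nat_lit 28) (nat_lit 1),
  Rule.mk (nat_lit 3) (nat_lit 46) (Steps.bwd (nat_lit 5) (Steps.fwd (nat_lit 2048) (Steps.fwd (nat_lit 5120) Steps.nil))) (nat_lit 15) (nat_lit 0),
  Rule.mk (nat_lit 10) (nat_lit 46) (Steps.fwd (nat_lit 1024) (Steps.bwd (nat_lit 10) (Steps.bwd (nat_lit 1) Steps.nil))) (nat_lit 38) (nat_lit 1),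
  Rule.mk (nat_lit 6) (nat_lit 94) (Steps.fwd (nat_lit 7168) (Steps.bwd (nat_lit 10) (Steps.fwd (nat_lit 2048) (Steps.bwd (nat_lit 10) (Steps.bwd (nat_lit 7) (Steps.fwd (nat_lit 6144) (Steps.fwd (nat_lit 3072) Steps.nil))))))) (nat_lit 47) (nat_lit 5),
  Rule.mk (nat_lit 6) (nat_lit 94) (Steps.fwd (nat_lit 2048) (Steps.fwd (nat_lit 6144) (Steps.bwd (nat_lit 7) (Steps.fwd (nat_lit 10240) (Steps.bwd (nat_lit 2) (Steps.bwd (nat_lit 10) (Steps.fwd (nat_lit 7168) Steps.nil))))))) (nat_lit 46) (nat_lit 4),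
  Rule.mk (nat_lit 9) (nat_lit 46) (Steps.bwd (nat_lit 10) (Steps.bwd (nat_lit 8) (Steps.bwd (nat_lit 10) Steps.nil))) (nat_lit 42) (nat_lit 0),
  Rule.mk (nat_lit 6) (nat_lit 94) (Steps.fwd (nat_lit 2048) (Steps.fwd (nat_lit 6144) (Steps.bwd (nat_lit 7) (Steps.fwd (nat_lit 10240) (Steps.bwd (nat_lit 2) (Steps.bwd (nat_lit 10) (Steps.bwd (nat_lit 7) Steps.nil))))))) (nat_lit 46) (nat_lit 4),
  Rule.mk (nat_lit 2) (nat_lit 94) (Steps.bwd (nat_lit 4) (Steps.fwd (nat_lit 2048) (Steps.fwd (nat_lit 5120) (Steps.bwd (nat_lit 8) (Steps.bwd (nat_lit 5) (Steps.fwd (nat_lit 8192) (Steps.bwd (nat_lit 1) Steps.nil))))))) (nat_lit 34) (nat_lit 5),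
  Rule.mk (nat_lit 7) (nat_lit 58) (Steps.bwd (nat_lit 1) (Steps.fwd (nat_lit 2048) (Steps.bwd (nat_lit 1) (Steps.fwd (nat_lit 3072) Steps.nil)))) (nat_lit 17) (nat_lit 2),
  Rule.mk (nat_lit 10) (nat_lit 94) (Steps.bwd (nat_lit 7) (Steps.fwd (nat_lit 6144) (Steps.fwd (nat_lit 2048) (Steps.fwd (nat_lit 6144) (Steps.fwd (nat_lit 7168) (Steps.fwd (nat_lit 10240) (Steps.bwd (nat_lit 2) Steps.nil))))))) (nat_lit 46) (nat_lit 2),
  Rule.mk (nat_lit 4) (nat_lit 46) (Steps.fwd (nat_lit 9216) (Steps.fwd (nat_lit 6144) (Steps.bwd (nat_lit 9) Steps.nil))) (nat_lit 26) (nat_lit 0),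
  Rule.mk (nat_lit 8) (nat_lit 58) (Steps.fwd (nat_lit 4096) (Steps.bwd (nat_lit 9) (Steps.fwd (nat_lit 4096) (Steps.fwd (nat_lit 6144) Steps.nil)))) (nat_lit 28) (nat_lit 1),
  Rule.mk (nat_lit 4) (nat_lit 46) (Steps.bwd (nat_lit 8) (Steps.fwd (nat_lit 6144) (Steps.fwd (nat_lit 8192) Steps.nil))) (nat_lit 26) (nat_lit 0),
  Rule.mk (nat_lit 10) (nat_lit 94) (Steps.bwd (nat_lit 7) (Steps.fwd (nat_lit 6144) (Steps.fwd (nat_lit 2048) (Steps.fwd (nat_lit 6144) (Steps.bwd (nat_lit 7) (Steps.bwd (nat_lit 10) (Steps.bwd (nat_lit 2) Steps.nil))))))) (nat_lit 46) (nat_lit 2),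
  Rule.mk (nat_lit 3) (nat_lit 94) (Steps.bwd (nat_lit 10) (Steps.bwd (nat_lit 7) (Steps.fwd (nat_lit 6144) (Steps.bwd (nat_lit 2) (Steps.fwd (nat_lit 6144) (Steps.bwd (nat_lit 7) (Steps.bwd (nat_lit 10) Steps.nil))))))) (nat_lit 47) (nat_lit 0),
  Rule.mk (nat_lit 8) (nat_lit 94) (Steps.fwd (nat_lit 5120) (Steps.fwd (nat_lit 8192) (Steps.fwd (nat_lit 1024) (Steps.fwd (nat_lit 3072) (Steps.bwd (nat_lit 4) (Steps.fwd (nat_lit 2048) (Steps.bwd (nat_lit 5) Steps.nil))))))) (nat_lit 34) (nat_lit 1),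
  Rule.mk (nat_lit 9) (nat_lit 94) (Steps.fwd (nat_lit 1024) (Steps.fwd (nat_lit 3072) (Steps.fwd (nat_lit 4096) (Steps.fwd (nat_lit 2048) (Steps.bwd (nat_lit 5) (Steps.fwd (nat_lit 9216) (Steps.bwd (nat_lit 5) Steps.nil))))))) (nat_lit 34) (nat_lit 3),
  Rule.mk (nat_lit 3) (nat_lit 46) (Steps.bwd (nat_lit 7) (Steps.bwd (nat_lit 2) (Steps.bwd (nat_lit 1) Steps.nil))) (nat_lit 12) (nat_lit 2),
  Rule.mk (nat_lit 6) (nat_lit 94) (Steps.bwd (nat_lit 3) (Steps.bwd (nat_lit 6) (Steps.bwd (nat_lit 7) (Steps.bwd (nat_lit 10) (Steps.bwd (nat_lit 2) (Steps.fwd (nat_lit 10240) (Steps.fwd (nat_lit 7168) Steps.nil))))))) (nat_lit 46) (nat_lit 4),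
  Rule.mk (nat_lit 10) (nat_lit 94) (Steps.bwd (nat_lit 3) (Steps.bwd (nat_lit 10) (Steps.bwd (nat_lit 7) (Steps.bwd (nat_lit 6) (Steps.fwd (nat_lit 3072) (Steps.bwd (nat_lit 6) (Steps.bwd (nat_lit 7) Steps.nil))))))) (nat_lit 47) (nat_lit 7),
  Rule.mk (nat_lit 5) (nat_lit 94) (Steps.bwd (nat_lit 8) (Steps.bwd (nat_lit 5) (Steps.bwd (nat_lit 9) (Steps.fwd (nat_lit 1024) (Steps.fwd (nat_lit 3072) (Steps.fwd (nat_lit 4096) (Steps.bwd (nat_lit 3) Steps.nil))))))) (nat_lit 34) (nat_lit 0),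
  Rule.mk (nat_lit 3) (nat_lit 46) (Steps.fwd (nat_lit 5120) (Steps.bwd (nat_lit 3) (Steps.bwd (nat_lit 5) Steps.nil))) (nat_lit 15) (nat_lit 0),
  Rule.mk (nat_lit 5) (nat_lit 94) (Steps.bwd (nat_lit 8) (Steps.fwd (nat_lit 3072) (Steps.bwd (nat_lit 4) (Steps.fwd (nat_lit 2048) (Steps.bwd (nat_lit 9) (Steps.fwd (nat_lit 6144) (Steps.fwd (nat_lit 4096) Steps.nil))))))) (nat_lit 32) (nat_lit 0),
  Rule.mk (nat_lit 5) (nat_lit 94) (Steps.fwd (nat_lit 4096) (Steps.fwd (nat_lit 6144) (Steps.bwd (nat_lit 8) (Steps.fwd (nat_lit 3072) (Steps.bwd (nat_lit 4) (Steps.fwd (nat_lit 2048) (Steps.bwd (nat_lit 9) Steps.nil))))))) (nat_lit 33) (nat_lit 1),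
  Rule.mk (nat_lit 6) (nat_lit 58) (Steps.fwd (nat_lit 7168) (Steps.fwd (nat_lit 4096) (Steps.bwd (nat_lit 7) (Steps.bwd (nat_lit 4) Steps.nil)))) (nat_lit 20) (nat_lit 2),
  Rule.mk (nat_lit 6) (nat_lit 58) (Steps.bwd (nat_lit 4) (Steps.fwd (nat_lit 7168) (Steps.fwd (nat_lit 4096) (Steps.bwd (nat_lit 7) Steps.nil)))) (nat_lit 21) (nat_lit 4),
  Rule.mk (nat_lit 4) (nat_lit 94) (Steps.bwd (nat_lit 3) (Steps.fwd (nat_lit 8192) (Steps.fwd (nat_lit 6144) (Steps.fwd (nat_lit 4096) (Steps.fwd (nat_lit 5120) (Steps.bwd (nat_lit 8) (Steps.bwd (nat_lit 2) Steps.nil))))))) (nat_lit 32) (nat_lit 3),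
  Rule.mk (nat_lit 1) (nat_lit 58) (Steps.fwd (nat_lit 5120) (Steps.bwd (nat_lit 1) (Steps.fwd (nat_lit 5120) (Steps.bwd (nat_lit 4) Steps.nil)))) (nat_lit 19) (nat_lit 0),
  Rule.mk (nat_lit 7) (nat_lit 58) (Steps.bwd (nat_lit 4) (Steps.fwd (nat_lit 6144) (Steps.fwd (nat_lit 7168) (Steps.bwd (nat_lit 4) Steps.nil)))) (nat_lit 20) (nat_lit 0),
  Rule.mk (nat_lit 4) (nat_lit 58) (Steps.bwd (nat_lit 7) (Steps.fwd (nat_lit 4096) (Steps.fwd (nat_lit 7168) (Steps.bwd (nat_lit 6) Steps.nil)))) (nat_lit 21) (nat_lit 0),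
  Rule.mk (nat_lit 10) (nat_lit 94) (Steps.bwd (nat_lit 3) (Steps.bwd (nat_lit 10) (Steps.fwd (nat_lit 7168) (Steps.bwd (nat_lit 6) (Steps.bwd (nat_lit 2) (Steps.bwd (nat_lit 6) (Steps.bwd (nat_lit 7) Steps.nil))))))) (nat_lit 47) (nat_lit 7),
  Rule.mk (nat_lit 4) (nat_lit 94) (Steps.bwd (nat_lit 3) (Steps.fwd (nat_lit 8192) (Steps.bwd (nat_lit 6) (Steps.fwd (nat_lit 4096) (Steps.bwd (nat_lit 5) (Steps.bwd (nat_lit 8) (Steps.bwd (nat_lit 2) Steps.nil))))))) (nat_lit 32) (nat_lit 3),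
  Rule.mk (nat_lit 4) (nat_lit 94) (Steps.bwd (nat_lit 3) (Steps.fwd (nat_lit 8192) (Steps.fwd (nat_lit 6144) (Steps.bwd (nat_lit 4) (Steps.fwd (nat_lit 5120) (Steps.bwd (nat_lit 8) (Steps.fwd (nat_lit 3072) Steps.nil))))))) (nat_lit 32) (nat_lit 3),
  Rule.mk (nat_lit 8) (nat_lit 94) (Steps.bwd (nat_lit 2) (Steps.bwd (nat_lit 4) (Steps.fwd (nat_lit 2048) (Steps.bwd (nat_lit 9) (Steps.fwd (nat_lit 6144) (Steps.fwd (nat_lit 4096) (Steps.bwd (nat_lit 5) Steps.nil))))))) (nat_lit 32) (nat_lit 1),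
  Rule.mk (nat_lit 9) (nat_lit 94) (Steps.fwd (nat_lit 5120) (Steps.bwd (nat_lit 2) (Steps.bwd (nat_lit 4) (Steps.bwd (nat_lit 3) (Steps.fwd (nat_lit 1024) (Steps.bwd (nat_lit 8) (Steps.bwd (nat_lit 5) Steps.nil))))))) (nat_lit 35) (nat_lit 0),
  Rule.mk (nat_lit 3) (nat_lit 94) (Steps.bwd (nat_lit 9) (Steps.bwd (nat_lit 6) (Steps.bwd (nat_lit 4) (Steps.fwd (nat_lit 5120) (Steps.bwd (nat_lit 8) (Steps.bwd (nat_lit 2) (Steps.bwd (nat_lit 4) Steps.nil))))))) (nat_lit 32) (nat_lit 4)]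
noncomputable def R_8 : List (Rule) := [Rule.mk (nat_lit 5) (nat_lit 46) (Steps.fwd (nat_lit 2048) (Steps.bwd (nat_lit 5) (Steps.bwd (nat_lit 3) Steps.nil))) (nat_lit 15) (nat_lit 1),
  Rule.mk (nat_lit 9) (nat_lit 94) (Steps.bwd (nat_lit 5) (Steps.bwd (nat_lit 4) (Steps.fwd (nat_lit 6144) (Steps.bwd (nat_lit 8) (Steps.bwd (nat_lit 2) (Steps.fwd (nat_lit 4096) (Steps.fwd (nat_lit 2048) Steps.nil))))))) (nat_lit 33) (nat_lit 0),
  Rule.mk (nat_lit 4) (nat_lit 94) (Steps.bwd (nat_lit 3) (Steps.fwd (nat_lit 5120) (Steps.bwd (nat_lit 8) (Steps.bwd (nat_lit 5) (Steps.bwd (nat_lit 9) (Steps.bwd (nat_lit 1) (Steps.bwd (nat_lit 2) Steps.nil))))))) (nat_lit 34) (nat_lit 6),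
  Rule.mk (nat_lit 7) (nat_lit 94) (Steps.bwd (nat_lit 6) (Steps.bwd (nat_lit 3) (Steps.bwd (nat_lit 6) (Steps.fwd (nat_lit 7168) (Steps.bwd (nat_lit 10) (Steps.fwd (nat_lit 3072) (Steps.fwd (nat_lit 10240) Steps.nil))))))) (nat_lit 46) (nat_lit 3),
  Rule.mk (nat_lit 2) (nat_lit 94) (Steps.bwd (nat_lit 10) (Steps.fwd (nat_lit 7168) (Steps.fwd (nat_lit 6144) (Steps.bwd (nat_lit 3) (Steps.fwd (nat_lit 6144) (Steps.bwd (nat_lit 7) (Steps.fwd (nat_lit 10240) Steps.nil))))))) (nat_lit 46) (nat_lit 1),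
  Rule.mk (nat_lit 10) (nat_lit 106) (Steps.bwd (nat_lit 7) (Steps.bwd (nat_lit 6) (Steps.bwd (nat_lit 10) (Steps.fwd (nat_lit 7168) (Steps.fwd (nat_lit 6144) (Steps.fwd (nat_lit 10240) (Steps.bwd (nat_lit 7) (Steps.fwd (nat_lit 6144) Steps.nil)))))))) (nat_lit 44) (nat_lit 1),
  Rule.mk (nat_lit 4) (nat_lit 58) (Steps.bwd (nat_lit 8) (Steps.fwd (nat_lit 4096) (Steps.fwd (nat_lit 8192) (Steps.bwd (nat_lit 6) Steps.nil)))) (nat_lit 29) (nat_lit 2),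
  Rule.mk (nat_lit 3) (nat_lit 46) (Steps.fwd (nat_lit 7168) (Steps.bwd (nat_lit 2) (Steps.bwd (nat_lit 1) Steps.nil))) (nat_lit 12) (nat_lit 2),
  Rule.mk (nat_lit 2) (nat_lit 58) (Steps.bwd (nat_lit 1) (Steps.bwd (nat_lit 7) (Steps.bwd (nat_lit 3) (Steps.fwd (nat_lit 1024) Steps.nil)))) (nat_lit 16) (nat_lit 2),
  Rule.mk (nat_lit 4) (nat_lit 58) (Steps.fwd (nat_lit 1024) (Steps.bwd (nat_lit 5) (Steps.fwd (nat_lit 1024) (Steps.bwd (nat_lit 5) Steps.nil)))) (nat_lit 19) (nat_lit 4),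
  Rule.mk (nat_lit 5) (nat_lit 94) (Steps.bwd (nat_lit 9) (Steps.fwd (nat_lit 1024) (Steps.bwd (nat_lit 2) (Steps.fwd (nat_lit 4096) (Steps.fwd (nat_lit 2048) (Steps.fwd (nat_lit 5120) (Steps.fwd (nat_lit 9216) Steps.nil))))))) (nat_lit 34) (nat_lit 2),
  Rule.mk (nat_lit 5) (nat_lit 94) (Steps.bwd (nat_lit 9) (Steps.fwd (nat_lit 1024) (Steps.fwd (nat_lit 3072) (Steps.fwd (nat_lit 4096) (Steps.bwd (nat_lit 3) (Steps.bwd (nat_lit 5) (Steps.bwd (nat_lit 8) Steps.nil))))))) (nat_lit 34) (nat_lit 2),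
  Rule.mk (nat_lit 10) (nat_lit 94) (Steps.bwd (nat_lit 7) (Steps.bwd (nat_lit 6) (Steps.bwd (nat_lit 3) (Steps.fwd (nat_lit 6144) (Steps.fwd (nat_lit 7168) (Steps.bwd (nat_lit 10) (Steps.fwd (nat_lit 3072) Steps.nil))))))) (nat_lit 46) (nat_lit 2),
  Rule.mk (nat_lit 2) (nat_lit 94) (Steps.bwd (nat_lit 10) (Steps.fwd (nat_lit 7168) (Steps.fwd (nat_lit 6144) (Steps.fwd (nat_lit 2048) (Steps.fwd (nat_lit 6144) (Steps.bwd (nat_lit 7) (Steps.bwd (nat_lit 10) Steps.nil))))))) (nat_lit 46) (nat_lit 1),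
  Rule.mk (nat_lit 3) (nat_lit 94) (Steps.bwd (nat_lit 10) (Steps.bwd (nat_lit 7) (Steps.fwd (nat_lit 6144) (Steps.fwd (nat_lit 3072) (Steps.fwd (nat_lit 6144) (Steps.bwd (nat_lit 7) (Steps.bwd (nat_lit 10) Steps.nil))))))) (nat_lit 47) (nat_lit 0),
  Rule.mk (nat_lit 10) (nat_lit 106) (Steps.bwd (nat_lit 7) (Steps.fwd (nat_lit 6144) (Steps.bwd (nat_lit 10) (Steps.fwd (nat_lit 7168) (Steps.fwd (nat_lit 6144) (Steps.fwd (nat_lit 10240) (Steps.bwd (nat_lit 7) (Steps.bwd (nat_lit 6) Steps.nil)))))))) (nat_lit 44) (nat_lit 1),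
  Rule.mk (nat_lit 3) (nat_lit 94) (Steps.bwd (nat_lit 6) (Steps.fwd (nat_lit 7168) (Steps.bwd (nat_lit 10) (Steps.bwd (nat_lit 2) (Steps.fwd (nat_lit 10240) (Steps.bwd (nat_lit 7) (Steps.fwd (nat_lit 6144) Steps.nil))))))) (nat_lit 46) (nat_lit 5),
  Rule.mk (nat_lit 3) (nat_lit 94) (Steps.bwd (nat_lit 10) (Steps.bwd (nat_lit 7) (Steps.fwd (nat_lit 6144) (Steps.bwd (nat_lit 2) (Steps.fwd (nat_lit 6144) (Steps.fwd (nat_lit 7168) (Steps.fwd (nat_lit 10240) Steps.nil))))))) (nat_lit 47) (nat_lit 0),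
  Rule.mk (nat_lit 3) (nat_lit 94) (Steps.fwd (nat_lit 6144) (Steps.fwd (nat_lit 7168) (Steps.fwd (nat_lit 10240) (Steps.bwd (nat_lit 2) (Steps.fwd (nat_lit 10240) (Steps.fwd (nat_lit 7168) (Steps.bwd (nat_lit 6) Steps.nil))))))) (nat_lit 46) (nat_lit 5),
  Rule.mk (nat_lit 2) (nat_lit 94) (Steps.bwd (nat_lit 6) (Steps.fwd (nat_lit 7168) (Steps.fwd (nat_lit 10240) (Steps.fwd (nat_lit 2048) (Steps.fwd (nat_lit 10240) (Steps.fwd (nat_lit 7168) (Steps.bwd (nat_lit 6) Steps.nil))))))) (nat_lit 47) (nat_lit 4),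
  Rule.mk (nat_lit 7) (nat_lit 46) (Steps.fwd (nat_lit 9216) (Steps.bwd (nat_lit 7) (Steps.bwd (nat_lit 8) Steps.nil))) (nat_lit 30) (nat_lit 1),
  Rule.mk (nat_lit 10) (nat_lit 94) (Steps.fwd (nat_lit 7168) (Steps.fwd (nat_lit 6144) (Steps.bwd (nat_lit 3) (Steps.bwd (nat_lit 6) (Steps.fwd (nat_lit 7168) (Steps.bwd (nat_lit 10) (Steps.bwd (nat_lit 2) Steps.nil))))))) (nat_lit 46) (nat_lit 2),
  Rule.mk (nat_lit 5) (nat_lit 94) (Steps.bwd (nat_lit 9) (Steps.bwd (nat_lit 1) (Steps.fwd (nat_lit 3072) (Steps.fwd (nat_lit 4096) (Steps.bwd (nat_lit 3) (Steps.fwd (nat_lit 5120) (Steps.fwd (nat_lit 9216) Steps.nil))))))) (nat_lit 34) (nat_lit 2),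
  Rule.mk (nat_lit 1) (nat_lit 58) (Steps.bwd (nat_lit 4) (Steps.fwd (nat_lit 5120) (Steps.fwd (nat_lit 1024) (Steps.bwd (nat_lit 5) Steps.nil)))) (nat_lit 18) (nat_lit 1),
  Rule.mk (nat_lit 6) (nat_lit 58) (Steps.fwd (nat_lit 9216) (Steps.bwd (nat_lit 4) (Steps.bwd (nat_lit 9) (Steps.fwd (nat_lit 4096) Steps.nil)))) (nat_lit 28) (nat_lit 0),
  Rule.mk (nat_lit 6) (nat_lit 58) (Steps.fwd (nat_lit 4096) (Steps.fwd (nat_lit 9216) (Steps.bwd (nat_lit 4) (Steps.bwd (nat_lit 9) Steps.nil)))) (nat_lit 29) (nat_lit 1),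
  Rule.mk (nat_lit 10) (nat_lit 94) (Steps.bwd (nat_lit 2) (Steps.bwd (nat_lit 10) (Steps.fwd (nat_lit 7168) (Steps.fwd (nat_lit 6144) (Steps.bwd (nat_lit 3) (Steps.fwd (nat_lit 6144) (Steps.bwd (nat_lit 7) Steps.nil))))))) (nat_lit 46) (nat_lit 0),
  Rule.mk (nat_lit 10) (nat_lit 46) (Steps.bwd (nat_lit 7) (Steps.bwd (nat_lit 10) (Steps.fwd (nat_lit 7168) Steps.nil))) (nat_lit 40) (nat_lit 1),
  Rule.mk (nat_lit 6) (nat_lit 94) (Steps.fwd (nat_lit 2048) (Steps.fwd (nat_lit 6144) (Steps.fwd (nat_lit 7168) (Steps.fwd (nat_lit 10240) (Steps.fwd (nat_lit 3072) (Steps.bwd (nat_lit 10) (Steps.bwd (nat_lit 7) Steps.nil))))))) (nat_lit 46) (nat_lit 4),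
  Rule.mk (nat_lit 2) (nat_lit 94) (Steps.bwd (nat_lit 10) (Steps.bwd (nat_lit 7) (Steps.fwd (nat_lit 6144) (Steps.bwd (nat_lit 3) (Steps.fwd (nat_lit 6144) (Steps.bwd (nat_lit 7) (Steps.bwd (nat_lit 10) Steps.nil))))))) (nat_lit 46) (nat_lit 1),
  Rule.mk (nat_lit 3) (nat_lit 94) (Steps.fwd (nat_lit 10240) (Steps.bwd (nat_lit 7) (Steps.fwd (nat_lit 6144) (Steps.fwd (nat_lit 3072) (Steps.fwd (nat_lit 6144) (Steps.bwd (nat_lit 7) (Steps.bwd (nat_lit 10) Steps.nil))))))) (nat_lit 47) (nat_lit 0),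
  Rule.mk (nat_lit 9) (nat_lit 94) (Steps.bwd (nat_lit 5) (Steps.bwd (nat_lit 2) (Steps.fwd (nat_lit 4096) (Steps.bwd (nat_lit 3) (Steps.bwd (nat_lit 1) (Steps.bwd (nat_lit 8) (Steps.bwd (nat_lit 5) Steps.nil))))))) (nat_lit 35) (nat_lit 0),
  Rule.mk (nat_lit 8) (nat_lit 46) (Steps.fwd (nat_lit 10240) (Steps.bwd (nat_lit 9) (Steps.bwd (nat_lit 10) Steps.nil))) (nat_lit 42) (nat_lit 2),
  Rule.mk (nat_lit 4) (nat_lit 94) (Steps.fwd (nat_lit 5120) (Steps.fwd (nat_lit 9216) (Steps.bwd (nat_lit 2) (Steps.fwd (nat_lit 4096) (Steps.fwd (nat_lit 2048) (Steps.bwd (nat_lit 9) (Steps.bwd (nat_lit 6) Steps.nil))))))) (nat_lit 32) (nat_lit 7),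
  Rule.mk (nat_lit 4) (nat_lit 58) (Steps.fwd (nat_lit 7168) (Steps.bwd (nat_lit 4) (Steps.bwd (nat_lit 7) (Steps.fwd (nat_lit 6144) Steps.nil)))) (nat_lit 21) (nat_lit 0),
  Rule.mk (nat_lit 8) (nat_lit 46) (Steps.bwd (nat_lit 6) (Steps.bwd (nat_lit 9) (Steps.bwd (nat_lit 4) Steps.nil))) (nat_lit 26) (nat_lit 1),
  Rule.mk (nat_lit 5) (nat_lit 58) (Steps.fwd (nat_lit 1024) (Steps.fwd (nat_lit 5120) (Steps.fwd (nat_lit 1024) (Steps.bwd (nat_lit 4) Steps.nil)))) (nat_lit 18) (nat_lit 3),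
  Rule.mk (nat_lit 3) (nat_lit 94) (Steps.bwd (nat_lit 9) (Steps.fwd (nat_lit 6144) (Steps.fwd (nat_lit 4096) (Steps.bwd (nat_lit 5) (Steps.fwd (nat_lit 9216) (Steps.fwd (nat_lit 3072) (Steps.bwd (nat_lit 4) Steps.nil))))))) (nat_lit 32) (nat_lit 4),
  Rule.mk (nat_lit 0) (nat_lit 70) (Steps.bwd (nat_lit 4) (Steps.bwd (nat_lit 7) (Steps.fwd (nat_lit 4096) (Steps.fwd (nat_lit 6144) (Steps.fwd (nat_lit 7168) Steps.nil))))) (nat_lit 20) (nat_lit 3),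
  Rule.mk (nat_lit 0) (nat_lit 46) (Steps.bwd (nat_lit 1) (Steps.fwd (nat_lit 0) (Steps.bwd (nat_lit 1) Steps.nil))) (nat_lit 48) (nat_lit 0),
  Rule.mk (nat_lit 0) (nat_lit 46) (Steps.bwd (nat_lit 6) (Steps.fwd (nat_lit 0) (Steps.bwd (nat_lit 6) Steps.nil))) (nat_lit 48) (nat_lit 0),
  Rule.mk (nat_lit 1) (nat_lit 58) (Steps.fwd (nat_lit 3072) (Steps.fwd (nat_lit 7168) (Steps.bwd (nat_lit 1) (Steps.bwd (nat_lit 3) Steps.nil)))) (nat_lit 17) (nat_lit 0),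
  Rule.mk (nat_lit 1) (nat_lit 46) (Steps.fwd (nat_lit 10240) (Steps.bwd (nat_lit 1) (Steps.bwd (nat_lit 10) Steps.nil))) (nat_lit 38) (nat_lit 0),
  Rule.mk (nat_lit 2) (nat_lit 58) (Steps.bwd (nat_lit 7) (Steps.bwd (nat_lit 1) (Steps.bwd (nat_lit 3) (Steps.bwd (nat_lit 1) Steps.nil)))) (nat_lit 17) (nat_lit 1),
  Rule.mk (nat_lit 6) (nat_lit 94) (Steps.bwd (nat_lit 2) (Steps.bwd (nat_lit 6) (Steps.bwd (nat_lit 7) (Steps.bwd (nat_lit 10) (Steps.bwd (nat_lit 3) (Steps.fwd (nat_lit 10240) (Steps.fwd (nat_lit 7168) Steps.nil))))))) (nat_lit 47) (nat_lit 3),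
  Rule.mk (nat_lit 2) (nat_lit 94) (Steps.fwd (nat_lit 10240) (Steps.fwd (nat_lit 7168) (Steps.bwd (nat_lit 6) (Steps.bwd (nat_lit 3) (Steps.bwd (nat_lit 6) (Steps.bwd (nat_lit 7) (Steps.bwd (nat_lit 10) Steps.nil))))))) (nat_lit 46) (nat_lit 1),
  Rule.mk (nat_lit 6) (nat_lit 106) (Steps.fwd (nat_lit 10240) (Steps.fwd (nat_lit 7168) (Steps.fwd (nat_lit 6144) (Steps.fwd (nat_lit 10240) (Steps.fwd (nat_lit 7168) (Steps.bwd (nat_lit 6) (Steps.fwd (nat_lit 10240) (Steps.fwd (nat_lit 7168) Steps.nil)))))))) (nat_lit 44) (nat_lit 0),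
  Rule.mk (nat_lit 8) (nat_lit 46) (Steps.fwd (nat_lit 1024) (Steps.fwd (nat_lit 8192) (Steps.bwd (nat_lit 1) Steps.nil))) (nat_lit 24) (nat_lit 1),
  Rule.mk (nat_lit 2) (nat_lit 58) (Steps.fwd (nat_lit 7168) (Steps.bwd (nat_lit 1) (Steps.bwd (nat_lit 3) (Steps.bwd (nat_lit 1) Steps.nil)))) (nat_lit 17) (nat_lit 1),
  Rule.mk (nat_lit 5) (nat_lit 58) (Steps.bwd (nat_lit 1) (Steps.bwd (nat_lit 5) (Steps.bwd (nat_lit 4) (Steps.fwd (nat_lit 1024) Steps.nil)))) (nat_lit 19) (nat_lit 1),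
  Rule.mk (nat_lit 1) (nat_lit 58) (Steps.bwd (nat_lit 5) (Steps.fwd (nat_lit 1024) (Steps.bwd (nat_lit 5) (Steps.bwd (nat_lit 4) Steps.nil)))) (nat_lit 19) (nat_lit 0),
  Rule.mk (nat_lit 3) (nat_lit 58) (Steps.bwd (nat_lit 1) (Steps.fwd (nat_lit 3072) (Steps.bwd (nat_lit 1) (Steps.fwd (nat_lit 7168) Steps.nil)))) (nat_lit 16) (nat_lit 0),
  Rule.mk (nat_lit 6) (nat_lit 94) (Steps.bwd (nat_lit 3) (Steps.bwd (nat_lit 6) (Steps.bwd (nat_lit 7) (Steps.bwd (nat_lit 10) (Steps.bwd (nat_lit 2) (Steps.fwd (nat_lit 10240) (Steps.bwd (nat_lit 7) Steps.nil))))))) (nat_lit 46) (nat_lit 4),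
  Rule.mk (nat_lit 4) (nat_lit 94) (Steps.bwd (nat_lit 5) (Steps.bwd (nat_lit 8) (Steps.bwd (nat_lit 2) (Steps.fwd (nat_lit 4096) (Steps.fwd (nat_lit 2048) (Steps.fwd (nat_lit 8192) (Steps.fwd (nat_lit 6144) Steps.nil))))))) (nat_lit 32) (nat_lit 7),
  Rule.mk (nat_lit 9) (nat_lit 58) (Steps.fwd (nat_lit 4096) (Steps.bwd (nat_lit 6) (Steps.bwd (nat_lit 8) (Steps.fwd (nat_lit 4096) Steps.nil)))) (nat_lit 28) (nat_lit 3),
  Rule.mk (nat_lit 0) (nat_lit 58) (Steps.fwd (nat_lit 10240) (Steps.bwd (nat_lit 9) (Steps.bwd (nat_lit 10) (Steps.bwd (nat_lit 8) Steps.nil)))) (nat_lit 42) (nat_lit 2),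
  Rule.mk (nat_lit 3) (nat_lit 34) (Steps.bwd (nat_lit 0) (Steps.bwd (nat_lit 2) Steps.nil)) (nat_lit 48) (nat_lit 0),
  Rule.mk (nat_lit 0) (nat_lit 46) (Steps.fwd (nat_lit 7168) (Steps.fwd (nat_lit 0) (Steps.bwd (nat_lit 7) Steps.nil))) (nat_lit 48) (nat_lit 0),
  Rule.mk (nat_lit 0) (nat_lit 58) (Steps.fwd (nat_lit 7168) (Steps.bwd (nat_lit 8) (Steps.bwd (nat_lit 7) (Steps.fwd (nat_lit 9216) Steps.nil)))) (nat_lit 30) (nat_lit 0),
  Rule.mk (nat_lit 0) (nat_lit 46) (Steps.fwd (nat_lit 6144) (Steps.fwd (nat_lit 0) (Steps.fwd (nat_lit 6144) Steps.nil))) (nat_lit 48) (nat_lit 0),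
  Rule.mk (nat_lit 10) (nat_lit 94) (Steps.fwd (nat_lit 7168) (Steps.fwd (nat_lit 6144) (Steps.bwd (nat_lit 3) (Steps.fwd (nat_lit 6144) (Steps.fwd (nat_lit 7168) (Steps.bwd (nat_lit 10) (Steps.fwd (nat_lit 3072) Steps.nil))))))) (nat_lit 46) (nat_lit 2),
  Rule.mk (nat_lit 3) (nat_lit 94) (Steps.bwd (nat_lit 10) (Steps.fwd (nat_lit 7168) (Steps.fwd (nat_lit 6144) (Steps.fwd (nat_lit 3072) (Steps.bwd (nat_lit 6) (Steps.bwd (nat_lit 7) (Steps.fwd (nat_lit 10240) Steps.nil))))))) (nat_lit 47) (nat_lit 0),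
  Rule.mk (nat_lit 10) (nat_lit 94) (Steps.bwd (nat_lit 7) (Steps.bwd (nat_lit 6) (Steps.bwd (nat_lit 3) (Steps.bwd (nat_lit 6) (Steps.fwd (nat_lit 7168) (Steps.bwd (nat_lit 10) (Steps.bwd (nat_lit 2) Steps.nil))))))) (nat_lit 46) (nat_lit 2),
  Rule.mk (nat_lit 1) (nat_lit 46) (Steps.bwd (nat_lit 10) (Steps.bwd (nat_lit 1) (Steps.bwd (nat_lit 10) Steps.nil))) (nat_lit 38) (nat_lit 0)]
noncomputable def R_9 : List (Rule) := [Rule.mk (nat_lit 0) (nat_lit 106) (Steps.bwd (nat_lit 3) (Steps.fwd (nat_lit 10240) (Steps.fwd (nat_lit 7168) (Steps.fwd (nat_lit 6144) (Steps.bwd (nat_lit 2) (Steps.fwd (nat_lit 6144) (Steps.bwd (nat_lit 7) (Steps.fwd (nat_lit 10240) Steps.nil)))))))) (nat_lit 47) (nat_lit 7),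
  Rule.mk (nat_lit 5) (nat_lit 58) (Steps.fwd (nat_lit 4096) (Steps.bwd (nat_lit 1) (Steps.bwd (nat_lit 5) (Steps.bwd (nat_lit 1) Steps.nil)))) (nat_lit 19) (nat_lit 3),
  Rule.mk (nat_lit 4) (nat_lit 58) (Steps.bwd (nat_lit 7) (Steps.bwd (nat_lit 6) (Steps.bwd (nat_lit 4) (Steps.fwd (nat_lit 7168) Steps.nil)))) (nat_lit 21) (nat_lit 2),
  Rule.mk (nat_lit 6) (nat_lit 58) (Steps.bwd (nat_lit 8) (Steps.bwd (nat_lit 4) (Steps.fwd (nat_lit 8192) (Steps.bwd (nat_lit 4) Steps.nil)))) (nat_lit 28) (nat_lit 0),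
  Rule.mk (nat_lit 1) (nat_lit 58) (Steps.bwd (nat_lit 3) (Steps.bwd (nat_lit 1) (Steps.fwd (nat_lit 3072) (Steps.fwd (nat_lit 7168) Steps.nil)))) (nat_lit 17) (nat_lit 3),
  Rule.mk (nat_lit 6) (nat_lit 94) (Steps.fwd (nat_lit 2048) (Steps.bwd (nat_lit 6) (Steps.bwd (nat_lit 7) (Steps.bwd (nat_lit 10) (Steps.bwd (nat_lit 2) (Steps.fwd (nat_lit 10240) (Steps.fwd (nat_lit 7168) Steps.nil))))))) (nat_lit 46) (nat_lit 4),
  Rule.mk (nat_lit 4) (nat_lit 58) (Steps.bwd (nat_lit 7) (Steps.bwd (nat_lit 4) (Steps.fwd (nat_lit 7168) (Steps.bwd (nat_lit 6) Steps.nil)))) (nat_lit 21) (nat_lit 0),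
  Rule.mk (nat_lit 1) (nat_lit 58) (Steps.bwd (nat_lit 7) (Steps.bwd (nat_lit 3) (Steps.fwd (nat_lit 1024) (Steps.bwd (nat_lit 2) Steps.nil)))) (nat_lit 16) (nat_lit 3),
  Rule.mk (nat_lit 5) (nat_lit 94) (Steps.bwd (nat_lit 9) (Steps.bwd (nat_lit 1) (Steps.bwd (nat_lit 2) (Steps.fwd (nat_lit 4096) (Steps.bwd (nat_lit 3) (Steps.bwd (nat_lit 5) (Steps.bwd (nat_lit 8) Steps.nil))))))) (nat_lit 34) (nat_lit 2),
  Rule.mk (nat_lit 4) (nat_lit 94) (Steps.bwd (nat_lit 3) (Steps.bwd (nat_lit 9) (Steps.bwd (nat_lit 6) (Steps.bwd (nat_lit 4) (Steps.fwd (nat_lit 5120) (Steps.bwd (nat_lit 8) (Steps.fwd (nat_lit 3072) Steps.nil))))))) (nat_lit 32) (nat_lit 3),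
  Rule.mk (nat_lit 4) (nat_lit 58) (Steps.bwd (nat_lit 9) (Steps.bwd (nat_lit 4) (Steps.bwd (nat_lit 6) (Steps.fwd (nat_lit 9216) Steps.nil)))) (nat_lit 28) (nat_lit 2),
  Rule.mk (nat_lit 3) (nat_lit 94) (Steps.fwd (nat_lit 10240) (Steps.bwd (nat_lit 7) (Steps.fwd (nat_lit 6144) (Steps.fwd (nat_lit 3072) (Steps.bwd (nat_lit 6) (Steps.fwd (nat_lit 7168) (Steps.bwd (nat_lit 10) Steps.nil))))))) (nat_lit 47) (nat_lit 0),
  Rule.mk (nat_lit 2) (nat_lit 46) (Steps.bwd (nat_lit 1) (Steps.bwd (nat_lit 3) (Steps.bwd (nat_lit 7) Steps.nil))) (nat_lit 12) (nat_lit 0),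
  Rule.mk (nat_lit 2) (nat_lit 58) (Steps.bwd (nat_lit 7) (Steps.bwd (nat_lit 1) (Steps.bwd (nat_lit 3) (Steps.fwd (nat_lit 1024) Steps.nil)))) (nat_lit 17) (nat_lit 1),
  Rule.mk (nat_lit 2) (nat_lit 94) (Steps.bwd (nat_lit 4) (Steps.bwd (nat_lit 3) (Steps.bwd (nat_lit 9) (Steps.bwd (nat_lit 6) (Steps.bwd (nat_lit 4) (Steps.bwd (nat_lit 5) (Steps.fwd (nat_lit 9216) Steps.nil))))))) (nat_lit 32) (nat_lit 2),
  Rule.mk (nat_lit 4) (nat_lit 94) (Steps.fwd (nat_lit 2048) (Steps.bwd (nat_lit 9) (Steps.bwd (nat_lit 6) (Steps.fwd (nat_lit 4096) (Steps.bwd (nat_lit 5) (Steps.fwd (nat_lit 9216) (Steps.bwd (nat_lit 2) Steps.nil))))))) (nat_lit 32) (nat_lit 3),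
  Rule.mk (nat_lit 2) (nat_lit 46) (Steps.bwd (nat_lit 1) (Steps.fwd (nat_lit 2048) (Steps.fwd (nat_lit 7168) Steps.nil))) (nat_lit 12) (nat_lit 0),
  Rule.mk (nat_lit 10) (nat_lit 106) (Steps.bwd (nat_lit 7) (Steps.bwd (nat_lit 6) (Steps.bwd (nat_lit 10) (Steps.fwd (nat_lit 7168) (Steps.bwd (nat_lit 6) (Steps.fwd (nat_lit 10240) (Steps.fwd (nat_lit 7168) (Steps.fwd (nat_lit 6144) Steps.nil)))))))) (nat_lit 44) (nat_lit 1),
  Rule.mk (nat_lit 9) (nat_lit 46) (Steps.fwd (nat_lit 10240) (Steps.bwd (nat_lit 8) (Steps.bwd (nat_lit 10) Steps.nil))) (nat_lit 42) (nat_lit 0),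
  Rule.mk (nat_lit 8) (nat_lit 46) (Steps.fwd (nat_lit 7168) (Steps.bwd (nat_lit 8) (Steps.fwd (nat_lit 7168) Steps.nil))) (nat_lit 30) (nat_lit 0),
  Rule.mk (nat_lit 5) (nat_lit 94) (Steps.bwd (nat_lit 8) (Steps.bwd (nat_lit 2) (Steps.fwd (nat_lit 4096) (Steps.bwd (nat_lit 3) (Steps.fwd (nat_lit 8192) (Steps.bwd (nat_lit 6) (Steps.bwd (nat_lit 4) Steps.nil))))))) (nat_lit 32) (nat_lit 0),
  Rule.mk (nat_lit 5) (nat_lit 94) (Steps.bwd (nat_lit 9) (Steps.bwd (nat_lit 1) (Steps.fwd (nat_lit 3072) (Steps.bwd (nat_lit 4) (Steps.fwd (nat_lit 2048) (Steps.fwd (nat_lit 5120) (Steps.bwd (nat_lit 8) Steps.nil))))))) (nat_lit 34) (nat_lit 2),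
  Rule.mk (nat_lit 5) (nat_lit 94) (Steps.fwd (nat_lit 8192) (Steps.bwd (nat_lit 5) (Steps.fwd (nat_lit 3072) (Steps.fwd (nat_lit 4096) (Steps.fwd (nat_lit 2048) (Steps.fwd (nat_lit 1024) (Steps.bwd (nat_lit 8) Steps.nil))))))) (nat_lit 35) (nat_lit 7),
  Rule.mk (nat_lit 5) (nat_lit 94) (Steps.bwd (nat_lit 9) (Steps.fwd (nat_lit 1024) (Steps.bwd (nat_lit 2) (Steps.fwd (nat_lit 4096) (Steps.bwd (nat_lit 3) (Steps.bwd (nat_lit 5) (Steps.fwd (nat_lit 9216) Steps.nil))))))) (nat_lit 34) (nat_lit 2),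
  Rule.mk (nat_lit 5) (nat_lit 94) (Steps.bwd (nat_lit 9) (Steps.fwd (nat_lit 1024) (Steps.bwd (nat_lit 2) (Steps.bwd (nat_lit 4) (Steps.bwd (nat_lit 3) (Steps.bwd (nat_lit 5) (Steps.bwd (nat_lit 8) Steps.nil))))))) (nat_lit 34) (nat_lit 2),
  Rule.mk (nat_lit 5) (nat_lit 58) (Steps.bwd (nat_lit 1) (Steps.bwd (nat_lit 4) (Steps.bwd (nat_lit 5) (Steps.bwd (nat_lit 1) Steps.nil)))) (nat_lit 18) (nat_lit 0),
  Rule.mk (nat_lit 4) (nat_lit 58) (Steps.bwd (nat_lit 5) (Steps.bwd (nat_lit 1) (Steps.bwd (nat_lit 5) (Steps.bwd (nat_lit 1) Steps.nil)))) (nat_lit 18) (nat_lit 2),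
  Rule.mk (nat_lit 4) (nat_lit 94) (Steps.bwd (nat_lit 3) (Steps.fwd (nat_lit 8192) (Steps.bwd (nat_lit 6) (Steps.bwd (nat_lit 4) (Steps.bwd (nat_lit 5) (Steps.fwd (nat_lit 9216) (Steps.bwd (nat_lit 2) Steps.nil))))))) (nat_lit 32) (nat_lit 3),
  Rule.mk (nat_lit 5) (nat_lit 58) (Steps.fwd (nat_lit 1024) (Steps.fwd (nat_lit 5120) (Steps.bwd (nat_lit 1) (Steps.bwd (nat_lit 4) Steps.nil)))) (nat_lit 18) (nat_lit 3),
  Rule.mk (nat_lit 7) (nat_lit 94) (Steps.bwd (nat_lit 6) (Steps.bwd (nat_lit 3) (Steps.fwd (nat_lit 6144) (Steps.fwd (nat_lit 7168) (Steps.fwd (nat_lit 10240) (Steps.bwd (nat_lit 2) (Steps.bwd (nat_lit 10) Steps.nil))))))) (nat_lit 46) (nat_lit 3),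
  Rule.mk (nat_lit 4) (nat_lit 58) (Steps.fwd (nat_lit 7168) (Steps.bwd (nat_lit 4) (Steps.bwd (nat_lit 7) (Steps.bwd (nat_lit 6) Steps.nil)))) (nat_lit 21) (nat_lit 0),
  Rule.mk (nat_lit 0) (nat_lit 106) (Steps.bwd (nat_lit 6) (Steps.bwd (nat_lit 7) (Steps.bwd (nat_lit 10) (Steps.bwd (nat_lit 3) (Steps.fwd (nat_lit 10240) (Steps.fwd (nat_lit 7168) (Steps.bwd (nat_lit 6) (Steps.fwd (nat_lit 3072) Steps.nil)))))))) (nat_lit 47) (nat_lit 4),
  Rule.mk (nat_lit 7) (nat_lit 106) (Steps.fwd (nat_lit 10240) (Steps.fwd (nat_lit 6144) (Steps.bwd (nat_lit 7) (Steps.bwd (nat_lit 10) (Steps.fwd (nat_lit 6144) (Steps.fwd (nat_lit 7168) (Steps.fwd (nat_lit 10240) (Steps.bwd (nat_lit 6) Steps.nil)))))))) (nat_lit 45) (nat_lit 2),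
  Rule.mk (nat_lit 10) (nat_lit 106) (Steps.fwd (nat_lit 6144) (Steps.fwd (nat_lit 7168) (Steps.fwd (nat_lit 10240) (Steps.bwd (nat_lit 6) (Steps.bwd (nat_lit 7) (Steps.bwd (nat_lit 10) (Steps.bwd (nat_lit 6) (Steps.fwd (nat_lit 7168) Steps.nil)))))))) (nat_lit 45) (nat_lit 0),
  Rule.mk (nat_lit 1) (nat_lit 46) (Steps.bwd (nat_lit 8) (Steps.fwd (nat_lit 1024) (Steps.bwd (nat_lit 9) Steps.nil))) (nat_lit 24) (nat_lit 0),
  Rule.mk (nat_lit 2) (nat_lit 58) (Steps.bwd (nat_lit 7) (Steps.bwd (nat_lit 1) (Steps.fwd (nat_lit 2048) (Steps.bwd (nat_lit 1) Steps.nil)))) (nat_lit 17) (nat_lit 1),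
  Rule.mk (nat_lit 5) (nat_lit 58) (Steps.bwd (nat_lit 1) (Steps.bwd (nat_lit 5) (Steps.bwd (nat_lit 1) (Steps.fwd (nat_lit 4096) Steps.nil)))) (nat_lit 18) (nat_lit 3),
  Rule.mk (nat_lit 6) (nat_lit 94) (Steps.bwd (nat_lit 3) (Steps.fwd (nat_lit 6144) (Steps.bwd (nat_lit 7) (Steps.fwd (nat_lit 10240) (Steps.bwd (nat_lit 2) (Steps.fwd (nat_lit 10240) (Steps.fwd (nat_lit 7168) Steps.nil))))))) (nat_lit 46) (nat_lit 4),
  Rule.mk (nat_lit 5) (nat_lit 94) (Steps.fwd (nat_lit 4096) (Steps.bwd (nat_lit 6) (Steps.bwd (nat_lit 8) (Steps.bwd (nat_lit 2) (Steps.fwd (nat_lit 4096) (Steps.fwd (nat_lit 2048) (Steps.fwd (nat_lit 8192) Steps.nil))))))) (nat_lit 33) (nat_lit 1),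
  Rule.mk (nat_lit 6) (nat_lit 106) (Steps.fwd (nat_lit 10240) (Steps.fwd (nat_lit 7168) (Steps.bwd (nat_lit 6) (Steps.bwd (nat_lit 10) (Steps.bwd (nat_lit 7) (Steps.bwd (nat_lit 6) (Steps.fwd (nat_lit 10240) (Steps.bwd (nat_lit 7) Steps.nil)))))))) (nat_lit 44) (nat_lit 0),
  Rule.mk (nat_lit 10) (nat_lit 106) (Steps.bwd (nat_lit 6) (Steps.fwd (nat_lit 7168) (Steps.bwd (nat_lit 10) (Steps.bwd (nat_lit 6) (Steps.fwd (nat_lit 7168) (Steps.fwd (nat_lit 10240) (Steps.bwd (nat_lit 6) (Steps.bwd (nat_lit 7) Steps.nil)))))))) (nat_lit 45) (nat_lit 0),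
  Rule.mk (nat_lit 10) (nat_lit 106) (Steps.bwd (nat_lit 7) (Steps.bwd (nat_lit 6) (Steps.bwd (nat_lit 10) (Steps.bwd (nat_lit 7) (Steps.fwd (nat_lit 6144) (Steps.bwd (nat_lit 10) (Steps.bwd (nat_lit 7) (Steps.bwd (nat_lit 6) Steps.nil)))))))) (nat_lit 44) (nat_lit 1),
  Rule.mk (nat_lit 9) (nat_lit 46) (Steps.fwd (nat_lit 10240) (Steps.fwd (nat_lit 9216) (Steps.bwd (nat_lit 10) Steps.nil))) (nat_lit 42) (nat_lit 0),
  Rule.mk (nat_lit 9) (nat_lit 46) (Steps.fwd (nat_lit 7168) (Steps.bwd (nat_lit 9) (Steps.fwd (nat_lit 7168) Steps.nil))) (nat_lit 31) (nat_lit 1),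
  Rule.mk (nat_lit 5) (nat_lit 94) (Steps.bwd (nat_lit 9) (Steps.bwd (nat_lit 1) (Steps.bwd (nat_lit 2) (Steps.bwd (nat_lit 4) (Steps.fwd (nat_lit 2048) (Steps.bwd (nat_lit 5) (Steps.fwd (nat_lit 9216) Steps.nil))))))) (nat_lit 34) (nat_lit 2),
  Rule.mk (nat_lit 2) (nat_lit 46) (Steps.bwd (nat_lit 5) (Steps.bwd (nat_lit 2) (Steps.bwd (nat_lit 5) Steps.nil))) (nat_lit 14) (nat_lit 1),
  Rule.mk (nat_lit 4) (nat_lit 58) (Steps.bwd (nat_lit 1) (Steps.bwd (nat_lit 5) (Steps.fwd (nat_lit 1024) (Steps.bwd (nat_lit 5) Steps.nil)))) (nat_lit 19) (nat_lit 4),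
  Rule.mk (nat_lit 9) (nat_lit 94) (Steps.fwd (nat_lit 1024) (Steps.fwd (nat_lit 3072) (Steps.bwd (nat_lit 4) (Steps.bwd (nat_lit 3) (Steps.bwd (nat_lit 5) (Steps.bwd (nat_lit 8) (Steps.bwd (nat_lit 5) Steps.nil))))))) (nat_lit 34) (nat_lit 3),
  Rule.mk (nat_lit 10) (nat_lit 106) (Steps.bwd (nat_lit 7) (Steps.bwd (nat_lit 6) (Steps.fwd (nat_lit 10240) (Steps.bwd (nat_lit 7) (Steps.bwd (nat_lit 6) (Steps.fwd (nat_lit 10240) (Steps.bwd (nat_lit 7) (Steps.fwd (nat_lit 6144) Steps.nil)))))))) (nat_lit 44) (nat_lit 1),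
  Rule.mk (nat_lit 10) (nat_lit 106) (Steps.bwd (nat_lit 7) (Steps.fwd (nat_lit 6144) (Steps.bwd (nat_lit 10) (Steps.bwd (nat_lit 7) (Steps.bwd (nat_lit 6) (Steps.fwd (nat_lit 10240) (Steps.fwd (nat_lit 7168) (Steps.bwd (nat_lit 6) Steps.nil)))))))) (nat_lit 44) (nat_lit 1),
  Rule.mk (nat_lit 4) (nat_lit 58) (Steps.bwd (nat_lit 7) (Steps.bwd (nat_lit 4) (Steps.fwd (nat_lit 6144) (Steps.bwd (nat_lit 7) Steps.nil)))) (nat_lit 20) (nat_lit 4),
  Rule.mk (nat_lit 5) (nat_lit 58) (Steps.bwd (nat_lit 1) (Steps.bwd (nat_lit 5) (Steps.bwd (nat_lit 1) (Steps.bwd (nat_lit 4) Steps.nil)))) (nat_lit 18) (nat_lit 3),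
  Rule.mk (nat_lit 4) (nat_lit 58) (Steps.fwd (nat_lit 1024) (Steps.fwd (nat_lit 5120) (Steps.fwd (nat_lit 1024) (Steps.bwd (nat_lit 5) Steps.nil)))) (nat_lit 19) (nat_lit 4),
  Rule.mk (nat_lit 5) (nat_lit 94) (Steps.fwd (nat_lit 8192) (Steps.bwd (nat_lit 5) (Steps.bwd (nat_lit 2) (Steps.fwd (nat_lit 4096) (Steps.fwd (nat_lit 2048) (Steps.fwd (nat_lit 1024) (Steps.bwd (nat_lit 8) Steps.nil))))))) (nat_lit 35) (nat_lit 7),
  Rule.mk (nat_lit 0) (nat_lit 58) (Steps.bwd (nat_lit 7) (Steps.fwd (nat_lit 3072) (Steps.bwd (nat_lit 1) (Steps.bwd (nat_lit 3) Steps.nil)))) (nat_lit 12) (nat_lit 2),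
  Rule.mk (nat_lit 0) (nat_lit 46) (Steps.bwd (nat_lit 7) (Steps.bwd (nat_lit 0) (Steps.bwd (nat_lit 7) Steps.nil))) (nat_lit 48) (nat_lit 0),
  Rule.mk (nat_lit 0) (nat_lit 46) (Steps.fwd (nat_lit 10240) (Steps.bwd (nat_lit 0) (Steps.fwd (nat_lit 10240) Steps.nil))) (nat_lit 48) (nat_lit 0),
  Rule.mk (nat_lit 0) (nat_lit 46) (Steps.bwd (nat_lit 10) (Steps.fwd (nat_lit 0) (Steps.bwd (nat_lit 10) Steps.nil))) (nat_lit 48) (nat_lit 0),
  Rule.mk (nat_lit 0) (nat_lit 70) (Steps.bwd (nat_lit 7) (Steps.bwd (nat_lit 3) (Steps.fwd (nat_lit 1024) (Steps.fwd (nat_lit 3072) (Steps.bwd (nat_lit 1) Steps.nil))))) (nat_lit 16) (nat_lit 3),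
  Rule.mk (nat_lit 1) (nat_lit 58) (Steps.bwd (nat_lit 7) (Steps.bwd (nat_lit 3) (Steps.bwd (nat_lit 1) (Steps.fwd (nat_lit 3072) Steps.nil)))) (nat_lit 16) (nat_lit 3),
  Rule.mk (nat_lit 5) (nat_lit 94) (Steps.fwd (nat_lit 8192) (Steps.fwd (nat_lit 5120) (Steps.bwd (nat_lit 2) (Steps.bwd (nat_lit 4) (Steps.fwd (nat_lit 2048) (Steps.bwd (nat_lit 1) (Steps.fwd (nat_lit 9216) Steps.nil))))))) (nat_lit 35) (nat_lit 7),
  Rule.mk (nat_lit 9) (nat_lit 94) (Steps.bwd (nat_lit 1) (Steps.fwd (nat_lit 3072) (Steps.fwd (nat_lit 4096) (Steps.fwd (nat_lit 2048) (Steps.fwd (nat_lit 5120) (Steps.fwd (nat_lit 9216) (Steps.bwd (nat_lit 5) Steps.nil))))))) (nat_lit 34) (nat_lit 3),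
  Rule.mk (nat_lit 5) (nat_lit 94) (Steps.fwd (nat_lit 4096) (Steps.fwd (nat_lit 6144) (Steps.bwd (nat_lit 8) (Steps.fwd (nat_lit 3072) (Steps.bwd (nat_lit 4) (Steps.bwd (nat_lit 3) (Steps.bwd (nat_lit 9) Steps.nil))))))) (nat_lit 33) (nat_lit 1),
  Rule.mk (nat_lit 8) (nat_lit 94) (Steps.bwd (nat_lit 5) (Steps.bwd (nat_lit 9) (Steps.bwd (nat_lit 1) (Steps.bwd (nat_lit 2) (Steps.fwd (nat_lit 4096) (Steps.bwd (nat_lit 3) (Steps.bwd (nat_lit 5) Steps.nil))))))) (nat_lit 34) (nat_lit 1)]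
noncomputable def R_10 : List (Rule) := [Rule.mk (nat_lit 10) (nat_lit 46) (Steps.bwd (nat_lit 9) (Steps.bwd (nat_lit 10) (Steps.bwd (nat_lit 8) Steps.nil))) (nat_lit 42) (nat_lit 3),
  Rule.mk (nat_lit 7) (nat_lit 46) (Steps.fwd (nat_lit 10240) (Steps.bwd (nat_lit 7) (Steps.bwd (nat_lit 10) Steps.nil))) (nat_lit 40) (nat_lit 0),
  Rule.mk (nat_lit 3) (nat_lit 94) (Steps.bwd (nat_lit 10) (Steps.fwd (nat_lit 7168) (Steps.bwd (nat_lit 6) (Steps.fwd (nat_lit 3072) (Steps.bwd (nat_lit 6) (Steps.bwd (nat_lit 7) (Steps.bwd (nat_lit 10) Steps.nil))))))) (nat_lit 47) (nat_lit 0),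
  Rule.mk (nat_lit 6) (nat_lit 94) (Steps.bwd (nat_lit 7) (Steps.fwd (nat_lit 10240) (Steps.fwd (nat_lit 2048) (Steps.fwd (nat_lit 10240) (Steps.fwd (nat_lit 7168) (Steps.bwd (nat_lit 6) (Steps.bwd (nat_lit 2) Steps.nil))))))) (nat_lit 47) (nat_lit 5),
  Rule.mk (nat_lit 4) (nat_lit 94) (Steps.bwd (nat_lit 3) (Steps.fwd (nat_lit 5120) (Steps.bwd (nat_lit 8) (Steps.fwd (nat_lit 5120) (Steps.bwd (nat_lit 9) (Steps.fwd (nat_lit 1024) (Steps.bwd (nat_lit 2) Steps.nil))))))) (nat_lit 34) (nat_lit 6),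
  Rule.mk (nat_lit 8) (nat_lit 46) (Steps.fwd (nat_lit 6144) (Steps.fwd (nat_lit 8192) (Steps.bwd (nat_lit 4) Steps.nil))) (nat_lit 26) (nat_lit 1),
  Rule.mk (nat_lit 7) (nat_lit 58) (Steps.bwd (nat_lit 4) (Steps.bwd (nat_lit 6) (Steps.fwd (nat_lit 7168) (Steps.bwd (nat_lit 4) Steps.nil)))) (nat_lit 20) (nat_lit 0),
  Rule.mk (nat_lit 5) (nat_lit 94) (Steps.fwd (nat_lit 9216) (Steps.fwd (nat_lit 3072) (Steps.fwd (nat_lit 4096) (Steps.fwd (nat_lit 2048) (Steps.fwd (nat_lit 8192) (Steps.fwd (nat_lit 6144) (Steps.bwd (nat_lit 4) Steps.nil))))))) (nat_lit 32) (nat_lit 0),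
  Rule.mk (nat_lit 8) (nat_lit 94) (Steps.bwd (nat_lit 5) (Steps.bwd (nat_lit 9) (Steps.fwd (nat_lit 1024) (Steps.bwd (nat_lit 2) (Steps.bwd (nat_lit 4) (Steps.fwd (nat_lit 2048) (Steps.fwd (nat_lit 5120) Steps.nil))))))) (nat_lit 34) (nat_lit 1),
  Rule.mk (nat_lit 10) (nat_lit 46) (Steps.fwd (nat_lit 8192) (Steps.bwd (nat_lit 10) (Steps.fwd (nat_lit 9216) Steps.nil))) (nat_lit 42) (nat_lit 3),
  Rule.mk (nat_lit 2) (nat_lit 94) (Steps.bwd (nat_lit 10) (Steps.bwd (nat_lit 7) (Steps.fwd (nat_lit 6144) (Steps.bwd (nat_lit 3) (Steps.fwd (nat_lit 6144) (Steps.fwd (nat_lit 7168) (Steps.bwd (nat_lit 10) Steps.nil))))))) (nat_lit 46) (nat_lit 1),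
  Rule.mk (nat_lit 3) (nat_lit 94) (Steps.bwd (nat_lit 10) (Steps.bwd (nat_lit 7) (Steps.fwd (nat_lit 6144) (Steps.fwd (nat_lit 3072) (Steps.bwd (nat_lit 6) (Steps.bwd (nat_lit 7) (Steps.fwd (nat_lit 10240) Steps.nil))))))) (nat_lit 47) (nat_lit 0),
  Rule.mk (nat_lit 4) (nat_lit 94) (Steps.bwd (nat_lit 3) (Steps.bwd (nat_lit 9) (Steps.fwd (nat_lit 6144) (Steps.fwd (nat_lit 4096) (Steps.fwd (nat_lit 5120) (Steps.bwd (nat_lit 8) (Steps.fwd (nat_lit 3072) Steps.nil))))))) (nat_lit 32) (nat_lit 3),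
  Rule.mk (nat_lit 5) (nat_lit 94) (Steps.bwd (nat_lit 8) (Steps.bwd (nat_lit 5) (Steps.fwd (nat_lit 8192) (Steps.bwd (nat_lit 1) (Steps.fwd (nat_lit 3072) (Steps.fwd (nat_lit 4096) (Steps.fwd (nat_lit 2048) Steps.nil))))))) (nat_lit 34) (nat_lit 0),
  Rule.mk (nat_lit 6) (nat_lit 94) (Steps.bwd (nat_lit 3) (Steps.fwd (nat_lit 6144) (Steps.bwd (nat_lit 7) (Steps.bwd (nat_lit 10) (Steps.fwd (nat_lit 3072) (Steps.fwd (nat_lit 10240) (Steps.fwd (nat_lit 7168) Steps.nil))))))) (nat_lit 46) (nat_lit 4),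
  Rule.mk (nat_lit 7) (nat_lit 58) (Steps.fwd (nat_lit 4096) (Steps.fwd (nat_lit 7168) (Steps.fwd (nat_lit 4096) (Steps.bwd (nat_lit 6) Steps.nil)))) (nat_lit 20) (nat_lit 3),
  Rule.mk (nat_lit 10) (nat_lit 94) (Steps.bwd (nat_lit 3) (Steps.fwd (nat_lit 10240) (Steps.fwd (nat_lit 7168) (Steps.fwd (nat_lit 6144) (Steps.fwd (nat_lit 3072) (Steps.bwd (nat_lit 6) (Steps.bwd (nat_lit 7) Steps.nil))))))) (nat_lit 47) (nat_lit 7),
  Rule.mk (nat_lit 5) (nat_lit 94) (Steps.bwd (nat_lit 9) (Steps.bwd (nat_lit 5) (Steps.bwd (nat_lit 2) (Steps.bwd (nat_lit 4) (Steps.fwd (nat_lit 2048) (Steps.bwd (nat_lit 1) (Steps.fwd (nat_lit 9216) Steps.nil))))))) (nat_lit 35) (nat_lit 7),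
  Rule.mk (nat_lit 7) (nat_lit 58) (Steps.fwd (nat_lit 4096) (Steps.bwd (nat_lit 6) (Steps.bwd (nat_lit 7) (Steps.fwd (nat_lit 4096) Steps.nil)))) (nat_lit 20) (nat_lit 0),
  Rule.mk (nat_lit 5) (nat_lit 94) (Steps.bwd (nat_lit 8) (Steps.fwd (nat_lit 3072) (Steps.bwd (nat_lit 4) (Steps.bwd (nat_lit 3) (Steps.fwd (nat_lit 8192) (Steps.fwd (nat_lit 6144) (Steps.fwd (nat_lit 4096) Steps.nil))))))) (nat_lit 32) (nat_lit 0),
  Rule.mk (nat_lit 5) (nat_lit 94) (Steps.bwd (nat_lit 8) (Steps.fwd (nat_lit 3072) (Steps.fwd (nat_lit 4096) (Steps.bwd (nat_lit 3) (Steps.fwd (nat_lit 8192) (Steps.bwd (nat_lit 6) (Steps.fwd (nat_lit 4096) Steps.nil))))))) (nat_lit 32) (nat_lit 0),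
  Rule.mk (nat_lit 4) (nat_lit 94) (Steps.bwd (nat_lit 3) (Steps.bwd (nat_lit 9) (Steps.fwd (nat_lit 6144) (Steps.bwd (nat_lit 4) (Steps.fwd (nat_lit 5120) (Steps.fwd (nat_lit 9216) (Steps.bwd (nat_lit 2) Steps.nil))))))) (nat_lit 32) (nat_lit 3),
  Rule.mk (nat_lit 5) (nat_lit 46) (Steps.fwd (nat_lit 3072) (Steps.bwd (nat_lit 5) (Steps.fwd (nat_lit 3072) Steps.nil))) (nat_lit 14) (nat_lit 0),
  Rule.mk (nat_lit 5) (nat_lit 58) (Steps.fwd (nat_lit 1024) (Steps.bwd (nat_lit 4) (Steps.bwd (nat_lit 5) (Steps.fwd (nat_lit 1024) Steps.nil)))) (nat_lit 18) (nat_lit 0),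
  Rule.mk (nat_lit 6) (nat_lit 94) (Steps.bwd (nat_lit 4) (Steps.bwd (nat_lit 5) (Steps.bwd (nat_lit 8) (Steps.bwd (nat_lit 2) (Steps.bwd (nat_lit 4) (Steps.fwd (nat_lit 2048) (Steps.bwd (nat_lit 9) Steps.nil))))))) (nat_lit 32) (nat_lit 6),
  Rule.mk (nat_lit 6) (nat_lit 58) (Steps.bwd (nat_lit 4) (Steps.fwd (nat_lit 9216) (Steps.fwd (nat_lit 4096) (Steps.bwd (nat_lit 9) Steps.nil)))) (nat_lit 29) (nat_lit 1),
  Rule.mk (nat_lit 6) (nat_lit 94) (Steps.bwd (nat_lit 3) (Steps.fwd (nat_lit 6144) (Steps.bwd (nat_lit 7) (Steps.bwd (nat_lit 10) (Steps.bwd (nat_lit 2) (Steps.fwd (nat_lit 10240) (Steps.fwd (nat_lit 7168) Steps.nil))))))) (nat_lit 46) (nat_lit 4),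
  Rule.mk (nat_lit 9) (nat_lit 58) (Steps.bwd (nat_lit 6) (Steps.bwd (nat_lit 4) (Steps.bwd (nat_lit 8) (Steps.fwd (nat_lit 4096) Steps.nil)))) (nat_lit 29) (nat_lit 0),
  Rule.mk (nat_lit 3) (nat_lit 94) (Steps.bwd (nat_lit 9) (Steps.fwd (nat_lit 6144) (Steps.bwd (nat_lit 4) (Steps.fwd (nat_lit 5120) (Steps.bwd (nat_lit 8) (Steps.fwd (nat_lit 3072) (Steps.fwd (nat_lit 4096) Steps.nil))))))) (nat_lit 32) (nat_lit 4),
  Rule.mk (nat_lit 5) (nat_lit 94) (Steps.bwd (nat_lit 8) (Steps.fwd (nat_lit 5120) (Steps.fwd (nat_lit 8192) (Steps.fwd (nat_lit 1024) (Steps.fwd (nat_lit 3072) (Steps.fwd (nat_lit 4096) (Steps.bwd (nat_lit 3) Steps.nil))))))) (nat_lit 34) (nat_lit 0),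
  Rule.mk (nat_lit 4) (nat_lit 94) (Steps.bwd (nat_lit 5) (Steps.bwd (nat_lit 8) (Steps.bwd (nat_lit 2) (Steps.bwd (nat_lit 4) (Steps.fwd (nat_lit 2048) (Steps.fwd (nat_lit 8192) (Steps.fwd (nat_lit 6144) Steps.nil))))))) (nat_lit 32) (nat_lit 7),
  Rule.mk (nat_lit 9) (nat_lit 94) (Steps.bwd (nat_lit 5) (Steps.bwd (nat_lit 4) (Steps.bwd (nat_lit 6) (Steps.bwd (nat_lit 8) (Steps.fwd (nat_lit 3072) (Steps.bwd (nat_lit 4) (Steps.bwd (nat_lit 3) Steps.nil))))))) (nat_lit 33) (nat_lit 0),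
  Rule.mk (nat_lit 6) (nat_lit 58) (Steps.bwd (nat_lit 4) (Steps.bwd (nat_lit 8) (Steps.bwd (nat_lit 4) (Steps.bwd (nat_lit 9) Steps.nil)))) (nat_lit 29) (nat_lit 1),
  Rule.mk (nat_lit 4) (nat_lit 94) (Steps.bwd (nat_lit 3) (Steps.fwd (nat_lit 5120) (Steps.bwd (nat_lit 8) (Steps.bwd (nat_lit 5) (Steps.fwd (nat_lit 8192) (Steps.fwd (nat_lit 1024) (Steps.fwd (nat_lit 3072) Steps.nil))))))) (nat_lit 34) (nat_lit 6),
  Rule.mk (nat_lit 1) (nat_lit 58) (Steps.fwd (nat_lit 5120) (Steps.bwd (nat_lit 1) (Steps.bwd (nat_lit 5) (Steps.bwd (nat_lit 4) Steps.nil)))) (nat_lit 19) (nat_lit 0),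
  Rule.mk (nat_lit 3) (nat_lit 94) (Steps.bwd (nat_lit 6) (Steps.bwd (nat_lit 7) (Steps.fwd (nat_lit 10240) (Steps.bwd (nat_lit 2) (Steps.fwd (nat_lit 10240) (Steps.fwd (nat_lit 7168) (Steps.bwd (nat_lit 6) Steps.nil))))))) (nat_lit 46) (nat_lit 5),
  Rule.mk (nat_lit 2) (nat_lit 94) (Steps.fwd (nat_lit 4096) (Steps.bwd (nat_lit 3) (Steps.bwd (nat_lit 9) (Steps.bwd (nat_lit 6) (Steps.fwd (nat_lit 4096) (Steps.bwd (nat_lit 5) (Steps.bwd (nat_lit 8) Steps.nil))))))) (nat_lit 32) (nat_lit 2),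
  Rule.mk (nat_lit 5) (nat_lit 94) (Steps.fwd (nat_lit 8192) (Steps.bwd (nat_lit 1) (Steps.fwd (nat_lit 3072) (Steps.fwd (nat_lit 4096) (Steps.bwd (nat_lit 3) (Steps.bwd (nat_lit 5) (Steps.bwd (nat_lit 8) Steps.nil))))))) (nat_lit 34) (nat_lit 2),
  Rule.mk (nat_lit 10) (nat_lit 94) (Steps.fwd (nat_lit 7168) (Steps.bwd (nat_lit 6) (Steps.bwd (nat_lit 3) (Steps.bwd (nat_lit 6) (Steps.bwd (nat_lit 7) (Steps.bwd (nat_lit 10) (Steps.bwd (nat_lit 2) Steps.nil))))))) (nat_lit 46) (nat_lit 2),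
  Rule.mk (nat_lit 8) (nat_lit 46) (Steps.fwd (nat_lit 10240) (Steps.fwd (nat_lit 8192) (Steps.bwd (nat_lit 10) Steps.nil))) (nat_lit 42) (nat_lit 2),
  Rule.mk (nat_lit 2) (nat_lit 94) (Steps.bwd (nat_lit 10) (Steps.bwd (nat_lit 7) (Steps.fwd (nat_lit 6144) (Steps.fwd (nat_lit 2048) (Steps.bwd (nat_lit 6) (Steps.fwd (nat_lit 7168) (Steps.bwd (nat_lit 10) Steps.nil))))))) (nat_lit 46) (nat_lit 1),
  Rule.mk (nat_lit 3) (nat_lit 94) (Steps.fwd (nat_lit 10240) (Steps.bwd (nat_lit 7) (Steps.bwd (nat_lit 6) (Steps.bwd (nat_lit 2) (Steps.bwd (nat_lit 6) (Steps.fwd (nat_lit 7168) (Steps.bwd (nat_lit 10) Steps.nil))))))) (nat_lit 47) (nat_lit 0),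
  Rule.mk (nat_lit 4) (nat_lit 58) (Steps.fwd (nat_lit 1024) (Steps.bwd (nat_lit 5) (Steps.bwd (nat_lit 1) (Steps.bwd (nat_lit 5) Steps.nil)))) (nat_lit 19) (nat_lit 4),
  Rule.mk (nat_lit 10) (nat_lit 106) (Steps.bwd (nat_lit 7) (Steps.bwd (nat_lit 6) (Steps.bwd (nat_lit 10) (Steps.fwd (nat_lit 7168) (Steps.fwd (nat_lit 6144) (Steps.bwd (nat_lit 10) (Steps.bwd (nat_lit 7) (Steps.bwd (nat_lit 6) Steps.nil)))))))) (nat_lit 44) (nat_lit 1),
  Rule.mk (nat_lit 2) (nat_lit 94) (Steps.fwd (nat_lit 6144) (Steps.bwd (nat_lit 7) (Steps.bwd (nat_lit 10) (Steps.bwd (nat_lit 3) (Steps.bwd (nat_lit 10) (Steps.bwd (nat_lit 7) (Steps.bwd (nat_lit 6) Steps.nil))))))) (nat_lit 47) (nat_lit 4),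
  Rule.mk (nat_lit 0) (nat_lit 70) (Steps.bwd (nat_lit 6) (Steps.fwd (nat_lit 7168) (Steps.fwd (nat_lit 4096) (Steps.fwd (nat_lit 7168) (Steps.bwd (nat_lit 4) Steps.nil))))) (nat_lit 20) (nat_lit 1),
  Rule.mk (nat_lit 4) (nat_lit 58) (Steps.bwd (nat_lit 7) (Steps.fwd (nat_lit 4096) (Steps.fwd (nat_lit 6144) (Steps.bwd (nat_lit 7) Steps.nil)))) (nat_lit 20) (nat_lit 4),
  Rule.mk (nat_lit 9) (nat_lit 58) (Steps.bwd (nat_lit 6) (Steps.fwd (nat_lit 4096) (Steps.fwd (nat_lit 9216) (Steps.fwd (nat_lit 4096) Steps.nil)))) (nat_lit 29) (nat_lit 0),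
  Rule.mk (nat_lit 6) (nat_lit 94) (Steps.bwd (nat_lit 3) (Steps.bwd (nat_lit 6) (Steps.bwd (nat_lit 7) (Steps.fwd (nat_lit 10240) (Steps.fwd (nat_lit 3072) (Steps.fwd (nat_lit 10240) (Steps.fwd (nat_lit 7168) Steps.nil))))))) (nat_lit 46) (nat_lit 4),
  Rule.mk (nat_lit 7) (nat_lit 58) (Steps.bwd (nat_lit 4) (Steps.fwd (nat_lit 7168) (Steps.bwd (nat_lit 4) (Steps.bwd (nat_lit 6) Steps.nil)))) (nat_lit 20) (nat_lit 3),
  Rule.mk (nat_lit 10) (nat_lit 106) (Steps.fwd (nat_lit 7168) (Steps.bwd (nat_lit 6) (Steps.fwd (nat_lit 10240) (Steps.fwd (nat_lit 7168) (Steps.fwd (nat_lit 6144) (Steps.fwd (nat_lit 10240) (Steps.fwd (nat_lit 7168) (Steps.bwd (nat_lit 6) Steps.nil)))))))) (nat_lit 44) (nat_lit 1),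
  Rule.mk (nat_lit 2) (nat_lit 94) (Steps.bwd (nat_lit 4) (Steps.fwd (nat_lit 2048) (Steps.fwd (nat_lit 8192) (Steps.fwd (nat_lit 6144) (Steps.bwd (nat_lit 4) (Steps.fwd (nat_lit 5120) (Steps.bwd (nat_lit 8) Steps.nil))))))) (nat_lit 32) (nat_lit 2),
  Rule.mk (nat_lit 5) (nat_lit 94) (Steps.bwd (nat_lit 9) (Steps.bwd (nat_lit 5) (Steps.fwd (nat_lit 3072) (Steps.fwd (nat_lit 4096) (Steps.fwd (nat_lit 2048) (Steps.bwd (nat_lit 1) (Steps.bwd (nat_lit 8) Steps.nil))))))) (nat_lit 35) (nat_lit 7),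
  Rule.mk (nat_lit 10) (nat_lit 106) (Steps.bwd (nat_lit 7) (Steps.bwd (nat_lit 6) (Steps.bwd (nat_lit 10) (Steps.bwd (nat_lit 7) (Steps.bwd (nat_lit 6) (Steps.fwd (nat_lit 10240) (Steps.fwd (nat_lit 7168) (Steps.bwd (nat_lit 6) Steps.nil)))))))) (nat_lit 44) (nat_lit 1),
  Rule.mk (nat_lit 0) (nat_lit 58) (Steps.fwd (nat_lit 7168) (Steps.fwd (nat_lit 10240) (Steps.fwd (nat_lit 7168) (Steps.bwd (nat_lit 10) Steps.nil)))) (nat_lit 40) (nat_lit 1),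
  Rule.mk (nat_lit 3) (nat_lit 94) (Steps.fwd (nat_lit 6144) (Steps.bwd (nat_lit 7) (Steps.bwd (nat_lit 10) (Steps.fwd (nat_lit 3072) (Steps.bwd (nat_lit 10) (Steps.bwd (nat_lit 7) (Steps.fwd (nat_lit 6144) Steps.nil))))))) (nat_lit 46) (nat_lit 5),
  Rule.mk (nat_lit 3) (nat_lit 94) (Steps.fwd (nat_lit 10240) (Steps.bwd (nat_lit 7) (Steps.bwd (nat_lit 6) (Steps.fwd (nat_lit 3072) (Steps.fwd (nat_lit 6144) (Steps.bwd (nat_lit 7) (Steps.bwd (nat_lit 10) Steps.nil))))))) (nat_lit 47) (nat_lit 0),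
  Rule.mk (nat_lit 2) (nat_lit 94) (Steps.bwd (nat_lit 6) (Steps.fwd (nat_lit 7168) (Steps.fwd (nat_lit 10240) (Steps.bwd (nat_lit 3) (Steps.bwd (nat_lit 10) (Steps.bwd (nat_lit 7) (Steps.fwd (nat_lit 6144) Steps.nil))))))) (nat_lit 47) (nat_lit 4),
  Rule.mk (nat_lit 1) (nat_lit 58) (Steps.bwd (nat_lit 2) (Steps.fwd (nat_lit 7168) (Steps.bwd (nat_lit 1) (Steps.bwd (nat_lit 3) Steps.nil)))) (nat_lit 17) (nat_lit 0),
  Rule.mk (nat_lit 8) (nat_lit 94) (Steps.bwd (nat_lit 2) (Steps.bwd (nat_lit 4) (Steps.fwd (nat_lit 2048) (Steps.fwd (nat_lit 8192) (Steps.bwd (nat_lit 6) (Steps.bwd (nat_lit 4) (Steps.fwd (nat_lit 5120) Steps.nil))))))) (nat_lit 32) (nat_lit 1),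
  Rule.mk (nat_lit 5) (nat_lit 94) (Steps.bwd (nat_lit 2) (Steps.bwd (nat_lit 4) (Steps.fwd (nat_lit 2048) (Steps.bwd (nat_lit 1) (Steps.fwd (nat_lit 9216) (Steps.fwd (nat_lit 5120) (Steps.fwd (nat_lit 8192) Steps.nil))))))) (nat_lit 35) (nat_lit 1),
  Rule.mk (nat_lit 8) (nat_lit 94) (Steps.bwd (nat_lit 5) (Steps.bwd (nat_lit 9) (Steps.fwd (nat_lit 1024) (Steps.bwd (nat_lit 2) (Steps.bwd (nat_lit 4) (Steps.bwd (nat_lit 3) (Steps.bwd (nat_lit 5) Steps.nil))))))) (nat_lit 34) (nat_lit 1),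
  Rule.mk (nat_lit 10) (nat_lit 46) (Steps.bwd (nat_lit 8) (Steps.bwd (nat_lit 10) (Steps.fwd (nat_lit 8192) Steps.nil))) (nat_lit 42) (nat_lit 1),
  Rule.mk (nat_lit 6) (nat_lit 58) (Steps.bwd (nat_lit 8) (Steps.bwd (nat_lit 4) (Steps.bwd (nat_lit 9) (Steps.bwd (nat_lit 4) Steps.nil)))) (nat_lit 28) (nat_lit 0)]
noncomputable def R_11 : List (Rule) := [Rule.mk (nat_lit 6) (nat_lit 94) (Steps.bwd (nat_lit 3) (Steps.bwd (nat_lit 6) (Steps.bwd (nat_lit 7) (Steps.bwd (nat_lit 10) (Steps.fwd (nat_lit 3072) (Steps.bwd (nat_lit 10) (Steps.fwd (nat_lit 7168) Steps.nil))))))) (nat_lit 46) (nat_lit 4),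
  Rule.mk (nat_lit 7) (nat_lit 58) (Steps.bwd (nat_lit 6) (Steps.fwd (nat_lit 4096) (Steps.bwd (nat_lit 7) (Steps.bwd (nat_lit 4) Steps.nil)))) (nat_lit 21) (nat_lit 3),
  Rule.mk (nat_lit 9) (nat_lit 58) (Steps.bwd (nat_lit 6) (Steps.fwd (nat_lit 4096) (Steps.bwd (nat_lit 8) (Steps.fwd (nat_lit 4096) Steps.nil)))) (nat_lit 29) (nat_lit 0),
  Rule.mk (nat_lit 5) (nat_lit 94) (Steps.fwd (nat_lit 9216) (Steps.bwd (nat_lit 2) (Steps.fwd (nat_lit 4096) (Steps.fwd (nat_lit 2048) (Steps.bwd (nat_lit 9) (Steps.bwd (nat_lit 6) (Steps.fwd (nat_lit 4096) Steps.nil))))))) (nat_lit 32) (nat_lit 0),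
  Rule.mk (nat_lit 4) (nat_lit 94) (Steps.bwd (nat_lit 6) (Steps.bwd (nat_lit 8) (Steps.bwd (nat_lit 2) (Steps.fwd (nat_lit 4096) (Steps.fwd (nat_lit 2048) (Steps.fwd (nat_lit 8192) (Steps.bwd (nat_lit 5) Steps.nil))))))) (nat_lit 33) (nat_lit 2),
  Rule.mk (nat_lit 1) (nat_lit 58) (Steps.fwd (nat_lit 4096) (Steps.fwd (nat_lit 5120) (Steps.bwd (nat_lit 1) (Steps.bwd (nat_lit 5) Steps.nil)))) (nat_lit 18) (nat_lit 1),
  Rule.mk (nat_lit 9) (nat_lit 46) (Steps.bwd (nat_lit 7) (Steps.bwd (nat_lit 9) (Steps.bwd (nat_lit 7) Steps.nil))) (nat_lit 31) (nat_lit 1),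
  Rule.mk (nat_lit 5) (nat_lit 94) (Steps.fwd (nat_lit 3072) (Steps.fwd (nat_lit 4096) (Steps.bwd (nat_lit 3) (Steps.bwd (nat_lit 1) (Steps.bwd (nat_lit 8) (Steps.fwd (nat_lit 5120) (Steps.bwd (nat_lit 9) Steps.nil))))))) (nat_lit 35) (nat_lit 1),
  Rule.mk (nat_lit 7) (nat_lit 106) (Steps.bwd (nat_lit 6) (Steps.fwd (nat_lit 10240) (Steps.bwd (nat_lit 7) (Steps.bwd (nat_lit 6) (Steps.fwd (nat_lit 10240) (Steps.fwd (nat_lit 7168) (Steps.fwd (nat_lit 6144) (Steps.bwd (nat_lit 10) Steps.nil)))))))) (nat_lit 44) (nat_lit 2),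
  Rule.mk (nat_lit 1) (nat_lit 58) (Steps.fwd (nat_lit 2048) (Steps.fwd (nat_lit 1024) (Steps.fwd (nat_lit 3072) (Steps.bwd (nat_lit 7) Steps.nil)))) (nat_lit 17) (nat_lit 3),
  Rule.mk (nat_lit 9) (nat_lit 94) (Steps.fwd (nat_lit 1024) (Steps.fwd (nat_lit 3072) (Steps.fwd (nat_lit 4096) (Steps.bwd (nat_lit 3) (Steps.bwd (nat_lit 5) (Steps.fwd (nat_lit 9216) (Steps.bwd (nat_lit 5) Steps.nil))))))) (nat_lit 34) (nat_lit 3),
  Rule.mk (nat_lit 10) (nat_lit 94) (Steps.fwd (nat_lit 7168) (Steps.fwd (nat_lit 6144) (Steps.fwd (nat_lit 3072) (Steps.fwd (nat_lit 6144) (Steps.fwd (nat_lit 7168) (Steps.fwd (nat_lit 10240) (Steps.bwd (nat_lit 3) Steps.nil))))))) (nat_lit 47) (nat_lit 1),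
  Rule.mk (nat_lit 10) (nat_lit 94) (Steps.bwd (nat_lit 7) (Steps.fwd (nat_lit 6144) (Steps.fwd (nat_lit 2048) (Steps.bwd (nat_lit 6) (Steps.fwd (nat_lit 7168) (Steps.bwd (nat_lit 10) (Steps.fwd (nat_lit 3072) Steps.nil))))))) (nat_lit 46) (nat_lit 2),
  Rule.mk (nat_lit 3) (nat_lit 94) (Steps.fwd (nat_lit 10240) (Steps.fwd (nat_lit 7168) (Steps.fwd (nat_lit 6144) (Steps.fwd (nat_lit 3072) (Steps.fwd (nat_lit 6144) (Steps.bwd (nat_lit 7) (Steps.bwd (nat_lit 10) Steps.nil))))))) (nat_lit 47) (nat_lit 0),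
  Rule.mk (nat_lit 6) (nat_lit 106) (Steps.bwd (nat_lit 7) (Steps.bwd (nat_lit 10) (Steps.bwd (nat_lit 6) (Steps.bwd (nat_lit 7) (Steps.bwd (nat_lit 10) (Steps.fwd (nat_lit 6144) (Steps.bwd (nat_lit 7) (Steps.bwd (nat_lit 10) Steps.nil)))))))) (nat_lit 45) (nat_lit 1),
  Rule.mk (nat_lit 5) (nat_lit 58) (Steps.bwd (nat_lit 1) (Steps.bwd (nat_lit 5) (Steps.fwd (nat_lit 4096) (Steps.fwd (nat_lit 1024) Steps.nil)))) (nat_lit 19) (nat_lit 1),
  Rule.mk (nat_lit 5) (nat_lit 94) (Steps.fwd (nat_lit 8192) (Steps.fwd (nat_lit 1024) (Steps.fwd (nat_lit 3072) (Steps.bwd (nat_lit 4) (Steps.bwd (nat_lit 3) (Steps.bwd (nat_lit 5) (Steps.bwd (nat_lit 8) Steps.nil))))))) (nat_lit 34) (nat_lit 2),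
  Rule.mk (nat_lit 2) (nat_lit 94) (Steps.bwd (nat_lit 10) (Steps.bwd (nat_lit 7) (Steps.bwd (nat_lit 6) (Steps.bwd (nat_lit 3) (Steps.bwd (nat_lit 6) (Steps.bwd (nat_lit 7) (Steps.bwd (nat_lit 10) Steps.nil))))))) (nat_lit 46) (nat_lit 1),
  Rule.mk (nat_lit 3) (nat_lit 94) (Steps.fwd (nat_lit 10240) (Steps.fwd (nat_lit 7168) (Steps.fwd (nat_lit 6144) (Steps.bwd (nat_lit 2) (Steps.bwd (nat_lit 6) (Steps.bwd (nat_lit 7) (Steps.bwd (nat_lit 10) Steps.nil))))))) (nat_lit 47) (nat_lit 0),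
  Rule.mk (nat_lit 6) (nat_lit 106) (Steps.bwd (nat_lit 7) (Steps.bwd (nat_lit 10) (Steps.bwd (nat_lit 6) (Steps.fwd (nat_lit 7168) (Steps.fwd (nat_lit 10240) (Steps.bwd (nat_lit 6) (Steps.bwd (nat_lit 7) (Steps.bwd (nat_lit 10) Steps.nil)))))))) (nat_lit 45) (nat_lit 1),
  Rule.mk (nat_lit 6) (nat_lit 94) (Steps.bwd (nat_lit 3) (Steps.fwd (nat_lit 6144) (Steps.fwd (nat_lit 7168) (Steps.bwd (nat_lit 10) (Steps.fwd (nat_lit 3072) (Steps.fwd (nat_lit 10240) (Steps.fwd (nat_lit 7168) Steps.nil))))))) (nat_lit 46) (nat_lit 4),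
  Rule.mk (nat_lit 8) (nat_lit 58) (Steps.bwd (nat_lit 4) (Steps.bwd (nat_lit 9) (Steps.bwd (nat_lit 4) (Steps.bwd (nat_lit 6) Steps.nil)))) (nat_lit 28) (nat_lit 1),
  Rule.mk (nat_lit 3) (nat_lit 94) (Steps.bwd (nat_lit 10) (Steps.fwd (nat_lit 7168) (Steps.bwd (nat_lit 6) (Steps.bwd (nat_lit 2) (Steps.fwd (nat_lit 6144) (Steps.bwd (nat_lit 7) (Steps.fwd (nat_lit 10240) Steps.nil))))))) (nat_lit 47) (nat_lit 0),
  Rule.mk (nat_lit 1) (nat_lit 58) (Steps.fwd (nat_lit 3072) (Steps.fwd (nat_lit 1024) (Steps.bwd (nat_lit 7) (Steps.bwd (nat_lit 3) Steps.nil)))) (nat_lit 16) (nat_lit 1),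
  Rule.mk (nat_lit 7) (nat_lit 94) (Steps.bwd (nat_lit 6) (Steps.bwd (nat_lit 3) (Steps.fwd (nat_lit 6144) (Steps.bwd (nat_lit 7) (Steps.bwd (nat_lit 10) (Steps.fwd (nat_lit 3072) (Steps.bwd (nat_lit 10) Steps.nil))))))) (nat_lit 46) (nat_lit 3),
  Rule.mk (nat_lit 3) (nat_lit 58) (Steps.bwd (nat_lit 1) (Steps.fwd (nat_lit 3072) (Steps.fwd (nat_lit 1024) (Steps.bwd (nat_lit 7) Steps.nil)))) (nat_lit 16) (nat_lit 0),
  Rule.mk (nat_lit 1) (nat_lit 58) (Steps.bwd (nat_lit 3) (Steps.fwd (nat_lit 1024) (Steps.bwd (nat_lit 2) (Steps.bwd (nat_lit 7) Steps.nil)))) (nat_lit 17) (nat_lit 3),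
  Rule.mk (nat_lit 5) (nat_lit 58) (Steps.bwd (nat_lit 4) (Steps.fwd (nat_lit 1024) (Steps.bwd (nat_lit 5) (Steps.fwd (nat_lit 1024) Steps.nil)))) (nat_lit 19) (nat_lit 3),
  Rule.mk (nat_lit 5) (nat_lit 94) (Steps.bwd (nat_lit 9) (Steps.fwd (nat_lit 1024) (Steps.fwd (nat_lit 3072) (Steps.bwd (nat_lit 4) (Steps.bwd (nat_lit 3) (Steps.bwd (nat_lit 5) (Steps.bwd (nat_lit 8) Steps.nil))))))) (nat_lit 34) (nat_lit 2),
  Rule.mk (nat_lit 5) (nat_lit 58) (Steps.fwd (nat_lit 4096) (Steps.fwd (nat_lit 1024) (Steps.bwd (nat_lit 5) (Steps.bwd (nat_lit 1) Steps.nil)))) (nat_lit 19) (nat_lit 3),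
  Rule.mk (nat_lit 6) (nat_lit 94) (Steps.bwd (nat_lit 7) (Steps.bwd (nat_lit 10) (Steps.fwd (nat_lit 2048) (Steps.fwd (nat_lit 10240) (Steps.bwd (nat_lit 7) (Steps.fwd (nat_lit 6144) (Steps.fwd (nat_lit 3072) Steps.nil))))))) (nat_lit 47) (nat_lit 5),
  Rule.mk (nat_lit 10) (nat_lit 94) (Steps.bwd (nat_lit 7) (Steps.bwd (nat_lit 6) (Steps.fwd (nat_lit 2048) (Steps.fwd (nat_lit 6144) (Steps.fwd (nat_lit 7168) (Steps.fwd (nat_lit 10240) (Steps.fwd (nat_lit 3072) Steps.nil))))))) (nat_lit 46) (nat_lit 2),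
  Rule.mk (nat_lit 0) (nat_lit 58) (Steps.fwd (nat_lit 7168) (Steps.fwd (nat_lit 10240) (Steps.bwd (nat_lit 7) (Steps.fwd (nat_lit 10240) Steps.nil)))) (nat_lit 40) (nat_lit 1),
  Rule.mk (nat_lit 2) (nat_lit 94) (Steps.bwd (nat_lit 10) (Steps.bwd (nat_lit 7) (Steps.fwd (nat_lit 6144) (Steps.bwd (nat_lit 3) (Steps.bwd (nat_lit 6) (Steps.fwd (nat_lit 7168) (Steps.bwd (nat_lit 10) Steps.nil))))))) (nat_lit 46) (nat_lit 1),
  Rule.mk (nat_lit 3) (nat_lit 94) (Steps.bwd (nat_lit 10) (Steps.fwd (nat_lit 7168) (Steps.bwd (nat_lit 6) (Steps.bwd (nat_lit 2) (Steps.bwd (nat_lit 6) (Steps.fwd (nat_lit 7168) (Steps.bwd (nat_lit 10) Steps.nil))))))) (nat_lit 47) (nat_lit 0),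
  Rule.mk (nat_lit 4) (nat_lit 94) (Steps.bwd (nat_lit 3) (Steps.bwd (nat_lit 5) (Steps.bwd (nat_lit 8) (Steps.fwd (nat_lit 5120) (Steps.fwd (nat_lit 8192) (Steps.bwd (nat_lit 1) (Steps.fwd (nat_lit 3072) Steps.nil))))))) (nat_lit 34) (nat_lit 6),
  Rule.mk (nat_lit 5) (nat_lit 58) (Steps.bwd (nat_lit 1) (Steps.bwd (nat_lit 4) (Steps.fwd (nat_lit 5120) (Steps.fwd (nat_lit 1024) Steps.nil)))) (nat_lit 18) (nat_lit 0),
  Rule.mk (nat_lit 3) (nat_lit 94) (Steps.bwd (nat_lit 9) (Steps.bwd (nat_lit 6) (Steps.fwd (nat_lit 4096) (Steps.fwd (nat_lit 5120) (Steps.bwd (nat_lit 8) (Steps.fwd (nat_lit 3072) (Steps.fwd (nat_lit 4096) Steps.nil))))))) (nat_lit 32) (nat_lit 4),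
  Rule.mk (nat_lit 1) (nat_lit 58) (Steps.fwd (nat_lit 3072) (Steps.bwd (nat_lit 1) (Steps.fwd (nat_lit 7168) (Steps.bwd (nat_lit 3) Steps.nil)))) (nat_lit 16) (nat_lit 1),
  Rule.mk (nat_lit 6) (nat_lit 94) (Steps.bwd (nat_lit 7) (Steps.bwd (nat_lit 10) (Steps.bwd (nat_lit 2) (Steps.bwd (nat_lit 10) (Steps.fwd (nat_lit 7168) (Steps.fwd (nat_lit 6144) (Steps.bwd (nat_lit 3) Steps.nil))))))) (nat_lit 46) (nat_lit 6),
  Rule.mk (nat_lit 10) (nat_lit 94) (Steps.fwd (nat_lit 7168) (Steps.fwd (nat_lit 6144) (Steps.fwd (nat_lit 3072) (Steps.bwd (nat_lit 6) (Steps.fwd (nat_lit 7168) (Steps.fwd (nat_lit 10240) (Steps.bwd (nat_lit 3) Steps.nil))))))) (nat_lit 47) (nat_lit 1),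
  Rule.mk (nat_lit 9) (nat_lit 46) (Steps.fwd (nat_lit 7168) (Steps.fwd (nat_lit 8192) (Steps.bwd (nat_lit 7) Steps.nil))) (nat_lit 31) (nat_lit 1),
  Rule.mk (nat_lit 1) (nat_lit 58) (Steps.fwd (nat_lit 2048) (Steps.fwd (nat_lit 1024) (Steps.bwd (nat_lit 2) (Steps.bwd (nat_lit 7) Steps.nil)))) (nat_lit 17) (nat_lit 3),
  Rule.mk (nat_lit 4) (nat_lit 58) (Steps.fwd (nat_lit 7168) (Steps.fwd (nat_lit 4096) (Steps.fwd (nat_lit 6144) (Steps.bwd (nat_lit 7) Steps.nil)))) (nat_lit 20) (nat_lit 4),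
  Rule.mk (nat_lit 10) (nat_lit 94) (Steps.bwd (nat_lit 7) (Steps.fwd (nat_lit 6144) (Steps.fwd (nat_lit 3072) (Steps.bwd (nat_lit 6) (Steps.bwd (nat_lit 7) (Steps.bwd (nat_lit 10) (Steps.bwd (nat_lit 3) Steps.nil))))))) (nat_lit 47) (nat_lit 1),
  Rule.mk (nat_lit 8) (nat_lit 94) (Steps.fwd (nat_lit 5120) (Steps.fwd (nat_lit 8192) (Steps.fwd (nat_lit 1024) (Steps.fwd (nat_lit 3072) (Steps.fwd (nat_lit 4096) (Steps.bwd (nat_lit 3) (Steps.bwd (nat_lit 5) Steps.nil))))))) (nat_lit 34) (nat_lit 1),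
  Rule.mk (nat_lit 4) (nat_lit 94) (Steps.bwd (nat_lit 3) (Steps.bwd (nat_lit 9) (Steps.bwd (nat_lit 6) (Steps.bwd (nat_lit 4) (Steps.fwd (nat_lit 5120) (Steps.bwd (nat_lit 8) (Steps.bwd (nat_lit 2) Steps.nil))))))) (nat_lit 32) (nat_lit 3),
  Rule.mk (nat_lit 6) (nat_lit 94) (Steps.fwd (nat_lit 7168) (Steps.bwd (nat_lit 10) (Steps.fwd (nat_lit 2048) (Steps.bwd (nat_lit 10) (Steps.bwd (nat_lit 7) (Steps.bwd (nat_lit 6) (Steps.bwd (nat_lit 2) Steps.nil))))))) (nat_lit 47) (nat_lit 5),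
  Rule.mk (nat_lit 10) (nat_lit 94) (Steps.fwd (nat_lit 7168) (Steps.bwd (nat_lit 6) (Steps.fwd (nat_lit 2048) (Steps.bwd (nat_lit 6) (Steps.fwd (nat_lit 7168) (Steps.fwd (nat_lit 10240) (Steps.bwd (nat_lit 2) Steps.nil))))))) (nat_lit 46) (nat_lit 2),
  Rule.mk (nat_lit 2) (nat_lit 94) (Steps.bwd (nat_lit 4) (Steps.bwd (nat_lit 3) (Steps.fwd (nat_lit 1024) (Steps.bwd (nat_lit 8) (Steps.bwd (nat_lit 5) (Steps.fwd (nat_lit 8192) (Steps.bwd (nat_lit 5) Steps.nil))))))) (nat_lit 35) (nat_lit 2),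
  Rule.mk (nat_lit 5) (nat_lit 94) (Steps.fwd (nat_lit 8192) (Steps.fwd (nat_lit 1024) (Steps.fwd (nat_lit 3072) (Steps.fwd (nat_lit 4096) (Steps.fwd (nat_lit 2048) (Steps.bwd (nat_lit 5) (Steps.bwd (nat_lit 8) Steps.nil))))))) (nat_lit 34) (nat_lit 2),
  Rule.mk (nat_lit 7) (nat_lit 46) (Steps.bwd (nat_lit 2) (Steps.fwd (nat_lit 1024) (Steps.bwd (nat_lit 3) Steps.nil))) (nat_lit 12) (nat_lit 3),
  Rule.mk (nat_lit 10) (nat_lit 94) (Steps.bwd (nat_lit 7) (Steps.bwd (nat_lit 6) (Steps.fwd (nat_lit 3072) (Steps.fwd (nat_lit 6144) (Steps.fwd (nat_lit 7168) (Steps.bwd (nat_lit 10) (Steps.bwd (nat_lit 3) Steps.nil))))))) (nat_lit 47) (nat_lit 1),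
  Rule.mk (nat_lit 8) (nat_lit 46) (Steps.bwd (nat_lit 1) (Steps.fwd (nat_lit 8192) (Steps.fwd (nat_lit 1024) Steps.nil))) (nat_lit 24) (nat_lit 1),
  Rule.mk (nat_lit 7) (nat_lit 58) (Steps.bwd (nat_lit 1) (Steps.bwd (nat_lit 3) (Steps.fwd (nat_lit 1024) (Steps.fwd (nat_lit 3072) Steps.nil)))) (nat_lit 17) (nat_lit 2),
  Rule.mk (nat_lit 6) (nat_lit 58) (Steps.fwd (nat_lit 4096) (Steps.bwd (nat_lit 8) (Steps.bwd (nat_lit 4) (Steps.fwd (nat_lit 8192) Steps.nil)))) (nat_lit 29) (nat_lit 1),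
  Rule.mk (nat_lit 9) (nat_lit 46) (Steps.bwd (nat_lit 1) (Steps.bwd (nat_lit 8) (Steps.bwd (nat_lit 1) Steps.nil))) (nat_lit 24) (nat_lit 3),
  Rule.mk (nat_lit 5) (nat_lit 94) (Steps.bwd (nat_lit 8) (Steps.fwd (nat_lit 5120) (Steps.fwd (nat_lit 8192) (Steps.bwd (nat_lit 1) (Steps.fwd (nat_lit 3072) (Steps.fwd (nat_lit 4096) (Steps.fwd (nat_lit 2048) Steps.nil))))))) (nat_lit 34) (nat_lit 0),
  Rule.mk (nat_lit 2) (nat_lit 94) (Steps.bwd (nat_lit 4) (Steps.fwd (nat_lit 2048) (Steps.fwd (nat_lit 8192) (Steps.fwd (nat_lit 6144) (Steps.fwd (nat_lit 4096) (Steps.bwd (nat_lit 5) (Steps.bwd (nat_lit 8) Steps.nil))))))) (nat_lit 32) (nat_lit 2),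
  Rule.mk (nat_lit 3) (nat_lit 94) (Steps.bwd (nat_lit 10) (Steps.bwd (nat_lit 7) (Steps.bwd (nat_lit 6) (Steps.fwd (nat_lit 3072) (Steps.fwd (nat_lit 6144) (Steps.bwd (nat_lit 7) (Steps.bwd (nat_lit 10) Steps.nil))))))) (nat_lit 47) (nat_lit 0),
  Rule.mk (nat_lit 5) (nat_lit 94) (Steps.bwd (nat_lit 9) (Steps.fwd (nat_lit 5120) (Steps.fwd (nat_lit 3072) (Steps.fwd (nat_lit 4096) (Steps.bwd (nat_lit 3) (Steps.fwd (nat_lit 1024) (Steps.bwd (nat_lit 8) Steps.nil))))))) (nat_lit 35) (nat_lit 7),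
  Rule.mk (nat_lit 8) (nat_lit 94) (Steps.bwd (nat_lit 5) (Steps.fwd (nat_lit 8192) (Steps.fwd (nat_lit 1024) (Steps.bwd (nat_lit 2) (Steps.fwd (nat_lit 4096) (Steps.fwd (nat_lit 2048) (Steps.fwd (nat_lit 5120) Steps.nil))))))) (nat_lit 34) (nat_lit 1),
  Rule.mk (nat_lit 2) (nat_lit 94) (Steps.bwd (nat_lit 10) (Steps.bwd (nat_lit 7) (Steps.bwd (nat_lit 6) (Steps.bwd (nat_lit 3) (Steps.fwd (nat_lit 6144) (Steps.fwd (nat_lit 7168) (Steps.fwd (nat_lit 10240) Steps.nil))))))) (nat_lit 46) (nat_lit 1),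
  Rule.mk (nat_lit 10) (nat_lit 106) (Steps.bwd (nat_lit 7) (Steps.bwd (nat_lit 6) (Steps.fwd (nat_lit 10240) (Steps.bwd (nat_lit 7) (Steps.fwd (nat_lit 6144) (Steps.fwd (nat_lit 10240) (Steps.bwd (nat_lit 7) (Steps.fwd (nat_lit 6144) Steps.nil)))))))) (nat_lit 44) (nat_lit 1)]
noncomputable def R_12 : List (Rule) := [Rule.mk (nat_lit 6) (nat_lit 106) (Steps.bwd (nat_lit 7) (Steps.fwd (nat_lit 10240) (Steps.fwd (nat_lit 6144) (Steps.bwd (nat_lit 7) (Steps.fwd (nat_lit 10240) (Steps.bwd (nat_lit 6) (Steps.fwd (nat_lit 7168) (Steps.bwd (nat_lit 10) Steps.nil)))))))) (nat_lit 45) (nat_lit 1),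
  Rule.mk (nat_lit 4) (nat_lit 58) (Steps.bwd (nat_lit 6) (Steps.bwd (nat_lit 7) (Steps.bwd (nat_lit 4) (Steps.fwd (nat_lit 7168) Steps.nil)))) (nat_lit 20) (nat_lit 1),
  Rule.mk (nat_lit 5) (nat_lit 94) (Steps.fwd (nat_lit 4096) (Steps.bwd (nat_lit 6) (Steps.bwd (nat_lit 8) (Steps.bwd (nat_lit 2) (Steps.bwd (nat_lit 4) (Steps.fwd (nat_lit 2048) (Steps.fwd (nat_lit 8192) Steps.nil))))))) (nat_lit 33) (nat_lit 1),
  Rule.mk (nat_lit 1) (nat_lit 46) (Steps.bwd (nat_lit 8) (Steps.bwd (nat_lit 1) (Steps.fwd (nat_lit 8192) Steps.nil))) (nat_lit 24) (nat_lit 0),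
  Rule.mk (nat_lit 5) (nat_lit 94) (Steps.bwd (nat_lit 9) (Steps.fwd (nat_lit 1024) (Steps.fwd (nat_lit 3072) (Steps.bwd (nat_lit 4) (Steps.bwd (nat_lit 3) (Steps.bwd (nat_lit 5) (Steps.fwd (nat_lit 9216) Steps.nil))))))) (nat_lit 34) (nat_lit 2),
  Rule.mk (nat_lit 4) (nat_lit 94) (Steps.fwd (nat_lit 2048) (Steps.fwd (nat_lit 8192) (Steps.bwd (nat_lit 6) (Steps.bwd (nat_lit 4) (Steps.fwd (nat_lit 5120) (Steps.bwd (nat_lit 8) (Steps.bwd (nat_lit 2) Steps.nil))))))) (nat_lit 32) (nat_lit 3),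
  Rule.mk (nat_lit 9) (nat_lit 94) (Steps.fwd (nat_lit 1024) (Steps.fwd (nat_lit 3072) (Steps.bwd (nat_lit 4) (Steps.bwd (nat_lit 3) (Steps.fwd (nat_lit 5120) (Steps.bwd (nat_lit 8) (Steps.bwd (nat_lit 5) Steps.nil))))))) (nat_lit 34) (nat_lit 3),
  Rule.mk (nat_lit 8) (nat_lit 46) (Steps.fwd (nat_lit 6144) (Steps.bwd (nat_lit 9) (Steps.bwd (nat_lit 4) Steps.nil))) (nat_lit 26) (nat_lit 1),
  Rule.mk (nat_lit 4) (nat_lit 58) (Steps.fwd (nat_lit 6144) (Steps.bwd (nat_lit 7) (Steps.bwd (nat_lit 4) (Steps.bwd (nat_lit 7) Steps.nil)))) (nat_lit 20) (nat_lit 1),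
  Rule.mk (nat_lit 5) (nat_lit 58) (Steps.bwd (nat_lit 4) (Steps.fwd (nat_lit 1024) (Steps.fwd (nat_lit 5120) (Steps.bwd (nat_lit 1) Steps.nil)))) (nat_lit 19) (nat_lit 3),
  Rule.mk (nat_lit 2) (nat_lit 94) (Steps.bwd (nat_lit 4) (Steps.bwd (nat_lit 3) (Steps.fwd (nat_lit 8192) (Steps.bwd (nat_lit 5) (Steps.bwd (nat_lit 4) (Steps.fwd (nat_lit 6144) (Steps.bwd (nat_lit 8) Steps.nil))))))) (nat_lit 33) (nat_lit 5),
  Rule.mk (nat_lit 4) (nat_lit 46) (Steps.bwd (nat_lit 8) (Steps.bwd (nat_lit 6) (Steps.bwd (nat_lit 9) Steps.nil))) (nat_lit 26) (nat_lit 0),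
  Rule.mk (nat_lit 3) (nat_lit 94) (Steps.fwd (nat_lit 8192) (Steps.fwd (nat_lit 6144) (Steps.fwd (nat_lit 4096) (Steps.bwd (nat_lit 5) (Steps.bwd (nat_lit 8) (Steps.fwd (nat_lit 3072) (Steps.bwd (nat_lit 4) Steps.nil))))))) (nat_lit 32) (nat_lit 4),
  Rule.mk (nat_lit 3) (nat_lit 94) (Steps.bwd (nat_lit 10) (Steps.bwd (nat_lit 7) (Steps.fwd (nat_lit 6144) (Steps.bwd (nat_lit 2) (Steps.bwd (nat_lit 6) (Steps.bwd (nat_lit 7) (Steps.bwd (nat_lit 10) Steps.nil))))))) (nat_lit 47) (nat_lit 0),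
  Rule.mk (nat_lit 1) (nat_lit 58) (Steps.fwd (nat_lit 7168) (Steps.bwd (nat_lit 3) (Steps.bwd (nat_lit 1) (Steps.bwd (nat_lit 2) Steps.nil)))) (nat_lit 16) (nat_lit 3),
  Rule.mk (nat_lit 4) (nat_lit 94) (Steps.bwd (nat_lit 3) (Steps.bwd (nat_lit 1) (Steps.bwd (nat_lit 8) (Steps.fwd (nat_lit 5120) (Steps.fwd (nat_lit 8192) (Steps.fwd (nat_lit 5120) (Steps.fwd (nat_lit 3072) Steps.nil))))))) (nat_lit 35) (nat_lit 3),
  Rule.mk (nat_lit 4) (nat_lit 58) (Steps.fwd (nat_lit 6144) (Steps.fwd (nat_lit 7168) (Steps.bwd (nat_lit 4) (Steps.bwd (nat_lit 7) Steps.nil)))) (nat_lit 20) (nat_lit 1),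
  Rule.mk (nat_lit 1) (nat_lit 58) (Steps.bwd (nat_lit 4) (Steps.bwd (nat_lit 5) (Steps.bwd (nat_lit 1) (Steps.bwd (nat_lit 5) Steps.nil)))) (nat_lit 18) (nat_lit 1),
  Rule.mk (nat_lit 9) (nat_lit 94) (Steps.bwd (nat_lit 6) (Steps.bwd (nat_lit 4) (Steps.bwd (nat_lit 5) (Steps.bwd (nat_lit 8) (Steps.fwd (nat_lit 3072) (Steps.fwd (nat_lit 4096) (Steps.fwd (nat_lit 2048) Steps.nil))))))) (nat_lit 32) (nat_lit 5),
  Rule.mk (nat_lit 8) (nat_lit 94) (Steps.fwd (nat_lit 3072) (Steps.bwd (nat_lit 4) (Steps.bwd (nat_lit 3) (Steps.bwd (nat_lit 9) (Steps.bwd (nat_lit 6) (Steps.bwd (nat_lit 4) (Steps.fwd (nat_lit 5120) Steps.nil))))))) (nat_lit 32) (nat_lit 1),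
  Rule.mk (nat_lit 5) (nat_lit 94) (Steps.bwd (nat_lit 9) (Steps.bwd (nat_lit 1) (Steps.fwd (nat_lit 3072) (Steps.fwd (nat_lit 4096) (Steps.bwd (nat_lit 3) (Steps.fwd (nat_lit 5120) (Steps.bwd (nat_lit 8) Steps.nil))))))) (nat_lit 34) (nat_lit 2),
  Rule.mk (nat_lit 6) (nat_lit 106) (Steps.bwd (nat_lit 10) (Steps.bwd (nat_lit 7) (Steps.fwd (nat_lit 6144) (Steps.fwd (nat_lit 10240) (Steps.fwd (nat_lit 7168) (Steps.fwd (nat_lit 6144) (Steps.bwd (nat_lit 10) (Steps.fwd (nat_lit 7168) Steps.nil)))))))) (nat_lit 44) (nat_lit 0),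
  Rule.mk (nat_lit 9) (nat_lit 46) (Steps.fwd (nat_lit 4096) (Steps.bwd (nat_lit 8) (Steps.bwd (nat_lit 6) Steps.nil))) (nat_lit 26) (nat_lit 3),
  Rule.mk (nat_lit 8) (nat_lit 58) (Steps.fwd (nat_lit 4096) (Steps.bwd (nat_lit 9) (Steps.bwd (nat_lit 4) (Steps.bwd (nat_lit 6) Steps.nil)))) (nat_lit 28) (nat_lit 1),
  Rule.mk (nat_lit 6) (nat_lit 94) (Steps.fwd (nat_lit 7168) (Steps.fwd (nat_lit 10240) (Steps.bwd (nat_lit 2) (Steps.bwd (nat_lit 10) (Steps.bwd (nat_lit 7) (Steps.bwd (nat_lit 6) (Steps.bwd (nat_lit 3) Steps.nil))))))) (nat_lit 46) (nat_lit 6),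
  Rule.mk (nat_lit 5) (nat_lit 94) (Steps.fwd (nat_lit 8192) (Steps.bwd (nat_lit 1) (Steps.fwd (nat_lit 3072) (Steps.fwd (nat_lit 4096) (Steps.bwd (nat_lit 3) (Steps.fwd (nat_lit 5120) (Steps.bwd (nat_lit 8) Steps.nil))))))) (nat_lit 34) (nat_lit 2),
  Rule.mk (nat_lit 4) (nat_lit 94) (Steps.bwd (nat_lit 3) (Steps.fwd (nat_lit 8192) (Steps.bwd (nat_lit 6) (Steps.fwd (nat_lit 4096) (Steps.fwd (nat_lit 5120) (Steps.fwd (nat_lit 9216) (Steps.fwd (nat_lit 3072) Steps.nil))))))) (nat_lit 32) (nat_lit 3),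
  Rule.mk (nat_lit 4) (nat_lit 58) (Steps.bwd (nat_lit 7) (Steps.bwd (nat_lit 4) (Steps.bwd (nat_lit 7) (Steps.fwd (nat_lit 6144) Steps.nil)))) (nat_lit 21) (nat_lit 0),
  Rule.mk (nat_lit 5) (nat_lit 58) (Steps.bwd (nat_lit 4) (Steps.fwd (nat_lit 1024) (Steps.bwd (nat_lit 5) (Steps.bwd (nat_lit 1) Steps.nil)))) (nat_lit 19) (nat_lit 3),
  Rule.mk (nat_lit 1) (nat_lit 58) (Steps.fwd (nat_lit 4096) (Steps.bwd (nat_lit 5) (Steps.bwd (nat_lit 1) (Steps.bwd (nat_lit 5) Steps.nil)))) (nat_lit 18) (nat_lit 1),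
  Rule.mk (nat_lit 2) (nat_lit 94) (Steps.bwd (nat_lit 10) (Steps.fwd (nat_lit 7168) (Steps.bwd (nat_lit 6) (Steps.bwd (nat_lit 3) (Steps.fwd (nat_lit 6144) (Steps.fwd (nat_lit 7168) (Steps.bwd (nat_lit 10) Steps.nil))))))) (nat_lit 46) (nat_lit 1),
  Rule.mk (nat_lit 4) (nat_lit 58) (Steps.fwd (nat_lit 7168) (Steps.bwd (nat_lit 4) (Steps.fwd (nat_lit 6144) (Steps.bwd (nat_lit 7) Steps.nil)))) (nat_lit 20) (nat_lit 4),
  Rule.mk (nat_lit 6) (nat_lit 58) (Steps.bwd (nat_lit 4) (Steps.bwd (nat_lit 8) (Steps.fwd (nat_lit 4096) (Steps.bwd (nat_lit 9) Steps.nil)))) (nat_lit 29) (nat_lit 1),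
  Rule.mk (nat_lit 7) (nat_lit 58) (Steps.fwd (nat_lit 4096) (Steps.fwd (nat_lit 7168) (Steps.fwd (nat_lit 4096) (Steps.fwd (nat_lit 6144) Steps.nil)))) (nat_lit 20) (nat_lit 3),
  Rule.mk (nat_lit 3) (nat_lit 58) (Steps.fwd (nat_lit 1024) (Steps.bwd (nat_lit 2) (Steps.bwd (nat_lit 1) (Steps.bwd (nat_lit 7) Steps.nil)))) (nat_lit 16) (nat_lit 0),
  Rule.mk (nat_lit 1) (nat_lit 58) (Steps.fwd (nat_lit 2048) (Steps.bwd (nat_lit 1) (Steps.fwd (nat_lit 3072) (Steps.bwd (nat_lit 7) Steps.nil)))) (nat_lit 17) (nat_lit 3),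
  Rule.mk (nat_lit 2) (nat_lit 94) (Steps.fwd (nat_lit 10240) (Steps.bwd (nat_lit 7) (Steps.fwd (nat_lit 6144) (Steps.fwd (nat_lit 2048) (Steps.fwd (nat_lit 6144) (Steps.bwd (nat_lit 7) (Steps.bwd (nat_lit 10) Steps.nil))))))) (nat_lit 46) (nat_lit 1),
  Rule.mk (nat_lit 3) (nat_lit 94) (Steps.bwd (nat_lit 10) (Steps.fwd (nat_lit 7168) (Steps.fwd (nat_lit 6144) (Steps.bwd (nat_lit 2) (Steps.fwd (nat_lit 6144) (Steps.bwd (nat_lit 7) (Steps.bwd (nat_lit 10) Steps.nil))))))) (nat_lit 47) (nat_lit 0),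
  Rule.mk (nat_lit 2) (nat_lit 94) (Steps.bwd (nat_lit 6) (Steps.fwd (nat_lit 7168) (Steps.fwd (nat_lit 10240) (Steps.bwd (nat_lit 3) (Steps.bwd (nat_lit 10) (Steps.bwd (nat_lit 7) (Steps.bwd (nat_lit 6) Steps.nil))))))) (nat_lit 47) (nat_lit 4),
  Rule.mk (nat_lit 9) (nat_lit 94) (Steps.bwd (nat_lit 1) (Steps.bwd (nat_lit 2) (Steps.fwd (nat_lit 4096) (Steps.bwd (nat_lit 3) (Steps.fwd (nat_lit 5120) (Steps.bwd (nat_lit 8) (Steps.bwd (nat_lit 5) Steps.nil))))))) (nat_lit 34) (nat_lit 3),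
  Rule.mk (nat_lit 9) (nat_lit 58) (Steps.bwd (nat_lit 6) (Steps.bwd (nat_lit 4) (Steps.fwd (nat_lit 9216) (Steps.fwd (nat_lit 4096) Steps.nil)))) (nat_lit 29) (nat_lit 0),
  Rule.mk (nat_lit 5) (nat_lit 94) (Steps.fwd (nat_lit 4096) (Steps.fwd (nat_lit 6144) (Steps.fwd (nat_lit 9216) (Steps.fwd (nat_lit 3072) (Steps.bwd (nat_lit 4) (Steps.bwd (nat_lit 3) (Steps.bwd (nat_lit 9) Steps.nil))))))) (nat_lit 33) (nat_lit 1),
  Rule.mk (nat_lit 3) (nat_lit 94) (Steps.fwd (nat_lit 6144) (Steps.bwd (nat_lit 7) (Steps.bwd (nat_lit 10) (Steps.fwd (nat_lit 3072) (Steps.fwd (nat_lit 10240) (Steps.fwd (nat_lit 7168) (Steps.bwd (nat_lit 6) Steps.nil))))))) (nat_lit 46) (nat_lit 5),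
  Rule.mk (nat_lit 1) (nat_lit 58) (Steps.fwd (nat_lit 7168) (Steps.bwd (nat_lit 3) (Steps.fwd (nat_lit 1024) (Steps.bwd (nat_lit 2) Steps.nil)))) (nat_lit 16) (nat_lit 3),
  Rule.mk (nat_lit 2) (nat_lit 94) (Steps.bwd (nat_lit 4) (Steps.bwd (nat_lit 3) (Steps.bwd (nat_lit 9) (Steps.bwd (nat_lit 6) (Steps.bwd (nat_lit 4) (Steps.bwd (nat_lit 5) (Steps.bwd (nat_lit 8) Steps.nil))))))) (nat_lit 32) (nat_lit 2),
  Rule.mk (nat_lit 2) (nat_lit 94) (Steps.fwd (nat_lit 4096) (Steps.fwd (nat_lit 2048) (Steps.bwd (nat_lit 9) (Steps.bwd (nat_lit 6) (Steps.bwd (nat_lit 4) (Steps.bwd (nat_lit 5) (Steps.bwd (nat_lit 8) Steps.nil))))))) (nat_lit 32) (nat_lit 2),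
  Rule.mk (nat_lit 6) (nat_lit 58) (Steps.fwd (nat_lit 4096) (Steps.fwd (nat_lit 9216) (Steps.fwd (nat_lit 4096) (Steps.bwd (nat_lit 9) Steps.nil)))) (nat_lit 29) (nat_lit 1),
  Rule.mk (nat_lit 3) (nat_lit 94) (Steps.bwd (nat_lit 5) (Steps.bwd (nat_lit 8) (Steps.fwd (nat_lit 5120) (Steps.fwd (nat_lit 8192) (Steps.bwd (nat_lit 1) (Steps.fwd (nat_lit 3072) (Steps.bwd (nat_lit 4) Steps.nil))))))) (nat_lit 34) (nat_lit 7),
  Rule.mk (nat_lit 1) (nat_lit 58) (Steps.bwd (nat_lit 5) (Steps.bwd (nat_lit 1) (Steps.bwd (nat_lit 5) (Steps.bwd (nat_lit 4) Steps.nil)))) (nat_lit 19) (nat_lit 0),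
  Rule.mk (nat_lit 9) (nat_lit 58) (Steps.bwd (nat_lit 4) (Steps.bwd (nat_lit 6) (Steps.bwd (nat_lit 8) (Steps.bwd (nat_lit 4) Steps.nil)))) (nat_lit 28) (nat_lit 3),
  Rule.mk (nat_lit 3) (nat_lit 94) (Steps.fwd (nat_lit 5120) (Steps.bwd (nat_lit 8) (Steps.bwd (nat_lit 5) (Steps.fwd (nat_lit 8192) (Steps.bwd (nat_lit 1) (Steps.fwd (nat_lit 3072) (Steps.bwd (nat_lit 4) Steps.nil))))))) (nat_lit 34) (nat_lit 7),
  Rule.mk (nat_lit 7) (nat_lit 58) (Steps.bwd (nat_lit 4) (Steps.fwd (nat_lit 6144) (Steps.bwd (nat_lit 7) (Steps.bwd (nat_lit 4) Steps.nil)))) (nat_lit 20) (nat_lit 0),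
  Rule.mk (nat_lit 10) (nat_lit 94) (Steps.bwd (nat_lit 3) (Steps.fwd (nat_lit 10240) (Steps.bwd (nat_lit 7) (Steps.fwd (nat_lit 6144) (Steps.bwd (nat_lit 2) (Steps.bwd (nat_lit 6) (Steps.fwd (nat_lit 7168) Steps.nil))))))) (nat_lit 47) (nat_lit 7),
  Rule.mk (nat_lit 5) (nat_lit 94) (Steps.bwd (nat_lit 8) (Steps.fwd (nat_lit 3072) (Steps.fwd (nat_lit 4096) (Steps.fwd (nat_lit 2048) (Steps.bwd (nat_lit 9) (Steps.fwd (nat_lit 6144) (Steps.bwd (nat_lit 4) Steps.nil))))))) (nat_lit 32) (nat_lit 0),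
  Rule.mk (nat_lit 1) (nat_lit 94) (Steps.bwd (nat_lit 8) (Steps.bwd (nat_lit 5) (Steps.bwd (nat_lit 9) (Steps.fwd (nat_lit 5120) (Steps.bwd (nat_lit 2) (Steps.fwd (nat_lit 4096) (Steps.bwd (nat_lit 3) Steps.nil))))))) (nat_lit 35) (nat_lit 5),
  Rule.mk (nat_lit 2) (nat_lit 58) (Steps.fwd (nat_lit 1024) (Steps.bwd (nat_lit 7) (Steps.bwd (nat_lit 3) (Steps.bwd (nat_lit 1) Steps.nil)))) (nat_lit 16) (nat_lit 2),
  Rule.mk (nat_lit 2) (nat_lit 58) (Steps.fwd (nat_lit 1024) (Steps.bwd (nat_lit 7) (Steps.fwd (nat_lit 2048) (Steps.bwd (nat_lit 1) Steps.nil)))) (nat_lit 16) (nat_lit 2),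
  Rule.mk (nat_lit 4) (nat_lit 58) (Steps.bwd (nat_lit 5) (Steps.fwd (nat_lit 1024) (Steps.fwd (nat_lit 5120) (Steps.bwd (nat_lit 1) Steps.nil)))) (nat_lit 18) (nat_lit 2),
  Rule.mk (nat_lit 9) (nat_lit 34) (Steps.fwd (nat_lit 8192) (Steps.bwd (nat_lit 9) Steps.nil)) (nat_lit 23) (nat_lit 0),
  Rule.mk (nat_lit 10) (nat_lit 46) (Steps.fwd (nat_lit 9216) (Steps.bwd (nat_lit 10) (Steps.bwd (nat_lit 9) Steps.nil))) (nat_lit 42) (nat_lit 1),
  Rule.mk (nat_lit 2) (nat_lit 94) (Steps.bwd (nat_lit 4) (Steps.bwd (nat_lit 3) (Steps.bwd (nat_lit 9) (Steps.fwd (nat_lit 6144) (Steps.fwd (nat_lit 4096) (Steps.bwd (nat_lit 5) (Steps.bwd (nat_lit 8) Steps.nil))))))) (nat_lit 32) (nat_lit 2),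
  Rule.mk (nat_lit 9) (nat_lit 58) (Steps.fwd (nat_lit 4096) (Steps.bwd (nat_lit 6) (Steps.bwd (nat_lit 8) (Steps.bwd (nat_lit 4) Steps.nil)))) (nat_lit 28) (nat_lit 3),
  Rule.mk (nat_lit 8) (nat_lit 58) (Steps.fwd (nat_lit 4096) (Steps.bwd (nat_lit 9) (Steps.fwd (nat_lit 4096) (Steps.bwd (nat_lit 6) Steps.nil)))) (nat_lit 28) (nat_lit 1),
  Rule.mk (nat_lit 4) (nat_lit 58) (Steps.bwd (nat_lit 8) (Steps.fwd (nat_lit 4096) (Steps.bwd (nat_lit 9) (Steps.bwd (nat_lit 6) Steps.nil)))) (nat_lit 29) (nat_lit 2)]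
noncomputable def R_13 : List (Rule) := [Rule.mk (nat_lit 4) (nat_lit 94) (Steps.bwd (nat_lit 3) (Steps.fwd (nat_lit 8192) (Steps.fwd (nat_lit 6144) (Steps.bwd (nat_lit 4) (Steps.fwd (nat_lit 5120) (Steps.fwd (nat_lit 9216) (Steps.fwd (nat_lit 3072) Steps.nil))))))) (nat_lit 32) (nat_lit 3),
  Rule.mk (nat_lit 5) (nat_lit 94) (Steps.bwd (nat_lit 9) (Steps.bwd (nat_lit 1) (Steps.bwd (nat_lit 2) (Steps.bwd (nat_lit 4) (Steps.bwd (nat_lit 3) (Steps.fwd (nat_lit 5120) (Steps.fwd (nat_lit 9216) Steps.nil))))))) (nat_lit 34) (nat_lit 2),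
  Rule.mk (nat_lit 8) (nat_lit 94) (Steps.bwd (nat_lit 2) (Steps.bwd (nat_lit 4) (Steps.bwd (nat_lit 3) (Steps.fwd (nat_lit 8192) (Steps.fwd (nat_lit 6144) (Steps.fwd (nat_lit 4096) (Steps.bwd (nat_lit 5) Steps.nil))))))) (nat_lit 32) (nat_lit 1),
  Rule.mk (nat_lit 10) (nat_lit 46) (Steps.bwd (nat_lit 1) (Steps.fwd (nat_lit 10240) (Steps.bwd (nat_lit 1) Steps.nil))) (nat_lit 38) (nat_lit 1),
  Rule.mk (nat_lit 4) (nat_lit 58) (Steps.fwd (nat_lit 5120) (Steps.bwd (nat_lit 1) (Steps.fwd (nat_lit 5120) (Steps.bwd (nat_lit 1) Steps.nil)))) (nat_lit 18) (nat_lit 2),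
  Rule.mk (nat_lit 7) (nat_lit 58) (Steps.bwd (nat_lit 4) (Steps.bwd (nat_lit 7) (Steps.fwd (nat_lit 4096) (Steps.fwd (nat_lit 6144) Steps.nil)))) (nat_lit 20) (nat_lit 3),
  Rule.mk (nat_lit 9) (nat_lit 94) (Steps.bwd (nat_lit 1) (Steps.bwd (nat_lit 2) (Steps.bwd (nat_lit 4) (Steps.bwd (nat_lit 3) (Steps.fwd (nat_lit 5120) (Steps.bwd (nat_lit 8) (Steps.bwd (nat_lit 5) Steps.nil))))))) (nat_lit 34) (nat_lit 3),
  Rule.mk (nat_lit 5) (nat_lit 94) (Steps.bwd (nat_lit 9) (Steps.fwd (nat_lit 1024) (Steps.bwd (nat_lit 2) (Steps.bwd (nat_lit 4) (Steps.fwd (nat_lit 2048) (Steps.bwd (nat_lit 5) (Steps.bwd (nat_lit 8) Steps.nil))))))) (nat_lit 34) (nat_lit 2),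
  Rule.mk (nat_lit 2) (nat_lit 94) (Steps.bwd (nat_lit 4) (Steps.fwd (nat_lit 2048) (Steps.bwd (nat_lit 9) (Steps.fwd (nat_lit 6144) (Steps.fwd (nat_lit 4096) (Steps.bwd (nat_lit 5) (Steps.bwd (nat_lit 8) Steps.nil))))))) (nat_lit 32) (nat_lit 2),
  Rule.mk (nat_lit 9) (nat_lit 94) (Steps.bwd (nat_lit 5) (Steps.fwd (nat_lit 4096) (Steps.bwd (nat_lit 6) (Steps.fwd (nat_lit 9216) (Steps.bwd (nat_lit 2) (Steps.fwd (nat_lit 4096) (Steps.bwd (nat_lit 3) Steps.nil))))))) (nat_lit 33) (nat_lit 0),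
  Rule.mk (nat_lit 4) (nat_lit 58) (Steps.bwd (nat_lit 5) (Steps.bwd (nat_lit 1) (Steps.bwd (nat_lit 5) (Steps.fwd (nat_lit 1024) Steps.nil)))) (nat_lit 18) (nat_lit 2),
  Rule.mk (nat_lit 7) (nat_lit 58) (Steps.fwd (nat_lit 4096) (Steps.fwd (nat_lit 6144) (Steps.fwd (nat_lit 7168) (Steps.bwd (nat_lit 4) Steps.nil)))) (nat_lit 20) (nat_lit 0),
  Rule.mk (nat_lit 8) (nat_lit 94) (Steps.bwd (nat_lit 2) (Steps.fwd (nat_lit 4096) (Steps.bwd (nat_lit 3) (Steps.fwd (nat_lit 8192) (Steps.bwd (nat_lit 6) (Steps.bwd (nat_lit 4) (Steps.bwd (nat_lit 5) Steps.nil))))))) (nat_lit 32) (nat_lit 1),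
  Rule.mk (nat_lit 3) (nat_lit 94) (Steps.fwd (nat_lit 8192) (Steps.fwd (nat_lit 6144) (Steps.fwd (nat_lit 4096) (Steps.fwd (nat_lit 5120) (Steps.bwd (nat_lit 8) (Steps.bwd (nat_lit 2) (Steps.bwd (nat_lit 4) Steps.nil))))))) (nat_lit 32) (nat_lit 4),
  Rule.mk (nat_lit 3) (nat_lit 94) (Steps.bwd (nat_lit 5) (Steps.fwd (nat_lit 9216) (Steps.fwd (nat_lit 5120) (Steps.fwd (nat_lit 8192) (Steps.fwd (nat_lit 1024) (Steps.fwd (nat_lit 3072) (Steps.fwd (nat_lit 4096) Steps.nil))))))) (nat_lit 34) (nat_lit 7),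
  Rule.mk (nat_lit 3) (nat_lit 94) (Steps.fwd (nat_lit 6144) (Steps.bwd (nat_lit 7) (Steps.bwd (nat_lit 10) (Steps.bwd (nat_lit 2) (Steps.fwd (nat_lit 10240) (Steps.bwd (nat_lit 7) (Steps.bwd (nat_lit 6) Steps.nil))))))) (nat_lit 46) (nat_lit 5),
  Rule.mk (nat_lit 9) (nat_lit 94) (Steps.bwd (nat_lit 6) (Steps.bwd (nat_lit 4) (Steps.bwd (nat_lit 5) (Steps.bwd (nat_lit 8) (Steps.bwd (nat_lit 2) (Steps.fwd (nat_lit 4096) (Steps.bwd (nat_lit 3) Steps.nil))))))) (nat_lit 32) (nat_lit 5),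
  Rule.mk (nat_lit 1) (nat_lit 94) (Steps.bwd (nat_lit 2) (Steps.bwd (nat_lit 4) (Steps.bwd (nat_lit 3) (Steps.bwd (nat_lit 5) (Steps.bwd (nat_lit 8) (Steps.bwd (nat_lit 5) (Steps.bwd (nat_lit 9) Steps.nil))))))) (nat_lit 34) (nat_lit 4),
  Rule.mk (nat_lit 4) (nat_lit 46) (Steps.bwd (nat_lit 8) (Steps.bwd (nat_lit 6) (Steps.fwd (nat_lit 8192) Steps.nil))) (nat_lit 26) (nat_lit 0),
  Rule.mk (nat_lit 0) (nat_lit 58) (Steps.fwd (nat_lit 2048) (Steps.fwd (nat_lit 7168) (Steps.bwd (nat_lit 2) (Steps.fwd (nat_lit 1024) Steps.nil)))) (nat_lit 12) (nat_lit 1),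
  Rule.mk (nat_lit 1) (nat_lit 58) (Steps.bwd (nat_lit 4) (Steps.fwd (nat_lit 5120) (Steps.fwd (nat_lit 1024) (Steps.fwd (nat_lit 5120) Steps.nil)))) (nat_lit 18) (nat_lit 1),
  Rule.mk (nat_lit 5) (nat_lit 58) (Steps.bwd (nat_lit 4) (Steps.bwd (nat_lit 1) (Steps.bwd (nat_lit 5) (Steps.fwd (nat_lit 1024) Steps.nil)))) (nat_lit 19) (nat_lit 3),
  Rule.mk (nat_lit 3) (nat_lit 94) (Steps.fwd (nat_lit 8192) (Steps.bwd (nat_lit 6) (Steps.fwd (nat_lit 4096) (Steps.fwd (nat_lit 5120) (Steps.bwd (nat_lit 8) (Steps.fwd (nat_lit 3072) (Steps.bwd (nat_lit 4) Steps.nil))))))) (nat_lit 32) (nat_lit 4),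
  Rule.mk (nat_lit 10) (nat_lit 94) (Steps.bwd (nat_lit 3) (Steps.fwd (nat_lit 10240) (Steps.fwd (nat_lit 7168) (Steps.bwd (nat_lit 6) (Steps.fwd (nat_lit 3072) (Steps.bwd (nat_lit 6) (Steps.fwd (nat_lit 7168) Steps.nil))))))) (nat_lit 47) (nat_lit 7),
  Rule.mk (nat_lit 7) (nat_lit 58) (Steps.bwd (nat_lit 4) (Steps.bwd (nat_lit 6) (Steps.bwd (nat_lit 7) (Steps.bwd (nat_lit 4) Steps.nil)))) (nat_lit 20) (nat_lit 0),
  Rule.mk (nat_lit 3) (nat_lit 94) (Steps.bwd (nat_lit 9) (Steps.fwd (nat_lit 6144) (Steps.bwd (nat_lit 4) (Steps.fwd (nat_lit 5120) (Steps.fwd (nat_lit 9216) (Steps.fwd (nat_lit 3072) (Steps.bwd (nat_lit 4) Steps.nil))))))) (nat_lit 32) (nat_lit 4),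
  Rule.mk (nat_lit 10) (nat_lit 94) (Steps.bwd (nat_lit 3) (Steps.fwd (nat_lit 10240) (Steps.fwd (nat_lit 7168) (Steps.bwd (nat_lit 6) (Steps.bwd (nat_lit 2) (Steps.fwd (nat_lit 6144) (Steps.fwd (nat_lit 7168) Steps.nil))))))) (nat_lit 47) (nat_lit 7),
  Rule.mk (nat_lit 8) (nat_lit 94) (Steps.bwd (nat_lit 2) (Steps.bwd (nat_lit 4) (Steps.fwd (nat_lit 2048) (Steps.fwd (nat_lit 8192) (Steps.bwd (nat_lit 6) (Steps.fwd (nat_lit 4096) (Steps.bwd (nat_lit 5) Steps.nil))))))) (nat_lit 32) (nat_lit 1),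
  Rule.mk (nat_lit 6) (nat_lit 58) (Steps.bwd (nat_lit 8) (Steps.bwd (nat_lit 4) (Steps.fwd (nat_lit 8192) (Steps.fwd (nat_lit 4096) Steps.nil)))) (nat_lit 28) (nat_lit 0),
  Rule.mk (nat_lit 6) (nat_lit 58) (Steps.bwd (nat_lit 8) (Steps.fwd (nat_lit 4096) (Steps.fwd (nat_lit 8192) (Steps.bwd (nat_lit 4) Steps.nil)))) (nat_lit 28) (nat_lit 0),
  Rule.mk (nat_lit 4) (nat_lit 94) (Steps.bwd (nat_lit 3) (Steps.bwd (nat_lit 9) (Steps.bwd (nat_lit 6) (Steps.bwd (nat_lit 4) (Steps.bwd (nat_lit 5) (Steps.fwd (nat_lit 9216) (Steps.fwd (nat_lit 3072) Steps.nil))))))) (nat_lit 32) (nat_lit 3),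
  Rule.mk (nat_lit 1) (nat_lit 58) (Steps.fwd (nat_lit 5120) (Steps.fwd (nat_lit 1024) (Steps.bwd (nat_lit 5) (Steps.bwd (nat_lit 4) Steps.nil)))) (nat_lit 19) (nat_lit 0),
  Rule.mk (nat_lit 9) (nat_lit 94) (Steps.bwd (nat_lit 1) (Steps.bwd (nat_lit 2) (Steps.bwd (nat_lit 4) (Steps.bwd (nat_lit 3) (Steps.bwd (nat_lit 5) (Steps.fwd (nat_lit 9216) (Steps.bwd (nat_lit 5) Steps.nil))))))) (nat_lit 34) (nat_lit 3),
  Rule.mk (nat_lit 5) (nat_lit 94) (Steps.bwd (nat_lit 2) (Steps.bwd (nat_lit 4) (Steps.bwd (nat_lit 3) (Steps.bwd (nat_lit 1) (Steps.fwd (nat_lit 9216) (Steps.bwd (nat_lit 5) (Steps.bwd (nat_lit 9) Steps.nil))))))) (nat_lit 35) (nat_lit 1),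
  Rule.mk (nat_lit 9) (nat_lit 58) (Steps.fwd (nat_lit 4096) (Steps.bwd (nat_lit 6) (Steps.fwd (nat_lit 9216) (Steps.bwd (nat_lit 4) Steps.nil)))) (nat_lit 28) (nat_lit 3),
  Rule.mk (nat_lit 3) (nat_lit 94) (Steps.fwd (nat_lit 5120) (Steps.fwd (nat_lit 9216) (Steps.fwd (nat_lit 5120) (Steps.bwd (nat_lit 9) (Steps.fwd (nat_lit 1024) (Steps.fwd (nat_lit 3072) (Steps.bwd (nat_lit 4) Steps.nil))))))) (nat_lit 34) (nat_lit 7),
  Rule.mk (nat_lit 0) (nat_lit 46) (Steps.fwd (nat_lit 2048) (Steps.bwd (nat_lit 3) (Steps.bwd (nat_lit 3) Steps.nil))) (nat_lit 11) (nat_lit 0),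
  Rule.mk (nat_lit 10) (nat_lit 94) (Steps.bwd (nat_lit 2) (Steps.fwd (nat_lit 10240) (Steps.bwd (nat_lit 7) (Steps.fwd (nat_lit 6144) (Steps.bwd (nat_lit 3) (Steps.bwd (nat_lit 6) (Steps.fwd (nat_lit 7168) Steps.nil))))))) (nat_lit 46) (nat_lit 0),
  Rule.mk (nat_lit 3) (nat_lit 58) (Steps.bwd (nat_lit 1) (Steps.bwd (nat_lit 2) (Steps.fwd (nat_lit 1024) (Steps.fwd (nat_lit 7168) Steps.nil)))) (nat_lit 16) (nat_lit 0),
  Rule.mk (nat_lit 8) (nat_lit 94) (Steps.bwd (nat_lit 2) (Steps.bwd (nat_lit 4) (Steps.fwd (nat_lit 2048) (Steps.fwd (nat_lit 8192) (Steps.fwd (nat_lit 6144) (Steps.fwd (nat_lit 4096) (Steps.bwd (nat_lit 5) Steps.nil))))))) (nat_lit 32) (nat_lit 1),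
  Rule.mk (nat_lit 5) (nat_lit 58) (Steps.fwd (nat_lit 1024) (Steps.bwd (nat_lit 5) (Steps.fwd (nat_lit 1024) (Steps.bwd (nat_lit 4) Steps.nil)))) (nat_lit 18) (nat_lit 3),
  Rule.mk (nat_lit 4) (nat_lit 58) (Steps.fwd (nat_lit 1024) (Steps.bwd (nat_lit 5) (Steps.fwd (nat_lit 1024) (Steps.fwd (nat_lit 5120) Steps.nil)))) (nat_lit 19) (nat_lit 4),
  Rule.mk (nat_lit 3) (nat_lit 94) (Steps.bwd (nat_lit 5) (Steps.bwd (nat_lit 8) (Steps.bwd (nat_lit 5) (Steps.fwd (nat_lit 8192) (Steps.fwd (nat_lit 1024) (Steps.bwd (nat_lit 2) (Steps.bwd (nat_lit 4) Steps.nil))))))) (nat_lit 34) (nat_lit 7),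
  Rule.mk (nat_lit 8) (nat_lit 94) (Steps.bwd (nat_lit 5) (Steps.bwd (nat_lit 9) (Steps.bwd (nat_lit 1) (Steps.bwd (nat_lit 2) (Steps.bwd (nat_lit 4) (Steps.fwd (nat_lit 2048) (Steps.bwd (nat_lit 5) Steps.nil))))))) (nat_lit 34) (nat_lit 1),
  Rule.mk (nat_lit 2) (nat_lit 58) (Steps.fwd (nat_lit 1024) (Steps.bwd (nat_lit 7) (Steps.fwd (nat_lit 2048) (Steps.fwd (nat_lit 1024) Steps.nil)))) (nat_lit 16) (nat_lit 2),
  Rule.mk (nat_lit 10) (nat_lit 94) (Steps.bwd (nat_lit 3) (Steps.fwd (nat_lit 10240) (Steps.fwd (nat_lit 7168) (Steps.fwd (nat_lit 6144) (Steps.bwd (nat_lit 2) (Steps.fwd (nat_lit 6144) (Steps.bwd (nat_lit 7) Steps.nil))))))) (nat_lit 47) (nat_lit 7),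
  Rule.mk (nat_lit 6) (nat_lit 94) (Steps.bwd (nat_lit 7) (Steps.fwd (nat_lit 10240) (Steps.fwd (nat_lit 2048) (Steps.fwd (nat_lit 10240) (Steps.bwd (nat_lit 7) (Steps.bwd (nat_lit 6) (Steps.bwd (nat_lit 2) Steps.nil))))))) (nat_lit 47) (nat_lit 5),
  Rule.mk (nat_lit 10) (nat_lit 94) (Steps.bwd (nat_lit 7) (Steps.bwd (nat_lit 6) (Steps.bwd (nat_lit 3) (Steps.fwd (nat_lit 6144) (Steps.bwd (nat_lit 7) (Steps.fwd (nat_lit 10240) (Steps.fwd (nat_lit 3072) Steps.nil))))))) (nat_lit 46) (nat_lit 2),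
  Rule.mk (nat_lit 6) (nat_lit 46) (Steps.fwd (nat_lit 8192) (Steps.bwd (nat_lit 4) (Steps.fwd (nat_lit 9216) Steps.nil))) (nat_lit 26) (nat_lit 2),
  Rule.mk (nat_lit 2) (nat_lit 94) (Steps.bwd (nat_lit 4) (Steps.fwd (nat_lit 2048) (Steps.fwd (nat_lit 8192) (Steps.fwd (nat_lit 6144) (Steps.fwd (nat_lit 4096) (Steps.fwd (nat_lit 5120) (Steps.bwd (nat_lit 8) Steps.nil))))))) (nat_lit 32) (nat_lit 2),
  Rule.mk (nat_lit 5) (nat_lit 94) (Steps.fwd (nat_lit 8192) (Steps.fwd (nat_lit 1024) (Steps.fwd (nat_lit 3072) (Steps.fwd (nat_lit 4096) (Steps.fwd (nat_lit 2048) (Steps.fwd (nat_lit 5120) (Steps.bwd (nat_lit 8) Steps.nil))))))) (nat_lit 34) (nat_lit 2),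
  Rule.mk (nat_lit 9) (nat_lit 94) (Steps.bwd (nat_lit 6) (Steps.fwd (nat_lit 4096) (Steps.fwd (nat_lit 5120) (Steps.fwd (nat_lit 9216) (Steps.bwd (nat_lit 2) (Steps.bwd (nat_lit 4) (Steps.bwd (nat_lit 3) Steps.nil))))))) (nat_lit 32) (nat_lit 5),
  Rule.mk (nat_lit 5) (nat_lit 94) (Steps.fwd (nat_lit 4096) (Steps.bwd (nat_lit 6) (Steps.fwd (nat_lit 9216) (Steps.bwd (nat_lit 2) (Steps.bwd (nat_lit 4) (Steps.bwd (nat_lit 3) (Steps.bwd (nat_lit 9) Steps.nil))))))) (nat_lit 33) (nat_lit 1),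
  Rule.mk (nat_lit 3) (nat_lit 94) (Steps.bwd (nat_lit 5) (Steps.bwd (nat_lit 8) (Steps.fwd (nat_lit 5120) (Steps.bwd (nat_lit 9) (Steps.bwd (nat_lit 1) (Steps.bwd (nat_lit 2) (Steps.fwd (nat_lit 4096) Steps.nil))))))) (nat_lit 34) (nat_lit 7),
  Rule.mk (nat_lit 2) (nat_lit 94) (Steps.bwd (nat_lit 4) (Steps.fwd (nat_lit 2048) (Steps.fwd (nat_lit 8192) (Steps.bwd (nat_lit 6) (Steps.bwd (nat_lit 4) (Steps.bwd (nat_lit 5) (Steps.bwd (nat_lit 8) Steps.nil))))))) (nat_lit 32) (nat_lit 2),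
  Rule.mk (nat_lit 4) (nat_lit 94) (Steps.bwd (nat_lit 3) (Steps.bwd (nat_lit 9) (Steps.fwd (nat_lit 6144) (Steps.bwd (nat_lit 4) (Steps.bwd (nat_lit 5) (Steps.bwd (nat_lit 8) (Steps.fwd (nat_lit 3072) Steps.nil))))))) (nat_lit 32) (nat_lit 3),
  Rule.mk (nat_lit 9) (nat_lit 58) (Steps.fwd (nat_lit 4096) (Steps.fwd (nat_lit 6144) (Steps.fwd (nat_lit 9216) (Steps.bwd (nat_lit 4) Steps.nil)))) (nat_lit 28) (nat_lit 3),
  Rule.mk (nat_lit 10) (nat_lit 94) (Steps.bwd (nat_lit 7) (Steps.fwd (nat_lit 6144) (Steps.fwd (nat_lit 3072) (Steps.bwd (nat_lit 6) (Steps.fwd (nat_lit 7168) (Steps.bwd (nat_lit 10) (Steps.bwd (nat_lit 3) Steps.nil))))))) (nat_lit 47) (nat_lit 1),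
  Rule.mk (nat_lit 6) (nat_lit 106) (Steps.bwd (nat_lit 10) (Steps.bwd (nat_lit 7) (Steps.fwd (nat_lit 6144) (Steps.fwd (nat_lit 10240) (Steps.fwd (nat_lit 7168) (Steps.bwd (nat_lit 6) (Steps.fwd (nat_lit 10240) (Steps.fwd (nat_lit 7168) Steps.nil)))))))) (nat_lit 44) (nat_lit 0),
  Rule.mk (nat_lit 4) (nat_lit 58) (Steps.fwd (nat_lit 7168) (Steps.bwd (nat_lit 4) (Steps.fwd (nat_lit 7168) (Steps.bwd (nat_lit 6) Steps.nil)))) (nat_lit 21) (nat_lit 0),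
  Rule.mk (nat_lit 3) (nat_lit 94) (Steps.fwd (nat_lit 6144) (Steps.fwd (nat_lit 7168) (Steps.bwd (nat_lit 10) (Steps.fwd (nat_lit 3072) (Steps.fwd (nat_lit 10240) (Steps.fwd (nat_lit 7168) (Steps.bwd (nat_lit 6) Steps.nil))))))) (nat_lit 46) (nat_lit 5),
  Rule.mk (nat_lit 10) (nat_lit 94) (Steps.bwd (nat_lit 3) (Steps.fwd (nat_lit 10240) (Steps.bwd (nat_lit 7) (Steps.fwd (nat_lit 6144) (Steps.fwd (nat_lit 3072) (Steps.bwd (nat_lit 6) (Steps.fwd (nat_lit 7168) Steps.nil))))))) (nat_lit 47) (nat_lit 7),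
  Rule.mk (nat_lit 9) (nat_lit 94) (Steps.bwd (nat_lit 1) (Steps.bwd (nat_lit 2) (Steps.fwd (nat_lit 4096) (Steps.bwd (nat_lit 3) (Steps.bwd (nat_lit 5) (Steps.bwd (nat_lit 8) (Steps.bwd (nat_lit 5) Steps.nil))))))) (nat_lit 34) (nat_lit 3),
  Rule.mk (nat_lit 5) (nat_lit 94) (Steps.bwd (nat_lit 4) (Steps.bwd (nat_lit 6) (Steps.fwd (nat_lit 9216) (Steps.fwd (nat_lit 3072) (Steps.bwd (nat_lit 4) (Steps.fwd (nat_lit 2048) (Steps.bwd (nat_lit 9) Steps.nil))))))) (nat_lit 33) (nat_lit 1)]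
noncomputable def R_14 : List (Rule) := [Rule.mk (nat_lit 10) (nat_lit 94) (Steps.bwd (nat_lit 7) (Steps.fwd (nat_lit 6144) (Steps.bwd (nat_lit 3) (Steps.bwd (nat_lit 6) (Steps.bwd (nat_lit 7) (Steps.fwd (nat_lit 10240) (Steps.bwd (nat_lit 2) Steps.nil))))))) (nat_lit 46) (nat_lit 2),
  Rule.mk (nat_lit 2) (nat_lit 94) (Steps.fwd (nat_lit 4096) (Steps.fwd (nat_lit 2048) (Steps.bwd (nat_lit 9) (Steps.bwd (nat_lit 6) (Steps.fwd (nat_lit 4096) (Steps.bwd (nat_lit 5) (Steps.bwd (nat_lit 8) Steps.nil))))))) (nat_lit 32) (nat_lit 2),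
  Rule.mk (nat_lit 2) (nat_lit 94) (Steps.bwd (nat_lit 6) (Steps.bwd (nat_lit 7) (Steps.fwd (nat_lit 10240) (Steps.fwd (nat_lit 2048) (Steps.fwd (nat_lit 10240) (Steps.fwd (nat_lit 7168) (Steps.bwd (nat_lit 6) Steps.nil))))))) (nat_lit 47) (nat_lit 4),
  Rule.mk (nat_lit 9) (nat_lit 94) (Steps.bwd (nat_lit 6) (Steps.fwd (nat_lit 4096) (Steps.bwd (nat_lit 5) (Steps.bwd (nat_lit 8) (Steps.fwd (nat_lit 3072) (Steps.bwd (nat_lit 4) (Steps.bwd (nat_lit 3) Steps.nil))))))) (nat_lit 32) (nat_lit 5),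
  Rule.mk (nat_lit 5) (nat_lit 94) (Steps.bwd (nat_lit 4) (Steps.bwd (nat_lit 6) (Steps.bwd (nat_lit 8) (Steps.fwd (nat_lit 3072) (Steps.bwd (nat_lit 4) (Steps.bwd (nat_lit 3) (Steps.bwd (nat_lit 9) Steps.nil))))))) (nat_lit 33) (nat_lit 1),
  Rule.mk (nat_lit 3) (nat_lit 94) (Steps.bwd (nat_lit 5) (Steps.bwd (nat_lit 8) (Steps.bwd (nat_lit 5) (Steps.fwd (nat_lit 8192) (Steps.fwd (nat_lit 1024) (Steps.fwd (nat_lit 3072) (Steps.fwd (nat_lit 4096) Steps.nil))))))) (nat_lit 34) (nat_lit 7),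
  Rule.mk (nat_lit 8) (nat_lit 58) (Steps.bwd (nat_lit 4) (Steps.fwd (nat_lit 8192) (Steps.fwd (nat_lit 4096) (Steps.bwd (nat_lit 6) Steps.nil)))) (nat_lit 28) (nat_lit 1),
  Rule.mk (nat_lit 3) (nat_lit 94) (Steps.bwd (nat_lit 6) (Steps.bwd (nat_lit 7) (Steps.fwd (nat_lit 10240) (Steps.fwd (nat_lit 3072) (Steps.bwd (nat_lit 10) (Steps.bwd (nat_lit 7) (Steps.bwd (nat_lit 6) Steps.nil))))))) (nat_lit 46) (nat_lit 5),
  Rule.mk (nat_lit 2) (nat_lit 94) (Steps.bwd (nat_lit 6) (Steps.bwd (nat_lit 7) (Steps.bwd (nat_lit 10) (Steps.bwd (nat_lit 3) (Steps.bwd (nat_lit 10) (Steps.bwd (nat_lit 7) (Steps.bwd (nat_lit 6) Steps.nil))))))) (nat_lit 47) (nat_lit 4),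
  Rule.mk (nat_lit 10) (nat_lit 106) (Steps.fwd (nat_lit 7168) (Steps.bwd (nat_lit 6) (Steps.bwd (nat_lit 10) (Steps.bwd (nat_lit 7) (Steps.bwd (nat_lit 6) (Steps.bwd (nat_lit 10) (Steps.bwd (nat_lit 7) (Steps.bwd (nat_lit 6) Steps.nil)))))))) (nat_lit 44) (nat_lit 1),
  Rule.mk (nat_lit 2) (nat_lit 94) (Steps.fwd (nat_lit 4096) (Steps.fwd (nat_lit 2048) (Steps.bwd (nat_lit 9) (Steps.fwd (nat_lit 6144) (Steps.bwd (nat_lit 4) (Steps.bwd (nat_lit 5) (Steps.bwd (nat_lit 8) Steps.nil))))))) (nat_lit 32) (nat_lit 2),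
  Rule.mk (nat_lit 5) (nat_lit 94) (Steps.fwd (nat_lit 8192) (Steps.bwd (nat_lit 1) (Steps.fwd (nat_lit 3072) (Steps.bwd (nat_lit 4) (Steps.bwd (nat_lit 3) (Steps.bwd (nat_lit 5) (Steps.bwd (nat_lit 8) Steps.nil))))))) (nat_lit 34) (nat_lit 2),
  Rule.mk (nat_lit 7) (nat_lit 58) (Steps.fwd (nat_lit 1024) (Steps.bwd (nat_lit 3) (Steps.bwd (nat_lit 1) (Steps.bwd (nat_lit 2) Steps.nil)))) (nat_lit 17) (nat_lit 2),
  Rule.mk (nat_lit 10) (nat_lit 94) (Steps.fwd (nat_lit 7168) (Steps.bwd (nat_lit 6) (Steps.bwd (nat_lit 3) (Steps.bwd (nat_lit 6) (Steps.fwd (nat_lit 7168) (Steps.bwd (nat_lit 10) (Steps.bwd (nat_lit 2) Steps.nil))))))) (nat_lit 46) (nat_lit 2),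
  Rule.mk (nat_lit 6) (nat_lit 94) (Steps.bwd (nat_lit 7) (Steps.bwd (nat_lit 10) (Steps.bwd (nat_lit 3) (Steps.fwd (nat_lit 10240) (Steps.fwd (nat_lit 7168) (Steps.bwd (nat_lit 6) (Steps.bwd (nat_lit 2) Steps.nil))))))) (nat_lit 47) (nat_lit 5),
  Rule.mk (nat_lit 1) (nat_lit 94) (Steps.bwd (nat_lit 2) (Steps.bwd (nat_lit 4) (Steps.bwd (nat_lit 3) (Steps.fwd (nat_lit 5120) (Steps.bwd (nat_lit 8) (Steps.fwd (nat_lit 5120) (Steps.fwd (nat_lit 8192) Steps.nil))))))) (nat_lit 34) (nat_lit 4),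
  Rule.mk (nat_lit 5) (nat_lit 58) (Steps.bwd (nat_lit 1) (Steps.fwd (nat_lit 4096) (Steps.fwd (nat_lit 5120) (Steps.bwd (nat_lit 1) Steps.nil)))) (nat_lit 18) (nat_lit 0)]
noncomputable def R : List (List (Rule)) := [R_0, R_1, R_2, R_3, R_4, R_5, R_6, R_7, R_8, R_9, R_10, R_11, R_12, R_13, R_14]
def LW : List Word := [[], [0], [2], [3], [4], [6], [8], [10], [12], [13], [14], [0], [1], [2], [3], [4], [5], [6], [7], [8], [9], [10], [11]]
def par : Par := ⟨10, 5, 15, 25, 1023, 32767, 33554431⟩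
theorem hpar : par.ok := by decide
theorem hR0_0 : lall (R) (fun l => lall l (ruleOK Rf LW par)) = true := by decide +kernel
theorem hR0 : lall (R) (fun l => lall l (ruleOK Rf LW par)) = true := hR0_0
theorem hR : RulesOK Rf LW par R := rulesOK_of rfl hR0
def cols : List (ℕ × ℕ) := [(1024, 1), (2048, 3), (4096, 4), (5120, 5), (6144, 6), (7168, 7), (8192, 9), (10240, 10)]
theorem hcols : lall cols (colOK Rf LW par) = true := by decide +kernel
noncomputable def JS0 : List ℕ := [nat_lit 0x23200000906802c8d40088d08cc8c88c41923b23d2340608e48ec8cc0c2380172320288c40408c40923200f23205c0040080200081600700100000105400c8d404004404c8d400c1400100200b00204c00402c8b41200000f22f0448ac8a81022c00522f01201122f22c22b03c8ac0108b80508b80108ac0e22b00e01101201000e22b03400000c0000222b00c22a0308a80300340400340308a80b22900b2290288a003c8a0092280072280080000048a003002c0308a00800300200300001c8940048940300400700900800900a00401800c01401c00c050020032230100040140040300000600000888087c01,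
  nat_lit 0x92490000e00000849383702f2580042470d80180200180202a00102a0d40a0008342530010cc004000322510002420020000c494094490c904302470062400bc9040a09048fc2e00f00000f0b400c00400c2c23d0010000010ac8f48f88f00002a23c02423d23b0a49100808ec2823b02023b09c8fc0309209240408f08ec2600201100201109400000c00000c2500101501400309000800005004c230170130120010880040488f80002100000f23d0809008d41f23900723a01c01f2402392350780180040001d00100d0020700040280208f00740708dc1b,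
  nat_lit 0x3e04201400a25d25c25b1480140080143c25c00025c1440080840085000101f0010f09c00f49680044f0000011380040680ec9604d00026101e1300600e89589544b25a2592561289540000400002b0150440082541240bc01c950120000370000280000c00e80dc9a00900d84802c25204094c004000472532520002521180009609489444501d2572511100f096007006094093c9384325125000002603b2640101080940e895805894494093c4100001a0260052590230061000000140480143f25a2570040f80540800043d00000f0000f000c0083b2510010e893c00039,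
  nat_lit 0x105805405a06706906019800015c14ca3c1ec1e8a54650040020d09a00043300100019099800414c0046300005302818814c160a2c12c9989949906126604e2661640040280080006000000900100217c038130a141bca1413898c5e26705e28c06b28c04d26517499011c1209905b2630472631640281201181149889849805c04f00926203098815415c9885b2630572611689801549805900505725f1600000049801141001149800825e00200125e0149740009740300104f0570010140001580000325b25a00499c06497c5726525e15896400011414c0fc0649a45504401625c25b25a2592581509749700000fc10c9d801453,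
  nat_lit 0x307b2b12b52a22800011fc008ac01a80747e00106a0011f4000ac47c2b107f2b22b404a04927c038a2421420c204a389f49f07b04828827d1e8a1c1f89f4790020220262872880210021e000407807c0040500001e00000ca0c9e47729a00028f0f802401ca687600700600b0011d4108a640280007427500100a00b04c0009d4100432970390372920400031cc1000080040187203d05903f0011c4a4c1600f8000700012870331bc000a146e02602f27200300126e26d1b40b89c4000a3c9c09bc9b86c0002700492701ac0e812c1209bc6a26e07226e1a40009bc00c100a501780046800004d00005c9b400c008a44a741900f867,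
  nat_lit 0x3f016250108164000a58932940002b8044b001b800c922a50021dc008b2027027c264168ad89100106d063240a38000b104a2c509905529028f28e28d23ca40008b0c2a42601d00188e00108506623400020c0007d2c00a609505100828e28d230af01b40048b0000800000f0008ac0248af48a0012ae0542c122400015414c882ad09106f28921ca54a5009413414c008000862a32a2288128a1c0001380002b2a908e04728621421c118a188400008503720021ca68a148300403129629503403900420800c0dc0d400c050020352982040040cc00403000035296200a50a0077,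
  nat_lit 0x6f0962a42ac02cbc8254a8caa2a60192a42a32a4004254a94008a80000942ef09229c250058a84a80a60792ec090000294a800001a023ca40672eb2a029f28c00ca7ca789b00208d29f288a80234a785a00008d29d284a78a74010352a62a1280a90a805600c02400d00127caa408c0300009e0012a80211bc000a986e01401c2a029b29a2992982741d0a749c29b29a000017018099010218064a74008b18a6ca68a646c0000362cb26cab00dc0d41dc25825ca6c9a00029a09229a1ac18c1a4244a64992d8298297260ae4000058972ba00029a25800411016cae895,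
  nat_lit 0x1201302a30015c34408cac0bf2c20692b00b000003c04009cbe05409b2ae2ac008b64164b300100c00f010000140038020502ab0042480e0008ab0bd00202b2c7280004b28014bc0002ca2ec0d4bccaa4aa04508109e2f309c2a82a72a62e820027402caccaa8aa4aa0b900105b00d00b2e0000ba80ccb708d0cb09a2a82d8b2c1f8004b500100b00c2b62d0000b74b7cb30792a500418421ca9cb22bb0222a611004c088ae8080a94a90a8cb10072ab2ac2a92c00000ec3082442303a08304f0012bc1fcba4000ae2a32a22a100000e2f50982b4034070a90a8ca88a84a80ac,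
  nat_lit 0x2c5001344b14000d00670d00012c433c3b0c88000272c22c10010de3250c70c5338000340c04b20e32c30062f42c12c02bf334128124014004750542f2004000330b8c000018afccb0052be003046328008120b84c9000044045051300000af0378af06b05a0610dd2bb1a8004328130b5c240000c904b2d3254334ae0adc9804d04c0052b932009000400c09cc7014026002000318088b38b34004c500205c2f2280004c00094c40003002ec110b8caccac8c305e05c2e305a2b22b12b02e8ad0004c22b40000e8b2009c35416c000ac0ac4ac8c105a0580112b22b12b02af2b0b20088ac82c,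
  nat_lit 0x30cb3223210a40c900339800833032c008050010ca00100c00031829c8032d2dc1dcc241a026c004e502a327000390b7001c198264e30420470290013880a00000040949f000031045027384008b58004172d6000040bc0bc41b4010e02f83050032d337cc00008b4cde00000106900312c0041c43641d0dd000002001067370004010298008db0030a00a3368008ccc1c46f2cb0010a4364000cc06e0dd0f12d12cc2cb2ca2c93601741cccc43c4030008000d7005070005001358000b301e4d5001055056003350004000c68d331a31b31c32509509700534801423cc9401099,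
  nat_lit 0x83313d4028db0dac4a4da0bc4bc0b90030092f13d0bc444033c36033c440bc4f300110f2f03c800043832032c338430bc4f13652f02ef3c0100d402ac00cef0030ca0d135f28c00842822cee00112333f2ac000d80cf85809b2eb1dc22426cbb4b200104001c01b3b40000fc06c060ec0150140032e92f410c198c48004a80560403110003ac004c640d8bc0003192ec0cc0e0b94b90c331303a2f20362e42e32e23a8c480e40dc110b98b94b90e900304704804f3a00081c0c44e70010703102040001c0c3c8030d2e21dc0003182a0800c33332e120ccc8464b8479,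
  nat_lit 0x3161313090280002541ccca8fa0f611e0f600243400805c0601601580600540050c0000010b20cd37a11d0f442c000d2c060d890a01401505c1343550cb3044240002f013413d080ca36f11400141cc601340010600109b0e137c4140002381790433c3881441431410e62ff40cc00bfc000004000bfcc01023010150170e40e13002ff2fe404c00050058508058050c01001250e10013fc14c37c0002700433b33c33d0a60db0e33f800c150124130a4002054001368004144120fd0000541b803c050dd856cdd42d0be4fc0053380022f9318d38010cdc004fb00201201431b3e800426c2c826c1300003c0423e403cbf0004bd0f800100200c34a3dc00401c054f6,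
  nat_lit 0x2c01700131d470000004bb00211211114e3a611232346c00444444053c428430c6d1a0001103213c8454c64c6119004319001371460cf000cc60000870d939239831845cc64508c5c5734c316158004d84d881651600007d040d7c1f4cf053c4f8c4cc491500003a0390fe1d4318d98354005073751060004180082c83e8e291400135305b4100002b8060c40b014a1481371360c330d44c0000780000a00002506306506a01c01d448c6cc2c1f31636d30d444c38018c74e3c3ecc30c2cc291000530f13631c00530d30c098000c680988031a36d30c1e80940980001100131702631743c000094c590e,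
  nat_lit 0x253630003304b40083e4e38234c80010910084b0000dec100f633d02d09215832d32c4ac00ccb4004ed11838800232c00021c3dce44e54cb12a36432b158004d60d642152900008304022c54427026c420ca0c9d2803c03e0203333343b400249ce14ecc0042c0020390240204980043d03cd2500039916149016015846cc8d2300000b004ca420cc887a00000900f488c9c45cc84b5000007327484c940c8c81110010320144100000c87c02f31f31e480eacc781f3280070083ac15532d32b31e47c018ca045001c018c9cc791e0063a931e20ccb8000c7c470c7c000cb91d,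
  nat_lit 0x110060ec0380153f00e00434b4f8d100153d009004340050010340060034f0d140080213b00f0013403540000153a0050070010024e4000e643e1380f33c612f1300d80d90f333a4dc030e5cce4830000090054d80284f0ce0620d00e20e30002940003bce65353923361dcd6c0f0ce13434303e3372d4d040eccd91133901e34605003c3353343334cccfc4d413c1503bc3b0005320010eb0ea3c303503a33f4c4ccc0003a81a3cc34201a3353343333324c007c388004b200339c3a03374bc0084083792e02c3650023321c8d000acd900044b,
  nat_lit 0x35904e3561e81e80000100000307d538d584fcd500a07507b38516f1700600583545340001dc018803833fd3531e8154170df85a4e1c160d514c37c05b05c3de38605735352cd4c268e2c590598dd4d48d440f00037c1f0df01d0e2cfe8e24260d454a38819d3510300002a4478444cb0a811c352044d40d3c004da8db4114d814934e00036806812404c03c02cd3cd38d35483a209c34f51c4144602880006000010c1170a1518ebc42041c34827ce10d31453ab3ac3ad34e16ce88eb0d34590e23ae34c0b0eac410404364d2cd28d25440003e150c5400fcd74d294200f10409d09b504d4001140350003340d2401d3c,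
  nat_lit 0x3771621573ef06437500157c004dd001c1a43b8590df15e36e00037306905cdd807cdc0dbcdb8db5303ec0b63ad0002a000819cfb02e8460010650e62c80001a5004110661cc1d91c01be3a236c574e24175040db087023007023570120e002201340d44500015b0000ca040080084000df15a00101e0204b00004bc1000036e01f06938704337a564db4078018e1c078db806c0055801a00001a1444ac4d84dc0a4004db00655737707e09238500338401c558068e0c00818c4c44b810d5502c12f13006400138201a550060e0400018823c5d4dfd3200007c0003803001bc00c000db15300238505d36b5480041b8434efd51000384149540e0d00cff4d614f00100400201000001801,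
  nat_lit 0x30d90b60380981613f15980084c84ccfa4bf0010ef3d62ac000fc8fc45814437e37c5380084b4ff8fd0360011543fb26c000fccf585837a3790046707447485441cc1c8de96519b1d042f07b37c37b37a2b0669054004df0aa0001940fa0f83bc65104cdf8dec300d100300437a59036c014de52037b1dd37b3780b90000007c0011ad20b1bd13b3e213758c0005b45ac00d621af1c616d37529800104d4311f3d41231822071d937558459c5a46b0dd16018d37337226d0286340000a0004091902cc628dc4013a20f9373060e682acdc87a3973c3371024dd008cde85603c8dc0dbcdb933,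
  nat_lit 0xe00a75c8fa4e301f3910103bb45b1313d338d38c4cc0340007c00003c00e4d80ec17c000e2d710030c10c03fc12c19c3b35c00083002fc49048058ce616f3880010bf06800014c0e0623d63b30083893883873864c000801c00cee001058053200000178013af4243861e800014432d2100a00c0000f800414c030e350f0000590f1538ea8648e08b538338200000202a39939a5b8e1001c0244f4588e0ce08e056d00039c1f0e7012ce8912801c014e096c00f1f41f739301d02e3825ac0387cc7f45b50380f0e096a00400d3823d0e7061c5f10604dc534e096902539908817213614c3815a000452ce00f239b18411410e10914c38159cfece00dfcf0,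
  nat_lit 0xa247b3f60d43a33a23a15fcfc431d1340004b00216b4221425f80046b43a4200004160405a04404307c46fc1d8e7d2b00001800039f3000602d02cc0017d0020ea1013f15f00043a0305040000e91f0394238e69203a300900a4711b93a93a739a404fa05191c0fcc2c42cc0057b0010b20d844814414339d5e8e600002c5790b300600539f3993983975e000428812c970000a01b8284000e5d210024683e220c004788fc17700013d3df5d868ce50e4d190080ea0ec1000de0010025d4f7c17c36c001740030fe10013e0f60db0da5cc0083980140052900117a0a604800039c00d2c1da38e040e38810e3817,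
  nat_lit 0x3ba3b90040b94160f43c363c00cf100902e470470830d8e0023c30230b710b110415634ed8004f081a0004010ab1882d42f4068048ed8ed4ed14844418e3b651c0046682b42b18c0001990ac0aa2551246a069c59c58d150ecd8b4331911843b562863c60ced14744d1833b362511469068856cec8ec4ec1880041ba1b20b161c00c04001c040021b71a54d40046342d0a10004551382bd0fceb48300109a099078604000300fd1860bf0751b31430010063ad61462c510001843a9001500ea4000d013d18b1ad0053a760c0106b0628281820030a70b80ba6040086042a8365800010a41a75e400112069938,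
  nat_lit 0x3d51fe3ca625008414f28923d33c91dc128134004353c93c80010710703f23f35b8f20f1c0010342650210250240b40a09c0fe1023c83c73c6670f200007ad9b19815315213d058000001668004f700f4155990003db03b0006610684300dc009971fc0380013fc57c0d8000273c10000091f31bd16003565802092d2cc9c90ccf04f004300724a3fb07f3f73c23c1334244018f08f40010aa11715f1610793f565400025507cfc0aa4013c43c0650009290f009b0011eb3c01600003b51dcfbc363c03bf0042683683f4001933c000408f0920db01b3c9648efc00c23856c7385780714a00508e40d018003000002644000254000f909140b01500164023405000044,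
  nat_lit 0xc1380308c8f54f43e51241234ab1c421b3d56a403874c63464470c868f51a819305305a0f602602800169c01800001000006174490018858f40f201511e05805c4b22143d1684f3c004100109a63ce00009c08d08d1c87983bc07c0845c4005a51700003cc6900006c05b9774c93cb3ca3c0f44034038458148f34f30f2da33d71161151831801c60016880047152444e8430438f61a13cb0001c45e4710028024f34f30f2cf29a03db0163cd51cf8028427c5484910c0f319f4140990963ce628f348a0f359e40f0943cc51cf7027504929cf2cf28f24e940c4943cb164f6842924cf299d0013d93ca20c000424f28f22003cb3ca3c0f5d260f2c59,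
  nat_lit 0x3f20003ea0263f71eb1e83e86c8fc40440041a0150003e70f80003840448148d0283e66c401901134cfc8084f94f91b00414d33e75dc0fc8b0f987a03e2283e52d4fac790f91113e70133ef2252263e33e23e10780104d05692647808c8089af3e20014fcf880003a3fb1310013e06b80004b0fe0624613e900d3e13e03df3de6b4590610f8d343e13e000000501c3e83e95b8f8804c06874c754f84f80f7d1f0010a30a44270e11ea1116b00010944e01300e3df0dc000fa07c3e80240254e001500e3dd40005c0003d4981030020016ac0000547c3ec00b00154000c0351fd1f86648392b5aa002008006010004f6401402,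
  nat_lit 0x380086f413c01cd04140084f40f001d3c03c0060ec0e0014330060040e80d400dbd0330020e535c0040c5bc0340001913504140192980d1bb01d0024f50100043a4020000e51300092880c1009ba44b0011a76c419c0006b8d90110002711ac00003db90210034f1114009b80c10016dc0c8000d111700201a01d6d91fc004fe5b540746b0000b00100083f5b400141441316000004c4e1760120000bc00004c00cfac0b88f87b0fd5b3,
  nat_lit 0x4ee0001f61f5738000010950a588f13b13b5cd09b00114b7300300000149b0320600021347d4084090005cb24005d0000977291507d07b827c27801416dc94e20041b80041841048d47200143405842b0090067203ec0010d00d9c70024744750110c40043cdb40000f50043c08c48d029c22c02811dc644a0090444847140bc014340200043080c000c3b02e0020cd0540043a4130000e531021d10c0080adc444100102a41270c288008000005c203909600207e7040e0254005181c009e09400007c6fc0503c03bca153b84fc241be05400a0d107802433,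
  nat_lit 0x4c317750e01e7709c4970061db0000e5056769209178005b90470014f51180003345b0be00c04576545488c00092000252138304300001439d800149711c48400125d43dd74940030bf50c7584540082f942dd50be0007504440051b9d346e0003404382bc0011b4cf46d23d23727f2462430017480f00009c0a70015336d00300007726050828351d51024400a745194019b80ad0055002bc011b70ad003191374011b81050035007e0009b74ef0010a8740550001cf,
  nat_lit 0x1146300256f27c0055b80411887156d00f46100012d5b4c18b84001e50002e22e04b08f546cd495c0c3c03d179e400b00427755830b31000e78c00c0bd2c5e200400128656a2d32d4007785564c24c20a2c05c00800de001c0010025e40b8001165df00327827929318c01001a35c008b4001c019160012cb0025c8000005432cd00400145437cb31159151202fc3015500015f8004c05150120002fd54e3d5149144100c30450e63d80004bc0cc7d05d15e0007781500fc674980c502a0de2c80080383384c00051b00e2737740245d4009315265190081740011d4841308001b9,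
  nat_lit 0x1033032011090000034031f258032947b2102cc1d83dc4606ecae8009f10372b70010f000400c0486d87194051e5f000200d4dc2b41340040313645652d00000c1ad3551e4084c95624a706c91d5ef00147a02300209000001c014ff32231e473048008c90bc008d0500131d5822340015cc7c3234714707b95c00880840002200001f474080c6d1b8104cd1511a10002fc00415ca10a214e14e4689ed0000ac0504a52445552c57b02ac2b0001ab0010190073163202e328c7ac0000680406201a29a29828903303d4687a801c0052ed4e0000050007a52e80000255c9e800800100879c529590b9cba801400400de6,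
  nat_lit 0x11d41d88040001f55b47d1d005e2d32cb00c00f49580015c170000da0010641d351f51e1d41d07fc0015c816016558ca9d555fe2c82c749204823822c95c9a8ab01bc001fd0002b52ecc392452412000005e07655108a09909d7f0b0d23c102db30b2ad0002d800005805c620010030521211204d248d7ec00815d5a0175fa0011c204f51248c0015ac9e04c05403759058c2c011d48909800400c0e56387100203858d00012c0040dc0cd631f90000370160177e00e0c1ccd0cd4cd89b1215f74880070030111c800804121c019f600f4860050010b8010000039215f548332d48105c5580003981202801400100201e4d901f7d007136009c04c000004075f3,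
  nat_lit 0x103b0394bf3673461b983928c0000e81a03e05c0134b04a44a34a2834034128130db41301252920c4ab00200329c0034a74a682c02c1201100d129529128ccd00002f0470468292d4a60000840004b450c0b00dc0c928a090540064a20300006786b6080520294a144542928c000880004a204d4a281c00570127c9b00002549f16012d27c014a200756d35b28c4a34a249f819288a2cd696f413813c00605180046000060000124135860485ba56900349e49d49c811454d300043c285000004000a10d252256528449b02927cb4926c5749c49a158744740210220b60b41266030051d449951ca34a44b441ac17948c00202,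
  nat_lit 0x190010028613341a9378e1d3793292ec5d4c008b08e35808e06a4bd85d31c1581992f05b4c60654bb16530819d2e9890004ba0022105b209709985931c1901881412e12dd2d9880030af1b80c63a00093641ae150010af4cd1600002ac0107e4c24b41e80014a4010f50064b352a5b01881875218500152c94a48cc601461466135652c35ed5a62e33070038485f48bc8b4960b88c180095f53c17e5195c10014af5258440081c934019cb40010650612cc0013381953507b0704ab4e12e00f00fd2ad8a4bf0734aa66d2d80f52a5474b44ca4a86252dc06818c19819c0652dd2a2100000162ec06400929e084a74a60034bf58101b4b65240080f00e812c0cc0d52ba0f,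
  nat_lit 0x20230220023840053793fd241d30004dc0f80014a4589760050114db28949c011351940614fc0010f82400007c00212f10b10d1dc22e08c89800446037c4962500000652389145454400533a2320112d51c00072d33133400053c3051200215508f1550020038884fc00547e211110001521281ac7ac99462c6240040022012512100021131d3180113b97fcc488a18f0034ec06307a09409809787c0093ac1881e8e74e70c7e1e4c30014ea0680001e80102d07a0924ea0704c34c24c11853380b130d474eb00004d09009708b4ec8753780013aa1c4e900009436035f5f64de86d3280052fc0a21a0274c90004be86400406800801460,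
  nat_lit 0x21f0001f53d80813f00007ba321e101404480413826c0008400004d50c11d59000551e3100001e0308c000559d588f55661c30011ea56d30730b1ce8bc76157400085c0400645f22e1e856b23121758600f0038b40587ac00556e2c2120001d58ad5940180556162a55856400507558558800d584305620010548053d8011b80500036dc0100083203000119139c021b855b0070228a40a4019b70260050c93c4015b80290040e812000db70260020c93b0004391c60000218a15c55c800000c08e27,
  nat_lit 0x3c46432385185175165158fd6181383d54e55234634435630e3100008f9688000778a88d50c34c3e3d5580024f45b0005d45540014fc6480015523c55d2a00465528ed5a46a00309800056129b0dc65469d5a4011741aa56b0030dc0002b0001e95655690000301c40113d5150030e81ac008390690013401b800c345600025108e81a8006390680003406708a80001aa380a70285990008dd66009d4a0f794a009c01a3600058524022759601f5048d47ac7b4800009291f61f31fe0018d17e16000011950a01100e0008cc7ec0047dca0,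
  nat_lit 0xd53253126d508264000050054958922460145350000755015400014d2450110000ad444000935714a124d3370000dc0014b00042c24400300054c54990c2bd98d4ade9001000001618008fc4008b30013f1528010000f4d5dc585265250058008740082821b00009b5b490805c009bd57f0013455fc000d05a031431524023b5b400057e9056d400000c8b52224264d3f13d02435220008196cd6c4000920005af1388c490547c370470990044180102e42e1504c98c8d8120f5190014fd4640003a52f0b60015176b800039025640,
  nat_lit 0x3b055000944000d6c99c7c61835b3de3dd3ad29829a5492c401401d5248d0005a13c926826b5e601d9400085901054823523229119400300593c6480080180fa4e58a00100593400150c7c00212c19a1a016a1691a893063cbb0c01960f0cd8d5092759e2f963754192c0cc885500a259736053f0b00000a812a2402a34d3d06672f653d53c928070d54d50df4b60b414f64901b3546312f45a453e53d33464c76c77007807c0080284328923701e00111497407c0015c53b0025d16240009b8d501226e25d25a003568950c9896000a4855700b001538b4495400150000257406257370958d000054d1085560b90000a00000300242ea47,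
  nat_lit 0x20191b932400405d89230000015268540060a8d57e400053c53c8390389682620964010a7983c5f40500301400d39c009a247913500135718a20000069c013531a5559651578ac98f4d78d757a55695665255c0000188056e0f8105915d77c93c016585b323723800492c3a0db49e97d57d80040125703f5f50001a40108dcbe0e74dd0dcd7d6560032331f85bd2fd5500088cc8800114e1380cd5fc09009587cb1000e555cf00255095052c8b80046f00334528b28f2f535063b7ac00856882c8300119514994d52c000d081a68c62c2a154d54c54b54a6b58c0c098850551598dd8c95365203c00300121036835c15400634,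
  nat_lit 0x28a61432d33066800100202a9a0b7caf825caf8b7c00163a6700002800406706905d05199800400c010028cb0020300335c80041981312c01601c02e00199400001800c01e6400143858c98c00176c6e4375da0026e5760004008de00020b06861c2a306800b5739895c801986ca88018028828826615710090662a665a2cf57b63d5d40053f5750000e9748818018008a759889e55d26056d0052982a697c010a5ca956157400306061406800818c1852500161161249000016c9d12e05c29d02356e56f5685679785e08a0001de00131c15b31c974000a8584c372251773b93b83b72875659705900443e40065b21307600039000c0541243de5a,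
  nat_lit 0x1350b1080b2165c1000216f16e1819d01702705445404943e800dea0005e11210022a17803dc4800067362a0ce0006500045f058d7117e00017a1580445ed6401035235967b4694a768c36f5909c9940d51a0d1892a0e69945642711b42e00003fc00099863099a5d2de1a74083e63a21ac58e7dc004224908294089644026700000730621f89bd6980300008d0005f11f01e400562a0805d00004000014016e6e5f442a46a6e96172860039b478cb80a040085b2820015859b00e4a0c0018900003827d9ad63162c100df0b2561d60d60a6a0000880343fc7ac154198055cb06404502d00c54803c0019d0e24cb98dcb7800a69,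
  nat_lit 0x3230030d0dec0154000a0048e5a6000cd037700331f9e403c0093c6940010cce4400408a7a5b20006929e0028e94029a756c67b38e0093a38ad9c000c3a31b0020e4c64005d431a0020d0e7800806e7a5ab0010cc1ac004c5e795b80005a99e0c5c000e6d6de7709a005002625a140040002f5b902c5b30027e5a40c1c004281311330bd25a59f0021319d80044c825caca75000131096097860b38b356701200061a1b8aa835c001e200218018418200a0050081200044b02d818529,
  nat_lit 0x5d15d0004a40344340a38a500e80068903803e0003fc00800c02cb00fad1200e6880010e1275292a1c0004a4c8e860a02330790783143025cca1427c9b0901898af437000e840005cb1f0008ae0addaa9c4519c9f6835c90012b72b637d3e33e56b4000ad8362820dd0005c8a04008358378b30012b30db0117140007727d27b47f4ae490634002a000fc104004ae04b6310001a570570000855cc1cc1098a7f0010bc2d70bb5880005580940925d1543042f227c5bf5be5bd92976400c7c5d6698000164009760274fc8fc0db8d8a7e00109b2770869bc000260115f20a23e02ec5ba2142c40716e89d43602ccb3e7d00f0000018ada9c050ebc0427c,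
  nat_lit 0x135ef1d01bf1b85e95e8a5805c00d7a47247207357c2950010025ef1cc1c71c85e8a505cc058004002930010130120013a00000457ac035e95e41dce2ce34e3cb18004000e2e9234b234000210009840530719cd51a4b19590000011491a71a51a35e1a44000504a4450a9060d1491c21dd1fa1a55dfa3c16177c9c0111b362f4de62f0595de2e84c577c9c5dd00016080457c5845744544cc4e80028e0002e06b889001c0306b86b069d76d76a8d00115967a1175083903a97699b1c41cd5d9284001764005766070077295d726c00057c574000cc00218615da099c105905d14503103c00a8c2d33843aa44f40b40e001a2d0f400174e8a0011cb1e939c00075055880,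
  nat_lit 0x21b60300520924524d9985e9960002a40022891c765712c0049149f85baa300028a1641613bca159cca7ca792091d17fea200042b247181a850b51812547787847b0006a067624572e5227796ba000a7c0087a87b91f5cc948dae69e0016b633864e1f8000881cb47d1e71eb47b46d33422f5f9a758ec3843880029c5f80020001a36430f810ca6d9099100001d0000f218a90042c42843870470d8f042d7d50101a13c01a000a68004088014028240000210040052557e876d9314099307717ca0b2fc38d49164412f001009a644bc0000204d2985f0000176a5c7841a180133d8001b97c1ac5f41c01c55ef62809445d7ba811111bf5ed1697c47097b1475ee0695eb0b04617a86e,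
  nat_lit 0x2dc6a77132812840e661eac40ac0240014765b13710d006ac000cb44b560100000761d31f13f066062a901c04d842800875620027109001abca48404000476170014fd85c0003a10513106b001616ab80001a84c00898205b28f0002f184d848009cbc98da14a4aad00172f6d15dc000d5db364000d00600745843f61161060fab00008e805c062ab7462b60012600111f90e8c40c34f4cb2aaa00347d4397267664c8685aa400802800ea80012251d794c0011e8004f24a32b960a464000a58f18fb113113d1e2a724e25b0002dc01136d410d60d5909095ea60034da5234a67352e425ba9400912d1c51f4bf00149171f26c001271d08a1,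
  nat_lit 0x17010e006234004ae8c34c520a00300002a2c8ae43643c450412c09c00abd48266e13814104a026001af1c00238098002bb004003007284029021022ae801893cb14a80a799703fab900200100528d2886aa2b7ae0010698d18f462e0014fd8b80003a12024a00162cadc000ad0b862b2b62bd6bb41741c62c62b62aad82982a4eb98b0e27033b062b0a000431030812000113041add3b4e004a59784818a07b0006b42e7201ad1ad589c7a0000a36416400841f58f0000b70022e72e06aa6ab07a63cad40042f02f4a98a8c52cbf6b40002e52e7201abd88877110111000444008b7daa8c8cc901b81a4522b30012de18f04c7e800063596862eb2,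
  nat_lit 0x47091ec1a4b2800c69469c6a84500200600b068004689ad9250001ea09143800d941c2ce0910506cda993ac900016a3873de37f1a837fb205d05c8002c764c00138d1b92f4000c70674f919537e001000b180003699b94f59b836992ac51a26490006bb5696bb000b1035c360685922c31a47021a0647b0818c1f5919b118a18c4db377700645644b0439443842c00ac02a029e001afc431afc0007900467c67b13d1580f40f1af800cc80c64b182400231f31811b2540059e43a4e400009e0a32ddb75c40e5d0d4d44d398f5450036f71980032d0009bd41c61500136831420000065c013696d86391e8001b60c599c59c04c84c5ff,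
  nat_lit 0x46a615a3e33e403103069dacc00c554a84e16d60026a414f3052f800454ca84528dc000155149131a84555f31cbce944699a6d566e0270010f8011cbc8348314413b1cd8ed6d400372e20c20872001c019b4c009cb482c819c99c94e62d20012722743d0001b15b05e272b6b52074e64fc73172d663818010289a002942b42c4012d10032062040032d0009ac8874ee0010ae6802000008100120175265e1e9c5c27c27400ed00034343d43cd73c1c51cf6f8b3c0090ccf4cf992e92f8e06ce0016ef04620c0012dcddc627b77133787361ac6f5659b3401403c02d968dd01f1cd2cc048053001004010004000b2c00c0486e06c99300200f38a804004031cd4c40006561f1959c44e21eddce0f8d94d1d,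
  nat_lit 0x44d27e253c54f55070db89a1c0053f6870000e86fd33c005a16e10007b569d189338398394d505fda11a0ee0060706321360486694001b7c00c1c01c870ede0020e031305f4a8004394e66300000de31d4d83813659fc6200439c39e4823e43e675eb7400cfedcdc388b40027847552ac005149afc580001fe00515d9ed9e9940013473647253a0000d1cd39357116781dc02046c638002dc0061882436de3b00141000f8492db00417d14514ab6800c5ec6081a0021836d7b1c005ad86012400017747e4385dcf50575aa401c0059c2d900018d18e114b606286306000e00c5a78002d7,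
  nat_lit 0x4586a404035401c00001c8148109e6ee00129100179c001c306e7090620005dc010f71d848107d87d018aed00376824624b45000833c004a00012030eb2f00007fcbb1fd3cb7ab5030f300769b038000004a48004850050eb0ea005bb00103b8dd4ddaeb0030f0242048600009b043aaea0010ef2bc5380003a5d664d0eb4f86940280013d09ade71e819a0000600145c0b3cd783c823c24ae900417030e30b7d60a20a0ba000db30c0ccfee700216b78b2340045b9f0c7d0006a41f05a5e15fbd4f50dd0d9a32e60b30010000b3b95bd86986e8fb8730024006e46e800800028001534df8d17517922da2ee3,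
  nat_lit 0x22b020001bd80083403457200130a7340440020554330779e60881732144b6bb790001e50a38fd797327000060010679bf0cfa065078c92f50032fc3511c0450008694a26010012f731fbd000026c7c74035b39a53d1f60346b4528004788688690468498006f300079627b4d47ce029ac87a0006b25693c13c072e001bc8010ddcdd88ec908c2096ad10034644632b528c00835db4a1500141078d4d4000ed8b94a18036ac1dca20020001de00147c0ef006124001269f2c3743c3a92f831e46545a6a980c010a48a50b84a3c00000af10032e02ea2cf2d223e71dbc0009b182f5f78e78bd4cc2ef0012a56fd0c45f8000a41b3011,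
  nat_lit 0x24045f23845f42f431000bf9b6000148ca047f42d4212507b024d001bf44240006e6d40017442200007a4012340016d148800cc95228ae8ad8aedb5efc0023227b73d0004c8039a6b6cd00032206a0b5b58039b3db39b35b313015d001004364abcfa1b380044b00002a7f5495b50cbdc34006f7002020001048004085c2cf500001d040088e54d8df30cc0f31b22fb00023926d3fc8e091912d1bd1a87e8006fa42304b0007a400005c016c901d6c403000005411d4e6c70f06c32d400004c4e2f96c53cf6c2024451b0800840af816f7cb6c100012dc0908dcdc00af7,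
  nat_lit 0x1840eec20610005bc5bc0c500149c22d23f1ad1af1c8c1c0014645e4642ab51901c000261bb5bb000c0f5bf00d1bd5490020380377363557da6efa0c0040e11dde26e90000360680e8085bb9bbdba9ba5ba14802404f4ea001319f1139c000280037d538938a1da1dc3edc18008cf80d80d11600111a0002c80004714333b03302e6e437c004769cdc7703d43f4007052b720e1f10000d80040543ecc90000137ca75c054cd9b824071430d003c10008644635dbc264004003036de2b5096000c080080100d1ba0444431d1c257010010042baaa00000110e6536de01d6e549a28c7442b26dac01b80435265f98c80cbc032ff0016f108c854000ad04e,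
  nat_lit 0x24e0030007c2a847b894093400ad600501a1b10015800814e4664003127087070021ab97dc180046aa12b1100019801400b2d930804c0f486c0f402800710013009000703c3c01008c0801241a9fddc1b0e00302201f04713b1407175bc0081d5159e26ff00102006800015006e2b78803b7097006ff6fe6fd6b4128178088006af04b0360240005900091ac0888100126b0332000001484e7e946f6fb030001c7c3644fc5845885430d0d0246000c300000ac4e4837006ff0323453472ad1086f8ab000d2c4000b70220004af6ac6247154820e948800c0019602925d761265455521002c2c6585fd47c0070a7144a70000a1bc800461a0a309,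
  nat_lit 0x7260014fdc980003a73a0900017246b8000e6cb8a4088a1981952f47247237226800040182d02b42440140071a00000200400142e19a2450b2130760013b05d81d8000370034ec16073302e03d074c64008b74b7822ed80012177522800020d87c4e91dd71b540000190629500661a3000c1000c0903d46931800271e7962887e80040883d1e2ab2000008005c5dc6c015c65c88151370da9c57160080e31b800013c7c0007150093900107907607589a06681871500326219b0602fc008554544a200174a046854000064011df7c400125055000570fc50a38a71285330674011c3713,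
  nat_lit 0x740000749069e6c08807807dd05d01cfda00012df07d200000a584e7b900374089016c764150000ef004031041052c9000c2501081172300202b02a6d40042445892400007c06a43800000dd3000b2202702507b002c840b9d04005cdb20749000735736c440187a001800197076028001261cf00001f00419019201c02273e028c7c00c2bc2c6210027bb7b95ddcb8004635790003197b6900c0468869514ccadcb9cb5cb11f0004ec10d03dc793ac4303b00071d2660ef0000a0014010001d531c4991921932f62f80f5000c6c0182542585b85a0badd4c1b00576773f20c010e6c31653,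
  nat_lit 0x216a28b17a2d000457c868ab0001622c9200581d680100205405500270800415c0c9d700002b75d8200a80b8001d5f2c00106876d1a37750b10c5cadd540001942c0eb0640ae0f2002911f60005d4e540927e60007a40040b0cb4830000290691880c40c00d0f32145d99d41d3d6d00612a12b84e2d80144a013a2430f7cc0012b8284b5c0026e00151606e75f08f16c7c9ca800219d2f06f05005400374bca60bc009d29d26430692520006780049d49a49bc8748688af280002c32c42d2180b84b7c0009874574400420f1c01bd31cc9c00dd300b0298e80e88c232600274b02b0a451830a7c2c94004231639e2,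
  nat_lit 0x55e48d55e1263004779ccc0113c21c80e3320035e108278912c009782330202870010bc03d004cc400177096a868cf0bb02777365c115e480e80eca580ec0073001b01d0001a4008928934a7c2ede3c10df40017e521a096cbc00095c258da2555af76e0a0654658000b700529c29b29d2971201216a8010a6c91c584590a611aefb00317a17022b2a80085e05b6150012991884d4000a68480807d97671dc4186e4000270065815835b14fe4fc2af6a80156014853089088f4ac32e0045658987d628c00de84024e70028a57d12ac00529c7d08000010c005635d81d7d942a300004000c58c5545448bc8cd15b2d,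
  nat_lit 0x153e1afcf00003fb3b1f34ef79235401413226c5e33a00404b0f108b3e800c1605a45ab3900205a0ea3c0004124949d700005408a540154929e302c0002301ab1afce08bc8b8ad0ac8bb812000b3701127304c04f36a045001cd81ec148002bf00200f500046b5800402e14c9fdfa0007880963540313e4b81e14a80187a00a97a6089088001cd4dc4000560043072ba2ae2bb1d91d844c00d3f40fde2c4b0024fc87d043a1c0055345b8538e30004f5277a1954a358229df8360180120007b80093bc9d211f340012672681948cc0013c61da245e389e08877a2a80a00007c,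
  nat_lit 0x1701490c7acd180555b00002c00113610a3bacc8001eac004060db2590a02597a9ce800c848d0484745002026024d1000428428e30000800213540270951e94a17f387f000afc00889c4442742896291574300189e18618a6300008b4880945032185fe7a600f1c57a1d08880e00004ae00135f4741f4cf80012c4f2d530ef4fb4ff2147a200500379ed0400cd60d85a0162956800c5d8d500279d9b00080308282434000179e4fb21ccfc000025f204c79c5c779a7990b9e7c2d00059b0061070000b00056e2350e873e0004f832b891768825769e5b3a49d1027c18cc5945ee796cf400440474c744e7040800617,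
  nat_lit 0x328215815715c4ac1f4d39f100089fd7f146d464e474d00192192203ad300004a841b082857c37c27c1d2c0000a86e21a69c58502d0167c67c1d29f18a11f00691d536e3c53c63c454b000d240084d0b495ccb40010960862cc001f782f48111f7bc00479d2b16c1a98e1ce2401b481e63db00526d330df40009b00081e3879ac888001ee1df0021b61bc22ded8004d4c4a000351cec8882c02bd7a407ded5ed34700020e0192ad260984004830111dd0003c80080cdef431814c1607704800121d8af5c8002035430a90a801801b0251a47af2b0009edd789ed5f60010238cf6d400008447d38,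
  nat_lit 0x5bf8690dd712518485f78360000308caba9f9c0f40001700029e7e99b8a91f89f8400b5600e0177df001d561cc064000287d90010c9f5c001d47dc01c0027d6d5006050a04000cdb265528002afc0d14a00047960f8d5000d4c0041114904a000005001540108aec4e9f59f45f41f3f520221d200136873c0006e0017de60e5fd03c03d81fd44000008004a00260290491fc8260027cdd41f54a28a484d0ad40f00034f0022212242b31332927da3f80052c87ec9000001ccec878884ac04c1f31f25f23131bd52f00066c000080ebd0602103f1f5001758034001f19f2,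
  nat_lit 0x1f25748137fa7f97f87f7d849e89f01ac008c3237067001d108c20300004a0021ee906069d800047c4a2c010490001ef2390dc7b55b60301d657601dfd35f0280230014640095a86401775e0011e81ec2865880015a2510375689580577f06740680ccf000075d50d50e00001000407806c0cc4fc9614035c00001d0200272bd8c2009fb09815c13713d1811800f1001d6c3a40007c00458617117417082c0ead6800d7360f41b75900238a3ab0bd8cc0055e0e283ac490005c9641a1971cba21d9f94aa0888120fc81410111d001d604640007c00458114b0d30d2812100d5c00d708aec1a6440021e71c70788cc00571436436225,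
  nat_lit 0x2a76237278da3f606f005db006c060260268a541c40136b06a827003813da89401a609800b3a014825001811da42360940002780e0038282d765808e824d880081f4f016318bd598a876800108028f3be09000204806df282482305c81a80c80b80a9b40880900260336700400802376c30c00000d7900200081401e01f8f80c0d981589d412c010d486381b049003b5801c10204800a8796b01e01d001c293c411c000d58050010ca00c001d4040000802d9400411e03c1389b00ec0f76400005b1a31a4d8c14c8e8005ffa0a08408300009c0107dd5e59719c606420b620031fb85022c0087d81546f7f90011f83640007db3b,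
  nat_lit 0x438139e39f8d33460ceddc00c3e03d8974aa0023208aa288004c6cc621500037c2dc00a31a0b0770790001f000c0900100190281e60fb7600591741f1a91a52f8065dd40115148183d0032740341d800a45410c6f00151502676800100c6e9114191a319f056059824dd0af8b300026e00519f1a141790f5113ffdcc01067a1aa4c998566c26b720031771796600140082c82cce700119a09220400066c1d80219781d1de07402c0af7183805305408a822016001dc000820c21829896004c05f6f00105604e82c4580040080782720d80b00376e05404c000819db4008ab418c0400125f02026e0580006fef9,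
  nat_lit 0x98384c1dc0042a21d43bc3e08c55ff810000a504005e130000b70048590d869c61798a00de0000c09409c05e1a00206705c25c0041941e8fd000066cec19da2031c314b402c61137f8670b208c8590870a7002df8026308b200052f2572c800015c00c0982e238e2a89b4b137d00202368307f7740040902d657cbe00002588bc5c08171016a0f4870000982cd97bdf025c36437439c2201dc1e400b7b0538480014d01d81dc000b583900002683c010074076de80a0b4800281004418928415de400e2608e80bb340024826030b6cc400559c050064e3000010836c2159d7fcd70d798360ce0cb780cb001040014e08eece42334e38852a6,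
  nat_lit 0x35865d8db8680b803185510058849c02c007861d400900009c014470489c0597a6c002b8500414a14022c00e2644fc900021431adc30004518771da000144cec458471bed96105c5ca1838414d1980001880102243e86f870468845845eb30030880f91e59142621cce0c00822d9522344d0010860f426e2f80021be400d508865209085a1d40b40b00026e0063293c18c92a058d58f6a8014ca0f2cf4c91892042b820043231231273a000c30c2928100229f2a4204004c880b4030008de007008c7e1487723112400009c01183583a626628a2449ef30032312308d82a800800c02e8100158258301000164cc0535,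
  nat_lit 0x501042c2bbe4401003802c030cb0030110c3d1000804d141210010114e88c000002814dee00f4e74f64d848b04b87fe408d50644100069c0798a700089001411c1a83f0d443bc3bb8f00403f8a70f208c06e06fe3800c11143a34077877e67a9600203e88304de340062041ecf500003e50c0f0a461dcb70790f70002dc0151c080881184584d6ff8c00446f48448623c23e099e2c00d11912000cb400244f0ada040051196ec0300092913912cc5e1c02f0002ca2cd3ea9683083100011100535b0eb08e87402f0fd0e5e28010d683aa20021969494b890033590e90eb977327022e20008d6d9847078700135791138497c00041c40f17,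
  nat_lit 0x23142bc054018044af0000a6]
theorem S0_c : blocks (facts 10 5 15 25 1023 32767 33554431 12 4095 10 1023 A R 32) 32 JS0 800 = true := by decide +kernel
theorem S0 : On (Step.{u} Rf LW par A) 800 3008 :=
  steps_of_blocks hpar hR S0_c (by decide +kernel)
theorem D0_c : allB (defOK 10 15 25 1023 33554431 795 A K) 5 2 = true := by decide +kernel
theorem D0 : On (fun r => defOK par.W par.WL par.E par.mW par.mE 795 A K r = true) 256 896 :=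
  On.of_allB D0_c
noncomputable def JW0 : List ℕ := [nat_lit 0x84fcf6a13950283bcf62141049a84547e01f05082b414a60105567a405a01d014808404a4e8ec68654232199577a8b433a23f0c8746bf46153027aaec3761c955885bbf7aaad0d7870d56dfb30deabdc49221356c855c316a8d12288054b222b110878c482af3118822d20a1e50ea87843b21ed0f5ab7c41a2110bd83ed50208510a881d40222910e88bc44a23511984f542a2190e888b43baae10f4abec416251576aae556a24d12aabd44fa27313a89a44daac513cab755fa27113289744c2ae512cabe56022811428a2451a29114a,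
  nat_lit 0x5e8d3d5face667eabc01e0546287cc38eac956da75422e0130da9fa5525f8efb0855425ea8954285b55569f109384cc31288d0b8880d2e2acd56984dc2be1f50fda9341d1ff107282bc1c26090697b554aa0cb06e83541b2620ffca405495d7f05c82c416a5f90549763b21d7cec47603b09320ec787c42eaacb0bca4a3f8207d0d899854bdf78f1883e3fae9f94fa843423aa7cfe57f6d50673908882226ca08d51b7e1b3a608304888152a2acf0e77f7c2061ff0fca7f54a60c906682cc1894430687a53ff9ff2ffa7fa3fd94c6ffd,
  nat_lit 0xa84c0319e6cf1669b35e4e4eba440c9593d49e6511d416014a4844fa2713f29f450c285542f2d867ab3d99e52b23df1e911569af4d510d148ca423a24c25494a493a31d30e9e7483a29d28ea47518424246a7f09283f422a7350827463291d133fa2210b35d1746da343a61d26e957473a459bee979d651c1f9aee17e5bb89ec54eda353eae15101d78440b214f54aa1f3bb2041026a8bc0d20710367ed3f8e9f2fe47e93f857b2fdc7edc352aaf0d6856433dcc30c6a373f3a14b5528704372a9955973c5245de8ef9784b9a9e0cefe,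
  nat_lit 0x976a6c13692ea3efa14d1469ae81d4aaa07951a7674a9aa3b0029aa48f1b82e0c7e153c29e6fbf41594d907083b9eab3a19cace785851fa1650e6791be2e17f0b4318a9e1e4aed37f73d81f80f796c3b0f9f1af867b2c202a73018a7fbfc9ecef4979abd0d3a6ff152a49914b4a52502d412a0ea6849601b26069f050ea85143ea1b7a5bd41e9ad785c4bac121ef4f52c93814b6a5052ea7bd4c130b49b012261a93a52e26314bca1a8001e560095037ceb36e00f003683cdca7d8dca83b54d2a6efc44359eb27a4ce16774f659d8ce6,
  nat_lit 0x7b5bdb1eccc20566bda5254f4e51a95894c8a4c533cc214d4a6949c966e6189345331d2e61ca2451f28e948ea4450e5482a469ec453a2c53f09f2502280540675096e13253d69e84c7a7ba5f69ed39e16e8e9c93c4c726353252d9998ae2971d32c5c42b3970cb157793bdddeaef8785bc05e18eff99a3be9f76fa183dbc45ef75315cebbf5f7af0f7f33e91e675309953c5de24f19a4abc6a924f1c582bfa1f754f67f63faa9354fb7232b81c96e4c721cfaa8aee4463895098fcbd2640b13d904c7aa40baf136a84e402a0f8ffeebb,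
  nat_lit 0x98e3ea5f474f77e9bc6e8ecf1d71639b5cd0e67732b9adcc54639fab531a8f2262c6070d97ad4b9f7377dbc4ddd6ec50ad06eddaa2a37821490297ea407e14754b9f83f21f8cee77d63ba9eb74ec9cc3ec9dc8fb1a75bed29d0fb69fe4251f9953c84c425a95d54373cac1dceee7273ad1928cee7a716ad8dc54c74709b4cdc5d362858d3621675687dcd34aad70b565fcf19ea6f2684d3dda0f34b66c5b5fdf10f8e7be42baa9f019a93c181e98f817aebe465ecff052b293d4caa4050cd4860bd30a498a40a6049f6511280144ca25,
  nat_lit 0xa1754ee036e1c7e550a9ae8e226821b2a7dad1269ace29a72d3a9e02a59eacf397b23d85a6d4b7a35b269d1146037d0f29d0ce3b9d5539dd24ddc7d6b87d9c6ddba2640be05502873240b604950da1fb3e5c007170b2c699c0d43ca185165c4ce4f72bb941beae559f0394ddcaee66ecbb8ddb5484a2f388604301c785407a04550c779ae31cece4d74dd38df5ce7ba37b511c82e35222c6d9c7d46ca295455bc6e947f3b9459d4e96705bbc6057553856c0d6a1d0375e82d357a8bd35eeaf597b53635e73e9df44fa072b3e95e294db,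
  nat_lit 0x82496cb6c66534e19984b467d64a1a6e74722c2cca37991ac93637c0c5dd153d83fbed697cfb77242aa9c94e737b7d446064e456381dc58ecc7563cb1c98f8c7b38e8cb4e433fb1fa0f3daaa6fe21c910087b1f72218c648143440da8b0c58e2c58da8b305822c9a2ab4f9c814502048ff9c7ae3aa34ba1192c7813c40af4a70e3698939bde26f0e747bc41d574daa1d5546034e4e83d3a42868e542d2ac95a14e7073fd195d04e813d421c27a6ce066cb3699b88339d6b27d94d3a84628ca9946ca0a163bbddd2ee07123baddb9485,
  nat_lit 0x39e9ce4e7e3023630b80e847414400d190f265c3fe20850ee87f35549849a06b03359abcb106ac1b51a30d0c68b3421a2036e42d44f4dc26d48a02e0949114874068323ca7c68f447b23e1a06c8b9b4af88cf206a03122683065b8436a1c90dd2b33b19e98dc68499439f04b4f27e3df9ee8f8a7c63cc1e4cf372803c61e9650679196e963d0f087a4319bb532e9984532fa26d726c5f2af9d1588024d590f93592e7249122934c87e65528da75e96a339a5992be6ad21c10de3de43321710c013042c3a3ca64e7c2f44021bd1000803,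
  nat_lit 0x4b84b1cd689724a2a5b864a974907937c9c920c26b13609ba4db49b879e5ea64432427393a290d2c22388b3b3a4472239a74e8e8022811c08603d02080f809604c5d74d2cf34bb03732eb0ece85a9b42fc0d90beb5efafbcbe4bed2b8c869ba4dcb7ce537a9c2edf6481cedc22e0e9ea53c69dcfc53d49eacf612813bd1e9cef252e5decd61b9edcc677d4d6a64fbe3fcac81cf8e717965442a26d0e4364f5d0decf028c2eb45fc84a0614f2578651c6692f9a4e126e4354f44f62bb15f23358f7a82c51f955135a84239bcf2d9a8999,
  nat_lit 0x6d93659f12f87a66be29c52f846059fca718c4c69a2f5daed40d9c1529d83cf48559bd1cc86f44505d25d41cab179a33095389da6c55295b06f416603d09b20f3e52baaba60cab05595275e78ab452aaa4951ca7b4e6d2c5ebca3235e9b009ca6b134e9ab8d706bf35d4988d6a68a3411ac85145604844b0520e8f54a223e51b88e903481ba2a206b03181980c004da07b635b30d795b430d924cc22759bae1d6ac30565bac5864eb751a28ae60ea1351728a1462a33496873e5692b7489a45922290c52c52ed51e9e57b9359d504ab5,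
  nat_lit 0x90b46f1c2ce0d767d222916eca4154a94a7684037ca0fcb6082d4d221325ca84f17621405dc84b29994d4a7521d29514b4a6252f29920d107283a417ca9d0608323fb2c89cfad097aa538a9cae807ca5355f2cf4055dbd19a30f9831818b4c5e4ec312188cc4f2473199900c5c63d31b98ecc6863f4eec9213c0a7a4e0501dae4a0931918a9e48e9c7213b51ba349836a29fdd42ed27913c7dd9af215d22831e5d4c77bebdddb74f786c35345882f924ecbe41b10f3f61eb0b9880c3157cb0dd876c3961e3091f18f8f7bad34dcb2f85,
  nat_lit 0x5822c21614b0c5875302986b146922b19ab74005809f2a806d5c5fd2b217fd3765652b3e6f2bfc9432da9a16d08686cfada20d0f3bb9f9ca8d2903ed1f725267732a09524a8e54a295951643e53d9a84569b9cc43640509a852db86032a1e71ac4d629b1398aac514d2a0f65c92eb41314b12f88483e61fa151731b3ef1fbc932a8542b21710b2841411a144ed485b42a4aa10b121c3f5a148a7e7909aa89596b0b5a5ba275162335291d4d5c158bbe3b6a065018bc012a97d8bda2e42f88c00bdc5f55b0c561b80dbc6db508a84adb9,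
  nat_lit 0x2c99678b3922d2cc1658afe59496d268a3dc99f472a67054e9a12accb8a75d3b14ff28e11904cc33b4954cf067a33919d046c67c68299fe7c53e5460a2c9a00c921b7cb84d0e97347ba5bc6709a0265931c9a320d26713109a64cd648a3aa7453a5477239d912c8a91896f0b6e03c02016d01885b95b3aca55d332d5b4abd56deaf79a88679775342489247570ab5e5d2ab6d5ff33f517994574124699aae616167ce5c9acbcc513325ce2e6d71eaeb5cb2bc0c7133357eab45e5eea3796bca9e63499995ace967d3283bd9d8110ab53,
  nat_lit 0x6d9b601b04d7b579b071b5cc386b1acce864d306dbb1cdbecc50a07532db32f806b5be0a414f4522a52ad536d657ae277a5e4cc69614b7cabc99e477a6746789759d9a66e5893b04fe28f17904da111c97e2a067b35099d44be6685e69a7d20d3e446024027ce5959c1b09983ec2157d3074d24c236932b15ab4d225665305efcbfd7595359f2ed7a587bda1af8eb6498242a56a69948c246d25292f4b4a5b258a96b350259d2c46be9119590abe4322ad157034e56149c23325e84b84dba7553ac92e1124944084664335199c0b8669,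
  nat_lit 0x9e0914116e5a12bc0e9191d3be9f7b501a7b2944309cc8f5cc989f8b509a8d3e846106cd96eca145d93a5eaeed17aaba79eb34ad9ccb1958c666d12e9a9cd6f396a0c5115c4ee1d712b8798aee239feb56194e8d51b98acd172d4a989acf167eb402e396a8c34b3964ac591c20dbf7095102886d3b6b01f0a866d316f8b4c9be740c7cabe69d68f937b9be0da3cf9965f10a197654e19011b590f3bf9dd33415b0ccd596b32d4e2ccf8f64f127844a832928a4cb2a999de2b71ea4f2973a3a95c2b4ac4b428b1ee2f277dc5321f3f4ce,
  nat_lit 0x90726fddaced06863b55db14bda2fb69dc0345c34746a9cb6e3138086c0e18e341fb900e89e6ff1f891247711f22220d6e3ea31c15282685ae2d5169c6dc5a02c8a29b8e1a787843c1c8e1052e377053791c127030d18775c0b43d5e7cd856a2ba95ef1f90da2b3891b1449c2edbd6f85105c34c464434819d4d4c67ba5325c30f2098ead396a131a4139510a00b524449b7988ac425ee4e2d894c479222729d40e9d74d3a7d8914742b98ff4af72272bc8a18afa5772650d98b225a02c68fb645654d0da46062ac1bb0df87083721bd,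
  nat_lit 0xa17b1a1bd542053912d5a5cdab33b9b08d920be3639b324ce1089af2479ba6d13629509dbacdc4310d1f49e463c5cbb0555aecce22baa55534a7d312d2c2966a9835e2a41daef38a663c79ba94cf72ea17ce4146137d8f21cbe7291ec8eb63b11db1e28f2c75e3d09d5b27192e7a143121910ccc9972e464a8b67168c84668e0a7140ad05802c415e0b205a62ee1180c883a634823a0f8469c3da1e3a26b7a1c1144a8d409edc06e30a18b7b5b52d173da1ee5808dee9f0b3e98c53de4fd8849950cfc62f46e1b84e0f417522690cede,
  nat_lit 0x7199cbce1b4511fd9019aae72819890145ad1e6204101e3d23c720881ea3c91e71fd0ffc7f03d13eb0b28f3e7803c48a78f1c78b139c6cc56e2a314c8af014c2b93fc1fd651e54b3f51fb8fe27c7a1db7f1bd738853610617e8def2d248bcb4c5a22d916acb5e5ad5712b995d0aea31b51e28f67d06b12b967fed2357dcee1a58bf3285993dd4eea273f3a91d5347536ca251888dcd66c537e9b8ecb6428aea71d3a94708cd0aa48db4a6981474c6024624af529c3861a08a723851c51948cac64c1aca16b7998d93a013104912c2cfd,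
  nat_lit 0x63731ad8da8d02b386649c539768a2ab17febf8561d1e5d5cd5d9d92559ee0f287b73cadb8d4bc3bb1dd64fa5a33b61db8ed07722a01d7e4f927f3b11d84eca53c6309749b86dbe63c508db90dc538e0e3a8b545d1c509a9bfe6fd14d0a8635e2a214c0a7c200296655a6a64413b54618de595a9058fe8df08e91f61fa8f7c7e434c1b58d223911cb1690d6859e3451980ccc5591c419b0cd638e09504b0f0858d1da1e20f263ba3c61ee0f5e3b22c41e68f387a63db96da65087849c398109457e36c18f024e37e3148da0c6062231d,
  nat_lit 0x3eb8700f0d2953ec81f0f387961b70da63923581b00d7c6c436d3318fba49c87b3be983656284636a8e88c3260b3759bb24d26e936d9b80dbb26d3739468dc82f64bb8c6a5912e627e93ee5d26602478f9892b203249922c92e49162c905e73d3a111a03792b895b2c908acb17392338015a72a8ce0448244117155043823410808f04b827e2ae0a004302741060941798bea3762f51768bc45d42f71191bccbd86f037c1bd4def26f082842820e0ae07f840c1f810909384b02520e3090849423c12b12a468446205212e0964244188,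
  nat_lit 0x1790c1a37430305b0c045f83050ae0ba05c62e516e8b845b42e7331111e49e65d27c1858cbc6612751128c206124032082536490355a1d4b208b41944af257e90467f0a167ba66c8a71a04d508d92c2961cb1522906cc660b065811f80eea3c63ab0df0fb07d637036d2260db88a1287225a59e3042ee16fcbaa50d2e00408b9e5db0bc14a243052707f149456a2e645d207916c8b519bcb491f68bd126c67c2501920aa892c4a22520c2061819812e0c5863a2f21895b32cde64eb4140b9dbd026b3457196a264d3293c69eed5a8a84,
  nat_lit 0x2b8060644a5692b3063cad656f2fd4d35118bb43edaed902081d3fb9fb251d2913f19f94fc05ac5de063177660124124697233539a74db4178bea5d5aedc5bcbc16052aa66eabf95522bc5806c09544aa9e510b0d5794ee5964af6061834419a0cb064833c18d15d05d830017a0bf05b82e41680b00c2af11784526052225c5285f4089148a43251d28c946c0ec51f2ac155e44254f1570dd8aa254c4bb0dd659284303820210888470930a38e5808139b1cccd8a73544391b8a045044304f2a79a6e89184dbc20cbbf2d99708ddebec,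
  nat_lit 0x484a4526b535d4630339194580034071438c19b0e5074630e1cc34a8808d2d2b649224725726465cf8474bfd343492a45d6e2b454ee278d3c29e44ec277e5f29db4a65015500d646b5359938aabf4b8cbc53869bc4e0939895e9548fd91c070038223511b08d23a125b0834978645324992a4966472ee859d4dcb4a569a73d5dab4402207a43c91880f5c62e2dc1cd076c58c1d40e606403962980d707703c41e60ca07b83ea2c20f53bf8ac0f3c7a03be4d1a6927974444f3cdacbb53f12fb91145cb10a0c8a35c3c137521957c0734,
  nat_lit 0x6039f4a6e937757c2bd17eebf25444d15514ba85d51f74c1eb358f03322786ab9660b30d540cc7961a5612a664c25125448c89551c4aad894cab855d527293eabe8e6272538c9bd4e61889372654630248272322809009958babc735dbcdd384c1756118e8eb2d718eb8ea474e3aa1440e9473e3a0146c6b43541ba1448a1c52229262c0efe71e8d42358cbd1ac5760c845ee2bc1930c506600c819509b45ac1e412f0aa05442a605a615877985938953a47e1800c29911502d2a4d6e3e435b073ad70505284541ea1250312925fea08,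
  nat_lit 0x40d4a74ba85d640b206102a81c14010022a45de2f1c8e4bcc2b80adca7c5c46f14110bc0bc851e36c49acdae6ce2f802e0da651705582c815a0af05282a41440b190b8be0a2250c28782a0a2a51691b9720a205d72e3170cba25ca3e69f525127cf3e49f2c9ee7d16d609a682ad163ad1d75a34c28275c8449e64ed278939c9ea4ef5b007dd6b2b4b569192d6aeb5f25b813c97a4b925812ec9804bf8ff4e0538ec16552b050f66c188eb29dd502a7c278501a8124aa57e53155fcccc58035b560463ea0cb19db514163488e45a52daa,
  nat_lit 0x14d8e3042c47a3389a024a625311988b846022d11ac66447115c9de92359753b445f82319708bc18f8c281143831b90dde3a637164209e273e8d133709289aa8d85e6089a6b656833785411a48cf10a886042e0e707b084c42012a05d034c33819a0d104582b01a12472b795b333e503a5426824ee8fe4934cae64d329994083c65590252d4cacd6f5c9332890cc196b0acaa7fd4015962cb9a56c083bf0b64f0e7852f14a8504878a40da2094deb5b53992e963a5f96d6865985b4215baa6edabcd1c91d97a83e421d10d851421a5e9,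
  nat_lit 0xec89b01d647b3511a9a4ba19409889840b022c13189923460f467f9784af53e945f027195e8da111088438e21e0a605e828719434a0538d2e69834817f24b24be6151a9282941748cc801a40d1d62f85f272139335189618b456e1c40dfc7031540d70de06f63870d245fc3560a10d786c83521ad1ee930883445b4db26ea5de48411288a43ca21c10d05cc3ff19506a03862be0e206c037c1b60d602a81400b20538a7815c0bc05b1db196e3c46034704b4d31408e15246c455a2ab1578ac85521bc2b91eda7b93df46383912ca95a,
  nat_lit 0x440c5a37d1c11840c4c61a30e1261c2ce5a5df3c14a8254629771945a28927020e58824e0c7150ec03703b41d608807703c21e228511c8a0720227e13e89fe50903a81fe2a608003881f40f20723101874c2260a3039830c1261f22b114e3e31de1b08d7889e42b9228d48c306132e2185cb985089ddb2d09285053ec202501461e8f6909c7c51c021110906a842a8fd12b094e4a925192949404ab1ec081883641420e10648411eb22a91323e11f31fb0d748743e41a10cfe3862aa1908cb86762939afa48e44935c4fd03ed796bc6,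
  nat_lit 0xfc95d456c3c03034d1d7640738ff91dc6ae3591d90ed07624781a191623a847d3ad9d724f64620ae85c42c61320a485c82df17002a082c26815f8c8c62841d18e089846c22b167088845c21e11906a89be34a27013309ae32c24303a08f448023b0f5466c3de1fd05507d43e71890f885a02d41a009804fc26a1330a4051027116c13909dc4082468d489ea2f827420808f88fe47c3da9ee250b1ea1408a0c48227113f46ac4f827538012ca89144b8ce0924e326fc1db8ef07731df1d98ed46c830f209103e3ca2d41a5900881a3da,
  nat_lit 0x7609143b62478ce8920390242077850027613d0a6851829516d09b83e02751668c607403a518f2fd95b0bfe6001cc17f647e5f80bc85fc22813c0bb85ec2e91719a7aee033a21f0bb051c2ae5e80fc07ec40a1d78c688204021fc14611748bc41523047e48cc46390292788ea49d24d0c487a84798f08fa07c63151e60f787c03e58e68d446ad1ca1a50d7069e34d1a00e4a3aa3951cc8e407363970d289388be45a25892d24123965cf148111a6cf16e1b3501c5da20992008fc394241c804910485]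
theorem W0_c : blocks (rows 10 5 15 25 1023 32767 33554431 13 8191 104 A 3008 495 cols 16) 16 JW0 0 = true := by decide +kernel
theorem W0 : On (Row.{u} Rf LW par A 3008 495 cols) 0 496 :=
  rows_of_blocks hpar (by decide) hcols W0_c (by decide +kernel)
theorem idx : Idx.{u} Rf [[0], [2], [4], [6], [8], [10], [12], [14]] [[0], [2], [4], [6], [8], [10]] 495 :=
  idx_of_cert hpar hR (K := K) (by decide +kernel) (T := 795) (T' := 896) (by decide) D0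
    (subs := [1,2,4,5,6,7]) (by decide +kernel) (T1 := 800) (by decide) (N := 3008) S0
    (by decide) (n' := 496) (by decide) W0 (by decide +kernel) (by decide +kernel)
end f
namespace c0
noncomputable def A_0 : List (ℕ) := [nat_lit 0xa20663128c846919045031181c561840c04e1180b882f17185e2508bc5a51707d02e1684501940b4585160acc2c1610582908b0564158a822b1514542a20a85251485522a139c542838a4524148a0a2510a05026289c4081308ce26121c4a242090465120512241190462130843c60f0848220a9c441f288830111050c141018400f303c20608058c160f983e16207c4040b858a210f1c420d10843e110064a20079c401910802070f82061f0f081e1e20543060c048e190c983218006c2260886401a0918241100703c10904801d03883c1230743270e86ce1c0c18361238683040c860a17089c300a10602c10b850e1708882c0c18582040983c8140a142a1108542830a82c61409142608104820508834610071c1a0e28381c40701c20e02241c0c28341a406834c0d04041a0b38301840602420c0320180b282c1660582c80b05041609402c14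505028c0a0510140648281050482480904981208401c0680401ca0703980e07201c06601818c0602980a0430100840201880601900606280c0a103014e0600880c05201408502810605021c0802181006701808a020104040240040460100880200200401300402400804201001c0000300000500000800000800000800c492b9848603024a65f10acbc72c97442f2e0cb65b3968b431796464d2c10a2573958ac31595443f2a0c865318a0a412514443e280c9c4f09389c426934c422610964b31289431f1244482408524739108c316114244220850432108843169042402008463f404c7c91e8f48381e20583b48a07441c8e42311c1c6e3740586c9170d50201a244a3320c8649078c502b18145e2f48585c1130b4e2c1620242b4044546148a501e14104e2748884c41289521712184623403c4430488421910081c1f18483c10e87481c0e18221b20683460c86460e0c082e1710282c70985460b0a04261310242440884460c08041e0f101c1c9068352040620140b401414704825205041c0e07400c0c20181460202040603100404700805000,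
  nat_lit 0x90000003e0000462300d84601f08c03b1d807c3e40000001a00001600002e00003c000038000210000200000240000080400900801001005c020050040070080040100140200300400301800a0800240600201000503801c2118242020481c00a01800c07002c6c11a02800e04801a1648d8100060d00350b804010004c6c01b85801f12804c3e00fc5c01792804b2900b4613188b4830914c5f2f90b85e097cbc52717485e138cbc5c0974a872e954e5c2794b8241970b652011885b1208b643096cb462915c85a2584b4592140b012c8c06592608b05810a89852c15ca502998ae27115c9812b93c8562684ac2a11309631f9548482a8c96540954a062a1508472994a8251950a4429918e532484a644194c9e7290b84522804a24139404c32813c440268c6026113846227928e4e261c9a43392c92425124a48211c922911248e124114e4821088e2d191c82422114a4621048c4519185832290ca441288864129085c3208bce3f12047e3840fc5c71f08c23e08247c1040f47061e8d8e3d1d147a3208f4785198c4c3c1890783a08f04291d8a523a1c14722a48e47011984d0381b186e3720dc5e81b8d88361a846c1f48d84c81a85d234]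
noncomputable def A : List (List (ℕ)) := [A_0]
noncomputable def K_0 : List (ℕ) := [nat_lit 0x586c15faf576b95bad566b157ab556a953a9546a14fa7536994ba55269147a35168943a1506813f9f4f6793b9d4e671379b4d66933994c6612f974b6592b954a6512793496492391486411f8f476391b8d46631178b456291389446210f87436190b854261107834160903814060000]
noncomputable def K : List (List (ℕ)) := [K_0]
noncomputable def R_0 : List (Rule) := [Rule.mk (nat_lit 1) (nat_lit 38) (Steps.bwd (nat_lit 8) (Steps.fwd (nat_lit 512) (Steps.fwd (nat_lit 4096) Steps.nil))) (nat_lit 24) (nat_lit 0),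
  Rule.mk (nat_lit 4) (nat_lit 38) (Steps.bwd (nat_lit 8) (Steps.fwd (nat_lit 3072) (Steps.fwd (nat_lit 4096) Steps.nil))) (nat_lit 26) (nat_lit 0),
  Rule.mk (nat_lit 6) (nat_lit 48) (Steps.bwd (nat_lit 8) (Steps.fwd (nat_lit 2048) (Steps.fwd (nat_lit 4096) (Steps.fwd (nat_lit 2048) Steps.nil)))) (nat_lit 28) (nat_lit 0),
  Rule.mk (nat_lit 8) (nat_lit 38) (Steps.bwd (nat_lit 7) (Steps.bwd (nat_lit 8) (Steps.fwd (nat_lit 3584) Steps.nil))) (nat_lit 30) (nat_lit 0),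
  Rule.mk (nat_lit 4) (nat_lit 48) (Steps.bwd (nat_lit 7) (Steps.fwd (nat_lit 2048) (Steps.fwd (nat_lit 3072) (Steps.fwd (nat_lit 3584) Steps.nil)))) (nat_lit 20) (nat_lit 4),
  Rule.mk (nat_lit 6) (nat_lit 48) (Steps.bwd (nat_lit 7) (Steps.fwd (nat_lit 2048) (Steps.fwd (nat_lit 3584) (Steps.fwd (nat_lit 2048) Steps.nil)))) (nat_lit 20) (nat_lit 2),
  Rule.mk (nat_lit 8) (nat_lit 28) (Steps.bwd (nat_lit 8) (Steps.bwd (nat_lit 8) Steps.nil)) (nat_lit 22) (nat_lit 0),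
  Rule.mk (nat_lit 1) (nat_lit 38) (Steps.fwd (nat_lit 4096) (Steps.fwd (nat_lit 512) (Steps.bwd (nat_lit 8) Steps.nil))) (nat_lit 24) (nat_lit 2),
  Rule.mk (nat_lit 5) (nat_lit 78) (Steps.fwd (nat_lit 4096) (Steps.fwd (nat_lit 512) (Steps.bwd (nat_lit 2) (Steps.fwd (nat_lit 2048) (Steps.fwd (nat_lit 1024) (Steps.fwd (nat_lit 2560) (Steps.bwd (nat_lit 8) Steps.nil))))))) (nat_lit 34) (nat_lit 2),
  Rule.mk (nat_lit 7) (nat_lit 38) (Steps.bwd (nat_lit 2) (Steps.fwd (nat_lit 512) (Steps.fwd (nat_lit 1024) Steps.nil))) (nat_lit 12) (nat_lit 3),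
  Rule.mk (nat_lit 3) (nat_lit 48) (Steps.bwd (nat_lit 1) (Steps.bwd (nat_lit 2) (Steps.fwd (nat_lit 512) (Steps.fwd (nat_lit 3584) Steps.nil)))) (nat_lit 16) (nat_lit 0),
  Rule.mk (nat_lit 7) (nat_lit 38) (Steps.fwd (nat_lit 1536) (Steps.fwd (nat_lit 512) (Steps.bwd (nat_lit 3) Steps.nil))) (nat_lit 12) (nat_lit 3),
  Rule.mk (nat_lit 3) (nat_lit 28) (Steps.bwd (nat_lit 3) (Steps.bwd (nat_lit 3) Steps.nil)) (nat_lit 11) (nat_lit 0),
  Rule.mk (nat_lit 5) (nat_lit 38) (Steps.bwd (nat_lit 3) (Steps.fwd (nat_lit 2560) (Steps.bwd (nat_lit 3) Steps.nil))) (nat_lit 15) (nat_lit 1),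
  Rule.mk (nat_lit 4) (nat_lit 78) (Steps.bwd (nat_lit 3) (Steps.fwd (nat_lit 4096) (Steps.fwd (nat_lit 3072) (Steps.fwd (nat_lit 2048) (Steps.fwd (nat_lit 2560) (Steps.bwd (nat_lit 8) (Steps.fwd (nat_lit 1536) Steps.nil))))))) (nat_lit 32) (nat_lit 3),
  Rule.mk (nat_lit 2) (nat_lit 28) (Steps.bwd (nat_lit 2) (Steps.bwd (nat_lit 2) Steps.nil)) (nat_lit 10) (nat_lit 0),
  Rule.mk (nat_lit 7) (nat_lit 38) (Steps.bwd (nat_lit 2) (Steps.fwd (nat_lit 512) (Steps.bwd (nat_lit 3) Steps.nil))) (nat_lit 12) (nat_lit 3),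
  Rule.mk (nat_lit 1) (nat_lit 48) (Steps.bwd (nat_lit 2) (Steps.fwd (nat_lit 512) (Steps.fwd (nat_lit 3584) (Steps.bwd (nat_lit 3) Steps.nil)))) (nat_lit 16) (nat_lit 1),
  Rule.mk (nat_lit 5) (nat_lit 48) (Steps.fwd (nat_lit 512) (Steps.bwd (nat_lit 5) (Steps.fwd (nat_lit 2048) (Steps.bwd (nat_lit 1) Steps.nil)))) (nat_lit 19) (nat_lit 1),
  Rule.mk (nat_lit 4) (nat_lit 48) (Steps.fwd (nat_lit 512) (Steps.bwd (nat_lit 5) (Steps.bwd (nat_lit 1) (Steps.bwd (nat_lit 5) Steps.nil)))) (nat_lit 19) (nat_lit 4),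
  Rule.mk (nat_lit 4) (nat_lit 48) (Steps.fwd (nat_lit 512) (Steps.fwd (nat_lit 2560) (Steps.bwd (nat_lit 1) (Steps.fwd (nat_lit 2560) Steps.nil)))) (nat_lit 19) (nat_lit 4),
  Rule.mk (nat_lit 4) (nat_lit 48) (Steps.bwd (nat_lit 1) (Steps.fwd (nat_lit 2560) (Steps.fwd (nat_lit 512) (Steps.fwd (nat_lit 2560) Steps.nil)))) (nat_lit 19) (nat_lit 4),
  Rule.mk (nat_lit 6) (nat_lit 48) (Steps.fwd (nat_lit 3584) (Steps.fwd (nat_lit 2048) (Steps.fwd (nat_lit 3584) (Steps.fwd (nat_lit 2048) Steps.nil)))) (nat_lit 20) (nat_lit 2),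
  Rule.mk (nat_lit 6) (nat_lit 48) (Steps.fwd (nat_lit 3584) (Steps.fwd (nat_lit 2048) (Steps.bwd (nat_lit 7) (Steps.fwd (nat_lit 2048) Steps.nil)))) (nat_lit 20) (nat_lit 2),
  Rule.mk (nat_lit 5) (nat_lit 78) (Steps.bwd (nat_lit 8) (Steps.bwd (nat_lit 2) (Steps.fwd (nat_lit 2048) (Steps.fwd (nat_lit 1024) (Steps.fwd (nat_lit 4096) (Steps.fwd (nat_lit 3072) (Steps.fwd (nat_lit 2048) Steps.nil))))))) (nat_lit 32) (nat_lit 0),
  Rule.mk (nat_lit 6) (nat_lit 38) (Steps.bwd (nat_lit 9) (Steps.fwd (nat_lit 2048) (Steps.fwd (nat_lit 4608) Steps.nil))) (nat_lit 26) (nat_lit 2),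
  Rule.mk (nat_lit 4) (nat_lit 48) (Steps.bwd (nat_lit 9) (Steps.fwd (nat_lit 2048) (Steps.fwd (nat_lit 3072) (Steps.fwd (nat_lit 4608) Steps.nil)))) (nat_lit 28) (nat_lit 2),
  Rule.mk (nat_lit 5) (nat_lit 78) (Steps.bwd (nat_lit 9) (Steps.bwd (nat_lit 1) (Steps.bwd (nat_lit 2) (Steps.fwd (nat_lit 2048) (Steps.fwd (nat_lit 1024) (Steps.bwd (nat_lit 5) (Steps.bwd (nat_lit 8) Steps.nil))))))) (nat_lit 34) (nat_lit 2),
  Rule.mk (nat_lit 9) (nat_lit 38) (Steps.bwd (nat_lit 7) (Steps.bwd (nat_lit 9) (Steps.bwd (nat_lit 7) Steps.nil))) (nat_lit 31) (nat_lit 1),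
  Rule.mk (nat_lit 5) (nat_lit 78) (Steps.fwd (nat_lit 4608) (Steps.bwd (nat_lit 2) (Steps.fwd (nat_lit 2048) (Steps.fwd (nat_lit 1024) (Steps.bwd (nat_lit 9) (Steps.fwd (nat_lit 3072) (Steps.fwd (nat_lit 2048) Steps.nil))))))) (nat_lit 32) (nat_lit 0),
  Rule.mk (nat_lit 8) (nat_lit 28) (Steps.bwd (nat_lit 8) (Steps.fwd (nat_lit 4608) Steps.nil)) (nat_lit 22) (nat_lit 0),
  Rule.mk (nat_lit 1) (nat_lit 38) (Steps.bwd (nat_lit 8) (Steps.bwd (nat_lit 1) (Steps.bwd (nat_lit 9) Steps.nil))) (nat_lit 24) (nat_lit 0),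
  Rule.mk (nat_lit 5) (nat_lit 78) (Steps.bwd (nat_lit 8) (Steps.fwd (nat_lit 1536) (Steps.fwd (nat_lit 2048) (Steps.bwd (nat_lit 3) (Steps.fwd (nat_lit 4096) (Steps.fwd (nat_lit 3072) (Steps.fwd (nat_lit 2048) Steps.nil))))))) (nat_lit 32) (nat_lit 0),
  Rule.mk (nat_lit 1) (nat_lit 38) (Steps.bwd (nat_lit 8) (Steps.bwd (nat_lit 1) (Steps.fwd (nat_lit 4096) Steps.nil))) (nat_lit 24) (nat_lit 0),
  Rule.mk (nat_lit 7) (nat_lit 38) (Steps.bwd (nat_lit 8) (Steps.bwd (nat_lit 7) (Steps.bwd (nat_lit 8) Steps.nil))) (nat_lit 30) (nat_lit 1),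
  Rule.mk (nat_lit 1) (nat_lit 38) (Steps.bwd (nat_lit 9) (Steps.bwd (nat_lit 1) (Steps.bwd (nat_lit 8) Steps.nil))) (nat_lit 24) (nat_lit 2),
  Rule.mk (nat_lit 5) (nat_lit 78) (Steps.bwd (nat_lit 9) (Steps.bwd (nat_lit 1) (Steps.bwd (nat_lit 2) (Steps.fwd (nat_lit 2048) (Steps.fwd (nat_lit 1024) (Steps.fwd (nat_lit 2560) (Steps.bwd (nat_lit 8) Steps.nil))))))) (nat_lit 34) (nat_lit 2),
  Rule.mk (nat_lit 9) (nat_lit 28) (Steps.bwd (nat_lit 9) (Steps.bwd (nat_lit 9) Steps.nil)) (nat_lit 23) (nat_lit 0),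
  Rule.mk (nat_lit 1) (nat_lit 38) (Steps.bwd (nat_lit 9) (Steps.fwd (nat_lit 512) (Steps.bwd (nat_lit 8) Steps.nil))) (nat_lit 24) (nat_lit 2),
  Rule.mk (nat_lit 5) (nat_lit 48) (Steps.fwd (nat_lit 512) (Steps.fwd (nat_lit 2560) (Steps.bwd (nat_lit 1) (Steps.fwd (nat_lit 2048) Steps.nil)))) (nat_lit 18) (nat_lit 3),
  Rule.mk (nat_lit 7) (nat_lit 38) (Steps.bwd (nat_lit 9) (Steps.fwd (nat_lit 3584) (Steps.bwd (nat_lit 9) Steps.nil))) (nat_lit 31) (nat_lit 0),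
  Rule.mk (nat_lit 3) (nat_lit 48) (Steps.bwd (nat_lit 1) (Steps.bwd (nat_lit 2) (Steps.bwd (nat_lit 1) (Steps.bwd (nat_lit 7) Steps.nil)))) (nat_lit 16) (nat_lit 0),
  Rule.mk (nat_lit 5) (nat_lit 38) (Steps.bwd (nat_lit 3) (Steps.bwd (nat_lit 5) (Steps.bwd (nat_lit 3) Steps.nil))) (nat_lit 15) (nat_lit 1),
  Rule.mk (nat_lit 2) (nat_lit 78) (Steps.bwd (nat_lit 4) (Steps.bwd (nat_lit 3) (Steps.fwd (nat_lit 4096) (Steps.fwd (nat_lit 3072) (Steps.fwd (nat_lit 2048) (Steps.bwd (nat_lit 5) (Steps.bwd (nat_lit 8) Steps.nil))))))) (nat_lit 32) (nat_lit 2),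
  Rule.mk (nat_lit 5) (nat_lit 38) (Steps.bwd (nat_lit 2) (Steps.fwd (nat_lit 2560) (Steps.bwd (nat_lit 2) Steps.nil))) (nat_lit 14) (nat_lit 0),
  Rule.mk (nat_lit 3) (nat_lit 48) (Steps.bwd (nat_lit 1) (Steps.bwd (nat_lit 2) (Steps.bwd (nat_lit 1) (Steps.fwd (nat_lit 3584) Steps.nil)))) (nat_lit 16) (nat_lit 0),
  Rule.mk (nat_lit 1) (nat_lit 38) (Steps.bwd (nat_lit 3) (Steps.bwd (nat_lit 7) (Steps.fwd (nat_lit 1536) Steps.nil))) (nat_lit 12) (nat_lit 1),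
  Rule.mk (nat_lit 4) (nat_lit 48) (Steps.bwd (nat_lit 5) (Steps.fwd (nat_lit 512) (Steps.fwd (nat_lit 2560) (Steps.bwd (nat_lit 1) Steps.nil)))) (nat_lit 18) (nat_lit 2),
  Rule.mk (nat_lit 4) (nat_lit 48) (Steps.fwd (nat_lit 512) (Steps.bwd (nat_lit 5) (Steps.fwd (nat_lit 512) (Steps.fwd (nat_lit 2560) Steps.nil)))) (nat_lit 19) (nat_lit 4),
  Rule.mk (nat_lit 3) (nat_lit 38) (Steps.bwd (nat_lit 7) (Steps.bwd (nat_lit 2) (Steps.bwd (nat_lit 1) Steps.nil))) (nat_lit 12) (nat_lit 2),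
  Rule.mk (nat_lit 2) (nat_lit 48) (Steps.bwd (nat_lit 7) (Steps.fwd (nat_lit 512) (Steps.bwd (nat_lit 3) (Steps.fwd (nat_lit 512) Steps.nil)))) (nat_lit 17) (nat_lit 1),
  Rule.mk (nat_lit 7) (nat_lit 38) (Steps.bwd (nat_lit 2) (Steps.bwd (nat_lit 1) (Steps.bwd (nat_lit 3) Steps.nil))) (nat_lit 12) (nat_lit 3),
  Rule.mk (nat_lit 1) (nat_lit 48) (Steps.bwd (nat_lit 2) (Steps.bwd (nat_lit 1) (Steps.bwd (nat_lit 7) (Steps.bwd (nat_lit 3) Steps.nil)))) (nat_lit 16) (nat_lit 1),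
  Rule.mk (nat_lit 4) (nat_lit 78) (Steps.bwd (nat_lit 3) (Steps.bwd (nat_lit 9) (Steps.fwd (nat_lit 3072) (Steps.fwd (nat_lit 2048) (Steps.fwd (nat_lit 2560) (Steps.bwd (nat_lit 8) (Steps.bwd (nat_lit 2) Steps.nil))))))) (nat_lit 32) (nat_lit 3),
  Rule.mk (nat_lit 7) (nat_lit 48) (Steps.bwd (nat_lit 6) (Steps.fwd (nat_lit 2048) (Steps.fwd (nat_lit 3584) (Steps.fwd (nat_lit 2048) Steps.nil)))) (nat_lit 21) (nat_lit 3),
  Rule.mk (nat_lit 6) (nat_lit 48) (Steps.bwd (nat_lit 4) (Steps.fwd (nat_lit 3584) (Steps.bwd (nat_lit 4) (Steps.bwd (nat_lit 7) Steps.nil)))) (nat_lit 21) (nat_lit 4),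
  Rule.mk (nat_lit 7) (nat_lit 48) (Steps.bwd (nat_lit 6) (Steps.fwd (nat_lit 2048) (Steps.bwd (nat_lit 7) (Steps.fwd (nat_lit 2048) Steps.nil)))) (nat_lit 21) (nat_lit 3),
  Rule.mk (nat_lit 7) (nat_lit 48) (Steps.bwd (nat_lit 4) (Steps.fwd (nat_lit 3584) (Steps.bwd (nat_lit 4) (Steps.bwd (nat_lit 6) Steps.nil)))) (nat_lit 20) (nat_lit 3),
  Rule.mk (nat_lit 6) (nat_lit 48) (Steps.bwd (nat_lit 4) (Steps.fwd (nat_lit 3584) (Steps.bwd (nat_lit 4) (Steps.fwd (nat_lit 3584) Steps.nil)))) (nat_lit 21) (nat_lit 4),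
  Rule.mk (nat_lit 2) (nat_lit 48) (Steps.bwd (nat_lit 1) (Steps.fwd (nat_lit 3584) (Steps.bwd (nat_lit 3) (Steps.fwd (nat_lit 512) Steps.nil)))) (nat_lit 16) (nat_lit 2),
  Rule.mk (nat_lit 0) (nat_lit 48) (Steps.fwd (nat_lit 512) (Steps.fwd (nat_lit 1024) (Steps.fwd (nat_lit 3584) (Steps.bwd (nat_lit 2) Steps.nil)))) (nat_lit 12) (nat_lit 0),
  Rule.mk (nat_lit 1) (nat_lit 28) (Steps.bwd (nat_lit 0) (Steps.fwd (nat_lit 512) Steps.nil)) (nat_lit 38) (nat_lit 0),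
  Rule.mk (nat_lit 0) (nat_lit 38) (Steps.fwd (nat_lit 2048) (Steps.fwd (nat_lit 0) (Steps.bwd (nat_lit 4) Steps.nil))) (nat_lit 38) (nat_lit 0),
  Rule.mk (nat_lit 6) (nat_lit 28) (Steps.bwd (nat_lit 0) (Steps.fwd (nat_lit 3072) Steps.nil)) (nat_lit 38) (nat_lit 0)]
noncomputable def R_1 : List (Rule) := [Rule.mk (nat_lit 0) (nat_lit 38) (Steps.fwd (nat_lit 3584) (Steps.bwd (nat_lit 0) (Steps.fwd (nat_lit 3584) Steps.nil))) (nat_lit 38) (nat_lit 0),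
  Rule.mk (nat_lit 6) (nat_lit 28) (Steps.bwd (nat_lit 0) (Steps.bwd (nat_lit 6) Steps.nil)) (nat_lit 38) (nat_lit 0),
  Rule.mk (nat_lit 0) (nat_lit 38) (Steps.bwd (nat_lit 7) (Steps.fwd (nat_lit 0) (Steps.bwd (nat_lit 7) Steps.nil))) (nat_lit 38) (nat_lit 0),
  Rule.mk (nat_lit 7) (nat_lit 28) (Steps.bwd (nat_lit 0) (Steps.fwd (nat_lit 3584) Steps.nil)) (nat_lit 38) (nat_lit 0),
  Rule.mk (nat_lit 4) (nat_lit 48) (Steps.fwd (nat_lit 2560) (Steps.bwd (nat_lit 1) (Steps.fwd (nat_lit 2560) (Steps.fwd (nat_lit 512) Steps.nil)))) (nat_lit 18) (nat_lit 2),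
  Rule.mk (nat_lit 3) (nat_lit 28) (Steps.bwd (nat_lit 3) (Steps.fwd (nat_lit 1024) Steps.nil)) (nat_lit 11) (nat_lit 0),
  Rule.mk (nat_lit 7) (nat_lit 48) (Steps.bwd (nat_lit 3) (Steps.fwd (nat_lit 512) (Steps.bwd (nat_lit 2) (Steps.fwd (nat_lit 512) Steps.nil)))) (nat_lit 16) (nat_lit 4),
  Rule.mk (nat_lit 2) (nat_lit 28) (Steps.bwd (nat_lit 2) (Steps.fwd (nat_lit 1536) Steps.nil)) (nat_lit 10) (nat_lit 0),
  Rule.mk (nat_lit 5) (nat_lit 38) (Steps.bwd (nat_lit 2) (Steps.fwd (nat_lit 2560) (Steps.fwd (nat_lit 1536) Steps.nil))) (nat_lit 14) (nat_lit 0),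
  Rule.mk (nat_lit 2) (nat_lit 38) (Steps.bwd (nat_lit 1) (Steps.bwd (nat_lit 3) (Steps.bwd (nat_lit 7) Steps.nil))) (nat_lit 12) (nat_lit 0),
  Rule.mk (nat_lit 7) (nat_lit 48) (Steps.bwd (nat_lit 1) (Steps.bwd (nat_lit 3) (Steps.fwd (nat_lit 512) (Steps.bwd (nat_lit 2) Steps.nil)))) (nat_lit 17) (nat_lit 2),
  Rule.mk (nat_lit 5) (nat_lit 48) (Steps.bwd (nat_lit 1) (Steps.fwd (nat_lit 2048) (Steps.bwd (nat_lit 5) (Steps.fwd (nat_lit 512) Steps.nil)))) (nat_lit 18) (nat_lit 0),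
  Rule.mk (nat_lit 6) (nat_lit 48) (Steps.fwd (nat_lit 3584) (Steps.bwd (nat_lit 4) (Steps.fwd (nat_lit 3584) (Steps.bwd (nat_lit 4) Steps.nil)))) (nat_lit 20) (nat_lit 2),
  Rule.mk (nat_lit 6) (nat_lit 48) (Steps.bwd (nat_lit 7) (Steps.bwd (nat_lit 4) (Steps.fwd (nat_lit 3584) (Steps.fwd (nat_lit 2048) Steps.nil)))) (nat_lit 20) (nat_lit 2),
  Rule.mk (nat_lit 6) (nat_lit 48) (Steps.bwd (nat_lit 4) (Steps.fwd (nat_lit 3584) (Steps.fwd (nat_lit 2048) (Steps.bwd (nat_lit 7) Steps.nil)))) (nat_lit 21) (nat_lit 4),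
  Rule.mk (nat_lit 6) (nat_lit 48) (Steps.fwd (nat_lit 2048) (Steps.bwd (nat_lit 7) (Steps.bwd (nat_lit 4) (Steps.fwd (nat_lit 3584) Steps.nil)))) (nat_lit 21) (nat_lit 4),
  Rule.mk (nat_lit 1) (nat_lit 38) (Steps.bwd (nat_lit 3) (Steps.fwd (nat_lit 3584) (Steps.bwd (nat_lit 2) Steps.nil))) (nat_lit 12) (nat_lit 1),
  Rule.mk (nat_lit 7) (nat_lit 48) (Steps.bwd (nat_lit 3) (Steps.bwd (nat_lit 1) (Steps.fwd (nat_lit 1536) (Steps.bwd (nat_lit 1) Steps.nil)))) (nat_lit 16) (nat_lit 4),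
  Rule.mk (nat_lit 4) (nat_lit 78) (Steps.bwd (nat_lit 3) (Steps.bwd (nat_lit 9) (Steps.fwd (nat_lit 3072) (Steps.fwd (nat_lit 2048) (Steps.fwd (nat_lit 2560) (Steps.fwd (nat_lit 4608) (Steps.bwd (nat_lit 2) Steps.nil))))))) (nat_lit 32) (nat_lit 3),
  Rule.mk (nat_lit 9) (nat_lit 48) (Steps.bwd (nat_lit 6) (Steps.fwd (nat_lit 2048) (Steps.bwd (nat_lit 8) (Steps.bwd (nat_lit 4) Steps.nil)))) (nat_lit 29) (nat_lit 0),
  Rule.mk (nat_lit 5) (nat_lit 78) (Steps.fwd (nat_lit 4608) (Steps.fwd (nat_lit 1536) (Steps.fwd (nat_lit 2048) (Steps.bwd (nat_lit 3) (Steps.bwd (nat_lit 9) (Steps.bwd (nat_lit 6) (Steps.fwd (nat_lit 2048) Steps.nil))))))) (nat_lit 32) (nat_lit 0),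
  Rule.mk (nat_lit 4) (nat_lit 78) (Steps.bwd (nat_lit 6) (Steps.bwd (nat_lit 8) (Steps.bwd (nat_lit 2) (Steps.fwd (nat_lit 2048) (Steps.fwd (nat_lit 1024) (Steps.fwd (nat_lit 4096) (Steps.bwd (nat_lit 5) Steps.nil))))))) (nat_lit 33) (nat_lit 2),
  Rule.mk (nat_lit 7) (nat_lit 48) (Steps.bwd (nat_lit 4) (Steps.fwd (nat_lit 3584) (Steps.fwd (nat_lit 2048) (Steps.bwd (nat_lit 6) Steps.nil)))) (nat_lit 20) (nat_lit 3),
  Rule.mk (nat_lit 8) (nat_lit 48) (Steps.bwd (nat_lit 4) (Steps.bwd (nat_lit 9) (Steps.fwd (nat_lit 2048) (Steps.fwd (nat_lit 3072) Steps.nil)))) (nat_lit 28) (nat_lit 1),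
  Rule.mk (nat_lit 5) (nat_lit 78) (Steps.bwd (nat_lit 9) (Steps.fwd (nat_lit 512) (Steps.bwd (nat_lit 2) (Steps.fwd (nat_lit 2048) (Steps.fwd (nat_lit 1024) (Steps.bwd (nat_lit 5) (Steps.bwd (nat_lit 8) Steps.nil))))))) (nat_lit 34) (nat_lit 2),
  Rule.mk (nat_lit 5) (nat_lit 78) (Steps.bwd (nat_lit 9) (Steps.fwd (nat_lit 512) (Steps.fwd (nat_lit 1536) (Steps.fwd (nat_lit 2048) (Steps.bwd (nat_lit 3) (Steps.bwd (nat_lit 5) (Steps.bwd (nat_lit 8) Steps.nil))))))) (nat_lit 34) (nat_lit 2),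
  Rule.mk (nat_lit 7) (nat_lit 48) (Steps.bwd (nat_lit 6) (Steps.fwd (nat_lit 2048) (Steps.fwd (nat_lit 3584) (Steps.bwd (nat_lit 4) Steps.nil)))) (nat_lit 21) (nat_lit 3),
  Rule.mk (nat_lit 5) (nat_lit 78) (Steps.bwd (nat_lit 8) (Steps.bwd (nat_lit 2) (Steps.bwd (nat_lit 4) (Steps.bwd (nat_lit 3) (Steps.bwd (nat_lit 9) (Steps.bwd (nat_lit 6) (Steps.fwd (nat_lit 2048) Steps.nil))))))) (nat_lit 32) (nat_lit 0),
  Rule.mk (nat_lit 4) (nat_lit 48) (Steps.fwd (nat_lit 3584) (Steps.fwd (nat_lit 2048) (Steps.bwd (nat_lit 7) (Steps.fwd (nat_lit 3072) Steps.nil)))) (nat_lit 21) (nat_lit 0),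
  Rule.mk (nat_lit 5) (nat_lit 78) (Steps.fwd (nat_lit 4608) (Steps.fwd (nat_lit 1536) (Steps.fwd (nat_lit 2048) (Steps.fwd (nat_lit 1024) (Steps.fwd (nat_lit 4096) (Steps.fwd (nat_lit 3072) (Steps.fwd (nat_lit 2048) Steps.nil))))))) (nat_lit 32) (nat_lit 0),
  Rule.mk (nat_lit 6) (nat_lit 48) (Steps.bwd (nat_lit 8) (Steps.bwd (nat_lit 4) (Steps.fwd (nat_lit 4096) (Steps.fwd (nat_lit 2048) Steps.nil)))) (nat_lit 28) (nat_lit 0),
  Rule.mk (nat_lit 5) (nat_lit 78) (Steps.bwd (nat_lit 8) (Steps.fwd (nat_lit 1536) (Steps.fwd (nat_lit 2048) (Steps.fwd (nat_lit 1024) (Steps.fwd (nat_lit 4096) (Steps.bwd (nat_lit 6) (Steps.fwd (nat_lit 2048) Steps.nil))))))) (nat_lit 32) (nat_lit 0),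
  Rule.mk (nat_lit 8) (nat_lit 38) (Steps.bwd (nat_lit 7) (Steps.bwd (nat_lit 8) (Steps.bwd (nat_lit 7) Steps.nil))) (nat_lit 30) (nat_lit 0),
  Rule.mk (nat_lit 1) (nat_lit 38) (Steps.fwd (nat_lit 4096) (Steps.bwd (nat_lit 1) (Steps.bwd (nat_lit 8) Steps.nil))) (nat_lit 24) (nat_lit 2),
  Rule.mk (nat_lit 8) (nat_lit 38) (Steps.bwd (nat_lit 1) (Steps.fwd (nat_lit 4096) (Steps.fwd (nat_lit 512) Steps.nil))) (nat_lit 24) (nat_lit 1),
  Rule.mk (nat_lit 5) (nat_lit 48) (Steps.bwd (nat_lit 1) (Steps.bwd (nat_lit 4) (Steps.fwd (nat_lit 2560) (Steps.fwd (nat_lit 512) Steps.nil)))) (nat_lit 18) (nat_lit 0),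
  Rule.mk (nat_lit 1) (nat_lit 38) (Steps.bwd (nat_lit 9) (Steps.bwd (nat_lit 1) (Steps.fwd (nat_lit 4608) Steps.nil))) (nat_lit 24) (nat_lit 2),
  Rule.mk (nat_lit 6) (nat_lit 38) (Steps.bwd (nat_lit 9) (Steps.bwd (nat_lit 4) (Steps.bwd (nat_lit 8) Steps.nil))) (nat_lit 26) (nat_lit 2),
  Rule.mk (nat_lit 4) (nat_lit 48) (Steps.bwd (nat_lit 9) (Steps.bwd (nat_lit 4) (Steps.fwd (nat_lit 3072) (Steps.bwd (nat_lit 8) Steps.nil)))) (nat_lit 28) (nat_lit 2),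
  Rule.mk (nat_lit 1) (nat_lit 48) (Steps.bwd (nat_lit 5) (Steps.fwd (nat_lit 512) (Steps.fwd (nat_lit 2048) (Steps.bwd (nat_lit 5) Steps.nil)))) (nat_lit 18) (nat_lit 4),
  Rule.mk (nat_lit 8) (nat_lit 78) (Steps.bwd (nat_lit 5) (Steps.bwd (nat_lit 9) (Steps.bwd (nat_lit 1) (Steps.bwd (nat_lit 2) (Steps.fwd (nat_lit 2048) (Steps.fwd (nat_lit 1024) (Steps.fwd (nat_lit 2560) Steps.nil))))))) (nat_lit 34) (nat_lit 1),
  Rule.mk (nat_lit 9) (nat_lit 28) (Steps.bwd (nat_lit 9) (Steps.fwd (nat_lit 4096) Steps.nil)) (nat_lit 23) (nat_lit 0),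
  Rule.mk (nat_lit 8) (nat_lit 48) (Steps.bwd (nat_lit 4) (Steps.bwd (nat_lit 9) (Steps.bwd (nat_lit 4) (Steps.fwd (nat_lit 3072) Steps.nil)))) (nat_lit 28) (nat_lit 1),
  Rule.mk (nat_lit 4) (nat_lit 48) (Steps.bwd (nat_lit 9) (Steps.bwd (nat_lit 4) (Steps.fwd (nat_lit 3072) (Steps.fwd (nat_lit 4608) Steps.nil)))) (nat_lit 28) (nat_lit 2),
  Rule.mk (nat_lit 6) (nat_lit 48) (Steps.bwd (nat_lit 8) (Steps.bwd (nat_lit 4) (Steps.bwd (nat_lit 9) (Steps.fwd (nat_lit 2048) Steps.nil)))) (nat_lit 28) (nat_lit 0),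
  Rule.mk (nat_lit 9) (nat_lit 38) (Steps.bwd (nat_lit 1) (Steps.bwd (nat_lit 8) (Steps.fwd (nat_lit 512) Steps.nil))) (nat_lit 24) (nat_lit 3),
  Rule.mk (nat_lit 5) (nat_lit 48) (Steps.bwd (nat_lit 1) (Steps.bwd (nat_lit 5) (Steps.fwd (nat_lit 2048) (Steps.fwd (nat_lit 512) Steps.nil)))) (nat_lit 19) (nat_lit 1),
  Rule.mk (nat_lit 9) (nat_lit 38) (Steps.bwd (nat_lit 4) (Steps.fwd (nat_lit 4608) (Steps.bwd (nat_lit 6) Steps.nil))) (nat_lit 26) (nat_lit 3),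
  Rule.mk (nat_lit 1) (nat_lit 38) (Steps.bwd (nat_lit 8) (Steps.fwd (nat_lit 512) (Steps.bwd (nat_lit 9) Steps.nil))) (nat_lit 24) (nat_lit 0),
  Rule.mk (nat_lit 5) (nat_lit 48) (Steps.fwd (nat_lit 512) (Steps.bwd (nat_lit 5) (Steps.bwd (nat_lit 1) (Steps.bwd (nat_lit 4) Steps.nil)))) (nat_lit 18) (nat_lit 3),
  Rule.mk (nat_lit 1) (nat_lit 48) (Steps.bwd (nat_lit 4) (Steps.bwd (nat_lit 5) (Steps.bwd (nat_lit 1) (Steps.bwd (nat_lit 5) Steps.nil)))) (nat_lit 18) (nat_lit 1),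
  Rule.mk (nat_lit 5) (nat_lit 48) (Steps.bwd (nat_lit 4) (Steps.bwd (nat_lit 1) (Steps.fwd (nat_lit 2560) (Steps.fwd (nat_lit 512) Steps.nil)))) (nat_lit 19) (nat_lit 3),
  Rule.mk (nat_lit 7) (nat_lit 48) (Steps.bwd (nat_lit 4) (Steps.bwd (nat_lit 7) (Steps.fwd (nat_lit 2048) (Steps.fwd (nat_lit 3072) Steps.nil)))) (nat_lit 20) (nat_lit 3),
  Rule.mk (nat_lit 6) (nat_lit 48) (Steps.fwd (nat_lit 3584) (Steps.fwd (nat_lit 2048) (Steps.bwd (nat_lit 7) (Steps.bwd (nat_lit 4) Steps.nil)))) (nat_lit 20) (nat_lit 2),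
  Rule.mk (nat_lit 8) (nat_lit 48) (Steps.bwd (nat_lit 4) (Steps.fwd (nat_lit 4096) (Steps.fwd (nat_lit 2048) (Steps.fwd (nat_lit 3072) Steps.nil)))) (nat_lit 28) (nat_lit 1),
  Rule.mk (nat_lit 1) (nat_lit 38) (Steps.bwd (nat_lit 9) (Steps.fwd (nat_lit 512) (Steps.fwd (nat_lit 4608) Steps.nil))) (nat_lit 24) (nat_lit 2),
  Rule.mk (nat_lit 7) (nat_lit 38) (Steps.bwd (nat_lit 8) (Steps.fwd (nat_lit 3584) (Steps.fwd (nat_lit 4608) Steps.nil))) (nat_lit 30) (nat_lit 1),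
  Rule.mk (nat_lit 2) (nat_lit 78) (Steps.bwd (nat_lit 4) (Steps.bwd (nat_lit 3) (Steps.fwd (nat_lit 4096) (Steps.fwd (nat_lit 3072) (Steps.fwd (nat_lit 2048) (Steps.bwd (nat_lit 5) (Steps.fwd (nat_lit 4608) Steps.nil))))))) (nat_lit 32) (nat_lit 2),
  Rule.mk (nat_lit 5) (nat_lit 38) (Steps.bwd (nat_lit 2) (Steps.bwd (nat_lit 5) (Steps.bwd (nat_lit 2) Steps.nil))) (nat_lit 14) (nat_lit 0),
  Rule.mk (nat_lit 3) (nat_lit 48) (Steps.bwd (nat_lit 1) (Steps.bwd (nat_lit 2) (Steps.fwd (nat_lit 512) (Steps.bwd (nat_lit 7) Steps.nil)))) (nat_lit 16) (nat_lit 0),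
  Rule.mk (nat_lit 1) (nat_lit 38) (Steps.bwd (nat_lit 3) (Steps.fwd (nat_lit 3584) (Steps.fwd (nat_lit 1536) Steps.nil))) (nat_lit 12) (nat_lit 1),
  Rule.mk (nat_lit 3) (nat_lit 38) (Steps.bwd (nat_lit 7) (Steps.bwd (nat_lit 2) (Steps.fwd (nat_lit 512) Steps.nil))) (nat_lit 12) (nat_lit 2),
  Rule.mk (nat_lit 1) (nat_lit 48) (Steps.bwd (nat_lit 2) (Steps.bwd (nat_lit 1) (Steps.fwd (nat_lit 3584) (Steps.bwd (nat_lit 3) Steps.nil)))) (nat_lit 16) (nat_lit 1),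
  Rule.mk (nat_lit 2) (nat_lit 38) (Steps.fwd (nat_lit 512) (Steps.fwd (nat_lit 1024) (Steps.bwd (nat_lit 7) Steps.nil))) (nat_lit 12) (nat_lit 0)]
noncomputable def R_2 : List (Rule) := [Rule.mk (nat_lit 3) (nat_lit 78) (Steps.fwd (nat_lit 4096) (Steps.fwd (nat_lit 3072) (Steps.bwd (nat_lit 4) (Steps.bwd (nat_lit 5) (Steps.bwd (nat_lit 8) (Steps.bwd (nat_lit 2) (Steps.bwd (nat_lit 4) Steps.nil))))))) (nat_lit 32) (nat_lit 4),
  Rule.mk (nat_lit 1) (nat_lit 48) (Steps.bwd (nat_lit 2) (Steps.fwd (nat_lit 512) (Steps.bwd (nat_lit 7) (Steps.bwd (nat_lit 3) Steps.nil)))) (nat_lit 16) (nat_lit 1),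
  Rule.mk (nat_lit 2) (nat_lit 38) (Steps.bwd (nat_lit 1) (Steps.bwd (nat_lit 3) (Steps.fwd (nat_lit 3584) Steps.nil))) (nat_lit 12) (nat_lit 0),
  Rule.mk (nat_lit 1) (nat_lit 38) (Steps.bwd (nat_lit 3) (Steps.bwd (nat_lit 7) (Steps.bwd (nat_lit 2) Steps.nil))) (nat_lit 12) (nat_lit 1),
  Rule.mk (nat_lit 7) (nat_lit 48) (Steps.bwd (nat_lit 3) (Steps.fwd (nat_lit 512) (Steps.fwd (nat_lit 1536) (Steps.bwd (nat_lit 1) Steps.nil)))) (nat_lit 16) (nat_lit 4),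
  Rule.mk (nat_lit 4) (nat_lit 78) (Steps.bwd (nat_lit 3) (Steps.fwd (nat_lit 4096) (Steps.fwd (nat_lit 3072) (Steps.bwd (nat_lit 4) (Steps.fwd (nat_lit 2560) (Steps.bwd (nat_lit 8) (Steps.bwd (nat_lit 2) Steps.nil))))))) (nat_lit 32) (nat_lit 3),
  Rule.mk (nat_lit 4) (nat_lit 48) (Steps.bwd (nat_lit 1) (Steps.fwd (nat_lit 2560) (Steps.bwd (nat_lit 1) (Steps.bwd (nat_lit 5) Steps.nil)))) (nat_lit 19) (nat_lit 4),
  Rule.mk (nat_lit 6) (nat_lit 48) (Steps.bwd (nat_lit 4) (Steps.bwd (nat_lit 7) (Steps.fwd (nat_lit 2048) (Steps.bwd (nat_lit 7) Steps.nil)))) (nat_lit 21) (nat_lit 4),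
  Rule.mk (nat_lit 3) (nat_lit 38) (Steps.fwd (nat_lit 3584) (Steps.fwd (nat_lit 1536) (Steps.bwd (nat_lit 1) Steps.nil))) (nat_lit 12) (nat_lit 2),
  Rule.mk (nat_lit 4) (nat_lit 48) (Steps.fwd (nat_lit 2560) (Steps.bwd (nat_lit 1) (Steps.bwd (nat_lit 5) (Steps.bwd (nat_lit 1) Steps.nil)))) (nat_lit 18) (nat_lit 2),
  Rule.mk (nat_lit 3) (nat_lit 28) (Steps.fwd (nat_lit 1024) (Steps.bwd (nat_lit 3) Steps.nil)) (nat_lit 11) (nat_lit 0),
  Rule.mk (nat_lit 2) (nat_lit 78) (Steps.bwd (nat_lit 4) (Steps.bwd (nat_lit 3) (Steps.fwd (nat_lit 4096) (Steps.bwd (nat_lit 6) (Steps.bwd (nat_lit 4) (Steps.bwd (nat_lit 5) (Steps.fwd (nat_lit 4608) Steps.nil))))))) (nat_lit 32) (nat_lit 2),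
  Rule.mk (nat_lit 4) (nat_lit 78) (Steps.bwd (nat_lit 3) (Steps.fwd (nat_lit 4096) (Steps.bwd (nat_lit 6) (Steps.fwd (nat_lit 2048) (Steps.bwd (nat_lit 5) (Steps.fwd (nat_lit 4608) (Steps.bwd (nat_lit 2) Steps.nil))))))) (nat_lit 32) (nat_lit 3),
  Rule.mk (nat_lit 1) (nat_lit 48) (Steps.bwd (nat_lit 7) (Steps.bwd (nat_lit 3) (Steps.fwd (nat_lit 512) (Steps.bwd (nat_lit 2) Steps.nil)))) (nat_lit 16) (nat_lit 3),
  Rule.mk (nat_lit 6) (nat_lit 48) (Steps.bwd (nat_lit 7) (Steps.fwd (nat_lit 2048) (Steps.bwd (nat_lit 7) (Steps.bwd (nat_lit 4) Steps.nil)))) (nat_lit 20) (nat_lit 2),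
  Rule.mk (nat_lit 5) (nat_lit 38) (Steps.fwd (nat_lit 1536) (Steps.bwd (nat_lit 5) (Steps.bwd (nat_lit 2) Steps.nil))) (nat_lit 14) (nat_lit 0),
  Rule.mk (nat_lit 5) (nat_lit 48) (Steps.bwd (nat_lit 4) (Steps.fwd (nat_lit 512) (Steps.fwd (nat_lit 2560) (Steps.fwd (nat_lit 512) Steps.nil)))) (nat_lit 19) (nat_lit 3),
  Rule.mk (nat_lit 2) (nat_lit 38) (Steps.fwd (nat_lit 2560) (Steps.bwd (nat_lit 2) (Steps.bwd (nat_lit 5) Steps.nil))) (nat_lit 14) (nat_lit 1),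
  Rule.mk (nat_lit 4) (nat_lit 48) (Steps.fwd (nat_lit 2560) (Steps.fwd (nat_lit 512) (Steps.bwd (nat_lit 5) (Steps.bwd (nat_lit 1) Steps.nil)))) (nat_lit 18) (nat_lit 2),
  Rule.mk (nat_lit 4) (nat_lit 78) (Steps.bwd (nat_lit 3) (Steps.bwd (nat_lit 9) (Steps.fwd (nat_lit 3072) (Steps.bwd (nat_lit 4) (Steps.bwd (nat_lit 5) (Steps.fwd (nat_lit 4608) (Steps.bwd (nat_lit 2) Steps.nil))))))) (nat_lit 32) (nat_lit 3),
  Rule.mk (nat_lit 5) (nat_lit 38) (Steps.bwd (nat_lit 3) (Steps.bwd (nat_lit 5) (Steps.fwd (nat_lit 1024) Steps.nil))) (nat_lit 15) (nat_lit 1),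
  Rule.mk (nat_lit 3) (nat_lit 38) (Steps.bwd (nat_lit 7) (Steps.fwd (nat_lit 1536) (Steps.fwd (nat_lit 512) Steps.nil))) (nat_lit 12) (nat_lit 2),
  Rule.mk (nat_lit 4) (nat_lit 48) (Steps.bwd (nat_lit 7) (Steps.bwd (nat_lit 4) (Steps.bwd (nat_lit 6) (Steps.bwd (nat_lit 7) Steps.nil)))) (nat_lit 20) (nat_lit 4),
  Rule.mk (nat_lit 4) (nat_lit 48) (Steps.fwd (nat_lit 2560) (Steps.bwd (nat_lit 1) (Steps.fwd (nat_lit 2560) (Steps.bwd (nat_lit 1) Steps.nil)))) (nat_lit 18) (nat_lit 2),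
  Rule.mk (nat_lit 0) (nat_lit 288) (Steps.bwd (nat_lit 8) (Steps.bwd (nat_lit 6) (Steps.bwd (nat_lit 9) (Steps.fwd (nat_lit 1024) (Steps.bwd (nat_lit 9) (Steps.bwd (nat_lit 3) (Steps.bwd (nat_lit 9) (Steps.bwd (nat_lit 3) (Steps.fwd (nat_lit 3072) (Steps.fwd (nat_lit 1536) (Steps.fwd (nat_lit 4608) (Steps.fwd (nat_lit 1536) (Steps.fwd (nat_lit 4608) (Steps.bwd (nat_lit 2) (Steps.fwd (nat_lit 4608) (Steps.fwd (nat_lit 3072) (Steps.fwd (nat_lit 4096) (Steps.bwd (nat_lit 3) (Steps.bwd (nat_lit 9) (Steps.fwd (nat_lit 1024) (Steps.fwd (nat_lit 4096) (Steps.fwd (nat_lit 1024) (Steps.fwd (nat_lit 3072) (Steps.fwd (nat_lit 1536) (Steps.bwd (nat_lit 8) (Steps.fwd (nat_lit 1536) (Steps.bwd (nat_lit 8) (Steps.bwd (nat_lit 2) Steps.nil)))))))))))))))))))))))))))) (nat_lit 36) (nat_lit 5),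
  Rule.mk (nat_lit 0) (nat_lit 38) (Steps.bwd (nat_lit 1) (Steps.fwd (nat_lit 0) (Steps.bwd (nat_lit 1) Steps.nil))) (nat_lit 38) (nat_lit 0),
  Rule.mk (nat_lit 0) (nat_lit 38) (Steps.fwd (nat_lit 1536) (Steps.fwd (nat_lit 0) (Steps.fwd (nat_lit 1024) Steps.nil))) (nat_lit 38) (nat_lit 0),
  Rule.mk (nat_lit 0) (nat_lit 38) (Steps.fwd (nat_lit 1536) (Steps.fwd (nat_lit 0) (Steps.bwd (nat_lit 3) Steps.nil))) (nat_lit 38) (nat_lit 0),
  Rule.mk (nat_lit 0) (nat_lit 38) (Steps.fwd (nat_lit 512) (Steps.bwd (nat_lit 0) (Steps.fwd (nat_lit 512) Steps.nil))) (nat_lit 38) (nat_lit 0),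
  Rule.mk (nat_lit 0) (nat_lit 38) (Steps.bwd (nat_lit 8) (Steps.bwd (nat_lit 0) (Steps.bwd (nat_lit 9) Steps.nil))) (nat_lit 38) (nat_lit 0),
  Rule.mk (nat_lit 0) (nat_lit 38) (Steps.fwd (nat_lit 4096) (Steps.fwd (nat_lit 0) (Steps.fwd (nat_lit 4608) Steps.nil))) (nat_lit 38) (nat_lit 0),
  Rule.mk (nat_lit 0) (nat_lit 38) (Steps.bwd (nat_lit 8) (Steps.fwd (nat_lit 0) (Steps.bwd (nat_lit 9) Steps.nil))) (nat_lit 38) (nat_lit 0),
  Rule.mk (nat_lit 0) (nat_lit 38) (Steps.bwd (nat_lit 3) (Steps.bwd (nat_lit 0) (Steps.fwd (nat_lit 1536) Steps.nil))) (nat_lit 38) (nat_lit 0),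
  Rule.mk (nat_lit 9) (nat_lit 28) (Steps.bwd (nat_lit 0) (Steps.bwd (nat_lit 8) Steps.nil)) (nat_lit 38) (nat_lit 0),
  Rule.mk (nat_lit 0) (nat_lit 38) (Steps.bwd (nat_lit 3) (Steps.bwd (nat_lit 0) (Steps.bwd (nat_lit 2) Steps.nil))) (nat_lit 38) (nat_lit 0),
  Rule.mk (nat_lit 0) (nat_lit 38) (Steps.fwd (nat_lit 1024) (Steps.fwd (nat_lit 0) (Steps.bwd (nat_lit 2) Steps.nil))) (nat_lit 38) (nat_lit 0),
  Rule.mk (nat_lit 1) (nat_lit 28) (Steps.bwd (nat_lit 0) (Steps.bwd (nat_lit 1) Steps.nil)) (nat_lit 38) (nat_lit 0),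
  Rule.mk (nat_lit 0) (nat_lit 38) (Steps.bwd (nat_lit 8) (Steps.fwd (nat_lit 0) (Steps.fwd (nat_lit 4096) Steps.nil))) (nat_lit 38) (nat_lit 0),
  Rule.mk (nat_lit 0) (nat_lit 38) (Steps.fwd (nat_lit 4096) (Steps.fwd (nat_lit 0) (Steps.bwd (nat_lit 8) Steps.nil))) (nat_lit 38) (nat_lit 0),
  Rule.mk (nat_lit 2) (nat_lit 28) (Steps.bwd (nat_lit 0) (Steps.bwd (nat_lit 3) Steps.nil)) (nat_lit 38) (nat_lit 0),
  Rule.mk (nat_lit 3) (nat_lit 28) (Steps.bwd (nat_lit 0) (Steps.bwd (nat_lit 2) Steps.nil)) (nat_lit 38) (nat_lit 0),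
  Rule.mk (nat_lit 0) (nat_lit 28) (Steps.fwd (nat_lit 0) (Steps.fwd (nat_lit 0) Steps.nil)) (nat_lit 38) (nat_lit 0),
  Rule.mk (nat_lit 0) (nat_lit 38) (Steps.fwd (nat_lit 4608) (Steps.bwd (nat_lit 0) (Steps.bwd (nat_lit 9) Steps.nil))) (nat_lit 38) (nat_lit 0),
  Rule.mk (nat_lit 0) (nat_lit 38) (Steps.bwd (nat_lit 9) (Steps.fwd (nat_lit 0) (Steps.bwd (nat_lit 8) Steps.nil))) (nat_lit 38) (nat_lit 0),
  Rule.mk (nat_lit 0) (nat_lit 48) (Steps.bwd (nat_lit 0) (Steps.bwd (nat_lit 2) (Steps.bwd (nat_lit 0) (Steps.fwd (nat_lit 1024) Steps.nil)))) (nat_lit 38) (nat_lit 0),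
  Rule.mk (nat_lit 0) (nat_lit 48) (Steps.bwd (nat_lit 7) (Steps.bwd (nat_lit 0) (Steps.fwd (nat_lit 3584) (Steps.fwd (nat_lit 0) Steps.nil)))) (nat_lit 38) (nat_lit 0),
  Rule.mk (nat_lit 0) (nat_lit 58) (Steps.bwd (nat_lit 0) (Steps.fwd (nat_lit 4608) (Steps.fwd (nat_lit 0) (Steps.fwd (nat_lit 4096) (Steps.fwd (nat_lit 0) Steps.nil))))) (nat_lit 38) (nat_lit 0),
  Rule.mk (nat_lit 0) (nat_lit 48) (Steps.bwd (nat_lit 2) (Steps.fwd (nat_lit 0) (Steps.fwd (nat_lit 1024) (Steps.fwd (nat_lit 0) Steps.nil)))) (nat_lit 38) (nat_lit 0),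
  Rule.mk (nat_lit 0) (nat_lit 58) (Steps.bwd (nat_lit 0) (Steps.fwd (nat_lit 3584) (Steps.fwd (nat_lit 0) (Steps.fwd (nat_lit 3584) (Steps.fwd (nat_lit 0) Steps.nil))))) (nat_lit 38) (nat_lit 0),
  Rule.mk (nat_lit 0) (nat_lit 48) (Steps.bwd (nat_lit 0) (Steps.bwd (nat_lit 9) (Steps.fwd (nat_lit 0) (Steps.bwd (nat_lit 8) Steps.nil)))) (nat_lit 38) (nat_lit 0),
  Rule.mk (nat_lit 0) (nat_lit 38) (Steps.bwd (nat_lit 2) (Steps.fwd (nat_lit 0) (Steps.fwd (nat_lit 1024) Steps.nil))) (nat_lit 38) (nat_lit 0),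
  Rule.mk (nat_lit 0) (nat_lit 38) (Steps.bwd (nat_lit 3) (Steps.fwd (nat_lit 0) (Steps.bwd (nat_lit 2) Steps.nil))) (nat_lit 38) (nat_lit 0),
  Rule.mk (nat_lit 0) (nat_lit 38) (Steps.bwd (nat_lit 1) (Steps.fwd (nat_lit 0) (Steps.fwd (nat_lit 512) Steps.nil))) (nat_lit 38) (nat_lit 0),
  Rule.mk (nat_lit 0) (nat_lit 48) (Steps.fwd (nat_lit 4608) (Steps.fwd (nat_lit 0) (Steps.fwd (nat_lit 4096) (Steps.fwd (nat_lit 0) Steps.nil)))) (nat_lit 38) (nat_lit 0),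
  Rule.mk (nat_lit 8) (nat_lit 28) (Steps.bwd (nat_lit 0) (Steps.bwd (nat_lit 9) Steps.nil)) (nat_lit 38) (nat_lit 0),
  Rule.mk (nat_lit 0) (nat_lit 48) (Steps.bwd (nat_lit 0) (Steps.bwd (nat_lit 8) (Steps.bwd (nat_lit 0) (Steps.fwd (nat_lit 4096) Steps.nil)))) (nat_lit 38) (nat_lit 0),
  Rule.mk (nat_lit 0) (nat_lit 48) (Steps.bwd (nat_lit 0) (Steps.bwd (nat_lit 1) (Steps.fwd (nat_lit 0) (Steps.fwd (nat_lit 512) Steps.nil)))) (nat_lit 38) (nat_lit 0)]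
noncomputable def R : List (List (Rule)) := [R_0, R_1, R_2]
def LW : List Word := [[], [0], [2], [3], [4], [6], [8], [10], [12], [13], [0], [1], [2], [3], [4], [5], [6], [7], [8], [9], [10], [11]]
def par : Par := ⟨9, 5, 14, 23, 511, 16383, 8388607⟩
theorem hpar : par.ok := by decide
theorem hR0_0 : lall (R) (fun l => lall l (ruleOK Rc0 LW par)) = true := by decide +kernel
theorem hR0 : lall (R) (fun l => lall l (ruleOK Rc0 LW par)) = true := hR0_0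
theorem hR : RulesOK Rc0 LW par R := rulesOK_of rfl hR0
def cols : List (ℕ × ℕ) := [(512, 1), (1024, 3), (2048, 4), (2560, 5), (3072, 6), (3584, 7), (4096, 9)]
theorem hcols : lall cols (colOK Rc0 LW par) = true := by decide +kernel
noncomputable def JS0 : List ℕ := [nat_lit 0x1f8101f868001fc1c131f87d04004001f481068811f464001f0071f00c7b0007b020140f0140f1700c0702407180200600806060000a0000a1701c030087916004780180215000010147714000030107613010051d4731200c741c844741c44071028100440f028710f008041c038011bc340000c000c1c0091bc6e0b1b8081b828040280c02c0c034040900c0c00c20021b41c001ac031ac186a004021a814031a869040006901469031a0021a008670146701,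
  nat_lit 0x2050920e2540f244bc00240340d03c91240b800064902d070270942103891240b000018902b00003244902a00c2b248a40000419004a08f0100323c6c150108e272388d260181f25c3025c96234948c0681b2306c8b0688b1a0449322890072308a232240822408050108822020871f0040021c1d0501d21c84002181a2180c85040850201015210808520c7c010000221c1121c021e0008200c8206204030088105044812007403038830348303c801c1fc080447f1b,
  nat_lit 0xb80a8a70a2b4a6482d40102ca647084a54602cb4100201e2b81a45034024003403442940242038030250ca1009080600c094101002402a001274fc9b000f8152c000268f41a27801264f00326c01264ec9b26800260e899004a2260e40328400260e0a000800260dc022941605c1828c983600422264b403004970a25c961000816074963501c1c254d00401497254cc1525c943201c020049531260060040030,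
  nat_lit 0xbf000012f56c02068bd232f00b2f0080005c39138390d8bf5a0200a2f0bb580001906c143280c2ed640d04cbc2ed60bc004002e95c020c8ba29000bb33c5b33cbb2e958012e4000e04c0e000550ccb9000b8542e0082e0080e05c020053c1600400035380d32c621845833cb6530c0c6108b5520444c2d0382632cb35109c060302b5002c2a098054f0a4250100a4e02c022ec273b2e826028013b000b9094094d004ad0140416010ac0001f140781b068ab4c04c2e2c8aa4b0a8b12a528043042c2a448af0a4a849,
  nat_lit 0x201038341b4cf0d4cf02358ce1f3380c02cce6c004d5334900d331a81f3301cdb330982a158cd331ac011705d1905d3b8cc5a368cb6a344cb070004b3408c4938c6e38c4c32cca69058d3008c96800c280a4c9670082832198d1120c7650041033cc7640a8123198c003480f620c4c63158401000c611422348c560008c5378c45f30c3330c08c50d0c2013082f3080803114c120000c1308271084500978c000cc200974032fc0010c40094c05c094bf008be54,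
  nat_lit 0xc04388e0330c8e237df80600400380c4020c8de0e384f6375f40037034f40b4dd371f0000ecdc7b3e86e1b45f0b0dd371e8000a0dc2b00c04374dc2e3b506375e43e41cdc71044db0738c0436ca41a014da78000d96a1106c034d9773600004000760300d370d77501001024d67404cd9018d573004d80140772000d4080d4033781e34c080107cd2710a4d26a38801349c0013600c349bc1d364d16e000f502588f2344d061,
  nat_lit 0x1312cf17d0ec3a424300ac003ea30013c22c010100805e28003bc148900c62098ed820281b3e800880000404c16870101e3acac1e3a918041206619062164ea86060fa120e985040543a210f639d1807080ef39d2c1e3b8e68300456078e6823d40139ce647008e546008f410394001446a204710e20451000e380060e7000e23c394e4000e23a38c003b0e2393ac02000e33700820064f005cef38d4c01108e42d00c0138828e238440023f03a385fc060e4e034,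
  nat_lit 0xb8725213b114024213c2ed384340100105071405155e588f95895e5154007105000019900011411980f09d05411603b07c07000ec000051401e60021e87540c480000805449c8020780d40a5c65039019600c7e19d0112078664004419420054021426004ff95008fe46000350e9187206c0c00cfd050ec1100cfc330d85f3f0fb8e000fe0301b4d0252d1f48520d253ea500d0d8f92f000040200593004213e1441c3dc3408000400001c629200c00054f5910046905a400d044023d23c50058023cccc02170f33ca3816128490e03745cf28d,
  nat_lit 0xd850057d022c40560c005bec000032a800454023e40baf0010a00581ae00402aa00009aa420085e808ad00402aa3dc073be9976004e1ac5bc085ceac0201aa8af01aa4d8016a0f10196ca73c40538e996e010df431c404a5574045529160010d2a34ec04a22b00431a853c0106e9f52803236805600d2f9f4dc0319e7d3d008779e1d0014f67520004249c0c00143e6d16000149a,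
  nat_lit 0x6002880000aa93401421002e40000c0508ed800006a97101401002e085018009e1e806b701d9000490b64b40038ad405022a92a0017fb300c08aa4a001046d12700011b300001aa6200660000b200009aa]
theorem S0_c : blocks (facts 9 5 14 23 511 16383 8388607 10 1023 8 255 A R 32) 32 JS0 359 = true := by decide +kernel
theorem S0 : On (Step.{u} Rc0 LW par A) 359 679 :=
  steps_of_blocks hpar hR S0_c (by decide +kernel)
theorem D0_c : allB (defOK 9 14 23 511 8388607 354 A K) 1 2 = true := by decide +kernel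
theorem D0 : On (fun r => defOK par.W par.WL par.E par.mW par.mE 354 A K r = true) 256 384 :=
  On.of_allB D0_c
noncomputable def JW0 : List ℕ := [nat_lit 0x7540282508a194428a]
theorem W0_c : blocks (rows 9 5 14 23 511 16383 8388607 11 2047 77 A 679 1 cols 18) 18 JW0 0 = true := by decide +kernel
theorem W0 : On (Row.{u} Rc0 LW par A 679 1 cols) 0 18 :=
  rows_of_blocks hpar (by decide) hcols W0_c (by decide +kernel)
theorem idx : Idx.{u} Rc0 [[0], [2], [4], [6], [8], [10], [12]] [[0], [2], [4], [6], [8], [10]] 1 :=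
  idx_of_cert hpar hR (K := K) (by decide +kernel) (T := 354) (T' := 384) (by decide) D0
    (subs := [1,2,4,5,6,7]) (by decide +kernel) (T1 := 359) (by decide) (N := 679) S0
    (by decide) (n' := 18) (by decide) W0 (by decide +kernel) (by decide +kernel)
end c0
namespace c1
noncomputable def A_0 : List (ℕ) := [nat_lit 0x48000000080401400000801000c0200100800a01002802000c0200780400e0180140e003c0800484001208902211284c1a50a85460c08842a1438102880783021406842612082408509024a10061c2004084018506030c0c0610180440301c607038e0e0620060a180c0600582480907101c0a30281440502820e0508040328280660183c80f019c1e0f28381e10180440f0290100d20340640180420100940201200402600808a020110040238040460100820200200400380000600000a0000100000100000100054e050a24201310102490704461008241e0f10381c20083440c0620160b10281480482440804200e0730180c90281460402240603180804800805000]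
noncomputable def A : List (List (ℕ)) := [A_0]
noncomputable def K_0 : List (ℕ) := [nat_lit 0x2291389446210f87436190b854261107834160903814060000]
noncomputable def K : List (List (ℕ)) := [K_0]
noncomputable def R_0 : List (Rule) := [Rule.mk (nat_lit 8) (nat_lit 24) (Steps.bwd (nat_lit 8) (Steps.bwd (nat_lit 8) Steps.nil)) (nat_lit 22) (nat_lit 0),
  Rule.mk (nat_lit 1) (nat_lit 33) (Steps.fwd (nat_lit 4096) (Steps.fwd (nat_lit 512) (Steps.bwd (nat_lit 8) Steps.nil))) (nat_lit 24) (nat_lit 2),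
  Rule.mk (nat_lit 6) (nat_lit 33) (Steps.fwd (nat_lit 4096) (Steps.fwd (nat_lit 2048) (Steps.bwd (nat_lit 8) Steps.nil))) (nat_lit 26) (nat_lit 2),
  Rule.mk (nat_lit 7) (nat_lit 33) (Steps.bwd (nat_lit 8) (Steps.fwd (nat_lit 3584) (Steps.bwd (nat_lit 8) Steps.nil))) (nat_lit 30) (nat_lit 1),
  Rule.mk (nat_lit 4) (nat_lit 42) (Steps.fwd (nat_lit 4096) (Steps.fwd (nat_lit 2048) (Steps.fwd (nat_lit 3072) (Steps.bwd (nat_lit 8) Steps.nil)))) (nat_lit 28) (nat_lit 2),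
  Rule.mk (nat_lit 5) (nat_lit 69) (Steps.fwd (nat_lit 4096) (Steps.fwd (nat_lit 512) (Steps.bwd (nat_lit 2) (Steps.fwd (nat_lit 2048) (Steps.fwd (nat_lit 1024) (Steps.fwd (nat_lit 2560) (Steps.bwd (nat_lit 8) Steps.nil))))))) (nat_lit 34) (nat_lit 2),
  Rule.mk (nat_lit 4) (nat_lit 42) (Steps.fwd (nat_lit 3072) (Steps.fwd (nat_lit 3584) (Steps.fwd (nat_lit 2048) (Steps.bwd (nat_lit 7) Steps.nil)))) (nat_lit 20) (nat_lit 1),
  Rule.mk (nat_lit 5) (nat_lit 69) (Steps.bwd (nat_lit 8) (Steps.bwd (nat_lit 2) (Steps.fwd (nat_lit 2048) (Steps.fwd (nat_lit 1024) (Steps.fwd (nat_lit 4096) (Steps.fwd (nat_lit 3072) (Steps.fwd (nat_lit 2048) Steps.nil))))))) (nat_lit 32) (nat_lit 0),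
  Rule.mk (nat_lit 4) (nat_lit 69) (Steps.bwd (nat_lit 3) (Steps.fwd (nat_lit 4096) (Steps.fwd (nat_lit 3072) (Steps.fwd (nat_lit 2048) (Steps.fwd (nat_lit 2560) (Steps.bwd (nat_lit 8) (Steps.fwd (nat_lit 1536) Steps.nil))))))) (nat_lit 32) (nat_lit 3),
  Rule.mk (nat_lit 4) (nat_lit 249) (Steps.bwd (nat_lit 2) (Steps.bwd (nat_lit 8) (Steps.bwd (nat_lit 2) (Steps.bwd (nat_lit 8) (Steps.bwd (nat_lit 2) (Steps.bwd (nat_lit 8) (Steps.bwd (nat_lit 6) (Steps.bwd (nat_lit 9) (Steps.bwd (nat_lit 3) (Steps.bwd (nat_lit 9) (Steps.bwd (nat_lit 3) (Steps.fwd (nat_lit 4096) (Steps.fwd (nat_lit 1024) (Steps.fwd (nat_lit 2048) (Steps.bwd (nat_lit 2) (Steps.bwd (nat_lit 8) (Steps.fwd (nat_lit 1536) (Steps.fwd (nat_lit 4608) (Steps.fwd (nat_lit 1536) (Steps.fwd (nat_lit 4608) (Steps.fwd (nat_lit 3072) (Steps.fwd (nat_lit 4096) (Steps.fwd (nat_lit 1024) (Steps.fwd (nat_lit 4096) (Steps.fwd (nat_lit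 1024) (Steps.fwd (nat_lit 4096) (Steps.fwd (nat_lit 1024) Steps.nil))))))))))))))))))))))))))) (nat_lit 36) (nat_lit 0),
  Rule.mk (nat_lit 4) (nat_lit 33) (Steps.bwd (nat_lit 8) (Steps.bwd (nat_lit 6) (Steps.bwd (nat_lit 9) Steps.nil))) (nat_lit 26) (nat_lit 0),
  Rule.mk (nat_lit 2) (nat_lit 24) (Steps.bwd (nat_lit 2) (Steps.bwd (nat_lit 2) Steps.nil)) (nat_lit 10) (nat_lit 0),
  Rule.mk (nat_lit 1) (nat_lit 33) (Steps.bwd (nat_lit 3) (Steps.bwd (nat_lit 7) (Steps.bwd (nat_lit 2) Steps.nil))) (nat_lit 12) (nat_lit 1),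
  Rule.mk (nat_lit 5) (nat_lit 33) (Steps.bwd (nat_lit 2) (Steps.fwd (nat_lit 2560) (Steps.bwd (nat_lit 2) Steps.nil))) (nat_lit 14) (nat_lit 0),
  Rule.mk (nat_lit 7) (nat_lit 42) (Steps.fwd (nat_lit 1024) (Steps.fwd (nat_lit 512) (Steps.bwd (nat_lit 2) (Steps.bwd (nat_lit 1) Steps.nil)))) (nat_lit 16) (nat_lit 4),
  Rule.mk (nat_lit 4) (nat_lit 69) (Steps.fwd (nat_lit 1024) (Steps.fwd (nat_lit 4096) (Steps.fwd (nat_lit 3072) (Steps.fwd (nat_lit 2048) (Steps.fwd (nat_lit 2560) (Steps.bwd (nat_lit 8) (Steps.bwd (nat_lit 2) Steps.nil))))))) (nat_lit 32) (nat_lit 3),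
  Rule.mk (nat_lit 6) (nat_lit 42) (Steps.bwd (nat_lit 7) (Steps.fwd (nat_lit 2048) (Steps.fwd (nat_lit 3584) (Steps.fwd (nat_lit 2048) Steps.nil)))) (nat_lit 20) (nat_lit 2),
  Rule.mk (nat_lit 5) (nat_lit 69) (Steps.bwd (nat_lit 8) (Steps.bwd (nat_lit 2) (Steps.fwd (nat_lit 2048) (Steps.bwd (nat_lit 3) (Steps.bwd (nat_lit 9) (Steps.fwd (nat_lit 3072) (Steps.fwd (nat_lit 2048) Steps.nil))))))) (nat_lit 32) (nat_lit 0),
  Rule.mk (nat_lit 2) (nat_lit 33) (Steps.fwd (nat_lit 2560) (Steps.fwd (nat_lit 1536) (Steps.bwd (nat_lit 5) Steps.nil))) (nat_lit 14) (nat_lit 1),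
  Rule.mk (nat_lit 1) (nat_lit 42) (Steps.fwd (nat_lit 2560) (Steps.bwd (nat_lit 1) (Steps.fwd (nat_lit 2048) (Steps.bwd (nat_lit 5) Steps.nil)))) (nat_lit 18) (nat_lit 4),
  Rule.mk (nat_lit 4) (nat_lit 42) (Steps.bwd (nat_lit 1) (Steps.fwd (nat_lit 2560) (Steps.bwd (nat_lit 1) (Steps.bwd (nat_lit 5) Steps.nil)))) (nat_lit 19) (nat_lit 4),
  Rule.mk (nat_lit 6) (nat_lit 69) (Steps.bwd (nat_lit 8) (Steps.bwd (nat_lit 2) (Steps.fwd (nat_lit 2048) (Steps.bwd (nat_lit 3) (Steps.bwd (nat_lit 9) (Steps.bwd (nat_lit 5) (Steps.fwd (nat_lit 2048) Steps.nil))))))) (nat_lit 33) (nat_lit 3),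
  Rule.mk (nat_lit 4) (nat_lit 42) (Steps.fwd (nat_lit 512) (Steps.fwd (nat_lit 2560) (Steps.fwd (nat_lit 512) (Steps.bwd (nat_lit 5) Steps.nil)))) (nat_lit 19) (nat_lit 4),
  Rule.mk (nat_lit 0) (nat_lit 42) (Steps.bwd (nat_lit 2) (Steps.bwd (nat_lit 1) (Steps.fwd (nat_lit 1024) (Steps.fwd (nat_lit 3584) Steps.nil)))) (nat_lit 12) (nat_lit 3),
  Rule.mk (nat_lit 3) (nat_lit 24) (Steps.bwd (nat_lit 0) (Steps.bwd (nat_lit 2) Steps.nil)) (nat_lit 38) (nat_lit 0),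
  Rule.mk (nat_lit 8) (nat_lit 24) (Steps.bwd (nat_lit 0) (Steps.fwd (nat_lit 4096) Steps.nil)) (nat_lit 38) (nat_lit 0),
  Rule.mk (nat_lit 7) (nat_lit 42) (Steps.fwd (nat_lit 1024) (Steps.bwd (nat_lit 1) (Steps.fwd (nat_lit 1536) (Steps.bwd (nat_lit 1) Steps.nil)))) (nat_lit 16) (nat_lit 4),
  Rule.mk (nat_lit 6) (nat_lit 42) (Steps.fwd (nat_lit 3584) (Steps.fwd (nat_lit 2048) (Steps.fwd (nat_lit 3584) (Steps.fwd (nat_lit 2048) Steps.nil)))) (nat_lit 20) (nat_lit 2),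
  Rule.mk (nat_lit 8) (nat_lit 24) (Steps.bwd (nat_lit 8) (Steps.fwd (nat_lit 4608) Steps.nil)) (nat_lit 22) (nat_lit 0),
  Rule.mk (nat_lit 4) (nat_lit 33) (Steps.bwd (nat_lit 8) (Steps.fwd (nat_lit 3072) (Steps.fwd (nat_lit 4096) Steps.nil))) (nat_lit 26) (nat_lit 0),
  Rule.mk (nat_lit 6) (nat_lit 42) (Steps.bwd (nat_lit 8) (Steps.fwd (nat_lit 2048) (Steps.fwd (nat_lit 4096) (Steps.fwd (nat_lit 2048) Steps.nil)))) (nat_lit 28) (nat_lit 0),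
  Rule.mk (nat_lit 5) (nat_lit 69) (Steps.bwd (nat_lit 8) (Steps.fwd (nat_lit 1536) (Steps.fwd (nat_lit 2048) (Steps.bwd (nat_lit 3) (Steps.fwd (nat_lit 4096) (Steps.fwd (nat_lit 3072) (Steps.fwd (nat_lit 2048) Steps.nil))))))) (nat_lit 32) (nat_lit 0),
  Rule.mk (nat_lit 1) (nat_lit 33) (Steps.bwd (nat_lit 9) (Steps.bwd (nat_lit 1) (Steps.fwd (nat_lit 4608) Steps.nil))) (nat_lit 24) (nat_lit 2),
  Rule.mk (nat_lit 7) (nat_lit 33) (Steps.bwd (nat_lit 9) (Steps.fwd (nat_lit 3584) (Steps.fwd (nat_lit 4096) Steps.nil))) (nat_lit 31) (nat_lit 0),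
  Rule.mk (nat_lit 5) (nat_lit 69) (Steps.bwd (nat_lit 9) (Steps.bwd (nat_lit 1) (Steps.fwd (nat_lit 1536) (Steps.fwd (nat_lit 2048) (Steps.bwd (nat_lit 3) (Steps.bwd (nat_lit 5) (Steps.bwd (nat_lit 8) Steps.nil))))))) (nat_lit 34) (nat_lit 2),
  Rule.mk (nat_lit 5) (nat_lit 69) (Steps.bwd (nat_lit 9) (Steps.fwd (nat_lit 512) (Steps.bwd (nat_lit 2) (Steps.fwd (nat_lit 2048) (Steps.fwd (nat_lit 1024) (Steps.fwd (nat_lit 2560) (Steps.fwd (nat_lit 4608) Steps.nil))))))) (nat_lit 34) (nat_lit 2),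
  Rule.mk (nat_lit 1) (nat_lit 42) (Steps.fwd (nat_lit 2048) (Steps.bwd (nat_lit 5) (Steps.fwd (nat_lit 512) (Steps.bwd (nat_lit 5) Steps.nil)))) (nat_lit 18) (nat_lit 1),
  Rule.mk (nat_lit 1) (nat_lit 42) (Steps.bwd (nat_lit 2) (Steps.bwd (nat_lit 1) (Steps.fwd (nat_lit 3584) (Steps.fwd (nat_lit 1024) Steps.nil)))) (nat_lit 16) (nat_lit 1),
  Rule.mk (nat_lit 1) (nat_lit 33) (Steps.bwd (nat_lit 9) (Steps.fwd (nat_lit 512) (Steps.bwd (nat_lit 8) Steps.nil))) (nat_lit 24) (nat_lit 2),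
  Rule.mk (nat_lit 8) (nat_lit 33) (Steps.bwd (nat_lit 1) (Steps.fwd (nat_lit 4096) (Steps.bwd (nat_lit 1) Steps.nil))) (nat_lit 24) (nat_lit 1),
  Rule.mk (nat_lit 1) (nat_lit 42) (Steps.bwd (nat_lit 7) (Steps.bwd (nat_lit 3) (Steps.bwd (nat_lit 1) (Steps.fwd (nat_lit 1536) Steps.nil)))) (nat_lit 16) (nat_lit 3),
  Rule.mk (nat_lit 3) (nat_lit 33) (Steps.bwd (nat_lit 7) (Steps.fwd (nat_lit 1536) (Steps.bwd (nat_lit 1) Steps.nil))) (nat_lit 12) (nat_lit 2),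
  Rule.mk (nat_lit 5) (nat_lit 33) (Steps.bwd (nat_lit 3) (Steps.fwd (nat_lit 2560) (Steps.fwd (nat_lit 1024) Steps.nil))) (nat_lit 15) (nat_lit 1),
  Rule.mk (nat_lit 5) (nat_lit 42) (Steps.fwd (nat_lit 512) (Steps.fwd (nat_lit 2048) (Steps.bwd (nat_lit 5) (Steps.fwd (nat_lit 512) Steps.nil)))) (nat_lit 18) (nat_lit 0),
  Rule.mk (nat_lit 4) (nat_lit 42) (Steps.bwd (nat_lit 1) (Steps.fwd (nat_lit 2560) (Steps.bwd (nat_lit 1) (Steps.fwd (nat_lit 2560) Steps.nil)))) (nat_lit 19) (nat_lit 4),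
  Rule.mk (nat_lit 0) (nat_lit 78) (Steps.bwd (nat_lit 9) (Steps.fwd (nat_lit 3072) (Steps.fwd (nat_lit 2048) (Steps.fwd (nat_lit 2560) (Steps.fwd (nat_lit 4608) (Steps.fwd (nat_lit 1536) (Steps.fwd (nat_lit 2048) (Steps.bwd (nat_lit 3) Steps.nil)))))))) (nat_lit 32) (nat_lit 4),
  Rule.mk (nat_lit 0) (nat_lit 33) (Steps.fwd (nat_lit 512) (Steps.fwd (nat_lit 0) (Steps.fwd (nat_lit 512) Steps.nil))) (nat_lit 38) (nat_lit 0),
  Rule.mk (nat_lit 0) (nat_lit 33) (Steps.fwd (nat_lit 4608) (Steps.bwd (nat_lit 0) (Steps.bwd (nat_lit 9) Steps.nil))) (nat_lit 38) (nat_lit 0),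
  Rule.mk (nat_lit 0) (nat_lit 33) (Steps.bwd (nat_lit 8) (Steps.fwd (nat_lit 0) (Steps.bwd (nat_lit 9) Steps.nil))) (nat_lit 38) (nat_lit 0),
  Rule.mk (nat_lit 0) (nat_lit 42) (Steps.bwd (nat_lit 0) (Steps.bwd (nat_lit 2) (Steps.bwd (nat_lit 0) (Steps.fwd (nat_lit 1024) Steps.nil)))) (nat_lit 38) (nat_lit 0),
  Rule.mk (nat_lit 0) (nat_lit 24) (Steps.fwd (nat_lit 0) (Steps.fwd (nat_lit 0) Steps.nil)) (nat_lit 38) (nat_lit 0),
  Rule.mk (nat_lit 0) (nat_lit 33) (Steps.bwd (nat_lit 7) (Steps.fwd (nat_lit 0) (Steps.fwd (nat_lit 3584) Steps.nil))) (nat_lit 38) (nat_lit 0),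
  Rule.mk (nat_lit 0) (nat_lit 33) (Steps.bwd (nat_lit 8) (Steps.fwd (nat_lit 0) (Steps.fwd (nat_lit 4096) Steps.nil))) (nat_lit 38) (nat_lit 0),
  Rule.mk (nat_lit 0) (nat_lit 42) (Steps.fwd (nat_lit 512) (Steps.bwd (nat_lit 0) (Steps.bwd (nat_lit 1) (Steps.fwd (nat_lit 0) Steps.nil)))) (nat_lit 38) (nat_lit 0),
  Rule.mk (nat_lit 0) (nat_lit 33) (Steps.bwd (nat_lit 9) (Steps.fwd (nat_lit 0) (Steps.bwd (nat_lit 8) Steps.nil))) (nat_lit 38) (nat_lit 0),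
  Rule.mk (nat_lit 0) (nat_lit 51) (Steps.bwd (nat_lit 0) (Steps.bwd (nat_lit 7) (Steps.bwd (nat_lit 0) (Steps.bwd (nat_lit 7) (Steps.fwd (nat_lit 0) Steps.nil))))) (nat_lit 38) (nat_lit 0),
  Rule.mk (nat_lit 9) (nat_lit 24) (Steps.bwd (nat_lit 0) (Steps.bwd (nat_lit 8) Steps.nil)) (nat_lit 38) (nat_lit 0)]
noncomputable def R : List (List (Rule)) := [R_0]
def LW : List Word := [[], [0], [2], [3], [4], [6], [8], [10], [12], [13], [0], [1], [2], [3], [4], [5], [6], [7], [8], [9], [10], [11]]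
def par : Par := ⟨9, 5, 14, 23, 511, 16383, 8388607⟩
theorem hpar : par.ok := by decide
theorem hR0_0 : lall (R) (fun l => lall l (ruleOK Rc1 LW par)) = true := by decide +kernel
theorem hR0 : lall (R) (fun l => lall l (ruleOK Rc1 LW par)) = true := hR0_0
theorem hR : RulesOK Rc1 LW par R := rulesOK_of rfl hR0
def cols : List (ℕ × ℕ) := [(512, 1), (1024, 3), (2048, 4), (2560, 5), (3072, 6), (3584, 7), (4096, 9)]
theorem hcols : lall cols (colOK Rc1 LW par) = true := by decide +kernel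
noncomputable def JS0 : List ℕ := [nat_lit 0x6c02740a0002801c038041c296c5601685600641226020a9815004042a1410090200970000c5c2d050a450b0080e06002a01050180aa000580e4c1000150a40c251224070080002880c540b06038540340020203008f0081838700014263434193042200f96190d06c381d0f07c40211108c140f0703c142311084401f0f074381b0d064a11024180d058244448880e2208000111030160c1110030100c00387c021f0c080704820120a020c030281c062808061d1002050086000300020d0641,
  nat_lit 0x16401c80424001d00f80101332b000a7b80007981048001c6c01026651008375198004da00005989c024100e44b0091711e0047d8038000abc76001d8f04218090eae0001c0203b404001181ac1e02c0158006e08a86c08210ca9008e404333c000d0dd009028c271b00c08309800030083651e8482221088405f20d82209070242c308c0e1317c43a0a0ba1008000a06058180b00000816023e030680de]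
theorem S0_c : blocks (facts 9 5 14 23 511 16383 8388607 9 511 6 63 A R 32) 32 JS0 282 = true := by decide +kernel
theorem S0 : On (Step.{u} Rc1 LW par A) 282 346 :=
  steps_of_blocks hpar hR S0_c (by decide +kernel)
theorem D0_c : allB (defOK 9 14 23 511 8388607 277 A K) 1 2 = true := by decide +kernel
theorem D0 : On (fun r => defOK par.W par.WL par.E par.mW par.mE 277 A K r = true) 256 384 :=
  On.of_allB D0_c
noncomputable def JW0 : List ℕ := [nat_lit 0x120082210862208a]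
theorem W0_c : blocks (rows 9 5 14 23 511 16383 8388607 10 1023 70 A 346 1 cols 18) 18 JW0 0 = true := by decide +kernel
theorem W0 : On (Row.{u} Rc1 LW par A 346 1 cols) 0 18 :=
  rows_of_blocks hpar (by decide) hcols W0_c (by decide +kernel)
theorem idx : Idx.{u} Rc1 [[0], [2], [4], [6], [8], [10], [12]] [[0], [2], [4], [6], [8], [10]] 1 :=
  idx_of_cert hpar hR (K := K) (by decide +kernel) (T := 277) (T' := 384) (by decide) D0
    (subs := [1,2,4,5,6,7]) (by decide +kernel) (T1 := 282) (by decide) (N := 346) S0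
    (by decide) (n' := 18) (by decide) W0 (by decide +kernel) (by decide +kernel)
end c1
namespace c2
noncomputable def A_0 : List (ℕ) := [nat_lit 0x200000006030900000006000026000048000028000230000320000100890000000316805c050048320118000010080062700b00800880400201802003003c060050300260780200c00a00800488ca12088036120088320108b0a2f17905e2f38345e2130b042f1704262740b80c11681422c1194440528843631088802a10804a1918484670c8446190900341900900a602820c08041c522908a84a3150a8a2309105428386c1e91409c82906944e27183024113898a26131c080c08980a512890a08120c241118901a1118144230e103e1b306c3640d86c20902143614205c12508830e110204220c28301860603080c0220180f383c188018286030180160920241e407828c0a0510140a083c1420100ca0a01980610204006708040a0f0804060110400a404034c0e0190060108040250080480100980202280804401008e0101180402080800801000e00001800002800004000004000004002f08645c7158b522c160c4c2b40145430d8a46281424362738144c90889441b121c462310104421088502010083e1f40783c60e87521c0e0c0e1b483c3420c8650180c082e1740582c60a8552140a0c0c1348482430884521008081e0f10041c40683440c0620160b10281480482440804200e0730180c90281460402240603180804800805000]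
noncomputable def A : List (List (ℕ)) := [A_0]
noncomputable def K_0 : List (ℕ) := [nat_lit 0x974b6592b954a6512793496492391486411f8f476391b8d46631178b456291389446210f87436190b854261107834160903814060000]
noncomputable def K : List (List (ℕ)) := [K_0]
noncomputable def R_0 : List (Rule) := [Rule.mk (nat_lit 8) (nat_lit 25) (Steps.bwd (nat_lit 8) (Steps.bwd (nat_lit 8) Steps.nil)) (nat_lit 22) (nat_lit 0),
  Rule.mk (nat_lit 1) (nat_lit 34) (Steps.fwd (nat_lit 4096) (Steps.fwd (nat_lit 512) (Steps.bwd (nat_lit 8) Steps.nil))) (nat_lit 24) (nat_lit 2),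
  Rule.mk (nat_lit 6) (nat_lit 34) (Steps.fwd (nat_lit 4096) (Steps.fwd (nat_lit 2048) (Steps.bwd (nat_lit 8) Steps.nil))) (nat_lit 26) (nat_lit 2),
  Rule.mk (nat_lit 7) (nat_lit 34) (Steps.bwd (nat_lit 8) (Steps.fwd (nat_lit 3584) (Steps.bwd (nat_lit 8) Steps.nil))) (nat_lit 30) (nat_lit 1),
  Rule.mk (nat_lit 4) (nat_lit 43) (Steps.fwd (nat_lit 4096) (Steps.fwd (nat_lit 2048) (Steps.fwd (nat_lit 3072) (Steps.bwd (nat_lit 8) Steps.nil)))) (nat_lit 28) (nat_lit 2),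
  Rule.mk (nat_lit 5) (nat_lit 70) (Steps.fwd (nat_lit 4096) (Steps.fwd (nat_lit 512) (Steps.bwd (nat_lit 2) (Steps.fwd (nat_lit 2048) (Steps.fwd (nat_lit 1024) (Steps.fwd (nat_lit 2560) (Steps.bwd (nat_lit 8) Steps.nil))))))) (nat_lit 34) (nat_lit 2),
  Rule.mk (nat_lit 4) (nat_lit 43) (Steps.fwd (nat_lit 3072) (Steps.fwd (nat_lit 3584) (Steps.fwd (nat_lit 2048) (Steps.bwd (nat_lit 7) Steps.nil)))) (nat_lit 20) (nat_lit 1),
  Rule.mk (nat_lit 5) (nat_lit 70) (Steps.bwd (nat_lit 8) (Steps.bwd (nat_lit 2) (Steps.fwd (nat_lit 2048) (Steps.fwd (nat_lit 1024) (Steps.fwd (nat_lit 4096) (Steps.fwd (nat_lit 3072) (Steps.fwd (nat_lit 2048) Steps.nil))))))) (nat_lit 32) (nat_lit 0),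
  Rule.mk (nat_lit 4) (nat_lit 70) (Steps.bwd (nat_lit 3) (Steps.fwd (nat_lit 4096) (Steps.fwd (nat_lit 3072) (Steps.fwd (nat_lit 2048) (Steps.fwd (nat_lit 2560) (Steps.bwd (nat_lit 8) (Steps.fwd (nat_lit 1536) Steps.nil))))))) (nat_lit 32) (nat_lit 3),
  Rule.mk (nat_lit 6) (nat_lit 268) (Steps.bwd (nat_lit 4) (Steps.bwd (nat_lit 2) (Steps.bwd (nat_lit 8) (Steps.bwd (nat_lit 2) (Steps.bwd (nat_lit 8) (Steps.bwd (nat_lit 2) (Steps.bwd (nat_lit 8) (Steps.bwd (nat_lit 6) (Steps.bwd (nat_lit 9) (Steps.bwd (nat_lit 3) (Steps.bwd (nat_lit 9) (Steps.bwd (nat_lit 3) (Steps.fwd (nat_lit 4096) (Steps.fwd (nat_lit 1024) (Steps.fwd (nat_lit 3072) (Steps.fwd (nat_lit 2048) (Steps.bwd (nat_lit 2) (Steps.bwd (nat_lit 8) (Steps.fwd (nat_lit 1536) (Steps.fwd (nat_lit 4608) (Steps.fwd (nat_lit 1536) (Steps.fwd (nat_lit 4608) (Steps.fwd (nat_lit 3072) (Steps.fwd (nat_lit 4096) (Steps.fwd (nat_lit 1024)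 (Steps.fwd (nat_lit 4096) (Steps.fwd (nat_lit 1024) (Steps.fwd (nat_lit 4096) (Steps.fwd (nat_lit 1024) Steps.nil))))))))))))))))))))))))))))) (nat_lit 36) (nat_lit 14),
  Rule.mk (nat_lit 4) (nat_lit 34) (Steps.bwd (nat_lit 8) (Steps.bwd (nat_lit 6) (Steps.bwd (nat_lit 9) Steps.nil))) (nat_lit 26) (nat_lit 0),
  Rule.mk (nat_lit 2) (nat_lit 25) (Steps.bwd (nat_lit 2) (Steps.bwd (nat_lit 2) Steps.nil)) (nat_lit 10) (nat_lit 0),
  Rule.mk (nat_lit 1) (nat_lit 34) (Steps.bwd (nat_lit 3) (Steps.bwd (nat_lit 7) (Steps.bwd (nat_lit 2) Steps.nil))) (nat_lit 12) (nat_lit 1),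
  Rule.mk (nat_lit 5) (nat_lit 34) (Steps.bwd (nat_lit 2) (Steps.fwd (nat_lit 2560) (Steps.bwd (nat_lit 2) Steps.nil))) (nat_lit 14) (nat_lit 0),
  Rule.mk (nat_lit 7) (nat_lit 43) (Steps.fwd (nat_lit 1024) (Steps.fwd (nat_lit 512) (Steps.bwd (nat_lit 2) (Steps.bwd (nat_lit 1) Steps.nil)))) (nat_lit 16) (nat_lit 4),
  Rule.mk (nat_lit 4) (nat_lit 70) (Steps.fwd (nat_lit 1024) (Steps.fwd (nat_lit 4096) (Steps.fwd (nat_lit 3072) (Steps.fwd (nat_lit 2048) (Steps.fwd (nat_lit 2560) (Steps.bwd (nat_lit 8) (Steps.bwd (nat_lit 2) Steps.nil))))))) (nat_lit 32) (nat_lit 3),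
  Rule.mk (nat_lit 6) (nat_lit 43) (Steps.bwd (nat_lit 7) (Steps.fwd (nat_lit 2048) (Steps.fwd (nat_lit 3584) (Steps.fwd (nat_lit 2048) Steps.nil)))) (nat_lit 20) (nat_lit 2),
  Rule.mk (nat_lit 5) (nat_lit 70) (Steps.bwd (nat_lit 8) (Steps.bwd (nat_lit 2) (Steps.fwd (nat_lit 2048) (Steps.bwd (nat_lit 3) (Steps.bwd (nat_lit 9) (Steps.fwd (nat_lit 3072) (Steps.fwd (nat_lit 2048) Steps.nil))))))) (nat_lit 32) (nat_lit 0),
  Rule.mk (nat_lit 2) (nat_lit 34) (Steps.fwd (nat_lit 2560) (Steps.fwd (nat_lit 1536) (Steps.bwd (nat_lit 5) Steps.nil))) (nat_lit 14) (nat_lit 1),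
  Rule.mk (nat_lit 1) (nat_lit 43) (Steps.fwd (nat_lit 2560) (Steps.bwd (nat_lit 1) (Steps.fwd (nat_lit 2048) (Steps.bwd (nat_lit 5) Steps.nil)))) (nat_lit 18) (nat_lit 4),
  Rule.mk (nat_lit 4) (nat_lit 43) (Steps.bwd (nat_lit 1) (Steps.fwd (nat_lit 2560) (Steps.bwd (nat_lit 1) (Steps.bwd (nat_lit 5) Steps.nil)))) (nat_lit 19) (nat_lit 4),
  Rule.mk (nat_lit 6) (nat_lit 70) (Steps.bwd (nat_lit 8) (Steps.bwd (nat_lit 2) (Steps.fwd (nat_lit 2048) (Steps.bwd (nat_lit 3) (Steps.bwd (nat_lit 9) (Steps.bwd (nat_lit 5) (Steps.fwd (nat_lit 2048) Steps.nil))))))) (nat_lit 33) (nat_lit 3),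
  Rule.mk (nat_lit 4) (nat_lit 43) (Steps.fwd (nat_lit 512) (Steps.fwd (nat_lit 2560) (Steps.fwd (nat_lit 512) (Steps.bwd (nat_lit 5) Steps.nil)))) (nat_lit 19) (nat_lit 4),
  Rule.mk (nat_lit 0) (nat_lit 43) (Steps.bwd (nat_lit 2) (Steps.bwd (nat_lit 1) (Steps.fwd (nat_lit 1024) (Steps.fwd (nat_lit 3584) Steps.nil)))) (nat_lit 12) (nat_lit 3),
  Rule.mk (nat_lit 3) (nat_lit 25) (Steps.bwd (nat_lit 0) (Steps.bwd (nat_lit 2) Steps.nil)) (nat_lit 38) (nat_lit 0),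
  Rule.mk (nat_lit 8) (nat_lit 25) (Steps.bwd (nat_lit 0) (Steps.fwd (nat_lit 4096) Steps.nil)) (nat_lit 38) (nat_lit 0),
  Rule.mk (nat_lit 7) (nat_lit 43) (Steps.fwd (nat_lit 1024) (Steps.bwd (nat_lit 1) (Steps.fwd (nat_lit 1536) (Steps.bwd (nat_lit 1) Steps.nil)))) (nat_lit 16) (nat_lit 4),
  Rule.mk (nat_lit 8) (nat_lit 25) (Steps.bwd (nat_lit 8) (Steps.fwd (nat_lit 4608) Steps.nil)) (nat_lit 22) (nat_lit 0),
  Rule.mk (nat_lit 4) (nat_lit 34) (Steps.bwd (nat_lit 8) (Steps.fwd (nat_lit 3072) (Steps.fwd (nat_lit 4096) Steps.nil))) (nat_lit 26) (nat_lit 0),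
  Rule.mk (nat_lit 6) (nat_lit 43) (Steps.bwd (nat_lit 8) (Steps.fwd (nat_lit 2048) (Steps.fwd (nat_lit 4096) (Steps.fwd (nat_lit 2048) Steps.nil)))) (nat_lit 28) (nat_lit 0),
  Rule.mk (nat_lit 5) (nat_lit 70) (Steps.bwd (nat_lit 8) (Steps.fwd (nat_lit 1536) (Steps.fwd (nat_lit 2048) (Steps.bwd (nat_lit 3) (Steps.fwd (nat_lit 4096) (Steps.fwd (nat_lit 3072) (Steps.fwd (nat_lit 2048) Steps.nil))))))) (nat_lit 32) (nat_lit 0),
  Rule.mk (nat_lit 1) (nat_lit 34) (Steps.bwd (nat_lit 9) (Steps.bwd (nat_lit 1) (Steps.fwd (nat_lit 4608) Steps.nil))) (nat_lit 24) (nat_lit 2),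
  Rule.mk (nat_lit 7) (nat_lit 34) (Steps.bwd (nat_lit 9) (Steps.fwd (nat_lit 3584) (Steps.fwd (nat_lit 4096) Steps.nil))) (nat_lit 31) (nat_lit 0),
  Rule.mk (nat_lit 5) (nat_lit 70) (Steps.bwd (nat_lit 9) (Steps.bwd (nat_lit 1) (Steps.fwd (nat_lit 1536) (Steps.fwd (nat_lit 2048) (Steps.bwd (nat_lit 3) (Steps.bwd (nat_lit 5) (Steps.bwd (nat_lit 8) Steps.nil))))))) (nat_lit 34) (nat_lit 2),
  Rule.mk (nat_lit 5) (nat_lit 70) (Steps.bwd (nat_lit 9) (Steps.fwd (nat_lit 512) (Steps.bwd (nat_lit 2) (Steps.fwd (nat_lit 2048) (Steps.fwd (nat_lit 1024) (Steps.fwd (nat_lit 2560) (Steps.fwd (nat_lit 4608) Steps.nil))))))) (nat_lit 34) (nat_lit 2),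
  Rule.mk (nat_lit 1) (nat_lit 43) (Steps.fwd (nat_lit 2048) (Steps.bwd (nat_lit 5) (Steps.fwd (nat_lit 512) (Steps.bwd (nat_lit 5) Steps.nil)))) (nat_lit 18) (nat_lit 1),
  Rule.mk (nat_lit 4) (nat_lit 43) (Steps.bwd (nat_lit 1) (Steps.bwd (nat_lit 5) (Steps.fwd (nat_lit 512) (Steps.bwd (nat_lit 5) Steps.nil)))) (nat_lit 19) (nat_lit 4),
  Rule.mk (nat_lit 6) (nat_lit 34) (Steps.bwd (nat_lit 9) (Steps.fwd (nat_lit 2048) (Steps.fwd (nat_lit 4608) Steps.nil))) (nat_lit 26) (nat_lit 2),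
  Rule.mk (nat_lit 2) (nat_lit 25) (Steps.bwd (nat_lit 2) (Steps.fwd (nat_lit 1536) Steps.nil)) (nat_lit 10) (nat_lit 0),
  Rule.mk (nat_lit 1) (nat_lit 43) (Steps.bwd (nat_lit 2) (Steps.bwd (nat_lit 1) (Steps.fwd (nat_lit 3584) (Steps.fwd (nat_lit 1024) Steps.nil)))) (nat_lit 16) (nat_lit 1),
  Rule.mk (nat_lit 3) (nat_lit 34) (Steps.bwd (nat_lit 7) (Steps.bwd (nat_lit 2) (Steps.bwd (nat_lit 1) Steps.nil))) (nat_lit 12) (nat_lit 2),
  Rule.mk (nat_lit 3) (nat_lit 25) (Steps.bwd (nat_lit 3) (Steps.bwd (nat_lit 3) Steps.nil)) (nat_lit 11) (nat_lit 0),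
  Rule.mk (nat_lit 5) (nat_lit 34) (Steps.fwd (nat_lit 1024) (Steps.bwd (nat_lit 5) (Steps.bwd (nat_lit 3) Steps.nil))) (nat_lit 15) (nat_lit 1),
  Rule.mk (nat_lit 5) (nat_lit 34) (Steps.bwd (nat_lit 2) (Steps.fwd (nat_lit 2560) (Steps.fwd (nat_lit 1536) Steps.nil))) (nat_lit 14) (nat_lit 0),
  Rule.mk (nat_lit 1) (nat_lit 34) (Steps.bwd (nat_lit 9) (Steps.fwd (nat_lit 512) (Steps.bwd (nat_lit 8) Steps.nil))) (nat_lit 24) (nat_lit 2),
  Rule.mk (nat_lit 5) (nat_lit 43) (Steps.fwd (nat_lit 512) (Steps.fwd (nat_lit 2048) (Steps.fwd (nat_lit 2560) (Steps.bwd (nat_lit 1) Steps.nil)))) (nat_lit 18) (nat_lit 0),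
  Rule.mk (nat_lit 1) (nat_lit 43) (Steps.bwd (nat_lit 7) (Steps.bwd (nat_lit 3) (Steps.bwd (nat_lit 1) (Steps.fwd (nat_lit 1536) Steps.nil)))) (nat_lit 16) (nat_lit 3),
  Rule.mk (nat_lit 3) (nat_lit 34) (Steps.bwd (nat_lit 7) (Steps.fwd (nat_lit 1536) (Steps.bwd (nat_lit 1) Steps.nil))) (nat_lit 12) (nat_lit 2),
  Rule.mk (nat_lit 5) (nat_lit 34) (Steps.bwd (nat_lit 3) (Steps.fwd (nat_lit 2560) (Steps.fwd (nat_lit 1024) Steps.nil))) (nat_lit 15) (nat_lit 1),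
  Rule.mk (nat_lit 4) (nat_lit 70) (Steps.bwd (nat_lit 3) (Steps.bwd (nat_lit 9) (Steps.fwd (nat_lit 3072) (Steps.fwd (nat_lit 2048) (Steps.fwd (nat_lit 2560) (Steps.bwd (nat_lit 8) (Steps.fwd (nat_lit 1536) Steps.nil))))))) (nat_lit 32) (nat_lit 3),
  Rule.mk (nat_lit 9) (nat_lit 25) (Steps.bwd (nat_lit 9) (Steps.bwd (nat_lit 9) Steps.nil)) (nat_lit 23) (nat_lit 0),
  Rule.mk (nat_lit 7) (nat_lit 34) (Steps.bwd (nat_lit 9) (Steps.fwd (nat_lit 3584) (Steps.bwd (nat_lit 9) Steps.nil))) (nat_lit 31) (nat_lit 0),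
  Rule.mk (nat_lit 4) (nat_lit 70) (Steps.bwd (nat_lit 3) (Steps.fwd (nat_lit 2560) (Steps.bwd (nat_lit 8) (Steps.fwd (nat_lit 2560) (Steps.fwd (nat_lit 4096) (Steps.bwd (nat_lit 1) (Steps.fwd (nat_lit 1536) Steps.nil))))))) (nat_lit 34) (nat_lit 6),
  Rule.mk (nat_lit 5) (nat_lit 43) (Steps.fwd (nat_lit 512) (Steps.bwd (nat_lit 5) (Steps.fwd (nat_lit 512) (Steps.bwd (nat_lit 4) Steps.nil)))) (nat_lit 18) (nat_lit 3),
  Rule.mk (nat_lit 3) (nat_lit 34) (Steps.bwd (nat_lit 5) (Steps.fwd (nat_lit 1024) (Steps.bwd (nat_lit 5) Steps.nil))) (nat_lit 15) (nat_lit 0),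
  Rule.mk (nat_lit 1) (nat_lit 43) (Steps.bwd (nat_lit 5) (Steps.fwd (nat_lit 512) (Steps.bwd (nat_lit 5) (Steps.bwd (nat_lit 4) Steps.nil)))) (nat_lit 19) (nat_lit 0),
  Rule.mk (nat_lit 7) (nat_lit 43) (Steps.bwd (nat_lit 1) (Steps.bwd (nat_lit 3) (Steps.bwd (nat_lit 1) (Steps.bwd (nat_lit 2) Steps.nil)))) (nat_lit 17) (nat_lit 2),
  Rule.mk (nat_lit 6) (nat_lit 43) (Steps.bwd (nat_lit 7) (Steps.fwd (nat_lit 2048) (Steps.bwd (nat_lit 7) (Steps.bwd (nat_lit 4) Steps.nil)))) (nat_lit 20) (nat_lit 2),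
  Rule.mk (nat_lit 6) (nat_lit 43) (Steps.bwd (nat_lit 4) (Steps.bwd (nat_lit 7) (Steps.fwd (nat_lit 2048) (Steps.bwd (nat_lit 7) Steps.nil)))) (nat_lit 21) (nat_lit 4),
  Rule.mk (nat_lit 0) (nat_lit 79) (Steps.bwd (nat_lit 5) (Steps.fwd (nat_lit 2048) (Steps.fwd (nat_lit 3072) (Steps.fwd (nat_lit 4608) (Steps.fwd (nat_lit 1536) (Steps.bwd (nat_lit 4) (Steps.fwd (nat_lit 1024) (Steps.fwd (nat_lit 4096) Steps.nil)))))))) (nat_lit 33) (nat_lit 0),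
  Rule.mk (nat_lit 0) (nat_lit 34) (Steps.bwd (nat_lit 2) (Steps.bwd (nat_lit 0) (Steps.bwd (nat_lit 3) Steps.nil))) (nat_lit 38) (nat_lit 0),
  Rule.mk (nat_lit 3) (nat_lit 25) (Steps.bwd (nat_lit 0) (Steps.fwd (nat_lit 1536) Steps.nil)) (nat_lit 38) (nat_lit 0),
  Rule.mk (nat_lit 7) (nat_lit 25) (Steps.bwd (nat_lit 0) (Steps.bwd (nat_lit 7) Steps.nil)) (nat_lit 38) (nat_lit 0),
  Rule.mk (nat_lit 0) (nat_lit 79) (Steps.fwd (nat_lit 2560) (Steps.bwd (nat_lit 4) (Steps.fwd (nat_lit 3072) (Steps.bwd (nat_lit 8) (Steps.fwd (nat_lit 1536) (Steps.bwd (nat_lit 4) (Steps.fwd (nat_lit 1024) (Steps.fwd (nat_lit 4096) Steps.nil)))))))) (nat_lit 33) (nat_lit 0)]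
noncomputable def R_1 : List (Rule) := [Rule.mk (nat_lit 0) (nat_lit 34) (Steps.fwd (nat_lit 1536) (Steps.fwd (nat_lit 0) (Steps.fwd (nat_lit 1024) Steps.nil))) (nat_lit 38) (nat_lit 0),
  Rule.mk (nat_lit 5) (nat_lit 25) (Steps.bwd (nat_lit 0) (Steps.fwd (nat_lit 2560) Steps.nil)) (nat_lit 38) (nat_lit 0),
  Rule.mk (nat_lit 5) (nat_lit 25) (Steps.bwd (nat_lit 0) (Steps.bwd (nat_lit 5) Steps.nil)) (nat_lit 38) (nat_lit 0),
  Rule.mk (nat_lit 1) (nat_lit 34) (Steps.bwd (nat_lit 3) (Steps.bwd (nat_lit 7) (Steps.fwd (nat_lit 1536) Steps.nil))) (nat_lit 12) (nat_lit 1),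
  Rule.mk (nat_lit 1) (nat_lit 34) (Steps.bwd (nat_lit 9) (Steps.fwd (nat_lit 512) (Steps.fwd (nat_lit 4608) Steps.nil))) (nat_lit 24) (nat_lit 2),
  Rule.mk (nat_lit 8) (nat_lit 34) (Steps.bwd (nat_lit 7) (Steps.bwd (nat_lit 8) (Steps.fwd (nat_lit 3584) Steps.nil))) (nat_lit 30) (nat_lit 0),
  Rule.mk (nat_lit 1) (nat_lit 34) (Steps.bwd (nat_lit 9) (Steps.bwd (nat_lit 1) (Steps.bwd (nat_lit 8) Steps.nil))) (nat_lit 24) (nat_lit 2),
  Rule.mk (nat_lit 2) (nat_lit 43) (Steps.bwd (nat_lit 1) (Steps.fwd (nat_lit 3584) (Steps.fwd (nat_lit 1024) (Steps.bwd (nat_lit 1) Steps.nil)))) (nat_lit 16) (nat_lit 2),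
  Rule.mk (nat_lit 2) (nat_lit 25) (Steps.fwd (nat_lit 1536) (Steps.bwd (nat_lit 2) Steps.nil)) (nat_lit 10) (nat_lit 0),
  Rule.mk (nat_lit 7) (nat_lit 43) (Steps.bwd (nat_lit 1) (Steps.fwd (nat_lit 1024) (Steps.bwd (nat_lit 1) (Steps.bwd (nat_lit 2) Steps.nil)))) (nat_lit 17) (nat_lit 2),
  Rule.mk (nat_lit 4) (nat_lit 43) (Steps.bwd (nat_lit 7) (Steps.fwd (nat_lit 2048) (Steps.fwd (nat_lit 3072) (Steps.fwd (nat_lit 3584) Steps.nil)))) (nat_lit 20) (nat_lit 4),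
  Rule.mk (nat_lit 0) (nat_lit 52) (Steps.fwd (nat_lit 2560) (Steps.bwd (nat_lit 1) (Steps.bwd (nat_lit 5) (Steps.fwd (nat_lit 2048) (Steps.bwd (nat_lit 1) Steps.nil))))) (nat_lit 19) (nat_lit 0),
  Rule.mk (nat_lit 0) (nat_lit 34) (Steps.bwd (nat_lit 2) (Steps.fwd (nat_lit 0) (Steps.bwd (nat_lit 3) Steps.nil))) (nat_lit 38) (nat_lit 0),
  Rule.mk (nat_lit 0) (nat_lit 34) (Steps.bwd (nat_lit 3) (Steps.fwd (nat_lit 0) (Steps.fwd (nat_lit 1536) Steps.nil))) (nat_lit 38) (nat_lit 0),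
  Rule.mk (nat_lit 0) (nat_lit 34) (Steps.fwd (nat_lit 512) (Steps.fwd (nat_lit 0) (Steps.fwd (nat_lit 512) Steps.nil))) (nat_lit 38) (nat_lit 0),
  Rule.mk (nat_lit 0) (nat_lit 34) (Steps.bwd (nat_lit 7) (Steps.fwd (nat_lit 0) (Steps.fwd (nat_lit 3584) Steps.nil))) (nat_lit 38) (nat_lit 0),
  Rule.mk (nat_lit 0) (nat_lit 34) (Steps.fwd (nat_lit 4608) (Steps.bwd (nat_lit 0) (Steps.bwd (nat_lit 9) Steps.nil))) (nat_lit 38) (nat_lit 0),
  Rule.mk (nat_lit 0) (nat_lit 43) (Steps.bwd (nat_lit 9) (Steps.bwd (nat_lit 0) (Steps.fwd (nat_lit 4608) (Steps.fwd (nat_lit 0) Steps.nil)))) (nat_lit 38) (nat_lit 0),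
  Rule.mk (nat_lit 0) (nat_lit 34) (Steps.bwd (nat_lit 8) (Steps.fwd (nat_lit 0) (Steps.bwd (nat_lit 9) Steps.nil))) (nat_lit 38) (nat_lit 0),
  Rule.mk (nat_lit 0) (nat_lit 34) (Steps.bwd (nat_lit 9) (Steps.fwd (nat_lit 0) (Steps.bwd (nat_lit 8) Steps.nil))) (nat_lit 38) (nat_lit 0),
  Rule.mk (nat_lit 0) (nat_lit 25) (Steps.fwd (nat_lit 0) (Steps.fwd (nat_lit 0) Steps.nil)) (nat_lit 38) (nat_lit 0),
  Rule.mk (nat_lit 0) (nat_lit 34) (Steps.fwd (nat_lit 1536) (Steps.bwd (nat_lit 0) (Steps.fwd (nat_lit 1024) Steps.nil))) (nat_lit 38) (nat_lit 0),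
  Rule.mk (nat_lit 0) (nat_lit 34) (Steps.bwd (nat_lit 9) (Steps.fwd (nat_lit 0) (Steps.fwd (nat_lit 4608) Steps.nil))) (nat_lit 38) (nat_lit 0),
  Rule.mk (nat_lit 0) (nat_lit 43) (Steps.fwd (nat_lit 1536) (Steps.fwd (nat_lit 0) (Steps.bwd (nat_lit 3) (Steps.fwd (nat_lit 0) Steps.nil)))) (nat_lit 38) (nat_lit 0),
  Rule.mk (nat_lit 0) (nat_lit 43) (Steps.bwd (nat_lit 0) (Steps.bwd (nat_lit 8) (Steps.bwd (nat_lit 0) (Steps.fwd (nat_lit 4096) Steps.nil)))) (nat_lit 38) (nat_lit 0),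
  Rule.mk (nat_lit 0) (nat_lit 34) (Steps.fwd (nat_lit 4096) (Steps.bwd (nat_lit 0) (Steps.fwd (nat_lit 4608) Steps.nil))) (nat_lit 38) (nat_lit 0),
  Rule.mk (nat_lit 9) (nat_lit 25) (Steps.bwd (nat_lit 0) (Steps.fwd (nat_lit 4608) Steps.nil)) (nat_lit 38) (nat_lit 0),
  Rule.mk (nat_lit 0) (nat_lit 34) (Steps.bwd (nat_lit 9) (Steps.bwd (nat_lit 0) (Steps.bwd (nat_lit 8) Steps.nil))) (nat_lit 38) (nat_lit 0),
  Rule.mk (nat_lit 0) (nat_lit 43) (Steps.bwd (nat_lit 0) (Steps.bwd (nat_lit 2) (Steps.fwd (nat_lit 0) (Steps.fwd (nat_lit 1024) Steps.nil)))) (nat_lit 38) (nat_lit 0),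
  Rule.mk (nat_lit 0) (nat_lit 43) (Steps.bwd (nat_lit 0) (Steps.fwd (nat_lit 2560) (Steps.fwd (nat_lit 0) (Steps.fwd (nat_lit 2560) Steps.nil)))) (nat_lit 38) (nat_lit 0),
  Rule.mk (nat_lit 0) (nat_lit 43) (Steps.bwd (nat_lit 9) (Steps.fwd (nat_lit 0) (Steps.fwd (nat_lit 4608) (Steps.fwd (nat_lit 0) Steps.nil)))) (nat_lit 38) (nat_lit 0),
  Rule.mk (nat_lit 0) (nat_lit 43) (Steps.bwd (nat_lit 1) (Steps.bwd (nat_lit 0) (Steps.bwd (nat_lit 1) (Steps.fwd (nat_lit 0) Steps.nil)))) (nat_lit 38) (nat_lit 0),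
  Rule.mk (nat_lit 9) (nat_lit 25) (Steps.bwd (nat_lit 0) (Steps.bwd (nat_lit 8) Steps.nil)) (nat_lit 38) (nat_lit 0),
  Rule.mk (nat_lit 8) (nat_lit 25) (Steps.bwd (nat_lit 0) (Steps.bwd (nat_lit 9) Steps.nil)) (nat_lit 38) (nat_lit 0)]
noncomputable def R : List (List (Rule)) := [R_0, R_1]
def LW : List Word := [[], [0], [2], [3], [4], [6], [8], [10], [12], [13], [0], [1], [2], [3], [4], [5], [6], [7], [8], [9], [10], [11]]
def par : Par := ⟨9, 5, 14, 23, 511, 16383, 8388607⟩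
theorem hpar : par.ok := by decide
theorem hR0_0 : lall (R) (fun l => lall l (ruleOK Rc2 LW par)) = true := by decide +kernel
theorem hR0 : lall (R) (fun l => lall l (ruleOK Rc2 LW par)) = true := hR0_0
theorem hR : RulesOK Rc2 LW par R := rulesOK_of rfl hR0
def cols : List (ℕ × ℕ) := [(512, 1), (1024, 3), (2048, 4), (2560, 5), (3072, 6), (3584, 7), (4096, 9)]
theorem hcols : lall cols (colOK Rc2 LW par) = true := by decide +kernel
noncomputable def JS0 : List ℕ := [nat_lit 0x818023a4f009c038041c423645009a22800c8247e0422182200404440a0804810045c00032411c144321160101c0c002a01050180a5000460713040008843030fc7c480e0100004880c880b060388803200101018043c02061a8e0002880346632183b1d0e458cc68351b0dc70391d0ec783d0503c1c0c078287a3c1d8e872381b8d86a34198c850f0120c0682c123c123c038f01000023c0602c183c10030100c001c72011c830201c120804828081806050380c2808063708010280418000c0004341981,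
  nat_lit 0x191340e00746a0b12400e40a0608005c02c20006e00030101cd8ba170d860361322b50006ca6d0a44566010c0401c0d2210d9178280062002c045815c2264212f0084426015c002d014883c240e202d3002480b0020a2dab0014550287e3e5254040247ca0b63d4e4220900590c20434c010280c0094000401035215c241110844204046452210c593c2008068202a4844060911d094c26464001000100a0a02810f8000615019e,
  nat_lit 0x2880123580003aa4001892a2340687a60134010d548e8033f511a8083f406a01184f060061048020d9c0f001a2696802000402a61703e025800231e4012c0205128925000b324062305156400032708e5b2b95231ec00548a7b0c1522038050c3002845800992d0001504b45b0d97ce6061c85601800464aa027e1500be09800baf4ba5e0d988e0001a045e138100119bb,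
  nat_lit 0x4018802a00200292300b8400200408b00100a00485f0001ea9b80014035e0001aa9b8007c02dd4e81401713200b60302553701031692a04444e1000cecf4c4034b00ec8092805235815814d53922014257]
theorem S0_c : blocks (facts 9 5 14 23 511 16383 8388607 9 511 7 127 A R 32) 32 JS0 308 = true := by decide +kernel
theorem S0 : On (Step.{u} Rc2 LW par A) 308 436 :=
  steps_of_blocks hpar hR S0_c (by decide +kernel)
theorem D0_c : allB (defOK 9 14 23 511 8388607 303 A K) 1 2 = true := by decide +kernel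
theorem D0 : On (fun r => defOK par.W par.WL par.E par.mW par.mE 303 A K r = true) 256 384 :=
  On.of_allB D0_c
noncomputable def JW0 : List ℕ := [nat_lit 0x1a40102411064210a]
theorem W0_c : blocks (rows 9 5 14 23 511 16383 8388607 10 1023 70 A 436 1 cols 18) 18 JW0 0 = true := by decide +kernel
theorem W0 : On (Row.{u} Rc2 LW par A 436 1 cols) 0 18 :=
  rows_of_blocks hpar (by decide) hcols W0_c (by decide +kernel)
theorem idx : Idx.{u} Rc2 [[0], [2], [4], [6], [8], [10], [12]] [[0], [2], [4], [6], [8], [10]] 1 :=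
  idx_of_cert hpar hR (K := K) (by decide +kernel) (T := 303) (T' := 384) (by decide) D0
    (subs := [1,2,4,5,6,7]) (by decide +kernel) (T1 := 308) (by decide) (N := 436) S0
    (by decide) (n' := 18) (by decide) W0 (by decide +kernel) (by decide +kernel)
end c2
end
end CA.MwT
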