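import Cfsg.Agent.Lib.HJ.MxK0

/-!
Computations in the model `W`.
-/

set_option autoImplicit false
set_option maxRecDepth 100000
set_option synthInstance.maxSize 100000

namespace CA.Mx

open CA.MxM CA.MxT CA.CWord

attribute [local instance 5000] List.decidableBAll List.decidableBEx


theorem p1 : ∀ y, bt kA y → y * t1 = t1 * y ∧ ta (ta y) * t1 = t1 * ta (ta y) ∧ bt kA y⁻¹ ∧ bt kA (y * t2) ∧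
    (∀ p ∈ ops, bt kA (ar p.1 p.2 e1 y) ∧ bt kA (aq p.1 p.2 y)) ∧ (e1 * y * e1⁻¹ * aq a w2 y = 1 →
      ar (a * z) (a * t3) e1 y⁻¹ = e2 * y * e2⁻¹ → y = 1 ∨ ar (a * z) (a * t3) e1 (y * t2) = t2) := by decide +kernel
def chs : List (List (W × W × W × W × W × W)) := [[(mkW 7, mkW 9, mkW 103, mkW 97, mkW 14, mkW 7), (mkW 9, mkW 14, mkW 111, mkW 1, mkW 104, mkW 8), (mkW 8, mkW 96, mkW 102, mkW 15, mkW 7, mkW 9), (mkW 96, mkW 104, mkW 105, mkW 102, mkW 6, mkW 103)],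
  [(mkW 7, mkW 9, mkW 96, mkW 102, mkW 14, mkW 7), (mkW 9, mkW 14, mkW 104, mkW 1, mkW 111, mkW 8), (mkW 8, mkW 103, mkW 97, mkW 15, mkW 7, mkW 9), (mkW 96, mkW 102, mkW 14, mkW 7, mkW 8, mkW 103)]]
theorem pp2 : ∀ p ∈ ops, ∃ l ∈ chs, (∀ c ∈ l, bt kA c.1 ∧ ar p.1 p.2 e1 c.1 = c.2.1 ∧ aq p.1 p.2 c.2.1 = c.2.2.1 ∧
    ar p.1 p.2 e1 c.2.2.1 = c.2.2.2.1 ∧ aq p.1 p.2 c.2.2.2.1 = c.2.2.2.2.1 ∧ ar p.1 p.2 e1 c.2.2.2.2.1 = c.2.2.2.2.2) ∧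
    (∃ c ∈ l, c.1 = z ∧ c.2.2.2.2.2 = z) ∧ ∀ k, ∃ c ∈ l, k * c.1 * k⁻¹ ≠ c.2.2.2.2.2 := by decide +kernel
theorem p3 : (∀ y ∈ [z, t1, t2, a], bt kA y ∧
    ar (a * z) (a * t3) e1 (aq a w2 y) = aq a w2 (ar (a * z) (a * t3) e1 y)) ∧ (∀ y ∈ [z, t1, e1], bt kE y ∧ hh (hh (hh y)) = y) ∧
    (∀ m, be (ta m) = ta (be m) ∧ ta (ta (ta m)) = m) ∧ be (a * t3) = w2 * t1 ∧ be w2 = a * t3 * t1 ∧
    f1 * (x * (e1 * (x⁻¹ * e1))) = 1 ∧ ta f1 * (x * (e2 * (x⁻¹ * e2))) = 1 ∧ z * t1 * (z * t1) = 1 ∧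
    a * z * (a * z) = 1 ∧ a * t3 * (z * (a * (t1 * t2))) = 1 ∧ z * t2 * (z * t2) = 1 ∧ t1 * (t2 * z) = t3 ∧
    ta w2 * (z * (a * (t1 * t2))) = 1 ∧ e2 * e1 * e2 = e1 ∧ z * t2 * z = t2 ∧ t2 * (z * t2) = z := by decide +kernel
theorem q1 : ∀ m, cT m → m * m = 1 ∧ m ≠ 1 ∧ ∃ k, k * m * k⁻¹ = t3 ∨ k * m * k⁻¹ = a := by decide +kernel
theorem q2 : ∀ m, m * m = 1 → m = 1 ∨ cT m ∨ m = z ∨ ∃ k, ∃ d ∈ [t1, t2, a * z], k * m * k⁻¹ = d := by decide +kernel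
theorem q3 : ∀ m, m * t3 = t3 * m → (m * e3 = e3 * m → m * t1 = t1 * m → m * a = a * m → m = 1 ∨ m = z ∨ cT m) ∧
    (m * a * m⁻¹ = a ∨ m * a * m⁻¹ = a * t3) ∧ (cT m → cT (m * t3) → m = a ∨ m = a * t3 ∨ m * c4 = c4 * m) ∧
    (m * a = a * m → ∀ n, n * t3 = t3 * n → n * a = a * n → cT (t3 * n) → cT m → cT (m * t3) → cT (m * n) →
      cT n ∨ n = 1) := by decide +kernel
theorem q4 : cT (t3 * z) ∧ cT c4 ∧ cT (c4 * t3) ∧ cT (c4 * z) ∧ cT t3 ∧ cT a ∧ cT (a * t3) ∧ cT (z * t3) ∧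
    e3 * t3 = t3 * e3 ∧ t1 * t3 = t3 * t1 ∧ a * t3 = t3 * a ∧ c4 * t3 = t3 * c4 ∧ w2 * t3 = t3 * w2 ∧ z ≠ t3 ∧ t1 ≠ t3 ∧
    z * t1 ≠ t3 ∧ t3 ≠ a ∧ c4 * w2 * (c4 * w2) = z * t3 ∧ c4 * a ≠ a * c4 ∧ c4 * (a * t3) ≠ a * t3 * c4 ∧ c4 * c4 = 1 ∧
    w2 * w2 = 1 ∧ z * t1 ≠ 1 ∧ c4 * z = z * c4 := by decide +kernel
theorem q5 : ∀ u ∈ [1, t3, a, t3 * a], (cT (z * t3 * u) → u = 1) ∧ z * t3 * u * (z * t3 * u) = 1 ∧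
    z * t3 * u * a = a * (z * t3 * u) ∧ z * t3 ≠ u ∧ w2 ≠ u := by decide +kernel
theorem q6 : Fintype.card {m : W // m * t3 = t3 * m} = 32 := by decide +kernel
theorem q7 : ev XW [6, 10, 12] = t3 ∧ ev XW [2, 4, 6] = c4 ∧ ev XW [8, 12] = w2 ∧ ev XW [8] = a ∧ ev XW [10, 12] = z * t3 := by
  decide +kernel

end CA.Mx
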