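import Cfsg.Agent.Lib.Comp.CTodd
set_option autoImplicit false
set_option linter.all false
set_option maxRecDepth 100000
universe u
namespace CA.MxT
open CA.CNet CA.CWord CA.CLevel CA.CSimple CA.CPoint CA.CTodd 
noncomputable section
def RB : List Word := [[0,0,0], [2,2], [4,4], [6,6], [0,6,1,6], [2,0,2,0,2,0,6], [4,0,4,0,4,0,6], [2,4,2,4], [0,2,1,4,0,2,1,4,6], [2,6,2,6], [4,6,4,6]]
def RA : List Word := [[8,8], [8,0,8,0], [8,6,8,6], [8,2,8,1,3,0], [8,4,8,1,5,0]]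
def RAM : List Word := [[8,8], [8,0,8,0], [8,6,8,6], [8,2,8,5], [8,4,8,3]]
def Rd : List Word := [[10,7,0,3,1], [12,7,0,5,1]]
def R1 : List Word := [[14,14,14], [14,6,15,10], [14,10,15,6,10], [14,2,15,2], [4,14,4,14], [14,12,15,8,6], [14,8,15,6,8,10,12]]
def R2 : List Word := [[16,16,16], [16,6,17,12], [16,12,17,6,12], [16,4,17,4], [2,16,2,16], [16,10,12,6,17,8], [16,8,17,6,8,10,12]]
def Rc : List Word := [[14,16,15,17]]
def gn (k : ℕ) : List Word := (List.range k).map fun i => [2 * i]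
def Rw' : List Word := [[0,0,0], [2,2], [4,4], [6,6], [0,6,1,6], [2,0,2,0,2,0,6], [4,0,4,0,4,0,6], [2,4,2,4], [0,2,1,4,0,2,1,4,6], [2,6,2,6], [4,6,4,6], [8,8], [8,0,8,0], [8,6,8,6], [8,2,8,1,3,0], [8,4,8,1,5,0]]
def Rm' : List Word := [[0,0,0], [2,2], [4,4], [6,6], [0,6,1,6], [2,0,2,0,2,0,6], [4,0,4,0,4,0,6], [2,4,2,4], [0,2,1,4,0,2,1,4,6], [2,6,2,6], [4,6,4,6], [8,8], [8,0,8,0], [8,6,8,6], [8,2,8,5], [8,4,8,3]]
def Rd' : List Word := [[0,0,0], [2,2], [4,4], [6,6], [0,6,1,6], [2,0,2,0,2,0,6], [4,0,4,0,4,0,6], [2,4,2,4], [0,2,1,4,0,2,1,4,6], [2,6,2,6], [4,6,4,6], [8,8], [8,0,8,0], [8,6,8,6], [8,2,8,1,3,0], [8,4,8,1,5,0], [10,7,0,3,1], [12,7,0,5,1]]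
def Rf' : List Word := [[0,0,0], [2,2], [4,4], [6,6], [0,6,1,6], [2,0,2,0,2,0,6], [4,0,4,0,4,0,6], [2,4,2,4], [0,2,1,4,0,2,1,4,6], [2,6,2,6], [4,6,4,6], [8,8], [8,0,8,0], [8,6,8,6], [8,2,8,1,3,0], [8,4,8,1,5,0], [10,7,0,3,1], [12,7,0,5,1], [14,14,14], [14,6,15,10], [14,10,15,6,10], [14,2,15,2], [4,14,4,14], [14,12,15,8,6], [14,8,15,6,8,10,12], [16,16,16], [16,6,17,12], [16,12,17,6,12], [16,4,17,4], [2,16,2,16], [16,10,12,6,17,8], [16,8,17,6,8,10,12], [14,16,15,17], [6,1,14,6,1,14,6,1,14], [6,1,16,6,1,16,6,1,16]]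
def Rc1' : List Word := [[0,0,0], [2,2], [4,4], [6,6], [0,6,1,6], [2,0,2,0,2,0,6], [4,0,4,0,4,0,6], [2,4,2,4], [0,2,1,4,0,2,1,4,6], [2,6,2,6], [4,6,4,6], [8,8], [8,0,8,0], [8,6,8,6], [8,2,8,1,3,0], [8,4,8,1,5,0], [10,7,0,3,1], [12,7,0,5,1], [14,14,14], [14,6,15,10], [14,10,15,6,10], [14,2,15,2], [4,14,4,14], [14,12,15,8,6], [14,8,15,6,8,10,12], [16,16,16], [16,6,17,12], [16,12,17,6,12], [16,4,17,4], [2,16,2,16], [16,10,12,6,17,8], [16,8,17,6,8,10,12], [14,16,15,17], [6,1,14,6,1,14,6,1,14,0,2,1,2]]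
def Rc2' : List Word := [[0,0,0], [2,2], [4,4], [6,6], [0,6,1,6], [2,0,2,0,2,0,6], [4,0,4,0,4,0,6], [2,4,2,4], [0,2,1,4,0,2,1,4,6], [2,6,2,6], [4,6,4,6], [8,8], [8,0,8,0], [8,6,8,6], [8,2,8,1,3,0], [8,4,8,1,5,0], [10,7,0,3,1], [12,7,0,5,1], [14,14,14], [14,6,15,10], [14,10,15,6,10], [14,2,15,2], [4,14,4,14], [14,12,15,8,6], [14,8,15,6,8,10,12], [16,16,16], [16,6,17,12], [16,12,17,6,12], [16,4,17,4], [2,16,2,16], [16,10,12,6,17,8], [16,8,17,6,8,10,12], [14,16,15,17], [6,1,16,6,1,16,6,1,16,0,4,1,4]]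
def Ra3' : List Word := [[0,0,0]]
def Ra4' : List Word := [[0,0,0], [2,2], [0,2,0,2,0,2]]
def Ra5' : List Word := [[0,0,0], [2,2], [4,4], [0,2,0,2,0,2], [0,4,0,4], [2,4,2,4,2,4]]
def Ra6' : List Word := [[0,0,0], [2,2], [4,4], [6,6], [0,2,0,2,0,2], [0,4,0,4], [0,6,0,6], [2,4,2,4,2,4], [2,6,2,6], [4,6,4,6,4,6]]
def Ra7' : List Word := [[0,0,0], [2,2], [4,4], [6,6], [8,8], [0,2,0,2,0,2], [0,4,0,4], [0,6,0,6], [0,8,0,8], [2,4,2,4,2,4], [2,6,2,6], [2,8,2,8], [4,6,4,6,4,6], [4,8,4,8], [6,8,6,8,6,8]]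
def Ra8' : List Word := [[0,0,0], [2,2], [4,4], [6,6], [8,8], [10,10], [0,2,0,2,0,2], [0,4,0,4], [0,6,0,6], [0,8,0,8], [0,10,0,10], [2,4,2,4,2,4], [2,6,2,6], [2,8,2,8], [2,10,2,10], [4,6,4,6,4,6], [4,8,4,8], [4,10,4,10], [6,8,6,8,6,8], [6,10,6,10], [8,10,8,10,8,10]]
def Ra9' : List Word := [[0,0,0], [2,2], [4,4], [6,6], [8,8], [10,10], [12,12], [0,2,0,2,0,2], [0,4,0,4], [0,6,0,6], [0,8,0,8], [0,10,0,10], [0,12,0,12], [2,4,2,4,2,4], [2,6,2,6], [2,8,2,8], [2,10,2,10], [2,12,2,12], [4,6,4,6,4,6], [4,8,4,8], [4,10,4,10], [4,12,4,12], [6,8,6,8,6,8], [6,10,6,10], [6,12,6,12], [8,10,8,10,8,10], [8,12,8,12], [10,12,10,12,10,12]]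
namespace b
noncomputable def A_0 : List (ℕ) := [nat_lit 0x10c2108990879484372421ec2e971974b54ba578370bb1b86e0f08ac785623c2f42d0d59685ccac1162d2bd169508b45ecae4a4570d41d9458eca94765f84a13b250c615064ca83e855264240f992097490252481c4238e591c8148e0d8252331289e12cbec964924b2242007990060c92524302c11811a8c08288c5b246154290ad948834a45c8581eb2c0d616cbccb65384129b160aa94c9a4a65142a19c28941144290645984d143268418a8690a03464321a2208910c9d4864e8282cb2711513830c7044a3811c228889107d4be3f25f1ea1f0710f46b4b83625c1a21a8550d09f4500e228262278a51307503c39a1e0520f0628e85c874188391021c85d0605f02e0741708c170be844084222c42f092160428b05743e2022b19b0d0c68681283414a33122198518c43a862134141330981904c1ac4826a0d0190688d0981e8460ca2310d0d874884130380a61c1031f82a8801343a0681503b0a8658d80f43206a160150582102c0a81003a0f02b078498a40b0240460e00101108974ba46e37a561e12d168958ad05a2d2552ba1d8ed128954aa544552ab2612091c8e44a25a49259201009249304c3081323412148960b14b65b44120b0f94c8c8a34643224d26d280a9140a0c9e4384f2721c0e11148b4444463a1140617c9787c8383da5e2f11f9709646a82a34a592c91b0a089c9e8524ca271390707907c748323942b0c20385e8b85c4321121017a090b207c3e8142b8100810206906c6682c314210a20304e8904842c0d20c1320788d86c368122160c061018728fc7f03a2080b0540107582c12c0415a361b40b0660200f002166080330082d014114020f82914d0704a8100b4000e8030240000d8000440201200]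
noncomputable def A : List (List (ℕ)) := [A_0]
noncomputable def K_0 : List (ℕ) := [nat_lit 0x9d4debb36a456a6749abd66a754a352a8b4198cfe8730a7d569b52a8d2e7b3ca057a8f4e8ace6715bab4b6593eae43e6b3490d12414c93ca6b1269250a0f3297c6ea11d8d4ee311492cba25168cc8a1d2b95432211f8f41a51238441239178544e230986c2e0b03814060000]
noncomputable def K : List (List (ℕ)) := [K_0]
noncomputable def R_0 : List (Rule) := [Rule.mk (nat_lit 1) (nat_lit 25) (Steps.bwd (nat_lit 1) (Steps.bwd (nat_lit 1) Steps.nil)) (nat_lit 0) (nat_lit 0),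
  Rule.mk (nat_lit 3) (nat_lit 34) (Steps.bwd (nat_lit 4) (Steps.bwd (nat_lit 3) (Steps.fwd (nat_lit 2048) Steps.nil))) (nat_lit 14) (nat_lit 1),
  Rule.mk (nat_lit 4) (nat_lit 34) (Steps.bwd (nat_lit 5) (Steps.bwd (nat_lit 4) (Steps.fwd (nat_lit 2560) Steps.nil))) (nat_lit 20) (nat_lit 1),
  Rule.mk (nat_lit 3) (nat_lit 34) (Steps.bwd (nat_lit 5) (Steps.fwd (nat_lit 1536) (Steps.fwd (nat_lit 2560) Steps.nil))) (nat_lit 18) (nat_lit 1),
  Rule.mk (nat_lit 3) (nat_lit 34) (Steps.bwd (nat_lit 4) (Steps.fwd (nat_lit 1536) (Steps.fwd (nat_lit 2048) Steps.nil))) (nat_lit 14) (nat_lit 1),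
  Rule.mk (nat_lit 5) (nat_lit 34) (Steps.bwd (nat_lit 4) (Steps.bwd (nat_lit 5) (Steps.bwd (nat_lit 4) Steps.nil))) (nat_lit 20) (nat_lit 0),
  Rule.mk (nat_lit 2) (nat_lit 34) (Steps.bwd (nat_lit 5) (Steps.bwd (nat_lit 1) (Steps.fwd (nat_lit 2560) Steps.nil))) (nat_lit 8) (nat_lit 3),
  Rule.mk (nat_lit 2) (nat_lit 25) (Steps.bwd (nat_lit 2) (Steps.bwd (nat_lit 2) Steps.nil)) (nat_lit 1) (nat_lit 0),
  Rule.mk (nat_lit 5) (nat_lit 34) (Steps.bwd (nat_lit 2) (Steps.bwd (nat_lit 5) (Steps.bwd (nat_lit 1) Steps.nil))) (nat_lit 8) (nat_lit 2),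
  Rule.mk (nat_lit 5) (nat_lit 34) (Steps.bwd (nat_lit 3) (Steps.bwd (nat_lit 5) (Steps.fwd (nat_lit 1536) Steps.nil))) (nat_lit 18) (nat_lit 0),
  Rule.mk (nat_lit 5) (nat_lit 34) (Steps.bwd (nat_lit 4) (Steps.bwd (nat_lit 5) (Steps.fwd (nat_lit 2048) Steps.nil))) (nat_lit 20) (nat_lit 0),
  Rule.mk (nat_lit 5) (nat_lit 34) (Steps.bwd (nat_lit 3) (Steps.fwd (nat_lit 2560) (Steps.fwd (nat_lit 1536) Steps.nil))) (nat_lit 18) (nat_lit 0),
  Rule.mk (nat_lit 5) (nat_lit 34) (Steps.bwd (nat_lit 4) (Steps.fwd (nat_lit 2560) (Steps.fwd (nat_lit 2048) Steps.nil))) (nat_lit 20) (nat_lit 0),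
  Rule.mk (nat_lit 1) (nat_lit 61) (Steps.bwd (nat_lit 3) (Steps.bwd (nat_lit 1) (Steps.bwd (nat_lit 5) (Steps.fwd (nat_lit 1536) (Steps.fwd (nat_lit 1024) (Steps.fwd (nat_lit 1536) Steps.nil)))))) (nat_lit 10) (nat_lit 4),
  Rule.mk (nat_lit 5) (nat_lit 34) (Steps.bwd (nat_lit 3) (Steps.fwd (nat_lit 2560) (Steps.bwd (nat_lit 3) Steps.nil))) (nat_lit 18) (nat_lit 0),
  Rule.mk (nat_lit 2) (nat_lit 61) (Steps.bwd (nat_lit 3) (Steps.fwd (nat_lit 2560) (Steps.fwd (nat_lit 512) (Steps.bwd (nat_lit 3) (Steps.bwd (nat_lit 2) (Steps.bwd (nat_lit 3) Steps.nil)))))) (nat_lit 11) (nat_lit 6),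
  Rule.mk (nat_lit 5) (nat_lit 34) (Steps.bwd (nat_lit 1) (Steps.bwd (nat_lit 5) (Steps.bwd (nat_lit 2) Steps.nil))) (nat_lit 8) (nat_lit 0),
  Rule.mk (nat_lit 3) (nat_lit 61) (Steps.bwd (nat_lit 1) (Steps.fwd (nat_lit 2560) (Steps.bwd (nat_lit 3) (Steps.bwd (nat_lit 1) (Steps.fwd (nat_lit 1536) (Steps.bwd (nat_lit 1) Steps.nil)))))) (nat_lit 10) (nat_lit 5),
  Rule.mk (nat_lit 2) (nat_lit 25) (Steps.bwd (nat_lit 2) (Steps.fwd (nat_lit 512) Steps.nil)) (nat_lit 1) (nat_lit 0),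
  Rule.mk (nat_lit 3) (nat_lit 61) (Steps.bwd (nat_lit 2) (Steps.bwd (nat_lit 3) (Steps.bwd (nat_lit 5) (Steps.bwd (nat_lit 2) (Steps.bwd (nat_lit 3) (Steps.bwd (nat_lit 2) Steps.nil)))))) (nat_lit 11) (nat_lit 5),
  Rule.mk (nat_lit 5) (nat_lit 34) (Steps.bwd (nat_lit 2) (Steps.fwd (nat_lit 2560) (Steps.fwd (nat_lit 1024) Steps.nil))) (nat_lit 8) (nat_lit 2),
  Rule.mk (nat_lit 3) (nat_lit 61) (Steps.bwd (nat_lit 2) (Steps.fwd (nat_lit 1536) (Steps.fwd (nat_lit 2560) (Steps.fwd (nat_lit 512) (Steps.bwd (nat_lit 3) (Steps.bwd (nat_lit 2) Steps.nil)))))) (nat_lit 11) (nat_lit 5),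
  Rule.mk (nat_lit 1) (nat_lit 61) (Steps.bwd (nat_lit 4) (Steps.bwd (nat_lit 1) (Steps.fwd (nat_lit 2560) (Steps.fwd (nat_lit 2048) (Steps.fwd (nat_lit 1024) (Steps.fwd (nat_lit 2048) Steps.nil)))))) (nat_lit 12) (nat_lit 4),
  Rule.mk (nat_lit 5) (nat_lit 34) (Steps.bwd (nat_lit 4) (Steps.fwd (nat_lit 2560) (Steps.bwd (nat_lit 4) Steps.nil))) (nat_lit 20) (nat_lit 0),
  Rule.mk (nat_lit 2) (nat_lit 61) (Steps.bwd (nat_lit 4) (Steps.fwd (nat_lit 2560) (Steps.fwd (nat_lit 512) (Steps.bwd (nat_lit 4) (Steps.bwd (nat_lit 2) (Steps.bwd (nat_lit 4) Steps.nil)))))) (nat_lit 13) (nat_lit 6),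
  Rule.mk (nat_lit 4) (nat_lit 61) (Steps.bwd (nat_lit 1) (Steps.fwd (nat_lit 2560) (Steps.bwd (nat_lit 4) (Steps.bwd (nat_lit 1) (Steps.fwd (nat_lit 2048) (Steps.bwd (nat_lit 1) Steps.nil)))))) (nat_lit 12) (nat_lit 5),
  Rule.mk (nat_lit 4) (nat_lit 34) (Steps.bwd (nat_lit 5) (Steps.fwd (nat_lit 2048) (Steps.fwd (nat_lit 2560) Steps.nil))) (nat_lit 20) (nat_lit 1),
  Rule.mk (nat_lit 4) (nat_lit 61) (Steps.bwd (nat_lit 2) (Steps.bwd (nat_lit 4) (Steps.bwd (nat_lit 5) (Steps.bwd (nat_lit 2) (Steps.bwd (nat_lit 4) (Steps.bwd (nat_lit 2) Steps.nil)))))) (nat_lit 13) (nat_lit 5),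
  Rule.mk (nat_lit 4) (nat_lit 61) (Steps.bwd (nat_lit 2) (Steps.fwd (nat_lit 2048) (Steps.fwd (nat_lit 2560) (Steps.fwd (nat_lit 512) (Steps.bwd (nat_lit 4) (Steps.bwd (nat_lit 2) Steps.nil)))))) (nat_lit 13) (nat_lit 5),
  Rule.mk (nat_lit 5) (nat_lit 34) (Steps.bwd (nat_lit 1) (Steps.fwd (nat_lit 2560) (Steps.bwd (nat_lit 2) Steps.nil))) (nat_lit 8) (nat_lit 0),
  Rule.mk (nat_lit 1) (nat_lit 79) (Steps.bwd (nat_lit 3) (Steps.bwd (nat_lit 2) (Steps.bwd (nat_lit 4) (Steps.bwd (nat_lit 5) (Steps.bwd (nat_lit 1) (Steps.fwd (nat_lit 1536) (Steps.fwd (nat_lit 512) (Steps.fwd (nat_lit 2048) Steps.nil)))))))) (nat_lit 16) (nat_lit 5),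
  Rule.mk (nat_lit 4) (nat_lit 34) (Steps.bwd (nat_lit 5) (Steps.bwd (nat_lit 4) (Steps.bwd (nat_lit 5) Steps.nil))) (nat_lit 20) (nat_lit 1),
  Rule.mk (nat_lit 3) (nat_lit 79) (Steps.bwd (nat_lit 2) (Steps.fwd (nat_lit 2048) (Steps.fwd (nat_lit 2560) (Steps.bwd (nat_lit 1) (Steps.bwd (nat_lit 3) (Steps.fwd (nat_lit 512) (Steps.fwd (nat_lit 2048) (Steps.fwd (nat_lit 1024) Steps.nil)))))))) (nat_lit 16) (nat_lit 6),
  Rule.mk (nat_lit 3) (nat_lit 61) (Steps.bwd (nat_lit 2) (Steps.fwd (nat_lit 1536) (Steps.bwd (nat_lit 5) (Steps.bwd (nat_lit 2) (Steps.bwd (nat_lit 3) (Steps.fwd (nat_lit 512) Steps.nil)))))) (nat_lit 11) (nat_lit 5),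
  Rule.mk (nat_lit 4) (nat_lit 61) (Steps.fwd (nat_lit 2560) (Steps.bwd (nat_lit 2) (Steps.fwd (nat_lit 2048) (Steps.bwd (nat_lit 2) (Steps.bwd (nat_lit 4) (Steps.bwd (nat_lit 2) Steps.nil)))))) (nat_lit 13) (nat_lit 0),
  Rule.mk (nat_lit 2) (nat_lit 61) (Steps.bwd (nat_lit 4) (Steps.bwd (nat_lit 5) (Steps.fwd (nat_lit 512) (Steps.bwd (nat_lit 4) (Steps.fwd (nat_lit 512) (Steps.fwd (nat_lit 2048) Steps.nil)))))) (nat_lit 13) (nat_lit 6),
  Rule.mk (nat_lit 2) (nat_lit 25) (Steps.fwd (nat_lit 512) (Steps.bwd (nat_lit 2) Steps.nil)) (nat_lit 1) (nat_lit 0),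
  Rule.mk (nat_lit 3) (nat_lit 61) (Steps.bwd (nat_lit 2) (Steps.bwd (nat_lit 3) (Steps.fwd (nat_lit 2560) (Steps.bwd (nat_lit 2) (Steps.bwd (nat_lit 3) (Steps.bwd (nat_lit 2) Steps.nil)))))) (nat_lit 11) (nat_lit 5),
  Rule.mk (nat_lit 4) (nat_lit 34) (Steps.bwd (nat_lit 3) (Steps.fwd (nat_lit 2048) (Steps.fwd (nat_lit 1536) Steps.nil))) (nat_lit 14) (nat_lit 0),
  Rule.mk (nat_lit 3) (nat_lit 61) (Steps.bwd (nat_lit 2) (Steps.bwd (nat_lit 3) (Steps.bwd (nat_lit 5) (Steps.fwd (nat_lit 512) (Steps.fwd (nat_lit 1536) (Steps.fwd (nat_lit 512) Steps.nil)))))) (nat_lit 11) (nat_lit 5),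
  Rule.mk (nat_lit 3) (nat_lit 34) (Steps.bwd (nat_lit 5) (Steps.bwd (nat_lit 3) (Steps.bwd (nat_lit 5) Steps.nil))) (nat_lit 18) (nat_lit 1),
  Rule.mk (nat_lit 4) (nat_lit 34) (Steps.bwd (nat_lit 5) (Steps.fwd (nat_lit 2048) (Steps.bwd (nat_lit 5) Steps.nil))) (nat_lit 20) (nat_lit 1),
  Rule.mk (nat_lit 4) (nat_lit 61) (Steps.bwd (nat_lit 1) (Steps.bwd (nat_lit 5) (Steps.fwd (nat_lit 2048) (Steps.fwd (nat_lit 1024) (Steps.fwd (nat_lit 2048) (Steps.fwd (nat_lit 1024) Steps.nil)))))) (nat_lit 12) (nat_lit 5),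
  Rule.mk (nat_lit 2) (nat_lit 34) (Steps.bwd (nat_lit 5) (Steps.bwd (nat_lit 1) (Steps.bwd (nat_lit 5) Steps.nil))) (nat_lit 8) (nat_lit 3),
  Rule.mk (nat_lit 3) (nat_lit 34) (Steps.fwd (nat_lit 2560) (Steps.bwd (nat_lit 3) (Steps.bwd (nat_lit 5) Steps.nil))) (nat_lit 18) (nat_lit 1),
  Rule.mk (nat_lit 3) (nat_lit 61) (Steps.bwd (nat_lit 2) (Steps.bwd (nat_lit 3) (Steps.fwd (nat_lit 2560) (Steps.fwd (nat_lit 512) (Steps.bwd (nat_lit 3) (Steps.fwd (nat_lit 512) Steps.nil)))))) (nat_lit 11) (nat_lit 5),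
  Rule.mk (nat_lit 4) (nat_lit 61) (Steps.bwd (nat_lit 2) (Steps.fwd (nat_lit 2048) (Steps.fwd (nat_lit 2560) (Steps.bwd (nat_lit 2) (Steps.fwd (nat_lit 2048) (Steps.bwd (nat_lit 2) Steps.nil)))))) (nat_lit 13) (nat_lit 5),
  Rule.mk (nat_lit 3) (nat_lit 61) (Steps.bwd (nat_lit 1) (Steps.bwd (nat_lit 5) (Steps.fwd (nat_lit 1536) (Steps.bwd (nat_lit 1) (Steps.fwd (nat_lit 1536) (Steps.bwd (nat_lit 1) Steps.nil)))))) (nat_lit 10) (nat_lit 5),
  Rule.mk (nat_lit 4) (nat_lit 61) (Steps.bwd (nat_lit 1) (Steps.bwd (nat_lit 5) (Steps.fwd (nat_lit 2048) (Steps.fwd (nat_lit 1024) (Steps.bwd (nat_lit 4) (Steps.fwd (nat_lit 1024) Steps.nil)))))) (nat_lit 12) (nat_lit 5),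
  Rule.mk (nat_lit 1) (nat_lit 61) (Steps.bwd (nat_lit 4) (Steps.bwd (nat_lit 1) (Steps.fwd (nat_lit 2560) (Steps.bwd (nat_lit 4) (Steps.fwd (nat_lit 1024) (Steps.bwd (nat_lit 4) Steps.nil)))))) (nat_lit 12) (nat_lit 4),
  Rule.mk (nat_lit 2) (nat_lit 61) (Steps.bwd (nat_lit 4) (Steps.fwd (nat_lit 2560) (Steps.bwd (nat_lit 2) (Steps.bwd (nat_lit 4) (Steps.fwd (nat_lit 512) (Steps.bwd (nat_lit 4) Steps.nil)))))) (nat_lit 13) (nat_lit 6),
  Rule.mk (nat_lit 1) (nat_lit 61) (Steps.bwd (nat_lit 4) (Steps.fwd (nat_lit 1024) (Steps.bwd (nat_lit 5) (Steps.fwd (nat_lit 2048) (Steps.bwd (nat_lit 1) (Steps.bwd (nat_lit 4) Steps.nil)))))) (nat_lit 12) (nat_lit 4),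
  Rule.mk (nat_lit 2) (nat_lit 61) (Steps.bwd (nat_lit 4) (Steps.bwd (nat_lit 5) (Steps.bwd (nat_lit 2) (Steps.bwd (nat_lit 4) (Steps.bwd (nat_lit 2) (Steps.bwd (nat_lit 4) Steps.nil)))))) (nat_lit 13) (nat_lit 6),
  Rule.mk (nat_lit 3) (nat_lit 61) (Steps.bwd (nat_lit 1) (Steps.fwd (nat_lit 1536) (Steps.fwd (nat_lit 1024) (Steps.fwd (nat_lit 2560) (Steps.bwd (nat_lit 3) (Steps.fwd (nat_lit 1024) Steps.nil)))))) (nat_lit 10) (nat_lit 3),
  Rule.mk (nat_lit 4) (nat_lit 61) (Steps.bwd (nat_lit 1) (Steps.bwd (nat_lit 4) (Steps.fwd (nat_lit 1024) (Steps.fwd (nat_lit 2560) (Steps.fwd (nat_lit 2048) (Steps.bwd (nat_lit 1) Steps.nil)))))) (nat_lit 12) (nat_lit 3),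
  Rule.mk (nat_lit 3) (nat_lit 61) (Steps.bwd (nat_lit 1) (Steps.fwd (nat_lit 1536) (Steps.fwd (nat_lit 1024) (Steps.bwd (nat_lit 5) (Steps.bwd (nat_lit 3) (Steps.bwd (nat_lit 1) Steps.nil)))))) (nat_lit 10) (nat_lit 3),
  Rule.mk (nat_lit 4) (nat_lit 61) (Steps.bwd (nat_lit 1) (Steps.fwd (nat_lit 2048) (Steps.fwd (nat_lit 1024) (Steps.fwd (nat_lit 2560) (Steps.bwd (nat_lit 4) (Steps.bwd (nat_lit 1) Steps.nil)))))) (nat_lit 12) (nat_lit 3),
  Rule.mk (nat_lit 5) (nat_lit 34) (Steps.bwd (nat_lit 1) (Steps.bwd (nat_lit 5) (Steps.fwd (nat_lit 512) Steps.nil))) (nat_lit 8) (nat_lit 0),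
  Rule.mk (nat_lit 3) (nat_lit 61) (Steps.bwd (nat_lit 1) (Steps.bwd (nat_lit 5) (Steps.fwd (nat_lit 1536) (Steps.fwd (nat_lit 1024) (Steps.fwd (nat_lit 1536) (Steps.fwd (nat_lit 1024) Steps.nil)))))) (nat_lit 10) (nat_lit 5),
  Rule.mk (nat_lit 4) (nat_lit 61) (Steps.bwd (nat_lit 1) (Steps.bwd (nat_lit 5) (Steps.bwd (nat_lit 4) (Steps.fwd (nat_lit 1024) (Steps.bwd (nat_lit 4) (Steps.fwd (nat_lit 1024) Steps.nil)))))) (nat_lit 12) (nat_lit 5),
  Rule.mk (nat_lit 5) (nat_lit 34) (Steps.bwd (nat_lit 1) (Steps.fwd (nat_lit 2560) (Steps.fwd (nat_lit 512) Steps.nil))) (nat_lit 8) (nat_lit 0),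
  Rule.mk (nat_lit 3) (nat_lit 61) (Steps.bwd (nat_lit 1) (Steps.fwd (nat_lit 2560) (Steps.fwd (nat_lit 1536) (Steps.fwd (nat_lit 1024) (Steps.bwd (nat_lit 3) (Steps.fwd (nat_lit 1024) Steps.nil)))))) (nat_lit 10) (nat_lit 5),
  Rule.mk (nat_lit 4) (nat_lit 61) (Steps.bwd (nat_lit 1) (Steps.fwd (nat_lit 2560) (Steps.fwd (nat_lit 2048) (Steps.fwd (nat_lit 1024) (Steps.bwd (nat_lit 4) (Steps.fwd (nat_lit 1024) Steps.nil)))))) (nat_lit 12) (nat_lit 5),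
  Rule.mk (nat_lit 4) (nat_lit 34) (Steps.bwd (nat_lit 3) (Steps.bwd (nat_lit 4) (Steps.fwd (nat_lit 1536) Steps.nil))) (nat_lit 14) (nat_lit 0)]
noncomputable def R_1 : List (Rule) := [Rule.mk (nat_lit 3) (nat_lit 61) (Steps.bwd (nat_lit 2) (Steps.bwd (nat_lit 3) (Steps.bwd (nat_lit 5) (Steps.fwd (nat_lit 512) (Steps.bwd (nat_lit 3) (Steps.fwd (nat_lit 512) Steps.nil)))))) (nat_lit 11) (nat_lit 5),
  Rule.mk (nat_lit 4) (nat_lit 61) (Steps.bwd (nat_lit 2) (Steps.fwd (nat_lit 2048) (Steps.bwd (nat_lit 5) (Steps.fwd (nat_lit 512) (Steps.bwd (nat_lit 4) (Steps.bwd (nat_lit 2) Steps.nil)))))) (nat_lit 13) (nat_lit 5),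
  Rule.mk (nat_lit 5) (nat_lit 34) (Steps.bwd (nat_lit 2) (Steps.bwd (nat_lit 5) (Steps.fwd (nat_lit 1024) Steps.nil))) (nat_lit 8) (nat_lit 2),
  Rule.mk (nat_lit 3) (nat_lit 61) (Steps.bwd (nat_lit 2) (Steps.fwd (nat_lit 1536) (Steps.fwd (nat_lit 2560) (Steps.bwd (nat_lit 2) (Steps.fwd (nat_lit 1536) (Steps.bwd (nat_lit 2) Steps.nil)))))) (nat_lit 11) (nat_lit 5),
  Rule.mk (nat_lit 3) (nat_lit 61) (Steps.bwd (nat_lit 2) (Steps.fwd (nat_lit 1536) (Steps.bwd (nat_lit 5) (Steps.fwd (nat_lit 512) (Steps.bwd (nat_lit 3) (Steps.bwd (nat_lit 2) Steps.nil)))))) (nat_lit 11) (nat_lit 5),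
  Rule.mk (nat_lit 1) (nat_lit 25) (Steps.bwd (nat_lit 1) (Steps.fwd (nat_lit 1024) Steps.nil)) (nat_lit 0) (nat_lit 0),
  Rule.mk (nat_lit 3) (nat_lit 61) (Steps.bwd (nat_lit 1) (Steps.fwd (nat_lit 2560) (Steps.fwd (nat_lit 1536) (Steps.bwd (nat_lit 1) (Steps.fwd (nat_lit 1536) (Steps.bwd (nat_lit 1) Steps.nil)))))) (nat_lit 10) (nat_lit 5),
  Rule.mk (nat_lit 3) (nat_lit 34) (Steps.bwd (nat_lit 4) (Steps.fwd (nat_lit 1536) (Steps.bwd (nat_lit 4) Steps.nil))) (nat_lit 14) (nat_lit 1),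
  Rule.mk (nat_lit 3) (nat_lit 61) (Steps.bwd (nat_lit 1) (Steps.fwd (nat_lit 1536) (Steps.bwd (nat_lit 1) (Steps.fwd (nat_lit 2560) (Steps.bwd (nat_lit 3) (Steps.fwd (nat_lit 1024) Steps.nil)))))) (nat_lit 10) (nat_lit 3),
  Rule.mk (nat_lit 4) (nat_lit 61) (Steps.bwd (nat_lit 1) (Steps.bwd (nat_lit 4) (Steps.bwd (nat_lit 1) (Steps.fwd (nat_lit 2560) (Steps.fwd (nat_lit 2048) (Steps.bwd (nat_lit 1) Steps.nil)))))) (nat_lit 12) (nat_lit 3),
  Rule.mk (nat_lit 3) (nat_lit 61) (Steps.bwd (nat_lit 1) (Steps.fwd (nat_lit 1536) (Steps.fwd (nat_lit 1024) (Steps.bwd (nat_lit 5) (Steps.bwd (nat_lit 3) (Steps.fwd (nat_lit 1024) Steps.nil)))))) (nat_lit 10) (nat_lit 3),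
  Rule.mk (nat_lit 4) (nat_lit 61) (Steps.bwd (nat_lit 1) (Steps.fwd (nat_lit 2048) (Steps.bwd (nat_lit 1) (Steps.fwd (nat_lit 2560) (Steps.fwd (nat_lit 2048) (Steps.fwd (nat_lit 1024) Steps.nil)))))) (nat_lit 12) (nat_lit 3),
  Rule.mk (nat_lit 3) (nat_lit 61) (Steps.bwd (nat_lit 1) (Steps.bwd (nat_lit 5) (Steps.fwd (nat_lit 1536) (Steps.bwd (nat_lit 1) (Steps.bwd (nat_lit 3) (Steps.bwd (nat_lit 1) Steps.nil)))))) (nat_lit 10) (nat_lit 5),
  Rule.mk (nat_lit 4) (nat_lit 61) (Steps.bwd (nat_lit 1) (Steps.bwd (nat_lit 5) (Steps.bwd (nat_lit 4) (Steps.bwd (nat_lit 1) (Steps.fwd (nat_lit 2048) (Steps.fwd (nat_lit 1024) Steps.nil)))))) (nat_lit 12) (nat_lit 5),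
  Rule.mk (nat_lit 4) (nat_lit 61) (Steps.bwd (nat_lit 1) (Steps.fwd (nat_lit 2560) (Steps.fwd (nat_lit 2048) (Steps.bwd (nat_lit 1) (Steps.bwd (nat_lit 4) (Steps.bwd (nat_lit 1) Steps.nil)))))) (nat_lit 12) (nat_lit 5)]
noncomputable def R : List (List (Rule)) := [R_0, R_1]
def LW : List Word := [[], [0], [1], [2], [4], [6]]
def par : Par := ⟨9, 3, 12, 21, 511, 4095, 2097151⟩
theorem hpar : par.ok := by decide
theorem hR0_0 : lall (R) (fun l => lall l (ruleOK RB LW par)) = true := by decide +kernel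
theorem hR0 : lall (R) (fun l => lall l (ruleOK RB LW par)) = true := hR0_0
theorem hR : RulesOK RB LW par R := rulesOK_of rfl hR0
def cols : List (ℕ × ℕ) := [(512, 2), (1536, 3), (2048, 4), (2560, 5)]
theorem hcols : lall cols (colOK RB LW par) = true := by decide +kernel
noncomputable def JS0 : List ℕ := [nat_lit 0x20203824ca5d280a2e13009704008025c08112e16c3804ec7836840b64802032d912f9680800b420226a31008025a205b0016478000a59125f338381a5a2c8e0196cb40c02002c842d170b208b4062c8d2d814b430065c2d8300800b410b65d2d022d97cb42cb85e2d8a03984b824005b105f3216c397cb85b0c0100168296c025a085b2e9681970ba5b045e2e81,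
  nat_lit 0x10e663287009a0cc78d0650200328844998ca1c0268331e341940800ca211c66328701824d80e37198e99c1c652a6d3208330a0c854ce6326010101c126b319c051889804c4200401311b11188c21c0287451f442613401019848994c004006010253e1c80401301930800be6000162f89379e4447d3017cb80c1266071a0c058c20e2f953397841802e5e2a612e93,
  nat_lit 0xe49c86021d0e6c0e87339110f004e4a9040138840f030ee03009c57a049234199c4e0b8009138270002060b40270379e381b80804e220640136aa371b4d8b122440b00cda6c567b011b15054da6b528a26854286c35a8001b0d69c224040064de004c000425372494a11081a520001e681601020c93e760723398f0f2140099d119ccc20f297522891a30009990804cc65122e339950199149f50a612674329f009a0cc78d06502003288,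
  nat_lit 0x112858c5412a592e0242c542a104164d2a11c80908bc4e98212a40483888441a0a18d8068254a641a05496180351a0050309202551291028082010020200ed24270581500fd30611f02c087f7c81019f9e9f8fa05202b2c204fc7d78a107824107d3e3b3f1f0f6e8a67e3da004014f4112e2110078047a72282c9686a023cb83c9e008911652281e4f0dd2e7e0400400776c78249dc10101e1022294eed40c265996890766876519d45820f40f22288eacc0a8a2995d4474647c0888c08753a31,
  nat_lit 0x1f1b2b705815213c86412902c088f7c9101a39ea391a049616492451c8d9c4d3fb00108d464d4723116e8108e45835e0151411987467ab8048a983e1eac0920244cb44a200aa0148d45225112958763c2e0008792550021e4158feb0042290f1c0489431e]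
theorem S0_c : blocks (facts 9 3 12 21 511 4095 2097151 9 511 7 127 A R 32) 32 JS0 350 = true := by decide +kernel
theorem S0 : On (Step.{u} RB LW par A) 350 510 :=
  steps_of_blocks hpar hR S0_c (by decide +kernel)
theorem D0_c : allB (defOK 9 12 21 511 2097151 351 A K) 1 2 = true := by decide +kernel
theorem D0 : On (fun r => defOK par.W par.WL par.E par.mW par.mE 351 A K r = true) 256 384 :=
  On.of_allB D0_c
noncomputable def JW0 : List ℕ := [nat_lit 0x3c9b05b9b3350d21c5a1489d2765037451a470c145831721cb3e0473d9b94a9e14a5aa364dd2cda76a4e20bce14b1de795c277524498c93f49b405bf70564419057c53a4e4ef3a0e70f4ea3c5b4285ac4d1ed4d9137b9f54f19e4306542d0e45586731c44b9d4761e9485d7474d748d1b76cfb7ade0791314ade349ce54b52579d097cd3b4dd337c1f74f5b64d5f47e5ce4bdd67693e7a9e2799fa7c9f67e1fc,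
  nat_lit 0x741d34798e2ec551658b6342721cbf08c300c8341284612151360d3611a3354dc185a52d05f2c9815142c0b942771df4a19630c890e593654a3294c73f0973ddbb5c89a14d703e451401bd1e1651cc763a4e310daf6a0e60ecdb0f94a0f0403c1b1238ed3cdb5204f42447f281797bdec4e0d1328ac27ccc6706913d984356241dc7574641995a70166428ff450b77251160987084a945c1f73518481d547cdf,
  nat_lit 0x2e84d1acbc6303722d880a8260a140308850a4c45a8882296d0ac360e1466509d2bd905ac84219680fc2d1094f5114b0e9485485455d4c12c50149552408d23c922087e200755cc96124955d8a25ec9932d7c5e99b2acad2b97f5dc9c2797467457558cf16c681a86c54c4c13845571631c960168561605c1885e181581e56719c7c60cb60ccb12d46f614b82a97d290a70881e0802420c8c5bc7b18c6e1c15e]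
theorem W0_c : blocks (rows 9 3 12 21 511 4095 2097151 10 1023 40 A 510 96 cols 32) 32 JW0 0 = true := by decide +kernel
theorem W0 : On (Row.{u} RB LW par A 510 96 cols) 0 96 :=
  rows_of_blocks hpar (by decide) hcols W0_c (by decide +kernel)
theorem idx : Idx.{u} RB [[0], [2], [4], [6]] [] 96 :=
  idx_of_cert hpar hR (K := K) (by decide +kernel) (T := 351) (T' := 384) (by decide) D0
    (subs := []) (by decide +kernel) (T1 := 350) (by decide) (N := 510) S0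
    (by decide) (n' := 96) (by decide) W0 (by decide +kernel) (by decide +kernel)
end b
namespace w
noncomputable def A_0 : List (ℕ) := [nat_lit 0x330c8730649743251c3f3251f9b48fc4f8c8254640c32594f12c6f8dc2b66e0de268719444f4a22a45129d0e06d070a6c4e0b4271ba298790dc3746e39a1007a080e586c244722863507d1a8ce8a0164500a6253151282f0ac558da33c621511982e0a418c522e66b0651702e8a80f03a0861d1132b0228880f43c09c24055120c1090038140620a016070c28383086006a18015068250340a81203a1202b090598f00b02c04611001011e0aad564b65ba9834152a94a613108abe2b058156ab69815851c8e260304572bb20d328ce6748341b1d25ca592c48a45c9a4aa5e2f1269354de8b46f37b4e250a713849249a9b5d94fa7ca6d378a49348743a2914a071225209024120c49248a893a4b45a2a351d5d2c8aa552574bac7e53551288940a14fc7147e3f31c1fc8e07050080a8438140a04a11099548c4735cc452a89cce75047d28241450a86a3cf28f48f47c3e22010204d1b07cb78864422e1711ecf74687a65e1a407ad4af57a55eafcb45a235ace9a4d245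2b1265366149ab194cac4ca82bf5f94f27b29d4e8aca4a542a10ea80938af83a55c4e2730d0f4a190c4ee77c3b1da088eaa150a478b82b64561e2272d96d0ea482613093b1da0c06442e172442242f97c9d0468341a44f251319990bc988e874a4f27c39175108428102c42d2f21111a0542a808202082392190c8585b84c2622f17d391c918cc7048428140a1020f8964b24ea756301890984c8d86ccb05826e0fa0c8651347e4c46442b25a371ba9349acda514330e20389d0a0a683c376100820186c81c7246a35212146128948ac574da6d462313120cd83c1e40629a6b35c150ba034190042a60d05b01076958ad03c22809044008798240ec0224418051070388186181a18c0503600035014134021283c1e50885a8100b400118030240000d8000440201200,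
  nat_lit 0x4fb4d2f622c7ad162b86f2bc4a2e1a5083928bba942494a1ba271219389fa9c48e24a761242ec92a88bb4335da4f2ed365764d89f43e4faca26c90d367189321b49906a4ca49263b68752443a42a1d234a4538912094895224112d20146412134916b248e3524502924ee51129a756553aa329d0fc2d2a9969534b450ca35fc519b1a8cccd64a6cb25d1591622a4fad5271ca95045d2d5ae8e254c558a659b531f92994f144696a20dc282059405ace23787e2e43f9759fd738fe70a7f4013f8420e10587081a383ee40216200d4d007a870163382331c1084e03988139e408ea21168d083d88c5eb462e6a3154918b96b13ea5ca08ae4b31547daaa47c398bd9cc6d0fa726824465093da856e5428d4a13cc449519e51f8f288a791a23c9d1a3c8091e5767c5c43e0d31f16f4f87ac4046d201732356e91ab76a83de5ba220ed48d107b48810b2e1ea9706b0f63427a35e5a9b2ad55e56ab3cbd58d5e98a2bcc6d5e65aaf3555a2cd2d0d6966b1c69351349b0ac4ca4d82926a12c3295b2a0af5509e2a85265fa82afc9713c4c69e2754f156a9d4894e564a45062a154950ae5404e2570e92a8661382387a8aa3d3b91e8eb2197150c3187719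33bada9dd134763a43b08a1d2e32151250a8a2b85b1450f0a24ecd6c668480b62405e920ec4902386121e309129848f8ec32a76074190570c8884644a8170260b853110458be23a5f2612f82308c9e8460681a10e0d132868bb89466a4a391250b31984c8cc1884c2f62611b1d05f0e820c4f10c2e8b29745c8ba5ea211021097a0b0188584645e112230829188f42a1441523c1005891c5b08614a43215168308b41504c63a26066178bb1c8858c62e2423231f04b0f82747c7523e0fb2c8d71646d4b239c7518d3a8398c421862362311fb0980f04c1f86c1ec580fd2c12c9600f83e4d41f,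
  nat_lit 0x19c3c0d19e0c18f068a782d93c1a62ad4ed568ecab52d55ab316d330b62065b144341ed9a15b8d09826859c52955a956194abec982334c2d62f940d7cacabe5695f1922c11ad608eab04ac5697dab4d9158bf6ac301560fe23880d1c2366030b57256ab8de95c8b2ae23b4c9bf2648b5328349913c33a4599d178ce96a674bd41ad220cd512e856974ae4b914a5ca312c526965e64b05591488d2a9a49558c5e229af1175786d89a]
noncomputable def A : List (List (ℕ)) := [A_0]
noncomputable def K_0 : List (ℕ) := [nat_lit 0xb5ee2ebaad1e530f5cbe566ed73b965ae1b7ba6cb6db5dee1b2b6cb4e4f7568cbe4b0566d15ab33a5d0ea763b9d76b757a6d066b3b9cc06d2fb88d456eb57bcfd86bb89d7e0f158cc763f097fbcde303beb055a714cc2cfb218bd3cba416f8ddbae3bbd853adb309ec7eafb3a951e957ade6627334b2c56c96794e7a5991a5d8e5b4d97d3f4958a1d1b5953a14f3377e98ceac507afd7a4b8d944d649778f5566f0d9fc6a834890c623923955024510a8c52934499c4a2d2b93542650caa41a8b3b9b42209278ec3a15198bc3e131388c2e0b03814060000]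
noncomputable def K : List (List (ℕ)) := [K_0]
noncomputable def R_0 : List (Rule) := [Rule.mk (nat_lit 1) (nat_lit 28) (Steps.bwd (nat_lit 1) (Steps.bwd (nat_lit 1) Steps.nil)) (nat_lit 0) (nat_lit 0),
  Rule.mk (nat_lit 3) (nat_lit 38) (Steps.bwd (nat_lit 4) (Steps.bwd (nat_lit 3) (Steps.fwd (nat_lit 2048) Steps.nil))) (nat_lit 14) (nat_lit 1),
  Rule.mk (nat_lit 4) (nat_lit 38) (Steps.bwd (nat_lit 5) (Steps.bwd (nat_lit 4) (Steps.fwd (nat_lit 2560) Steps.nil))) (nat_lit 20) (nat_lit 1),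
  Rule.mk (nat_lit 3) (nat_lit 38) (Steps.bwd (nat_lit 5) (Steps.fwd (nat_lit 1536) (Steps.fwd (nat_lit 2560) Steps.nil))) (nat_lit 18) (nat_lit 1),
  Rule.mk (nat_lit 3) (nat_lit 38) (Steps.bwd (nat_lit 4) (Steps.fwd (nat_lit 1536) (Steps.fwd (nat_lit 2048) Steps.nil))) (nat_lit 14) (nat_lit 1),
  Rule.mk (nat_lit 5) (nat_lit 38) (Steps.bwd (nat_lit 4) (Steps.bwd (nat_lit 5) (Steps.bwd (nat_lit 4) Steps.nil))) (nat_lit 20) (nat_lit 0),
  Rule.mk (nat_lit 2) (nat_lit 38) (Steps.bwd (nat_lit 5) (Steps.bwd (nat_lit 1) (Steps.fwd (nat_lit 2560) Steps.nil))) (nat_lit 8) (nat_lit 3),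
  Rule.mk (nat_lit 2) (nat_lit 28) (Steps.bwd (nat_lit 2) (Steps.bwd (nat_lit 2) Steps.nil)) (nat_lit 1) (nat_lit 0),
  Rule.mk (nat_lit 5) (nat_lit 38) (Steps.bwd (nat_lit 2) (Steps.bwd (nat_lit 5) (Steps.bwd (nat_lit 1) Steps.nil))) (nat_lit 8) (nat_lit 2),
  Rule.mk (nat_lit 5) (nat_lit 38) (Steps.bwd (nat_lit 6) (Steps.bwd (nat_lit 5) (Steps.fwd (nat_lit 3072) Steps.nil))) (nat_lit 26) (nat_lit 0),
  Rule.mk (nat_lit 2) (nat_lit 38) (Steps.bwd (nat_lit 6) (Steps.bwd (nat_lit 2) (Steps.fwd (nat_lit 3072) Steps.nil))) (nat_lit 25) (nat_lit 1),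
  Rule.mk (nat_lit 5) (nat_lit 38) (Steps.bwd (nat_lit 1) (Steps.bwd (nat_lit 5) (Steps.bwd (nat_lit 2) Steps.nil))) (nat_lit 8) (nat_lit 0),
  Rule.mk (nat_lit 6) (nat_lit 38) (Steps.bwd (nat_lit 1) (Steps.bwd (nat_lit 6) (Steps.bwd (nat_lit 1) Steps.nil))) (nat_lit 24) (nat_lit 1),
  Rule.mk (nat_lit 6) (nat_lit 38) (Steps.bwd (nat_lit 1) (Steps.fwd (nat_lit 3072) (Steps.bwd (nat_lit 1) Steps.nil))) (nat_lit 24) (nat_lit 1),
  Rule.mk (nat_lit 5) (nat_lit 38) (Steps.bwd (nat_lit 2) (Steps.fwd (nat_lit 2560) (Steps.bwd (nat_lit 1) Steps.nil))) (nat_lit 8) (nat_lit 2),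
  Rule.mk (nat_lit 6) (nat_lit 38) (Steps.bwd (nat_lit 2) (Steps.bwd (nat_lit 6) (Steps.bwd (nat_lit 2) Steps.nil))) (nat_lit 25) (nat_lit 0),
  Rule.mk (nat_lit 5) (nat_lit 38) (Steps.bwd (nat_lit 3) (Steps.bwd (nat_lit 5) (Steps.fwd (nat_lit 1536) Steps.nil))) (nat_lit 18) (nat_lit 0),
  Rule.mk (nat_lit 5) (nat_lit 38) (Steps.bwd (nat_lit 4) (Steps.bwd (nat_lit 5) (Steps.fwd (nat_lit 2048) Steps.nil))) (nat_lit 20) (nat_lit 0),
  Rule.mk (nat_lit 5) (nat_lit 38) (Steps.bwd (nat_lit 3) (Steps.fwd (nat_lit 2560) (Steps.fwd (nat_lit 1536) Steps.nil))) (nat_lit 18) (nat_lit 0),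
  Rule.mk (nat_lit 5) (nat_lit 38) (Steps.bwd (nat_lit 4) (Steps.fwd (nat_lit 2560) (Steps.fwd (nat_lit 2048) Steps.nil))) (nat_lit 20) (nat_lit 0),
  Rule.mk (nat_lit 1) (nat_lit 68) (Steps.bwd (nat_lit 3) (Steps.bwd (nat_lit 1) (Steps.bwd (nat_lit 5) (Steps.fwd (nat_lit 1536) (Steps.fwd (nat_lit 1024) (Steps.fwd (nat_lit 1536) Steps.nil)))))) (nat_lit 10) (nat_lit 4),
  Rule.mk (nat_lit 6) (nat_lit 58) (Steps.bwd (nat_lit 3) (Steps.fwd (nat_lit 3072) (Steps.bwd (nat_lit 2) (Steps.fwd (nat_lit 1536) (Steps.bwd (nat_lit 1) Steps.nil))))) (nat_lit 28) (nat_lit 1),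
  Rule.mk (nat_lit 6) (nat_lit 38) (Steps.bwd (nat_lit 2) (Steps.fwd (nat_lit 3072) (Steps.fwd (nat_lit 512) Steps.nil))) (nat_lit 25) (nat_lit 0),
  Rule.mk (nat_lit 6) (nat_lit 38) (Steps.bwd (nat_lit 5) (Steps.fwd (nat_lit 3072) (Steps.fwd (nat_lit 2560) Steps.nil))) (nat_lit 26) (nat_lit 1),
  Rule.mk (nat_lit 3) (nat_lit 58) (Steps.bwd (nat_lit 1) (Steps.fwd (nat_lit 3072) (Steps.bwd (nat_lit 3) (Steps.bwd (nat_lit 6) (Steps.fwd (nat_lit 512) Steps.nil))))) (nat_lit 28) (nat_lit 5),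
  Rule.mk (nat_lit 1) (nat_lit 38) (Steps.bwd (nat_lit 6) (Steps.bwd (nat_lit 1) (Steps.fwd (nat_lit 3072) Steps.nil))) (nat_lit 24) (nat_lit 0),
  Rule.mk (nat_lit 5) (nat_lit 38) (Steps.bwd (nat_lit 6) (Steps.fwd (nat_lit 2560) (Steps.fwd (nat_lit 3072) Steps.nil))) (nat_lit 26) (nat_lit 0),
  Rule.mk (nat_lit 5) (nat_lit 38) (Steps.bwd (nat_lit 1) (Steps.fwd (nat_lit 2560) (Steps.fwd (nat_lit 512) Steps.nil))) (nat_lit 8) (nat_lit 0),
  Rule.mk (nat_lit 3) (nat_lit 68) (Steps.bwd (nat_lit 1) (Steps.fwd (nat_lit 2560) (Steps.bwd (nat_lit 3) (Steps.bwd (nat_lit 1) (Steps.fwd (nat_lit 1536) (Steps.bwd (nat_lit 1) Steps.nil)))))) (nat_lit 10) (nat_lit 5),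
  Rule.mk (nat_lit 3) (nat_lit 68) (Steps.bwd (nat_lit 1) (Steps.bwd (nat_lit 5) (Steps.bwd (nat_lit 3) (Steps.fwd (nat_lit 1024) (Steps.bwd (nat_lit 3) (Steps.bwd (nat_lit 1) Steps.nil)))))) (nat_lit 10) (nat_lit 5),
  Rule.mk (nat_lit 2) (nat_lit 28) (Steps.bwd (nat_lit 2) (Steps.fwd (nat_lit 512) Steps.nil)) (nat_lit 1) (nat_lit 0),
  Rule.mk (nat_lit 5) (nat_lit 38) (Steps.bwd (nat_lit 3) (Steps.fwd (nat_lit 2560) (Steps.bwd (nat_lit 3) Steps.nil))) (nat_lit 18) (nat_lit 0),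
  Rule.mk (nat_lit 2) (nat_lit 68) (Steps.bwd (nat_lit 3) (Steps.fwd (nat_lit 2560) (Steps.fwd (nat_lit 512) (Steps.fwd (nat_lit 1536) (Steps.bwd (nat_lit 2) (Steps.fwd (nat_lit 1536) Steps.nil)))))) (nat_lit 11) (nat_lit 6),
  Rule.mk (nat_lit 3) (nat_lit 68) (Steps.bwd (nat_lit 2) (Steps.bwd (nat_lit 3) (Steps.fwd (nat_lit 2560) (Steps.bwd (nat_lit 2) (Steps.fwd (nat_lit 1536) (Steps.bwd (nat_lit 2) Steps.nil)))))) (nat_lit 11) (nat_lit 5),
  Rule.mk (nat_lit 5) (nat_lit 38) (Steps.bwd (nat_lit 2) (Steps.bwd (nat_lit 5) (Steps.fwd (nat_lit 1024) Steps.nil))) (nat_lit 8) (nat_lit 2),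
  Rule.mk (nat_lit 3) (nat_lit 68) (Steps.bwd (nat_lit 2) (Steps.bwd (nat_lit 3) (Steps.bwd (nat_lit 5) (Steps.fwd (nat_lit 512) (Steps.bwd (nat_lit 3) (Steps.bwd (nat_lit 2) Steps.nil)))))) (nat_lit 11) (nat_lit 5),
  Rule.mk (nat_lit 6) (nat_lit 58) (Steps.bwd (nat_lit 3) (Steps.fwd (nat_lit 3072) (Steps.bwd (nat_lit 2) (Steps.fwd (nat_lit 1536) (Steps.fwd (nat_lit 1024) Steps.nil))))) (nat_lit 28) (nat_lit 1),
  Rule.mk (nat_lit 3) (nat_lit 38) (Steps.bwd (nat_lit 5) (Steps.bwd (nat_lit 3) (Steps.fwd (nat_lit 2560) Steps.nil))) (nat_lit 18) (nat_lit 1),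
  Rule.mk (nat_lit 6) (nat_lit 38) (Steps.bwd (nat_lit 5) (Steps.fwd (nat_lit 3072) (Steps.bwd (nat_lit 5) Steps.nil))) (nat_lit 26) (nat_lit 1),
  Rule.mk (nat_lit 6) (nat_lit 38) (Steps.bwd (nat_lit 2) (Steps.fwd (nat_lit 3072) (Steps.bwd (nat_lit 2) Steps.nil))) (nat_lit 25) (nat_lit 0),
  Rule.mk (nat_lit 3) (nat_lit 68) (Steps.bwd (nat_lit 2) (Steps.fwd (nat_lit 1536) (Steps.bwd (nat_lit 5) (Steps.bwd (nat_lit 2) (Steps.bwd (nat_lit 3) (Steps.bwd (nat_lit 2) Steps.nil)))))) (nat_lit 11) (nat_lit 5),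
  Rule.mk (nat_lit 1) (nat_lit 28) (Steps.bwd (nat_lit 1) (Steps.fwd (nat_lit 1024) Steps.nil)) (nat_lit 0) (nat_lit 0),
  Rule.mk (nat_lit 6) (nat_lit 38) (Steps.bwd (nat_lit 1) (Steps.fwd (nat_lit 3072) (Steps.fwd (nat_lit 1024) Steps.nil))) (nat_lit 24) (nat_lit 1),
  Rule.mk (nat_lit 5) (nat_lit 38) (Steps.bwd (nat_lit 2) (Steps.fwd (nat_lit 2560) (Steps.fwd (nat_lit 1024) Steps.nil))) (nat_lit 8) (nat_lit 2),
  Rule.mk (nat_lit 3) (nat_lit 68) (Steps.bwd (nat_lit 2) (Steps.bwd (nat_lit 3) (Steps.fwd (nat_lit 2560) (Steps.fwd (nat_lit 512) (Steps.fwd (nat_lit 1536) (Steps.fwd (nat_lit 512) Steps.nil)))))) (nat_lit 11) (nat_lit 5),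
  Rule.mk (nat_lit 6) (nat_lit 58) (Steps.bwd (nat_lit 3) (Steps.fwd (nat_lit 3072) (Steps.bwd (nat_lit 2) (Steps.bwd (nat_lit 3) (Steps.fwd (nat_lit 1024) Steps.nil))))) (nat_lit 28) (nat_lit 1),
  Rule.mk (nat_lit 3) (nat_lit 58) (Steps.bwd (nat_lit 1) (Steps.fwd (nat_lit 3072) (Steps.fwd (nat_lit 1536) (Steps.bwd (nat_lit 6) (Steps.fwd (nat_lit 512) Steps.nil))))) (nat_lit 28) (nat_lit 5),
  Rule.mk (nat_lit 3) (nat_lit 58) (Steps.bwd (nat_lit 1) (Steps.fwd (nat_lit 3072) (Steps.bwd (nat_lit 3) (Steps.fwd (nat_lit 3072) (Steps.fwd (nat_lit 512) Steps.nil))))) (nat_lit 28) (nat_lit 5),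
  Rule.mk (nat_lit 5) (nat_lit 38) (Steps.bwd (nat_lit 3) (Steps.bwd (nat_lit 5) (Steps.bwd (nat_lit 3) Steps.nil))) (nat_lit 18) (nat_lit 0),
  Rule.mk (nat_lit 6) (nat_lit 58) (Steps.bwd (nat_lit 3) (Steps.bwd (nat_lit 6) (Steps.bwd (nat_lit 2) (Steps.bwd (nat_lit 3) (Steps.bwd (nat_lit 1) Steps.nil))))) (nat_lit 28) (nat_lit 1),
  Rule.mk (nat_lit 3) (nat_lit 58) (Steps.bwd (nat_lit 1) (Steps.fwd (nat_lit 3072) (Steps.bwd (nat_lit 3) (Steps.bwd (nat_lit 6) (Steps.bwd (nat_lit 2) Steps.nil))))) (nat_lit 28) (nat_lit 5),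
  Rule.mk (nat_lit 3) (nat_lit 58) (Steps.bwd (nat_lit 1) (Steps.fwd (nat_lit 3072) (Steps.fwd (nat_lit 1536) (Steps.bwd (nat_lit 6) (Steps.bwd (nat_lit 2) Steps.nil))))) (nat_lit 28) (nat_lit 5),
  Rule.mk (nat_lit 1) (nat_lit 68) (Steps.bwd (nat_lit 4) (Steps.bwd (nat_lit 1) (Steps.fwd (nat_lit 2560) (Steps.fwd (nat_lit 2048) (Steps.fwd (nat_lit 1024) (Steps.fwd (nat_lit 2048) Steps.nil)))))) (nat_lit 12) (nat_lit 4),
  Rule.mk (nat_lit 6) (nat_lit 58) (Steps.bwd (nat_lit 4) (Steps.fwd (nat_lit 3072) (Steps.bwd (nat_lit 2) (Steps.fwd (nat_lit 2048) (Steps.bwd (nat_lit 1) Steps.nil))))) (nat_lit 30) (nat_lit 1),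
  Rule.mk (nat_lit 4) (nat_lit 58) (Steps.bwd (nat_lit 1) (Steps.fwd (nat_lit 3072) (Steps.bwd (nat_lit 4) (Steps.bwd (nat_lit 6) (Steps.fwd (nat_lit 512) Steps.nil))))) (nat_lit 30) (nat_lit 5),
  Rule.mk (nat_lit 5) (nat_lit 38) (Steps.bwd (nat_lit 1) (Steps.bwd (nat_lit 5) (Steps.fwd (nat_lit 512) Steps.nil))) (nat_lit 8) (nat_lit 0),
  Rule.mk (nat_lit 4) (nat_lit 68) (Steps.bwd (nat_lit 1) (Steps.bwd (nat_lit 5) (Steps.bwd (nat_lit 4) (Steps.bwd (nat_lit 1) (Steps.fwd (nat_lit 2048) (Steps.bwd (nat_lit 1) Steps.nil)))))) (nat_lit 12) (nat_lit 5),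
  Rule.mk (nat_lit 4) (nat_lit 68) (Steps.bwd (nat_lit 1) (Steps.bwd (nat_lit 5) (Steps.bwd (nat_lit 4) (Steps.fwd (nat_lit 1024) (Steps.bwd (nat_lit 4) (Steps.bwd (nat_lit 1) Steps.nil)))))) (nat_lit 12) (nat_lit 5),
  Rule.mk (nat_lit 5) (nat_lit 38) (Steps.bwd (nat_lit 4) (Steps.fwd (nat_lit 2560) (Steps.bwd (nat_lit 4) Steps.nil))) (nat_lit 20) (nat_lit 0),
  Rule.mk (nat_lit 2) (nat_lit 68) (Steps.bwd (nat_lit 4) (Steps.fwd (nat_lit 2560) (Steps.fwd (nat_lit 512) (Steps.fwd (nat_lit 2048) (Steps.bwd (nat_lit 2) (Steps.fwd (nat_lit 2048) Steps.nil)))))) (nat_lit 13) (nat_lit 6),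
  Rule.mk (nat_lit 4) (nat_lit 68) (Steps.bwd (nat_lit 2) (Steps.bwd (nat_lit 4) (Steps.fwd (nat_lit 2560) (Steps.bwd (nat_lit 2) (Steps.fwd (nat_lit 2048) (Steps.bwd (nat_lit 2) Steps.nil)))))) (nat_lit 13) (nat_lit 5),
  Rule.mk (nat_lit 4) (nat_lit 68) (Steps.bwd (nat_lit 2) (Steps.bwd (nat_lit 4) (Steps.bwd (nat_lit 5) (Steps.fwd (nat_lit 512) (Steps.bwd (nat_lit 4) (Steps.bwd (nat_lit 2) Steps.nil)))))) (nat_lit 13) (nat_lit 5),
  Rule.mk (nat_lit 6) (nat_lit 58) (Steps.bwd (nat_lit 4) (Steps.fwd (nat_lit 3072) (Steps.bwd (nat_lit 2) (Steps.fwd (nat_lit 2048) (Steps.fwd (nat_lit 1024) Steps.nil))))) (nat_lit 30) (nat_lit 1),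
  Rule.mk (nat_lit 4) (nat_lit 68) (Steps.bwd (nat_lit 2) (Steps.fwd (nat_lit 2048) (Steps.bwd (nat_lit 5) (Steps.bwd (nat_lit 2) (Steps.bwd (nat_lit 4) (Steps.bwd (nat_lit 2) Steps.nil)))))) (nat_lit 13) (nat_lit 5)]
noncomputable def R_1 : List (Rule) := [Rule.mk (nat_lit 4) (nat_lit 68) (Steps.bwd (nat_lit 2) (Steps.bwd (nat_lit 4) (Steps.fwd (nat_lit 2560) (Steps.fwd (nat_lit 512) (Steps.fwd (nat_lit 2048) (Steps.fwd (nat_lit 512) Steps.nil)))))) (nat_lit 13) (nat_lit 5),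
  Rule.mk (nat_lit 6) (nat_lit 58) (Steps.bwd (nat_lit 4) (Steps.fwd (nat_lit 3072) (Steps.bwd (nat_lit 2) (Steps.bwd (nat_lit 4) (Steps.fwd (nat_lit 1024) Steps.nil))))) (nat_lit 30) (nat_lit 1),
  Rule.mk (nat_lit 4) (nat_lit 58) (Steps.bwd (nat_lit 1) (Steps.fwd (nat_lit 3072) (Steps.fwd (nat_lit 2048) (Steps.bwd (nat_lit 6) (Steps.fwd (nat_lit 512) Steps.nil))))) (nat_lit 30) (nat_lit 5),
  Rule.mk (nat_lit 4) (nat_lit 58) (Steps.bwd (nat_lit 1) (Steps.fwd (nat_lit 3072) (Steps.bwd (nat_lit 4) (Steps.fwd (nat_lit 3072) (Steps.fwd (nat_lit 512) Steps.nil))))) (nat_lit 30) (nat_lit 5),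
  Rule.mk (nat_lit 6) (nat_lit 58) (Steps.bwd (nat_lit 4) (Steps.bwd (nat_lit 6) (Steps.bwd (nat_lit 2) (Steps.bwd (nat_lit 4) (Steps.bwd (nat_lit 1) Steps.nil))))) (nat_lit 30) (nat_lit 1),
  Rule.mk (nat_lit 4) (nat_lit 58) (Steps.bwd (nat_lit 1) (Steps.fwd (nat_lit 3072) (Steps.bwd (nat_lit 4) (Steps.bwd (nat_lit 6) (Steps.bwd (nat_lit 2) Steps.nil))))) (nat_lit 30) (nat_lit 5),
  Rule.mk (nat_lit 4) (nat_lit 58) (Steps.bwd (nat_lit 1) (Steps.fwd (nat_lit 3072) (Steps.fwd (nat_lit 2048) (Steps.bwd (nat_lit 6) (Steps.bwd (nat_lit 2) Steps.nil))))) (nat_lit 30) (nat_lit 5),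
  Rule.mk (nat_lit 1) (nat_lit 58) (Steps.bwd (nat_lit 6) (Steps.fwd (nat_lit 1536) (Steps.fwd (nat_lit 3072) (Steps.fwd (nat_lit 512) (Steps.bwd (nat_lit 3) Steps.nil))))) (nat_lit 28) (nat_lit 0),
  Rule.mk (nat_lit 1) (nat_lit 38) (Steps.bwd (nat_lit 6) (Steps.bwd (nat_lit 1) (Steps.bwd (nat_lit 6) Steps.nil))) (nat_lit 24) (nat_lit 0),
  Rule.mk (nat_lit 2) (nat_lit 38) (Steps.bwd (nat_lit 5) (Steps.bwd (nat_lit 1) (Steps.bwd (nat_lit 5) Steps.nil))) (nat_lit 8) (nat_lit 3),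
  Rule.mk (nat_lit 5) (nat_lit 38) (Steps.bwd (nat_lit 6) (Steps.fwd (nat_lit 2560) (Steps.bwd (nat_lit 6) Steps.nil))) (nat_lit 26) (nat_lit 0),
  Rule.mk (nat_lit 3) (nat_lit 58) (Steps.bwd (nat_lit 6) (Steps.bwd (nat_lit 2) (Steps.fwd (nat_lit 1536) (Steps.fwd (nat_lit 1024) (Steps.bwd (nat_lit 6) Steps.nil))))) (nat_lit 28) (nat_lit 2),
  Rule.mk (nat_lit 4) (nat_lit 58) (Steps.bwd (nat_lit 6) (Steps.bwd (nat_lit 2) (Steps.bwd (nat_lit 4) (Steps.fwd (nat_lit 1024) (Steps.bwd (nat_lit 6) Steps.nil))))) (nat_lit 30) (nat_lit 2),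
  Rule.mk (nat_lit 6) (nat_lit 38) (Steps.bwd (nat_lit 1) (Steps.bwd (nat_lit 6) (Steps.fwd (nat_lit 1024) Steps.nil))) (nat_lit 24) (nat_lit 1),
  Rule.mk (nat_lit 4) (nat_lit 38) (Steps.bwd (nat_lit 3) (Steps.fwd (nat_lit 2048) (Steps.bwd (nat_lit 3) Steps.nil))) (nat_lit 14) (nat_lit 0),
  Rule.mk (nat_lit 1) (nat_lit 58) (Steps.bwd (nat_lit 6) (Steps.bwd (nat_lit 3) (Steps.fwd (nat_lit 3072) (Steps.bwd (nat_lit 2) (Steps.bwd (nat_lit 3) Steps.nil))))) (nat_lit 28) (nat_lit 0),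
  Rule.mk (nat_lit 1) (nat_lit 58) (Steps.bwd (nat_lit 6) (Steps.bwd (nat_lit 3) (Steps.fwd (nat_lit 3072) (Steps.fwd (nat_lit 512) (Steps.bwd (nat_lit 3) Steps.nil))))) (nat_lit 28) (nat_lit 0),
  Rule.mk (nat_lit 3) (nat_lit 58) (Steps.bwd (nat_lit 6) (Steps.bwd (nat_lit 2) (Steps.fwd (nat_lit 1536) (Steps.bwd (nat_lit 1) (Steps.bwd (nat_lit 6) Steps.nil))))) (nat_lit 28) (nat_lit 2),
  Rule.mk (nat_lit 4) (nat_lit 58) (Steps.bwd (nat_lit 6) (Steps.bwd (nat_lit 2) (Steps.bwd (nat_lit 4) (Steps.bwd (nat_lit 1) (Steps.bwd (nat_lit 6) Steps.nil))))) (nat_lit 30) (nat_lit 2),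
  Rule.mk (nat_lit 1) (nat_lit 88) (Steps.bwd (nat_lit 3) (Steps.bwd (nat_lit 2) (Steps.bwd (nat_lit 4) (Steps.bwd (nat_lit 5) (Steps.bwd (nat_lit 1) (Steps.fwd (nat_lit 1536) (Steps.fwd (nat_lit 512) (Steps.fwd (nat_lit 2048) Steps.nil)))))))) (nat_lit 16) (nat_lit 5),
  Rule.mk (nat_lit 4) (nat_lit 38) (Steps.bwd (nat_lit 5) (Steps.bwd (nat_lit 4) (Steps.bwd (nat_lit 5) Steps.nil))) (nat_lit 20) (nat_lit 1),
  Rule.mk (nat_lit 3) (nat_lit 88) (Steps.bwd (nat_lit 2) (Steps.fwd (nat_lit 2048) (Steps.fwd (nat_lit 2560) (Steps.bwd (nat_lit 1) (Steps.bwd (nat_lit 3) (Steps.fwd (nat_lit 512) (Steps.fwd (nat_lit 2048) (Steps.fwd (nat_lit 1024) Steps.nil)))))))) (nat_lit 16) (nat_lit 6),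
  Rule.mk (nat_lit 3) (nat_lit 68) (Steps.bwd (nat_lit 2) (Steps.fwd (nat_lit 1536) (Steps.fwd (nat_lit 2560) (Steps.bwd (nat_lit 2) (Steps.bwd (nat_lit 3) (Steps.bwd (nat_lit 2) Steps.nil)))))) (nat_lit 11) (nat_lit 5),
  Rule.mk (nat_lit 4) (nat_lit 68) (Steps.fwd (nat_lit 2560) (Steps.fwd (nat_lit 512) (Steps.fwd (nat_lit 2048) (Steps.fwd (nat_lit 512) (Steps.bwd (nat_lit 4) (Steps.bwd (nat_lit 2) Steps.nil)))))) (nat_lit 13) (nat_lit 0),
  Rule.mk (nat_lit 3) (nat_lit 58) (Steps.fwd (nat_lit 3072) (Steps.bwd (nat_lit 2) (Steps.bwd (nat_lit 3) (Steps.fwd (nat_lit 1024) (Steps.bwd (nat_lit 6) Steps.nil))))) (nat_lit 28) (nat_lit 2),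
  Rule.mk (nat_lit 2) (nat_lit 58) (Steps.bwd (nat_lit 4) (Steps.bwd (nat_lit 1) (Steps.fwd (nat_lit 3072) (Steps.bwd (nat_lit 4) (Steps.bwd (nat_lit 6) Steps.nil))))) (nat_lit 30) (nat_lit 4),
  Rule.mk (nat_lit 6) (nat_lit 58) (Steps.bwd (nat_lit 4) (Steps.fwd (nat_lit 3072) (Steps.fwd (nat_lit 512) (Steps.bwd (nat_lit 4) (Steps.fwd (nat_lit 1024) Steps.nil))))) (nat_lit 30) (nat_lit 1),
  Rule.mk (nat_lit 6) (nat_lit 58) (Steps.bwd (nat_lit 4) (Steps.fwd (nat_lit 3072) (Steps.fwd (nat_lit 512) (Steps.fwd (nat_lit 2048) (Steps.bwd (nat_lit 1) Steps.nil))))) (nat_lit 30) (nat_lit 1),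
  Rule.mk (nat_lit 4) (nat_lit 68) (Steps.bwd (nat_lit 2) (Steps.bwd (nat_lit 4) (Steps.bwd (nat_lit 5) (Steps.fwd (nat_lit 512) (Steps.fwd (nat_lit 2048) (Steps.fwd (nat_lit 512) Steps.nil)))))) (nat_lit 13) (nat_lit 5),
  Rule.mk (nat_lit 3) (nat_lit 88) (Steps.bwd (nat_lit 2) (Steps.bwd (nat_lit 4) (Steps.bwd (nat_lit 5) (Steps.bwd (nat_lit 1) (Steps.fwd (nat_lit 1536) (Steps.bwd (nat_lit 2) (Steps.bwd (nat_lit 4) (Steps.bwd (nat_lit 1) Steps.nil)))))))) (nat_lit 16) (nat_lit 6),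
  Rule.mk (nat_lit 3) (nat_lit 68) (Steps.bwd (nat_lit 2) (Steps.fwd (nat_lit 1536) (Steps.bwd (nat_lit 5) (Steps.fwd (nat_lit 512) (Steps.fwd (nat_lit 1536) (Steps.bwd (nat_lit 2) Steps.nil)))))) (nat_lit 11) (nat_lit 5),
  Rule.mk (nat_lit 3) (nat_lit 68) (Steps.bwd (nat_lit 2) (Steps.bwd (nat_lit 3) (Steps.bwd (nat_lit 5) (Steps.bwd (nat_lit 2) (Steps.bwd (nat_lit 3) (Steps.fwd (nat_lit 512) Steps.nil)))))) (nat_lit 11) (nat_lit 5),
  Rule.mk (nat_lit 4) (nat_lit 58) (Steps.bwd (nat_lit 6) (Steps.fwd (nat_lit 512) (Steps.bwd (nat_lit 4) (Steps.fwd (nat_lit 1024) (Steps.bwd (nat_lit 6) Steps.nil))))) (nat_lit 30) (nat_lit 2),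
  Rule.mk (nat_lit 2) (nat_lit 38) (Steps.bwd (nat_lit 5) (Steps.fwd (nat_lit 1024) (Steps.fwd (nat_lit 2560) Steps.nil))) (nat_lit 8) (nat_lit 3),
  Rule.mk (nat_lit 1) (nat_lit 38) (Steps.bwd (nat_lit 5) (Steps.bwd (nat_lit 2) (Steps.fwd (nat_lit 2560) Steps.nil))) (nat_lit 8) (nat_lit 1),
  Rule.mk (nat_lit 3) (nat_lit 38) (Steps.bwd (nat_lit 5) (Steps.fwd (nat_lit 1536) (Steps.bwd (nat_lit 5) Steps.nil))) (nat_lit 18) (nat_lit 1),
  Rule.mk (nat_lit 6) (nat_lit 38) (Steps.bwd (nat_lit 5) (Steps.bwd (nat_lit 6) (Steps.fwd (nat_lit 2560) Steps.nil))) (nat_lit 26) (nat_lit 1),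
  Rule.mk (nat_lit 3) (nat_lit 38) (Steps.bwd (nat_lit 4) (Steps.fwd (nat_lit 1536) (Steps.bwd (nat_lit 4) Steps.nil))) (nat_lit 14) (nat_lit 1),
  Rule.mk (nat_lit 4) (nat_lit 68) (Steps.bwd (nat_lit 1) (Steps.bwd (nat_lit 4) (Steps.fwd (nat_lit 1024) (Steps.bwd (nat_lit 5) (Steps.bwd (nat_lit 4) (Steps.bwd (nat_lit 1) Steps.nil)))))) (nat_lit 12) (nat_lit 3),
  Rule.mk (nat_lit 1) (nat_lit 68) (Steps.bwd (nat_lit 4) (Steps.bwd (nat_lit 1) (Steps.bwd (nat_lit 5) (Steps.fwd (nat_lit 2048) (Steps.bwd (nat_lit 1) (Steps.fwd (nat_lit 2048) Steps.nil)))))) (nat_lit 12) (nat_lit 4),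
  Rule.mk (nat_lit 2) (nat_lit 68) (Steps.bwd (nat_lit 4) (Steps.bwd (nat_lit 5) (Steps.fwd (nat_lit 512) (Steps.fwd (nat_lit 2048) (Steps.fwd (nat_lit 512) (Steps.bwd (nat_lit 4) Steps.nil)))))) (nat_lit 13) (nat_lit 6),
  Rule.mk (nat_lit 3) (nat_lit 68) (Steps.bwd (nat_lit 1) (Steps.bwd (nat_lit 5) (Steps.fwd (nat_lit 1536) (Steps.fwd (nat_lit 1024) (Steps.bwd (nat_lit 3) (Steps.bwd (nat_lit 1) Steps.nil)))))) (nat_lit 10) (nat_lit 5),
  Rule.mk (nat_lit 3) (nat_lit 68) (Steps.bwd (nat_lit 2) (Steps.fwd (nat_lit 1536) (Steps.bwd (nat_lit 5) (Steps.bwd (nat_lit 2) (Steps.bwd (nat_lit 3) (Steps.fwd (nat_lit 512) Steps.nil)))))) (nat_lit 11) (nat_lit 5),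
  Rule.mk (nat_lit 4) (nat_lit 68) (Steps.bwd (nat_lit 2) (Steps.fwd (nat_lit 2048) (Steps.fwd (nat_lit 2560) (Steps.fwd (nat_lit 512) (Steps.bwd (nat_lit 4) (Steps.fwd (nat_lit 512) Steps.nil)))))) (nat_lit 13) (nat_lit 5),
  Rule.mk (nat_lit 4) (nat_lit 58) (Steps.bwd (nat_lit 6) (Steps.bwd (nat_lit 2) (Steps.fwd (nat_lit 2048) (Steps.bwd (nat_lit 1) (Steps.fwd (nat_lit 3072) Steps.nil))))) (nat_lit 30) (nat_lit 2),
  Rule.mk (nat_lit 4) (nat_lit 58) (Steps.bwd (nat_lit 1) (Steps.bwd (nat_lit 6) (Steps.fwd (nat_lit 2048) (Steps.fwd (nat_lit 3072) (Steps.fwd (nat_lit 512) Steps.nil))))) (nat_lit 30) (nat_lit 5),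
  Rule.mk (nat_lit 3) (nat_lit 58) (Steps.bwd (nat_lit 1) (Steps.fwd (nat_lit 3072) (Steps.fwd (nat_lit 1536) (Steps.fwd (nat_lit 3072) (Steps.bwd (nat_lit 2) Steps.nil))))) (nat_lit 28) (nat_lit 5),
  Rule.mk (nat_lit 4) (nat_lit 38) (Steps.bwd (nat_lit 5) (Steps.fwd (nat_lit 2048) (Steps.bwd (nat_lit 5) Steps.nil))) (nat_lit 20) (nat_lit 1),
  Rule.mk (nat_lit 4) (nat_lit 58) (Steps.bwd (nat_lit 1) (Steps.fwd (nat_lit 3072) (Steps.fwd (nat_lit 2048) (Steps.fwd (nat_lit 3072) (Steps.bwd (nat_lit 2) Steps.nil))))) (nat_lit 30) (nat_lit 5),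
  Rule.mk (nat_lit 4) (nat_lit 58) (Steps.bwd (nat_lit 1) (Steps.fwd (nat_lit 3072) (Steps.bwd (nat_lit 4) (Steps.fwd (nat_lit 3072) (Steps.bwd (nat_lit 2) Steps.nil))))) (nat_lit 30) (nat_lit 5),
  Rule.mk (nat_lit 4) (nat_lit 38) (Steps.bwd (nat_lit 3) (Steps.fwd (nat_lit 2048) (Steps.fwd (nat_lit 1536) Steps.nil))) (nat_lit 14) (nat_lit 0),
  Rule.mk (nat_lit 3) (nat_lit 68) (Steps.bwd (nat_lit 2) (Steps.bwd (nat_lit 3) (Steps.fwd (nat_lit 2560) (Steps.fwd (nat_lit 512) (Steps.fwd (nat_lit 1536) (Steps.bwd (nat_lit 2) Steps.nil)))))) (nat_lit 11) (nat_lit 5),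
  Rule.mk (nat_lit 4) (nat_lit 38) (Steps.bwd (nat_lit 5) (Steps.fwd (nat_lit 2048) (Steps.fwd (nat_lit 2560) Steps.nil))) (nat_lit 20) (nat_lit 1),
  Rule.mk (nat_lit 3) (nat_lit 68) (Steps.bwd (nat_lit 1) (Steps.bwd (nat_lit 5) (Steps.bwd (nat_lit 3) (Steps.bwd (nat_lit 1) (Steps.fwd (nat_lit 1536) (Steps.bwd (nat_lit 1) Steps.nil)))))) (nat_lit 10) (nat_lit 5),
  Rule.mk (nat_lit 4) (nat_lit 68) (Steps.bwd (nat_lit 1) (Steps.bwd (nat_lit 5) (Steps.fwd (nat_lit 2048) (Steps.fwd (nat_lit 1024) (Steps.fwd (nat_lit 2048) (Steps.fwd (nat_lit 1024) Steps.nil)))))) (nat_lit 12) (nat_lit 5),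
  Rule.mk (nat_lit 1) (nat_lit 68) (Steps.bwd (nat_lit 5) (Steps.fwd (nat_lit 1536) (Steps.bwd (nat_lit 1) (Steps.fwd (nat_lit 1536) (Steps.bwd (nat_lit 1) (Steps.bwd (nat_lit 3) Steps.nil)))))) (nat_lit 10) (nat_lit 6),
  Rule.mk (nat_lit 3) (nat_lit 58) (Steps.bwd (nat_lit 1) (Steps.bwd (nat_lit 6) (Steps.bwd (nat_lit 3) (Steps.fwd (nat_lit 3072) (Steps.fwd (nat_lit 512) Steps.nil))))) (nat_lit 28) (nat_lit 5),
  Rule.mk (nat_lit 4) (nat_lit 58) (Steps.bwd (nat_lit 1) (Steps.bwd (nat_lit 6) (Steps.fwd (nat_lit 2048) (Steps.bwd (nat_lit 6) (Steps.fwd (nat_lit 512) Steps.nil))))) (nat_lit 30) (nat_lit 5),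
  Rule.mk (nat_lit 3) (nat_lit 58) (Steps.bwd (nat_lit 1) (Steps.fwd (nat_lit 3072) (Steps.fwd (nat_lit 1536) (Steps.fwd (nat_lit 3072) (Steps.fwd (nat_lit 512) Steps.nil))))) (nat_lit 28) (nat_lit 5),
  Rule.mk (nat_lit 3) (nat_lit 68) (Steps.bwd (nat_lit 1) (Steps.fwd (nat_lit 2560) (Steps.fwd (nat_lit 1536) (Steps.bwd (nat_lit 1) (Steps.fwd (nat_lit 1536) (Steps.bwd (nat_lit 1) Steps.nil)))))) (nat_lit 10) (nat_lit 5),
  Rule.mk (nat_lit 6) (nat_lit 38) (Steps.fwd (nat_lit 2560) (Steps.bwd (nat_lit 6) (Steps.bwd (nat_lit 5) Steps.nil))) (nat_lit 26) (nat_lit 1),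
  Rule.mk (nat_lit 3) (nat_lit 68) (Steps.bwd (nat_lit 1) (Steps.fwd (nat_lit 1536) (Steps.bwd (nat_lit 1) (Steps.fwd (nat_lit 2560) (Steps.bwd (nat_lit 3) (Steps.bwd (nat_lit 1) Steps.nil)))))) (nat_lit 10) (nat_lit 3),
  Rule.mk (nat_lit 4) (nat_lit 68) (Steps.bwd (nat_lit 1) (Steps.bwd (nat_lit 4) (Steps.bwd (nat_lit 1) (Steps.fwd (nat_lit 2560) (Steps.fwd (nat_lit 2048) (Steps.bwd (nat_lit 1) Steps.nil)))))) (nat_lit 12) (nat_lit 3),
  Rule.mk (nat_lit 4) (nat_lit 68) (Steps.bwd (nat_lit 1) (Steps.fwd (nat_lit 2048) (Steps.bwd (nat_lit 1) (Steps.bwd (nat_lit 5) (Steps.bwd (nat_lit 4) (Steps.fwd (nat_lit 1024) Steps.nil)))))) (nat_lit 12) (nat_lit 3)]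
noncomputable def R_2 : List (Rule) := [Rule.mk (nat_lit 3) (nat_lit 88) (Steps.bwd (nat_lit 2) (Steps.bwd (nat_lit 4) (Steps.fwd (nat_lit 2560) (Steps.fwd (nat_lit 1024) (Steps.bwd (nat_lit 3) (Steps.bwd (nat_lit 2) (Steps.fwd (nat_lit 2048) (Steps.fwd (nat_lit 1024) Steps.nil)))))))) (nat_lit 16) (nat_lit 6),
  Rule.mk (nat_lit 3) (nat_lit 68) (Steps.bwd (nat_lit 2) (Steps.fwd (nat_lit 1536) (Steps.fwd (nat_lit 2560) (Steps.fwd (nat_lit 512) (Steps.fwd (nat_lit 1536) (Steps.fwd (nat_lit 512) Steps.nil)))))) (nat_lit 11) (nat_lit 5),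
  Rule.mk (nat_lit 4) (nat_lit 68) (Steps.bwd (nat_lit 2) (Steps.fwd (nat_lit 2048) (Steps.bwd (nat_lit 5) (Steps.fwd (nat_lit 512) (Steps.bwd (nat_lit 4) (Steps.fwd (nat_lit 512) Steps.nil)))))) (nat_lit 13) (nat_lit 5),
  Rule.mk (nat_lit 4) (nat_lit 58) (Steps.bwd (nat_lit 6) (Steps.bwd (nat_lit 2) (Steps.fwd (nat_lit 2048) (Steps.bwd (nat_lit 1) (Steps.bwd (nat_lit 6) Steps.nil))))) (nat_lit 30) (nat_lit 2),
  Rule.mk (nat_lit 4) (nat_lit 58) (Steps.bwd (nat_lit 1) (Steps.bwd (nat_lit 6) (Steps.bwd (nat_lit 4) (Steps.bwd (nat_lit 6) (Steps.bwd (nat_lit 2) Steps.nil))))) (nat_lit 30) (nat_lit 5),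
  Rule.mk (nat_lit 4) (nat_lit 58) (Steps.bwd (nat_lit 1) (Steps.fwd (nat_lit 3072) (Steps.fwd (nat_lit 2048) (Steps.fwd (nat_lit 3072) (Steps.fwd (nat_lit 512) Steps.nil))))) (nat_lit 30) (nat_lit 5),
  Rule.mk (nat_lit 4) (nat_lit 68) (Steps.bwd (nat_lit 2) (Steps.fwd (nat_lit 2048) (Steps.bwd (nat_lit 5) (Steps.bwd (nat_lit 2) (Steps.bwd (nat_lit 4) (Steps.fwd (nat_lit 512) Steps.nil)))))) (nat_lit 13) (nat_lit 5),
  Rule.mk (nat_lit 3) (nat_lit 68) (Steps.bwd (nat_lit 2) (Steps.fwd (nat_lit 1536) (Steps.bwd (nat_lit 5) (Steps.fwd (nat_lit 512) (Steps.fwd (nat_lit 1536) (Steps.fwd (nat_lit 512) Steps.nil)))))) (nat_lit 11) (nat_lit 5),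
  Rule.mk (nat_lit 3) (nat_lit 58) (Steps.bwd (nat_lit 6) (Steps.bwd (nat_lit 2) (Steps.fwd (nat_lit 1536) (Steps.bwd (nat_lit 1) (Steps.fwd (nat_lit 3072) Steps.nil))))) (nat_lit 28) (nat_lit 2),
  Rule.mk (nat_lit 3) (nat_lit 58) (Steps.bwd (nat_lit 1) (Steps.bwd (nat_lit 6) (Steps.fwd (nat_lit 1536) (Steps.fwd (nat_lit 3072) (Steps.bwd (nat_lit 2) Steps.nil))))) (nat_lit 28) (nat_lit 5),
  Rule.mk (nat_lit 4) (nat_lit 58) (Steps.bwd (nat_lit 1) (Steps.bwd (nat_lit 6) (Steps.fwd (nat_lit 2048) (Steps.fwd (nat_lit 3072) (Steps.bwd (nat_lit 2) Steps.nil))))) (nat_lit 30) (nat_lit 5),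
  Rule.mk (nat_lit 4) (nat_lit 38) (Steps.bwd (nat_lit 3) (Steps.bwd (nat_lit 4) (Steps.fwd (nat_lit 1536) Steps.nil))) (nat_lit 14) (nat_lit 0),
  Rule.mk (nat_lit 6) (nat_lit 58) (Steps.bwd (nat_lit 2) (Steps.bwd (nat_lit 3) (Steps.fwd (nat_lit 1024) (Steps.bwd (nat_lit 6) (Steps.bwd (nat_lit 3) Steps.nil))))) (nat_lit 28) (nat_lit 3),
  Rule.mk (nat_lit 3) (nat_lit 68) (Steps.bwd (nat_lit 2) (Steps.bwd (nat_lit 3) (Steps.bwd (nat_lit 5) (Steps.fwd (nat_lit 512) (Steps.bwd (nat_lit 3) (Steps.fwd (nat_lit 512) Steps.nil)))))) (nat_lit 11) (nat_lit 5),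
  Rule.mk (nat_lit 4) (nat_lit 68) (Steps.bwd (nat_lit 2) (Steps.fwd (nat_lit 2048) (Steps.fwd (nat_lit 2560) (Steps.fwd (nat_lit 512) (Steps.fwd (nat_lit 2048) (Steps.bwd (nat_lit 2) Steps.nil)))))) (nat_lit 13) (nat_lit 5),
  Rule.mk (nat_lit 3) (nat_lit 68) (Steps.bwd (nat_lit 2) (Steps.fwd (nat_lit 1536) (Steps.bwd (nat_lit 5) (Steps.bwd (nat_lit 2) (Steps.fwd (nat_lit 1536) (Steps.fwd (nat_lit 512) Steps.nil)))))) (nat_lit 11) (nat_lit 5),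
  Rule.mk (nat_lit 1) (nat_lit 38) (Steps.bwd (nat_lit 6) (Steps.fwd (nat_lit 1024) (Steps.fwd (nat_lit 3072) Steps.nil))) (nat_lit 24) (nat_lit 0),
  Rule.mk (nat_lit 3) (nat_lit 68) (Steps.bwd (nat_lit 1) (Steps.fwd (nat_lit 1536) (Steps.fwd (nat_lit 1024) (Steps.fwd (nat_lit 2560) (Steps.bwd (nat_lit 3) (Steps.fwd (nat_lit 1024) Steps.nil)))))) (nat_lit 10) (nat_lit 3),
  Rule.mk (nat_lit 4) (nat_lit 68) (Steps.bwd (nat_lit 1) (Steps.bwd (nat_lit 4) (Steps.fwd (nat_lit 1024) (Steps.fwd (nat_lit 2560) (Steps.fwd (nat_lit 2048) (Steps.bwd (nat_lit 1) Steps.nil)))))) (nat_lit 12) (nat_lit 3),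
  Rule.mk (nat_lit 3) (nat_lit 68) (Steps.bwd (nat_lit 1) (Steps.fwd (nat_lit 1536) (Steps.fwd (nat_lit 1024) (Steps.fwd (nat_lit 2560) (Steps.bwd (nat_lit 3) (Steps.bwd (nat_lit 1) Steps.nil)))))) (nat_lit 10) (nat_lit 3),
  Rule.mk (nat_lit 4) (nat_lit 68) (Steps.bwd (nat_lit 1) (Steps.fwd (nat_lit 2048) (Steps.bwd (nat_lit 1) (Steps.bwd (nat_lit 5) (Steps.bwd (nat_lit 4) (Steps.bwd (nat_lit 1) Steps.nil)))))) (nat_lit 12) (nat_lit 3),
  Rule.mk (nat_lit 3) (nat_lit 68) (Steps.bwd (nat_lit 1) (Steps.bwd (nat_lit 5) (Steps.fwd (nat_lit 1536) (Steps.fwd (nat_lit 1024) (Steps.bwd (nat_lit 3) (Steps.fwd (nat_lit 1024) Steps.nil)))))) (nat_lit 10) (nat_lit 5),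
  Rule.mk (nat_lit 4) (nat_lit 68) (Steps.bwd (nat_lit 1) (Steps.bwd (nat_lit 5) (Steps.bwd (nat_lit 4) (Steps.fwd (nat_lit 1024) (Steps.fwd (nat_lit 2048) (Steps.fwd (nat_lit 1024) Steps.nil)))))) (nat_lit 12) (nat_lit 5),
  Rule.mk (nat_lit 3) (nat_lit 68) (Steps.bwd (nat_lit 1) (Steps.fwd (nat_lit 2560) (Steps.fwd (nat_lit 1536) (Steps.fwd (nat_lit 1024) (Steps.fwd (nat_lit 1536) (Steps.bwd (nat_lit 1) Steps.nil)))))) (nat_lit 10) (nat_lit 5),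
  Rule.mk (nat_lit 4) (nat_lit 68) (Steps.bwd (nat_lit 1) (Steps.fwd (nat_lit 2560) (Steps.fwd (nat_lit 2048) (Steps.bwd (nat_lit 1) (Steps.bwd (nat_lit 4) (Steps.bwd (nat_lit 1) Steps.nil)))))) (nat_lit 12) (nat_lit 5)]
noncomputable def R : List (List (Rule)) := [R_0, R_1, R_2]
def LW : List Word := [[], [0], [1], [2], [4], [6], [8]]
def par : Par := ⟨9, 3, 12, 21, 511, 4095, 2097151⟩
theorem hpar : par.ok := by decide
theorem hR0_0 : lall (R) (fun l => lall l (ruleOK Rw' LW par)) = true := by decide +kernel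
theorem hR0 : lall (R) (fun l => lall l (ruleOK Rw' LW par)) = true := hR0_0
theorem hR : RulesOK Rw' LW par R := rulesOK_of rfl hR0
def cols : List (ℕ × ℕ) := [(512, 2), (1536, 3), (2048, 4), (2560, 5), (3072, 6)]
theorem hcols : lall cols (colOK Rw' LW par) = true := by decide +kernel
noncomputable def JS0 : List ℕ := [nat_lit 0x7000bc18004002f05c0030c1502cbc16308d005c162f4bc1500cbe2f40c01000bc042f4bf2f008bd03cbc142f80e2f44c032fcbe03004002f410be300bd022f8c82f448bf31cbe11028c32fc4002018be0f010bd0832c012f438bd2f0040b2fcbc0d000012ec30bc2f8bb0b2f0c22ec2807304bc09000bb082fcc42ec1cbf2f0bb06004002e814bb004ba042ecbd2e80cbc2f4bb022f8bd01,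
  nat_lit 0x3c0a32ca0cd338ca2c33c1f328ac0206cc90c364c82a0301a320a0d531c7ce635cd63540231ca40a000c62802c013189cd2318c5260100000815314940302ccc038d331490c6038c423050c31f3141d30c8cc73087c013100502408308880a3047c0030420d709026010013048402000c0200082330024c92fc7c000882034c142fc78c02fc0402330243841f2fc74c5078be1c014022f86c022f8bd1a34014320012f464be2f4bc0c,
  nat_lit 0x36cda010090317519458da3938115364e005008d91b008d93606909134ff004d837364d835c303f000d7180040035c5c003e84e110d7363e5091490d360d735068ef0b804360d0ed00cd70e3680335870d6354040e06c28008d5333a0013503804004d31c09848404fe34cc800100d2313ecfe41c03348c0e1008d12b344d0013542a3a001340bce8000cf0e074dc0680033cb819038cf2b008d433830d2334a8d5008cd28334cc080c81e370dd344cc2d,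
  nat_lit 0x1d3dc1a000ea420640e3a8ac023bce90c3b4e82a3c0023a0a0e839c206b078f73e0ec39d040f028e6283a0e9394b0ea07ce52b0081b39030f438ca80c068e3283c0e21f47cf23c4f0008e24002800384a00b004e1273b4e13800c0400002054e03f00c0b39c0e3b8e03e3840e37c8c143787ce0154de23388dd1f004df01409020dd3d028dc1f000dc084385d18404004dc3c0080036cec02468db0f390da1f0005d1650a130da3a,
  nat_lit 0x178253e93c09008fa2b02c023e470f93e004053e4f84e3f0023dc704e4c1533e0f74d05111258f73d930fb000f54b0194d3d43c003d0214b3d4f44a004f63d038023cc04003cc04f4000f34922c2f020003cd20f6450f3020690a0b8043cd1d0800cf20e3d4033c470f13c0040e06c28008f04640c013bc3804004ee1c098834e9373b914001e4ed064d1374fc033b510fc008ec2b3b0eb013c02a40c013ad0d03000ea0e,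
  nat_lit 0x2c0241c7107418040541d064e42802414709d2795e419055318c64281054114909001034b0195a40c3c00408215840d024a005044083802404040040405020010149258554b902405448e155014f02402404ac0b009001c400ff01015003fd3903008fe1c1c93f54cff3f93438480943f8fd4c408003f12c0653cfc0f000fb08534fc3ed28013f4fb0e008fa01000fa013ec003e9248a454273ecfa50,
  nat_lit 0x57801460116647811011194619d50005186601805461954d01d176402d184598c0c01915620051601d3a4f1852e3054c1b51d45180030211310460114488c124447d440a425090014457d11440202f0c55c201551f91144179324d47e1f51043d740d0050e1700c01434b00b4516e2150d5c43479430490f021651dd0c5b004071e94e42d680000c0208c1959008000c82c428fc01011615f4370c160202c53d170014255d0942021395bd826016527c01421580142107092750941d55085897d5fd765ad3841d5009009082b,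
  nat_lit 0x252e4b09974035310212d4b1d1930152c734fc1f4dc054b1c89028c1d0112b6f058034a8392c00d291c4a52801338b0060024a1c530005270e4a527498e0124a5266554c07495c03901d24044b81a040044911c8925c1000d236f49402488ad2248405862740a489216e49121480344f51c01011206d4d1330040347d49454ac0e4940847db1310b56859c08479ac034811d094791c1f004075942a0ad336a0149a128471191b6947808494481451a68599230211d46d1a3a46d1a464e11c46d1955,
  nat_lit 0x7b0654a50d42505fc8e469d668400501f99f0014066640a501003501bd400093f0e04d454f871454f40401029437d288395440c0113c7c4f8034ec713b4e804d237c130093a4752c2604c014e5ed3b4e538384f93b4e1946401d377013c074d8109b62c0f0113634018034d439354d005953500d4d5347a510134e5344cde5374cd324e18c64008044c9b4461400200d314c01caa3ad530113178174024c1d5500092f044c12f4b929576acd60112f4b9dc4c039324c12e4b5d8d50092d75,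
  nat_lit 0x18820ddd770015561d9a0355902155550b50701554732649707005552199d67c1c011532f57003548395400d511c5455001718ff054025411d570054f0e5454f538e0115454e6507007535c0a601d4c0460c84030045310d8d6380a00d4b7b53402528ad4a52405b93b54d529498552d49521381d090010114884275a60040351d482208c855fc0451e0da4490982440251a094900d450f5154408611df6f1bb3e0f451544811f9cd6e4f3511433d510005083c003c5423b6d9ca7257800542805094101,
  nat_lit 0x123075740116a5a64c8b229d038c005a248d3001680534dd700c065a1480e029671b008045982c0659d659174c2f0c43501165905b404590a167011630f58d6208499382889b011628f5d034301b3589618e04cb32f56158235610015f0f009b057cc46418d5e8c26498024055790dae6c0090115d2f57c03570ad5c56c05184ac085715b8b5a01c0215b56a295c569594e30cc40000156624c32b4a92a0025662159560219224de078402561b0b101d5b0340255e215855d562377803559c00a55d5526,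
  nat_lit 0x2f4b1080055fded880117e0e600045f4717d5f005c87281800d7c4334ccd060025edbd820057a0e5f17a5e4e00d025791807d7b5e15511021770482139030055ddc5b729c0c011766f5e4035d439755d004b92bc04009747132cca010015ccbd74001720e0100809d7f5c915e409171052b0af7e00b015719931c986a40b01170985c8035bc716f5b805f50a40c5c96f5ba5c8c228eb0216e5b6596f5b56c380216f5b00ce50156b642bcb1505ef0096b956cc97249a00096a945a96901,
  nat_lit 0x212508200198071]
theorem S0_c : blocks (facts 9 3 12 21 511 4095 2097151 10 1023 8 255 A R 32) 32 JS0 446 = true := by decide +kernel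
theorem S0 : On (Step.{u} Rw' LW par A) 446 862 :=
  steps_of_blocks hpar hR S0_c (by decide +kernel)
theorem D0_c : allB (defOK 9 12 21 511 2097151 447 A K) 2 2 = true := by decide +kernel
theorem D0 : On (fun r => defOK par.W par.WL par.E par.mW par.mE 447 A K r = true) 256 512 :=
  On.of_allB D0_c
noncomputable def JW0 : List ℕ := [nat_lit 0x4a565897567b2b47c8a51e0db82489e58b3a6730e11ca7a8602c619a4150b11082a7d560a6de02ae89ca659a4ad66d1d101cae96acf10baab5d85463646f566bdde74805dec999423755327a5132e91123254a8f61f22d85a73602c4584c8f5cac898fa8b5fac918ecab92926198a4963325d8ac34576c6d89c9b8e129d96a4d57f282524b3676cdd99a3f9612dd9ec46562cd65a4b9904c9d97c8a91ccf991caa92d26a5d4a69652da5c4bc,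
  nat_lit 0x2aa54e835542ac946ca60844c642a3a1fa633030f148b0e912c3535c3b50ca0ca1a884b29a53815f85ac023d8c55ab1e181b1090d2356ebde90ac21853da8eebe02baf55f4b2d6d8975c51a61d28c514f892dc765fc77d7e2cd638c7a2147e93a92122a2d10b06d21b1892ac5d3ba4f4d899cdbc2b4ca9e53f0554deae95b91753f15d5ab1a92526574bf2922c498a3ee582b79c02d98ceb5d7593f5e0b8527250498fda0eac05848055f459,
  nat_lit 0x2524a88f488a561acdd46c0da6e4899142241d68a919a7b4fe23d402614f10c433a756ca24da50b06c490118c1716705117a845043be1b29350f11483a941963c5c3904708690d33c110666d622c6102abd64298534f094b29c404810b68c340d01a57cac671009fe2123603d5ffa098025a5af21554abb4b2af15e4548aa15073ce8169aea28b1b573ab254660e29c50542bd8ddaf48e4685e53cf08265d82af907f2058323846a8d907a3a,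
  nat_lit 0x29251b10ce5c1e608bfce4c7f8b48b91822c10f03021b506ae211aa2424890583ca464be9b538bcc85e94d342662930a4d49b828e6d9e485068a1482a3422124688b118714a815117b53d1215a2b62531495c3f33c631cce9fc3c324249b163eafd4f89350c27f8fb3ec202644fc2d15be3f571c6b6f43e9c08ad1e6b156d0ab5b11948eb9b27c501cc26484909cc4a4b7e87bd003f77e0b5a300e58c6af52f2514b87b611ad05867ad6745f,
  nat_lit 0x1a0344678ce3bf35ef2cdd05936a694dc95d79a6f0c919431e641dd8420880f8200467fa8410620e7f48c91a411447039522a68151362526084a988ccc182ceeccbf180760a421f42630b1049690b1da509ce96029a570af162122da86236f116b4a308d15a91518147a17b18a3ebdf3821ec909da37f21243b0c3a6f84e78a32b6770ea3d80924f4eb05a08a1582c05c1342704b0986ba9612aa25247085f01cd3bcf8dee2ca58e1c54bc5d,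
  nat_lit 0xa71121dc59367194330630c819c384780ec1dcdf48410a70c418860d71f63f04c8fe1a63e48010270464ddc17f330ef426875100209a91a834ef0c3998d2c25c0b616e75a26c5d8c0184db603a0575c2e50f40942663881a2030e654d89b278e39c7c0f61e8dfd0420a78837dfc21880056452a1a756e90b416a750d604f0a06be254a9bb276e611da1662aa590a0ba62ace94ac15a744528a6146290539ca39a288e7c9c9572fa60895977,
  nat_lit 0x359110d584308c0b6d443b07869c1443687a0f81f82604e090129a03aa2f85e88c97325846c9412a720780f10dd358791f41f027612df592572e4d09b1320c413c2f06068c79df68f73667cc8e38f23c481c610e72c4e89e38830cee5db1883147dcf492f0d67e8730d51c82fdbb3e93dc7a8f63e621e4486c9102283486a0d06dcdc1bdb741d03a9bc3646d62f05f0b51202482988e6b6191a234b0ccd205309f144290540ae13a2a856360,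
  nat_lit 0x1e63d047c3ebe40ca1b03406a0dc710e30c12def40578ba16c2e1b48e019a3706f0e272ae389713072452cb8baf2ea5e10ca0b33e3250e1ae346f14d69ab81084605a228086f8e0069262709ea1ce1425adeb9c57b217c9b9d124844c7492224c754e38b72e8760318740e01c9a63d5398720e53d2]
theorem W0_c : blocks (rows 9 3 12 21 511 4095 2097151 11 2047 55 A 862 192 cols 25) 25 JW0 0 = true := by decide +kernel
theorem W0 : On (Row.{u} Rw' LW par A 862 192 cols) 0 200 :=
  rows_of_blocks hpar (by decide) hcols W0_c (by decide +kernel)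
theorem idx : Idx.{u} Rw' [[0], [2], [4], [6], [8]] [] 192 :=
  idx_of_cert hpar hR (K := K) (by decide +kernel) (T := 447) (T' := 512) (by decide) D0
    (subs := []) (by decide +kernel) (T1 := 446) (by decide) (N := 862) S0
    (by decide) (n' := 200) (by decide) W0 (by decide +kernel) (by decide +kernel)
end w
namespace m
noncomputable def A_0 : List (ℕ) := [nat_lit 0x991803f0c05b8c82622d05c12831894b744a2b85c13b2e18a27cbad3e2685b06c150328a8574c40cc2b06b1302e8984f4ba0bc2703c0d82186c974362184c0eb2615224c9ad261c84b04c10022880434a808c2104b0e01e8703b49a07c1d06e1603a8b03085802c0e051070070280c41409c221be3c8e29e472cf216c420bd210170600d43012c3901e0981a04c2f07006617015068250340a81203a1202b090598dc0b02c046110010117a9b0654dc6e272395369b49b0d994ea72a8541379beaa540556ab2a954c44a26a994ccd6b82b259550a852ed7792090a88444489a8980c14f84327c3e41d0ea9f4fac787b27a3d53a9d51188d9168b4ad56a59ace200fc560b02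b158c4ca66ad168d14aa2b75bd42a152d56b9048243e38c4ea048f87d508552844242713aa0d06c7e632944a547a3d15caf9349a4ba5d25b2da2192a57abd2a2514341a30b8ca8cca3aae52a4b292a592d0a6ae6783b22814119ccf45c6665217407a74a6d7e53e9e49c2d212967271388b8bec9b4d92da44a35785269248e2520d9272391c898b9c8d469258d88d4f0470af4ac3ba1b9cf2b1588f274c351a908a61218be8565344f4ba311450ec3e81028429292100fe8790f8804fa864322a1050f42a8081e2082011e0f0858538c261680402210f59fcfe4c43b8140a1022311acac84e484444522e9150b43480e2342423a0e0c6864e186644a6b35a268d10c02080619207199178bc848498b05886934a1c8c2190c84ba2d60f07901897170b953e9fc5b2db150ab188c4c582b60e0640109b174bb0582780e05b0106f1309952693c4b25b10083150a8c442160a044008731349b0441d80a03b008b10881c40c0aa221120c1e610884c30188391cd0984d8e07182217c040360003501413402128371bd0885a8100b400118030240000d8000440201200,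
  nat_lit 0x3ec300a5980330863b67c3f61d0518e8f44747b43a2323e9d49f5678fa4787b2ab3dac71ec8d4f6b0c7a24c3d1dd9e91b0ea3667556e3a86a11902c8cb488b24345ac6a2d66916b96ad3c456ac2ab4fd5663d87e5893f2be2c11cd608c6b12ae4c959a656e532aa4995aa5a214ad103968748aa5fb551c72a96b55484cb743c5ba55adc8310ab66851f642ab22d53cd6a5a88239b411c6a0902904716352aa38a109c48b10255a8141c1f0558f8470aa406844ae270799392849c6344e2ba41a3ca0d6d9062d86317331a8b18caf4c6bdc942cc4a245a513711e4a68f5d64789215ccecaea589a2c34d28aa696c934be6ba4945d2f6ae92b56c4f8955114aaf22f538d7a646a2183342969a1468d0a426832c3b925995478ca76a6517232a3a28d5ed46a44a334b5299f2955c94a66ca44c4522b8a58a192cae8b93b6571da0d91acec674760fb2819a9405f0ce2e2665fe4e96aa74b653a9eabf5f15f96b278b893c5945a4dd2c8951657d5389f2be5e64892aa449652292abc5c95e12b248989244944a46d2486d1257351c932b93c61b1de8d82246cafa783a13c1df2bcf295e734771ad398dd1cce9558382742fb4c14b260a75305449814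62fa5e97cc28be976530fe2988514ca392e7f4970fc288a2944548a252a1f0f20f94a0a0188503f4524361f8560fc4087e4f68720d4390921d0050e4fc1e10927905a182b882174412050a8510548103c1624014c1e2030f0294783ba29061148ad184ff4c23da800b91e8530f4778fe2a23b2b44611f230915184d48c11e2b22a958b08ac8a8480d6240751208b9146448a0d32288e9144c88a47a1a0ca0d11d88c168463144735e188418c438862448701a5380e51c0d24e044c190e9220d21ac218681343419d0803d04066c3212233123179a70bc1f45e2da240591209d160c94b030a69,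
  nat_lit 0x5062f19a17850cbc7225e3722f1b08c8df86410832353191b50c8670dc4366e54e372af1c86b0e49d67239c369699b5518da5086c28b3625e29d2cd4ea0aa737953a7a2a158d50abaa8534378d19bcbf140a46a0549502fe2ace8d56706a921e44911a2564512b84895da53284a98d594c9c8b85e35c2232e1775707ccb23fc591f9ac8c3142b36a130650afa2ed24d764a8904db48180a40d4920434883e144165a20630d443a6a]
noncomputable def A : List (List (ℕ)) := [A_0]
noncomputable def K_0 : List (ℕ) := [nat_lit 0xbadc3096dd6e1ed1b0cbe1b2b99cf6bf379cb25f33f61da66367b7dc6c6ff7ec060f5db5965d2ed71b7e23355eaddf70b8b905b2ddacc55a6cf46d050f65abaad4f2d8fc6e53254ba4e774ba7d268e2565b1def4560b16ef273ddb6f375b99deaa6782bcde30331c64a699a9aeefa4b2d95dcee534c4d17211dae55eb57aaa63a33218fdaed5449fe86853cd4446a54fab646954ea469a1f0d83d9abf3a9bef67d329b5de6116944aa9b589249a5d35a044e391eacd42311a9150671108641aa34787422093997c56152791c52131b8bc2e0b03814060000]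
noncomputable def K : List (List (ℕ)) := [K_0]
noncomputable def R_0 : List (Rule) := [Rule.mk (nat_lit 1) (nat_lit 28) (Steps.bwd (nat_lit 1) (Steps.bwd (nat_lit 1) Steps.nil)) (nat_lit 0) (nat_lit 0),
  Rule.mk (nat_lit 3) (nat_lit 38) (Steps.bwd (nat_lit 4) (Steps.bwd (nat_lit 3) (Steps.fwd (nat_lit 2048) Steps.nil))) (nat_lit 14) (nat_lit 1),
  Rule.mk (nat_lit 4) (nat_lit 38) (Steps.bwd (nat_lit 5) (Steps.bwd (nat_lit 4) (Steps.fwd (nat_lit 2560) Steps.nil))) (nat_lit 20) (nat_lit 1),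
  Rule.mk (nat_lit 3) (nat_lit 38) (Steps.bwd (nat_lit 5) (Steps.fwd (nat_lit 1536) (Steps.fwd (nat_lit 2560) Steps.nil))) (nat_lit 18) (nat_lit 1),
  Rule.mk (nat_lit 3) (nat_lit 38) (Steps.bwd (nat_lit 4) (Steps.fwd (nat_lit 1536) (Steps.fwd (nat_lit 2048) Steps.nil))) (nat_lit 14) (nat_lit 1),
  Rule.mk (nat_lit 5) (nat_lit 38) (Steps.bwd (nat_lit 4) (Steps.bwd (nat_lit 5) (Steps.bwd (nat_lit 4) Steps.nil))) (nat_lit 20) (nat_lit 0),
  Rule.mk (nat_lit 2) (nat_lit 38) (Steps.bwd (nat_lit 5) (Steps.bwd (nat_lit 1) (Steps.fwd (nat_lit 2560) Steps.nil))) (nat_lit 8) (nat_lit 3),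
  Rule.mk (nat_lit 2) (nat_lit 28) (Steps.bwd (nat_lit 2) (Steps.bwd (nat_lit 2) Steps.nil)) (nat_lit 1) (nat_lit 0),
  Rule.mk (nat_lit 5) (nat_lit 38) (Steps.bwd (nat_lit 2) (Steps.bwd (nat_lit 5) (Steps.bwd (nat_lit 1) Steps.nil))) (nat_lit 8) (nat_lit 2),
  Rule.mk (nat_lit 3) (nat_lit 38) (Steps.bwd (nat_lit 6) (Steps.bwd (nat_lit 4) (Steps.fwd (nat_lit 3072) Steps.nil))) (nat_lit 28) (nat_lit 2),
  Rule.mk (nat_lit 4) (nat_lit 38) (Steps.bwd (nat_lit 6) (Steps.fwd (nat_lit 1536) (Steps.fwd (nat_lit 3072) Steps.nil))) (nat_lit 28) (nat_lit 0),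
  Rule.mk (nat_lit 4) (nat_lit 38) (Steps.bwd (nat_lit 3) (Steps.fwd (nat_lit 2048) (Steps.fwd (nat_lit 1536) Steps.nil))) (nat_lit 14) (nat_lit 0),
  Rule.mk (nat_lit 6) (nat_lit 38) (Steps.bwd (nat_lit 3) (Steps.bwd (nat_lit 6) (Steps.bwd (nat_lit 4) Steps.nil))) (nat_lit 28) (nat_lit 1),
  Rule.mk (nat_lit 6) (nat_lit 38) (Steps.bwd (nat_lit 5) (Steps.fwd (nat_lit 3072) (Steps.bwd (nat_lit 5) Steps.nil))) (nat_lit 26) (nat_lit 1),
  Rule.mk (nat_lit 5) (nat_lit 38) (Steps.bwd (nat_lit 4) (Steps.bwd (nat_lit 5) (Steps.fwd (nat_lit 2048) Steps.nil))) (nat_lit 20) (nat_lit 0),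
  Rule.mk (nat_lit 6) (nat_lit 38) (Steps.bwd (nat_lit 4) (Steps.fwd (nat_lit 3072) (Steps.fwd (nat_lit 1536) Steps.nil))) (nat_lit 28) (nat_lit 3),
  Rule.mk (nat_lit 5) (nat_lit 38) (Steps.bwd (nat_lit 3) (Steps.fwd (nat_lit 2560) (Steps.bwd (nat_lit 3) Steps.nil))) (nat_lit 18) (nat_lit 0),
  Rule.mk (nat_lit 6) (nat_lit 38) (Steps.bwd (nat_lit 3) (Steps.fwd (nat_lit 3072) (Steps.bwd (nat_lit 4) Steps.nil))) (nat_lit 28) (nat_lit 1),
  Rule.mk (nat_lit 3) (nat_lit 38) (Steps.bwd (nat_lit 4) (Steps.bwd (nat_lit 3) (Steps.bwd (nat_lit 4) Steps.nil))) (nat_lit 14) (nat_lit 1),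
  Rule.mk (nat_lit 5) (nat_lit 38) (Steps.bwd (nat_lit 4) (Steps.fwd (nat_lit 2560) (Steps.bwd (nat_lit 4) Steps.nil))) (nat_lit 20) (nat_lit 0),
  Rule.mk (nat_lit 6) (nat_lit 38) (Steps.bwd (nat_lit 4) (Steps.fwd (nat_lit 3072) (Steps.bwd (nat_lit 3) Steps.nil))) (nat_lit 28) (nat_lit 3),
  Rule.mk (nat_lit 6) (nat_lit 38) (Steps.bwd (nat_lit 2) (Steps.fwd (nat_lit 3072) (Steps.bwd (nat_lit 2) Steps.nil))) (nat_lit 25) (nat_lit 0),
  Rule.mk (nat_lit 1) (nat_lit 38) (Steps.bwd (nat_lit 5) (Steps.bwd (nat_lit 2) (Steps.fwd (nat_lit 2560) Steps.nil))) (nat_lit 8) (nat_lit 1),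
  Rule.mk (nat_lit 6) (nat_lit 38) (Steps.bwd (nat_lit 1) (Steps.bwd (nat_lit 6) (Steps.bwd (nat_lit 1) Steps.nil))) (nat_lit 24) (nat_lit 1),
  Rule.mk (nat_lit 5) (nat_lit 38) (Steps.bwd (nat_lit 2) (Steps.fwd (nat_lit 2560) (Steps.bwd (nat_lit 1) Steps.nil))) (nat_lit 8) (nat_lit 2),
  Rule.mk (nat_lit 5) (nat_lit 38) (Steps.bwd (nat_lit 4) (Steps.fwd (nat_lit 2560) (Steps.fwd (nat_lit 2048) Steps.nil))) (nat_lit 20) (nat_lit 0),
  Rule.mk (nat_lit 5) (nat_lit 38) (Steps.bwd (nat_lit 6) (Steps.fwd (nat_lit 2560) (Steps.fwd (nat_lit 3072) Steps.nil))) (nat_lit 26) (nat_lit 0),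
  Rule.mk (nat_lit 6) (nat_lit 38) (Steps.bwd (nat_lit 3) (Steps.fwd (nat_lit 3072) (Steps.fwd (nat_lit 2048) Steps.nil))) (nat_lit 28) (nat_lit 1),
  Rule.mk (nat_lit 5) (nat_lit 38) (Steps.bwd (nat_lit 3) (Steps.fwd (nat_lit 2560) (Steps.fwd (nat_lit 1536) Steps.nil))) (nat_lit 18) (nat_lit 0),
  Rule.mk (nat_lit 4) (nat_lit 38) (Steps.bwd (nat_lit 6) (Steps.bwd (nat_lit 3) (Steps.fwd (nat_lit 3072) Steps.nil))) (nat_lit 28) (nat_lit 0),
  Rule.mk (nat_lit 4) (nat_lit 38) (Steps.bwd (nat_lit 3) (Steps.fwd (nat_lit 2048) (Steps.bwd (nat_lit 3) Steps.nil))) (nat_lit 14) (nat_lit 0),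
  Rule.mk (nat_lit 3) (nat_lit 38) (Steps.bwd (nat_lit 6) (Steps.fwd (nat_lit 2048) (Steps.bwd (nat_lit 6) Steps.nil))) (nat_lit 28) (nat_lit 2),
  Rule.mk (nat_lit 4) (nat_lit 38) (Steps.bwd (nat_lit 6) (Steps.bwd (nat_lit 3) (Steps.bwd (nat_lit 6) Steps.nil))) (nat_lit 28) (nat_lit 0),
  Rule.mk (nat_lit 4) (nat_lit 38) (Steps.bwd (nat_lit 5) (Steps.fwd (nat_lit 2048) (Steps.fwd (nat_lit 2560) Steps.nil))) (nat_lit 20) (nat_lit 1),
  Rule.mk (nat_lit 5) (nat_lit 38) (Steps.bwd (nat_lit 6) (Steps.bwd (nat_lit 5) (Steps.bwd (nat_lit 6) Steps.nil))) (nat_lit 26) (nat_lit 0),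
  Rule.mk (nat_lit 3) (nat_lit 38) (Steps.bwd (nat_lit 6) (Steps.fwd (nat_lit 2048) (Steps.fwd (nat_lit 3072) Steps.nil))) (nat_lit 28) (nat_lit 2),
  Rule.mk (nat_lit 1) (nat_lit 68) (Steps.bwd (nat_lit 3) (Steps.bwd (nat_lit 1) (Steps.bwd (nat_lit 5) (Steps.fwd (nat_lit 1536) (Steps.fwd (nat_lit 1024) (Steps.bwd (nat_lit 3) Steps.nil)))))) (nat_lit 10) (nat_lit 4),
  Rule.mk (nat_lit 6) (nat_lit 38) (Steps.bwd (nat_lit 1) (Steps.fwd (nat_lit 3072) (Steps.bwd (nat_lit 1) Steps.nil))) (nat_lit 24) (nat_lit 1),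
  Rule.mk (nat_lit 1) (nat_lit 68) (Steps.bwd (nat_lit 4) (Steps.bwd (nat_lit 1) (Steps.fwd (nat_lit 2560) (Steps.bwd (nat_lit 4) (Steps.bwd (nat_lit 1) (Steps.bwd (nat_lit 4) Steps.nil)))))) (nat_lit 12) (nat_lit 4),
  Rule.mk (nat_lit 2) (nat_lit 68) (Steps.bwd (nat_lit 4) (Steps.fwd (nat_lit 2560) (Steps.fwd (nat_lit 512) (Steps.fwd (nat_lit 2048) (Steps.fwd (nat_lit 512) (Steps.fwd (nat_lit 2048) Steps.nil)))))) (nat_lit 13) (nat_lit 6),
  Rule.mk (nat_lit 1) (nat_lit 38) (Steps.bwd (nat_lit 6) (Steps.fwd (nat_lit 1024) (Steps.fwd (nat_lit 3072) Steps.nil))) (nat_lit 24) (nat_lit 0),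
  Rule.mk (nat_lit 5) (nat_lit 38) (Steps.bwd (nat_lit 1) (Steps.fwd (nat_lit 2560) (Steps.fwd (nat_lit 512) Steps.nil))) (nat_lit 8) (nat_lit 0),
  Rule.mk (nat_lit 6) (nat_lit 38) (Steps.bwd (nat_lit 1) (Steps.bwd (nat_lit 6) (Steps.fwd (nat_lit 1024) Steps.nil))) (nat_lit 24) (nat_lit 1),
  Rule.mk (nat_lit 3) (nat_lit 68) (Steps.bwd (nat_lit 1) (Steps.fwd (nat_lit 2560) (Steps.bwd (nat_lit 3) (Steps.bwd (nat_lit 1) (Steps.fwd (nat_lit 1536) (Steps.bwd (nat_lit 1) Steps.nil)))))) (nat_lit 10) (nat_lit 5),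
  Rule.mk (nat_lit 3) (nat_lit 68) (Steps.bwd (nat_lit 1) (Steps.bwd (nat_lit 5) (Steps.fwd (nat_lit 1536) (Steps.fwd (nat_lit 1024) (Steps.bwd (nat_lit 3) (Steps.bwd (nat_lit 1) Steps.nil)))))) (nat_lit 10) (nat_lit 5),
  Rule.mk (nat_lit 2) (nat_lit 28) (Steps.bwd (nat_lit 2) (Steps.fwd (nat_lit 512) Steps.nil)) (nat_lit 1) (nat_lit 0),
  Rule.mk (nat_lit 4) (nat_lit 68) (Steps.bwd (nat_lit 2) (Steps.bwd (nat_lit 4) (Steps.fwd (nat_lit 2560) (Steps.fwd (nat_lit 512) (Steps.bwd (nat_lit 4) (Steps.bwd (nat_lit 2) Steps.nil)))))) (nat_lit 13) (nat_lit 5),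
  Rule.mk (nat_lit 1) (nat_lit 38) (Steps.bwd (nat_lit 6) (Steps.bwd (nat_lit 1) (Steps.fwd (nat_lit 3072) Steps.nil))) (nat_lit 24) (nat_lit 0),
  Rule.mk (nat_lit 2) (nat_lit 38) (Steps.bwd (nat_lit 6) (Steps.fwd (nat_lit 512) (Steps.bwd (nat_lit 6) Steps.nil))) (nat_lit 25) (nat_lit 1),
  Rule.mk (nat_lit 2) (nat_lit 38) (Steps.bwd (nat_lit 5) (Steps.bwd (nat_lit 1) (Steps.bwd (nat_lit 5) Steps.nil))) (nat_lit 8) (nat_lit 3),
  Rule.mk (nat_lit 3) (nat_lit 38) (Steps.bwd (nat_lit 5) (Steps.fwd (nat_lit 1536) (Steps.bwd (nat_lit 5) Steps.nil))) (nat_lit 18) (nat_lit 1),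
  Rule.mk (nat_lit 3) (nat_lit 68) (Steps.bwd (nat_lit 2) (Steps.bwd (nat_lit 3) (Steps.fwd (nat_lit 2560) (Steps.bwd (nat_lit 2) (Steps.bwd (nat_lit 3) (Steps.bwd (nat_lit 2) Steps.nil)))))) (nat_lit 11) (nat_lit 5),
  Rule.mk (nat_lit 5) (nat_lit 38) (Steps.bwd (nat_lit 2) (Steps.bwd (nat_lit 5) (Steps.fwd (nat_lit 1024) Steps.nil))) (nat_lit 8) (nat_lit 2),
  Rule.mk (nat_lit 3) (nat_lit 68) (Steps.bwd (nat_lit 2) (Steps.bwd (nat_lit 3) (Steps.bwd (nat_lit 5) (Steps.fwd (nat_lit 512) (Steps.bwd (nat_lit 3) (Steps.bwd (nat_lit 2) Steps.nil)))))) (nat_lit 11) (nat_lit 5),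
  Rule.mk (nat_lit 6) (nat_lit 38) (Steps.bwd (nat_lit 2) (Steps.bwd (nat_lit 6) (Steps.bwd (nat_lit 2) Steps.nil))) (nat_lit 25) (nat_lit 0),
  Rule.mk (nat_lit 4) (nat_lit 68) (Steps.bwd (nat_lit 2) (Steps.bwd (nat_lit 4) (Steps.fwd (nat_lit 2560) (Steps.bwd (nat_lit 2) (Steps.bwd (nat_lit 4) (Steps.bwd (nat_lit 2) Steps.nil)))))) (nat_lit 13) (nat_lit 5),
  Rule.mk (nat_lit 5) (nat_lit 38) (Steps.bwd (nat_lit 2) (Steps.fwd (nat_lit 2560) (Steps.fwd (nat_lit 1024) Steps.nil))) (nat_lit 8) (nat_lit 2),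
  Rule.mk (nat_lit 4) (nat_lit 68) (Steps.bwd (nat_lit 2) (Steps.fwd (nat_lit 2048) (Steps.bwd (nat_lit 5) (Steps.fwd (nat_lit 512) (Steps.fwd (nat_lit 2048) (Steps.bwd (nat_lit 2) Steps.nil)))))) (nat_lit 13) (nat_lit 5),
  Rule.mk (nat_lit 1) (nat_lit 68) (Steps.bwd (nat_lit 4) (Steps.bwd (nat_lit 1) (Steps.fwd (nat_lit 2560) (Steps.fwd (nat_lit 2048) (Steps.fwd (nat_lit 1024) (Steps.bwd (nat_lit 4) Steps.nil)))))) (nat_lit 12) (nat_lit 4),
  Rule.mk (nat_lit 1) (nat_lit 68) (Steps.bwd (nat_lit 3) (Steps.bwd (nat_lit 1) (Steps.fwd (nat_lit 2560) (Steps.bwd (nat_lit 3) (Steps.bwd (nat_lit 1) (Steps.bwd (nat_lit 3) Steps.nil)))))) (nat_lit 10) (nat_lit 4),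
  Rule.mk (nat_lit 2) (nat_lit 68) (Steps.bwd (nat_lit 3) (Steps.fwd (nat_lit 2560) (Steps.fwd (nat_lit 512) (Steps.fwd (nat_lit 1536) (Steps.fwd (nat_lit 512) (Steps.fwd (nat_lit 1536) Steps.nil)))))) (nat_lit 11) (nat_lit 6),
  Rule.mk (nat_lit 5) (nat_lit 38) (Steps.bwd (nat_lit 1) (Steps.bwd (nat_lit 5) (Steps.fwd (nat_lit 512) Steps.nil))) (nat_lit 8) (nat_lit 0),
  Rule.mk (nat_lit 4) (nat_lit 68) (Steps.bwd (nat_lit 1) (Steps.bwd (nat_lit 5) (Steps.bwd (nat_lit 4) (Steps.bwd (nat_lit 1) (Steps.fwd (nat_lit 2048) (Steps.bwd (nat_lit 1) Steps.nil)))))) (nat_lit 12) (nat_lit 5),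
  Rule.mk (nat_lit 4) (nat_lit 68) (Steps.bwd (nat_lit 1) (Steps.bwd (nat_lit 5) (Steps.fwd (nat_lit 2048) (Steps.fwd (nat_lit 1024) (Steps.bwd (nat_lit 4) (Steps.bwd (nat_lit 1) Steps.nil)))))) (nat_lit 12) (nat_lit 5)]
noncomputable def R_1 : List (Rule) := [Rule.mk (nat_lit 3) (nat_lit 68) (Steps.bwd (nat_lit 2) (Steps.bwd (nat_lit 3) (Steps.fwd (nat_lit 2560) (Steps.fwd (nat_lit 512) (Steps.bwd (nat_lit 3) (Steps.bwd (nat_lit 2) Steps.nil)))))) (nat_lit 11) (nat_lit 5),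
  Rule.mk (nat_lit 4) (nat_lit 38) (Steps.bwd (nat_lit 5) (Steps.fwd (nat_lit 2048) (Steps.bwd (nat_lit 5) Steps.nil))) (nat_lit 20) (nat_lit 1),
  Rule.mk (nat_lit 4) (nat_lit 68) (Steps.bwd (nat_lit 2) (Steps.bwd (nat_lit 4) (Steps.bwd (nat_lit 5) (Steps.fwd (nat_lit 512) (Steps.bwd (nat_lit 4) (Steps.bwd (nat_lit 2) Steps.nil)))))) (nat_lit 13) (nat_lit 5),
  Rule.mk (nat_lit 3) (nat_lit 68) (Steps.bwd (nat_lit 2) (Steps.fwd (nat_lit 1536) (Steps.bwd (nat_lit 5) (Steps.fwd (nat_lit 512) (Steps.fwd (nat_lit 1536) (Steps.bwd (nat_lit 2) Steps.nil)))))) (nat_lit 11) (nat_lit 5),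
  Rule.mk (nat_lit 2) (nat_lit 38) (Steps.bwd (nat_lit 6) (Steps.bwd (nat_lit 2) (Steps.fwd (nat_lit 3072) Steps.nil))) (nat_lit 25) (nat_lit 1),
  Rule.mk (nat_lit 5) (nat_lit 38) (Steps.bwd (nat_lit 6) (Steps.fwd (nat_lit 2560) (Steps.bwd (nat_lit 6) Steps.nil))) (nat_lit 26) (nat_lit 0),
  Rule.mk (nat_lit 5) (nat_lit 38) (Steps.bwd (nat_lit 1) (Steps.bwd (nat_lit 5) (Steps.bwd (nat_lit 2) Steps.nil))) (nat_lit 8) (nat_lit 0),
  Rule.mk (nat_lit 5) (nat_lit 38) (Steps.bwd (nat_lit 1) (Steps.fwd (nat_lit 2560) (Steps.bwd (nat_lit 2) Steps.nil))) (nat_lit 8) (nat_lit 0),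
  Rule.mk (nat_lit 1) (nat_lit 88) (Steps.bwd (nat_lit 3) (Steps.bwd (nat_lit 2) (Steps.fwd (nat_lit 2048) (Steps.bwd (nat_lit 5) (Steps.bwd (nat_lit 1) (Steps.fwd (nat_lit 1536) (Steps.fwd (nat_lit 512) (Steps.fwd (nat_lit 2048) Steps.nil)))))))) (nat_lit 16) (nat_lit 5),
  Rule.mk (nat_lit 4) (nat_lit 38) (Steps.bwd (nat_lit 5) (Steps.bwd (nat_lit 4) (Steps.bwd (nat_lit 5) Steps.nil))) (nat_lit 20) (nat_lit 1),
  Rule.mk (nat_lit 3) (nat_lit 88) (Steps.bwd (nat_lit 2) (Steps.fwd (nat_lit 2048) (Steps.fwd (nat_lit 2560) (Steps.bwd (nat_lit 1) (Steps.bwd (nat_lit 3) (Steps.fwd (nat_lit 512) (Steps.fwd (nat_lit 2048) (Steps.fwd (nat_lit 1024) Steps.nil)))))))) (nat_lit 16) (nat_lit 6),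
  Rule.mk (nat_lit 3) (nat_lit 68) (Steps.bwd (nat_lit 2) (Steps.fwd (nat_lit 1536) (Steps.fwd (nat_lit 2560) (Steps.bwd (nat_lit 2) (Steps.fwd (nat_lit 1536) (Steps.fwd (nat_lit 512) Steps.nil)))))) (nat_lit 11) (nat_lit 5),
  Rule.mk (nat_lit 4) (nat_lit 68) (Steps.fwd (nat_lit 2560) (Steps.bwd (nat_lit 2) (Steps.fwd (nat_lit 2048) (Steps.fwd (nat_lit 512) (Steps.bwd (nat_lit 4) (Steps.bwd (nat_lit 2) Steps.nil)))))) (nat_lit 13) (nat_lit 0),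
  Rule.mk (nat_lit 6) (nat_lit 38) (Steps.bwd (nat_lit 3) (Steps.bwd (nat_lit 6) (Steps.fwd (nat_lit 2048) Steps.nil))) (nat_lit 28) (nat_lit 1),
  Rule.mk (nat_lit 1) (nat_lit 68) (Steps.bwd (nat_lit 4) (Steps.fwd (nat_lit 1024) (Steps.bwd (nat_lit 5) (Steps.bwd (nat_lit 4) (Steps.bwd (nat_lit 1) (Steps.fwd (nat_lit 2048) Steps.nil)))))) (nat_lit 12) (nat_lit 4),
  Rule.mk (nat_lit 6) (nat_lit 38) (Steps.bwd (nat_lit 5) (Steps.fwd (nat_lit 3072) (Steps.fwd (nat_lit 2560) Steps.nil))) (nat_lit 26) (nat_lit 1),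
  Rule.mk (nat_lit 3) (nat_lit 88) (Steps.bwd (nat_lit 2) (Steps.bwd (nat_lit 4) (Steps.bwd (nat_lit 5) (Steps.fwd (nat_lit 1024) (Steps.bwd (nat_lit 3) (Steps.bwd (nat_lit 2) (Steps.bwd (nat_lit 4) (Steps.fwd (nat_lit 1024) Steps.nil)))))))) (nat_lit 16) (nat_lit 6),
  Rule.mk (nat_lit 3) (nat_lit 38) (Steps.bwd (nat_lit 5) (Steps.bwd (nat_lit 3) (Steps.fwd (nat_lit 2560) Steps.nil))) (nat_lit 18) (nat_lit 1),
  Rule.mk (nat_lit 3) (nat_lit 68) (Steps.bwd (nat_lit 2) (Steps.bwd (nat_lit 3) (Steps.bwd (nat_lit 5) (Steps.bwd (nat_lit 2) (Steps.bwd (nat_lit 3) (Steps.bwd (nat_lit 2) Steps.nil)))))) (nat_lit 11) (nat_lit 5),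
  Rule.mk (nat_lit 1) (nat_lit 38) (Steps.bwd (nat_lit 6) (Steps.bwd (nat_lit 1) (Steps.bwd (nat_lit 6) Steps.nil))) (nat_lit 24) (nat_lit 0),
  Rule.mk (nat_lit 3) (nat_lit 38) (Steps.bwd (nat_lit 6) (Steps.bwd (nat_lit 4) (Steps.bwd (nat_lit 6) Steps.nil))) (nat_lit 28) (nat_lit 2),
  Rule.mk (nat_lit 3) (nat_lit 38) (Steps.bwd (nat_lit 4) (Steps.fwd (nat_lit 1536) (Steps.bwd (nat_lit 4) Steps.nil))) (nat_lit 14) (nat_lit 1),
  Rule.mk (nat_lit 3) (nat_lit 68) (Steps.bwd (nat_lit 1) (Steps.fwd (nat_lit 1536) (Steps.bwd (nat_lit 1) (Steps.fwd (nat_lit 2560) (Steps.bwd (nat_lit 3) (Steps.fwd (nat_lit 1024) Steps.nil)))))) (nat_lit 10) (nat_lit 3),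
  Rule.mk (nat_lit 4) (nat_lit 68) (Steps.bwd (nat_lit 1) (Steps.bwd (nat_lit 4) (Steps.fwd (nat_lit 1024) (Steps.bwd (nat_lit 5) (Steps.bwd (nat_lit 4) (Steps.bwd (nat_lit 1) Steps.nil)))))) (nat_lit 12) (nat_lit 3),
  Rule.mk (nat_lit 4) (nat_lit 68) (Steps.bwd (nat_lit 1) (Steps.fwd (nat_lit 2048) (Steps.bwd (nat_lit 1) (Steps.fwd (nat_lit 2560) (Steps.fwd (nat_lit 2048) (Steps.bwd (nat_lit 1) Steps.nil)))))) (nat_lit 12) (nat_lit 3),
  Rule.mk (nat_lit 3) (nat_lit 88) (Steps.bwd (nat_lit 2) (Steps.bwd (nat_lit 4) (Steps.fwd (nat_lit 2560) (Steps.fwd (nat_lit 1024) (Steps.fwd (nat_lit 1536) (Steps.bwd (nat_lit 2) (Steps.bwd (nat_lit 4) (Steps.bwd (nat_lit 1) Steps.nil)))))))) (nat_lit 16) (nat_lit 6),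
  Rule.mk (nat_lit 3) (nat_lit 68) (Steps.bwd (nat_lit 2) (Steps.fwd (nat_lit 1536) (Steps.bwd (nat_lit 5) (Steps.bwd (nat_lit 2) (Steps.fwd (nat_lit 1536) (Steps.bwd (nat_lit 2) Steps.nil)))))) (nat_lit 11) (nat_lit 5),
  Rule.mk (nat_lit 4) (nat_lit 68) (Steps.bwd (nat_lit 2) (Steps.fwd (nat_lit 2048) (Steps.fwd (nat_lit 2560) (Steps.fwd (nat_lit 512) (Steps.bwd (nat_lit 4) (Steps.fwd (nat_lit 512) Steps.nil)))))) (nat_lit 13) (nat_lit 5),
  Rule.mk (nat_lit 3) (nat_lit 68) (Steps.bwd (nat_lit 1) (Steps.bwd (nat_lit 5) (Steps.fwd (nat_lit 1536) (Steps.fwd (nat_lit 1024) (Steps.bwd (nat_lit 3) (Steps.fwd (nat_lit 1024) Steps.nil)))))) (nat_lit 10) (nat_lit 5),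
  Rule.mk (nat_lit 4) (nat_lit 68) (Steps.bwd (nat_lit 1) (Steps.bwd (nat_lit 5) (Steps.fwd (nat_lit 2048) (Steps.bwd (nat_lit 1) (Steps.fwd (nat_lit 2048) (Steps.bwd (nat_lit 1) Steps.nil)))))) (nat_lit 12) (nat_lit 5),
  Rule.mk (nat_lit 1) (nat_lit 68) (Steps.bwd (nat_lit 3) (Steps.fwd (nat_lit 1024) (Steps.fwd (nat_lit 2560) (Steps.bwd (nat_lit 3) (Steps.fwd (nat_lit 1024) (Steps.bwd (nat_lit 3) Steps.nil)))))) (nat_lit 10) (nat_lit 4),
  Rule.mk (nat_lit 2) (nat_lit 68) (Steps.bwd (nat_lit 3) (Steps.bwd (nat_lit 5) (Steps.bwd (nat_lit 2) (Steps.bwd (nat_lit 3) (Steps.bwd (nat_lit 2) (Steps.bwd (nat_lit 3) Steps.nil)))))) (nat_lit 11) (nat_lit 6),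
  Rule.mk (nat_lit 2) (nat_lit 38) (Steps.bwd (nat_lit 5) (Steps.fwd (nat_lit 1024) (Steps.bwd (nat_lit 5) Steps.nil))) (nat_lit 8) (nat_lit 3),
  Rule.mk (nat_lit 1) (nat_lit 38) (Steps.bwd (nat_lit 5) (Steps.fwd (nat_lit 512) (Steps.fwd (nat_lit 2560) Steps.nil))) (nat_lit 8) (nat_lit 1),
  Rule.mk (nat_lit 3) (nat_lit 38) (Steps.bwd (nat_lit 5) (Steps.bwd (nat_lit 3) (Steps.bwd (nat_lit 5) Steps.nil))) (nat_lit 18) (nat_lit 1),
  Rule.mk (nat_lit 4) (nat_lit 68) (Steps.bwd (nat_lit 1) (Steps.bwd (nat_lit 4) (Steps.fwd (nat_lit 1024) (Steps.fwd (nat_lit 2560) (Steps.fwd (nat_lit 2048) (Steps.fwd (nat_lit 1024) Steps.nil)))))) (nat_lit 12) (nat_lit 3),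
  Rule.mk (nat_lit 4) (nat_lit 68) (Steps.bwd (nat_lit 1) (Steps.bwd (nat_lit 5) (Steps.bwd (nat_lit 4) (Steps.fwd (nat_lit 1024) (Steps.fwd (nat_lit 2048) (Steps.fwd (nat_lit 1024) Steps.nil)))))) (nat_lit 12) (nat_lit 5),
  Rule.mk (nat_lit 1) (nat_lit 68) (Steps.bwd (nat_lit 4) (Steps.bwd (nat_lit 1) (Steps.bwd (nat_lit 5) (Steps.bwd (nat_lit 4) (Steps.bwd (nat_lit 1) (Steps.fwd (nat_lit 2048) Steps.nil)))))) (nat_lit 12) (nat_lit 4),
  Rule.mk (nat_lit 2) (nat_lit 68) (Steps.bwd (nat_lit 4) (Steps.fwd (nat_lit 2560) (Steps.bwd (nat_lit 2) (Steps.fwd (nat_lit 2048) (Steps.bwd (nat_lit 2) (Steps.bwd (nat_lit 4) Steps.nil)))))) (nat_lit 13) (nat_lit 6),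
  Rule.mk (nat_lit 3) (nat_lit 68) (Steps.bwd (nat_lit 1) (Steps.fwd (nat_lit 2560) (Steps.fwd (nat_lit 1536) (Steps.bwd (nat_lit 1) (Steps.bwd (nat_lit 3) (Steps.bwd (nat_lit 1) Steps.nil)))))) (nat_lit 10) (nat_lit 5),
  Rule.mk (nat_lit 3) (nat_lit 68) (Steps.bwd (nat_lit 2) (Steps.fwd (nat_lit 1536) (Steps.fwd (nat_lit 2560) (Steps.fwd (nat_lit 512) (Steps.bwd (nat_lit 3) (Steps.bwd (nat_lit 2) Steps.nil)))))) (nat_lit 11) (nat_lit 5),
  Rule.mk (nat_lit 4) (nat_lit 68) (Steps.bwd (nat_lit 2) (Steps.fwd (nat_lit 2048) (Steps.fwd (nat_lit 2560) (Steps.fwd (nat_lit 512) (Steps.fwd (nat_lit 2048) (Steps.bwd (nat_lit 2) Steps.nil)))))) (nat_lit 13) (nat_lit 5),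
  Rule.mk (nat_lit 4) (nat_lit 38) (Steps.bwd (nat_lit 6) (Steps.fwd (nat_lit 1536) (Steps.bwd (nat_lit 6) Steps.nil))) (nat_lit 28) (nat_lit 0),
  Rule.mk (nat_lit 3) (nat_lit 68) (Steps.bwd (nat_lit 2) (Steps.fwd (nat_lit 1536) (Steps.bwd (nat_lit 5) (Steps.fwd (nat_lit 512) (Steps.bwd (nat_lit 3) (Steps.bwd (nat_lit 2) Steps.nil)))))) (nat_lit 11) (nat_lit 5),
  Rule.mk (nat_lit 3) (nat_lit 68) (Steps.bwd (nat_lit 1) (Steps.bwd (nat_lit 5) (Steps.fwd (nat_lit 1536) (Steps.fwd (nat_lit 1024) (Steps.fwd (nat_lit 1536) (Steps.bwd (nat_lit 1) Steps.nil)))))) (nat_lit 10) (nat_lit 5),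
  Rule.mk (nat_lit 1) (nat_lit 68) (Steps.bwd (nat_lit 3) (Steps.fwd (nat_lit 1024) (Steps.bwd (nat_lit 5) (Steps.bwd (nat_lit 3) (Steps.fwd (nat_lit 1024) (Steps.bwd (nat_lit 3) Steps.nil)))))) (nat_lit 10) (nat_lit 4),
  Rule.mk (nat_lit 3) (nat_lit 68) (Steps.bwd (nat_lit 1) (Steps.fwd (nat_lit 1536) (Steps.fwd (nat_lit 1024) (Steps.fwd (nat_lit 2560) (Steps.bwd (nat_lit 3) (Steps.fwd (nat_lit 1024) Steps.nil)))))) (nat_lit 10) (nat_lit 3),
  Rule.mk (nat_lit 4) (nat_lit 68) (Steps.bwd (nat_lit 1) (Steps.fwd (nat_lit 2048) (Steps.fwd (nat_lit 1024) (Steps.fwd (nat_lit 2560) (Steps.fwd (nat_lit 2048) (Steps.bwd (nat_lit 1) Steps.nil)))))) (nat_lit 12) (nat_lit 3),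
  Rule.mk (nat_lit 4) (nat_lit 68) (Steps.bwd (nat_lit 2) (Steps.bwd (nat_lit 4) (Steps.fwd (nat_lit 2560) (Steps.fwd (nat_lit 512) (Steps.bwd (nat_lit 4) (Steps.fwd (nat_lit 512) Steps.nil)))))) (nat_lit 13) (nat_lit 5),
  Rule.mk (nat_lit 3) (nat_lit 88) (Steps.bwd (nat_lit 2) (Steps.bwd (nat_lit 4) (Steps.fwd (nat_lit 2560) (Steps.fwd (nat_lit 1024) (Steps.bwd (nat_lit 3) (Steps.bwd (nat_lit 2) (Steps.bwd (nat_lit 4) (Steps.bwd (nat_lit 1) Steps.nil)))))))) (nat_lit 16) (nat_lit 6),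
  Rule.mk (nat_lit 4) (nat_lit 68) (Steps.bwd (nat_lit 2) (Steps.fwd (nat_lit 2048) (Steps.fwd (nat_lit 2560) (Steps.bwd (nat_lit 2) (Steps.bwd (nat_lit 4) (Steps.bwd (nat_lit 2) Steps.nil)))))) (nat_lit 13) (nat_lit 5),
  Rule.mk (nat_lit 3) (nat_lit 68) (Steps.bwd (nat_lit 2) (Steps.fwd (nat_lit 1536) (Steps.fwd (nat_lit 2560) (Steps.bwd (nat_lit 2) (Steps.bwd (nat_lit 3) (Steps.fwd (nat_lit 512) Steps.nil)))))) (nat_lit 11) (nat_lit 5),
  Rule.mk (nat_lit 4) (nat_lit 68) (Steps.bwd (nat_lit 2) (Steps.fwd (nat_lit 2048) (Steps.fwd (nat_lit 2560) (Steps.bwd (nat_lit 2) (Steps.bwd (nat_lit 4) (Steps.fwd (nat_lit 512) Steps.nil)))))) (nat_lit 13) (nat_lit 5),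
  Rule.mk (nat_lit 3) (nat_lit 68) (Steps.bwd (nat_lit 1) (Steps.bwd (nat_lit 5) (Steps.fwd (nat_lit 1536) (Steps.bwd (nat_lit 1) (Steps.fwd (nat_lit 1536) (Steps.fwd (nat_lit 1024) Steps.nil)))))) (nat_lit 10) (nat_lit 5),
  Rule.mk (nat_lit 4) (nat_lit 68) (Steps.bwd (nat_lit 1) (Steps.bwd (nat_lit 5) (Steps.fwd (nat_lit 2048) (Steps.bwd (nat_lit 1) (Steps.fwd (nat_lit 2048) (Steps.fwd (nat_lit 1024) Steps.nil)))))) (nat_lit 12) (nat_lit 5),
  Rule.mk (nat_lit 1) (nat_lit 68) (Steps.bwd (nat_lit 3) (Steps.bwd (nat_lit 1) (Steps.bwd (nat_lit 5) (Steps.bwd (nat_lit 3) (Steps.bwd (nat_lit 1) (Steps.bwd (nat_lit 3) Steps.nil)))))) (nat_lit 10) (nat_lit 4),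
  Rule.mk (nat_lit 2) (nat_lit 68) (Steps.bwd (nat_lit 3) (Steps.fwd (nat_lit 2560) (Steps.bwd (nat_lit 2) (Steps.bwd (nat_lit 3) (Steps.fwd (nat_lit 512) (Steps.bwd (nat_lit 3) Steps.nil)))))) (nat_lit 11) (nat_lit 6),
  Rule.mk (nat_lit 2) (nat_lit 68) (Steps.bwd (nat_lit 4) (Steps.fwd (nat_lit 2560) (Steps.bwd (nat_lit 2) (Steps.fwd (nat_lit 2048) (Steps.fwd (nat_lit 512) (Steps.bwd (nat_lit 4) Steps.nil)))))) (nat_lit 13) (nat_lit 6),
  Rule.mk (nat_lit 6) (nat_lit 38) (Steps.bwd (nat_lit 2) (Steps.bwd (nat_lit 6) (Steps.fwd (nat_lit 512) Steps.nil))) (nat_lit 25) (nat_lit 0),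
  Rule.mk (nat_lit 4) (nat_lit 68) (Steps.bwd (nat_lit 2) (Steps.fwd (nat_lit 2048) (Steps.bwd (nat_lit 5) (Steps.bwd (nat_lit 2) (Steps.fwd (nat_lit 2048) (Steps.bwd (nat_lit 2) Steps.nil)))))) (nat_lit 13) (nat_lit 5),
  Rule.mk (nat_lit 4) (nat_lit 68) (Steps.bwd (nat_lit 1) (Steps.bwd (nat_lit 5) (Steps.fwd (nat_lit 2048) (Steps.fwd (nat_lit 1024) (Steps.bwd (nat_lit 4) (Steps.fwd (nat_lit 1024) Steps.nil)))))) (nat_lit 12) (nat_lit 5),
  Rule.mk (nat_lit 2) (nat_lit 68) (Steps.bwd (nat_lit 3) (Steps.fwd (nat_lit 2560) (Steps.fwd (nat_lit 512) (Steps.bwd (nat_lit 3) (Steps.bwd (nat_lit 2) (Steps.bwd (nat_lit 3) Steps.nil)))))) (nat_lit 11) (nat_lit 6),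
  Rule.mk (nat_lit 3) (nat_lit 68) (Steps.bwd (nat_lit 1) (Steps.fwd (nat_lit 1536) (Steps.fwd (nat_lit 1024) (Steps.bwd (nat_lit 5) (Steps.bwd (nat_lit 3) (Steps.bwd (nat_lit 1) Steps.nil)))))) (nat_lit 10) (nat_lit 3),
  Rule.mk (nat_lit 4) (nat_lit 68) (Steps.bwd (nat_lit 1) (Steps.bwd (nat_lit 4) (Steps.fwd (nat_lit 1024) (Steps.fwd (nat_lit 2560) (Steps.fwd (nat_lit 2048) (Steps.bwd (nat_lit 1) Steps.nil)))))) (nat_lit 12) (nat_lit 3)]
noncomputable def R_2 : List (Rule) := [Rule.mk (nat_lit 4) (nat_lit 68) (Steps.bwd (nat_lit 1) (Steps.fwd (nat_lit 2048) (Steps.bwd (nat_lit 1) (Steps.fwd (nat_lit 2560) (Steps.fwd (nat_lit 2048) (Steps.fwd (nat_lit 1024) Steps.nil)))))) (nat_lit 12) (nat_lit 3),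
  Rule.mk (nat_lit 3) (nat_lit 68) (Steps.bwd (nat_lit 1) (Steps.fwd (nat_lit 2560) (Steps.fwd (nat_lit 1536) (Steps.bwd (nat_lit 1) (Steps.fwd (nat_lit 1536) (Steps.bwd (nat_lit 1) Steps.nil)))))) (nat_lit 10) (nat_lit 5),
  Rule.mk (nat_lit 4) (nat_lit 68) (Steps.bwd (nat_lit 1) (Steps.fwd (nat_lit 2560) (Steps.fwd (nat_lit 2048) (Steps.bwd (nat_lit 1) (Steps.fwd (nat_lit 2048) (Steps.fwd (nat_lit 1024) Steps.nil)))))) (nat_lit 12) (nat_lit 5),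
  Rule.mk (nat_lit 4) (nat_lit 68) (Steps.bwd (nat_lit 1) (Steps.fwd (nat_lit 2048) (Steps.fwd (nat_lit 1024) (Steps.bwd (nat_lit 5) (Steps.bwd (nat_lit 4) (Steps.fwd (nat_lit 1024) Steps.nil)))))) (nat_lit 12) (nat_lit 3),
  Rule.mk (nat_lit 4) (nat_lit 68) (Steps.bwd (nat_lit 1) (Steps.bwd (nat_lit 5) (Steps.fwd (nat_lit 2048) (Steps.fwd (nat_lit 1024) (Steps.fwd (nat_lit 2048) (Steps.bwd (nat_lit 1) Steps.nil)))))) (nat_lit 12) (nat_lit 5),
  Rule.mk (nat_lit 1) (nat_lit 68) (Steps.bwd (nat_lit 5) (Steps.fwd (nat_lit 1536) (Steps.bwd (nat_lit 1) (Steps.fwd (nat_lit 1536) (Steps.fwd (nat_lit 1024) (Steps.bwd (nat_lit 3) Steps.nil)))))) (nat_lit 10) (nat_lit 6),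
  Rule.mk (nat_lit 6) (nat_lit 38) (Steps.bwd (nat_lit 5) (Steps.bwd (nat_lit 6) (Steps.fwd (nat_lit 2560) Steps.nil))) (nat_lit 26) (nat_lit 1)]
noncomputable def R : List (List (Rule)) := [R_0, R_1, R_2]
def LW : List Word := [[], [0], [1], [2], [4], [6], [8]]
def par : Par := ⟨9, 3, 12, 21, 511, 4095, 2097151⟩
theorem hpar : par.ok := by decide
theorem hR0_0 : lall (R) (fun l => lall l (ruleOK Rm' LW par)) = true := by decide +kernel
theorem hR0 : lall (R) (fun l => lall l (ruleOK Rm' LW par)) = true := hR0_0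
theorem hR : RulesOK Rm' LW par R := rulesOK_of rfl hR0
def cols : List (ℕ × ℕ) := [(512, 2), (1536, 3), (2048, 4), (2560, 5), (3072, 6)]
theorem hcols : lall cols (colOK Rm' LW par) = true := by decide +kernel
noncomputable def JS0 : List ℕ := [nat_lit 0x40030c6cc4320c31a3100530c4014018c416008c530c64c53082018330c218004c101330013043807304c017038053005810008c015020022fc50c02fcbe13038012f84806004bd11028012f440022f4bc0f01c002f038c62f4bc0d004002ec30bc020bb0b2f0c42ec2807304bc09000bb082fcc42ec1cbf2f0bb06004002e814bb004ba042ecbd2e80cbc2f4bb022f8bd01,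
  nat_lit 0xcd000cb15000d632c980c3c4380dccc32c940e00ccc0b0240132c90cc32cca23018013288809004c90432cca32484ce000c820010003207c17324c81e0040031c6cc8058c71d3201731c7013324c80a0040031c6cc8048c71a3201331c400e00cc80b0240131c90c831cc623018013188809004c50431cc631484ca000c420010003107c0e314c41e0040030c6cc4330c31d3100930c700a314c40a,
  nat_lit 0xdd064db35080da2e3703d368d4e2364b80100c0f05012364d015360b80236020da018d80e0280c35ccc36370d63200c0a358780501cd52311409350c40a364d3300003335c603134cd217004430e0f93d0d22f0080e348580c344b802118d109368d02e0004510c290a8d02d344d00100ce311d04108d02c3483933cacd5100ce2a018023386c16000cd29374ec0dc02004cd283380033050003c0cc090d0e936811334cc27,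
  nat_lit 0x4751a129480ea410080e3a8580c3a4b8024d0e9193c8e82e000771cc55158e8403a4e80100d0f1dd334c0e83f3a86539caced4b8e63e018023986c42000e5294251c1a402004e53d398003904400180e419199194183d394e43c3940038c4800408e3260e1211a925390e33b014f606417070e43a0441238cdce43b0e2393b0e1080343a38458e20e0e035088df0800cf13a41003cdf3801c12378dc12374b8033e8dd163b8dc2e00c1539c193b8dc36,
  nat_lit 0x228fc3ed1400228fb19538fc3ecc0054381905c1c3f11011048fb373f1043e8e5043e4200d198f9163e8643e0d4223dc2003425010400f3dcd007048f637048f52e00d263d459063d0b803054ff065063d10cf5064f335080f22e3d0693c8d4fa3c4b80100c0f050123c4e0153c0b8023c020f2018f00e0280c3bd08623d0ee3200c0a3b8280501ced231c4093b0c40a3c4eb300005f3bc605d3acea17,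
  nat_lit 0x140641d1d0d41804025390648019050100507414590741020014102106005044651d0440d140051d030951d0440cc00342904260140640d1d0940804025390248019010100503404590340020014002102005004651d003fd140051cff0951d003fcc0034190026014063fd1d053f80402244fe47018fd01004ff3f458ff3f020013f020fe004fc46,
  nat_lit 0xb8154740446919584aca52bd6b00118575a400461589c48d185502d2045d1803015164502c17455500101434210acab4f04947514530100844cdd180451235049112e0a009445282c45110524440543c1d5b5f97b5c4360d51143d45130110e160090d2e0240243540314350c4a0042128ca80dd0c4f0143542c54000091f210001f42938010114f5f52207d351d5952d0e0014253109420212959d82601531f4014212c0142107091ed0941d29085417d5fd762712841d24034390826,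
  nat_lit 0x208014b0cd7c0480b0112d4b190820052c05064054b141634b12b634b4024a9880600129610353c0cc6b58129600254a32cd31c1285f4b86d49c70b72fd440192849d781f0704601927499752d0052526499254911c0d01124500dc0148d083b00522334f4b82c0a8009225c0fc1506132009215b48921480dd74009200b0680047c901a07c380dc0447ce8a42bd350c4024796d2100d1d194751c080bcad5204f51d4f4751c5a0d4ba18d4e4711b2f4700046864005311a14180b75f9320051a594691901,
  nat_lit 0x17904c0c0154250591733d4ff2d000501bcb000540560680550140b35013f63504024f988060013d610345d37d912c13d60024300b8d42d53c6e04cb34ec4877428970193c4ed00570b94b0193b4e9b40f00539264e9394e11d3e011380e22c014dd082c0053604241031c06f009366a510271404f009356c4d9354d0dd67009346b138004cc804f0600e4e4084cda8684108e22c084c9a4034d131094c9302e0040722d016f16468014a931d4f1112f674c8080484a52d2e665f80c021314bd2e654bd2e4b4f9304bd2d4a,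
  nat_lit 0x32401550cce10480b0115555191b300554050640555140c455153525540254988060015161035640e0bc3055179024904d5ef69d5078558be53c71b443d8c0195053ddc2f0b98c0194f539d9550054d265394d5311c0d0114c5020c0152d08870054a04615086b4d00094a75614270a02b009497452949520dcc6009480b04c0051c90100758320c0451dccc43fd7d1f4025196d4900d451951544081ecfd640a5644b351544725f5192ccb251143715100050864002c142142c1164347e00542705094101,
  nat_lit 0xa204c0c0156a5a600c083a0d428005a1fd070056856068055a141dd5a167525a40259988060016561034a94bd07769657e024300b8ec73d645f04cfd58c35a246ce10196458df4a30b97301963589b40e0056126589615811d66011600e3740157c882c0055e043691466c970095e7c5b0272709b0095d6c0115d571ed990095c0b2680056c80955715b0323c04568115c009596201000561840672d1866091561e95b0241325d9455d985214d56023a00c0215955d566555d56554f95855d554a,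
  nat_lit 0xbb0457f223b8115f811806057d625f4005f0c80e77c3d644055f219820157b504b0025e9083600979335e9795e0c92c8b0d6015795e2142f0c4bb015785dd757e0017626034045d940d100575222c4015d0ccce25c9a6cc025d211ba4cd3b380025cdbd745cd7218288025c82cd90017124739336d00b0157183279ac3140b01170825c8035bca96f5b805b10440d5c96f5b995c354d120216e5b5756f5b56c3e5c16f5b1290e0156b0470d287cdab0096b8123c8e2ecbc0096a575a96901,
  nat_lit 0x166158087]
theorem S0_c : blocks (facts 9 3 12 21 511 4095 2097151 10 1023 8 255 A R 32) 32 JS0 446 = true := by decide +kernel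
theorem S0 : On (Step.{u} Rm' LW par A) 446 862 :=
  steps_of_blocks hpar hR S0_c (by decide +kernel)
theorem D0_c : allB (defOK 9 12 21 511 2097151 447 A K) 2 2 = true := by decide +kernel
theorem D0 : On (fun r => defOK par.W par.WL par.E par.mW par.mE 447 A K r = true) 256 512 :=
  On.of_allB D0_c
noncomputable def JW0 : List ℕ := [nat_lit 0x3206452764d30b94ac7d95b2c48ac7658b3a67308121a464625060da614a70b064a4964d279944a154ac959a4ad66d142514ae96acf1ff2a354c13548c4b582acde745c552c3184c748d8c3983b2e5aeb7e54add5b31bd64a2b5cab8563c77516c424ac8c908c498acab5eebfd98afd5f321d74c1c60ac0573c8f89929d91b2965b24990cb3676cdd99ca49612dd9ec2e64ecd65a4b98bcc3597c6e8eccf988caa90d23a5d4a69652da5c4bc,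
  nat_lit 0x28e8822ed4828d580af62c98757cac1591bb55d139dc3ca79e55ccbac356a5562eac460cc223946a922b716dacd8da96634ad85ad19911c234a893c60a5641e8851404381ab9171c7559eae638ae05aab7941c61594b19641d18a6ad0b4aaf56c9bd409435110f58a49491520a4bafc5f6bb642a19902be17b47e46685d1221f36f02d1e41049452513b0460723577a79912c017aafe5271e5752e65d07a53ba841d29fe1da9c88030d55287,
  nat_lit 0x1e13b22b4b2be77d27986f9913ca9d935a741df0d534a851aaa261fb7b1b63a0750cf4f6a009da7e872a7622a95112a78438bd1841545ab1c63d2624da394848dc91a4183304923a4b28a93117411460e89169277364f8a03984c09747ec294bc9412924e6e507931a5585a315320c66e2db8640ca64927e4e31b53328d8cb2a940fc98bcaf958ce1009ee3e06c0729f27f87fc2d9347e0a894baa10f3126212a70a6aad5604a68613027048,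
  nat_lit 0x1582b4550ab14d8d0b6968c6b8550892d0a384a84c53b6b17c301b420e4201ed03c0307cd04200420891c1714735a716a30463598b38e5c64596b5233bde392704968617aef64e715f172736292ba8aa5bd39bab2b65a0b514f4dc9c13390986641c9e9421ae4de402fa5e320d06a16416f090a40541289514bcc81e86d1021e0cf024d59b80ca6d9e4a3d82a5f51aa3e28ce85cf1482952218148b5e69b63c47b5d8bb8f1c7c5d6bd23fbee,
  nat_lit 0x9d6d4dbc6236c1b03686a0d619a371bb8de1c0dd18b318932c68fd9ef3e83dde21f63f27c4c70e17ee6bcca9b1364f1c733761c4391bcbfd40645441a047f27f82f92f3fa161a385a0b8d108c93172e4d49c44352ca5042a9a096d443b07869c159a10520a811c313460bc18028b4b6801903334851f1115035a88e24c5e0ba09e2cd58abc8a867e2bbb9310ed8c318c342f2cdd16b36a694dc84179a6f0c919431e641ddac2577160c2a7d,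
  nat_lit 0x1472f65f09097e2b8e9caf1607491f63d2f05e4f88f01dd2ee2adf29d63b0d98b09da6c4d94560ae160599d31622c8ea5f41ea33240df5bec3ce38cd9be04d09a933105862de8780ec1dcdf53d2714eae2a1b8866b2d584408a132d91b38b816d04d1b11f4688e917c147609020b92671c4889239123ae69cf944738549d013f746541c91302584b9ca9132784e8759334a2971c042484e9892d89f850874638fb1f82847f0d26e02fdb98d0,
  nat_lit 0x1ae7786b5e29a31ce3e07b0f46fefe1011290e6fec2c875100209a91182344508b10d0aed41ab8846a818c3a0700e4d31a506c0d01a8370926b01ddad890340624b699e77e691e09a60fa674c9bbd330668c59592e2edcc23b414cd78510a46c20fc3687a0f81fa32c625a0b49e91c838a1c495bd537c701cb05d384f60e9095306f6dee1cf2c62bde83aa2e05b0b73ad20ce25c3108214821051a740d0050d2110d2856039aa780f0c359a8,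
  nat_lit 0x1bf3882048b9c67ba74c549753a8574bc980304ec8eb9dc30225cef3631362a05508f2ce5e0bb17475efb4f59ac1ea7b04c09a1282584691c71e4789038c2a65e9d89252e6e4c8d92825443c893881dae2c880d31f4e04528f3138d7c4f0a06b836478b87208e106e8f9200409c11f83ea404cdbf5]
theorem W0_c : blocks (rows 9 3 12 21 511 4095 2097151 11 2047 55 A 862 192 cols 25) 25 JW0 0 = true := by decide +kernel
theorem W0 : On (Row.{u} Rm' LW par A 862 192 cols) 0 200 :=
  rows_of_blocks hpar (by decide) hcols W0_c (by decide +kernel)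
theorem idx : Idx.{u} Rm' [[0], [2], [4], [6], [8]] [] 192 :=
  idx_of_cert hpar hR (K := K) (by decide +kernel) (T := 447) (T' := 512) (by decide) D0
    (subs := []) (by decide +kernel) (T1 := 446) (by decide) (N := 862) S0
    (by decide) (n' := 200) (by decide) W0 (by decide +kernel) (by decide +kernel)
end m
namespace d
noncomputable def A_0 : List (ℕ) := [nat_lit 0x480000700000c0000140000200000300000200]
noncomputable def A : List (List (ℕ)) := [A_0]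
noncomputable def K_0 : List (ℕ) := [nat_lit 0x0]
noncomputable def K : List (List (ℕ)) := [K_0]
noncomputable def R_0 : List (Rule) := [Rule.mk (nat_lit 7) (nat_lit 38) (Steps.fwd (nat_lit 2560) (Steps.bwd (nat_lit 1) (Steps.fwd (nat_lit 1536) (Steps.fwd (nat_lit 512) Steps.nil)))) (nat_lit 32) (nat_lit 1),
  Rule.mk (nat_lit 9) (nat_lit 38) (Steps.fwd (nat_lit 2560) (Steps.bwd (nat_lit 1) (Steps.fwd (nat_lit 2048) (Steps.fwd (nat_lit 512) Steps.nil)))) (nat_lit 34) (nat_lit 1)]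
noncomputable def R : List (List (Rule)) := [R_0]
def LW : List Word := [[], [0], [1], [2], [4], [6], [8], [10], [11], [12], [13], [0], [1], [2], [3], [4], [5], [6], [7], [8], [9]]
def par : Par := ⟨9, 5, 14, 23, 511, 16383, 8388607⟩
theorem hpar : par.ok := by decide
theorem hR0_0 : lall (R) (fun l => lall l (ruleOK Rd' LW par)) = true := by decide +kernel
theorem hR0 : lall (R) (fun l => lall l (ruleOK Rd' LW par)) = true := hR0_0
theorem hR : RulesOK Rd' LW par R := rulesOK_of rfl hR0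
def cols : List (ℕ × ℕ) := [(512, 2), (1536, 3), (2048, 4), (2560, 5), (3072, 6), (3584, 8), (4608, 10)]
theorem hcols : lall cols (colOK Rd' LW par) = true := by decide +kernel
noncomputable def JS0 : List ℕ := [nat_lit 0x280c0a028080302005]
theorem S0_c : blocks (facts 9 5 14 23 511 16383 8388607 9 511 2 3 A R 32) 32 JS0 260 = true := by decide +kernel
theorem S0 : On (Step.{u} Rd' LW par A) 260 292 :=
  steps_of_blocks hpar hR S0_c (by decide +kernel)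
noncomputable def JW0 : List ℕ := [nat_lit 0x3c0f8401084411848]
theorem W0_c : blocks (rows 9 5 14 23 511 16383 8388607 10 1023 70 A 292 1 cols 18) 18 JW0 0 = true := by decide +kernel
theorem W0 : On (Row.{u} Rd' LW par A 292 1 cols) 0 18 :=
  rows_of_blocks hpar (by decide) hcols W0_c (by decide +kernel)
theorem idx : Idx.{u} Rd' [[0], [2], [4], [6], [8], [10], [12]] [[0], [2], [4], [6], [8]] 1 :=
  idx_of_cert hpar hR (K := K) (by decide +kernel) (T := 256) (T' := 256) (by decide) (fun _ h1 h2 => absurd h2 (Nat.not_lt.2 h1))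
    (subs := [1,3,4,5,6]) (by decide +kernel) (T1 := 260) (by decide) (N := 292) S0
    (by decide) (n' := 18) (by decide) W0 (by decide +kernel) (by decide +kernel)
end d
namespace f
noncomputable def A_0 : List (ℕ) := [nat_lit 0x10203c2038783c50f02c21e0b1c301838582c40b0586160a982c1628582a20b05cc180c103018186030a10060a180c08101710604041008062010043e2028801811005c81f0e8c3e17507c2e90f87501f0e9c3e1f287c2a30b8550170a9c2e17285c3a40a8754150ea42a1528543a50e834c0e06b81c0f703420d0803da0e07101c0e18381c90703901007141c0e100c1a20704121008102010184020107840a100204200f203c1a30783d20f06a01e0d383c1e50783480d06a41a0d28340ab04818c0505301406581412b03018806030c0c0650280c703018a060308020510181470502880a050c140a08241450500820a0290120918240aa04815209049c120928240a302814e0502940a0c303018906030e0c05b8180268301040602c60c06141808603008402010c0402240804381006e02001a04018c0804281010604020e0804241008681c02d04020a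08039c0e07301c0e50380d80705ac0e0b201c0e90382cc0b05a4160b382c04e0582ca0b019c0603300c0650180c80301a40602300804901008e02012c020058080450100860200a40201300402500804601009c0200480000700000c00001400002000003000002002c94c25b118c94b2498165f2604be5f318cc6a309858622990bc652198cc32c19ca5a2d386655692cc442494424924949a4d515cb0c1813865232049e57312c9612b1594502a08b85d313c9e12914982d2814bc5c70d0bcc1c9a1c4221303a4608ec62c190dc24521948e4410888a5209042212404664708c8641120e02281a14763b088c745198cd61611144c266890485140a181013a84a2368844a51088560d1f10542928f454e178e5c1717186c3d0864586200f041c20145e3010507e6178bc21416946c36086c6a5158ada1e0a30341a28482460e07061b0d9c3213584432508845a050f043a16101c30910080c1f0f84181708202a10387420b071c2010303c1e1020342030324140a3024121010142010630080460201030381da0105b00603680004400805600,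
  nat_lit 0x1c08864841109072211181e220c88383110905220e844422a4744519043ec229054331d248a45391470422894445209c82415874644208cd44123b0904860808e4241206481918902609208e61991ce4710308e47191c481238d12321c1c64326054703190d1432191c703828c87691c0e18171da8703458cc7681a0ece340b2c683320d06831a09c4341d30763b60607441d8ec63b0c30743a38e87431d08843a1308663318cc6671988862611204c24508848d110912221338442160884c8110356221418442120884c61209582607ac4c25209850a130a1226141c4824588c5081203962411904824189050d1409c828140c502760a04e91289cc2313b84e27189c4e71384182711944e23388c1cc1188c62310a84621488c4ad11895c21128c422130944a81283d825109c423038f87c91f0c103e1f18523d10f85451f06423e20347c1d70f85c31f0a4e351e90522a08a42ee148a52291a9c523968a45e3148444291e1c543918a8542088f4c2a1e20542a48a82ae150fce2e1c88363908d85a61c8b1039161c722e50e45c91c8b88391714722e08b47e81707da2e1eb85c1308b87a8158f523d0fb87a4018f45681e8b143f16247e2c18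f058d1e061a2c1610583f28b05621604822c1e24783c68607841e0acc3c1814784010f0807168bc84017a8802f49005e81b0b4e400eb4801c1100609180fda301834403020c07e3180d4c301788603f08d47e41f881a3f0d047e2f70546c8178b5a2b1b285a3648b43cd168b482d158c5a1310b46ae1b0d9c161b106c3518d82ce1a8d52351a906a1a10d4242158ac82b15a4561440483890a068c140e282812405026e0a019a140a10281318503850a0498140d1c381a6048344090694120cb8341a407024a0d025a1a0c8c341218440ad09045c120e34360a687038c0e07081c0da8361b68283660986d0190db0361b206c2650d84d21303382613204c22809844e130cac2619304432c088648110ca83209706422908878c1d0f103c1e18782ca0f05921e,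
  nat_lit 0x2d90b25a1964b222c96ce622da0c460516cc092d971a5b2db4685b60d4b832d930c5b2514b660116c9492612845f2608944c4928c0625179a4a1c3894612128ac32513904a271c94295928c042f9802632614c050698076e301406603220c064398078b30160e4c2630544c218c98e2b0c9c4c25b0985e1930b082617c64f2fa0ae3c617cae82f93da5f1d38be63297cc2a3198c65331a09663392c7cc3199da63322cc641718cc2824984461309c92457184a6d3099c6611eb0c2535168ba72994d25a2ea0a6533194d022996025322b4a62e614ca8b2993ca5332a8aa65393c9e73299966532a4aa621194bc13291da652bb8ca3f6194ba53295c6653328d05e3998b0e33199268331cbc663170962331582662434cc3f5998a853319d24f2aa0ce40619c9e933954e6720b4ce68599ca26339588672684ce55119cb482894445a2d1ca25a1124aa62d17165a1b30b45c2168aac2b1344552894aa2f61549232a9a085518b4aa625190c49321886683118b05e1188a8d31119c621eacc44e2988baa2897525128b49a51710ca232694585216b0a252214492b1492544b24b8ba4b51246ee24934c4926a4ae4e21349ab1593964d21b89a5811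a09ca2c1392582438b0572160c852c15d85829349c4e31909c12817424e22389c2b5938d0d32191a4232307c4b2190a83321482642b84b85758c08ee2b92ca572a04ae4b197462e258a984b2b1ca4523958ac62a1592501934ac2f5958b852b1410542a20a0525150a492a151c462a305c5d2150bab1c8dda5d2f2cba5009749ee1d13c85027b0a02c613ca0629111a523414a43b694058b281710682e1cd05e5170bc92e0d965c3418bc38697880b341084272104683b310888a21111242232084463908624211186422314844161088ca24118c3423303e4561186e42312144611848c2108c4626228c424121a8624348c4627188dc6311b94621560c48261b91d2371b9c6e1760dc6ec1c11d43712846e1e610c867219116431d188644210c863218a0243,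
  nat_lit 0x17d45919b8b26131649a82c8d58592fa4b24d3964b4d2c96d659]
noncomputable def A : List (List (ℕ)) := [A_0]
noncomputable def K_0 : List (ℕ) := [nat_lit 0x148ae576bd53b0d66c164b15269d4ab356ecf55a9542b54fafd32b14ba6d52ad63a8d96af3f9f51a8342a1d1e812792cbe55289d4e6593ca248a433b9c4f68b26924ae4729904b65d3499cda6335994de611489c5e211c8dc7a33158945a231f8d476310e86c3e190781c2a13058242e1106814060000]
noncomputable def K : List (List (ℕ)) := [K_0]
noncomputable def R_0 : List (Rule) := [Rule.mk (nat_lit 7) (nat_lit 42) (Steps.bwd (nat_lit 11) (Steps.fwd (nat_lit 2560) (Steps.fwd (nat_lit 5632) Steps.nil))) (nat_lit 38) (nat_lit 0),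
  Rule.mk (nat_lit 3) (nat_lit 42) (Steps.bwd (nat_lit 11) (Steps.fwd (nat_lit 1536) (Steps.fwd (nat_lit 5632) Steps.nil))) (nat_lit 42) (nat_lit 0),
  Rule.mk (nat_lit 5) (nat_lit 53) (Steps.bwd (nat_lit 7) (Steps.bwd (nat_lit 11) (Steps.bwd (nat_lit 7) (Steps.fwd (nat_lit 5632) Steps.nil)))) (nat_lit 40) (nat_lit 4),
  Rule.mk (nat_lit 6) (nat_lit 53) (Steps.fwd (nat_lit 2560) (Steps.bwd (nat_lit 11) (Steps.bwd (nat_lit 9) (Steps.fwd (nat_lit 5632) Steps.nil)))) (nat_lit 46) (nat_lit 4),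
  Rule.mk (nat_lit 9) (nat_lit 75) (Steps.bwd (nat_lit 11) (Steps.fwd (nat_lit 3072) (Steps.fwd (nat_lit 5632) (Steps.fwd (nat_lit 2560) (Steps.fwd (nat_lit 3072) (Steps.bwd (nat_lit 7) Steps.nil)))))) (nat_lit 48) (nat_lit 0),
  Rule.mk (nat_lit 3) (nat_lit 42) (Steps.bwd (nat_lit 4) (Steps.fwd (nat_lit 1536) (Steps.fwd (nat_lit 2048) Steps.nil))) (nat_lit 14) (nat_lit 1),
  Rule.mk (nat_lit 5) (nat_lit 42) (Steps.bwd (nat_lit 4) (Steps.fwd (nat_lit 2560) (Steps.fwd (nat_lit 2048) Steps.nil))) (nat_lit 20) (nat_lit 0),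
  Rule.mk (nat_lit 11) (nat_lit 42) (Steps.bwd (nat_lit 4) (Steps.bwd (nat_lit 11) (Steps.fwd (nat_lit 2048) Steps.nil))) (nat_lit 44) (nat_lit 0),
  Rule.mk (nat_lit 11) (nat_lit 31) (Steps.bwd (nat_lit 11) (Steps.bwd (nat_lit 11) Steps.nil)) (nat_lit 36) (nat_lit 0),
  Rule.mk (nat_lit 7) (nat_lit 53) (Steps.fwd (nat_lit 5632) (Steps.fwd (nat_lit 2560) (Steps.bwd (nat_lit 7) (Steps.bwd (nat_lit 11) Steps.nil)))) (nat_lit 40) (nat_lit 2),
  Rule.mk (nat_lit 9) (nat_lit 53) (Steps.fwd (nat_lit 5632) (Steps.fwd (nat_lit 3072) (Steps.fwd (nat_lit 2560) (Steps.bwd (nat_lit 11) Steps.nil)))) (nat_lit 46) (nat_lit 2),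
  Rule.mk (nat_lit 6) (nat_lit 75) (Steps.fwd (nat_lit 5632) (Steps.fwd (nat_lit 2560) (Steps.fwd (nat_lit 3072) (Steps.bwd (nat_lit 7) (Steps.bwd (nat_lit 9) (Steps.bwd (nat_lit 11) Steps.nil)))))) (nat_lit 48) (nat_lit 2),
  Rule.mk (nat_lit 9) (nat_lit 42) (Steps.bwd (nat_lit 13) (Steps.fwd (nat_lit 2560) (Steps.fwd (nat_lit 6656) Steps.nil))) (nat_lit 52) (nat_lit 0),
  Rule.mk (nat_lit 4) (nat_lit 42) (Steps.bwd (nat_lit 13) (Steps.fwd (nat_lit 2048) (Steps.fwd (nat_lit 6656) Steps.nil))) (nat_lit 56) (nat_lit 0),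
  Rule.mk (nat_lit 5) (nat_lit 53) (Steps.bwd (nat_lit 9) (Steps.bwd (nat_lit 13) (Steps.bwd (nat_lit 9) (Steps.fwd (nat_lit 6656) Steps.nil)))) (nat_lit 54) (nat_lit 4),
  Rule.mk (nat_lit 6) (nat_lit 64) (Steps.bwd (nat_lit 13) (Steps.bwd (nat_lit 7) (Steps.bwd (nat_lit 9) (Steps.fwd (nat_lit 2560) (Steps.fwd (nat_lit 6656) Steps.nil))))) (nat_lit 60) (nat_lit 0),
  Rule.mk (nat_lit 7) (nat_lit 75) (Steps.bwd (nat_lit 9) (Steps.bwd (nat_lit 13) (Steps.fwd (nat_lit 3072) (Steps.fwd (nat_lit 6656) (Steps.fwd (nat_lit 2560) (Steps.fwd (nat_lit 3072) Steps.nil)))))) (nat_lit 62) (nat_lit 6),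
  Rule.mk (nat_lit 5) (nat_lit 42) (Steps.bwd (nat_lit 12) (Steps.bwd (nat_lit 7) (Steps.fwd (nat_lit 6144) Steps.nil))) (nat_lit 38) (nat_lit 2),
  Rule.mk (nat_lit 14) (nat_lit 42) (Steps.bwd (nat_lit 12) (Steps.bwd (nat_lit 13) (Steps.bwd (nat_lit 11) Steps.nil))) (nat_lit 65) (nat_lit 3),
  Rule.mk (nat_lit 7) (nat_lit 53) (Steps.bwd (nat_lit 12) (Steps.fwd (nat_lit 2560) (Steps.bwd (nat_lit 7) (Steps.fwd (nat_lit 6144) Steps.nil)))) (nat_lit 40) (nat_lit 2),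
  Rule.mk (nat_lit 9) (nat_lit 53) (Steps.bwd (nat_lit 12) (Steps.fwd (nat_lit 3072) (Steps.fwd (nat_lit 2560) (Steps.fwd (nat_lit 6144) Steps.nil)))) (nat_lit 46) (nat_lit 2),
  Rule.mk (nat_lit 6) (nat_lit 75) (Steps.bwd (nat_lit 12) (Steps.fwd (nat_lit 2560) (Steps.fwd (nat_lit 3072) (Steps.bwd (nat_lit 7) (Steps.bwd (nat_lit 9) (Steps.fwd (nat_lit 6144) Steps.nil)))))) (nat_lit 48) (nat_lit 2),
  Rule.mk (nat_lit 4) (nat_lit 42) (Steps.bwd (nat_lit 13) (Steps.fwd (nat_lit 2048) (Steps.bwd (nat_lit 14) Steps.nil))) (nat_lit 56) (nat_lit 0),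
  Rule.mk (nat_lit 11) (nat_lit 42) (Steps.bwd (nat_lit 13) (Steps.fwd (nat_lit 5632) (Steps.bwd (nat_lit 14) Steps.nil))) (nat_lit 64) (nat_lit 1),
  Rule.mk (nat_lit 12) (nat_lit 42) (Steps.bwd (nat_lit 13) (Steps.bwd (nat_lit 11) (Steps.fwd (nat_lit 6656) Steps.nil))) (nat_lit 65) (nat_lit 0),
  Rule.mk (nat_lit 5) (nat_lit 42) (Steps.bwd (nat_lit 3) (Steps.fwd (nat_lit 2560) (Steps.fwd (nat_lit 1536) Steps.nil))) (nat_lit 18) (nat_lit 0),
  Rule.mk (nat_lit 13) (nat_lit 42) (Steps.bwd (nat_lit 3) (Steps.bwd (nat_lit 13) (Steps.fwd (nat_lit 1536) Steps.nil))) (nat_lit 58) (nat_lit 0),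
  Rule.mk (nat_lit 13) (nat_lit 31) (Steps.bwd (nat_lit 13) (Steps.bwd (nat_lit 13) Steps.nil)) (nat_lit 50) (nat_lit 0),
  Rule.mk (nat_lit 9) (nat_lit 53) (Steps.fwd (nat_lit 6656) (Steps.fwd (nat_lit 2560) (Steps.bwd (nat_lit 9) (Steps.bwd (nat_lit 13) Steps.nil)))) (nat_lit 54) (nat_lit 2),
  Rule.mk (nat_lit 7) (nat_lit 64) (Steps.bwd (nat_lit 9) (Steps.fwd (nat_lit 2560) (Steps.fwd (nat_lit 6656) (Steps.fwd (nat_lit 3072) (Steps.bwd (nat_lit 13) Steps.nil))))) (nat_lit 60) (nat_lit 2),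
  Rule.mk (nat_lit 6) (nat_lit 75) (Steps.fwd (nat_lit 6656) (Steps.fwd (nat_lit 2560) (Steps.fwd (nat_lit 3072) (Steps.bwd (nat_lit 7) (Steps.bwd (nat_lit 9) (Steps.bwd (nat_lit 13) Steps.nil)))))) (nat_lit 62) (nat_lit 2),
  Rule.mk (nat_lit 3) (nat_lit 42) (Steps.bwd (nat_lit 12) (Steps.bwd (nat_lit 3) (Steps.fwd (nat_lit 6144) Steps.nil))) (nat_lit 42) (nat_lit 2),
  Rule.mk (nat_lit 13) (nat_lit 42) (Steps.bwd (nat_lit 12) (Steps.fwd (nat_lit 6656) (Steps.bwd (nat_lit 11) Steps.nil))) (nat_lit 64) (nat_lit 2),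
  Rule.mk (nat_lit 14) (nat_lit 42) (Steps.bwd (nat_lit 12) (Steps.bwd (nat_lit 13) (Steps.fwd (nat_lit 6144) Steps.nil))) (nat_lit 65) (nat_lit 3),
  Rule.mk (nat_lit 4) (nat_lit 42) (Steps.fwd (nat_lit 7168) (Steps.fwd (nat_lit 2048) (Steps.bwd (nat_lit 14) Steps.nil))) (nat_lit 56) (nat_lit 0),
  Rule.mk (nat_lit 12) (nat_lit 31) (Steps.bwd (nat_lit 12) (Steps.bwd (nat_lit 12) Steps.nil)) (nat_lit 37) (nat_lit 0),
  Rule.mk (nat_lit 3) (nat_lit 42) (Steps.bwd (nat_lit 12) (Steps.fwd (nat_lit 1536) (Steps.fwd (nat_lit 6144) Steps.nil))) (nat_lit 42) (nat_lit 2),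
  Rule.mk (nat_lit 4) (nat_lit 42) (Steps.bwd (nat_lit 12) (Steps.fwd (nat_lit 2048) (Steps.bwd (nat_lit 12) Steps.nil))) (nat_lit 45) (nat_lit 0),
  Rule.mk (nat_lit 14) (nat_lit 42) (Steps.bwd (nat_lit 12) (Steps.fwd (nat_lit 7168) (Steps.fwd (nat_lit 6144) Steps.nil))) (nat_lit 65) (nat_lit 3),
  Rule.mk (nat_lit 5) (nat_lit 42) (Steps.bwd (nat_lit 1) (Steps.fwd (nat_lit 2560) (Steps.fwd (nat_lit 512) Steps.nil))) (nat_lit 8) (nat_lit 0),
  Rule.mk (nat_lit 7) (nat_lit 53) (Steps.fwd (nat_lit 2560) (Steps.bwd (nat_lit 1) (Steps.fwd (nat_lit 1536) (Steps.fwd (nat_lit 512) Steps.nil)))) (nat_lit 32) (nat_lit 1),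
  Rule.mk (nat_lit 3) (nat_lit 64) (Steps.bwd (nat_lit 1) (Steps.fwd (nat_lit 3072) (Steps.fwd (nat_lit 1536) (Steps.fwd (nat_lit 3072) (Steps.fwd (nat_lit 512) Steps.nil))))) (nat_lit 28) (nat_lit 5),
  Rule.mk (nat_lit 9) (nat_lit 53) (Steps.fwd (nat_lit 2560) (Steps.bwd (nat_lit 1) (Steps.bwd (nat_lit 4) (Steps.fwd (nat_lit 512) Steps.nil)))) (nat_lit 34) (nat_lit 1),
  Rule.mk (nat_lit 10) (nat_lit 53) (Steps.bwd (nat_lit 1) (Steps.bwd (nat_lit 4) (Steps.fwd (nat_lit 512) (Steps.fwd (nat_lit 2560) Steps.nil)))) (nat_lit 35) (nat_lit 0),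
  Rule.mk (nat_lit 4) (nat_lit 64) (Steps.bwd (nat_lit 1) (Steps.fwd (nat_lit 3072) (Steps.bwd (nat_lit 4) (Steps.fwd (nat_lit 3072) (Steps.fwd (nat_lit 512) Steps.nil))))) (nat_lit 30) (nat_lit 5),
  Rule.mk (nat_lit 1) (nat_lit 42) (Steps.bwd (nat_lit 6) (Steps.bwd (nat_lit 1) (Steps.fwd (nat_lit 3072) Steps.nil))) (nat_lit 24) (nat_lit 0),
  Rule.mk (nat_lit 5) (nat_lit 42) (Steps.bwd (nat_lit 6) (Steps.fwd (nat_lit 2560) (Steps.fwd (nat_lit 3072) Steps.nil))) (nat_lit 26) (nat_lit 0),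
  Rule.mk (nat_lit 1) (nat_lit 31) (Steps.bwd (nat_lit 1) (Steps.bwd (nat_lit 1) Steps.nil)) (nat_lit 0) (nat_lit 0),
  Rule.mk (nat_lit 3) (nat_lit 53) (Steps.fwd (nat_lit 512) (Steps.bwd (nat_lit 7) (Steps.fwd (nat_lit 2560) (Steps.bwd (nat_lit 1) Steps.nil)))) (nat_lit 32) (nat_lit 4),
  Rule.mk (nat_lit 4) (nat_lit 53) (Steps.fwd (nat_lit 512) (Steps.bwd (nat_lit 9) (Steps.fwd (nat_lit 2560) (Steps.bwd (nat_lit 1) Steps.nil)))) (nat_lit 34) (nat_lit 4),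
  Rule.mk (nat_lit 2) (nat_lit 53) (Steps.bwd (nat_lit 9) (Steps.fwd (nat_lit 2560) (Steps.bwd (nat_lit 1) (Steps.fwd (nat_lit 2048) Steps.nil)))) (nat_lit 34) (nat_lit 0),
  Rule.mk (nat_lit 2) (nat_lit 31) (Steps.fwd (nat_lit 512) (Steps.bwd (nat_lit 2) Steps.nil)) (nat_lit 1) (nat_lit 0),
  Rule.mk (nat_lit 5) (nat_lit 42) (Steps.fwd (nat_lit 1024) (Steps.fwd (nat_lit 2560) (Steps.bwd (nat_lit 2) Steps.nil))) (nat_lit 8) (nat_lit 0),
  Rule.mk (nat_lit 7) (nat_lit 53) (Steps.fwd (nat_lit 2560) (Steps.fwd (nat_lit 1024) (Steps.fwd (nat_lit 1536) (Steps.bwd (nat_lit 2) Steps.nil)))) (nat_lit 32) (nat_lit 1),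
  Rule.mk (nat_lit 10) (nat_lit 53) (Steps.bwd (nat_lit 1) (Steps.fwd (nat_lit 2048) (Steps.bwd (nat_lit 2) (Steps.fwd (nat_lit 2560) Steps.nil)))) (nat_lit 35) (nat_lit 0),
  Rule.mk (nat_lit 3) (nat_lit 75) (Steps.fwd (nat_lit 2560) (Steps.bwd (nat_lit 2) (Steps.fwd (nat_lit 1536) (Steps.fwd (nat_lit 512) (Steps.fwd (nat_lit 1536) (Steps.bwd (nat_lit 2) Steps.nil)))))) (nat_lit 11) (nat_lit 0),
  Rule.mk (nat_lit 4) (nat_lit 75) (Steps.fwd (nat_lit 2560) (Steps.bwd (nat_lit 2) (Steps.fwd (nat_lit 2048) (Steps.fwd (nat_lit 512) (Steps.fwd (nat_lit 2048) (Steps.bwd (nat_lit 2) Steps.nil)))))) (nat_lit 13) (nat_lit 0),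
  Rule.mk (nat_lit 11) (nat_lit 97) (Steps.fwd (nat_lit 2560) (Steps.bwd (nat_lit 2) (Steps.bwd (nat_lit 11) (Steps.fwd (nat_lit 2560) (Steps.fwd (nat_lit 512) (Steps.bwd (nat_lit 11) (Steps.fwd (nat_lit 2560) (Steps.fwd (nat_lit 512) Steps.nil)))))))) (nat_lit 66) (nat_lit 0),
  Rule.mk (nat_lit 12) (nat_lit 53) (Steps.bwd (nat_lit 6) (Steps.fwd (nat_lit 2560) (Steps.bwd (nat_lit 11) (Steps.bwd (nat_lit 9) Steps.nil)))) (nat_lit 46) (nat_lit 3),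
  Rule.mk (nat_lit 6) (nat_lit 75) (Steps.fwd (nat_lit 5632) (Steps.bwd (nat_lit 10) (Steps.fwd (nat_lit 3584) (Steps.bwd (nat_lit 6) (Steps.fwd (nat_lit 2560) (Steps.bwd (nat_lit 11) Steps.nil)))))) (nat_lit 49) (nat_lit 6),
  Rule.mk (nat_lit 11) (nat_lit 53) (Steps.fwd (nat_lit 5120) (Steps.fwd (nat_lit 5632) (Steps.bwd (nat_lit 6) (Steps.fwd (nat_lit 2560) Steps.nil)))) (nat_lit 46) (nat_lit 1),
  Rule.mk (nat_lit 9) (nat_lit 53) (Steps.fwd (nat_lit 2560) (Steps.bwd (nat_lit 1) (Steps.fwd (nat_lit 2048) (Steps.fwd (nat_lit 512) Steps.nil)))) (nat_lit 34) (nat_lit 1),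
  Rule.mk (nat_lit 4) (nat_lit 64) (Steps.bwd (nat_lit 1) (Steps.fwd (nat_lit 3072) (Steps.fwd (nat_lit 2048) (Steps.fwd (nat_lit 3072) (Steps.fwd (nat_lit 512) Steps.nil))))) (nat_lit 30) (nat_lit 5),
  Rule.mk (nat_lit 8) (nat_lit 53) (Steps.bwd (nat_lit 1) (Steps.fwd (nat_lit 1536) (Steps.fwd (nat_lit 512) (Steps.fwd (nat_lit 2560) Steps.nil)))) (nat_lit 33) (nat_lit 0)]
noncomputable def R_1 : List (Rule) := [Rule.mk (nat_lit 2) (nat_lit 53) (Steps.bwd (nat_lit 7) (Steps.fwd (nat_lit 2560) (Steps.bwd (nat_lit 1) (Steps.fwd (nat_lit 1536) Steps.nil)))) (nat_lit 32) (nat_lit 0),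
  Rule.mk (nat_lit 8) (nat_lit 53) (Steps.bwd (nat_lit 1) (Steps.fwd (nat_lit 1536) (Steps.bwd (nat_lit 2) (Steps.fwd (nat_lit 2560) Steps.nil)))) (nat_lit 33) (nat_lit 0),
  Rule.mk (nat_lit 9) (nat_lit 53) (Steps.fwd (nat_lit 2560) (Steps.fwd (nat_lit 1024) (Steps.fwd (nat_lit 2048) (Steps.bwd (nat_lit 2) Steps.nil)))) (nat_lit 34) (nat_lit 1),
  Rule.mk (nat_lit 3) (nat_lit 75) (Steps.fwd (nat_lit 2560) (Steps.bwd (nat_lit 2) (Steps.bwd (nat_lit 3) (Steps.fwd (nat_lit 512) (Steps.fwd (nat_lit 1536) (Steps.bwd (nat_lit 2) Steps.nil)))))) (nat_lit 11) (nat_lit 0),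
  Rule.mk (nat_lit 13) (nat_lit 97) (Steps.fwd (nat_lit 2560) (Steps.bwd (nat_lit 2) (Steps.bwd (nat_lit 13) (Steps.fwd (nat_lit 2560) (Steps.fwd (nat_lit 512) (Steps.bwd (nat_lit 13) (Steps.fwd (nat_lit 2560) (Steps.fwd (nat_lit 512) Steps.nil)))))))) (nat_lit 68) (nat_lit 0),
  Rule.mk (nat_lit 13) (nat_lit 64) (Steps.fwd (nat_lit 4096) (Steps.bwd (nat_lit 9) (Steps.fwd (nat_lit 2560) (Steps.fwd (nat_lit 6656) (Steps.fwd (nat_lit 3072) Steps.nil))))) (nat_lit 60) (nat_lit 1),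
  Rule.mk (nat_lit 14) (nat_lit 75) (Steps.fwd (nat_lit 4608) (Steps.bwd (nat_lit 8) (Steps.fwd (nat_lit 3072) (Steps.fwd (nat_lit 2560) (Steps.bwd (nat_lit 13) (Steps.bwd (nat_lit 6) Steps.nil)))))) (nat_lit 63) (nat_lit 0),
  Rule.mk (nat_lit 14) (nat_lit 31) (Steps.fwd (nat_lit 6656) (Steps.bwd (nat_lit 14) Steps.nil)) (nat_lit 51) (nat_lit 0),
  Rule.mk (nat_lit 6) (nat_lit 64) (Steps.fwd (nat_lit 7168) (Steps.bwd (nat_lit 7) (Steps.bwd (nat_lit 9) (Steps.fwd (nat_lit 2560) (Steps.bwd (nat_lit 14) Steps.nil))))) (nat_lit 60) (nat_lit 0),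
  Rule.mk (nat_lit 10) (nat_lit 53) (Steps.bwd (nat_lit 1) (Steps.fwd (nat_lit 2048) (Steps.fwd (nat_lit 512) (Steps.fwd (nat_lit 2560) Steps.nil)))) (nat_lit 35) (nat_lit 0),
  Rule.mk (nat_lit 7) (nat_lit 53) (Steps.fwd (nat_lit 2560) (Steps.bwd (nat_lit 1) (Steps.bwd (nat_lit 3) (Steps.fwd (nat_lit 512) Steps.nil)))) (nat_lit 32) (nat_lit 1),
  Rule.mk (nat_lit 8) (nat_lit 53) (Steps.bwd (nat_lit 1) (Steps.bwd (nat_lit 3) (Steps.fwd (nat_lit 512) (Steps.fwd (nat_lit 2560) Steps.nil)))) (nat_lit 33) (nat_lit 0),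
  Rule.mk (nat_lit 3) (nat_lit 64) (Steps.bwd (nat_lit 1) (Steps.fwd (nat_lit 3072) (Steps.bwd (nat_lit 3) (Steps.fwd (nat_lit 3072) (Steps.fwd (nat_lit 512) Steps.nil))))) (nat_lit 28) (nat_lit 5),
  Rule.mk (nat_lit 3) (nat_lit 75) (Steps.fwd (nat_lit 2560) (Steps.bwd (nat_lit 2) (Steps.bwd (nat_lit 3) (Steps.fwd (nat_lit 512) (Steps.bwd (nat_lit 3) (Steps.bwd (nat_lit 2) Steps.nil)))))) (nat_lit 11) (nat_lit 0),
  Rule.mk (nat_lit 4) (nat_lit 75) (Steps.fwd (nat_lit 2560) (Steps.bwd (nat_lit 2) (Steps.bwd (nat_lit 4) (Steps.fwd (nat_lit 512) (Steps.fwd (nat_lit 2048) (Steps.bwd (nat_lit 2) Steps.nil)))))) (nat_lit 13) (nat_lit 0),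
  Rule.mk (nat_lit 6) (nat_lit 42) (Steps.bwd (nat_lit 2) (Steps.fwd (nat_lit 3072) (Steps.fwd (nat_lit 512) Steps.nil))) (nat_lit 25) (nat_lit 0),
  Rule.mk (nat_lit 2) (nat_lit 31) (Steps.bwd (nat_lit 2) (Steps.fwd (nat_lit 512) Steps.nil)) (nat_lit 1) (nat_lit 0),
  Rule.mk (nat_lit 5) (nat_lit 42) (Steps.bwd (nat_lit 2) (Steps.fwd (nat_lit 2560) (Steps.fwd (nat_lit 1024) Steps.nil))) (nat_lit 8) (nat_lit 2),
  Rule.mk (nat_lit 3) (nat_lit 53) (Steps.bwd (nat_lit 2) (Steps.bwd (nat_lit 7) (Steps.fwd (nat_lit 2560) (Steps.fwd (nat_lit 1024) Steps.nil)))) (nat_lit 32) (nat_lit 4),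
  Rule.mk (nat_lit 4) (nat_lit 53) (Steps.bwd (nat_lit 2) (Steps.bwd (nat_lit 9) (Steps.fwd (nat_lit 2560) (Steps.fwd (nat_lit 1024) Steps.nil)))) (nat_lit 34) (nat_lit 4),
  Rule.mk (nat_lit 7) (nat_lit 53) (Steps.fwd (nat_lit 2560) (Steps.fwd (nat_lit 1024) (Steps.bwd (nat_lit 3) (Steps.bwd (nat_lit 2) Steps.nil)))) (nat_lit 32) (nat_lit 1),
  Rule.mk (nat_lit 9) (nat_lit 53) (Steps.fwd (nat_lit 2560) (Steps.bwd (nat_lit 1) (Steps.bwd (nat_lit 4) (Steps.bwd (nat_lit 2) Steps.nil)))) (nat_lit 34) (nat_lit 1),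
  Rule.mk (nat_lit 10) (nat_lit 53) (Steps.bwd (nat_lit 1) (Steps.bwd (nat_lit 4) (Steps.bwd (nat_lit 2) (Steps.fwd (nat_lit 2560) Steps.nil)))) (nat_lit 35) (nat_lit 0),
  Rule.mk (nat_lit 3) (nat_lit 75) (Steps.bwd (nat_lit 1) (Steps.fwd (nat_lit 2560) (Steps.bwd (nat_lit 3) (Steps.bwd (nat_lit 1) (Steps.fwd (nat_lit 1536) (Steps.bwd (nat_lit 1) Steps.nil)))))) (nat_lit 10) (nat_lit 5),
  Rule.mk (nat_lit 4) (nat_lit 75) (Steps.bwd (nat_lit 1) (Steps.fwd (nat_lit 2560) (Steps.bwd (nat_lit 4) (Steps.bwd (nat_lit 1) (Steps.fwd (nat_lit 2048) (Steps.bwd (nat_lit 1) Steps.nil)))))) (nat_lit 12) (nat_lit 5),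
  Rule.mk (nat_lit 6) (nat_lit 42) (Steps.bwd (nat_lit 1) (Steps.fwd (nat_lit 3072) (Steps.bwd (nat_lit 1) Steps.nil))) (nat_lit 24) (nat_lit 1),
  Rule.mk (nat_lit 14) (nat_lit 53) (Steps.bwd (nat_lit 5) (Steps.bwd (nat_lit 9) (Steps.bwd (nat_lit 13) (Steps.bwd (nat_lit 9) Steps.nil)))) (nat_lit 54) (nat_lit 3),
  Rule.mk (nat_lit 10) (nat_lit 53) (Steps.bwd (nat_lit 5) (Steps.bwd (nat_lit 13) (Steps.bwd (nat_lit 10) (Steps.bwd (nat_lit 14) Steps.nil)))) (nat_lit 55) (nat_lit 1),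
  Rule.mk (nat_lit 4) (nat_lit 42) (Steps.bwd (nat_lit 13) (Steps.bwd (nat_lit 4) (Steps.bwd (nat_lit 14) Steps.nil))) (nat_lit 56) (nat_lit 0),
  Rule.mk (nat_lit 12) (nat_lit 42) (Steps.bwd (nat_lit 13) (Steps.bwd (nat_lit 11) (Steps.bwd (nat_lit 14) Steps.nil))) (nat_lit 65) (nat_lit 0),
  Rule.mk (nat_lit 6) (nat_lit 64) (Steps.bwd (nat_lit 13) (Steps.bwd (nat_lit 7) (Steps.bwd (nat_lit 9) (Steps.fwd (nat_lit 2560) (Steps.bwd (nat_lit 14) Steps.nil))))) (nat_lit 60) (nat_lit 0),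
  Rule.mk (nat_lit 11) (nat_lit 31) (Steps.bwd (nat_lit 11) (Steps.fwd (nat_lit 6144) Steps.nil)) (nat_lit 36) (nat_lit 0),
  Rule.mk (nat_lit 7) (nat_lit 42) (Steps.bwd (nat_lit 11) (Steps.fwd (nat_lit 2560) (Steps.bwd (nat_lit 12) Steps.nil))) (nat_lit 38) (nat_lit 0),
  Rule.mk (nat_lit 8) (nat_lit 42) (Steps.bwd (nat_lit 11) (Steps.fwd (nat_lit 2560) (Steps.bwd (nat_lit 12) Steps.nil))) (nat_lit 39) (nat_lit 1),
  Rule.mk (nat_lit 4) (nat_lit 42) (Steps.bwd (nat_lit 11) (Steps.fwd (nat_lit 2048) (Steps.bwd (nat_lit 11) Steps.nil))) (nat_lit 44) (nat_lit 1),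
  Rule.mk (nat_lit 14) (nat_lit 42) (Steps.bwd (nat_lit 11) (Steps.bwd (nat_lit 13) (Steps.fwd (nat_lit 5632) Steps.nil))) (nat_lit 64) (nat_lit 0),
  Rule.mk (nat_lit 9) (nat_lit 75) (Steps.bwd (nat_lit 11) (Steps.fwd (nat_lit 3072) (Steps.bwd (nat_lit 12) (Steps.fwd (nat_lit 2560) (Steps.bwd (nat_lit 6) (Steps.bwd (nat_lit 7) Steps.nil)))))) (nat_lit 48) (nat_lit 0),
  Rule.mk (nat_lit 5) (nat_lit 53) (Steps.bwd (nat_lit 7) (Steps.bwd (nat_lit 11) (Steps.fwd (nat_lit 4096) (Steps.fwd (nat_lit 5632) Steps.nil)))) (nat_lit 40) (nat_lit 4),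
  Rule.mk (nat_lit 4) (nat_lit 42) (Steps.fwd (nat_lit 2560) (Steps.fwd (nat_lit 2048) (Steps.bwd (nat_lit 5) Steps.nil))) (nat_lit 20) (nat_lit 1),
  Rule.mk (nat_lit 12) (nat_lit 42) (Steps.bwd (nat_lit 7) (Steps.bwd (nat_lit 11) (Steps.bwd (nat_lit 5) Steps.nil))) (nat_lit 38) (nat_lit 3),
  Rule.mk (nat_lit 8) (nat_lit 42) (Steps.bwd (nat_lit 11) (Steps.bwd (nat_lit 5) (Steps.bwd (nat_lit 12) Steps.nil))) (nat_lit 39) (nat_lit 1),
  Rule.mk (nat_lit 6) (nat_lit 53) (Steps.bwd (nat_lit 11) (Steps.fwd (nat_lit 4608) (Steps.fwd (nat_lit 5632) (Steps.bwd (nat_lit 5) Steps.nil)))) (nat_lit 47) (nat_lit 2),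
  Rule.mk (nat_lit 13) (nat_lit 53) (Steps.fwd (nat_lit 4608) (Steps.bwd (nat_lit 14) (Steps.fwd (nat_lit 4608) (Steps.bwd (nat_lit 5) Steps.nil)))) (nat_lit 55) (nat_lit 3),
  Rule.mk (nat_lit 10) (nat_lit 53) (Steps.bwd (nat_lit 12) (Steps.fwd (nat_lit 2560) (Steps.fwd (nat_lit 3072) (Steps.fwd (nat_lit 6144) Steps.nil)))) (nat_lit 47) (nat_lit 4),
  Rule.mk (nat_lit 4) (nat_lit 42) (Steps.bwd (nat_lit 3) (Steps.fwd (nat_lit 2048) (Steps.fwd (nat_lit 1536) Steps.nil))) (nat_lit 14) (nat_lit 0),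
  Rule.mk (nat_lit 12) (nat_lit 42) (Steps.bwd (nat_lit 3) (Steps.fwd (nat_lit 6144) (Steps.fwd (nat_lit 1536) Steps.nil))) (nat_lit 42) (nat_lit 3),
  Rule.mk (nat_lit 14) (nat_lit 64) (Steps.bwd (nat_lit 6) (Steps.bwd (nat_lit 13) (Steps.bwd (nat_lit 7) (Steps.fwd (nat_lit 5120) (Steps.bwd (nat_lit 5) Steps.nil))))) (nat_lit 60) (nat_lit 5),
  Rule.mk (nat_lit 13) (nat_lit 75) (Steps.bwd (nat_lit 6) (Steps.fwd (nat_lit 6656) (Steps.fwd (nat_lit 2560) (Steps.bwd (nat_lit 6) (Steps.bwd (nat_lit 7) (Steps.fwd (nat_lit 5120) Steps.nil)))))) (nat_lit 62) (nat_lit 1),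
  Rule.mk (nat_lit 3) (nat_lit 42) (Steps.bwd (nat_lit 13) (Steps.fwd (nat_lit 1536) (Steps.bwd (nat_lit 13) Steps.nil))) (nat_lit 58) (nat_lit 1),
  Rule.mk (nat_lit 3) (nat_lit 42) (Steps.bwd (nat_lit 5) (Steps.bwd (nat_lit 3) (Steps.fwd (nat_lit 2560) Steps.nil))) (nat_lit 18) (nat_lit 1),
  Rule.mk (nat_lit 13) (nat_lit 42) (Steps.bwd (nat_lit 5) (Steps.fwd (nat_lit 6656) (Steps.bwd (nat_lit 9) Steps.nil))) (nat_lit 52) (nat_lit 1),
  Rule.mk (nat_lit 10) (nat_lit 53) (Steps.bwd (nat_lit 5) (Steps.fwd (nat_lit 7168) (Steps.fwd (nat_lit 4608) (Steps.bwd (nat_lit 14) Steps.nil)))) (nat_lit 55) (nat_lit 1),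
  Rule.mk (nat_lit 8) (nat_lit 64) (Steps.fwd (nat_lit 6656) (Steps.bwd (nat_lit 6) (Steps.bwd (nat_lit 13) (Steps.bwd (nat_lit 5) (Steps.bwd (nat_lit 10) Steps.nil))))) (nat_lit 61) (nat_lit 5),
  Rule.mk (nat_lit 14) (nat_lit 75) (Steps.bwd (nat_lit 5) (Steps.bwd (nat_lit 6) (Steps.fwd (nat_lit 4096) (Steps.fwd (nat_lit 5120) (Steps.fwd (nat_lit 7168) (Steps.fwd (nat_lit 3072) Steps.nil)))))) (nat_lit 62) (nat_lit 3),
  Rule.mk (nat_lit 10) (nat_lit 53) (Steps.fwd (nat_lit 2560) (Steps.fwd (nat_lit 7168) (Steps.bwd (nat_lit 10) (Steps.bwd (nat_lit 14) Steps.nil)))) (nat_lit 55) (nat_lit 1),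
  Rule.mk (nat_lit 12) (nat_lit 42) (Steps.fwd (nat_lit 7168) (Steps.fwd (nat_lit 6144) (Steps.bwd (nat_lit 14) Steps.nil))) (nat_lit 65) (nat_lit 0),
  Rule.mk (nat_lit 7) (nat_lit 53) (Steps.fwd (nat_lit 6144) (Steps.fwd (nat_lit 4096) (Steps.bwd (nat_lit 12) (Steps.fwd (nat_lit 2560) Steps.nil)))) (nat_lit 40) (nat_lit 0),
  Rule.mk (nat_lit 3) (nat_lit 42) (Steps.bwd (nat_lit 12) (Steps.fwd (nat_lit 1536) (Steps.bwd (nat_lit 11) Steps.nil))) (nat_lit 42) (nat_lit 2),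
  Rule.mk (nat_lit 4) (nat_lit 42) (Steps.bwd (nat_lit 12) (Steps.bwd (nat_lit 4) (Steps.bwd (nat_lit 12) Steps.nil))) (nat_lit 45) (nat_lit 0),
  Rule.mk (nat_lit 14) (nat_lit 42) (Steps.bwd (nat_lit 12) (Steps.fwd (nat_lit 7168) (Steps.bwd (nat_lit 11) Steps.nil))) (nat_lit 65) (nat_lit 3),
  Rule.mk (nat_lit 8) (nat_lit 53) (Steps.bwd (nat_lit 12) (Steps.bwd (nat_lit 8) (Steps.bwd (nat_lit 5) (Steps.fwd (nat_lit 6144) Steps.nil)))) (nat_lit 41) (nat_lit 4),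
  Rule.mk (nat_lit 10) (nat_lit 53) (Steps.bwd (nat_lit 12) (Steps.bwd (nat_lit 5) (Steps.bwd (nat_lit 6) (Steps.fwd (nat_lit 6144) Steps.nil)))) (nat_lit 47) (nat_lit 4),
  Rule.mk (nat_lit 6) (nat_lit 75) (Steps.bwd (nat_lit 12) (Steps.bwd (nat_lit 5) (Steps.bwd (nat_lit 6) (Steps.fwd (nat_lit 4096) (Steps.fwd (nat_lit 5120) (Steps.fwd (nat_lit 6144) Steps.nil)))))) (nat_lit 48) (nat_lit 2),
  Rule.mk (nat_lit 9) (nat_lit 53) (Steps.bwd (nat_lit 12) (Steps.bwd (nat_lit 6) (Steps.fwd (nat_lit 2560) (Steps.fwd (nat_lit 6144) Steps.nil)))) (nat_lit 46) (nat_lit 2)]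
noncomputable def R_2 : List (Rule) := [Rule.mk (nat_lit 8) (nat_lit 64) (Steps.fwd (nat_lit 6656) (Steps.fwd (nat_lit 3072) (Steps.bwd (nat_lit 13) (Steps.fwd (nat_lit 2560) (Steps.bwd (nat_lit 10) Steps.nil))))) (nat_lit 61) (nat_lit 5),
  Rule.mk (nat_lit 2) (nat_lit 97) (Steps.bwd (nat_lit 13) (Steps.fwd (nat_lit 2560) (Steps.fwd (nat_lit 512) (Steps.fwd (nat_lit 7168) (Steps.fwd (nat_lit 2560) (Steps.fwd (nat_lit 512) (Steps.bwd (nat_lit 13) (Steps.bwd (nat_lit 5) Steps.nil)))))))) (nat_lit 68) (nat_lit 2),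
  Rule.mk (nat_lit 2) (nat_lit 42) (Steps.bwd (nat_lit 5) (Steps.fwd (nat_lit 1024) (Steps.fwd (nat_lit 2560) Steps.nil))) (nat_lit 8) (nat_lit 3),
  Rule.mk (nat_lit 4) (nat_lit 42) (Steps.bwd (nat_lit 5) (Steps.fwd (nat_lit 2048) (Steps.fwd (nat_lit 2560) Steps.nil))) (nat_lit 20) (nat_lit 1),
  Rule.mk (nat_lit 9) (nat_lit 53) (Steps.bwd (nat_lit 5) (Steps.fwd (nat_lit 1024) (Steps.fwd (nat_lit 2048) (Steps.bwd (nat_lit 2) Steps.nil)))) (nat_lit 34) (nat_lit 1),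
  Rule.mk (nat_lit 14) (nat_lit 53) (Steps.bwd (nat_lit 5) (Steps.bwd (nat_lit 9) (Steps.bwd (nat_lit 13) (Steps.fwd (nat_lit 5120) Steps.nil)))) (nat_lit 54) (nat_lit 3),
  Rule.mk (nat_lit 3) (nat_lit 64) (Steps.bwd (nat_lit 1) (Steps.bwd (nat_lit 6) (Steps.bwd (nat_lit 3) (Steps.fwd (nat_lit 3072) (Steps.bwd (nat_lit 2) Steps.nil))))) (nat_lit 28) (nat_lit 5),
  Rule.mk (nat_lit 4) (nat_lit 64) (Steps.bwd (nat_lit 1) (Steps.bwd (nat_lit 6) (Steps.fwd (nat_lit 2048) (Steps.fwd (nat_lit 3072) (Steps.fwd (nat_lit 512) Steps.nil))))) (nat_lit 30) (nat_lit 5),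
  Rule.mk (nat_lit 14) (nat_lit 42) (Steps.fwd (nat_lit 1536) (Steps.bwd (nat_lit 14) (Steps.bwd (nat_lit 3) Steps.nil))) (nat_lit 59) (nat_lit 1),
  Rule.mk (nat_lit 14) (nat_lit 31) (Steps.bwd (nat_lit 14) (Steps.bwd (nat_lit 14) Steps.nil)) (nat_lit 51) (nat_lit 0),
  Rule.mk (nat_lit 2) (nat_lit 42) (Steps.bwd (nat_lit 5) (Steps.bwd (nat_lit 1) (Steps.fwd (nat_lit 2560) Steps.nil))) (nat_lit 8) (nat_lit 3),
  Rule.mk (nat_lit 3) (nat_lit 42) (Steps.bwd (nat_lit 5) (Steps.fwd (nat_lit 1536) (Steps.bwd (nat_lit 5) Steps.nil))) (nat_lit 18) (nat_lit 1),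
  Rule.mk (nat_lit 13) (nat_lit 42) (Steps.bwd (nat_lit 5) (Steps.bwd (nat_lit 14) (Steps.bwd (nat_lit 9) Steps.nil))) (nat_lit 52) (nat_lit 1),
  Rule.mk (nat_lit 9) (nat_lit 53) (Steps.bwd (nat_lit 5) (Steps.bwd (nat_lit 1) (Steps.fwd (nat_lit 2048) (Steps.fwd (nat_lit 512) Steps.nil)))) (nat_lit 34) (nat_lit 1),
  Rule.mk (nat_lit 10) (nat_lit 53) (Steps.fwd (nat_lit 1024) (Steps.fwd (nat_lit 2048) (Steps.bwd (nat_lit 2) (Steps.bwd (nat_lit 5) Steps.nil)))) (nat_lit 35) (nat_lit 0),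
  Rule.mk (nat_lit 13) (nat_lit 42) (Steps.fwd (nat_lit 2560) (Steps.bwd (nat_lit 14) (Steps.bwd (nat_lit 10) Steps.nil))) (nat_lit 53) (nat_lit 2),
  Rule.mk (nat_lit 8) (nat_lit 53) (Steps.bwd (nat_lit 1) (Steps.fwd (nat_lit 1536) (Steps.bwd (nat_lit 2) (Steps.bwd (nat_lit 5) Steps.nil)))) (nat_lit 33) (nat_lit 0),
  Rule.mk (nat_lit 14) (nat_lit 64) (Steps.bwd (nat_lit 6) (Steps.fwd (nat_lit 7168) (Steps.fwd (nat_lit 2560) (Steps.fwd (nat_lit 4608) (Steps.bwd (nat_lit 8) Steps.nil))))) (nat_lit 61) (nat_lit 0),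
  Rule.mk (nat_lit 13) (nat_lit 75) (Steps.bwd (nat_lit 6) (Steps.bwd (nat_lit 14) (Steps.fwd (nat_lit 2560) (Steps.bwd (nat_lit 6) (Steps.bwd (nat_lit 7) (Steps.bwd (nat_lit 9) Steps.nil)))))) (nat_lit 62) (nat_lit 1),
  Rule.mk (nat_lit 4) (nat_lit 42) (Steps.fwd (nat_lit 6656) (Steps.fwd (nat_lit 2048) (Steps.bwd (nat_lit 13) Steps.nil))) (nat_lit 56) (nat_lit 2),
  Rule.mk (nat_lit 1) (nat_lit 75) (Steps.bwd (nat_lit 5) (Steps.fwd (nat_lit 2048) (Steps.fwd (nat_lit 1024) (Steps.fwd (nat_lit 2048) (Steps.bwd (nat_lit 1) (Steps.fwd (nat_lit 2048) Steps.nil)))))) (nat_lit 12) (nat_lit 6),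
  Rule.mk (nat_lit 6) (nat_lit 42) (Steps.bwd (nat_lit 2) (Steps.fwd (nat_lit 3072) (Steps.bwd (nat_lit 2) Steps.nil))) (nat_lit 25) (nat_lit 0),
  Rule.mk (nat_lit 3) (nat_lit 53) (Steps.bwd (nat_lit 2) (Steps.fwd (nat_lit 4096) (Steps.fwd (nat_lit 2560) (Steps.bwd (nat_lit 1) Steps.nil)))) (nat_lit 32) (nat_lit 4),
  Rule.mk (nat_lit 4) (nat_lit 53) (Steps.bwd (nat_lit 2) (Steps.fwd (nat_lit 5120) (Steps.bwd (nat_lit 5) (Steps.fwd (nat_lit 1024) Steps.nil)))) (nat_lit 34) (nat_lit 4),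
  Rule.mk (nat_lit 13) (nat_lit 42) (Steps.fwd (nat_lit 1536) (Steps.bwd (nat_lit 13) (Steps.bwd (nat_lit 3) Steps.nil))) (nat_lit 58) (nat_lit 0),
  Rule.mk (nat_lit 13) (nat_lit 42) (Steps.bwd (nat_lit 5) (Steps.bwd (nat_lit 14) (Steps.fwd (nat_lit 5120) Steps.nil))) (nat_lit 52) (nat_lit 1),
  Rule.mk (nat_lit 7) (nat_lit 53) (Steps.bwd (nat_lit 5) (Steps.bwd (nat_lit 1) (Steps.fwd (nat_lit 1536) (Steps.bwd (nat_lit 2) Steps.nil)))) (nat_lit 32) (nat_lit 1),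
  Rule.mk (nat_lit 4) (nat_lit 75) (Steps.bwd (nat_lit 5) (Steps.bwd (nat_lit 2) (Steps.fwd (nat_lit 2048) (Steps.bwd (nat_lit 2) (Steps.fwd (nat_lit 2048) (Steps.fwd (nat_lit 512) Steps.nil)))))) (nat_lit 13) (nat_lit 0),
  Rule.mk (nat_lit 7) (nat_lit 64) (Steps.fwd (nat_lit 5120) (Steps.fwd (nat_lit 2560) (Steps.fwd (nat_lit 6656) (Steps.bwd (nat_lit 6) (Steps.bwd (nat_lit 13) Steps.nil))))) (nat_lit 60) (nat_lit 2),
  Rule.mk (nat_lit 2) (nat_lit 31) (Steps.bwd (nat_lit 2) (Steps.bwd (nat_lit 2) Steps.nil)) (nat_lit 1) (nat_lit 0),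
  Rule.mk (nat_lit 5) (nat_lit 42) (Steps.bwd (nat_lit 2) (Steps.bwd (nat_lit 5) (Steps.fwd (nat_lit 1024) Steps.nil))) (nat_lit 8) (nat_lit 2),
  Rule.mk (nat_lit 13) (nat_lit 64) (Steps.bwd (nat_lit 7) (Steps.bwd (nat_lit 9) (Steps.fwd (nat_lit 2560) (Steps.fwd (nat_lit 6656) (Steps.bwd (nat_lit 6) Steps.nil))))) (nat_lit 60) (nat_lit 1),
  Rule.mk (nat_lit 1) (nat_lit 42) (Steps.bwd (nat_lit 6) (Steps.fwd (nat_lit 1024) (Steps.fwd (nat_lit 3072) Steps.nil))) (nat_lit 24) (nat_lit 0),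
  Rule.mk (nat_lit 2) (nat_lit 42) (Steps.bwd (nat_lit 6) (Steps.bwd (nat_lit 2) (Steps.fwd (nat_lit 3072) Steps.nil))) (nat_lit 25) (nat_lit 1),
  Rule.mk (nat_lit 5) (nat_lit 42) (Steps.bwd (nat_lit 6) (Steps.bwd (nat_lit 5) (Steps.fwd (nat_lit 3072) Steps.nil))) (nat_lit 26) (nat_lit 0),
  Rule.mk (nat_lit 4) (nat_lit 64) (Steps.bwd (nat_lit 6) (Steps.bwd (nat_lit 2) (Steps.fwd (nat_lit 2048) (Steps.fwd (nat_lit 1024) (Steps.fwd (nat_lit 3072) Steps.nil))))) (nat_lit 30) (nat_lit 2),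
  Rule.mk (nat_lit 13) (nat_lit 75) (Steps.bwd (nat_lit 6) (Steps.fwd (nat_lit 6656) (Steps.fwd (nat_lit 2560) (Steps.fwd (nat_lit 3072) (Steps.fwd (nat_lit 4096) (Steps.fwd (nat_lit 5120) Steps.nil)))))) (nat_lit 62) (nat_lit 1),
  Rule.mk (nat_lit 9) (nat_lit 53) (Steps.fwd (nat_lit 6656) (Steps.fwd (nat_lit 2560) (Steps.fwd (nat_lit 5120) (Steps.bwd (nat_lit 13) Steps.nil)))) (nat_lit 54) (nat_lit 2),
  Rule.mk (nat_lit 10) (nat_lit 53) (Steps.fwd (nat_lit 6656) (Steps.fwd (nat_lit 4608) (Steps.fwd (nat_lit 2560) (Steps.bwd (nat_lit 13) Steps.nil)))) (nat_lit 55) (nat_lit 4),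
  Rule.mk (nat_lit 8) (nat_lit 53) (Steps.bwd (nat_lit 1) (Steps.bwd (nat_lit 3) (Steps.bwd (nat_lit 2) (Steps.bwd (nat_lit 5) Steps.nil)))) (nat_lit 33) (nat_lit 0),
  Rule.mk (nat_lit 3) (nat_lit 64) (Steps.bwd (nat_lit 1) (Steps.bwd (nat_lit 6) (Steps.fwd (nat_lit 1536) (Steps.bwd (nat_lit 6) (Steps.bwd (nat_lit 2) Steps.nil))))) (nat_lit 28) (nat_lit 5),
  Rule.mk (nat_lit 14) (nat_lit 97) (Steps.bwd (nat_lit 1) (Steps.bwd (nat_lit 5) (Steps.bwd (nat_lit 14) (Steps.bwd (nat_lit 1) (Steps.fwd (nat_lit 2560) (Steps.fwd (nat_lit 6656) (Steps.bwd (nat_lit 1) (Steps.fwd (nat_lit 2560) Steps.nil)))))))) (nat_lit 69) (nat_lit 1),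
  Rule.mk (nat_lit 9) (nat_lit 42) (Steps.fwd (nat_lit 7168) (Steps.fwd (nat_lit 2560) (Steps.bwd (nat_lit 14) Steps.nil))) (nat_lit 52) (nat_lit 0),
  Rule.mk (nat_lit 8) (nat_lit 75) (Steps.bwd (nat_lit 6) (Steps.fwd (nat_lit 2560) (Steps.bwd (nat_lit 13) (Steps.bwd (nat_lit 6) (Steps.bwd (nat_lit 14) (Steps.fwd (nat_lit 4608) Steps.nil)))))) (nat_lit 63) (nat_lit 2),
  Rule.mk (nat_lit 1) (nat_lit 42) (Steps.bwd (nat_lit 6) (Steps.bwd (nat_lit 1) (Steps.bwd (nat_lit 6) Steps.nil))) (nat_lit 24) (nat_lit 0),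
  Rule.mk (nat_lit 14) (nat_lit 64) (Steps.bwd (nat_lit 6) (Steps.fwd (nat_lit 7168) (Steps.bwd (nat_lit 5) (Steps.fwd (nat_lit 4608) (Steps.bwd (nat_lit 8) Steps.nil))))) (nat_lit 61) (nat_lit 0),
  Rule.mk (nat_lit 13) (nat_lit 75) (Steps.bwd (nat_lit 6) (Steps.bwd (nat_lit 14) (Steps.fwd (nat_lit 2560) (Steps.fwd (nat_lit 3072) (Steps.bwd (nat_lit 7) (Steps.bwd (nat_lit 9) Steps.nil)))))) (nat_lit 62) (nat_lit 1),
  Rule.mk (nat_lit 8) (nat_lit 75) (Steps.bwd (nat_lit 6) (Steps.fwd (nat_lit 2560) (Steps.bwd (nat_lit 13) (Steps.bwd (nat_lit 6) (Steps.fwd (nat_lit 6656) (Steps.bwd (nat_lit 10) Steps.nil)))))) (nat_lit 63) (nat_lit 2),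
  Rule.mk (nat_lit 1) (nat_lit 53) (Steps.fwd (nat_lit 1536) (Steps.bwd (nat_lit 2) (Steps.fwd (nat_lit 2560) (Steps.bwd (nat_lit 8) Steps.nil)))) (nat_lit 33) (nat_lit 1),
  Rule.mk (nat_lit 5) (nat_lit 42) (Steps.bwd (nat_lit 14) (Steps.bwd (nat_lit 9) (Steps.bwd (nat_lit 13) Steps.nil))) (nat_lit 52) (nat_lit 2),
  Rule.mk (nat_lit 4) (nat_lit 42) (Steps.bwd (nat_lit 14) (Steps.bwd (nat_lit 4) (Steps.bwd (nat_lit 13) Steps.nil))) (nat_lit 56) (nat_lit 2),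
  Rule.mk (nat_lit 9) (nat_lit 53) (Steps.bwd (nat_lit 14) (Steps.fwd (nat_lit 2560) (Steps.bwd (nat_lit 9) (Steps.bwd (nat_lit 13) Steps.nil)))) (nat_lit 54) (nat_lit 2),
  Rule.mk (nat_lit 10) (nat_lit 53) (Steps.bwd (nat_lit 14) (Steps.bwd (nat_lit 10) (Steps.fwd (nat_lit 2560) (Steps.bwd (nat_lit 13) Steps.nil)))) (nat_lit 55) (nat_lit 4),
  Rule.mk (nat_lit 7) (nat_lit 64) (Steps.fwd (nat_lit 5120) (Steps.bwd (nat_lit 5) (Steps.bwd (nat_lit 14) (Steps.bwd (nat_lit 6) (Steps.bwd (nat_lit 13) Steps.nil))))) (nat_lit 60) (nat_lit 2),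
  Rule.mk (nat_lit 8) (nat_lit 64) (Steps.bwd (nat_lit 14) (Steps.bwd (nat_lit 6) (Steps.bwd (nat_lit 13) (Steps.fwd (nat_lit 2560) (Steps.fwd (nat_lit 4608) Steps.nil))))) (nat_lit 61) (nat_lit 5),
  Rule.mk (nat_lit 6) (nat_lit 75) (Steps.bwd (nat_lit 14) (Steps.fwd (nat_lit 2560) (Steps.bwd (nat_lit 6) (Steps.bwd (nat_lit 7) (Steps.bwd (nat_lit 9) (Steps.bwd (nat_lit 13) Steps.nil)))))) (nat_lit 62) (nat_lit 2),
  Rule.mk (nat_lit 1) (nat_lit 42) (Steps.fwd (nat_lit 3072) (Steps.bwd (nat_lit 1) (Steps.bwd (nat_lit 6) Steps.nil))) (nat_lit 24) (nat_lit 0),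
  Rule.mk (nat_lit 2) (nat_lit 42) (Steps.bwd (nat_lit 6) (Steps.bwd (nat_lit 2) (Steps.bwd (nat_lit 6) Steps.nil))) (nat_lit 25) (nat_lit 1),
  Rule.mk (nat_lit 7) (nat_lit 53) (Steps.bwd (nat_lit 5) (Steps.bwd (nat_lit 1) (Steps.fwd (nat_lit 1536) (Steps.fwd (nat_lit 512) Steps.nil)))) (nat_lit 32) (nat_lit 1),
  Rule.mk (nat_lit 9) (nat_lit 53) (Steps.bwd (nat_lit 14) (Steps.fwd (nat_lit 2560) (Steps.fwd (nat_lit 5120) (Steps.fwd (nat_lit 7168) Steps.nil)))) (nat_lit 54) (nat_lit 2),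
  Rule.mk (nat_lit 8) (nat_lit 64) (Steps.bwd (nat_lit 14) (Steps.fwd (nat_lit 3072) (Steps.bwd (nat_lit 13) (Steps.bwd (nat_lit 5) (Steps.fwd (nat_lit 4608) Steps.nil))))) (nat_lit 61) (nat_lit 5),
  Rule.mk (nat_lit 6) (nat_lit 75) (Steps.bwd (nat_lit 14) (Steps.fwd (nat_lit 2560) (Steps.fwd (nat_lit 3072) (Steps.bwd (nat_lit 7) (Steps.fwd (nat_lit 5120) (Steps.fwd (nat_lit 7168) Steps.nil)))))) (nat_lit 62) (nat_lit 2),
  Rule.mk (nat_lit 2) (nat_lit 42) (Steps.fwd (nat_lit 3072) (Steps.fwd (nat_lit 512) (Steps.bwd (nat_lit 6) Steps.nil))) (nat_lit 25) (nat_lit 1),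
  Rule.mk (nat_lit 3) (nat_lit 53) (Steps.bwd (nat_lit 2) (Steps.bwd (nat_lit 7) (Steps.bwd (nat_lit 5) (Steps.fwd (nat_lit 1024) Steps.nil)))) (nat_lit 32) (nat_lit 4)]
noncomputable def R_3 : List (Rule) := [Rule.mk (nat_lit 7) (nat_lit 75) (Steps.bwd (nat_lit 9) (Steps.fwd (nat_lit 7168) (Steps.bwd (nat_lit 6) (Steps.bwd (nat_lit 14) (Steps.bwd (nat_lit 5) (Steps.bwd (nat_lit 6) Steps.nil)))))) (nat_lit 62) (nat_lit 6),
  Rule.mk (nat_lit 2) (nat_lit 42) (Steps.bwd (nat_lit 5) (Steps.bwd (nat_lit 1) (Steps.bwd (nat_lit 5) Steps.nil))) (nat_lit 8) (nat_lit 3),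
  Rule.mk (nat_lit 7) (nat_lit 53) (Steps.bwd (nat_lit 5) (Steps.bwd (nat_lit 1) (Steps.bwd (nat_lit 3) (Steps.bwd (nat_lit 2) Steps.nil)))) (nat_lit 32) (nat_lit 1),
  Rule.mk (nat_lit 9) (nat_lit 53) (Steps.bwd (nat_lit 5) (Steps.bwd (nat_lit 1) (Steps.bwd (nat_lit 4) (Steps.bwd (nat_lit 2) Steps.nil)))) (nat_lit 34) (nat_lit 1),
  Rule.mk (nat_lit 14) (nat_lit 53) (Steps.bwd (nat_lit 5) (Steps.bwd (nat_lit 9) (Steps.fwd (nat_lit 7168) (Steps.fwd (nat_lit 5120) Steps.nil)))) (nat_lit 54) (nat_lit 3),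
  Rule.mk (nat_lit 1) (nat_lit 75) (Steps.bwd (nat_lit 5) (Steps.fwd (nat_lit 1536) (Steps.fwd (nat_lit 1024) (Steps.bwd (nat_lit 3) (Steps.fwd (nat_lit 1024) (Steps.bwd (nat_lit 3) Steps.nil)))))) (nat_lit 10) (nat_lit 6),
  Rule.mk (nat_lit 4) (nat_lit 97) (Steps.bwd (nat_lit 5) (Steps.bwd (nat_lit 1) (Steps.bwd (nat_lit 3) (Steps.bwd (nat_lit 2) (Steps.fwd (nat_lit 2048) (Steps.fwd (nat_lit 1024) (Steps.fwd (nat_lit 1536) (Steps.fwd (nat_lit 512) Steps.nil)))))))) (nat_lit 16) (nat_lit 8),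
  Rule.mk (nat_lit 7) (nat_lit 64) (Steps.bwd (nat_lit 9) (Steps.bwd (nat_lit 5) (Steps.fwd (nat_lit 6656) (Steps.bwd (nat_lit 6) (Steps.bwd (nat_lit 13) Steps.nil))))) (nat_lit 60) (nat_lit 2),
  Rule.mk (nat_lit 14) (nat_lit 42) (Steps.bwd (nat_lit 4) (Steps.fwd (nat_lit 7168) (Steps.fwd (nat_lit 2048) Steps.nil))) (nat_lit 56) (nat_lit 3),
  Rule.mk (nat_lit 13) (nat_lit 42) (Steps.bwd (nat_lit 4) (Steps.bwd (nat_lit 14) (Steps.bwd (nat_lit 4) Steps.nil))) (nat_lit 56) (nat_lit 1),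
  Rule.mk (nat_lit 1) (nat_lit 53) (Steps.bwd (nat_lit 4) (Steps.bwd (nat_lit 2) (Steps.bwd (nat_lit 9) (Steps.fwd (nat_lit 2560) Steps.nil)))) (nat_lit 34) (nat_lit 3),
  Rule.mk (nat_lit 5) (nat_lit 75) (Steps.bwd (nat_lit 4) (Steps.bwd (nat_lit 1) (Steps.fwd (nat_lit 2048) (Steps.bwd (nat_lit 1) (Steps.bwd (nat_lit 4) (Steps.fwd (nat_lit 1024) Steps.nil)))))) (nat_lit 12) (nat_lit 0),
  Rule.mk (nat_lit 2) (nat_lit 75) (Steps.bwd (nat_lit 4) (Steps.bwd (nat_lit 5) (Steps.fwd (nat_lit 512) (Steps.bwd (nat_lit 4) (Steps.bwd (nat_lit 2) (Steps.fwd (nat_lit 2048) Steps.nil)))))) (nat_lit 13) (nat_lit 6),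
  Rule.mk (nat_lit 6) (nat_lit 64) (Steps.fwd (nat_lit 512) (Steps.fwd (nat_lit 2048) (Steps.fwd (nat_lit 1024) (Steps.bwd (nat_lit 6) (Steps.fwd (nat_lit 2048) Steps.nil))))) (nat_lit 30) (nat_lit 3),
  Rule.mk (nat_lit 8) (nat_lit 75) (Steps.bwd (nat_lit 6) (Steps.bwd (nat_lit 5) (Steps.fwd (nat_lit 7168) (Steps.fwd (nat_lit 3072) (Steps.fwd (nat_lit 6656) (Steps.fwd (nat_lit 4608) Steps.nil)))))) (nat_lit 63) (nat_lit 2),
  Rule.mk (nat_lit 9) (nat_lit 53) (Steps.fwd (nat_lit 2560) (Steps.bwd (nat_lit 1) (Steps.fwd (nat_lit 2048) (Steps.bwd (nat_lit 2) Steps.nil)))) (nat_lit 34) (nat_lit 1),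
  Rule.mk (nat_lit 7) (nat_lit 64) (Steps.bwd (nat_lit 9) (Steps.fwd (nat_lit 2560) (Steps.bwd (nat_lit 14) (Steps.fwd (nat_lit 3072) (Steps.bwd (nat_lit 13) Steps.nil))))) (nat_lit 60) (nat_lit 2),
  Rule.mk (nat_lit 12) (nat_lit 53) (Steps.bwd (nat_lit 5) (Steps.bwd (nat_lit 7) (Steps.bwd (nat_lit 11) (Steps.bwd (nat_lit 7) Steps.nil)))) (nat_lit 40) (nat_lit 3),
  Rule.mk (nat_lit 8) (nat_lit 53) (Steps.bwd (nat_lit 5) (Steps.bwd (nat_lit 11) (Steps.bwd (nat_lit 8) (Steps.bwd (nat_lit 12) Steps.nil)))) (nat_lit 41) (nat_lit 1),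
  Rule.mk (nat_lit 6) (nat_lit 53) (Steps.bwd (nat_lit 5) (Steps.bwd (nat_lit 11) (Steps.bwd (nat_lit 9) (Steps.fwd (nat_lit 5632) Steps.nil)))) (nat_lit 46) (nat_lit 4),
  Rule.mk (nat_lit 3) (nat_lit 42) (Steps.bwd (nat_lit 11) (Steps.bwd (nat_lit 3) (Steps.bwd (nat_lit 12) Steps.nil))) (nat_lit 42) (nat_lit 0),
  Rule.mk (nat_lit 14) (nat_lit 42) (Steps.bwd (nat_lit 11) (Steps.fwd (nat_lit 7168) (Steps.bwd (nat_lit 12) Steps.nil))) (nat_lit 64) (nat_lit 0),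
  Rule.mk (nat_lit 13) (nat_lit 31) (Steps.bwd (nat_lit 13) (Steps.fwd (nat_lit 7168) Steps.nil)) (nat_lit 50) (nat_lit 0),
  Rule.mk (nat_lit 9) (nat_lit 42) (Steps.bwd (nat_lit 13) (Steps.fwd (nat_lit 2560) (Steps.bwd (nat_lit 14) Steps.nil))) (nat_lit 52) (nat_lit 0),
  Rule.mk (nat_lit 10) (nat_lit 42) (Steps.bwd (nat_lit 13) (Steps.fwd (nat_lit 2560) (Steps.bwd (nat_lit 14) Steps.nil))) (nat_lit 53) (nat_lit 1),
  Rule.mk (nat_lit 7) (nat_lit 42) (Steps.fwd (nat_lit 6144) (Steps.fwd (nat_lit 2560) (Steps.bwd (nat_lit 12) Steps.nil))) (nat_lit 38) (nat_lit 0),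
  Rule.mk (nat_lit 5) (nat_lit 64) (Steps.bwd (nat_lit 10) (Steps.bwd (nat_lit 8) (Steps.bwd (nat_lit 14) (Steps.bwd (nat_lit 6) (Steps.bwd (nat_lit 13) Steps.nil))))) (nat_lit 61) (nat_lit 3),
  Rule.mk (nat_lit 12) (nat_lit 75) (Steps.bwd (nat_lit 10) (Steps.bwd (nat_lit 8) (Steps.fwd (nat_lit 3072) (Steps.fwd (nat_lit 2560) (Steps.fwd (nat_lit 6144) (Steps.fwd (nat_lit 3072) Steps.nil)))))) (nat_lit 49) (nat_lit 0),
  Rule.mk (nat_lit 3) (nat_lit 42) (Steps.fwd (nat_lit 6144) (Steps.fwd (nat_lit 1536) (Steps.bwd (nat_lit 12) Steps.nil))) (nat_lit 42) (nat_lit 0),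
  Rule.mk (nat_lit 14) (nat_lit 42) (Steps.fwd (nat_lit 6144) (Steps.bwd (nat_lit 13) (Steps.bwd (nat_lit 12) Steps.nil))) (nat_lit 64) (nat_lit 0),
  Rule.mk (nat_lit 6) (nat_lit 53) (Steps.bwd (nat_lit 5) (Steps.fwd (nat_lit 6144) (Steps.bwd (nat_lit 9) (Steps.bwd (nat_lit 12) Steps.nil)))) (nat_lit 46) (nat_lit 4),
  Rule.mk (nat_lit 9) (nat_lit 75) (Steps.fwd (nat_lit 6144) (Steps.fwd (nat_lit 3072) (Steps.bwd (nat_lit 12) (Steps.fwd (nat_lit 2560) (Steps.fwd (nat_lit 3072) (Steps.bwd (nat_lit 7) Steps.nil)))))) (nat_lit 48) (nat_lit 0),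
  Rule.mk (nat_lit 13) (nat_lit 42) (Steps.bwd (nat_lit 12) (Steps.fwd (nat_lit 6656) (Steps.fwd (nat_lit 6144) Steps.nil))) (nat_lit 64) (nat_lit 2),
  Rule.mk (nat_lit 3) (nat_lit 42) (Steps.bwd (nat_lit 5) (Steps.fwd (nat_lit 1536) (Steps.fwd (nat_lit 2560) Steps.nil))) (nat_lit 18) (nat_lit 1),
  Rule.mk (nat_lit 11) (nat_lit 42) (Steps.bwd (nat_lit 5) (Steps.bwd (nat_lit 12) (Steps.fwd (nat_lit 4096) Steps.nil))) (nat_lit 38) (nat_lit 1),
  Rule.mk (nat_lit 8) (nat_lit 53) (Steps.bwd (nat_lit 5) (Steps.fwd (nat_lit 6144) (Steps.fwd (nat_lit 3584) (Steps.bwd (nat_lit 12) Steps.nil)))) (nat_lit 41) (nat_lit 1),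
  Rule.mk (nat_lit 11) (nat_lit 42) (Steps.bwd (nat_lit 5) (Steps.bwd (nat_lit 12) (Steps.bwd (nat_lit 8) Steps.nil))) (nat_lit 39) (nat_lit 2),
  Rule.mk (nat_lit 7) (nat_lit 42) (Steps.bwd (nat_lit 11) (Steps.bwd (nat_lit 5) (Steps.bwd (nat_lit 12) Steps.nil))) (nat_lit 38) (nat_lit 0),
  Rule.mk (nat_lit 9) (nat_lit 42) (Steps.bwd (nat_lit 13) (Steps.bwd (nat_lit 5) (Steps.fwd (nat_lit 6656) Steps.nil))) (nat_lit 52) (nat_lit 0),
  Rule.mk (nat_lit 10) (nat_lit 42) (Steps.bwd (nat_lit 13) (Steps.bwd (nat_lit 5) (Steps.fwd (nat_lit 6656) Steps.nil))) (nat_lit 53) (nat_lit 1),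
  Rule.mk (nat_lit 11) (nat_lit 42) (Steps.bwd (nat_lit 13) (Steps.fwd (nat_lit 5632) (Steps.fwd (nat_lit 6656) Steps.nil))) (nat_lit 64) (nat_lit 1),
  Rule.mk (nat_lit 4) (nat_lit 42) (Steps.bwd (nat_lit 5) (Steps.fwd (nat_lit 2048) (Steps.bwd (nat_lit 5) Steps.nil))) (nat_lit 20) (nat_lit 1),
  Rule.mk (nat_lit 6) (nat_lit 42) (Steps.bwd (nat_lit 5) (Steps.bwd (nat_lit 6) (Steps.bwd (nat_lit 5) Steps.nil))) (nat_lit 26) (nat_lit 1),
  Rule.mk (nat_lit 11) (nat_lit 42) (Steps.bwd (nat_lit 5) (Steps.fwd (nat_lit 5632) (Steps.fwd (nat_lit 4096) Steps.nil))) (nat_lit 38) (nat_lit 1),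
  Rule.mk (nat_lit 8) (nat_lit 53) (Steps.bwd (nat_lit 5) (Steps.fwd (nat_lit 6144) (Steps.bwd (nat_lit 8) (Steps.bwd (nat_lit 12) Steps.nil)))) (nat_lit 41) (nat_lit 1),
  Rule.mk (nat_lit 12) (nat_lit 53) (Steps.bwd (nat_lit 5) (Steps.bwd (nat_lit 6) (Steps.bwd (nat_lit 11) (Steps.fwd (nat_lit 4608) Steps.nil)))) (nat_lit 47) (nat_lit 0),
  Rule.mk (nat_lit 14) (nat_lit 53) (Steps.bwd (nat_lit 5) (Steps.fwd (nat_lit 5120) (Steps.bwd (nat_lit 13) (Steps.bwd (nat_lit 9) Steps.nil)))) (nat_lit 54) (nat_lit 3),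
  Rule.mk (nat_lit 9) (nat_lit 64) (Steps.bwd (nat_lit 5) (Steps.bwd (nat_lit 14) (Steps.fwd (nat_lit 3072) (Steps.bwd (nat_lit 13) (Steps.bwd (nat_lit 7) Steps.nil))))) (nat_lit 60) (nat_lit 3),
  Rule.mk (nat_lit 13) (nat_lit 64) (Steps.bwd (nat_lit 5) (Steps.fwd (nat_lit 4608) (Steps.bwd (nat_lit 8) (Steps.fwd (nat_lit 6656) (Steps.bwd (nat_lit 6) Steps.nil))))) (nat_lit 61) (nat_lit 2),
  Rule.mk (nat_lit 10) (nat_lit 42) (Steps.fwd (nat_lit 7168) (Steps.fwd (nat_lit 2560) (Steps.fwd (nat_lit 6656) Steps.nil))) (nat_lit 53) (nat_lit 1),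
  Rule.mk (nat_lit 8) (nat_lit 53) (Steps.fwd (nat_lit 2560) (Steps.fwd (nat_lit 6144) (Steps.fwd (nat_lit 3584) (Steps.bwd (nat_lit 12) Steps.nil)))) (nat_lit 41) (nat_lit 1),
  Rule.mk (nat_lit 2) (nat_lit 97) (Steps.bwd (nat_lit 11) (Steps.fwd (nat_lit 2560) (Steps.bwd (nat_lit 2) (Steps.fwd (nat_lit 6144) (Steps.fwd (nat_lit 2560) (Steps.fwd (nat_lit 512) (Steps.bwd (nat_lit 11) (Steps.bwd (nat_lit 5) Steps.nil)))))))) (nat_lit 66) (nat_lit 2),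
  Rule.mk (nat_lit 7) (nat_lit 53) (Steps.bwd (nat_lit 5) (Steps.fwd (nat_lit 1024) (Steps.fwd (nat_lit 1536) (Steps.bwd (nat_lit 2) Steps.nil)))) (nat_lit 32) (nat_lit 1),
  Rule.mk (nat_lit 3) (nat_lit 64) (Steps.bwd (nat_lit 1) (Steps.fwd (nat_lit 3072) (Steps.fwd (nat_lit 1536) (Steps.bwd (nat_lit 6) (Steps.fwd (nat_lit 512) Steps.nil))))) (nat_lit 28) (nat_lit 5),
  Rule.mk (nat_lit 4) (nat_lit 64) (Steps.bwd (nat_lit 1) (Steps.fwd (nat_lit 3072) (Steps.bwd (nat_lit 4) (Steps.bwd (nat_lit 6) (Steps.bwd (nat_lit 2) Steps.nil))))) (nat_lit 30) (nat_lit 5),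
  Rule.mk (nat_lit 12) (nat_lit 42) (Steps.fwd (nat_lit 2048) (Steps.bwd (nat_lit 12) (Steps.bwd (nat_lit 4) Steps.nil))) (nat_lit 45) (nat_lit 1),
  Rule.mk (nat_lit 11) (nat_lit 42) (Steps.bwd (nat_lit 5) (Steps.bwd (nat_lit 12) (Steps.bwd (nat_lit 7) Steps.nil))) (nat_lit 38) (nat_lit 1),
  Rule.mk (nat_lit 8) (nat_lit 53) (Steps.fwd (nat_lit 1024) (Steps.fwd (nat_lit 1536) (Steps.bwd (nat_lit 2) (Steps.bwd (nat_lit 5) Steps.nil)))) (nat_lit 33) (nat_lit 0),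
  Rule.mk (nat_lit 11) (nat_lit 42) (Steps.fwd (nat_lit 2560) (Steps.bwd (nat_lit 12) (Steps.bwd (nat_lit 8) Steps.nil))) (nat_lit 39) (nat_lit 2),
  Rule.mk (nat_lit 10) (nat_lit 53) (Steps.bwd (nat_lit 1) (Steps.fwd (nat_lit 2048) (Steps.bwd (nat_lit 2) (Steps.bwd (nat_lit 5) Steps.nil)))) (nat_lit 35) (nat_lit 0),
  Rule.mk (nat_lit 12) (nat_lit 53) (Steps.fwd (nat_lit 2560) (Steps.bwd (nat_lit 6) (Steps.fwd (nat_lit 6144) (Steps.bwd (nat_lit 10) Steps.nil)))) (nat_lit 47) (nat_lit 0),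
  Rule.mk (nat_lit 5) (nat_lit 42) (Steps.bwd (nat_lit 1) (Steps.bwd (nat_lit 5) (Steps.fwd (nat_lit 512) Steps.nil))) (nat_lit 8) (nat_lit 0),
  Rule.mk (nat_lit 12) (nat_lit 42) (Steps.bwd (nat_lit 3) (Steps.fwd (nat_lit 6144) (Steps.bwd (nat_lit 3) Steps.nil))) (nat_lit 42) (nat_lit 3),
  Rule.mk (nat_lit 9) (nat_lit 53) (Steps.bwd (nat_lit 12) (Steps.bwd (nat_lit 6) (Steps.fwd (nat_lit 2560) (Steps.bwd (nat_lit 11) Steps.nil)))) (nat_lit 46) (nat_lit 2)]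
noncomputable def R_4 : List (Rule) := [Rule.mk (nat_lit 12) (nat_lit 97) (Steps.bwd (nat_lit 1) (Steps.fwd (nat_lit 2560) (Steps.bwd (nat_lit 12) (Steps.bwd (nat_lit 1) (Steps.fwd (nat_lit 2560) (Steps.bwd (nat_lit 12) (Steps.bwd (nat_lit 1) (Steps.fwd (nat_lit 2560) Steps.nil)))))))) (nat_lit 67) (nat_lit 1),
  Rule.mk (nat_lit 6) (nat_lit 53) (Steps.fwd (nat_lit 2560) (Steps.fwd (nat_lit 6144) (Steps.bwd (nat_lit 9) (Steps.bwd (nat_lit 12) Steps.nil)))) (nat_lit 46) (nat_lit 4),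
  Rule.mk (nat_lit 1) (nat_lit 31) (Steps.bwd (nat_lit 1) (Steps.fwd (nat_lit 1024) Steps.nil)) (nat_lit 0) (nat_lit 0),
  Rule.mk (nat_lit 4) (nat_lit 75) (Steps.bwd (nat_lit 1) (Steps.fwd (nat_lit 2560) (Steps.bwd (nat_lit 4) (Steps.bwd (nat_lit 1) (Steps.bwd (nat_lit 4) (Steps.bwd (nat_lit 1) Steps.nil)))))) (nat_lit 12) (nat_lit 5),
  Rule.mk (nat_lit 10) (nat_lit 53) (Steps.bwd (nat_lit 1) (Steps.bwd (nat_lit 4) (Steps.bwd (nat_lit 2) (Steps.bwd (nat_lit 5) Steps.nil)))) (nat_lit 35) (nat_lit 0),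
  Rule.mk (nat_lit 4) (nat_lit 64) (Steps.bwd (nat_lit 1) (Steps.bwd (nat_lit 6) (Steps.bwd (nat_lit 4) (Steps.bwd (nat_lit 6) (Steps.fwd (nat_lit 512) Steps.nil))))) (nat_lit 30) (nat_lit 5),
  Rule.mk (nat_lit 11) (nat_lit 42) (Steps.bwd (nat_lit 4) (Steps.fwd (nat_lit 6144) (Steps.bwd (nat_lit 4) Steps.nil))) (nat_lit 44) (nat_lit 0),
  Rule.mk (nat_lit 5) (nat_lit 42) (Steps.bwd (nat_lit 2) (Steps.bwd (nat_lit 5) (Steps.bwd (nat_lit 1) Steps.nil))) (nat_lit 8) (nat_lit 2),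
  Rule.mk (nat_lit 3) (nat_lit 53) (Steps.bwd (nat_lit 2) (Steps.fwd (nat_lit 4096) (Steps.fwd (nat_lit 2560) (Steps.fwd (nat_lit 1024) Steps.nil)))) (nat_lit 32) (nat_lit 4),
  Rule.mk (nat_lit 12) (nat_lit 75) (Steps.fwd (nat_lit 2560) (Steps.bwd (nat_lit 6) (Steps.bwd (nat_lit 7) (Steps.fwd (nat_lit 5120) (Steps.fwd (nat_lit 6144) (Steps.bwd (nat_lit 6) Steps.nil)))))) (nat_lit 48) (nat_lit 3),
  Rule.mk (nat_lit 7) (nat_lit 53) (Steps.bwd (nat_lit 12) (Steps.fwd (nat_lit 2560) (Steps.fwd (nat_lit 4096) (Steps.fwd (nat_lit 6144) Steps.nil)))) (nat_lit 40) (nat_lit 2),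
  Rule.mk (nat_lit 8) (nat_lit 53) (Steps.bwd (nat_lit 12) (Steps.fwd (nat_lit 3584) (Steps.fwd (nat_lit 2560) (Steps.fwd (nat_lit 6144) Steps.nil)))) (nat_lit 41) (nat_lit 4),
  Rule.mk (nat_lit 1) (nat_lit 42) (Steps.bwd (nat_lit 5) (Steps.fwd (nat_lit 512) (Steps.bwd (nat_lit 5) Steps.nil))) (nat_lit 8) (nat_lit 1),
  Rule.mk (nat_lit 4) (nat_lit 42) (Steps.bwd (nat_lit 5) (Steps.bwd (nat_lit 4) (Steps.bwd (nat_lit 5) Steps.nil))) (nat_lit 20) (nat_lit 1),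
  Rule.mk (nat_lit 6) (nat_lit 42) (Steps.bwd (nat_lit 5) (Steps.bwd (nat_lit 6) (Steps.fwd (nat_lit 2560) Steps.nil))) (nat_lit 26) (nat_lit 1),
  Rule.mk (nat_lit 12) (nat_lit 53) (Steps.bwd (nat_lit 5) (Steps.bwd (nat_lit 7) (Steps.fwd (nat_lit 6144) (Steps.bwd (nat_lit 7) Steps.nil)))) (nat_lit 40) (nat_lit 3),
  Rule.mk (nat_lit 12) (nat_lit 53) (Steps.bwd (nat_lit 5) (Steps.bwd (nat_lit 6) (Steps.fwd (nat_lit 6144) (Steps.bwd (nat_lit 10) Steps.nil)))) (nat_lit 47) (nat_lit 0),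
  Rule.mk (nat_lit 7) (nat_lit 53) (Steps.bwd (nat_lit 12) (Steps.bwd (nat_lit 5) (Steps.bwd (nat_lit 7) (Steps.fwd (nat_lit 6144) Steps.nil)))) (nat_lit 40) (nat_lit 2),
  Rule.mk (nat_lit 6) (nat_lit 75) (Steps.bwd (nat_lit 7) (Steps.fwd (nat_lit 5120) (Steps.fwd (nat_lit 6144) (Steps.bwd (nat_lit 6) (Steps.bwd (nat_lit 12) (Steps.bwd (nat_lit 5) Steps.nil)))))) (nat_lit 48) (nat_lit 5),
  Rule.mk (nat_lit 9) (nat_lit 53) (Steps.bwd (nat_lit 12) (Steps.bwd (nat_lit 6) (Steps.bwd (nat_lit 5) (Steps.bwd (nat_lit 11) Steps.nil)))) (nat_lit 46) (nat_lit 2),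
  Rule.mk (nat_lit 10) (nat_lit 53) (Steps.bwd (nat_lit 12) (Steps.fwd (nat_lit 2560) (Steps.bwd (nat_lit 6) (Steps.bwd (nat_lit 11) Steps.nil)))) (nat_lit 47) (nat_lit 4),
  Rule.mk (nat_lit 1) (nat_lit 53) (Steps.fwd (nat_lit 2048) (Steps.fwd (nat_lit 512) (Steps.fwd (nat_lit 2560) (Steps.bwd (nat_lit 10) Steps.nil)))) (nat_lit 35) (nat_lit 1),
  Rule.mk (nat_lit 6) (nat_lit 75) (Steps.bwd (nat_lit 5) (Steps.bwd (nat_lit 11) (Steps.fwd (nat_lit 3072) (Steps.bwd (nat_lit 12) (Steps.bwd (nat_lit 10) (Steps.fwd (nat_lit 3584) Steps.nil)))))) (nat_lit 49) (nat_lit 3),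
  Rule.mk (nat_lit 4) (nat_lit 75) (Steps.bwd (nat_lit 1) (Steps.fwd (nat_lit 2560) (Steps.fwd (nat_lit 2048) (Steps.fwd (nat_lit 1024) (Steps.fwd (nat_lit 2048) (Steps.bwd (nat_lit 1) Steps.nil)))))) (nat_lit 12) (nat_lit 5),
  Rule.mk (nat_lit 12) (nat_lit 97) (Steps.bwd (nat_lit 1) (Steps.fwd (nat_lit 2560) (Steps.fwd (nat_lit 5632) (Steps.fwd (nat_lit 1024) (Steps.fwd (nat_lit 2560) (Steps.bwd (nat_lit 12) (Steps.bwd (nat_lit 1) (Steps.fwd (nat_lit 2560) Steps.nil)))))))) (nat_lit 67) (nat_lit 1),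
  Rule.mk (nat_lit 10) (nat_lit 75) (Steps.bwd (nat_lit 8) (Steps.fwd (nat_lit 3072) (Steps.bwd (nat_lit 5) (Steps.fwd (nat_lit 6144) (Steps.bwd (nat_lit 6) (Steps.bwd (nat_lit 12) Steps.nil)))))) (nat_lit 49) (nat_lit 1),
  Rule.mk (nat_lit 12) (nat_lit 31) (Steps.bwd (nat_lit 12) (Steps.fwd (nat_lit 5632) Steps.nil)) (nat_lit 37) (nat_lit 0),
  Rule.mk (nat_lit 8) (nat_lit 53) (Steps.bwd (nat_lit 12) (Steps.bwd (nat_lit 8) (Steps.fwd (nat_lit 2560) (Steps.fwd (nat_lit 6144) Steps.nil)))) (nat_lit 41) (nat_lit 4),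
  Rule.mk (nat_lit 6) (nat_lit 75) (Steps.bwd (nat_lit 12) (Steps.fwd (nat_lit 2560) (Steps.fwd (nat_lit 3072) (Steps.fwd (nat_lit 4096) (Steps.fwd (nat_lit 5120) (Steps.fwd (nat_lit 6144) Steps.nil)))))) (nat_lit 48) (nat_lit 2),
  Rule.mk (nat_lit 2) (nat_lit 42) (Steps.bwd (nat_lit 6) (Steps.fwd (nat_lit 512) (Steps.bwd (nat_lit 6) Steps.nil))) (nat_lit 25) (nat_lit 1),
  Rule.mk (nat_lit 11) (nat_lit 42) (Steps.bwd (nat_lit 14) (Steps.bwd (nat_lit 12) (Steps.bwd (nat_lit 13) Steps.nil))) (nat_lit 65) (nat_lit 2),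
  Rule.mk (nat_lit 13) (nat_lit 42) (Steps.bwd (nat_lit 12) (Steps.bwd (nat_lit 14) (Steps.fwd (nat_lit 6144) Steps.nil))) (nat_lit 64) (nat_lit 2),
  Rule.mk (nat_lit 6) (nat_lit 75) (Steps.bwd (nat_lit 12) (Steps.fwd (nat_lit 2560) (Steps.bwd (nat_lit 6) (Steps.fwd (nat_lit 4096) (Steps.bwd (nat_lit 9) (Steps.bwd (nat_lit 11) Steps.nil)))))) (nat_lit 48) (nat_lit 2),
  Rule.mk (nat_lit 11) (nat_lit 42) (Steps.bwd (nat_lit 14) (Steps.fwd (nat_lit 5632) (Steps.fwd (nat_lit 7168) Steps.nil))) (nat_lit 65) (nat_lit 2),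
  Rule.mk (nat_lit 9) (nat_lit 53) (Steps.bwd (nat_lit 14) (Steps.bwd (nat_lit 5) (Steps.bwd (nat_lit 9) (Steps.bwd (nat_lit 13) Steps.nil)))) (nat_lit 54) (nat_lit 2),
  Rule.mk (nat_lit 7) (nat_lit 53) (Steps.fwd (nat_lit 5632) (Steps.bwd (nat_lit 5) (Steps.fwd (nat_lit 4096) (Steps.bwd (nat_lit 11) Steps.nil)))) (nat_lit 40) (nat_lit 2),
  Rule.mk (nat_lit 8) (nat_lit 53) (Steps.fwd (nat_lit 5632) (Steps.fwd (nat_lit 3584) (Steps.bwd (nat_lit 5) (Steps.bwd (nat_lit 11) Steps.nil)))) (nat_lit 41) (nat_lit 4),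
  Rule.mk (nat_lit 13) (nat_lit 42) (Steps.bwd (nat_lit 5) (Steps.fwd (nat_lit 6656) (Steps.fwd (nat_lit 5120) Steps.nil))) (nat_lit 52) (nat_lit 1),
  Rule.mk (nat_lit 5) (nat_lit 42) (Steps.bwd (nat_lit 12) (Steps.bwd (nat_lit 7) (Steps.bwd (nat_lit 11) Steps.nil))) (nat_lit 38) (nat_lit 2),
  Rule.mk (nat_lit 6) (nat_lit 75) (Steps.bwd (nat_lit 12) (Steps.bwd (nat_lit 5) (Steps.fwd (nat_lit 3072) (Steps.fwd (nat_lit 4096) (Steps.fwd (nat_lit 5120) (Steps.bwd (nat_lit 11) Steps.nil)))))) (nat_lit 48) (nat_lit 2),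
  Rule.mk (nat_lit 12) (nat_lit 97) (Steps.bwd (nat_lit 1) (Steps.fwd (nat_lit 2560) (Steps.fwd (nat_lit 5632) (Steps.fwd (nat_lit 1024) (Steps.bwd (nat_lit 5) (Steps.bwd (nat_lit 12) (Steps.bwd (nat_lit 1) (Steps.bwd (nat_lit 5) Steps.nil)))))))) (nat_lit 67) (nat_lit 1),
  Rule.mk (nat_lit 12) (nat_lit 31) (Steps.fwd (nat_lit 5632) (Steps.bwd (nat_lit 12) Steps.nil)) (nat_lit 37) (nat_lit 0),
  Rule.mk (nat_lit 4) (nat_lit 42) (Steps.fwd (nat_lit 5632) (Steps.fwd (nat_lit 2048) (Steps.bwd (nat_lit 12) Steps.nil))) (nat_lit 45) (nat_lit 0),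
  Rule.mk (nat_lit 11) (nat_lit 75) (Steps.bwd (nat_lit 6) (Steps.bwd (nat_lit 12) (Steps.bwd (nat_lit 5) (Steps.fwd (nat_lit 3072) (Steps.fwd (nat_lit 4096) (Steps.fwd (nat_lit 5120) Steps.nil)))))) (nat_lit 48) (nat_lit 1),
  Rule.mk (nat_lit 13) (nat_lit 75) (Steps.bwd (nat_lit 6) (Steps.bwd (nat_lit 14) (Steps.bwd (nat_lit 5) (Steps.fwd (nat_lit 3072) (Steps.bwd (nat_lit 7) (Steps.bwd (nat_lit 9) Steps.nil)))))) (nat_lit 62) (nat_lit 1),
  Rule.mk (nat_lit 4) (nat_lit 53) (Steps.bwd (nat_lit 2) (Steps.fwd (nat_lit 5120) (Steps.fwd (nat_lit 2560) (Steps.bwd (nat_lit 1) Steps.nil)))) (nat_lit 34) (nat_lit 4),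
  Rule.mk (nat_lit 12) (nat_lit 42) (Steps.bwd (nat_lit 4) (Steps.fwd (nat_lit 5632) (Steps.bwd (nat_lit 4) Steps.nil))) (nat_lit 45) (nat_lit 1),
  Rule.mk (nat_lit 14) (nat_lit 42) (Steps.fwd (nat_lit 2048) (Steps.bwd (nat_lit 13) (Steps.bwd (nat_lit 4) Steps.nil))) (nat_lit 56) (nat_lit 3),
  Rule.mk (nat_lit 9) (nat_lit 53) (Steps.bwd (nat_lit 14) (Steps.bwd (nat_lit 5) (Steps.fwd (nat_lit 5120) (Steps.bwd (nat_lit 13) Steps.nil)))) (nat_lit 54) (nat_lit 2),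
  Rule.mk (nat_lit 10) (nat_lit 53) (Steps.bwd (nat_lit 14) (Steps.bwd (nat_lit 10) (Steps.bwd (nat_lit 5) (Steps.bwd (nat_lit 13) Steps.nil)))) (nat_lit 55) (nat_lit 4),
  Rule.mk (nat_lit 8) (nat_lit 64) (Steps.fwd (nat_lit 6656) (Steps.bwd (nat_lit 6) (Steps.fwd (nat_lit 7168) (Steps.bwd (nat_lit 5) (Steps.bwd (nat_lit 10) Steps.nil))))) (nat_lit 61) (nat_lit 5),
  Rule.mk (nat_lit 8) (nat_lit 53) (Steps.bwd (nat_lit 12) (Steps.fwd (nat_lit 3584) (Steps.bwd (nat_lit 5) (Steps.bwd (nat_lit 11) Steps.nil)))) (nat_lit 41) (nat_lit 4),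
  Rule.mk (nat_lit 5) (nat_lit 53) (Steps.bwd (nat_lit 10) (Steps.bwd (nat_lit 1) (Steps.bwd (nat_lit 4) (Steps.bwd (nat_lit 2) Steps.nil)))) (nat_lit 35) (nat_lit 4),
  Rule.mk (nat_lit 11) (nat_lit 53) (Steps.bwd (nat_lit 10) (Steps.fwd (nat_lit 5632) (Steps.fwd (nat_lit 2560) (Steps.bwd (nat_lit 6) Steps.nil)))) (nat_lit 47) (nat_lit 3),
  Rule.mk (nat_lit 13) (nat_lit 53) (Steps.bwd (nat_lit 10) (Steps.fwd (nat_lit 6656) (Steps.bwd (nat_lit 10) (Steps.bwd (nat_lit 5) Steps.nil)))) (nat_lit 55) (nat_lit 3),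
  Rule.mk (nat_lit 6) (nat_lit 75) (Steps.bwd (nat_lit 14) (Steps.bwd (nat_lit 5) (Steps.fwd (nat_lit 3072) (Steps.bwd (nat_lit 7) (Steps.bwd (nat_lit 9) (Steps.bwd (nat_lit 13) Steps.nil)))))) (nat_lit 62) (nat_lit 2),
  Rule.mk (nat_lit 7) (nat_lit 53) (Steps.bwd (nat_lit 12) (Steps.bwd (nat_lit 5) (Steps.fwd (nat_lit 4096) (Steps.bwd (nat_lit 11) Steps.nil)))) (nat_lit 40) (nat_lit 2),
  Rule.mk (nat_lit 12) (nat_lit 97) (Steps.bwd (nat_lit 1) (Steps.fwd (nat_lit 2560) (Steps.fwd (nat_lit 5632) (Steps.bwd (nat_lit 1) (Steps.fwd (nat_lit 2560) (Steps.fwd (nat_lit 5632) (Steps.bwd (nat_lit 1) (Steps.fwd (nat_lit 2560) Steps.nil)))))))) (nat_lit 67) (nat_lit 1),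
  Rule.mk (nat_lit 14) (nat_lit 97) (Steps.bwd (nat_lit 1) (Steps.fwd (nat_lit 2560) (Steps.bwd (nat_lit 14) (Steps.fwd (nat_lit 1024) (Steps.fwd (nat_lit 2560) (Steps.fwd (nat_lit 6656) (Steps.bwd (nat_lit 1) (Steps.bwd (nat_lit 5) Steps.nil)))))))) (nat_lit 69) (nat_lit 1),
  Rule.mk (nat_lit 3) (nat_lit 42) (Steps.fwd (nat_lit 6656) (Steps.bwd (nat_lit 3) (Steps.bwd (nat_lit 14) Steps.nil))) (nat_lit 59) (nat_lit 0),
  Rule.mk (nat_lit 5) (nat_lit 53) (Steps.bwd (nat_lit 6) (Steps.fwd (nat_lit 6144) (Steps.fwd (nat_lit 4608) (Steps.bwd (nat_lit 12) Steps.nil)))) (nat_lit 47) (nat_lit 1),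
  Rule.mk (nat_lit 14) (nat_lit 64) (Steps.bwd (nat_lit 6) (Steps.fwd (nat_lit 7168) (Steps.bwd (nat_lit 7) (Steps.fwd (nat_lit 5120) (Steps.bwd (nat_lit 5) Steps.nil))))) (nat_lit 60) (nat_lit 5),
  Rule.mk (nat_lit 11) (nat_lit 42) (Steps.bwd (nat_lit 13) (Steps.bwd (nat_lit 12) (Steps.bwd (nat_lit 14) Steps.nil))) (nat_lit 64) (nat_lit 1),
  Rule.mk (nat_lit 1) (nat_lit 97) (Steps.bwd (nat_lit 5) (Steps.fwd (nat_lit 6656) (Steps.bwd (nat_lit 1) (Steps.bwd (nat_lit 5) (Steps.fwd (nat_lit 6656) (Steps.bwd (nat_lit 1) (Steps.bwd (nat_lit 5) (Steps.bwd (nat_lit 14) Steps.nil)))))))) (nat_lit 69) (nat_lit 2)]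
noncomputable def R_5 : List (Rule) := [Rule.mk (nat_lit 12) (nat_lit 42) (Steps.bwd (nat_lit 4) (Steps.bwd (nat_lit 12) (Steps.bwd (nat_lit 4) Steps.nil))) (nat_lit 45) (nat_lit 1),
  Rule.mk (nat_lit 13) (nat_lit 42) (Steps.fwd (nat_lit 2048) (Steps.bwd (nat_lit 14) (Steps.bwd (nat_lit 4) Steps.nil))) (nat_lit 56) (nat_lit 1),
  Rule.mk (nat_lit 11) (nat_lit 42) (Steps.bwd (nat_lit 3) (Steps.bwd (nat_lit 12) (Steps.fwd (nat_lit 1536) Steps.nil))) (nat_lit 42) (nat_lit 1),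
  Rule.mk (nat_lit 14) (nat_lit 42) (Steps.bwd (nat_lit 3) (Steps.fwd (nat_lit 6656) (Steps.fwd (nat_lit 1536) Steps.nil))) (nat_lit 59) (nat_lit 1),
  Rule.mk (nat_lit 1) (nat_lit 75) (Steps.bwd (nat_lit 3) (Steps.bwd (nat_lit 1) (Steps.fwd (nat_lit 1536) (Steps.bwd (nat_lit 1) (Steps.fwd (nat_lit 2560) (Steps.bwd (nat_lit 3) Steps.nil)))))) (nat_lit 10) (nat_lit 2),
  Rule.mk (nat_lit 13) (nat_lit 75) (Steps.bwd (nat_lit 6) (Steps.fwd (nat_lit 6656) (Steps.bwd (nat_lit 5) (Steps.fwd (nat_lit 3072) (Steps.fwd (nat_lit 4096) (Steps.fwd (nat_lit 5120) Steps.nil)))))) (nat_lit 62) (nat_lit 1),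
  Rule.mk (nat_lit 4) (nat_lit 42) (Steps.bwd (nat_lit 12) (Steps.fwd (nat_lit 2048) (Steps.fwd (nat_lit 5632) Steps.nil))) (nat_lit 45) (nat_lit 0),
  Rule.mk (nat_lit 9) (nat_lit 53) (Steps.bwd (nat_lit 12) (Steps.fwd (nat_lit 3072) (Steps.bwd (nat_lit 5) (Steps.bwd (nat_lit 11) Steps.nil)))) (nat_lit 46) (nat_lit 2),
  Rule.mk (nat_lit 10) (nat_lit 53) (Steps.bwd (nat_lit 12) (Steps.bwd (nat_lit 5) (Steps.fwd (nat_lit 3072) (Steps.bwd (nat_lit 11) Steps.nil)))) (nat_lit 47) (nat_lit 4),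
  Rule.mk (nat_lit 2) (nat_lit 53) (Steps.bwd (nat_lit 5) (Steps.bwd (nat_lit 10) (Steps.bwd (nat_lit 1) (Steps.bwd (nat_lit 4) Steps.nil)))) (nat_lit 35) (nat_lit 3),
  Rule.mk (nat_lit 14) (nat_lit 42) (Steps.bwd (nat_lit 10) (Steps.fwd (nat_lit 7168) (Steps.fwd (nat_lit 2560) Steps.nil))) (nat_lit 53) (nat_lit 0),
  Rule.mk (nat_lit 11) (nat_lit 53) (Steps.bwd (nat_lit 10) (Steps.bwd (nat_lit 12) (Steps.fwd (nat_lit 2560) (Steps.fwd (nat_lit 3072) Steps.nil)))) (nat_lit 47) (nat_lit 3),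
  Rule.mk (nat_lit 14) (nat_lit 53) (Steps.bwd (nat_lit 5) (Steps.bwd (nat_lit 9) (Steps.fwd (nat_lit 7168) (Steps.bwd (nat_lit 9) Steps.nil)))) (nat_lit 54) (nat_lit 3),
  Rule.mk (nat_lit 10) (nat_lit 53) (Steps.bwd (nat_lit 5) (Steps.fwd (nat_lit 7168) (Steps.bwd (nat_lit 10) (Steps.bwd (nat_lit 14) Steps.nil)))) (nat_lit 55) (nat_lit 1),
  Rule.mk (nat_lit 10) (nat_lit 42) (Steps.fwd (nat_lit 7168) (Steps.fwd (nat_lit 2560) (Steps.bwd (nat_lit 14) Steps.nil))) (nat_lit 53) (nat_lit 1),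
  Rule.mk (nat_lit 11) (nat_lit 42) (Steps.fwd (nat_lit 7168) (Steps.bwd (nat_lit 12) (Steps.bwd (nat_lit 14) Steps.nil))) (nat_lit 64) (nat_lit 1),
  Rule.mk (nat_lit 4) (nat_lit 64) (Steps.bwd (nat_lit 1) (Steps.fwd (nat_lit 3072) (Steps.fwd (nat_lit 2048) (Steps.bwd (nat_lit 6) (Steps.fwd (nat_lit 512) Steps.nil))))) (nat_lit 30) (nat_lit 5),
  Rule.mk (nat_lit 12) (nat_lit 97) (Steps.bwd (nat_lit 1) (Steps.bwd (nat_lit 5) (Steps.fwd (nat_lit 5632) (Steps.bwd (nat_lit 1) (Steps.bwd (nat_lit 5) (Steps.bwd (nat_lit 12) (Steps.bwd (nat_lit 1) (Steps.fwd (nat_lit 2560) Steps.nil)))))))) (nat_lit 67) (nat_lit 1),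
  Rule.mk (nat_lit 13) (nat_lit 42) (Steps.bwd (nat_lit 11) (Steps.fwd (nat_lit 6656) (Steps.bwd (nat_lit 12) Steps.nil))) (nat_lit 65) (nat_lit 1),
  Rule.mk (nat_lit 5) (nat_lit 42) (Steps.bwd (nat_lit 4) (Steps.bwd (nat_lit 5) (Steps.fwd (nat_lit 2048) Steps.nil))) (nat_lit 20) (nat_lit 0),
  Rule.mk (nat_lit 14) (nat_lit 42) (Steps.bwd (nat_lit 4) (Steps.fwd (nat_lit 7168) (Steps.bwd (nat_lit 4) Steps.nil))) (nat_lit 56) (nat_lit 3),
  Rule.mk (nat_lit 2) (nat_lit 75) (Steps.bwd (nat_lit 4) (Steps.fwd (nat_lit 512) (Steps.fwd (nat_lit 2048) (Steps.fwd (nat_lit 512) (Steps.bwd (nat_lit 4) (Steps.bwd (nat_lit 5) Steps.nil)))))) (nat_lit 13) (nat_lit 2),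
  Rule.mk (nat_lit 6) (nat_lit 42) (Steps.bwd (nat_lit 2) (Steps.bwd (nat_lit 6) (Steps.bwd (nat_lit 2) Steps.nil))) (nat_lit 25) (nat_lit 0),
  Rule.mk (nat_lit 9) (nat_lit 53) (Steps.fwd (nat_lit 6656) (Steps.bwd (nat_lit 5) (Steps.bwd (nat_lit 9) (Steps.bwd (nat_lit 13) Steps.nil)))) (nat_lit 54) (nat_lit 2),
  Rule.mk (nat_lit 4) (nat_lit 42) (Steps.bwd (nat_lit 13) (Steps.bwd (nat_lit 4) (Steps.fwd (nat_lit 6656) Steps.nil))) (nat_lit 56) (nat_lit 0),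
  Rule.mk (nat_lit 3) (nat_lit 42) (Steps.bwd (nat_lit 13) (Steps.bwd (nat_lit 3) (Steps.fwd (nat_lit 7168) Steps.nil))) (nat_lit 58) (nat_lit 1),
  Rule.mk (nat_lit 12) (nat_lit 42) (Steps.bwd (nat_lit 13) (Steps.fwd (nat_lit 6144) (Steps.bwd (nat_lit 14) Steps.nil))) (nat_lit 65) (nat_lit 0),
  Rule.mk (nat_lit 5) (nat_lit 53) (Steps.bwd (nat_lit 13) (Steps.bwd (nat_lit 10) (Steps.bwd (nat_lit 14) (Steps.bwd (nat_lit 10) Steps.nil)))) (nat_lit 55) (nat_lit 2),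
  Rule.mk (nat_lit 2) (nat_lit 97) (Steps.bwd (nat_lit 13) (Steps.bwd (nat_lit 5) (Steps.fwd (nat_lit 512) (Steps.bwd (nat_lit 13) (Steps.fwd (nat_lit 2560) (Steps.fwd (nat_lit 512) (Steps.fwd (nat_lit 7168) (Steps.bwd (nat_lit 5) Steps.nil)))))))) (nat_lit 68) (nat_lit 2),
  Rule.mk (nat_lit 12) (nat_lit 42) (Steps.bwd (nat_lit 7) (Steps.fwd (nat_lit 6144) (Steps.bwd (nat_lit 5) Steps.nil))) (nat_lit 38) (nat_lit 3),
  Rule.mk (nat_lit 4) (nat_lit 42) (Steps.bwd (nat_lit 14) (Steps.bwd (nat_lit 4) (Steps.fwd (nat_lit 7168) Steps.nil))) (nat_lit 56) (nat_lit 2),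
  Rule.mk (nat_lit 12) (nat_lit 42) (Steps.bwd (nat_lit 14) (Steps.bwd (nat_lit 11) (Steps.fwd (nat_lit 7168) Steps.nil))) (nat_lit 64) (nat_lit 3),
  Rule.mk (nat_lit 2) (nat_lit 42) (Steps.fwd (nat_lit 3072) (Steps.bwd (nat_lit 2) (Steps.bwd (nat_lit 6) Steps.nil))) (nat_lit 25) (nat_lit 1),
  Rule.mk (nat_lit 7) (nat_lit 75) (Steps.fwd (nat_lit 5120) (Steps.bwd (nat_lit 11) (Steps.fwd (nat_lit 3072) (Steps.bwd (nat_lit 12) (Steps.bwd (nat_lit 5) (Steps.bwd (nat_lit 6) Steps.nil)))))) (nat_lit 48) (nat_lit 6),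
  Rule.mk (nat_lit 2) (nat_lit 53) (Steps.bwd (nat_lit 7) (Steps.bwd (nat_lit 5) (Steps.fwd (nat_lit 1024) (Steps.fwd (nat_lit 1536) Steps.nil)))) (nat_lit 32) (nat_lit 0),
  Rule.mk (nat_lit 8) (nat_lit 53) (Steps.bwd (nat_lit 12) (Steps.fwd (nat_lit 3584) (Steps.fwd (nat_lit 2560) (Steps.bwd (nat_lit 11) Steps.nil)))) (nat_lit 41) (nat_lit 4),
  Rule.mk (nat_lit 2) (nat_lit 42) (Steps.bwd (nat_lit 5) (Steps.fwd (nat_lit 1024) (Steps.bwd (nat_lit 5) Steps.nil))) (nat_lit 8) (nat_lit 3),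
  Rule.mk (nat_lit 1) (nat_lit 42) (Steps.bwd (nat_lit 5) (Steps.bwd (nat_lit 2) (Steps.bwd (nat_lit 5) Steps.nil))) (nat_lit 8) (nat_lit 1),
  Rule.mk (nat_lit 6) (nat_lit 42) (Steps.bwd (nat_lit 5) (Steps.fwd (nat_lit 3072) (Steps.fwd (nat_lit 2560) Steps.nil))) (nat_lit 26) (nat_lit 1),
  Rule.mk (nat_lit 11) (nat_lit 42) (Steps.bwd (nat_lit 5) (Steps.fwd (nat_lit 5632) (Steps.bwd (nat_lit 7) Steps.nil))) (nat_lit 38) (nat_lit 1),
  Rule.mk (nat_lit 7) (nat_lit 53) (Steps.bwd (nat_lit 5) (Steps.fwd (nat_lit 1024) (Steps.bwd (nat_lit 3) (Steps.bwd (nat_lit 2) Steps.nil)))) (nat_lit 32) (nat_lit 1),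
  Rule.mk (nat_lit 9) (nat_lit 53) (Steps.bwd (nat_lit 5) (Steps.fwd (nat_lit 1024) (Steps.fwd (nat_lit 2048) (Steps.fwd (nat_lit 512) Steps.nil)))) (nat_lit 34) (nat_lit 1),
  Rule.mk (nat_lit 9) (nat_lit 75) (Steps.fwd (nat_lit 6144) (Steps.bwd (nat_lit 6) (Steps.bwd (nat_lit 12) (Steps.bwd (nat_lit 5) (Steps.fwd (nat_lit 3072) (Steps.bwd (nat_lit 7) Steps.nil)))))) (nat_lit 48) (nat_lit 0),
  Rule.mk (nat_lit 13) (nat_lit 42) (Steps.bwd (nat_lit 3) (Steps.fwd (nat_lit 7168) (Steps.fwd (nat_lit 1536) Steps.nil))) (nat_lit 58) (nat_lit 0),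
  Rule.mk (nat_lit 1) (nat_lit 53) (Steps.bwd (nat_lit 3) (Steps.bwd (nat_lit 2) (Steps.fwd (nat_lit 4096) (Steps.bwd (nat_lit 5) Steps.nil)))) (nat_lit 32) (nat_lit 3),
  Rule.mk (nat_lit 2) (nat_lit 75) (Steps.bwd (nat_lit 3) (Steps.fwd (nat_lit 2560) (Steps.fwd (nat_lit 512) (Steps.fwd (nat_lit 1536) (Steps.fwd (nat_lit 512) (Steps.fwd (nat_lit 1536) Steps.nil)))))) (nat_lit 11) (nat_lit 6),
  Rule.mk (nat_lit 6) (nat_lit 42) (Steps.fwd (nat_lit 512) (Steps.bwd (nat_lit 6) (Steps.bwd (nat_lit 2) Steps.nil))) (nat_lit 25) (nat_lit 0),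
  Rule.mk (nat_lit 7) (nat_lit 53) (Steps.fwd (nat_lit 2560) (Steps.bwd (nat_lit 1) (Steps.fwd (nat_lit 1536) (Steps.bwd (nat_lit 2) Steps.nil)))) (nat_lit 32) (nat_lit 1),
  Rule.mk (nat_lit 9) (nat_lit 53) (Steps.bwd (nat_lit 5) (Steps.bwd (nat_lit 1) (Steps.fwd (nat_lit 2048) (Steps.bwd (nat_lit 2) Steps.nil)))) (nat_lit 34) (nat_lit 1),
  Rule.mk (nat_lit 14) (nat_lit 42) (Steps.bwd (nat_lit 9) (Steps.bwd (nat_lit 13) (Steps.bwd (nat_lit 5) Steps.nil))) (nat_lit 52) (nat_lit 3),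
  Rule.mk (nat_lit 7) (nat_lit 64) (Steps.bwd (nat_lit 9) (Steps.bwd (nat_lit 5) (Steps.fwd (nat_lit 6656) (Steps.fwd (nat_lit 3072) (Steps.bwd (nat_lit 13) Steps.nil))))) (nat_lit 60) (nat_lit 2),
  Rule.mk (nat_lit 10) (nat_lit 42) (Steps.bwd (nat_lit 13) (Steps.bwd (nat_lit 5) (Steps.bwd (nat_lit 14) Steps.nil))) (nat_lit 53) (nat_lit 1),
  Rule.mk (nat_lit 3) (nat_lit 42) (Steps.bwd (nat_lit 4) (Steps.bwd (nat_lit 3) (Steps.fwd (nat_lit 2048) Steps.nil))) (nat_lit 14) (nat_lit 1),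
  Rule.mk (nat_lit 12) (nat_lit 42) (Steps.bwd (nat_lit 4) (Steps.fwd (nat_lit 5632) (Steps.fwd (nat_lit 2048) Steps.nil))) (nat_lit 45) (nat_lit 1),
  Rule.mk (nat_lit 13) (nat_lit 42) (Steps.bwd (nat_lit 4) (Steps.fwd (nat_lit 6656) (Steps.fwd (nat_lit 2048) Steps.nil))) (nat_lit 56) (nat_lit 1),
  Rule.mk (nat_lit 1) (nat_lit 53) (Steps.bwd (nat_lit 4) (Steps.fwd (nat_lit 512) (Steps.bwd (nat_lit 9) (Steps.bwd (nat_lit 5) Steps.nil)))) (nat_lit 34) (nat_lit 3),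
  Rule.mk (nat_lit 2) (nat_lit 64) (Steps.bwd (nat_lit 4) (Steps.fwd (nat_lit 1024) (Steps.fwd (nat_lit 3072) (Steps.bwd (nat_lit 4) (Steps.fwd (nat_lit 3072) Steps.nil))))) (nat_lit 30) (nat_lit 4),
  Rule.mk (nat_lit 11) (nat_lit 53) (Steps.bwd (nat_lit 9) (Steps.bwd (nat_lit 12) (Steps.bwd (nat_lit 6) (Steps.bwd (nat_lit 5) Steps.nil)))) (nat_lit 46) (nat_lit 1),
  Rule.mk (nat_lit 7) (nat_lit 64) (Steps.bwd (nat_lit 9) (Steps.fwd (nat_lit 2560) (Steps.bwd (nat_lit 14) (Steps.fwd (nat_lit 3072) (Steps.fwd (nat_lit 7168) Steps.nil))))) (nat_lit 60) (nat_lit 2),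
  Rule.mk (nat_lit 7) (nat_lit 53) (Steps.bwd (nat_lit 12) (Steps.bwd (nat_lit 5) (Steps.bwd (nat_lit 7) (Steps.bwd (nat_lit 11) Steps.nil)))) (nat_lit 40) (nat_lit 2),
  Rule.mk (nat_lit 10) (nat_lit 53) (Steps.bwd (nat_lit 12) (Steps.fwd (nat_lit 2560) (Steps.fwd (nat_lit 3072) (Steps.bwd (nat_lit 11) Steps.nil)))) (nat_lit 47) (nat_lit 4),
  Rule.mk (nat_lit 11) (nat_lit 42) (Steps.bwd (nat_lit 4) (Steps.bwd (nat_lit 11) (Steps.bwd (nat_lit 4) Steps.nil))) (nat_lit 44) (nat_lit 0),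
  Rule.mk (nat_lit 12) (nat_lit 42) (Steps.bwd (nat_lit 4) (Steps.bwd (nat_lit 12) (Steps.fwd (nat_lit 2048) Steps.nil))) (nat_lit 45) (nat_lit 1),
  Rule.mk (nat_lit 13) (nat_lit 42) (Steps.bwd (nat_lit 4) (Steps.fwd (nat_lit 6656) (Steps.bwd (nat_lit 4) Steps.nil))) (nat_lit 56) (nat_lit 1)]
noncomputable def R_6 : List (Rule) := [Rule.mk (nat_lit 1) (nat_lit 53) (Steps.bwd (nat_lit 4) (Steps.bwd (nat_lit 2) (Steps.bwd (nat_lit 9) (Steps.bwd (nat_lit 5) Steps.nil)))) (nat_lit 34) (nat_lit 3),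
  Rule.mk (nat_lit 2) (nat_lit 75) (Steps.bwd (nat_lit 4) (Steps.fwd (nat_lit 2560) (Steps.fwd (nat_lit 512) (Steps.bwd (nat_lit 4) (Steps.bwd (nat_lit 2) (Steps.fwd (nat_lit 2048) Steps.nil)))))) (nat_lit 13) (nat_lit 6),
  Rule.mk (nat_lit 8) (nat_lit 75) (Steps.bwd (nat_lit 6) (Steps.fwd (nat_lit 2560) (Steps.bwd (nat_lit 11) (Steps.fwd (nat_lit 3072) (Steps.bwd (nat_lit 12) (Steps.fwd (nat_lit 4608) Steps.nil)))))) (nat_lit 49) (nat_lit 2),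
  Rule.mk (nat_lit 7) (nat_lit 64) (Steps.bwd (nat_lit 9) (Steps.fwd (nat_lit 2560) (Steps.fwd (nat_lit 6656) (Steps.bwd (nat_lit 6) (Steps.bwd (nat_lit 13) Steps.nil))))) (nat_lit 60) (nat_lit 2),
  Rule.mk (nat_lit 3) (nat_lit 42) (Steps.bwd (nat_lit 12) (Steps.bwd (nat_lit 3) (Steps.bwd (nat_lit 11) Steps.nil))) (nat_lit 42) (nat_lit 2),
  Rule.mk (nat_lit 7) (nat_lit 64) (Steps.fwd (nat_lit 5120) (Steps.bwd (nat_lit 5) (Steps.bwd (nat_lit 14) (Steps.fwd (nat_lit 3072) (Steps.bwd (nat_lit 13) Steps.nil))))) (nat_lit 60) (nat_lit 2),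
  Rule.mk (nat_lit 2) (nat_lit 53) (Steps.bwd (nat_lit 7) (Steps.bwd (nat_lit 5) (Steps.bwd (nat_lit 1) (Steps.bwd (nat_lit 3) Steps.nil)))) (nat_lit 32) (nat_lit 0),
  Rule.mk (nat_lit 14) (nat_lit 42) (Steps.bwd (nat_lit 10) (Steps.fwd (nat_lit 7168) (Steps.bwd (nat_lit 5) Steps.nil))) (nat_lit 53) (nat_lit 0),
  Rule.mk (nat_lit 11) (nat_lit 53) (Steps.bwd (nat_lit 10) (Steps.bwd (nat_lit 12) (Steps.fwd (nat_lit 2560) (Steps.bwd (nat_lit 6) Steps.nil)))) (nat_lit 47) (nat_lit 3),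
  Rule.mk (nat_lit 13) (nat_lit 53) (Steps.bwd (nat_lit 10) (Steps.fwd (nat_lit 6656) (Steps.bwd (nat_lit 10) (Steps.fwd (nat_lit 2560) Steps.nil)))) (nat_lit 55) (nat_lit 3),
  Rule.mk (nat_lit 12) (nat_lit 75) (Steps.bwd (nat_lit 10) (Steps.bwd (nat_lit 8) (Steps.fwd (nat_lit 3072) (Steps.fwd (nat_lit 2560) (Steps.bwd (nat_lit 11) (Steps.fwd (nat_lit 3072) Steps.nil)))))) (nat_lit 49) (nat_lit 0),
  Rule.mk (nat_lit 7) (nat_lit 42) (Steps.fwd (nat_lit 6144) (Steps.bwd (nat_lit 5) (Steps.bwd (nat_lit 12) Steps.nil))) (nat_lit 38) (nat_lit 0),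
  Rule.mk (nat_lit 8) (nat_lit 42) (Steps.fwd (nat_lit 6144) (Steps.bwd (nat_lit 5) (Steps.bwd (nat_lit 12) Steps.nil))) (nat_lit 39) (nat_lit 1),
  Rule.mk (nat_lit 3) (nat_lit 42) (Steps.fwd (nat_lit 6144) (Steps.bwd (nat_lit 3) (Steps.bwd (nat_lit 12) Steps.nil))) (nat_lit 42) (nat_lit 0),
  Rule.mk (nat_lit 10) (nat_lit 75) (Steps.bwd (nat_lit 8) (Steps.fwd (nat_lit 3072) (Steps.fwd (nat_lit 2560) (Steps.fwd (nat_lit 6144) (Steps.fwd (nat_lit 3072) (Steps.bwd (nat_lit 12) Steps.nil)))))) (nat_lit 49) (nat_lit 1),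
  Rule.mk (nat_lit 14) (nat_lit 64) (Steps.bwd (nat_lit 6) (Steps.fwd (nat_lit 7168) (Steps.bwd (nat_lit 7) (Steps.fwd (nat_lit 5120) (Steps.fwd (nat_lit 2560) Steps.nil))))) (nat_lit 60) (nat_lit 5),
  Rule.mk (nat_lit 13) (nat_lit 75) (Steps.bwd (nat_lit 6) (Steps.fwd (nat_lit 6656) (Steps.bwd (nat_lit 5) (Steps.fwd (nat_lit 3072) (Steps.bwd (nat_lit 7) (Steps.bwd (nat_lit 9) Steps.nil)))))) (nat_lit 62) (nat_lit 1),
  Rule.mk (nat_lit 8) (nat_lit 75) (Steps.bwd (nat_lit 6) (Steps.bwd (nat_lit 5) (Steps.fwd (nat_lit 7168) (Steps.bwd (nat_lit 6) (Steps.bwd (nat_lit 14) (Steps.bwd (nat_lit 10) Steps.nil)))))) (nat_lit 63) (nat_lit 2),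
  Rule.mk (nat_lit 12) (nat_lit 75) (Steps.fwd (nat_lit 2560) (Steps.fwd (nat_lit 3072) (Steps.fwd (nat_lit 4096) (Steps.fwd (nat_lit 5120) (Steps.bwd (nat_lit 11) (Steps.bwd (nat_lit 6) Steps.nil)))))) (nat_lit 48) (nat_lit 3),
  Rule.mk (nat_lit 8) (nat_lit 53) (Steps.bwd (nat_lit 1) (Steps.bwd (nat_lit 3) (Steps.fwd (nat_lit 512) (Steps.bwd (nat_lit 5) Steps.nil)))) (nat_lit 33) (nat_lit 0),
  Rule.mk (nat_lit 3) (nat_lit 64) (Steps.bwd (nat_lit 1) (Steps.bwd (nat_lit 6) (Steps.bwd (nat_lit 3) (Steps.bwd (nat_lit 6) (Steps.fwd (nat_lit 512) Steps.nil))))) (nat_lit 28) (nat_lit 5),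
  Rule.mk (nat_lit 12) (nat_lit 97) (Steps.bwd (nat_lit 1) (Steps.fwd (nat_lit 2560) (Steps.fwd (nat_lit 5632) (Steps.bwd (nat_lit 1) (Steps.bwd (nat_lit 5) (Steps.fwd (nat_lit 5632) (Steps.bwd (nat_lit 1) (Steps.fwd (nat_lit 2560) Steps.nil)))))))) (nat_lit 67) (nat_lit 1),
  Rule.mk (nat_lit 14) (nat_lit 97) (Steps.bwd (nat_lit 1) (Steps.fwd (nat_lit 2560) (Steps.fwd (nat_lit 6656) (Steps.fwd (nat_lit 1024) (Steps.fwd (nat_lit 2560) (Steps.bwd (nat_lit 14) (Steps.fwd (nat_lit 1024) (Steps.bwd (nat_lit 5) Steps.nil)))))))) (nat_lit 69) (nat_lit 1),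
  Rule.mk (nat_lit 7) (nat_lit 53) (Steps.bwd (nat_lit 12) (Steps.bwd (nat_lit 5) (Steps.fwd (nat_lit 4096) (Steps.fwd (nat_lit 6144) Steps.nil)))) (nat_lit 40) (nat_lit 2),
  Rule.mk (nat_lit 8) (nat_lit 42) (Steps.bwd (nat_lit 11) (Steps.fwd (nat_lit 2560) (Steps.fwd (nat_lit 5632) Steps.nil))) (nat_lit 39) (nat_lit 1),
  Rule.mk (nat_lit 5) (nat_lit 53) (Steps.bwd (nat_lit 11) (Steps.bwd (nat_lit 8) (Steps.bwd (nat_lit 12) (Steps.bwd (nat_lit 8) Steps.nil)))) (nat_lit 41) (nat_lit 2),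
  Rule.mk (nat_lit 7) (nat_lit 42) (Steps.bwd (nat_lit 11) (Steps.bwd (nat_lit 5) (Steps.fwd (nat_lit 5632) Steps.nil))) (nat_lit 38) (nat_lit 0),
  Rule.mk (nat_lit 8) (nat_lit 42) (Steps.bwd (nat_lit 11) (Steps.bwd (nat_lit 5) (Steps.fwd (nat_lit 5632) Steps.nil))) (nat_lit 39) (nat_lit 1),
  Rule.mk (nat_lit 4) (nat_lit 42) (Steps.bwd (nat_lit 11) (Steps.fwd (nat_lit 2048) (Steps.fwd (nat_lit 6144) Steps.nil))) (nat_lit 44) (nat_lit 1),
  Rule.mk (nat_lit 13) (nat_lit 42) (Steps.bwd (nat_lit 11) (Steps.bwd (nat_lit 14) (Steps.fwd (nat_lit 5632) Steps.nil))) (nat_lit 65) (nat_lit 1),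
  Rule.mk (nat_lit 6) (nat_lit 53) (Steps.bwd (nat_lit 11) (Steps.bwd (nat_lit 10) (Steps.bwd (nat_lit 12) (Steps.bwd (nat_lit 5) Steps.nil)))) (nat_lit 47) (nat_lit 2),
  Rule.mk (nat_lit 9) (nat_lit 75) (Steps.bwd (nat_lit 11) (Steps.fwd (nat_lit 3072) (Steps.fwd (nat_lit 5632) (Steps.bwd (nat_lit 5) (Steps.bwd (nat_lit 6) (Steps.bwd (nat_lit 7) Steps.nil)))))) (nat_lit 48) (nat_lit 0),
  Rule.mk (nat_lit 2) (nat_lit 97) (Steps.bwd (nat_lit 11) (Steps.bwd (nat_lit 5) (Steps.bwd (nat_lit 2) (Steps.fwd (nat_lit 6144) (Steps.fwd (nat_lit 2560) (Steps.bwd (nat_lit 2) (Steps.bwd (nat_lit 11) (Steps.fwd (nat_lit 2560) Steps.nil)))))))) (nat_lit 66) (nat_lit 2),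
  Rule.mk (nat_lit 3) (nat_lit 53) (Steps.bwd (nat_lit 2) (Steps.bwd (nat_lit 7) (Steps.bwd (nat_lit 5) (Steps.bwd (nat_lit 1) Steps.nil)))) (nat_lit 32) (nat_lit 4),
  Rule.mk (nat_lit 12) (nat_lit 42) (Steps.bwd (nat_lit 3) (Steps.bwd (nat_lit 11) (Steps.bwd (nat_lit 3) Steps.nil))) (nat_lit 42) (nat_lit 3),
  Rule.mk (nat_lit 13) (nat_lit 42) (Steps.fwd (nat_lit 1536) (Steps.fwd (nat_lit 7168) (Steps.bwd (nat_lit 3) Steps.nil))) (nat_lit 58) (nat_lit 0),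
  Rule.mk (nat_lit 9) (nat_lit 42) (Steps.bwd (nat_lit 13) (Steps.bwd (nat_lit 5) (Steps.bwd (nat_lit 14) Steps.nil))) (nat_lit 52) (nat_lit 0),
  Rule.mk (nat_lit 8) (nat_lit 64) (Steps.fwd (nat_lit 6656) (Steps.fwd (nat_lit 3072) (Steps.fwd (nat_lit 7168) (Steps.bwd (nat_lit 5) (Steps.bwd (nat_lit 10) Steps.nil))))) (nat_lit 61) (nat_lit 5),
  Rule.mk (nat_lit 7) (nat_lit 64) (Steps.bwd (nat_lit 9) (Steps.bwd (nat_lit 5) (Steps.bwd (nat_lit 14) (Steps.bwd (nat_lit 6) (Steps.bwd (nat_lit 13) Steps.nil))))) (nat_lit 60) (nat_lit 2),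
  Rule.mk (nat_lit 7) (nat_lit 53) (Steps.bwd (nat_lit 5) (Steps.fwd (nat_lit 1024) (Steps.fwd (nat_lit 1536) (Steps.fwd (nat_lit 512) Steps.nil)))) (nat_lit 32) (nat_lit 1),
  Rule.mk (nat_lit 9) (nat_lit 53) (Steps.bwd (nat_lit 5) (Steps.fwd (nat_lit 1024) (Steps.bwd (nat_lit 4) (Steps.bwd (nat_lit 2) Steps.nil)))) (nat_lit 34) (nat_lit 1),
  Rule.mk (nat_lit 8) (nat_lit 53) (Steps.bwd (nat_lit 5) (Steps.fwd (nat_lit 6144) (Steps.bwd (nat_lit 8) (Steps.fwd (nat_lit 5632) Steps.nil)))) (nat_lit 41) (nat_lit 1),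
  Rule.mk (nat_lit 14) (nat_lit 53) (Steps.bwd (nat_lit 5) (Steps.fwd (nat_lit 5120) (Steps.fwd (nat_lit 7168) (Steps.fwd (nat_lit 5120) Steps.nil)))) (nat_lit 54) (nat_lit 3)]
noncomputable def R : List (List (Rule)) := [R_0, R_1, R_2, R_3, R_4, R_5, R_6]
def LW : List Word := [[], [0], [1], [2], [4], [6], [8], [10], [11], [12], [13], [14], [15], [16], [17], [0], [1], [2], [3], [4], [5], [6], [7], [8], [9], [10], [11], [12], [13]]
def par : Par := ⟨9, 5, 14, 23, 511, 16383, 8388607⟩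
theorem hpar : par.ok := by decide
theorem hR0_0 : lall (R) (fun l => lall l (ruleOK Rf' LW par)) = true := by decide +kernel
theorem hR0 : lall (R) (fun l => lall l (ruleOK Rf' LW par)) = true := hR0_0
theorem hR : RulesOK Rf' LW par R := rulesOK_of rfl hR0
def cols : List (ℕ × ℕ) := [(512, 2), (1536, 3), (2048, 4), (2560, 5), (3072, 6), (3584, 8), (4608, 10), (5632, 12), (6656, 14)]
theorem hcols : lall cols (colOK Rf' LW par) = true := by decide +kernel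
noncomputable def JS0 : List ℕ := [nat_lit 0x1121c0382204386c4300210c1a0000044301810c014222140c016034214202100a8840060f10a21c418640280f104180082104085c400131000d1000200200500c2002c1fc028040fe150fc0080207e0a00a0fc1f4261f00007c090000021f00907c006110f6048078100f6100f40383d001078790221e41c1e007878068030160300680e0060c004034060020580101403000828000760480b0ea1d0101cc01873038720061c80c00c000010e401839014388030e2000081c001870002030de01837808370030dc01,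
  nat_lit 0x229060288030a2178311442845c2881c0a90602845a2801783505e28054014500a713e2c13e2984f0011589d064274000a44e030138281380c81a0321382a1360cc4d8001489a062268502680500b01203c4d0584c80e0102642a2600480d130141360244b89c1380912c2112c00c4a8984c0081282512601049848498921200303800c462440400700c02c488584800a00a2402a23c0280911e14018018470884980611a210142344608045801116120060741081e03e00c3e0080e8020060003c0040d81d0021d,
  nat_lit 0x1823400e00c020bd2080200a008018f80183806600c640081b833004310022ec602e4030b91782e1722e05c2e01682c05a2e07e2e0230310582dc542d8150b60043e0082d8178b5200b505c2d0000a45982e16628166104218411663f164108590001f0b10802c450064000020263d0040545880a00a004782bc008141603b0020000702057843084140268b800a01074014060ae16c010018e40201115c118018021c001006028038dc0100f0040006c004080011a8001543400c00c020a61980200c008018a40183a06c00c640081c83600431,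
  nat_lit 0x500400c6c0cc0185109600c640082804b0043100235c60354038d5178461aa3505c3542b04a08a3507e3583104a08834c5401c698481a44a1a411c688021f00a1a611c681006904619e00052338230ce140cf0ac36c278ce2680519c36866930668d91980009632c288cb140cc0b0158290cb1f80219615465128650541920007c320280c8140c80b0320500040b01302a00092000011206380001a31c09016238c600001401804230c60820fc358681a2014021140281218c158020031c8040183101f003004440060400180121800004028031080081000235,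
  nat_lit 0x200a3ccc600c798f2310021e43c4c200478180018630c21947897c0104b1e05e002170779740005d1dc3b4b8174768001d85b1d8184760340387f1e65a00c1f0788250523acb2014328ee0340a0751600500b0463a4ae028110e80045602804c0b8e72601202c3980012c728231ca281d6390600140c80c01436016060020032a8e20de1cc711507086e0d8384a6394360e0280df0d837ca438c6f14470862008500080286f8550060089e00c080e01d800800938000020100146e004088011a8001b834,
  nat_lit 0x140200b21c7d042024869f03900b21821004014859ec0f00a2147a01e004848480090812108000010069e40101c012780020700408c0001c000414ee06003001000414821d80010300245c039d40201b008408e81dc0110139905000400e40003c105388730ea448378021fe70204050800001fc6f000010381a8018fd0d8fc00a3f0dc3ec028fb36803002014019b00200500c428d600c7d00f1f46a000008041a4008071ee6800000c0019c7b00300a3d4cc00c028f600c0147a9942a0f61e864,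
  nat_lit 0x12704807893a600292e03c4992e0540d9254b126248510000081201402a4a12a0002d8004a132098140368012449302c488908b800003244024272489080603448122000031224811f0080d00223c8f82f23e4791c1000211d4691c008471084740211b4602c2364691600c00228008020868923009416025230880060240782422e8706e46002917430010240088b2148a80222a8422e0008a20c8b0142562fc5983806e4510444c181130711206a4481a008040050ea0510205c038002228001203806912222440fe0548891021e7e,
  nat_lit 0x160a5942568000025600e811020ac000224002ac4407f0440200504e2a25015405ca604b0be4fd5251c1904927ca80061dca901f538020ea1f00f2980087300e71000018381c83205f1140409d2949c80800a0209ca909e13a270a30080189ba88a100d26ca10001b8000340093d0c017431a809a0330564d0a80989f1334b1340624c93e01c98a780285402e4d40aa749982c262024061304e12f0080f80223c9882a2624b91c4b4011382649102a0a49792c4d8760184ad340a09692a458010cc0041a01c00070008060c499,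
  nat_lit 0xb0020579920600515d0300502411cb5053641600d6150298540d6580ae31c0380e2da0dc0f95b630a203a070ad3140187f2ba565881403395c2b0c3020058aba34ae81a2ac8c2d4564aab081316109222c02804608060e01d400300001560ecbf020024041562b05497c07c1182e2b25457a540131562a0bc06c53d140c420801010bb0020f032ae80000729cb906e1e03f084134531700400a81310652d6e0484114a0060016c0144988f292b500823c4b1485a00311651d66008469465900001e040192c40400b0280b0a69455808a1201e03c833288af00a0eca6831286ae,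
  nat_lit 0x1780045e1c45e06b978708071c05dc4c5d870176128052ea2400600002804334041c000c6d803008df00434401378008db002dd00037000368ca80b2e4024051706e0050100180496f6d8001a4001b4324b816e2f0020085b4e2008b696c6c8012d85adb0000b535c018c52d6d6004354b5354b48da2d25a1a80006a9682ced31aa59c00166691661b059802114b8168008001a20080480a006d0084110bf8282ca0019e58c090002c60219c01806889002000b1334078882cc0140316166176114038b032c1b1612beca,
  nat_lit 0x4369f001008820048649ee64411825046645ec33cc9005322d2002014011907a98f00463dc46400018e4198f0146e8a493e360340c73d0c68cd31a02318338c60040101531a710080ac0218b79800314009e401cc500f018625e203009004000621e00280880930eef03e02c0218677004046010c2bb47c004308ec30a004c1bacc4003304ea00003c071836f81a00a60432388031807481800c5fc1c01cbf97e740062fc5f5ce020078007300000e039ca018058062f6e41be5ecbd38c058022f284,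
  nat_lit 0x3c8841cd783306c148d6418d90230626ae0a01c00090000061f8f800e0e4d701b35e6a6086a0010050046a1ec6a0009a72d01e34d0300273c0c9ab810001f2001b43e07c9482ac74005008349010000ccd200400e68cb068cd10c0060e91d0006000187f904000140000147e3fcd002103008ccf8a8d01a1058678946741619d000bb33a690ce3f8050e81c800100000048e31f2fd3360181519a7e00000c671f66640202e008fa3320cccc9985d8d800865df26600219675195008655c40b0ca9946100300024,
  nat_lit 0x5e7204872c0b9f805201000c4c10012022009000041783000312062000480000e82105d113880200b1c37e0163850320e088109c28800504e718e0a6c03018380f9392074dfc3c0401837d0e37a078deb88e501e3790d048700dda2c099131fe006180487e8ff0010b00208c8a9181ee3fa146e0e183d3710937a0f8db940091c136d0805e6d53c0182002f37a8500043803b548880600a6cda46c80183d0588f0540e0d91b1620010ac6c4d826c0b00335e8437c6bcd722c0011500001,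
  nat_lit 0x30a6144f1ad4010533e278a463bc2c1e1910011a8354ff8b73c3210a27f4f04806a9e13c11f0027b43fc78001e0014b90ae4d09312129877a3a0a09014b3ba6c04e4988f9dc0a8072804f8edc700313e29076828048a19d93d8042707604000c9d9d70902f3ad1b00401ceb84204407a340041404c3c0df000094487600280b27e490231de3a719022188288463ba74a300780f84a3a2373b8740601ec1280050803002038880263a717000740ea8268b00e0300e0e6c54068180547322872c188363961400c0c8e50940283339212,
  nat_lit 0x7a046780f4228af1521f1010073f73b1742eca013a45207c031fa9d0041ea89cff4e40a84f03e7f800b20008680e8088148089c0000ce8300a8743606f0287da6e880718143eb363ea018051f49a8121c231c024d00000f3f4070084cc06848048006640300d8210013100200c134c0000011952f0067c8079ee970000648423e0bc2b856404008f6cb40600a01e7bc019ec960043d87ac5c0086a06d6f0011a801a5600002ca8698ee42c4307180c0047a25200c660c3412844f44a01b8f23cee1012378f349c2d0073cd2617079cf2b8c01a0c1b601a4a00874a0700b24,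
  nat_lit 0x4016803216a70600360050ad3401138004851a800d138195580f26a000c6000070240480600e8469888c0aa10a580302c08c195280510821283e920252111741d480f044d0688807913419470123290584806a0a8d81c0360a4158050014600283d05168000221800d0160300300740f450be099035108d20d40b43420001ae00405036a100001489e828100601740e8085a0150100640c80454819000c000a0f0a42950ea1501603680000371029fa0d07a0fc019fe9f0031a200cfecf4029fd3f8ad,
  nat_lit 0xa086c20243d08711294d18ae1208b54612229c94917d811f8b745d5f0020501ed79180180560340503806e8b6ba0340b8184595c4b00e515d6c0a8364555a0540b514d641aa286b8050c40a5b200c1f84d04f580040a8131c400053031574641151800b44a892ac0f806a236506201c88aaa3bc04a210400f444882a8025108016c808440001b000c9900da98022681bdbc0049a80b6a80044e2449e3e114a2702a0290da1aa901d02601c02a19a88030cc39ea000830022a780106448,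
  nat_lit 0xb825a5b01893ef29843200c49d7818403126ddc24005498c92c002d25dd83500b4940708a92924dd40084509b740f62ac388720037308612c005c80104d09e1c2e20042a0684af7000093c275bc290444981301fa43b705a0de0e5215b45b03b4836c2a09212050c2383b47e1a0060391f8014e4196d6050aa80f47ced28a0980523d8824b04c0211e5a80782200e8eed22891da3a4d0660128e6d003403a38b384e0128ddd48ec02236b300a0028d6ca010258450396403401c04000b180100e06c8a85102b62,
  nat_lit 0x21380089ae7a034a60800f89e800e3c0113e02b8e0024e43f634001380fb8c26a15d3885c00699f169ac048064cd8a0d013133265c4a84006993100154b053348030609b00061c0080802e1c82a618538454c22701610d300841483f4bf8508697a360193e0d14c4b51002bc12a60001840040dc14a5f2184208e5043e811001834b42380025a018ce0680c02705b4da967041581b0394b18118a2312be00a0a6c4ad7f0ec1e52adf83da684a80700404036829be8010169983d5f03b8ad0740a400dec0906604c002f40012aa5604ed0,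
  nat_lit 0x443707310a20544680048150f8a1f3e2c03e286cf0e10faa15aca2548284ce85f0c6a0daa1fd48282ce07e51ea07361d1400240080a02c67000a000ac340688201e9fb342a808a7da99110229f1ac2a005a7b6a8170209eb3205807a790080a4f06050c51ca5000cc0021f8574f00047601311800122481fa3603085008a03c04a74cb88610e0841128301e02139e581401b0129cd3965439a810009c728004b689dc70002ee200d25d43427b0009bc01e4d3d06919a0040126ec903306e109398074db9152a3886f8084d990,
  nat_lit 0xe08a0455407423410152a9fd58463321194f37c4d99708aa77545dc49040538d20240601f29bd486e0820f54d6a02203f53273008a7d4c38c0581452f0e5420f54b2314a83852a830061642b09a0f5a700005c108b10fba6030af8015d00babd003a555a001ae00556125d20001926ef462845202a51da2520a4546940010245189f01aa2ca20040b00c01b71000a306802c0899458e1a033297513a1]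
theorem S0_c : blocks (facts 9 5 14 23 511 16383 8388607 11 2047 9 511 A R 32) 32 JS0 366 = true := by decide +kernel
theorem S0 : On (Step.{u} Rf' LW par A) 366 1038 :=
  steps_of_blocks hpar hR S0_c (by decide +kernel)
theorem D0_c : allB (defOK 9 14 23 511 8388607 360 A K) 1 2 = true := by decide +kernel
theorem D0 : On (fun r => defOK par.W par.WL par.E par.mW par.mE 360 A K r = true) 256 384 :=
  On.of_allB D0_c
noncomputable def JW0 : List ℕ := [nat_lit 0x46f5bc49e49746d4a049c4934834e060f4da4dc4d84e64e24e45f64df61751651851451c5114e55fc3f04a76064ba6094c24bc4be4c44114a24cc4ce6084d04c64c84c05024e94fe4fc4fa5044e36135f850050e51250650850a5106125fa3ff4aa4b14b24a54b44ac4ae4b75ec4a84cb4d44a44d64c74d24b94f46114ee4f04ec4f84ea4f66024f350d52651e5205225244f760451b53052a52c52853261b53460a61452e53653e53853a61a53c60c61861c54054254454654854a54c,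
  nat_lit 0x3e63f73ef3f53f33fa3f85e45d83dc3d13d53d93bd5e13d33de3b13d740b40f5e64095eb40d3df5c836028743b42643443c43643843f30b20945145e43546044d45a4413ab5ac41b42842e43042a42c5f132320146645d42f46846245b4333c45df3ba3b93bc3ca3c63c85d43c34063fc4043f23fb4003c93a13e23cd3db3c15e35e03d23e13b33e55e84124034085ea40c3e03154722d54845fe60148c48648848e4712ed49449860049a49049248a4742db47a47d46c47e476478481,
  nat_lit 0x31013a30c30e2f65c13063123082c25b52b32bb2a75b22c42c65a42cf2c95b72d22cd2d62c52d027d29f2ae2b42a32ab5ae2b029428f2e52ad2ca2eb2e85bb2b12e723d5b02bc2992b62aa5b32be2c05a22e22b82e02d82cc2d72bf2dc5a829a2a429c2972a65af2a829528d5b82a12df2ee2e95ba2a92e659c37e2575f241f5f544844244444a3472334524565f445844c44e4465dc21141c42041542241641842430124046545541446a46344f5ee3e83eb3bf3ce5e23cb3ec5e5379,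
  nat_lit 0x14320b2042062021ff1eb1fd20e3a51073973935c65d63a63a83283a30153ac3043855db3ae3a938802e2762652741e45a727827a1ce00f2702452922525aa27929059e06d26125c25e24f2682432625a01835931f81fa1f31fe1db1fc1f037c17837a2f53843673803825d139111136f3735d25ce36d31338733c0b13313245c733733530334039a13739836a32b5d739c39e3383541b134d32d5cb35835635135c39414a3b634b3655da3b439f35b5c318532031631c2fb5be31831b,
  nat_lit 0x991e92362381f259b23a2315941672251d322222822a21922659914f2141f721221659721821a21c16c58f1d41d81d01de1da1dc1cd0911e123523e20359a2422301f43760e93703745ca5cf36c34936938c0c934e33b5d335938a38338e2fe08b2f22f02f72fa5bf3022fc33f09f34434331d5c03073482f935207935e31f3643663623505cd05b28126f2731d15a628228459007f27f22e2882175ab28328a22d5c51a233232e32a33633431932704726d26a26622926923b26321f,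
  nat_lit 0xae0b20a10a20a90b455f0840ac1b45851991861b21b613957458213113512c0fe0f310f1381330fd1b81ba18c1951b35871ac05d1621ab1af0e40b85800b51ad07457615e16815304d16112914957516412e14c57101314556e14813210d06b06703a06403505706907003f56806f14108857817d1711810db04405004004e04203704804a03d13f55213d09614456f56a11356c1572491ed22124e22b24a24c25017b24720d25425359624b25825a1251e71e31d71e51df1ea1dd1ee,
  nat_lit 0x9a55d08309301154e04909c09505806202906004305605305c03907c55400d0775590800520755561c858b1c10d61c658655e0711211a41a612b0a75810cb1a11801a85891c41c21bd0d819310903317602c03102a02703403601f0325515671040a40fb10256410802110101a01c01601801054f01e0200230d357315407311e15a1585621510c715d14607b57917c1590cd17e18e19057d18818b1920f504b57a11610b0be0e710310e1141120f919d19f19a19718a0e31a017357f,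
  nat_lit 0x58d1ca0d41be1c71b711511c0ab0ee0f00ea0ec0f25650f409d0f60de0e00cf0d00d90e25605630dc0c40bc0b70ba0a80ca5610cc0c216a16f11a05f16015b17017217408c08e55b08755808106808505412212611902411f12856b11d0c1]
theorem W0_c : blocks (rows 9 5 14 23 511 16383 8388607 12 4095 108 A 1038 105 cols 14) 14 JW0 0 = true := by decide +kernel
theorem W0 : On (Row.{u} Rf' LW par A 1038 105 cols) 0 112 :=
  rows_of_blocks hpar (by decide) hcols W0_c (by decide +kernel)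
theorem idx : Idx.{u} Rf' [[0], [2], [4], [6], [8], [10], [12], [14], [16]] [[0], [2], [4], [6], [8], [10], [12]] 105 :=
  idx_of_cert hpar hR (K := K) (by decide +kernel) (T := 360) (T' := 384) (by decide) D0
    (subs := [1,3,4,5,6,7,9]) (by decide +kernel) (T1 := 366) (by decide) (N := 1038) S0
    (by decide) (n' := 112) (by decide) W0 (by decide +kernel) (by decide +kernel)
end f
namespace c1
noncomputable def A_0 : List (ℕ) := [nat_lit 0x168c5c2d28b85ac098ad42d1208582b60585441585982a1408542710a452714894c2814144e2718a04e71403962813184e21609c4cb1189502607ac4c2618984841289462512304a22508c4661209102408304823388c443108890220730442138843e6100754200d8c401d28803e70e87d81e0d383e1f40743ca0f829a1f0d0c3e1e186412d0f065c1e0eb4380b68743ac0e87481d0e34161c306c38c0e07081c0d94381b486c18e0d86c81b0ca03619386c34b0d868c190d30321a206434a0d029c1a0ca4321748603050c0102180b9c2c17285c2420b84cc160b102c16185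82c50b05840609882c1508502a50a8202150990281428502430984ca130890241128441a608040810080c2010403c205080404030688200f483c1e10703ca0f03841e0e20381a30703500e069c1c0e28381a406834a0d04ac140c302418b0482960c0610180c183018a05830a0c0608020910301670582c60b0584140b282c0410582480a050c1409502812905028e0a05141409182412704824a090418100620201050401c80703980e07481c0e70380dc0700340e03181c0e503818c06031c0c0648180cd02805a0603140c0530140a50280d805022c0a0420140a902810c040138080428100670180cc0301940603200c06901808c02011c0402580400b01008a02010c0401480402600804a01008c0201380400900000e00001800002800004000006000004004b311c94c19125643242c8a4760e48c5229150432218864351088452090504020187e3f58c07c11a8f42341e18623b08c47420e8e44201c083c3728d86c1100d4a341a04383328c86410f0c48301804322f08b85c1130b42251614562b088c545148a5617142c442760344c51289581012144623583c4451088560d10303e1f28783c60e87461c0e1c341b58643450c865a090c04221710142c90a854c140a041013081824102844204081c1e0f30381c1038342030624160b30281410102420104300e0760180c302815a0102300603680004400805600,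
  nat_lit 0x60000000080400c0080140100241201a0240300480180900281200d02401c1800680900647020c8c003618006a1900686001b8e003d1c00783800e87001d8c00331a806c1900787001c8c00321800623900ec7201e0c40321f80804701248a02312804b2584924711288e1230fc2402284964a11189692492c83f18ac964a292c9262510084a23949245212476b24920843239c903c59208c42391984720288c4641108a6230e5846229c864458e878c2290ca441db0864240fc62c21104e40202c643361047e5200f4a3e0d847c3c18f43811e8f0e3a1e10763c50f07691d8e4e3b1d94783010f03211e0ecc301ca0761a08ec7031d0c8c3a1c94743710e87241c8ccc391b08723730e06421c0d9034188c6e1d10dc6031b0c86350d886a3318d06671807c4331910643140c860a180c52311894601a10c400e0000000301800e0d00384e0140a402a1798541860bc4c1178b9812]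
noncomputable def A : List (List (ℕ)) := [A_0]
noncomputable def K_0 : List (ℕ) := [nat_lit 0xa55269147a35168943a1506813f9f4f6793b9d4e671379b4d66933994c6612f974b6592b954a6512793496492391486411f8f476391b8d46631178b456291389446210f87436190b854261107834160903814060000]
noncomputable def K : List (List (ℕ)) := [K_0]
noncomputable def R_0 : List (Rule) := [Rule.mk (nat_lit 7) (nat_lit 38) (Steps.bwd (nat_lit 11) (Steps.fwd (nat_lit 2560) (Steps.fwd (nat_lit 5632) Steps.nil))) (nat_lit 38) (nat_lit 0),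
  Rule.mk (nat_lit 3) (nat_lit 38) (Steps.bwd (nat_lit 11) (Steps.fwd (nat_lit 1536) (Steps.fwd (nat_lit 5632) Steps.nil))) (nat_lit 42) (nat_lit 0),
  Rule.mk (nat_lit 5) (nat_lit 48) (Steps.bwd (nat_lit 7) (Steps.bwd (nat_lit 11) (Steps.bwd (nat_lit 7) (Steps.fwd (nat_lit 5632) Steps.nil)))) (nat_lit 40) (nat_lit 4),
  Rule.mk (nat_lit 6) (nat_lit 48) (Steps.fwd (nat_lit 2560) (Steps.bwd (nat_lit 11) (Steps.bwd (nat_lit 9) (Steps.fwd (nat_lit 5632) Steps.nil)))) (nat_lit 46) (nat_lit 4),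
  Rule.mk (nat_lit 9) (nat_lit 68) (Steps.bwd (nat_lit 11) (Steps.fwd (nat_lit 3072) (Steps.fwd (nat_lit 5632) (Steps.fwd (nat_lit 2560) (Steps.fwd (nat_lit 3072) (Steps.bwd (nat_lit 7) Steps.nil)))))) (nat_lit 48) (nat_lit 0),
  Rule.mk (nat_lit 3) (nat_lit 38) (Steps.bwd (nat_lit 4) (Steps.fwd (nat_lit 1536) (Steps.fwd (nat_lit 2048) Steps.nil))) (nat_lit 14) (nat_lit 1),
  Rule.mk (nat_lit 5) (nat_lit 38) (Steps.bwd (nat_lit 4) (Steps.fwd (nat_lit 2560) (Steps.fwd (nat_lit 2048) Steps.nil))) (nat_lit 20) (nat_lit 0),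
  Rule.mk (nat_lit 11) (nat_lit 38) (Steps.bwd (nat_lit 4) (Steps.bwd (nat_lit 11) (Steps.fwd (nat_lit 2048) Steps.nil))) (nat_lit 44) (nat_lit 0),
  Rule.mk (nat_lit 11) (nat_lit 28) (Steps.bwd (nat_lit 11) (Steps.bwd (nat_lit 11) Steps.nil)) (nat_lit 36) (nat_lit 0),
  Rule.mk (nat_lit 7) (nat_lit 48) (Steps.fwd (nat_lit 5632) (Steps.fwd (nat_lit 2560) (Steps.bwd (nat_lit 7) (Steps.bwd (nat_lit 11) Steps.nil)))) (nat_lit 40) (nat_lit 2),
  Rule.mk (nat_lit 6) (nat_lit 68) (Steps.fwd (nat_lit 5632) (Steps.fwd (nat_lit 2560) (Steps.fwd (nat_lit 3072) (Steps.bwd (nat_lit 7) (Steps.bwd (nat_lit 9) (Steps.bwd (nat_lit 11) Steps.nil)))))) (nat_lit 48) (nat_lit 2),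
  Rule.mk (nat_lit 9) (nat_lit 38) (Steps.bwd (nat_lit 13) (Steps.fwd (nat_lit 2560) (Steps.fwd (nat_lit 6656) Steps.nil))) (nat_lit 52) (nat_lit 0),
  Rule.mk (nat_lit 4) (nat_lit 38) (Steps.bwd (nat_lit 13) (Steps.fwd (nat_lit 2048) (Steps.fwd (nat_lit 6656) Steps.nil))) (nat_lit 56) (nat_lit 0),
  Rule.mk (nat_lit 5) (nat_lit 48) (Steps.bwd (nat_lit 9) (Steps.bwd (nat_lit 13) (Steps.bwd (nat_lit 9) (Steps.fwd (nat_lit 6656) Steps.nil)))) (nat_lit 54) (nat_lit 4),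
  Rule.mk (nat_lit 6) (nat_lit 58) (Steps.bwd (nat_lit 13) (Steps.bwd (nat_lit 7) (Steps.bwd (nat_lit 9) (Steps.fwd (nat_lit 2560) (Steps.fwd (nat_lit 6656) Steps.nil))))) (nat_lit 60) (nat_lit 0),
  Rule.mk (nat_lit 7) (nat_lit 68) (Steps.bwd (nat_lit 9) (Steps.bwd (nat_lit 13) (Steps.fwd (nat_lit 3072) (Steps.fwd (nat_lit 6656) (Steps.fwd (nat_lit 2560) (Steps.fwd (nat_lit 3072) Steps.nil)))))) (nat_lit 62) (nat_lit 6),
  Rule.mk (nat_lit 5) (nat_lit 38) (Steps.bwd (nat_lit 12) (Steps.bwd (nat_lit 7) (Steps.fwd (nat_lit 6144) Steps.nil))) (nat_lit 38) (nat_lit 2),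
  Rule.mk (nat_lit 14) (nat_lit 38) (Steps.bwd (nat_lit 12) (Steps.bwd (nat_lit 13) (Steps.bwd (nat_lit 11) Steps.nil))) (nat_lit 65) (nat_lit 3),
  Rule.mk (nat_lit 6) (nat_lit 68) (Steps.bwd (nat_lit 12) (Steps.fwd (nat_lit 2560) (Steps.fwd (nat_lit 3072) (Steps.bwd (nat_lit 7) (Steps.bwd (nat_lit 9) (Steps.fwd (nat_lit 6144) Steps.nil)))))) (nat_lit 48) (nat_lit 2),
  Rule.mk (nat_lit 4) (nat_lit 38) (Steps.bwd (nat_lit 13) (Steps.fwd (nat_lit 2048) (Steps.bwd (nat_lit 14) Steps.nil))) (nat_lit 56) (nat_lit 0),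
  Rule.mk (nat_lit 11) (nat_lit 38) (Steps.bwd (nat_lit 13) (Steps.fwd (nat_lit 5632) (Steps.bwd (nat_lit 14) Steps.nil))) (nat_lit 64) (nat_lit 1),
  Rule.mk (nat_lit 12) (nat_lit 38) (Steps.bwd (nat_lit 13) (Steps.bwd (nat_lit 11) (Steps.fwd (nat_lit 6656) Steps.nil))) (nat_lit 65) (nat_lit 0),
  Rule.mk (nat_lit 5) (nat_lit 38) (Steps.bwd (nat_lit 3) (Steps.fwd (nat_lit 2560) (Steps.fwd (nat_lit 1536) Steps.nil))) (nat_lit 18) (nat_lit 0),
  Rule.mk (nat_lit 13) (nat_lit 38) (Steps.bwd (nat_lit 3) (Steps.bwd (nat_lit 13) (Steps.fwd (nat_lit 1536) Steps.nil))) (nat_lit 58) (nat_lit 0),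
  Rule.mk (nat_lit 13) (nat_lit 28) (Steps.bwd (nat_lit 13) (Steps.bwd (nat_lit 13) Steps.nil)) (nat_lit 50) (nat_lit 0),
  Rule.mk (nat_lit 9) (nat_lit 48) (Steps.fwd (nat_lit 6656) (Steps.fwd (nat_lit 2560) (Steps.bwd (nat_lit 9) (Steps.bwd (nat_lit 13) Steps.nil)))) (nat_lit 54) (nat_lit 2),
  Rule.mk (nat_lit 7) (nat_lit 58) (Steps.bwd (nat_lit 9) (Steps.fwd (nat_lit 2560) (Steps.fwd (nat_lit 6656) (Steps.fwd (nat_lit 3072) (Steps.bwd (nat_lit 13) Steps.nil))))) (nat_lit 60) (nat_lit 2),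
  Rule.mk (nat_lit 6) (nat_lit 68) (Steps.fwd (nat_lit 6656) (Steps.fwd (nat_lit 2560) (Steps.fwd (nat_lit 3072) (Steps.bwd (nat_lit 7) (Steps.bwd (nat_lit 9) (Steps.bwd (nat_lit 13) Steps.nil)))))) (nat_lit 62) (nat_lit 2),
  Rule.mk (nat_lit 3) (nat_lit 38) (Steps.bwd (nat_lit 12) (Steps.bwd (nat_lit 3) (Steps.fwd (nat_lit 6144) Steps.nil))) (nat_lit 42) (nat_lit 2),
  Rule.mk (nat_lit 13) (nat_lit 38) (Steps.bwd (nat_lit 12) (Steps.fwd (nat_lit 6656) (Steps.bwd (nat_lit 11) Steps.nil))) (nat_lit 64) (nat_lit 2),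
  Rule.mk (nat_lit 14) (nat_lit 38) (Steps.bwd (nat_lit 12) (Steps.bwd (nat_lit 13) (Steps.fwd (nat_lit 6144) Steps.nil))) (nat_lit 65) (nat_lit 3),
  Rule.mk (nat_lit 7) (nat_lit 48) (Steps.bwd (nat_lit 12) (Steps.fwd (nat_lit 2560) (Steps.bwd (nat_lit 7) (Steps.fwd (nat_lit 6144) Steps.nil)))) (nat_lit 40) (nat_lit 2),
  Rule.mk (nat_lit 9) (nat_lit 48) (Steps.bwd (nat_lit 12) (Steps.fwd (nat_lit 3072) (Steps.fwd (nat_lit 2560) (Steps.fwd (nat_lit 6144) Steps.nil)))) (nat_lit 46) (nat_lit 2),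
  Rule.mk (nat_lit 4) (nat_lit 38) (Steps.fwd (nat_lit 7168) (Steps.fwd (nat_lit 2048) (Steps.bwd (nat_lit 14) Steps.nil))) (nat_lit 56) (nat_lit 0),
  Rule.mk (nat_lit 4) (nat_lit 38) (Steps.bwd (nat_lit 12) (Steps.fwd (nat_lit 2048) (Steps.bwd (nat_lit 12) Steps.nil))) (nat_lit 45) (nat_lit 0),
  Rule.mk (nat_lit 5) (nat_lit 38) (Steps.bwd (nat_lit 1) (Steps.fwd (nat_lit 2560) (Steps.fwd (nat_lit 512) Steps.nil))) (nat_lit 8) (nat_lit 0),
  Rule.mk (nat_lit 7) (nat_lit 48) (Steps.fwd (nat_lit 2560) (Steps.bwd (nat_lit 1) (Steps.fwd (nat_lit 1536) (Steps.fwd (nat_lit 512) Steps.nil)))) (nat_lit 32) (nat_lit 1),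
  Rule.mk (nat_lit 3) (nat_lit 58) (Steps.bwd (nat_lit 1) (Steps.fwd (nat_lit 3072) (Steps.fwd (nat_lit 1536) (Steps.fwd (nat_lit 3072) (Steps.fwd (nat_lit 512) Steps.nil))))) (nat_lit 28) (nat_lit 5),
  Rule.mk (nat_lit 9) (nat_lit 48) (Steps.fwd (nat_lit 2560) (Steps.bwd (nat_lit 1) (Steps.bwd (nat_lit 4) (Steps.fwd (nat_lit 512) Steps.nil)))) (nat_lit 34) (nat_lit 1),
  Rule.mk (nat_lit 10) (nat_lit 48) (Steps.bwd (nat_lit 1) (Steps.bwd (nat_lit 4) (Steps.fwd (nat_lit 512) (Steps.fwd (nat_lit 2560) Steps.nil)))) (nat_lit 35) (nat_lit 0),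
  Rule.mk (nat_lit 4) (nat_lit 58) (Steps.bwd (nat_lit 1) (Steps.fwd (nat_lit 3072) (Steps.bwd (nat_lit 4) (Steps.fwd (nat_lit 3072) (Steps.fwd (nat_lit 512) Steps.nil))))) (nat_lit 30) (nat_lit 5),
  Rule.mk (nat_lit 1) (nat_lit 38) (Steps.bwd (nat_lit 6) (Steps.bwd (nat_lit 1) (Steps.fwd (nat_lit 3072) Steps.nil))) (nat_lit 24) (nat_lit 0),
  Rule.mk (nat_lit 5) (nat_lit 38) (Steps.bwd (nat_lit 6) (Steps.fwd (nat_lit 2560) (Steps.fwd (nat_lit 3072) Steps.nil))) (nat_lit 26) (nat_lit 0),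
  Rule.mk (nat_lit 1) (nat_lit 28) (Steps.bwd (nat_lit 1) (Steps.bwd (nat_lit 1) Steps.nil)) (nat_lit 0) (nat_lit 0),
  Rule.mk (nat_lit 3) (nat_lit 48) (Steps.fwd (nat_lit 512) (Steps.bwd (nat_lit 7) (Steps.fwd (nat_lit 2560) (Steps.bwd (nat_lit 1) Steps.nil)))) (nat_lit 32) (nat_lit 4),
  Rule.mk (nat_lit 2) (nat_lit 48) (Steps.bwd (nat_lit 9) (Steps.fwd (nat_lit 2560) (Steps.bwd (nat_lit 1) (Steps.fwd (nat_lit 2048) Steps.nil)))) (nat_lit 34) (nat_lit 0),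
  Rule.mk (nat_lit 2) (nat_lit 28) (Steps.fwd (nat_lit 512) (Steps.bwd (nat_lit 2) Steps.nil)) (nat_lit 1) (nat_lit 0),
  Rule.mk (nat_lit 5) (nat_lit 38) (Steps.fwd (nat_lit 1024) (Steps.fwd (nat_lit 2560) (Steps.bwd (nat_lit 2) Steps.nil))) (nat_lit 8) (nat_lit 0),
  Rule.mk (nat_lit 10) (nat_lit 48) (Steps.bwd (nat_lit 1) (Steps.fwd (nat_lit 2048) (Steps.bwd (nat_lit 2) (Steps.fwd (nat_lit 2560) Steps.nil)))) (nat_lit 35) (nat_lit 0),
  Rule.mk (nat_lit 3) (nat_lit 68) (Steps.fwd (nat_lit 2560) (Steps.bwd (nat_lit 2) (Steps.fwd (nat_lit 1536) (Steps.fwd (nat_lit 512) (Steps.fwd (nat_lit 1536) (Steps.bwd (nat_lit 2) Steps.nil)))))) (nat_lit 11) (nat_lit 0),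
  Rule.mk (nat_lit 4) (nat_lit 68) (Steps.fwd (nat_lit 2560) (Steps.bwd (nat_lit 2) (Steps.fwd (nat_lit 2048) (Steps.fwd (nat_lit 512) (Steps.fwd (nat_lit 2048) (Steps.bwd (nat_lit 2) Steps.nil)))))) (nat_lit 13) (nat_lit 0),
  Rule.mk (nat_lit 11) (nat_lit 128) (Steps.fwd (nat_lit 1024) (Steps.fwd (nat_lit 1536) (Steps.bwd (nat_lit 2) (Steps.fwd (nat_lit 1536) (Steps.fwd (nat_lit 2560) (Steps.bwd (nat_lit 2) (Steps.bwd (nat_lit 11) (Steps.fwd (nat_lit 2560) (Steps.fwd (nat_lit 512) (Steps.bwd (nat_lit 11) (Steps.fwd (nat_lit 2560) (Steps.fwd (nat_lit 512) Steps.nil)))))))))))) (nat_lit 66) (nat_lit 9),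
  Rule.mk (nat_lit 6) (nat_lit 68) (Steps.fwd (nat_lit 5632) (Steps.bwd (nat_lit 10) (Steps.fwd (nat_lit 3584) (Steps.bwd (nat_lit 6) (Steps.fwd (nat_lit 2560) (Steps.bwd (nat_lit 11) Steps.nil)))))) (nat_lit 49) (nat_lit 6),
  Rule.mk (nat_lit 11) (nat_lit 48) (Steps.fwd (nat_lit 5120) (Steps.fwd (nat_lit 5632) (Steps.bwd (nat_lit 6) (Steps.fwd (nat_lit 2560) Steps.nil)))) (nat_lit 46) (nat_lit 1),
  Rule.mk (nat_lit 4) (nat_lit 58) (Steps.bwd (nat_lit 1) (Steps.fwd (nat_lit 3072) (Steps.fwd (nat_lit 2048) (Steps.fwd (nat_lit 3072) (Steps.fwd (nat_lit 512) Steps.nil))))) (nat_lit 30) (nat_lit 5),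
  Rule.mk (nat_lit 8) (nat_lit 48) (Steps.bwd (nat_lit 1) (Steps.fwd (nat_lit 1536) (Steps.fwd (nat_lit 512) (Steps.fwd (nat_lit 2560) Steps.nil)))) (nat_lit 33) (nat_lit 0),
  Rule.mk (nat_lit 9) (nat_lit 48) (Steps.fwd (nat_lit 2560) (Steps.bwd (nat_lit 1) (Steps.fwd (nat_lit 2048) (Steps.fwd (nat_lit 512) Steps.nil)))) (nat_lit 34) (nat_lit 1),
  Rule.mk (nat_lit 2) (nat_lit 48) (Steps.bwd (nat_lit 7) (Steps.fwd (nat_lit 2560) (Steps.bwd (nat_lit 1) (Steps.fwd (nat_lit 1536) Steps.nil)))) (nat_lit 32) (nat_lit 0),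
  Rule.mk (nat_lit 8) (nat_lit 48) (Steps.bwd (nat_lit 1) (Steps.fwd (nat_lit 1536) (Steps.bwd (nat_lit 2) (Steps.fwd (nat_lit 2560) Steps.nil)))) (nat_lit 33) (nat_lit 0),
  Rule.mk (nat_lit 3) (nat_lit 68) (Steps.fwd (nat_lit 2560) (Steps.bwd (nat_lit 2) (Steps.bwd (nat_lit 3) (Steps.fwd (nat_lit 512) (Steps.fwd (nat_lit 1536) (Steps.bwd (nat_lit 2) Steps.nil)))))) (nat_lit 11) (nat_lit 0),
  Rule.mk (nat_lit 6) (nat_lit 38) (Steps.bwd (nat_lit 2) (Steps.fwd (nat_lit 3072) (Steps.fwd (nat_lit 512) Steps.nil))) (nat_lit 25) (nat_lit 0),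
  Rule.mk (nat_lit 3) (nat_lit 58) (Steps.bwd (nat_lit 1) (Steps.fwd (nat_lit 3072) (Steps.bwd (nat_lit 3) (Steps.fwd (nat_lit 3072) (Steps.fwd (nat_lit 512) Steps.nil))))) (nat_lit 28) (nat_lit 5),
  Rule.mk (nat_lit 3) (nat_lit 68) (Steps.fwd (nat_lit 2560) (Steps.bwd (nat_lit 2) (Steps.bwd (nat_lit 3) (Steps.fwd (nat_lit 512) (Steps.bwd (nat_lit 3) (Steps.bwd (nat_lit 2) Steps.nil)))))) (nat_lit 11) (nat_lit 0),
  Rule.mk (nat_lit 4) (nat_lit 68) (Steps.fwd (nat_lit 2560) (Steps.bwd (nat_lit 2) (Steps.bwd (nat_lit 4) (Steps.fwd (nat_lit 512) (Steps.fwd (nat_lit 2048) (Steps.bwd (nat_lit 2) Steps.nil)))))) (nat_lit 13) (nat_lit 0)]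
noncomputable def R_1 : List (Rule) := [Rule.mk (nat_lit 2) (nat_lit 28) (Steps.bwd (nat_lit 2) (Steps.fwd (nat_lit 512) Steps.nil)) (nat_lit 1) (nat_lit 0),
  Rule.mk (nat_lit 5) (nat_lit 38) (Steps.bwd (nat_lit 2) (Steps.fwd (nat_lit 2560) (Steps.fwd (nat_lit 1024) Steps.nil))) (nat_lit 8) (nat_lit 2),
  Rule.mk (nat_lit 7) (nat_lit 48) (Steps.fwd (nat_lit 2560) (Steps.fwd (nat_lit 1024) (Steps.fwd (nat_lit 1536) (Steps.bwd (nat_lit 2) Steps.nil)))) (nat_lit 32) (nat_lit 1),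
  Rule.mk (nat_lit 9) (nat_lit 48) (Steps.fwd (nat_lit 2560) (Steps.bwd (nat_lit 1) (Steps.bwd (nat_lit 4) (Steps.bwd (nat_lit 2) Steps.nil)))) (nat_lit 34) (nat_lit 1),
  Rule.mk (nat_lit 14) (nat_lit 48) (Steps.bwd (nat_lit 5) (Steps.bwd (nat_lit 9) (Steps.bwd (nat_lit 13) (Steps.bwd (nat_lit 9) Steps.nil)))) (nat_lit 54) (nat_lit 3),
  Rule.mk (nat_lit 10) (nat_lit 48) (Steps.bwd (nat_lit 5) (Steps.bwd (nat_lit 13) (Steps.bwd (nat_lit 10) (Steps.bwd (nat_lit 14) Steps.nil)))) (nat_lit 55) (nat_lit 1),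
  Rule.mk (nat_lit 4) (nat_lit 38) (Steps.bwd (nat_lit 13) (Steps.bwd (nat_lit 4) (Steps.bwd (nat_lit 14) Steps.nil))) (nat_lit 56) (nat_lit 0),
  Rule.mk (nat_lit 12) (nat_lit 38) (Steps.bwd (nat_lit 13) (Steps.bwd (nat_lit 11) (Steps.bwd (nat_lit 14) Steps.nil))) (nat_lit 65) (nat_lit 0),
  Rule.mk (nat_lit 6) (nat_lit 58) (Steps.bwd (nat_lit 13) (Steps.bwd (nat_lit 7) (Steps.bwd (nat_lit 9) (Steps.fwd (nat_lit 2560) (Steps.bwd (nat_lit 14) Steps.nil))))) (nat_lit 60) (nat_lit 0),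
  Rule.mk (nat_lit 11) (nat_lit 28) (Steps.bwd (nat_lit 11) (Steps.fwd (nat_lit 6144) Steps.nil)) (nat_lit 36) (nat_lit 0),
  Rule.mk (nat_lit 7) (nat_lit 38) (Steps.bwd (nat_lit 11) (Steps.fwd (nat_lit 2560) (Steps.bwd (nat_lit 12) Steps.nil))) (nat_lit 38) (nat_lit 0),
  Rule.mk (nat_lit 8) (nat_lit 38) (Steps.bwd (nat_lit 11) (Steps.fwd (nat_lit 2560) (Steps.bwd (nat_lit 12) Steps.nil))) (nat_lit 39) (nat_lit 1),
  Rule.mk (nat_lit 4) (nat_lit 38) (Steps.bwd (nat_lit 11) (Steps.fwd (nat_lit 2048) (Steps.bwd (nat_lit 11) Steps.nil))) (nat_lit 44) (nat_lit 1),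
  Rule.mk (nat_lit 14) (nat_lit 38) (Steps.bwd (nat_lit 11) (Steps.bwd (nat_lit 13) (Steps.fwd (nat_lit 5632) Steps.nil))) (nat_lit 64) (nat_lit 0),
  Rule.mk (nat_lit 9) (nat_lit 68) (Steps.bwd (nat_lit 11) (Steps.fwd (nat_lit 3072) (Steps.bwd (nat_lit 12) (Steps.fwd (nat_lit 2560) (Steps.bwd (nat_lit 6) (Steps.bwd (nat_lit 7) Steps.nil)))))) (nat_lit 48) (nat_lit 0),
  Rule.mk (nat_lit 5) (nat_lit 48) (Steps.bwd (nat_lit 7) (Steps.bwd (nat_lit 11) (Steps.fwd (nat_lit 4096) (Steps.fwd (nat_lit 5632) Steps.nil)))) (nat_lit 40) (nat_lit 4),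
  Rule.mk (nat_lit 4) (nat_lit 38) (Steps.fwd (nat_lit 2560) (Steps.fwd (nat_lit 2048) (Steps.bwd (nat_lit 5) Steps.nil))) (nat_lit 20) (nat_lit 1),
  Rule.mk (nat_lit 12) (nat_lit 38) (Steps.bwd (nat_lit 7) (Steps.bwd (nat_lit 11) (Steps.bwd (nat_lit 5) Steps.nil))) (nat_lit 38) (nat_lit 3),
  Rule.mk (nat_lit 6) (nat_lit 48) (Steps.bwd (nat_lit 11) (Steps.fwd (nat_lit 4608) (Steps.fwd (nat_lit 5632) (Steps.bwd (nat_lit 5) Steps.nil)))) (nat_lit 47) (nat_lit 2),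
  Rule.mk (nat_lit 13) (nat_lit 48) (Steps.fwd (nat_lit 4608) (Steps.bwd (nat_lit 14) (Steps.fwd (nat_lit 4608) (Steps.bwd (nat_lit 5) Steps.nil)))) (nat_lit 55) (nat_lit 3),
  Rule.mk (nat_lit 4) (nat_lit 38) (Steps.bwd (nat_lit 3) (Steps.fwd (nat_lit 2048) (Steps.fwd (nat_lit 1536) Steps.nil))) (nat_lit 14) (nat_lit 0),
  Rule.mk (nat_lit 12) (nat_lit 38) (Steps.bwd (nat_lit 3) (Steps.fwd (nat_lit 6144) (Steps.fwd (nat_lit 1536) Steps.nil))) (nat_lit 42) (nat_lit 3),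
  Rule.mk (nat_lit 14) (nat_lit 58) (Steps.bwd (nat_lit 6) (Steps.bwd (nat_lit 13) (Steps.bwd (nat_lit 7) (Steps.fwd (nat_lit 5120) (Steps.bwd (nat_lit 5) Steps.nil))))) (nat_lit 60) (nat_lit 5),
  Rule.mk (nat_lit 13) (nat_lit 68) (Steps.bwd (nat_lit 6) (Steps.fwd (nat_lit 6656) (Steps.fwd (nat_lit 2560) (Steps.bwd (nat_lit 6) (Steps.bwd (nat_lit 7) (Steps.fwd (nat_lit 5120) Steps.nil)))))) (nat_lit 62) (nat_lit 1),
  Rule.mk (nat_lit 3) (nat_lit 38) (Steps.bwd (nat_lit 13) (Steps.fwd (nat_lit 1536) (Steps.bwd (nat_lit 13) Steps.nil))) (nat_lit 58) (nat_lit 1),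
  Rule.mk (nat_lit 3) (nat_lit 38) (Steps.bwd (nat_lit 5) (Steps.bwd (nat_lit 3) (Steps.fwd (nat_lit 2560) Steps.nil))) (nat_lit 18) (nat_lit 1),
  Rule.mk (nat_lit 13) (nat_lit 38) (Steps.bwd (nat_lit 5) (Steps.fwd (nat_lit 6656) (Steps.bwd (nat_lit 9) Steps.nil))) (nat_lit 52) (nat_lit 1),
  Rule.mk (nat_lit 10) (nat_lit 48) (Steps.bwd (nat_lit 5) (Steps.fwd (nat_lit 7168) (Steps.fwd (nat_lit 4608) (Steps.bwd (nat_lit 14) Steps.nil)))) (nat_lit 55) (nat_lit 1),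
  Rule.mk (nat_lit 8) (nat_lit 58) (Steps.fwd (nat_lit 6656) (Steps.bwd (nat_lit 6) (Steps.bwd (nat_lit 13) (Steps.bwd (nat_lit 5) (Steps.bwd (nat_lit 10) Steps.nil))))) (nat_lit 61) (nat_lit 5),
  Rule.mk (nat_lit 14) (nat_lit 68) (Steps.bwd (nat_lit 5) (Steps.bwd (nat_lit 6) (Steps.fwd (nat_lit 4096) (Steps.fwd (nat_lit 5120) (Steps.fwd (nat_lit 7168) (Steps.fwd (nat_lit 3072) Steps.nil)))))) (nat_lit 62) (nat_lit 3),
  Rule.mk (nat_lit 12) (nat_lit 38) (Steps.fwd (nat_lit 7168) (Steps.fwd (nat_lit 6144) (Steps.bwd (nat_lit 14) Steps.nil))) (nat_lit 65) (nat_lit 0),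
  Rule.mk (nat_lit 7) (nat_lit 48) (Steps.fwd (nat_lit 6144) (Steps.fwd (nat_lit 4096) (Steps.bwd (nat_lit 12) (Steps.fwd (nat_lit 2560) Steps.nil)))) (nat_lit 40) (nat_lit 0),
  Rule.mk (nat_lit 3) (nat_lit 38) (Steps.bwd (nat_lit 12) (Steps.fwd (nat_lit 1536) (Steps.bwd (nat_lit 11) Steps.nil))) (nat_lit 42) (nat_lit 2),
  Rule.mk (nat_lit 10) (nat_lit 48) (Steps.bwd (nat_lit 12) (Steps.bwd (nat_lit 5) (Steps.bwd (nat_lit 6) (Steps.fwd (nat_lit 6144) Steps.nil)))) (nat_lit 47) (nat_lit 4),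
  Rule.mk (nat_lit 6) (nat_lit 68) (Steps.bwd (nat_lit 12) (Steps.bwd (nat_lit 5) (Steps.bwd (nat_lit 6) (Steps.fwd (nat_lit 4096) (Steps.fwd (nat_lit 5120) (Steps.fwd (nat_lit 6144) Steps.nil)))))) (nat_lit 48) (nat_lit 2),
  Rule.mk (nat_lit 12) (nat_lit 48) (Steps.bwd (nat_lit 5) (Steps.bwd (nat_lit 7) (Steps.bwd (nat_lit 11) (Steps.bwd (nat_lit 7) Steps.nil)))) (nat_lit 40) (nat_lit 3),
  Rule.mk (nat_lit 8) (nat_lit 48) (Steps.bwd (nat_lit 5) (Steps.bwd (nat_lit 11) (Steps.bwd (nat_lit 8) (Steps.bwd (nat_lit 12) Steps.nil)))) (nat_lit 41) (nat_lit 1),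
  Rule.mk (nat_lit 3) (nat_lit 38) (Steps.bwd (nat_lit 11) (Steps.bwd (nat_lit 3) (Steps.bwd (nat_lit 12) Steps.nil))) (nat_lit 42) (nat_lit 0),
  Rule.mk (nat_lit 12) (nat_lit 48) (Steps.bwd (nat_lit 5) (Steps.bwd (nat_lit 7) (Steps.bwd (nat_lit 11) (Steps.fwd (nat_lit 4096) Steps.nil)))) (nat_lit 40) (nat_lit 3),
  Rule.mk (nat_lit 8) (nat_lit 48) (Steps.bwd (nat_lit 5) (Steps.bwd (nat_lit 11) (Steps.fwd (nat_lit 3584) (Steps.bwd (nat_lit 12) Steps.nil)))) (nat_lit 41) (nat_lit 1),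
  Rule.mk (nat_lit 6) (nat_lit 48) (Steps.bwd (nat_lit 5) (Steps.bwd (nat_lit 11) (Steps.bwd (nat_lit 9) (Steps.fwd (nat_lit 5632) Steps.nil)))) (nat_lit 46) (nat_lit 4),
  Rule.mk (nat_lit 10) (nat_lit 68) (Steps.fwd (nat_lit 3584) (Steps.bwd (nat_lit 6) (Steps.bwd (nat_lit 5) (Steps.bwd (nat_lit 11) (Steps.bwd (nat_lit 6) (Steps.bwd (nat_lit 12) Steps.nil)))))) (nat_lit 49) (nat_lit 1),
  Rule.mk (nat_lit 12) (nat_lit 28) (Steps.bwd (nat_lit 12) (Steps.bwd (nat_lit 12) Steps.nil)) (nat_lit 37) (nat_lit 0),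
  Rule.mk (nat_lit 3) (nat_lit 38) (Steps.bwd (nat_lit 12) (Steps.fwd (nat_lit 1536) (Steps.fwd (nat_lit 6144) Steps.nil))) (nat_lit 42) (nat_lit 2),
  Rule.mk (nat_lit 3) (nat_lit 38) (Steps.bwd (nat_lit 5) (Steps.fwd (nat_lit 1536) (Steps.fwd (nat_lit 2560) Steps.nil))) (nat_lit 18) (nat_lit 1),
  Rule.mk (nat_lit 11) (nat_lit 38) (Steps.bwd (nat_lit 5) (Steps.bwd (nat_lit 12) (Steps.bwd (nat_lit 7) Steps.nil))) (nat_lit 38) (nat_lit 1),
  Rule.mk (nat_lit 8) (nat_lit 48) (Steps.bwd (nat_lit 5) (Steps.fwd (nat_lit 6144) (Steps.bwd (nat_lit 8) (Steps.bwd (nat_lit 12) Steps.nil)))) (nat_lit 41) (nat_lit 1),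
  Rule.mk (nat_lit 11) (nat_lit 38) (Steps.fwd (nat_lit 2560) (Steps.bwd (nat_lit 12) (Steps.bwd (nat_lit 8) Steps.nil))) (nat_lit 39) (nat_lit 2),
  Rule.mk (nat_lit 12) (nat_lit 28) (Steps.bwd (nat_lit 12) (Steps.fwd (nat_lit 5632) Steps.nil)) (nat_lit 37) (nat_lit 0),
  Rule.mk (nat_lit 6) (nat_lit 68) (Steps.bwd (nat_lit 12) (Steps.fwd (nat_lit 2560) (Steps.bwd (nat_lit 6) (Steps.bwd (nat_lit 7) (Steps.bwd (nat_lit 9) (Steps.bwd (nat_lit 11) Steps.nil)))))) (nat_lit 48) (nat_lit 2),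
  Rule.mk (nat_lit 7) (nat_lit 38) (Steps.bwd (nat_lit 11) (Steps.bwd (nat_lit 5) (Steps.bwd (nat_lit 12) Steps.nil))) (nat_lit 38) (nat_lit 0),
  Rule.mk (nat_lit 6) (nat_lit 48) (Steps.bwd (nat_lit 11) (Steps.bwd (nat_lit 10) (Steps.fwd (nat_lit 5632) (Steps.bwd (nat_lit 5) Steps.nil)))) (nat_lit 47) (nat_lit 2),
  Rule.mk (nat_lit 2) (nat_lit 128) (Steps.bwd (nat_lit 11) (Steps.fwd (nat_lit 1024) (Steps.bwd (nat_lit 3) (Steps.bwd (nat_lit 2) (Steps.fwd (nat_lit 1536) (Steps.fwd (nat_lit 2560) (Steps.bwd (nat_lit 2) (Steps.fwd (nat_lit 6144) (Steps.fwd (nat_lit 2560) (Steps.fwd (nat_lit 512) (Steps.bwd (nat_lit 11) (Steps.bwd (nat_lit 5) Steps.nil)))))))))))) (nat_lit 66) (nat_lit 8),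
  Rule.mk (nat_lit 2) (nat_lit 38) (Steps.bwd (nat_lit 5) (Steps.fwd (nat_lit 1024) (Steps.fwd (nat_lit 2560) Steps.nil))) (nat_lit 8) (nat_lit 3),
  Rule.mk (nat_lit 4) (nat_lit 58) (Steps.bwd (nat_lit 1) (Steps.bwd (nat_lit 6) (Steps.bwd (nat_lit 4) (Steps.bwd (nat_lit 6) (Steps.bwd (nat_lit 2) Steps.nil))))) (nat_lit 30) (nat_lit 5),
  Rule.mk (nat_lit 12) (nat_lit 38) (Steps.fwd (nat_lit 2048) (Steps.bwd (nat_lit 12) (Steps.bwd (nat_lit 4) Steps.nil))) (nat_lit 45) (nat_lit 1),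
  Rule.mk (nat_lit 2) (nat_lit 38) (Steps.bwd (nat_lit 5) (Steps.bwd (nat_lit 1) (Steps.fwd (nat_lit 2560) Steps.nil))) (nat_lit 8) (nat_lit 3),
  Rule.mk (nat_lit 10) (nat_lit 48) (Steps.bwd (nat_lit 1) (Steps.fwd (nat_lit 2048) (Steps.bwd (nat_lit 2) (Steps.bwd (nat_lit 5) Steps.nil)))) (nat_lit 35) (nat_lit 0),
  Rule.mk (nat_lit 12) (nat_lit 48) (Steps.fwd (nat_lit 2560) (Steps.bwd (nat_lit 6) (Steps.fwd (nat_lit 6144) (Steps.bwd (nat_lit 10) Steps.nil)))) (nat_lit 47) (nat_lit 0),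
  Rule.mk (nat_lit 5) (nat_lit 38) (Steps.bwd (nat_lit 1) (Steps.bwd (nat_lit 5) (Steps.fwd (nat_lit 512) Steps.nil))) (nat_lit 8) (nat_lit 0),
  Rule.mk (nat_lit 3) (nat_lit 58) (Steps.bwd (nat_lit 1) (Steps.bwd (nat_lit 6) (Steps.bwd (nat_lit 3) (Steps.fwd (nat_lit 3072) (Steps.fwd (nat_lit 512) Steps.nil))))) (nat_lit 28) (nat_lit 5),
  Rule.mk (nat_lit 12) (nat_lit 38) (Steps.bwd (nat_lit 3) (Steps.fwd (nat_lit 6144) (Steps.bwd (nat_lit 3) Steps.nil))) (nat_lit 42) (nat_lit 3),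
  Rule.mk (nat_lit 12) (nat_lit 128) (Steps.bwd (nat_lit 1) (Steps.fwd (nat_lit 2560) (Steps.bwd (nat_lit 3) (Steps.bwd (nat_lit 1) (Steps.fwd (nat_lit 1536) (Steps.fwd (nat_lit 512) (Steps.bwd (nat_lit 12) (Steps.bwd (nat_lit 1) (Steps.fwd (nat_lit 2560) (Steps.fwd (nat_lit 5632) (Steps.bwd (nat_lit 1) (Steps.fwd (nat_lit 2560) Steps.nil)))))))))))) (nat_lit 67) (nat_lit 11),
  Rule.mk (nat_lit 6) (nat_lit 48) (Steps.bwd (nat_lit 5) (Steps.bwd (nat_lit 11) (Steps.bwd (nat_lit 9) (Steps.bwd (nat_lit 12) Steps.nil)))) (nat_lit 46) (nat_lit 4)]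
noncomputable def R_2 : List (Rule) := [Rule.mk (nat_lit 0) (nat_lit 48) (Steps.fwd (nat_lit 3072) (Steps.fwd (nat_lit 512) (Steps.bwd (nat_lit 6) (Steps.bwd (nat_lit 2) Steps.nil)))) (nat_lit 25) (nat_lit 1),
  Rule.mk (nat_lit 0) (nat_lit 38) (Steps.bwd (nat_lit 2) (Steps.fwd (nat_lit 0) (Steps.fwd (nat_lit 1024) Steps.nil))) (nat_lit 68) (nat_lit 0),
  Rule.mk (nat_lit 0) (nat_lit 38) (Steps.bwd (nat_lit 11) (Steps.fwd (nat_lit 0) (Steps.bwd (nat_lit 12) Steps.nil))) (nat_lit 68) (nat_lit 0),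
  Rule.mk (nat_lit 0) (nat_lit 38) (Steps.fwd (nat_lit 512) (Steps.fwd (nat_lit 0) (Steps.bwd (nat_lit 1) Steps.nil))) (nat_lit 68) (nat_lit 0),
  Rule.mk (nat_lit 0) (nat_lit 48) (Steps.bwd (nat_lit 0) (Steps.fwd (nat_lit 7168) (Steps.bwd (nat_lit 0) (Steps.fwd (nat_lit 6656) Steps.nil)))) (nat_lit 68) (nat_lit 0),
  Rule.mk (nat_lit 14) (nat_lit 28) (Steps.bwd (nat_lit 0) (Steps.bwd (nat_lit 13) Steps.nil)) (nat_lit 68) (nat_lit 0),
  Rule.mk (nat_lit 2) (nat_lit 58) (Steps.bwd (nat_lit 4) (Steps.bwd (nat_lit 1) (Steps.fwd (nat_lit 3072) (Steps.bwd (nat_lit 4) (Steps.fwd (nat_lit 3072) Steps.nil))))) (nat_lit 30) (nat_lit 4),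
  Rule.mk (nat_lit 5) (nat_lit 38) (Steps.bwd (nat_lit 1) (Steps.fwd (nat_lit 2560) (Steps.bwd (nat_lit 2) Steps.nil))) (nat_lit 8) (nat_lit 0),
  Rule.mk (nat_lit 9) (nat_lit 48) (Steps.bwd (nat_lit 5) (Steps.bwd (nat_lit 1) (Steps.fwd (nat_lit 2048) (Steps.bwd (nat_lit 2) Steps.nil)))) (nat_lit 34) (nat_lit 1),
  Rule.mk (nat_lit 8) (nat_lit 48) (Steps.bwd (nat_lit 1) (Steps.bwd (nat_lit 3) (Steps.fwd (nat_lit 512) (Steps.fwd (nat_lit 2560) Steps.nil)))) (nat_lit 33) (nat_lit 0),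
  Rule.mk (nat_lit 4) (nat_lit 58) (Steps.bwd (nat_lit 1) (Steps.bwd (nat_lit 6) (Steps.fwd (nat_lit 2048) (Steps.fwd (nat_lit 3072) (Steps.fwd (nat_lit 512) Steps.nil))))) (nat_lit 30) (nat_lit 5),
  Rule.mk (nat_lit 7) (nat_lit 48) (Steps.fwd (nat_lit 2560) (Steps.fwd (nat_lit 1024) (Steps.bwd (nat_lit 3) (Steps.bwd (nat_lit 2) Steps.nil)))) (nat_lit 32) (nat_lit 1),
  Rule.mk (nat_lit 3) (nat_lit 58) (Steps.bwd (nat_lit 1) (Steps.bwd (nat_lit 6) (Steps.bwd (nat_lit 3) (Steps.fwd (nat_lit 3072) (Steps.bwd (nat_lit 2) Steps.nil))))) (nat_lit 28) (nat_lit 5),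
  Rule.mk (nat_lit 3) (nat_lit 38) (Steps.bwd (nat_lit 5) (Steps.fwd (nat_lit 1536) (Steps.bwd (nat_lit 5) Steps.nil))) (nat_lit 18) (nat_lit 1),
  Rule.mk (nat_lit 3) (nat_lit 58) (Steps.bwd (nat_lit 1) (Steps.fwd (nat_lit 3072) (Steps.fwd (nat_lit 1536) (Steps.bwd (nat_lit 6) (Steps.fwd (nat_lit 512) Steps.nil))))) (nat_lit 28) (nat_lit 5),
  Rule.mk (nat_lit 8) (nat_lit 48) (Steps.bwd (nat_lit 1) (Steps.fwd (nat_lit 1536) (Steps.bwd (nat_lit 2) (Steps.bwd (nat_lit 5) Steps.nil)))) (nat_lit 33) (nat_lit 0),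
  Rule.mk (nat_lit 6) (nat_lit 38) (Steps.bwd (nat_lit 2) (Steps.bwd (nat_lit 6) (Steps.bwd (nat_lit 2) Steps.nil))) (nat_lit 25) (nat_lit 0),
  Rule.mk (nat_lit 6) (nat_lit 38) (Steps.bwd (nat_lit 2) (Steps.fwd (nat_lit 3072) (Steps.bwd (nat_lit 2) Steps.nil))) (nat_lit 25) (nat_lit 0),
  Rule.mk (nat_lit 4) (nat_lit 48) (Steps.bwd (nat_lit 2) (Steps.fwd (nat_lit 5120) (Steps.bwd (nat_lit 5) (Steps.fwd (nat_lit 1024) Steps.nil)))) (nat_lit 34) (nat_lit 4),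
  Rule.mk (nat_lit 2) (nat_lit 28) (Steps.bwd (nat_lit 2) (Steps.bwd (nat_lit 2) Steps.nil)) (nat_lit 1) (nat_lit 0),
  Rule.mk (nat_lit 5) (nat_lit 38) (Steps.bwd (nat_lit 2) (Steps.bwd (nat_lit 5) (Steps.fwd (nat_lit 1024) Steps.nil))) (nat_lit 8) (nat_lit 2),
  Rule.mk (nat_lit 3) (nat_lit 48) (Steps.bwd (nat_lit 2) (Steps.fwd (nat_lit 4096) (Steps.bwd (nat_lit 5) (Steps.fwd (nat_lit 1024) Steps.nil)))) (nat_lit 32) (nat_lit 4),
  Rule.mk (nat_lit 1) (nat_lit 28) (Steps.bwd (nat_lit 1) (Steps.fwd (nat_lit 1024) Steps.nil)) (nat_lit 0) (nat_lit 0),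
  Rule.mk (nat_lit 8) (nat_lit 48) (Steps.bwd (nat_lit 1) (Steps.bwd (nat_lit 3) (Steps.bwd (nat_lit 2) (Steps.fwd (nat_lit 2560) Steps.nil)))) (nat_lit 33) (nat_lit 0),
  Rule.mk (nat_lit 6) (nat_lit 38) (Steps.bwd (nat_lit 1) (Steps.fwd (nat_lit 3072) (Steps.bwd (nat_lit 1) Steps.nil))) (nat_lit 24) (nat_lit 1),
  Rule.mk (nat_lit 1) (nat_lit 38) (Steps.bwd (nat_lit 6) (Steps.fwd (nat_lit 1024) (Steps.bwd (nat_lit 6) Steps.nil))) (nat_lit 24) (nat_lit 0),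
  Rule.mk (nat_lit 2) (nat_lit 38) (Steps.bwd (nat_lit 6) (Steps.fwd (nat_lit 512) (Steps.bwd (nat_lit 6) Steps.nil))) (nat_lit 25) (nat_lit 1),
  Rule.mk (nat_lit 5) (nat_lit 38) (Steps.bwd (nat_lit 6) (Steps.bwd (nat_lit 5) (Steps.fwd (nat_lit 3072) Steps.nil))) (nat_lit 26) (nat_lit 0),
  Rule.mk (nat_lit 7) (nat_lit 48) (Steps.bwd (nat_lit 5) (Steps.fwd (nat_lit 1024) (Steps.bwd (nat_lit 3) (Steps.bwd (nat_lit 2) Steps.nil)))) (nat_lit 32) (nat_lit 1),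
  Rule.mk (nat_lit 9) (nat_lit 48) (Steps.bwd (nat_lit 5) (Steps.fwd (nat_lit 1024) (Steps.fwd (nat_lit 2048) (Steps.fwd (nat_lit 512) Steps.nil)))) (nat_lit 34) (nat_lit 1),
  Rule.mk (nat_lit 10) (nat_lit 48) (Steps.fwd (nat_lit 1024) (Steps.fwd (nat_lit 2048) (Steps.fwd (nat_lit 512) (Steps.bwd (nat_lit 5) Steps.nil)))) (nat_lit 35) (nat_lit 0),
  Rule.mk (nat_lit 4) (nat_lit 68) (Steps.bwd (nat_lit 1) (Steps.bwd (nat_lit 4) (Steps.bwd (nat_lit 1) (Steps.fwd (nat_lit 2048) (Steps.bwd (nat_lit 1) (Steps.bwd (nat_lit 5) Steps.nil)))))) (nat_lit 12) (nat_lit 1),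
  Rule.mk (nat_lit 3) (nat_lit 68) (Steps.bwd (nat_lit 1) (Steps.fwd (nat_lit 2560) (Steps.fwd (nat_lit 1536) (Steps.bwd (nat_lit 1) (Steps.bwd (nat_lit 3) (Steps.bwd (nat_lit 1) Steps.nil)))))) (nat_lit 10) (nat_lit 5),
  Rule.mk (nat_lit 5) (nat_lit 48) (Steps.bwd (nat_lit 6) (Steps.bwd (nat_lit 11) (Steps.bwd (nat_lit 10) (Steps.fwd (nat_lit 5632) Steps.nil)))) (nat_lit 47) (nat_lit 1),
  Rule.mk (nat_lit 12) (nat_lit 48) (Steps.bwd (nat_lit 8) (Steps.fwd (nat_lit 2560) (Steps.bwd (nat_lit 11) (Steps.fwd (nat_lit 3584) Steps.nil)))) (nat_lit 41) (nat_lit 0),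
  Rule.mk (nat_lit 12) (nat_lit 68) (Steps.bwd (nat_lit 10) (Steps.bwd (nat_lit 8) (Steps.fwd (nat_lit 3072) (Steps.fwd (nat_lit 2560) (Steps.bwd (nat_lit 11) (Steps.fwd (nat_lit 3072) Steps.nil)))))) (nat_lit 49) (nat_lit 0),
  Rule.mk (nat_lit 5) (nat_lit 48) (Steps.bwd (nat_lit 6) (Steps.fwd (nat_lit 6144) (Steps.fwd (nat_lit 4608) (Steps.bwd (nat_lit 12) Steps.nil)))) (nat_lit 47) (nat_lit 1),
  Rule.mk (nat_lit 12) (nat_lit 38) (Steps.bwd (nat_lit 8) (Steps.fwd (nat_lit 6144) (Steps.bwd (nat_lit 5) Steps.nil))) (nat_lit 39) (nat_lit 0),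
  Rule.mk (nat_lit 11) (nat_lit 48) (Steps.fwd (nat_lit 3584) (Steps.bwd (nat_lit 12) (Steps.bwd (nat_lit 8) (Steps.bwd (nat_lit 5) Steps.nil)))) (nat_lit 41) (nat_lit 3),
  Rule.mk (nat_lit 7) (nat_lit 38) (Steps.fwd (nat_lit 6144) (Steps.bwd (nat_lit 5) (Steps.bwd (nat_lit 12) Steps.nil))) (nat_lit 38) (nat_lit 0),
  Rule.mk (nat_lit 12) (nat_lit 48) (Steps.bwd (nat_lit 5) (Steps.bwd (nat_lit 7) (Steps.fwd (nat_lit 6144) (Steps.fwd (nat_lit 4096) Steps.nil)))) (nat_lit 40) (nat_lit 3),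
  Rule.mk (nat_lit 6) (nat_lit 48) (Steps.bwd (nat_lit 5) (Steps.fwd (nat_lit 6144) (Steps.fwd (nat_lit 5120) (Steps.bwd (nat_lit 12) Steps.nil)))) (nat_lit 46) (nat_lit 4),
  Rule.mk (nat_lit 10) (nat_lit 68) (Steps.bwd (nat_lit 8) (Steps.bwd (nat_lit 6) (Steps.bwd (nat_lit 5) (Steps.bwd (nat_lit 11) (Steps.fwd (nat_lit 3072) (Steps.fwd (nat_lit 5632) Steps.nil)))))) (nat_lit 49) (nat_lit 1),
  Rule.mk (nat_lit 4) (nat_lit 38) (Steps.fwd (nat_lit 6144) (Steps.fwd (nat_lit 2048) (Steps.bwd (nat_lit 11) Steps.nil))) (nat_lit 44) (nat_lit 1),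
  Rule.mk (nat_lit 5) (nat_lit 48) (Steps.bwd (nat_lit 11) (Steps.fwd (nat_lit 3584) (Steps.fwd (nat_lit 5632) (Steps.fwd (nat_lit 3584) Steps.nil)))) (nat_lit 41) (nat_lit 2),
  Rule.mk (nat_lit 4) (nat_lit 38) (Steps.bwd (nat_lit 12) (Steps.fwd (nat_lit 2048) (Steps.fwd (nat_lit 5632) Steps.nil))) (nat_lit 45) (nat_lit 0),
  Rule.mk (nat_lit 5) (nat_lit 38) (Steps.bwd (nat_lit 6) (Steps.bwd (nat_lit 5) (Steps.bwd (nat_lit 6) Steps.nil))) (nat_lit 26) (nat_lit 0),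
  Rule.mk (nat_lit 11) (nat_lit 68) (Steps.bwd (nat_lit 6) (Steps.bwd (nat_lit 12) (Steps.bwd (nat_lit 5) (Steps.fwd (nat_lit 3072) (Steps.fwd (nat_lit 4096) (Steps.bwd (nat_lit 9) Steps.nil)))))) (nat_lit 48) (nat_lit 1),
  Rule.mk (nat_lit 9) (nat_lit 48) (Steps.fwd (nat_lit 5632) (Steps.bwd (nat_lit 6) (Steps.fwd (nat_lit 2560) (Steps.bwd (nat_lit 11) Steps.nil)))) (nat_lit 46) (nat_lit 2),
  Rule.mk (nat_lit 2) (nat_lit 128) (Steps.fwd (nat_lit 6144) (Steps.fwd (nat_lit 1024) (Steps.fwd (nat_lit 1536) (Steps.bwd (nat_lit 2) (Steps.bwd (nat_lit 3) (Steps.bwd (nat_lit 5) (Steps.fwd (nat_lit 512) (Steps.bwd (nat_lit 11) (Steps.fwd (nat_lit 2560) (Steps.bwd (nat_lit 2) (Steps.bwd (nat_lit 11) (Steps.fwd (nat_lit 2560) Steps.nil)))))))))))) (nat_lit 66) (nat_lit 8),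
  Rule.mk (nat_lit 1) (nat_lit 38) (Steps.fwd (nat_lit 2560) (Steps.bwd (nat_lit 2) (Steps.bwd (nat_lit 5) Steps.nil))) (nat_lit 8) (nat_lit 1),
  Rule.mk (nat_lit 1) (nat_lit 48) (Steps.bwd (nat_lit 4) (Steps.bwd (nat_lit 2) (Steps.fwd (nat_lit 5120) (Steps.fwd (nat_lit 2560) Steps.nil)))) (nat_lit 34) (nat_lit 3),
  Rule.mk (nat_lit 1) (nat_lit 58) (Steps.fwd (nat_lit 3072) (Steps.bwd (nat_lit 4) (Steps.bwd (nat_lit 6) (Steps.bwd (nat_lit 2) (Steps.bwd (nat_lit 4) Steps.nil))))) (nat_lit 30) (nat_lit 0),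
  Rule.mk (nat_lit 2) (nat_lit 68) (Steps.fwd (nat_lit 2048) (Steps.fwd (nat_lit 512) (Steps.fwd (nat_lit 2048) (Steps.fwd (nat_lit 2560) (Steps.bwd (nat_lit 2) (Steps.bwd (nat_lit 4) Steps.nil)))))) (nat_lit 13) (nat_lit 4),
  Rule.mk (nat_lit 0) (nat_lit 58) (Steps.bwd (nat_lit 9) (Steps.fwd (nat_lit 2560) (Steps.bwd (nat_lit 1) (Steps.bwd (nat_lit 4) (Steps.bwd (nat_lit 2) Steps.nil))))) (nat_lit 34) (nat_lit 0),
  Rule.mk (nat_lit 0) (nat_lit 38) (Steps.fwd (nat_lit 1024) (Steps.bwd (nat_lit 0) (Steps.fwd (nat_lit 512) Steps.nil))) (nat_lit 68) (nat_lit 0),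
  Rule.mk (nat_lit 0) (nat_lit 38) (Steps.fwd (nat_lit 512) (Steps.fwd (nat_lit 0) (Steps.fwd (nat_lit 1024) Steps.nil))) (nat_lit 68) (nat_lit 0),
  Rule.mk (nat_lit 0) (nat_lit 38) (Steps.bwd (nat_lit 4) (Steps.bwd (nat_lit 0) (Steps.bwd (nat_lit 4) Steps.nil))) (nat_lit 68) (nat_lit 0),
  Rule.mk (nat_lit 0) (nat_lit 38) (Steps.fwd (nat_lit 6144) (Steps.bwd (nat_lit 0) (Steps.fwd (nat_lit 5632) Steps.nil))) (nat_lit 68) (nat_lit 0),
  Rule.mk (nat_lit 0) (nat_lit 38) (Steps.bwd (nat_lit 12) (Steps.bwd (nat_lit 0) (Steps.fwd (nat_lit 6144) Steps.nil))) (nat_lit 68) (nat_lit 0),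
  Rule.mk (nat_lit 0) (nat_lit 48) (Steps.bwd (nat_lit 0) (Steps.fwd (nat_lit 5632) (Steps.fwd (nat_lit 0) (Steps.bwd (nat_lit 11) Steps.nil)))) (nat_lit 68) (nat_lit 0),
  Rule.mk (nat_lit 0) (nat_lit 28) (Steps.fwd (nat_lit 0) (Steps.fwd (nat_lit 0) Steps.nil)) (nat_lit 68) (nat_lit 0),
  Rule.mk (nat_lit 0) (nat_lit 48) (Steps.bwd (nat_lit 0) (Steps.fwd (nat_lit 1024) (Steps.bwd (nat_lit 0) (Steps.bwd (nat_lit 2) Steps.nil)))) (nat_lit 68) (nat_lit 0),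
  Rule.mk (nat_lit 0) (nat_lit 38) (Steps.fwd (nat_lit 1536) (Steps.bwd (nat_lit 0) (Steps.bwd (nat_lit 3) Steps.nil))) (nat_lit 68) (nat_lit 0)]
noncomputable def R_3 : List (Rule) := [Rule.mk (nat_lit 0) (nat_lit 48) (Steps.bwd (nat_lit 5) (Steps.fwd (nat_lit 0) (Steps.fwd (nat_lit 2560) (Steps.fwd (nat_lit 0) Steps.nil)))) (nat_lit 68) (nat_lit 0),
  Rule.mk (nat_lit 0) (nat_lit 48) (Steps.fwd (nat_lit 3072) (Steps.fwd (nat_lit 0) (Steps.fwd (nat_lit 3072) (Steps.fwd (nat_lit 0) Steps.nil)))) (nat_lit 68) (nat_lit 0),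
  Rule.mk (nat_lit 0) (nat_lit 48) (Steps.fwd (nat_lit 1536) (Steps.fwd (nat_lit 0) (Steps.bwd (nat_lit 3) (Steps.fwd (nat_lit 0) Steps.nil)))) (nat_lit 68) (nat_lit 0),
  Rule.mk (nat_lit 0) (nat_lit 48) (Steps.bwd (nat_lit 6) (Steps.bwd (nat_lit 0) (Steps.bwd (nat_lit 6) (Steps.fwd (nat_lit 0) Steps.nil)))) (nat_lit 68) (nat_lit 0),
  Rule.mk (nat_lit 0) (nat_lit 48) (Steps.bwd (nat_lit 1) (Steps.fwd (nat_lit 0) (Steps.bwd (nat_lit 2) (Steps.fwd (nat_lit 0) Steps.nil)))) (nat_lit 68) (nat_lit 0),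
  Rule.mk (nat_lit 0) (nat_lit 58) (Steps.bwd (nat_lit 0) (Steps.fwd (nat_lit 1536) (Steps.bwd (nat_lit 0) (Steps.bwd (nat_lit 3) (Steps.fwd (nat_lit 0) Steps.nil))))) (nat_lit 68) (nat_lit 0),
  Rule.mk (nat_lit 2) (nat_lit 28) (Steps.bwd (nat_lit 0) (Steps.fwd (nat_lit 1024) Steps.nil)) (nat_lit 68) (nat_lit 0),
  Rule.mk (nat_lit 0) (nat_lit 48) (Steps.fwd (nat_lit 4096) (Steps.fwd (nat_lit 0) (Steps.fwd (nat_lit 3584) (Steps.fwd (nat_lit 0) Steps.nil)))) (nat_lit 68) (nat_lit 0),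
  Rule.mk (nat_lit 0) (nat_lit 48) (Steps.fwd (nat_lit 2048) (Steps.bwd (nat_lit 0) (Steps.bwd (nat_lit 4) (Steps.fwd (nat_lit 0) Steps.nil)))) (nat_lit 68) (nat_lit 0),
  Rule.mk (nat_lit 0) (nat_lit 48) (Steps.bwd (nat_lit 0) (Steps.fwd (nat_lit 512) (Steps.fwd (nat_lit 0) (Steps.bwd (nat_lit 1) Steps.nil)))) (nat_lit 68) (nat_lit 0),
  Rule.mk (nat_lit 12) (nat_lit 28) (Steps.bwd (nat_lit 0) (Steps.bwd (nat_lit 11) Steps.nil)) (nat_lit 68) (nat_lit 0)]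
noncomputable def R : List (List (Rule)) := [R_0, R_1, R_2, R_3]
def LW : List Word := [[], [0], [1], [2], [4], [6], [8], [10], [11], [12], [13], [14], [15], [16], [17], [0], [1], [2], [3], [4], [5], [6], [7], [8], [9], [10], [11], [12], [13]]
def par : Par := ⟨9, 5, 14, 23, 511, 16383, 8388607⟩
theorem hpar : par.ok := by decide
theorem hR0_0 : lall (R) (fun l => lall l (ruleOK Rc1' LW par)) = true := by decide +kernel
theorem hR0 : lall (R) (fun l => lall l (ruleOK Rc1' LW par)) = true := hR0_0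
theorem hR : RulesOK Rc1' LW par R := rulesOK_of rfl hR0
def cols : List (ℕ × ℕ) := [(512, 2), (1536, 3), (2048, 4), (2560, 5), (3072, 6), (3584, 8), (4608, 10), (5632, 12), (6656, 14)]
theorem hcols : lall cols (colOK Rc1' LW par) = true := by decide +kernel
noncomputable def JS0 : List ℕ := [nat_lit 0x6a0046a1100c190741a06c031c00819008030006c0105c1900468001a0641819c6618194011945c650541305c650f19012190030e1946718c58030306215008641845060040600c180060080301060130246017c485e0005e1100001178111780310174110380f1743c5c0345c004385b0405b0d1680e16830020280b0300d0082c010280c0042800164240b1605708158031581c5500c550600c0000455018550515003150000414c0314c010314806148085100c5101,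
  nat_lit 0x10000c08218370d8441048f010030040504405340100a2148d00c023300c0f2143a00801320000202005310040f004c000208bc05008031f8b8010140100894020bc2c008b4011f4b07b0187b2b0a07b1e8a87b0b88209c7a291e4260ac261e498051e4801e0a0781fc770049c760a076000947509875241d4280a8281d498740a474000947309c73241cc040140302473131cc011c88c7100c711100c1900c8870020070180b1c04c6f028051bc846e014091b8800b0186d1f1c8061b078091b06b1d,
  nat_lit 0x408004c000274bc0300001264b801268b098008982b0c09825ca8980e8300bc97372583025890970f8a30e0963e2543c2549096108400f09537254432549098110043d0100e25c4500c023300c0925430008013c00002020043b0040c004c00024cbc050040223ce80000c00004e40123cb08d0148d2b08c8d230a88c088210888c37230380982122c980322c25228e08a0908900094880908824220340d834220dc870d087240580000410360041221c080100035,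
  nat_lit 0x4e140c6128022cd60b6048b4000b2570000319114022c460b000cb0562bc032bd5403010052fd50022bc0e2bd4c0101cad520000300144ac00c052ad4003014ac018052ad3c332b0aa4e008052a534032a4a84c008a829d2c0129928031003e108a7490082b29920010e4a5470003a290a3460e8a3000a2452883e2883004048a200110a1048a12429ca02c0040d01c054327c4c27d08a327904a110c033d00c0727c38008014000808280ac004003f,
  nat_lit 0x8cf325cc103212803140df1245a321c8cd31dc400014c97001007010c66f36cc6315b8c4004c46d014443108cc3110c36c00cc26b018d730cc2000036a30846308c169000d4304c068100c0000bf672fc452fc040111cc066000472fcbe6511cbe000bd642f4492f4040401c062fcbe2f58c0e2f8bd2f1881901cbb61030002e844ba0000202d8000060075f05806004002e4b85e000b7004cb01d7404064042d97052008b55b2e4002d1680014cb959,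
  nat_lit 0x3d018058c3c4de375e4dd3c4423c4dd8b008de0ecdc8a00402138dd7a0044d3700089000f136e204912c49368d98741800862500024c00853e8003e610df000158303800036080d050020020400120da36600481249a260f0004d405cd40080334dfcd3348b000008567e3480a0300f345f4d1360d07c00002120547b34000048cf7a35cd033de40000446780040403c13339dc4033c023399003000cd76008053a0843bc45110431184c100cd753303e33004ce0180d331d0cb048cb0054003040ca66,
  nat_lit 0xf208cf23c688f33ecf27c06cf1970205b3f0193e4f1a13e4f02c014160400c4300c081b0fb3e8f0a0008ef3e4039f3b8f8008019e03012004009d0081b3ae70013acea9b1901a3a6680118cf49900c0402ce89805ce7973a502128e7963b902398f4e6110e59501ce49439042100e49302c3e38e48e538904033f0e29139ce141384013ece49002c01381b43b380df79394541043737e3ce1004df8e12cdf379e4010d03611cde8d,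
  nat_lit 0xf0080702813b50781000407b442400012cc03008434d1330781d07c270e032046c8011042801ec40046d0d4d0f83c0a82b41100b0000023febc0307c200b1163fdc8140e0feae00cff02cfead3f8013f5340d3f128010600cac008fd3ed2c083e9280408cfa2300cf96b02c1e010063ec00ab0041e00d3003048033dea818010003daa40104c03a8004f50000da7044013d29800038003d294123e0053dc003d290000a8f74c09801000f367005010012cf20010070080f3000f1a3,
  nat_lit 0x16f8003940550314042b80137310032bc003a7240201af801008070fb140a1640214b209802c9902e153102b1c00022f80113c0b14407c601d2e01043c5025290044ac40044200035c301409be0003d01441c200c06be0105400d2dc112802127012e0052c8410c000d803bf00003be4700309c02bd44c030520c1c00c1fbc0300343aec0a0080eba00c0100ae40500006b8004120080c01adc080000bb30400301c0500409b6,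
  nat_lit 0x5d400cb5d00139000bd00404be00004be5a4004f805ca]
theorem S0_c : blocks (facts 9 5 14 23 511 16383 8388607 10 1023 8 255 A R 32) 32 JS0 337 = true := by decide +kernel
theorem S0 : On (Step.{u} Rc1' LW par A) 337 657 :=
  steps_of_blocks hpar hR S0_c (by decide +kernel)
theorem D0_c : allB (defOK 9 14 23 511 8388607 331 A K) 1 2 = true := by decide +kernel
theorem D0 : On (fun r => defOK par.W par.WL par.E par.mW par.mE 331 A K r = true) 256 384 :=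
  On.of_allB D0_c
noncomputable def JW0 : List ℕ := [nat_lit 0x11106ea014128450ca214528c]
theorem W0_c : blocks (rows 9 5 14 23 511 16383 8388607 11 2047 99 A 657 1 cols 14) 14 JW0 0 = true := by decide +kernel
theorem W0 : On (Row.{u} Rc1' LW par A 657 1 cols) 0 14 :=
  rows_of_blocks hpar (by decide) hcols W0_c (by decide +kernel)
theorem idx : Idx.{u} Rc1' [[0], [2], [4], [6], [8], [10], [12], [14], [16]] [[0], [2], [4], [6], [8], [10], [12]] 1 :=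
  idx_of_cert hpar hR (K := K) (by decide +kernel) (T := 331) (T' := 384) (by decide) D0
    (subs := [1,3,4,5,6,7,9]) (by decide +kernel) (T1 := 337) (by decide) (N := 657) S0
    (by decide) (n' := 14) (by decide) W0 (by decide +kernel) (by decide +kernel)
end c1
namespace c2
noncomputable def A_0 : List (ℕ) := [nat_lit 0x1a04563028d064d1807d01617b46432187864519058232178c442318b8428150b1a311894422310c458218085c2b0a18562c305458a158ac02d0734581568a8504148a5a24142c522718a04e7140a122614344a2768a0507138a0a2712985026309c4aa1389522712b44e2538984cd13098e25130c4c252898487120906241290482518940cb1288522111383c1c688c3aa0f87ca1f0f903e0c087c3e0100302200f24380c10783850e074c1c0e943a0508740c80d068c080d34341a48680c70d068a1a0d0c340408683400d81021b0318320838643290c865a080334321918203250c8182190b0c2c1868582c50b0580170c243018284c2a20c04481109b4221100482050802d81001ac200b204020908015a100a902814703412d0a8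2940e05241c0e28381c40700820e07001e02083c1a90480840d059c160b482c16505830c0c0624180c182c18402830a0c00b4180a3828125048246090510140a182814604828a0a0084140618180c903021a0603140c06001c0c40301c8070410100848201050401040802980a05281404d0280c803019c0603480c06501810c0402240804180c08402010a0400340801180402700804a0100980201480404601009202011c0402200404301008a02002c0400480000700000c00001400002000003000002002c24ae572958ace1c955a412a3484532948a4228945a382834724f29389c226935a4c2614964b10d494424124847240c8e4708948c5229144442234864329088421390442620107e3f08f87c41e0f463c1e046c3b20dc7441c0e44361c046e3708906cb0d0d56191a0866336874641058c5a0e18345e2f28b85c2150b522c1614562b702854d048a56081430102760644cc0d095624122c0c23288844210885a0a10103e1f08783c40e07421c0e040a1b1868341040642030c342e1728582c205854a140a0826136848245088444100834040f20381c1068348090634160b68041410482420104340e0728180c20181580402340603680004b00805600,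
  nat_lit 0xe000000030180100300640600301800803006a0600900c00c8640250c806a19009c3201209002512006a2400a05001a8e003f12004e3800e47201f9580582b00ae3e01247002115c0582200a04d0154a40299440542720b0517160ae2279444582704ac5609349e62b1544572b989c5870e0ae32a15da542134ae4d3154a842a954a4d2788aa503150a852894c4542218a24d2144a4e248f9a532814884611408aa2710524b1c90964d68e89651d0e804c27386e48693c7412512523e1a88924139046e92412123724148e4811044c22411da451e288e40091c84a1c908841210c844468fc8451f8fc0431e348c40290470a1f8fc63f14087c3e28ec7e2140942401e18703728f07831e0e423c1e007a3908f47631d89c43b1484743730e47231c0e50381c14723718dc4811c0988361b18483668d86c31b0d8a24132c6c2720d46a6148d54241ab8483568a46a51489d6350030000000040600800c00b0080040b0040120068440160a002a130060666098ac233]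
noncomputable def A : List (List (ℕ)) := [A_0]
noncomputable def K_0 : List (ℕ) := [nat_lit 0x157ab556a953a9546a14fa7536994ba55269147a35168943a1506813f9f4f6793b9d4e671379b4d66933994c6612f974b6592b954a6512793496492391486411f8f476391b8d46631178b456291389446210f87436190b854261107834160903814060000]
noncomputable def K : List (List (ℕ)) := [K_0]
noncomputable def R_0 : List (Rule) := [Rule.mk (nat_lit 11) (nat_lit 28) (Steps.bwd (nat_lit 11) (Steps.bwd (nat_lit 11) Steps.nil)) (nat_lit 36) (nat_lit 0),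
  Rule.mk (nat_lit 5) (nat_lit 38) (Steps.fwd (nat_lit 5632) (Steps.bwd (nat_lit 7) (Steps.bwd (nat_lit 11) Steps.nil))) (nat_lit 38) (nat_lit 2),
  Rule.mk (nat_lit 3) (nat_lit 38) (Steps.fwd (nat_lit 5632) (Steps.fwd (nat_lit 1536) (Steps.bwd (nat_lit 11) Steps.nil))) (nat_lit 42) (nat_lit 2),
  Rule.mk (nat_lit 4) (nat_lit 38) (Steps.bwd (nat_lit 11) (Steps.fwd (nat_lit 2048) (Steps.bwd (nat_lit 11) Steps.nil))) (nat_lit 44) (nat_lit 1),
  Rule.mk (nat_lit 7) (nat_lit 48) (Steps.fwd (nat_lit 5632) (Steps.fwd (nat_lit 2560) (Steps.bwd (nat_lit 7) (Steps.bwd (nat_lit 11) Steps.nil)))) (nat_lit 40) (nat_lit 2),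
  Rule.mk (nat_lit 9) (nat_lit 48) (Steps.fwd (nat_lit 5632) (Steps.fwd (nat_lit 3072) (Steps.fwd (nat_lit 2560) (Steps.bwd (nat_lit 11) Steps.nil)))) (nat_lit 46) (nat_lit 2),
  Rule.mk (nat_lit 6) (nat_lit 68) (Steps.fwd (nat_lit 5632) (Steps.fwd (nat_lit 2560) (Steps.fwd (nat_lit 3072) (Steps.bwd (nat_lit 7) (Steps.bwd (nat_lit 9) (Steps.bwd (nat_lit 11) Steps.nil)))))) (nat_lit 48) (nat_lit 2),
  Rule.mk (nat_lit 5) (nat_lit 48) (Steps.bwd (nat_lit 11) (Steps.bwd (nat_lit 9) (Steps.fwd (nat_lit 5632) (Steps.fwd (nat_lit 3072) Steps.nil)))) (nat_lit 46) (nat_lit 0),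
  Rule.mk (nat_lit 7) (nat_lit 68) (Steps.bwd (nat_lit 9) (Steps.bwd (nat_lit 11) (Steps.fwd (nat_lit 3072) (Steps.fwd (nat_lit 5632) (Steps.fwd (nat_lit 2560) (Steps.fwd (nat_lit 3072) Steps.nil)))))) (nat_lit 48) (nat_lit 6),
  Rule.mk (nat_lit 3) (nat_lit 38) (Steps.fwd (nat_lit 2048) (Steps.fwd (nat_lit 1536) (Steps.bwd (nat_lit 4) Steps.nil))) (nat_lit 14) (nat_lit 1),
  Rule.mk (nat_lit 13) (nat_lit 28) (Steps.bwd (nat_lit 13) (Steps.bwd (nat_lit 13) Steps.nil)) (nat_lit 50) (nat_lit 0),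
  Rule.mk (nat_lit 5) (nat_lit 38) (Steps.fwd (nat_lit 6656) (Steps.bwd (nat_lit 9) (Steps.bwd (nat_lit 13) Steps.nil))) (nat_lit 52) (nat_lit 2),
  Rule.mk (nat_lit 4) (nat_lit 38) (Steps.fwd (nat_lit 6656) (Steps.fwd (nat_lit 2048) (Steps.bwd (nat_lit 13) Steps.nil))) (nat_lit 56) (nat_lit 2),
  Rule.mk (nat_lit 3) (nat_lit 38) (Steps.bwd (nat_lit 13) (Steps.fwd (nat_lit 1536) (Steps.bwd (nat_lit 13) Steps.nil))) (nat_lit 58) (nat_lit 1),
  Rule.mk (nat_lit 9) (nat_lit 48) (Steps.fwd (nat_lit 6656) (Steps.fwd (nat_lit 2560) (Steps.bwd (nat_lit 9) (Steps.bwd (nat_lit 13) Steps.nil)))) (nat_lit 54) (nat_lit 2),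
  Rule.mk (nat_lit 6) (nat_lit 68) (Steps.fwd (nat_lit 6656) (Steps.fwd (nat_lit 2560) (Steps.fwd (nat_lit 3072) (Steps.bwd (nat_lit 7) (Steps.bwd (nat_lit 9) (Steps.bwd (nat_lit 13) Steps.nil)))))) (nat_lit 62) (nat_lit 2),
  Rule.mk (nat_lit 7) (nat_lit 58) (Steps.bwd (nat_lit 9) (Steps.fwd (nat_lit 2560) (Steps.fwd (nat_lit 6656) (Steps.fwd (nat_lit 3072) (Steps.bwd (nat_lit 13) Steps.nil))))) (nat_lit 60) (nat_lit 2),
  Rule.mk (nat_lit 4) (nat_lit 38) (Steps.fwd (nat_lit 1536) (Steps.fwd (nat_lit 2048) (Steps.bwd (nat_lit 3) Steps.nil))) (nat_lit 14) (nat_lit 0),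
  Rule.mk (nat_lit 13) (nat_lit 38) (Steps.bwd (nat_lit 12) (Steps.fwd (nat_lit 6656) (Steps.bwd (nat_lit 11) Steps.nil))) (nat_lit 64) (nat_lit 2),
  Rule.mk (nat_lit 2) (nat_lit 128) (Steps.bwd (nat_lit 13) (Steps.bwd (nat_lit 5) (Steps.bwd (nat_lit 2) (Steps.bwd (nat_lit 13) (Steps.bwd (nat_lit 1) (Steps.fwd (nat_lit 2048) (Steps.fwd (nat_lit 512) (Steps.fwd (nat_lit 2048) (Steps.fwd (nat_lit 2560) (Steps.fwd (nat_lit 512) (Steps.bwd (nat_lit 13) (Steps.fwd (nat_lit 2560) Steps.nil)))))))))))) (nat_lit 66) (nat_lit 5),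
  Rule.mk (nat_lit 5) (nat_lit 38) (Steps.fwd (nat_lit 1024) (Steps.fwd (nat_lit 2560) (Steps.bwd (nat_lit 2) Steps.nil))) (nat_lit 8) (nat_lit 0),
  Rule.mk (nat_lit 9) (nat_lit 48) (Steps.fwd (nat_lit 2560) (Steps.fwd (nat_lit 1024) (Steps.fwd (nat_lit 2048) (Steps.bwd (nat_lit 2) Steps.nil)))) (nat_lit 34) (nat_lit 1),
  Rule.mk (nat_lit 4) (nat_lit 58) (Steps.fwd (nat_lit 1024) (Steps.fwd (nat_lit 3072) (Steps.fwd (nat_lit 2048) (Steps.fwd (nat_lit 3072) (Steps.bwd (nat_lit 2) Steps.nil))))) (nat_lit 30) (nat_lit 5),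
  Rule.mk (nat_lit 4) (nat_lit 38) (Steps.fwd (nat_lit 2560) (Steps.fwd (nat_lit 2048) (Steps.bwd (nat_lit 5) Steps.nil))) (nat_lit 20) (nat_lit 1),
  Rule.mk (nat_lit 0) (nat_lit 48) (Steps.fwd (nat_lit 6656) (Steps.fwd (nat_lit 4608) (Steps.bwd (nat_lit 13) (Steps.bwd (nat_lit 5) Steps.nil)))) (nat_lit 53) (nat_lit 3),
  Rule.mk (nat_lit 5) (nat_lit 28) (Steps.bwd (nat_lit 0) (Steps.bwd (nat_lit 5) Steps.nil)) (nat_lit 68) (nat_lit 0),
  Rule.mk (nat_lit 13) (nat_lit 28) (Steps.bwd (nat_lit 0) (Steps.fwd (nat_lit 6656) Steps.nil)) (nat_lit 68) (nat_lit 0),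
  Rule.mk (nat_lit 3) (nat_lit 48) (Steps.bwd (nat_lit 2) (Steps.bwd (nat_lit 7) (Steps.fwd (nat_lit 2560) (Steps.fwd (nat_lit 1024) Steps.nil)))) (nat_lit 32) (nat_lit 4),
  Rule.mk (nat_lit 1) (nat_lit 28) (Steps.bwd (nat_lit 1) (Steps.bwd (nat_lit 1) Steps.nil)) (nat_lit 0) (nat_lit 0),
  Rule.mk (nat_lit 5) (nat_lit 38) (Steps.fwd (nat_lit 512) (Steps.fwd (nat_lit 2560) (Steps.bwd (nat_lit 1) Steps.nil))) (nat_lit 8) (nat_lit 2),
  Rule.mk (nat_lit 6) (nat_lit 38) (Steps.bwd (nat_lit 1) (Steps.fwd (nat_lit 3072) (Steps.bwd (nat_lit 1) Steps.nil))) (nat_lit 24) (nat_lit 1),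
  Rule.mk (nat_lit 3) (nat_lit 48) (Steps.fwd (nat_lit 512) (Steps.bwd (nat_lit 7) (Steps.fwd (nat_lit 2560) (Steps.bwd (nat_lit 1) Steps.nil)))) (nat_lit 32) (nat_lit 4),
  Rule.mk (nat_lit 4) (nat_lit 48) (Steps.fwd (nat_lit 512) (Steps.bwd (nat_lit 9) (Steps.fwd (nat_lit 2560) (Steps.bwd (nat_lit 1) Steps.nil)))) (nat_lit 34) (nat_lit 4),
  Rule.mk (nat_lit 3) (nat_lit 58) (Steps.fwd (nat_lit 3072) (Steps.fwd (nat_lit 512) (Steps.fwd (nat_lit 1536) (Steps.bwd (nat_lit 1) (Steps.bwd (nat_lit 6) Steps.nil))))) (nat_lit 28) (nat_lit 2),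
  Rule.mk (nat_lit 5) (nat_lit 68) (Steps.fwd (nat_lit 1536) (Steps.bwd (nat_lit 1) (Steps.fwd (nat_lit 1536) (Steps.bwd (nat_lit 1) (Steps.fwd (nat_lit 1536) (Steps.bwd (nat_lit 1) Steps.nil)))))) (nat_lit 10) (nat_lit 0),
  Rule.mk (nat_lit 7) (nat_lit 48) (Steps.fwd (nat_lit 2560) (Steps.bwd (nat_lit 1) (Steps.fwd (nat_lit 1536) (Steps.fwd (nat_lit 512) Steps.nil)))) (nat_lit 32) (nat_lit 1),
  Rule.mk (nat_lit 4) (nat_lit 38) (Steps.fwd (nat_lit 6656) (Steps.bwd (nat_lit 4) (Steps.bwd (nat_lit 13) Steps.nil))) (nat_lit 56) (nat_lit 2),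
  Rule.mk (nat_lit 2) (nat_lit 58) (Steps.bwd (nat_lit 4) (Steps.bwd (nat_lit 1) (Steps.fwd (nat_lit 3072) (Steps.fwd (nat_lit 2048) (Steps.fwd (nat_lit 3072) Steps.nil))))) (nat_lit 30) (nat_lit 4),
  Rule.mk (nat_lit 9) (nat_lit 48) (Steps.fwd (nat_lit 2560) (Steps.bwd (nat_lit 1) (Steps.fwd (nat_lit 2048) (Steps.bwd (nat_lit 2) Steps.nil)))) (nat_lit 34) (nat_lit 1),
  Rule.mk (nat_lit 1) (nat_lit 68) (Steps.bwd (nat_lit 4) (Steps.bwd (nat_lit 1) (Steps.bwd (nat_lit 4) (Steps.bwd (nat_lit 1) (Steps.fwd (nat_lit 2560) (Steps.fwd (nat_lit 2048) Steps.nil)))))) (nat_lit 12) (nat_lit 2),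
  Rule.mk (nat_lit 0) (nat_lit 38) (Steps.fwd (nat_lit 512) (Steps.bwd (nat_lit 2) (Steps.fwd (nat_lit 512) Steps.nil))) (nat_lit 1) (nat_lit 0),
  Rule.mk (nat_lit 1) (nat_lit 28) (Steps.bwd (nat_lit 0) (Steps.fwd (nat_lit 512) Steps.nil)) (nat_lit 68) (nat_lit 0),
  Rule.mk (nat_lit 4) (nat_lit 28) (Steps.bwd (nat_lit 0) (Steps.bwd (nat_lit 4) Steps.nil)) (nat_lit 68) (nat_lit 0),
  Rule.mk (nat_lit 5) (nat_lit 68) (Steps.fwd (nat_lit 2048) (Steps.bwd (nat_lit 1) (Steps.bwd (nat_lit 4) (Steps.bwd (nat_lit 1) (Steps.fwd (nat_lit 2048) (Steps.bwd (nat_lit 1) Steps.nil)))))) (nat_lit 12) (nat_lit 0),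
  Rule.mk (nat_lit 9) (nat_lit 48) (Steps.fwd (nat_lit 2560) (Steps.bwd (nat_lit 1) (Steps.bwd (nat_lit 4) (Steps.fwd (nat_lit 512) Steps.nil)))) (nat_lit 34) (nat_lit 1),
  Rule.mk (nat_lit 10) (nat_lit 48) (Steps.bwd (nat_lit 1) (Steps.bwd (nat_lit 4) (Steps.fwd (nat_lit 512) (Steps.fwd (nat_lit 2560) Steps.nil)))) (nat_lit 35) (nat_lit 0),
  Rule.mk (nat_lit 13) (nat_lit 128) (Steps.bwd (nat_lit 5) (Steps.bwd (nat_lit 2) (Steps.bwd (nat_lit 13) (Steps.bwd (nat_lit 5) (Steps.bwd (nat_lit 2) (Steps.bwd (nat_lit 13) (Steps.bwd (nat_lit 1) (Steps.fwd (nat_lit 2048) (Steps.fwd (nat_lit 512) (Steps.bwd (nat_lit 4) (Steps.fwd (nat_lit 2560) (Steps.fwd (nat_lit 512) Steps.nil)))))))))))) (nat_lit 66) (nat_lit 3),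
  Rule.mk (nat_lit 14) (nat_lit 38) (Steps.bwd (nat_lit 9) (Steps.bwd (nat_lit 13) (Steps.bwd (nat_lit 5) Steps.nil))) (nat_lit 52) (nat_lit 3),
  Rule.mk (nat_lit 4) (nat_lit 38) (Steps.bwd (nat_lit 14) (Steps.bwd (nat_lit 4) (Steps.bwd (nat_lit 13) Steps.nil))) (nat_lit 56) (nat_lit 2),
  Rule.mk (nat_lit 9) (nat_lit 38) (Steps.bwd (nat_lit 13) (Steps.fwd (nat_lit 2560) (Steps.fwd (nat_lit 6656) Steps.nil))) (nat_lit 52) (nat_lit 0),
  Rule.mk (nat_lit 4) (nat_lit 38) (Steps.bwd (nat_lit 13) (Steps.bwd (nat_lit 4) (Steps.fwd (nat_lit 6656) Steps.nil))) (nat_lit 56) (nat_lit 0),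
  Rule.mk (nat_lit 11) (nat_lit 38) (Steps.bwd (nat_lit 13) (Steps.fwd (nat_lit 5632) (Steps.fwd (nat_lit 6656) Steps.nil))) (nat_lit 64) (nat_lit 1),
  Rule.mk (nat_lit 12) (nat_lit 38) (Steps.bwd (nat_lit 13) (Steps.bwd (nat_lit 11) (Steps.fwd (nat_lit 6656) Steps.nil))) (nat_lit 65) (nat_lit 0),
  Rule.mk (nat_lit 5) (nat_lit 48) (Steps.bwd (nat_lit 9) (Steps.bwd (nat_lit 13) (Steps.bwd (nat_lit 9) (Steps.fwd (nat_lit 6656) Steps.nil)))) (nat_lit 54) (nat_lit 4),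
  Rule.mk (nat_lit 0) (nat_lit 48) (Steps.bwd (nat_lit 5) (Steps.bwd (nat_lit 2) (Steps.fwd (nat_lit 2560) (Steps.fwd (nat_lit 1024) Steps.nil)))) (nat_lit 8) (nat_lit 1),
  Rule.mk (nat_lit 4) (nat_lit 48) (Steps.bwd (nat_lit 2) (Steps.bwd (nat_lit 9) (Steps.fwd (nat_lit 2560) (Steps.fwd (nat_lit 1024) Steps.nil)))) (nat_lit 34) (nat_lit 4),
  Rule.mk (nat_lit 2) (nat_lit 128) (Steps.bwd (nat_lit 13) (Steps.bwd (nat_lit 5) (Steps.bwd (nat_lit 2) (Steps.bwd (nat_lit 13) (Steps.bwd (nat_lit 1) (Steps.fwd (nat_lit 2048) (Steps.fwd (nat_lit 512) (Steps.fwd (nat_lit 2048) (Steps.fwd (nat_lit 2560) (Steps.bwd (nat_lit 2) (Steps.fwd (nat_lit 7168) (Steps.fwd (nat_lit 2560) Steps.nil)))))))))))) (nat_lit 66) (nat_lit 5),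
  Rule.mk (nat_lit 9) (nat_lit 48) (Steps.bwd (nat_lit 5) (Steps.fwd (nat_lit 1024) (Steps.fwd (nat_lit 2048) (Steps.bwd (nat_lit 2) Steps.nil)))) (nat_lit 34) (nat_lit 1),
  Rule.mk (nat_lit 1) (nat_lit 28) (Steps.bwd (nat_lit 1) (Steps.fwd (nat_lit 1024) Steps.nil)) (nat_lit 0) (nat_lit 0),
  Rule.mk (nat_lit 3) (nat_lit 68) (Steps.fwd (nat_lit 1024) (Steps.bwd (nat_lit 3) (Steps.fwd (nat_lit 1024) (Steps.fwd (nat_lit 1536) (Steps.bwd (nat_lit 1) (Steps.fwd (nat_lit 2560) Steps.nil)))))) (nat_lit 10) (nat_lit 1),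
  Rule.mk (nat_lit 13) (nat_lit 38) (Steps.bwd (nat_lit 3) (Steps.bwd (nat_lit 13) (Steps.fwd (nat_lit 1536) Steps.nil))) (nat_lit 58) (nat_lit 0),
  Rule.mk (nat_lit 7) (nat_lit 48) (Steps.fwd (nat_lit 2560) (Steps.bwd (nat_lit 1) (Steps.fwd (nat_lit 1536) (Steps.bwd (nat_lit 2) Steps.nil)))) (nat_lit 32) (nat_lit 1),
  Rule.mk (nat_lit 6) (nat_lit 58) (Steps.bwd (nat_lit 13) (Steps.bwd (nat_lit 7) (Steps.bwd (nat_lit 9) (Steps.fwd (nat_lit 2560) (Steps.fwd (nat_lit 6656) Steps.nil))))) (nat_lit 60) (nat_lit 0),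
  Rule.mk (nat_lit 1) (nat_lit 68) (Steps.bwd (nat_lit 3) (Steps.bwd (nat_lit 1) (Steps.fwd (nat_lit 1536) (Steps.bwd (nat_lit 1) (Steps.fwd (nat_lit 2560) (Steps.fwd (nat_lit 1536) Steps.nil)))))) (nat_lit 10) (nat_lit 2)]
noncomputable def R_1 : List (Rule) := [Rule.mk (nat_lit 3) (nat_lit 28) (Steps.bwd (nat_lit 0) (Steps.bwd (nat_lit 3) Steps.nil)) (nat_lit 68) (nat_lit 0),
  Rule.mk (nat_lit 9) (nat_lit 48) (Steps.fwd (nat_lit 2560) (Steps.bwd (nat_lit 1) (Steps.fwd (nat_lit 2048) (Steps.fwd (nat_lit 512) Steps.nil)))) (nat_lit 34) (nat_lit 1),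
  Rule.mk (nat_lit 13) (nat_lit 128) (Steps.fwd (nat_lit 2560) (Steps.fwd (nat_lit 512) (Steps.bwd (nat_lit 13) (Steps.fwd (nat_lit 1024) (Steps.fwd (nat_lit 2048) (Steps.bwd (nat_lit 2) (Steps.fwd (nat_lit 2048) (Steps.fwd (nat_lit 2560) (Steps.fwd (nat_lit 512) (Steps.bwd (nat_lit 13) (Steps.fwd (nat_lit 2560) (Steps.fwd (nat_lit 512) Steps.nil)))))))))))) (nat_lit 66) (nat_lit 6),
  Rule.mk (nat_lit 8) (nat_lit 58) (Steps.fwd (nat_lit 6656) (Steps.bwd (nat_lit 6) (Steps.bwd (nat_lit 13) (Steps.fwd (nat_lit 2560) (Steps.fwd (nat_lit 4608) Steps.nil))))) (nat_lit 61) (nat_lit 5),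
  Rule.mk (nat_lit 5) (nat_lit 38) (Steps.fwd (nat_lit 3072) (Steps.fwd (nat_lit 2560) (Steps.bwd (nat_lit 6) Steps.nil))) (nat_lit 26) (nat_lit 0),
  Rule.mk (nat_lit 13) (nat_lit 128) (Steps.bwd (nat_lit 5) (Steps.bwd (nat_lit 2) (Steps.bwd (nat_lit 13) (Steps.fwd (nat_lit 2560) (Steps.fwd (nat_lit 512) (Steps.bwd (nat_lit 13) (Steps.bwd (nat_lit 1) (Steps.fwd (nat_lit 2048) (Steps.fwd (nat_lit 512) (Steps.bwd (nat_lit 4) (Steps.fwd (nat_lit 2560) (Steps.fwd (nat_lit 512) Steps.nil)))))))))))) (nat_lit 66) (nat_lit 3),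
  Rule.mk (nat_lit 7) (nat_lit 38) (Steps.bwd (nat_lit 11) (Steps.fwd (nat_lit 2560) (Steps.fwd (nat_lit 5632) Steps.nil))) (nat_lit 38) (nat_lit 0),
  Rule.mk (nat_lit 5) (nat_lit 38) (Steps.bwd (nat_lit 12) (Steps.fwd (nat_lit 4096) (Steps.bwd (nat_lit 11) Steps.nil))) (nat_lit 38) (nat_lit 2),
  Rule.mk (nat_lit 3) (nat_lit 38) (Steps.fwd (nat_lit 2560) (Steps.fwd (nat_lit 1536) (Steps.bwd (nat_lit 5) Steps.nil))) (nat_lit 18) (nat_lit 1),
  Rule.mk (nat_lit 7) (nat_lit 48) (Steps.bwd (nat_lit 11) (Steps.bwd (nat_lit 7) (Steps.fwd (nat_lit 5632) (Steps.bwd (nat_lit 5) Steps.nil)))) (nat_lit 40) (nat_lit 0),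
  Rule.mk (nat_lit 13) (nat_lit 38) (Steps.bwd (nat_lit 12) (Steps.fwd (nat_lit 6656) (Steps.fwd (nat_lit 6144) Steps.nil))) (nat_lit 64) (nat_lit 2),
  Rule.mk (nat_lit 7) (nat_lit 48) (Steps.bwd (nat_lit 12) (Steps.fwd (nat_lit 2560) (Steps.fwd (nat_lit 4096) (Steps.bwd (nat_lit 11) Steps.nil)))) (nat_lit 40) (nat_lit 2),
  Rule.mk (nat_lit 9) (nat_lit 48) (Steps.bwd (nat_lit 12) (Steps.fwd (nat_lit 3072) (Steps.fwd (nat_lit 2560) (Steps.bwd (nat_lit 11) Steps.nil)))) (nat_lit 46) (nat_lit 2),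
  Rule.mk (nat_lit 10) (nat_lit 48) (Steps.bwd (nat_lit 12) (Steps.fwd (nat_lit 2560) (Steps.fwd (nat_lit 3072) (Steps.bwd (nat_lit 11) Steps.nil)))) (nat_lit 47) (nat_lit 4),
  Rule.mk (nat_lit 6) (nat_lit 68) (Steps.bwd (nat_lit 12) (Steps.fwd (nat_lit 2560) (Steps.fwd (nat_lit 3072) (Steps.bwd (nat_lit 7) (Steps.bwd (nat_lit 9) (Steps.fwd (nat_lit 6144) Steps.nil)))))) (nat_lit 48) (nat_lit 2),
  Rule.mk (nat_lit 6) (nat_lit 68) (Steps.bwd (nat_lit 12) (Steps.fwd (nat_lit 2560) (Steps.fwd (nat_lit 3072) (Steps.fwd (nat_lit 4096) (Steps.bwd (nat_lit 9) (Steps.bwd (nat_lit 11) Steps.nil)))))) (nat_lit 48) (nat_lit 2),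
  Rule.mk (nat_lit 7) (nat_lit 68) (Steps.fwd (nat_lit 5120) (Steps.bwd (nat_lit 13) (Steps.fwd (nat_lit 3072) (Steps.fwd (nat_lit 6656) (Steps.fwd (nat_lit 2560) (Steps.bwd (nat_lit 6) Steps.nil)))))) (nat_lit 62) (nat_lit 6),
  Rule.mk (nat_lit 13) (nat_lit 58) (Steps.bwd (nat_lit 7) (Steps.fwd (nat_lit 5120) (Steps.bwd (nat_lit 5) (Steps.fwd (nat_lit 6656) (Steps.bwd (nat_lit 6) Steps.nil))))) (nat_lit 60) (nat_lit 1),
  Rule.mk (nat_lit 11) (nat_lit 28) (Steps.bwd (nat_lit 11) (Steps.fwd (nat_lit 6144) Steps.nil)) (nat_lit 36) (nat_lit 0),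
  Rule.mk (nat_lit 13) (nat_lit 38) (Steps.fwd (nat_lit 5632) (Steps.fwd (nat_lit 6656) (Steps.bwd (nat_lit 11) Steps.nil))) (nat_lit 64) (nat_lit 2),
  Rule.mk (nat_lit 4) (nat_lit 38) (Steps.bwd (nat_lit 13) (Steps.fwd (nat_lit 2048) (Steps.fwd (nat_lit 6656) Steps.nil))) (nat_lit 56) (nat_lit 0),
  Rule.mk (nat_lit 13) (nat_lit 38) (Steps.bwd (nat_lit 5) (Steps.bwd (nat_lit 14) (Steps.bwd (nat_lit 9) Steps.nil))) (nat_lit 52) (nat_lit 1),
  Rule.mk (nat_lit 0) (nat_lit 58) (Steps.bwd (nat_lit 9) (Steps.fwd (nat_lit 6656) (Steps.fwd (nat_lit 2560) (Steps.fwd (nat_lit 5120) (Steps.fwd (nat_lit 7168) Steps.nil))))) (nat_lit 54) (nat_lit 1),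
  Rule.mk (nat_lit 10) (nat_lit 28) (Steps.bwd (nat_lit 0) (Steps.bwd (nat_lit 9) Steps.nil)) (nat_lit 68) (nat_lit 0),
  Rule.mk (nat_lit 6) (nat_lit 38) (Steps.fwd (nat_lit 2560) (Steps.bwd (nat_lit 6) (Steps.bwd (nat_lit 5) Steps.nil))) (nat_lit 26) (nat_lit 1),
  Rule.mk (nat_lit 14) (nat_lit 28) (Steps.bwd (nat_lit 14) (Steps.fwd (nat_lit 6656) Steps.nil)) (nat_lit 51) (nat_lit 0),
  Rule.mk (nat_lit 2) (nat_lit 128) (Steps.bwd (nat_lit 13) (Steps.bwd (nat_lit 5) (Steps.bwd (nat_lit 2) (Steps.bwd (nat_lit 13) (Steps.bwd (nat_lit 1) (Steps.fwd (nat_lit 2048) (Steps.bwd (nat_lit 2) (Steps.bwd (nat_lit 4) (Steps.fwd (nat_lit 2560) (Steps.fwd (nat_lit 512) (Steps.fwd (nat_lit 7168) (Steps.fwd (nat_lit 2560) Steps.nil)))))))))))) (nat_lit 66) (nat_lit 5),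
  Rule.mk (nat_lit 2) (nat_lit 128) (Steps.bwd (nat_lit 13) (Steps.bwd (nat_lit 1) (Steps.bwd (nat_lit 4) (Steps.fwd (nat_lit 512) (Steps.fwd (nat_lit 2048) (Steps.fwd (nat_lit 2560) (Steps.fwd (nat_lit 512) (Steps.bwd (nat_lit 13) (Steps.fwd (nat_lit 2560) (Steps.bwd (nat_lit 2) (Steps.fwd (nat_lit 7168) (Steps.fwd (nat_lit 2560) Steps.nil)))))))))))) (nat_lit 66) (nat_lit 8),
  Rule.mk (nat_lit 13) (nat_lit 38) (Steps.bwd (nat_lit 5) (Steps.bwd (nat_lit 14) (Steps.fwd (nat_lit 5120) Steps.nil))) (nat_lit 52) (nat_lit 1),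
  Rule.mk (nat_lit 8) (nat_lit 58) (Steps.fwd (nat_lit 6656) (Steps.fwd (nat_lit 3072) (Steps.bwd (nat_lit 13) (Steps.bwd (nat_lit 5) (Steps.fwd (nat_lit 4608) Steps.nil))))) (nat_lit 61) (nat_lit 5),
  Rule.mk (nat_lit 3) (nat_lit 48) (Steps.bwd (nat_lit 2) (Steps.fwd (nat_lit 4096) (Steps.fwd (nat_lit 2560) (Steps.fwd (nat_lit 1024) Steps.nil)))) (nat_lit 32) (nat_lit 4),
  Rule.mk (nat_lit 3) (nat_lit 38) (Steps.fwd (nat_lit 2560) (Steps.bwd (nat_lit 3) (Steps.fwd (nat_lit 2560) Steps.nil))) (nat_lit 18) (nat_lit 1),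
  Rule.mk (nat_lit 13) (nat_lit 38) (Steps.bwd (nat_lit 3) (Steps.fwd (nat_lit 7168) (Steps.fwd (nat_lit 1536) Steps.nil))) (nat_lit 58) (nat_lit 0),
  Rule.mk (nat_lit 8) (nat_lit 48) (Steps.bwd (nat_lit 1) (Steps.bwd (nat_lit 3) (Steps.fwd (nat_lit 512) (Steps.fwd (nat_lit 2560) Steps.nil)))) (nat_lit 33) (nat_lit 0),
  Rule.mk (nat_lit 5) (nat_lit 128) (Steps.bwd (nat_lit 2) (Steps.bwd (nat_lit 13) (Steps.fwd (nat_lit 2560) (Steps.fwd (nat_lit 512) (Steps.bwd (nat_lit 13) (Steps.fwd (nat_lit 1024) (Steps.fwd (nat_lit 2048) (Steps.bwd (nat_lit 2) (Steps.fwd (nat_lit 2048) (Steps.fwd (nat_lit 2560) (Steps.fwd (nat_lit 512) (Steps.bwd (nat_lit 13) Steps.nil)))))))))))) (nat_lit 66) (nat_lit 4),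
  Rule.mk (nat_lit 1) (nat_lit 38) (Steps.fwd (nat_lit 2560) (Steps.bwd (nat_lit 2) (Steps.bwd (nat_lit 5) Steps.nil))) (nat_lit 8) (nat_lit 1),
  Rule.mk (nat_lit 1) (nat_lit 28) (Steps.fwd (nat_lit 1024) (Steps.bwd (nat_lit 1) Steps.nil)) (nat_lit 0) (nat_lit 0),
  Rule.mk (nat_lit 6) (nat_lit 38) (Steps.fwd (nat_lit 1024) (Steps.bwd (nat_lit 6) (Steps.bwd (nat_lit 1) Steps.nil))) (nat_lit 24) (nat_lit 1),
  Rule.mk (nat_lit 0) (nat_lit 68) (Steps.bwd (nat_lit 13) (Steps.fwd (nat_lit 4096) (Steps.fwd (nat_lit 5120) (Steps.fwd (nat_lit 2560) (Steps.fwd (nat_lit 6656) (Steps.bwd (nat_lit 6) Steps.nil)))))) (nat_lit 60) (nat_lit 0),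
  Rule.mk (nat_lit 0) (nat_lit 38) (Steps.bwd (nat_lit 2) (Steps.fwd (nat_lit 0) (Steps.fwd (nat_lit 1024) Steps.nil))) (nat_lit 68) (nat_lit 0),
  Rule.mk (nat_lit 0) (nat_lit 38) (Steps.fwd (nat_lit 6656) (Steps.fwd (nat_lit 0) (Steps.bwd (nat_lit 13) Steps.nil))) (nat_lit 68) (nat_lit 0),
  Rule.mk (nat_lit 0) (nat_lit 38) (Steps.fwd (nat_lit 7168) (Steps.bwd (nat_lit 0) (Steps.fwd (nat_lit 6656) Steps.nil))) (nat_lit 68) (nat_lit 0),
  Rule.mk (nat_lit 0) (nat_lit 38) (Steps.fwd (nat_lit 1024) (Steps.bwd (nat_lit 0) (Steps.bwd (nat_lit 2) Steps.nil))) (nat_lit 68) (nat_lit 0),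
  Rule.mk (nat_lit 0) (nat_lit 38) (Steps.bwd (nat_lit 2) (Steps.fwd (nat_lit 0) (Steps.bwd (nat_lit 1) Steps.nil))) (nat_lit 68) (nat_lit 0),
  Rule.mk (nat_lit 0) (nat_lit 48) (Steps.bwd (nat_lit 0) (Steps.fwd (nat_lit 6144) (Steps.bwd (nat_lit 0) (Steps.fwd (nat_lit 5632) Steps.nil)))) (nat_lit 68) (nat_lit 0),
  Rule.mk (nat_lit 0) (nat_lit 28) (Steps.fwd (nat_lit 0) (Steps.fwd (nat_lit 0) Steps.nil)) (nat_lit 68) (nat_lit 0),
  Rule.mk (nat_lit 0) (nat_lit 48) (Steps.bwd (nat_lit 0) (Steps.fwd (nat_lit 6656) (Steps.fwd (nat_lit 0) (Steps.bwd (nat_lit 13) Steps.nil)))) (nat_lit 68) (nat_lit 0),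
  Rule.mk (nat_lit 12) (nat_lit 28) (Steps.bwd (nat_lit 0) (Steps.bwd (nat_lit 11) Steps.nil)) (nat_lit 68) (nat_lit 0),
  Rule.mk (nat_lit 14) (nat_lit 38) (Steps.fwd (nat_lit 5632) (Steps.bwd (nat_lit 13) (Steps.bwd (nat_lit 11) Steps.nil))) (nat_lit 65) (nat_lit 3),
  Rule.mk (nat_lit 10) (nat_lit 48) (Steps.fwd (nat_lit 5632) (Steps.bwd (nat_lit 5) (Steps.bwd (nat_lit 6) (Steps.bwd (nat_lit 11) Steps.nil)))) (nat_lit 47) (nat_lit 4),
  Rule.mk (nat_lit 6) (nat_lit 68) (Steps.fwd (nat_lit 5632) (Steps.bwd (nat_lit 5) (Steps.fwd (nat_lit 3072) (Steps.bwd (nat_lit 7) (Steps.bwd (nat_lit 9) (Steps.bwd (nat_lit 11) Steps.nil)))))) (nat_lit 48) (nat_lit 2),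
  Rule.mk (nat_lit 4) (nat_lit 38) (Steps.bwd (nat_lit 14) (Steps.fwd (nat_lit 2048) (Steps.bwd (nat_lit 13) Steps.nil))) (nat_lit 56) (nat_lit 2),
  Rule.mk (nat_lit 6) (nat_lit 68) (Steps.fwd (nat_lit 5632) (Steps.bwd (nat_lit 5) (Steps.bwd (nat_lit 6) (Steps.bwd (nat_lit 7) (Steps.bwd (nat_lit 9) (Steps.bwd (nat_lit 11) Steps.nil)))))) (nat_lit 48) (nat_lit 2),
  Rule.mk (nat_lit 4) (nat_lit 38) (Steps.bwd (nat_lit 5) (Steps.fwd (nat_lit 2048) (Steps.bwd (nat_lit 5) Steps.nil))) (nat_lit 20) (nat_lit 1),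
  Rule.mk (nat_lit 3) (nat_lit 58) (Steps.bwd (nat_lit 1) (Steps.fwd (nat_lit 3072) (Steps.fwd (nat_lit 1536) (Steps.bwd (nat_lit 6) (Steps.fwd (nat_lit 512) Steps.nil))))) (nat_lit 28) (nat_lit 5),
  Rule.mk (nat_lit 5) (nat_lit 38) (Steps.bwd (nat_lit 2) (Steps.bwd (nat_lit 5) (Steps.bwd (nat_lit 1) Steps.nil))) (nat_lit 8) (nat_lit 2),
  Rule.mk (nat_lit 8) (nat_lit 48) (Steps.bwd (nat_lit 1) (Steps.fwd (nat_lit 1536) (Steps.fwd (nat_lit 512) (Steps.bwd (nat_lit 5) Steps.nil)))) (nat_lit 33) (nat_lit 0),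
  Rule.mk (nat_lit 3) (nat_lit 68) (Steps.bwd (nat_lit 1) (Steps.fwd (nat_lit 1536) (Steps.bwd (nat_lit 1) (Steps.fwd (nat_lit 1536) (Steps.bwd (nat_lit 1) (Steps.bwd (nat_lit 5) Steps.nil)))))) (nat_lit 10) (nat_lit 1),
  Rule.mk (nat_lit 6) (nat_lit 38) (Steps.bwd (nat_lit 2) (Steps.bwd (nat_lit 6) (Steps.fwd (nat_lit 512) Steps.nil))) (nat_lit 25) (nat_lit 0),
  Rule.mk (nat_lit 1) (nat_lit 48) (Steps.bwd (nat_lit 4) (Steps.fwd (nat_lit 512) (Steps.fwd (nat_lit 5120) (Steps.bwd (nat_lit 5) Steps.nil)))) (nat_lit 34) (nat_lit 3),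
  Rule.mk (nat_lit 2) (nat_lit 58) (Steps.bwd (nat_lit 4) (Steps.bwd (nat_lit 1) (Steps.fwd (nat_lit 3072) (Steps.fwd (nat_lit 2048) (Steps.bwd (nat_lit 6) Steps.nil))))) (nat_lit 30) (nat_lit 4),
  Rule.mk (nat_lit 3) (nat_lit 58) (Steps.fwd (nat_lit 1024) (Steps.fwd (nat_lit 3072) (Steps.fwd (nat_lit 1536) (Steps.bwd (nat_lit 6) (Steps.bwd (nat_lit 2) Steps.nil))))) (nat_lit 28) (nat_lit 5),
  Rule.mk (nat_lit 1) (nat_lit 68) (Steps.bwd (nat_lit 3) (Steps.bwd (nat_lit 1) (Steps.bwd (nat_lit 5) (Steps.fwd (nat_lit 1536) (Steps.bwd (nat_lit 1) (Steps.fwd (nat_lit 1536) Steps.nil)))))) (nat_lit 10) (nat_lit 4),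
  Rule.mk (nat_lit 5) (nat_lit 68) (Steps.fwd (nat_lit 1536) (Steps.bwd (nat_lit 1) (Steps.fwd (nat_lit 1536) (Steps.fwd (nat_lit 1024) (Steps.bwd (nat_lit 3) (Steps.bwd (nat_lit 1) Steps.nil)))))) (nat_lit 10) (nat_lit 0)]
noncomputable def R_2 : List (Rule) := [Rule.mk (nat_lit 6) (nat_lit 38) (Steps.bwd (nat_lit 5) (Steps.fwd (nat_lit 3072) (Steps.bwd (nat_lit 5) Steps.nil))) (nat_lit 26) (nat_lit 1),
  Rule.mk (nat_lit 1) (nat_lit 68) (Steps.bwd (nat_lit 4) (Steps.bwd (nat_lit 1) (Steps.bwd (nat_lit 4) (Steps.bwd (nat_lit 1) (Steps.bwd (nat_lit 5) (Steps.fwd (nat_lit 2048) Steps.nil)))))) (nat_lit 12) (nat_lit 2),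
  Rule.mk (nat_lit 2) (nat_lit 48) (Steps.bwd (nat_lit 9) (Steps.fwd (nat_lit 2560) (Steps.bwd (nat_lit 1) (Steps.bwd (nat_lit 4) Steps.nil)))) (nat_lit 34) (nat_lit 0),
  Rule.mk (nat_lit 5) (nat_lit 68) (Steps.bwd (nat_lit 4) (Steps.bwd (nat_lit 1) (Steps.fwd (nat_lit 2048) (Steps.bwd (nat_lit 1) (Steps.bwd (nat_lit 4) (Steps.bwd (nat_lit 1) Steps.nil)))))) (nat_lit 12) (nat_lit 0),
  Rule.mk (nat_lit 2) (nat_lit 38) (Steps.bwd (nat_lit 5) (Steps.fwd (nat_lit 1024) (Steps.fwd (nat_lit 2560) Steps.nil))) (nat_lit 8) (nat_lit 3),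
  Rule.mk (nat_lit 3) (nat_lit 68) (Steps.bwd (nat_lit 1) (Steps.bwd (nat_lit 5) (Steps.fwd (nat_lit 1536) (Steps.fwd (nat_lit 1024) (Steps.bwd (nat_lit 3) (Steps.fwd (nat_lit 1024) Steps.nil)))))) (nat_lit 10) (nat_lit 5),
  Rule.mk (nat_lit 5) (nat_lit 38) (Steps.bwd (nat_lit 2) (Steps.fwd (nat_lit 2560) (Steps.bwd (nat_lit 1) Steps.nil))) (nat_lit 8) (nat_lit 2),
  Rule.mk (nat_lit 13) (nat_lit 128) (Steps.bwd (nat_lit 5) (Steps.bwd (nat_lit 2) (Steps.bwd (nat_lit 13) (Steps.bwd (nat_lit 5) (Steps.bwd (nat_lit 2) (Steps.bwd (nat_lit 13) (Steps.fwd (nat_lit 1024) (Steps.fwd (nat_lit 2048) (Steps.fwd (nat_lit 512) (Steps.bwd (nat_lit 4) (Steps.fwd (nat_lit 2560) (Steps.fwd (nat_lit 512) Steps.nil)))))))))))) (nat_lit 66) (nat_lit 3),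
  Rule.mk (nat_lit 3) (nat_lit 38) (Steps.bwd (nat_lit 5) (Steps.fwd (nat_lit 1536) (Steps.fwd (nat_lit 2560) Steps.nil))) (nat_lit 18) (nat_lit 1),
  Rule.mk (nat_lit 4) (nat_lit 38) (Steps.fwd (nat_lit 2560) (Steps.bwd (nat_lit 4) (Steps.fwd (nat_lit 2560) Steps.nil))) (nat_lit 20) (nat_lit 1),
  Rule.mk (nat_lit 10) (nat_lit 48) (Steps.bwd (nat_lit 1) (Steps.fwd (nat_lit 2048) (Steps.fwd (nat_lit 512) (Steps.fwd (nat_lit 2560) Steps.nil)))) (nat_lit 35) (nat_lit 0),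
  Rule.mk (nat_lit 10) (nat_lit 48) (Steps.bwd (nat_lit 1) (Steps.bwd (nat_lit 4) (Steps.fwd (nat_lit 512) (Steps.bwd (nat_lit 5) Steps.nil)))) (nat_lit 35) (nat_lit 0),
  Rule.mk (nat_lit 13) (nat_lit 38) (Steps.fwd (nat_lit 2560) (Steps.fwd (nat_lit 6656) (Steps.bwd (nat_lit 10) Steps.nil))) (nat_lit 53) (nat_lit 2),
  Rule.mk (nat_lit 2) (nat_lit 58) (Steps.bwd (nat_lit 3) (Steps.bwd (nat_lit 1) (Steps.bwd (nat_lit 6) (Steps.fwd (nat_lit 1536) (Steps.fwd (nat_lit 3072) Steps.nil))))) (nat_lit 28) (nat_lit 4),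
  Rule.mk (nat_lit 2) (nat_lit 28) (Steps.bwd (nat_lit 2) (Steps.bwd (nat_lit 2) Steps.nil)) (nat_lit 1) (nat_lit 0),
  Rule.mk (nat_lit 5) (nat_lit 38) (Steps.bwd (nat_lit 1) (Steps.bwd (nat_lit 5) (Steps.bwd (nat_lit 2) Steps.nil))) (nat_lit 8) (nat_lit 0),
  Rule.mk (nat_lit 9) (nat_lit 48) (Steps.bwd (nat_lit 5) (Steps.bwd (nat_lit 1) (Steps.fwd (nat_lit 2048) (Steps.bwd (nat_lit 2) Steps.nil)))) (nat_lit 34) (nat_lit 1),
  Rule.mk (nat_lit 9) (nat_lit 48) (Steps.bwd (nat_lit 5) (Steps.bwd (nat_lit 1) (Steps.bwd (nat_lit 4) (Steps.fwd (nat_lit 512) Steps.nil)))) (nat_lit 34) (nat_lit 1),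
  Rule.mk (nat_lit 2) (nat_lit 58) (Steps.bwd (nat_lit 4) (Steps.bwd (nat_lit 1) (Steps.bwd (nat_lit 6) (Steps.bwd (nat_lit 4) (Steps.fwd (nat_lit 3072) Steps.nil))))) (nat_lit 30) (nat_lit 4),
  Rule.mk (nat_lit 9) (nat_lit 48) (Steps.bwd (nat_lit 5) (Steps.fwd (nat_lit 1024) (Steps.bwd (nat_lit 4) (Steps.bwd (nat_lit 2) Steps.nil)))) (nat_lit 34) (nat_lit 1),
  Rule.mk (nat_lit 1) (nat_lit 68) (Steps.bwd (nat_lit 4) (Steps.fwd (nat_lit 1024) (Steps.fwd (nat_lit 2560) (Steps.bwd (nat_lit 4) (Steps.bwd (nat_lit 1) (Steps.fwd (nat_lit 2048) Steps.nil)))))) (nat_lit 12) (nat_lit 4),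
  Rule.mk (nat_lit 13) (nat_lit 128) (Steps.bwd (nat_lit 5) (Steps.bwd (nat_lit 2) (Steps.bwd (nat_lit 13) (Steps.bwd (nat_lit 5) (Steps.bwd (nat_lit 2) (Steps.bwd (nat_lit 13) (Steps.bwd (nat_lit 1) (Steps.bwd (nat_lit 4) (Steps.fwd (nat_lit 512) (Steps.fwd (nat_lit 2048) (Steps.bwd (nat_lit 5) (Steps.bwd (nat_lit 2) Steps.nil)))))))))))) (nat_lit 66) (nat_lit 3),
  Rule.mk (nat_lit 0) (nat_lit 138) (Steps.fwd (nat_lit 6656) (Steps.fwd (nat_lit 1024) (Steps.fwd (nat_lit 2560) (Steps.fwd (nat_lit 6656) (Steps.fwd (nat_lit 1024) (Steps.fwd (nat_lit 2560) (Steps.fwd (nat_lit 6656) (Steps.fwd (nat_lit 1024) (Steps.fwd (nat_lit 2560) (Steps.bwd (nat_lit 4) (Steps.fwd (nat_lit 1024) (Steps.fwd (nat_lit 2048) (Steps.fwd (nat_lit 512) Steps.nil))))))))))))) (nat_lit 67) (nat_lit 4),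
  Rule.mk (nat_lit 4) (nat_lit 38) (Steps.bwd (nat_lit 5) (Steps.bwd (nat_lit 4) (Steps.bwd (nat_lit 5) Steps.nil))) (nat_lit 20) (nat_lit 1),
  Rule.mk (nat_lit 9) (nat_lit 48) (Steps.bwd (nat_lit 5) (Steps.bwd (nat_lit 1) (Steps.bwd (nat_lit 4) (Steps.bwd (nat_lit 2) Steps.nil)))) (nat_lit 34) (nat_lit 1),
  Rule.mk (nat_lit 10) (nat_lit 48) (Steps.bwd (nat_lit 14) (Steps.fwd (nat_lit 4608) (Steps.bwd (nat_lit 5) (Steps.bwd (nat_lit 13) Steps.nil)))) (nat_lit 55) (nat_lit 4),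
  Rule.mk (nat_lit 2) (nat_lit 128) (Steps.bwd (nat_lit 13) (Steps.fwd (nat_lit 2560) (Steps.fwd (nat_lit 512) (Steps.fwd (nat_lit 7168) (Steps.fwd (nat_lit 1024) (Steps.fwd (nat_lit 2048) (Steps.bwd (nat_lit 2) (Steps.fwd (nat_lit 2048) (Steps.fwd (nat_lit 2560) (Steps.fwd (nat_lit 512) (Steps.bwd (nat_lit 13) (Steps.fwd (nat_lit 2560) Steps.nil)))))))))))) (nat_lit 66) (nat_lit 5),
  Rule.mk (nat_lit 13) (nat_lit 128) (Steps.bwd (nat_lit 5) (Steps.bwd (nat_lit 2) (Steps.bwd (nat_lit 13) (Steps.bwd (nat_lit 5) (Steps.bwd (nat_lit 2) (Steps.bwd (nat_lit 13) (Steps.fwd (nat_lit 1024) (Steps.bwd (nat_lit 4) (Steps.bwd (nat_lit 2) (Steps.fwd (nat_lit 2048) (Steps.fwd (nat_lit 2560) (Steps.bwd (nat_lit 2) Steps.nil)))))))))))) (nat_lit 66) (nat_lit 3),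
  Rule.mk (nat_lit 6) (nat_lit 58) (Steps.bwd (nat_lit 13) (Steps.fwd (nat_lit 4096) (Steps.fwd (nat_lit 5120) (Steps.bwd (nat_lit 5) (Steps.fwd (nat_lit 6656) Steps.nil))))) (nat_lit 60) (nat_lit 0),
  Rule.mk (nat_lit 2) (nat_lit 128) (Steps.bwd (nat_lit 13) (Steps.bwd (nat_lit 5) (Steps.bwd (nat_lit 2) (Steps.bwd (nat_lit 13) (Steps.bwd (nat_lit 1) (Steps.bwd (nat_lit 4) (Steps.bwd (nat_lit 2) (Steps.bwd (nat_lit 4) (Steps.fwd (nat_lit 2560) (Steps.bwd (nat_lit 2) (Steps.fwd (nat_lit 7168) (Steps.fwd (nat_lit 2560) Steps.nil)))))))))))) (nat_lit 66) (nat_lit 5),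
  Rule.mk (nat_lit 6) (nat_lit 38) (Steps.bwd (nat_lit 5) (Steps.fwd (nat_lit 3072) (Steps.fwd (nat_lit 2560) Steps.nil))) (nat_lit 26) (nat_lit 1),
  Rule.mk (nat_lit 2) (nat_lit 128) (Steps.bwd (nat_lit 13) (Steps.fwd (nat_lit 2560) (Steps.fwd (nat_lit 512) (Steps.bwd (nat_lit 13) (Steps.fwd (nat_lit 1024) (Steps.bwd (nat_lit 4) (Steps.bwd (nat_lit 2) (Steps.bwd (nat_lit 4) (Steps.bwd (nat_lit 5) (Steps.fwd (nat_lit 512) (Steps.fwd (nat_lit 7168) (Steps.fwd (nat_lit 2560) Steps.nil)))))))))))) (nat_lit 66) (nat_lit 5),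
  Rule.mk (nat_lit 4) (nat_lit 38) (Steps.bwd (nat_lit 5) (Steps.bwd (nat_lit 4) (Steps.fwd (nat_lit 2560) Steps.nil))) (nat_lit 20) (nat_lit 1),
  Rule.mk (nat_lit 6) (nat_lit 58) (Steps.bwd (nat_lit 13) (Steps.bwd (nat_lit 7) (Steps.bwd (nat_lit 9) (Steps.bwd (nat_lit 5) (Steps.fwd (nat_lit 6656) Steps.nil))))) (nat_lit 60) (nat_lit 0),
  Rule.mk (nat_lit 14) (nat_lit 48) (Steps.bwd (nat_lit 10) (Steps.fwd (nat_lit 2560) (Steps.bwd (nat_lit 13) (Steps.fwd (nat_lit 4608) Steps.nil)))) (nat_lit 55) (nat_lit 0),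
  Rule.mk (nat_lit 6) (nat_lit 68) (Steps.bwd (nat_lit 14) (Steps.bwd (nat_lit 5) (Steps.bwd (nat_lit 6) (Steps.fwd (nat_lit 4096) (Steps.fwd (nat_lit 5120) (Steps.bwd (nat_lit 13) Steps.nil)))))) (nat_lit 62) (nat_lit 2),
  Rule.mk (nat_lit 2) (nat_lit 38) (Steps.bwd (nat_lit 6) (Steps.bwd (nat_lit 2) (Steps.bwd (nat_lit 6) Steps.nil))) (nat_lit 25) (nat_lit 1),
  Rule.mk (nat_lit 6) (nat_lit 38) (Steps.fwd (nat_lit 2560) (Steps.bwd (nat_lit 6) (Steps.fwd (nat_lit 2560) Steps.nil))) (nat_lit 26) (nat_lit 1),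
  Rule.mk (nat_lit 1) (nat_lit 38) (Steps.bwd (nat_lit 6) (Steps.fwd (nat_lit 1024) (Steps.bwd (nat_lit 6) Steps.nil))) (nat_lit 24) (nat_lit 0),
  Rule.mk (nat_lit 2) (nat_lit 48) (Steps.bwd (nat_lit 9) (Steps.bwd (nat_lit 5) (Steps.bwd (nat_lit 1) (Steps.bwd (nat_lit 4) Steps.nil)))) (nat_lit 34) (nat_lit 0),
  Rule.mk (nat_lit 2) (nat_lit 38) (Steps.bwd (nat_lit 5) (Steps.bwd (nat_lit 1) (Steps.fwd (nat_lit 2560) Steps.nil))) (nat_lit 8) (nat_lit 3),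
  Rule.mk (nat_lit 8) (nat_lit 58) (Steps.bwd (nat_lit 14) (Steps.fwd (nat_lit 3072) (Steps.bwd (nat_lit 13) (Steps.bwd (nat_lit 5) (Steps.bwd (nat_lit 10) Steps.nil))))) (nat_lit 61) (nat_lit 5),
  Rule.mk (nat_lit 0) (nat_lit 58) (Steps.fwd (nat_lit 1536) (Steps.bwd (nat_lit 2) (Steps.bwd (nat_lit 5) (Steps.bwd (nat_lit 8) (Steps.fwd (nat_lit 1024) Steps.nil))))) (nat_lit 33) (nat_lit 1),
  Rule.mk (nat_lit 0) (nat_lit 38) (Steps.fwd (nat_lit 2048) (Steps.fwd (nat_lit 0) (Steps.fwd (nat_lit 2048) Steps.nil))) (nat_lit 68) (nat_lit 0),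
  Rule.mk (nat_lit 0) (nat_lit 38) (Steps.bwd (nat_lit 6) (Steps.fwd (nat_lit 0) (Steps.fwd (nat_lit 3072) Steps.nil))) (nat_lit 68) (nat_lit 0),
  Rule.mk (nat_lit 0) (nat_lit 38) (Steps.fwd (nat_lit 1024) (Steps.fwd (nat_lit 0) (Steps.fwd (nat_lit 512) Steps.nil))) (nat_lit 68) (nat_lit 0),
  Rule.mk (nat_lit 0) (nat_lit 38) (Steps.fwd (nat_lit 6656) (Steps.bwd (nat_lit 0) (Steps.bwd (nat_lit 13) Steps.nil))) (nat_lit 68) (nat_lit 0),
  Rule.mk (nat_lit 0) (nat_lit 38) (Steps.fwd (nat_lit 7168) (Steps.bwd (nat_lit 0) (Steps.bwd (nat_lit 14) Steps.nil))) (nat_lit 68) (nat_lit 0),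
  Rule.mk (nat_lit 0) (nat_lit 48) (Steps.bwd (nat_lit 4) (Steps.bwd (nat_lit 0) (Steps.bwd (nat_lit 4) (Steps.fwd (nat_lit 0) Steps.nil)))) (nat_lit 68) (nat_lit 0),
  Rule.mk (nat_lit 0) (nat_lit 48) (Steps.bwd (nat_lit 0) (Steps.bwd (nat_lit 11) (Steps.bwd (nat_lit 0) (Steps.bwd (nat_lit 12) Steps.nil)))) (nat_lit 68) (nat_lit 0),
  Rule.mk (nat_lit 0) (nat_lit 48) (Steps.bwd (nat_lit 0) (Steps.bwd (nat_lit 13) (Steps.fwd (nat_lit 0) (Steps.fwd (nat_lit 6656) Steps.nil)))) (nat_lit 68) (nat_lit 0),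
  Rule.mk (nat_lit 0) (nat_lit 48) (Steps.bwd (nat_lit 13) (Steps.bwd (nat_lit 0) (Steps.bwd (nat_lit 14) (Steps.fwd (nat_lit 0) Steps.nil)))) (nat_lit 68) (nat_lit 0),
  Rule.mk (nat_lit 0) (nat_lit 38) (Steps.bwd (nat_lit 1) (Steps.fwd (nat_lit 0) (Steps.bwd (nat_lit 2) Steps.nil))) (nat_lit 68) (nat_lit 0),
  Rule.mk (nat_lit 14) (nat_lit 28) (Steps.bwd (nat_lit 0) (Steps.bwd (nat_lit 13) Steps.nil)) (nat_lit 68) (nat_lit 0)]
noncomputable def R : List (List (Rule)) := [R_0, R_1, R_2]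
def LW : List Word := [[], [0], [1], [2], [4], [6], [8], [10], [11], [12], [13], [14], [15], [16], [17], [0], [1], [2], [3], [4], [5], [6], [7], [8], [9], [10], [11], [12], [13]]
def par : Par := ⟨9, 5, 14, 23, 511, 16383, 8388607⟩
theorem hpar : par.ok := by decide
theorem hR0_0 : lall (R) (fun l => lall l (ruleOK Rc2' LW par)) = true := by decide +kernel
theorem hR0 : lall (R) (fun l => lall l (ruleOK Rc2' LW par)) = true := hR0_0
theorem hR : RulesOK Rc2' LW par R := rulesOK_of rfl hR0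
def cols : List (ℕ × ℕ) := [(512, 2), (1536, 3), (2048, 4), (2560, 5), (3072, 6), (3584, 8), (4608, 10), (5632, 12), (6656, 14)]
theorem hcols : lall cols (colOK Rc2' LW par) = true := by decide +kernel
noncomputable def JS0 : List ℕ := [nat_lit 0x1dc7600c76191d8001d86074000740d0080a0340a0085c01030010005800030001502c0c07c1c0741f0741f1d4721c470140041204c110580110000110003015024701301406014486f0086f00400111b8020146e0f1b4011b430040441204c1401040030401300c3c020506b0e004120043400034000c1a0670b01c0801c28010006803068008240019c0919c206500803004061941c6401400190180501807020090141c040200701018030140700c140201c6104004070040c0000800021785d01,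
  nat_lit 0x890000830250340e80400c042348c22c8a224882f05c9223c8e2e2448e234002d004372448d230002c228012b004002a22402000a4330b48d2248821ca0000c88c02c9c2e0c42c22c872621c0221c010004486008052183c85004850c010290982809c041000c28098030f0082320c38010a817250002500030801fc2c8000480014907f00805078800008c020101d010022200c1e08003210081d07002200041d1f07c0006c001e1e8791d1f0100387c1c0000601c000f1e0011b1e0001a,
  nat_lit 0x2904229001420300a28c00240044d28c0928800232800141004002a27c40000a4491189f0149e275000301401000023f0f447274043e004330d4010f000330b0c032000f4000042f2b0430e4f0000c4001e2a8973b2641d06c991c258011b258001a2549400094190040b25c003a0009525854940281412046094210949e24c92244e4970080625ce0940006c9500095250dc951009500cd89928894352804324cd0970fc923324440244c82a2402c012480031,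
  nat_lit 0xb807c200982c2dd3c0b0942b2d9380a170242d5340909cb41302018074b44c2cc192cd2c012cc022cd28000100049010142c120b1154b147000010002801154af040004f0000cad2b004af12caf322b00001cc0b215c4000c0200c42128492b4ac2ad18092c0af2b8b8010f8b02b8ad000b0ab004ac01000a8aa00800290e8512b0aa2a4a828000392ac01270d438138aa2a0980000400450044c2a07c00130001e298a51d0fc4110000005100000c010083f3f29445028a61344a2e4412e4bb0100243,
  nat_lit 0x3306c16ced154ed1743b0e8cb3298c013342c2f3740100d88030ac006100001128e41ac333c0004b00078e2318ecc8000d46000c02000c85f0900100006029780600c005d000d034454cf0882b194661b86d1a8e8394e430570c5318e719ce41708e3a0c730cc23056ccf31568da000c3590085218c68190501030000583044f144002fd5c4f300bf56130c00b014150015400010c3542fcbe53028130083809014010380011004070340a0f000070b00c0802c040014801028070080500d440002401450345d0741e194b750,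
  nat_lit 0x39c06395ec0100c4839802395e80039001391e401018e27838c020100238ddce23847441110037600c320c438100f2750083c00950010f40103000393bc08ed3754c360f80274010340e0320c0297300c310e4eb72008333a9c4010ac26540002b09408e535d4d0a001c107000fa009bc00009b86400463005b4fe004726c3c0013d5ac67004666a17001155a4ef0005968000cf0f8340145367000113b598003319400034d364,
  nat_lit 0x33d80703cf9061a4f6006480208d000564401190f490000f98f16852164f23c63800020f28d0410018cf08c034ef1d00cf63dc108b008f4016280101801893b8011b3b8001a0184f3b8ed373cc1a16c063bc05130ed3b0eb3a8e988014573b61c11020ef3b8b8021140b028013b6184a02800853acea004563ccef843a4001484483150133b0ea3a4e8820000802e04ee020ed040ea00200e80050401000a8e73a80029010081340d398e57f0004212442001f84101c083a4e57d0440e014e57c,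
  nat_lit 0xa01e9d0e00506a60150e00294030943e0cc3405e9102008280b28c01095050e001040b08501401740f0400d05d01a200c06002840041506154100f4703e0e912079111dc2a090fea0018020027c003f8ff153f4020404219826440271b026078fc9e0701d064323fa7407450fd553e800030c0201ac394040444c3544c303ecfa3e6700041506154101140c730c511008ff0e8300b8fa9b0400d030059a034fe01802990ad0d00660f90046cf900068023e80903c12068601b40a004f53d8f7973d000014c0081ac6e0a108088333dcf63d4f43ce590709c6d1a8073de54000b41f056502d1545f3e0f693,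
  nat_lit 0x46e5dc03332d4011b0003eed00100db800011b8c50089d002cc0200db80100db800019b94e01550002c80018404282c400005b85800448ae114060c5a001009b8550152dae04c01462c11d0143aaf000036e0300403ab81d0101c6a46004455a40f00c056a05c02052b41700410ac44c00051a003001150080aab0651d0cc3b022a91101d690a00512a90440142508a8444003b,
  nat_lit 0x5f800b65f40132c006f004026e]
theorem S0_c : blocks (facts 9 5 14 23 511 16383 8388607 10 1023 8 255 A R 32) 32 JS0 350 = true := by decide +kernel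
theorem S0 : On (Step.{u} Rc2' LW par A) 350 670 :=
  steps_of_blocks hpar hR S0_c (by decide +kernel)
theorem D0_c : allB (defOK 9 14 23 511 8388607 344 A K) 1 2 = true := by decide +kernel
theorem D0 : On (fun r => defOK par.W par.WL par.E par.mW par.mE 344 A K r = true) 256 384 :=
  On.of_allB D0_c
noncomputable def JW0 : List ℕ := [nat_lit 0x3b24ea014128450ca214528c]
theorem W0_c : blocks (rows 9 5 14 23 511 16383 8388607 11 2047 99 A 670 1 cols 14) 14 JW0 0 = true := by decide +kernel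
theorem W0 : On (Row.{u} Rc2' LW par A 670 1 cols) 0 14 :=
  rows_of_blocks hpar (by decide) hcols W0_c (by decide +kernel)
theorem idx : Idx.{u} Rc2' [[0], [2], [4], [6], [8], [10], [12], [14], [16]] [[0], [2], [4], [6], [8], [10], [12]] 1 :=
  idx_of_cert hpar hR (K := K) (by decide +kernel) (T := 344) (T' := 384) (by decide) D0
    (subs := [1,3,4,5,6,7,9]) (by decide +kernel) (T1 := 350) (by decide) (N := 670) S0
    (by decide) (n' := 14) (by decide) W0 (by decide +kernel) (by decide +kernel)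
end c2
namespace a3
noncomputable def A_0 : List (ℕ) := [nat_lit 0x2020120100a00]
noncomputable def A : List (List (ℕ)) := [A_0]
noncomputable def K_0 : List (ℕ) := [nat_lit 0x4060000]
noncomputable def K : List (List (ℕ)) := [K_0]
noncomputable def R_0 : List (Rule) := [Rule.mk (nat_lit 1) (nat_lit 19) (Steps.bwd (nat_lit 1) (Steps.bwd (nat_lit 1) Steps.nil)) (nat_lit 0) (nat_lit 0)]
noncomputable def R : List (List (Rule)) := [R_0]
def LW : List Word := [[], [0], [1]]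
def par : Par := ⟨9, 2, 11, 20, 511, 2047, 1048575⟩
theorem hpar : par.ok := by decide
theorem hR0_0 : lall (R) (fun l => lall l (ruleOK Ra3' LW par)) = true := by decide +kernel
theorem hR0 : lall (R) (fun l => lall l (ruleOK Ra3' LW par)) = true := hR0_0
theorem hR : RulesOK Ra3' LW par R := rulesOK_of rfl hR0
def cols : List (ℕ × ℕ) := [(512, 2)]
theorem hcols : lall cols (colOK Ra3' LW par) = true := by decide +kernel
noncomputable def JS0 : List ℕ := [nat_lit 0x401]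
theorem S0_c : blocks (facts 9 2 11 20 511 2047 1048575 9 511 1 1 A R 32) 32 JS0 257 = true := by decide +kernel
theorem S0 : On (Step.{u} Ra3' LW par A) 257 289 :=
  steps_of_blocks hpar hR S0_c (by decide +kernel)
theorem D0_c : allB (defOK 9 11 20 511 1048575 258 A K) 1 2 = true := by decide +kernel
theorem D0 : On (fun r => defOK par.W par.WL par.E par.mW par.mE 258 A K r = true) 256 384 :=
  On.of_allB D0_c
noncomputable def JW0 : List ℕ := [nat_lit 0x3e10042]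
theorem W0_c : blocks (rows 9 2 11 20 511 2047 1048575 10 1023 10 A 289 3 cols 128) 128 JW0 0 = true := by decide +kernel
theorem W0 : On (Row.{u} Ra3' LW par A 289 3 cols) 0 128 :=
  rows_of_blocks hpar (by decide) hcols W0_c (by decide +kernel)
theorem idx : Idx.{u} Ra3' [[0]] [] 3 :=
  idx_of_cert hpar hR (K := K) (by decide +kernel) (T := 258) (T' := 384) (by decide) D0
    (subs := []) (by decide +kernel) (T1 := 257) (by decide) (N := 289) S0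
    (by decide) (n' := 128) (by decide) W0 (by decide +kernel) (by decide +kernel)
end a3
namespace a4
noncomputable def A_0 : List (ℕ) := [nat_lit 0x6404012030010000d8080440201600]
noncomputable def A : List (List (ℕ)) := [A_0]
noncomputable def K_0 : List (ℕ) := [nat_lit 0x814060000]
noncomputable def K : List (List (ℕ)) := [K_0]
noncomputable def R_0 : List (Rule) := [Rule.mk (nat_lit 1) (nat_lit 47) (Steps.bwd (nat_lit 3) (Steps.bwd (nat_lit 1) (Steps.bwd (nat_lit 3) (Steps.bwd (nat_lit 1) (Steps.fwd (nat_lit 1536) Steps.nil))))) (nat_lit 4) (nat_lit 1),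
  Rule.mk (nat_lit 1) (nat_lit 20) (Steps.bwd (nat_lit 1) (Steps.bwd (nat_lit 1) Steps.nil)) (nat_lit 0) (nat_lit 0)]
noncomputable def R : List (List (Rule)) := [R_0]
def LW : List Word := [[], [0], [1], [2], [0], [1]]
def par : Par := ⟨9, 3, 12, 21, 511, 4095, 2097151⟩
theorem hpar : par.ok := by decide
theorem hR0_0 : lall (R) (fun l => lall l (ruleOK Ra4' LW par)) = true := by decide +kernel
theorem hR0 : lall (R) (fun l => lall l (ruleOK Ra4' LW par)) = true := hR0_0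
theorem hR : RulesOK Ra4' LW par R := rulesOK_of rfl hR0
def cols : List (ℕ × ℕ) := [(512, 2), (1536, 3)]
theorem hcols : lall cols (colOK Ra4' LW par) = true := by decide +kernel
noncomputable def JS0 : List ℕ := [nat_lit 0x700c000301005]
theorem S0_c : blocks (facts 9 3 12 21 511 4095 2097151 9 511 2 3 A R 32) 32 JS0 259 = true := by decide +kernel
theorem S0 : On (Step.{u} Ra4' LW par A) 259 291 :=
  steps_of_blocks hpar hR S0_c (by decide +kernel)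
theorem D0_c : allB (defOK 9 12 21 511 2097151 259 A K) 1 2 = true := by decide +kernel
theorem D0 : On (fun r => defOK par.W par.WL par.E par.mW par.mE 259 A K r = true) 256 384 :=
  On.of_allB D0_c
noncomputable def JW0 : List ℕ := [nat_lit 0x10c3e1083c11c4411840]
theorem W0_c : blocks (rows 9 3 12 21 511 4095 2097151 10 1023 20 A 291 4 cols 64) 64 JW0 0 = true := by decide +kernel
theorem W0 : On (Row.{u} Ra4' LW par A 291 4 cols) 0 64 :=
  rows_of_blocks hpar (by decide) hcols W0_c (by decide +kernel)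
theorem idx : Idx.{u} Ra4' [[0], [2]] [[0]] 4 :=
  idx_of_cert hpar hR (K := K) (by decide +kernel) (T := 259) (T' := 384) (by decide) D0
    (subs := [1]) (by decide +kernel) (T1 := 259) (by decide) (N := 291) S0
    (by decide) (n' := 64) (by decide) W0 (by decide +kernel) (by decide +kernel)
end a4
namespace a5
noncomputable def A_0 : List (ℕ) := [nat_lit 0x880302080c04204012008022010018000020002180c0620201180402800]
noncomputable def A : List (List (ℕ)) := [A_0]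
noncomputable def K_0 : List (ℕ) := [nat_lit 0x103814060000]
noncomputable def K : List (List (ℕ)) := [K_0]
noncomputable def R_0 : List (Rule) := [Rule.mk (nat_lit 1) (nat_lit 30) (Steps.bwd (nat_lit 4) (Steps.bwd (nat_lit 1) (Steps.fwd (nat_lit 2048) Steps.nil))) (nat_lit 8) (nat_lit 1),
  Rule.mk (nat_lit 4) (nat_lit 48) (Steps.bwd (nat_lit 3) (Steps.bwd (nat_lit 4) (Steps.fwd (nat_lit 1536) (Steps.fwd (nat_lit 2048) (Steps.fwd (nat_lit 1536) Steps.nil))))) (nat_lit 10) (nat_lit 0),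
  Rule.mk (nat_lit 1) (nat_lit 48) (Steps.bwd (nat_lit 3) (Steps.bwd (nat_lit 1) (Steps.bwd (nat_lit 3) (Steps.bwd (nat_lit 1) (Steps.fwd (nat_lit 1536) Steps.nil))))) (nat_lit 6) (nat_lit 1),
  Rule.mk (nat_lit 1) (nat_lit 21) (Steps.bwd (nat_lit 1) (Steps.bwd (nat_lit 1) Steps.nil)) (nat_lit 0) (nat_lit 0),
  Rule.mk (nat_lit 4) (nat_lit 30) (Steps.bwd (nat_lit 1) (Steps.fwd (nat_lit 2048) (Steps.bwd (nat_lit 1) Steps.nil))) (nat_lit 8) (nat_lit 0)]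
noncomputable def R : List (List (Rule)) := [R_0]
def LW : List Word := [[], [0], [1], [2], [4], [0], [1], [2], [3]]
def par : Par := ⟨9, 4, 13, 22, 511, 8191, 4194303⟩
theorem hpar : par.ok := by decide
theorem hR0_0 : lall (R) (fun l => lall l (ruleOK Ra5' LW par)) = true := by decide +kernel
theorem hR0 : lall (R) (fun l => lall l (ruleOK Ra5' LW par)) = true := hR0_0
theorem hR : RulesOK Ra5' LW par R := rulesOK_of rfl hR0
def cols : List (ℕ × ℕ) := [(512, 2), (1536, 3), (2048, 4)]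
theorem hcols : lall cols (colOK Ra5' LW par) = true := by decide +kernel
noncomputable def JS0 : List ℕ := [nat_lit 0x10101e8000d00c010301408c0a06008180a80a01029]
theorem S0_c : blocks (facts 9 4 13 22 511 8191 4194303 9 511 3 7 A R 32) 32 JS0 261 = true := by decide +kernel
theorem S0 : On (Step.{u} Ra5' LW par A) 261 293 :=
  steps_of_blocks hpar hR S0_c (by decide +kernel)
theorem D0_c : allB (defOK 9 13 22 511 4194303 260 A K) 1 2 = true := by decide +kernel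
theorem D0 : On (fun r => defOK par.W par.WL par.E par.mW par.mE 260 A K r = true) 256 384 :=
  On.of_allB D0_c
noncomputable def JW0 : List ℕ := [nat_lit 0x371143a0d8440e03c1244612c480f84a10042]
theorem W0_c : blocks (rows 9 4 13 22 511 8191 4194303 10 1023 30 A 293 5 cols 42) 42 JW0 0 = true := by decide +kernel
theorem W0 : On (Row.{u} Ra5' LW par A 293 5 cols) 0 42 :=
  rows_of_blocks hpar (by decide) hcols W0_c (by decide +kernel)
theorem idx : Idx.{u} Ra5' [[0], [2], [4]] [[0], [2]] 5 :=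
  idx_of_cert hpar hR (K := K) (by decide +kernel) (T := 260) (T' := 384) (by decide) D0
    (subs := [1,3]) (by decide +kernel) (T1 := 261) (by decide) (N := 293) S0
    (by decide) (n' := 42) (by decide) W0 (by decide +kernel) (by decide +kernel)
end a5
namespace a6
noncomputable def A_0 : List (ℕ) := [nat_lit 0x2a8100a8040288100620501a00c06a030128080420200980402201002000006000008000a60402080c0660201200402a00]
noncomputable def A : List (List (ℕ)) := [A_0]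
noncomputable def K_0 : List (ℕ) := [nat_lit 0x20903814060000]
noncomputable def K : List (List (ℕ)) := [K_0]
noncomputable def R_0 : List (Rule) := [Rule.mk (nat_lit 1) (nat_lit 31) (Steps.bwd (nat_lit 5) (Steps.bwd (nat_lit 1) (Steps.fwd (nat_lit 2560) Steps.nil))) (nat_lit 12) (nat_lit 1),
  Rule.mk (nat_lit 3) (nat_lit 31) (Steps.bwd (nat_lit 5) (Steps.fwd (nat_lit 1536) (Steps.fwd (nat_lit 2560) Steps.nil))) (nat_lit 16) (nat_lit 1),
  Rule.mk (nat_lit 1) (nat_lit 31) (Steps.bwd (nat_lit 4) (Steps.bwd (nat_lit 1) (Steps.fwd (nat_lit 2048) Steps.nil))) (nat_lit 10) (nat_lit 1),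
  Rule.mk (nat_lit 5) (nat_lit 49) (Steps.bwd (nat_lit 4) (Steps.bwd (nat_lit 5) (Steps.fwd (nat_lit 2048) (Steps.fwd (nat_lit 2560) (Steps.fwd (nat_lit 2048) Steps.nil))))) (nat_lit 18) (nat_lit 0),
  Rule.mk (nat_lit 5) (nat_lit 31) (Steps.bwd (nat_lit 3) (Steps.fwd (nat_lit 2560) (Steps.fwd (nat_lit 1536) Steps.nil))) (nat_lit 16) (nat_lit 0),
  Rule.mk (nat_lit 4) (nat_lit 49) (Steps.bwd (nat_lit 3) (Steps.bwd (nat_lit 4) (Steps.fwd (nat_lit 1536) (Steps.fwd (nat_lit 2048) (Steps.fwd (nat_lit 1536) Steps.nil))))) (nat_lit 14) (nat_lit 0),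
  Rule.mk (nat_lit 1) (nat_lit 49) (Steps.bwd (nat_lit 3) (Steps.bwd (nat_lit 1) (Steps.bwd (nat_lit 3) (Steps.bwd (nat_lit 1) (Steps.fwd (nat_lit 1536) Steps.nil))))) (nat_lit 8) (nat_lit 1),
  Rule.mk (nat_lit 1) (nat_lit 22) (Steps.bwd (nat_lit 1) (Steps.bwd (nat_lit 1) Steps.nil)) (nat_lit 0) (nat_lit 0),
  Rule.mk (nat_lit 4) (nat_lit 31) (Steps.bwd (nat_lit 1) (Steps.fwd (nat_lit 2048) (Steps.bwd (nat_lit 1) Steps.nil))) (nat_lit 10) (nat_lit 0),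
  Rule.mk (nat_lit 5) (nat_lit 31) (Steps.bwd (nat_lit 1) (Steps.fwd (nat_lit 2560) (Steps.bwd (nat_lit 1) Steps.nil))) (nat_lit 12) (nat_lit 0)]
noncomputable def R : List (List (Rule)) := [R_0]
def LW : List Word := [[], [0], [1], [2], [4], [6], [0], [1], [2], [3], [4], [5]]
def par : Par := ⟨9, 4, 13, 22, 511, 8191, 4194303⟩
theorem hpar : par.ok := by decide
theorem hR0_0 : lall (R) (fun l => lall l (ruleOK Ra6' LW par)) = true := by decide +kernel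
theorem hR0 : lall (R) (fun l => lall l (ruleOK Ra6' LW par)) = true := hR0_0
theorem hR : RulesOK Ra6' LW par R := rulesOK_of rfl hR0
def cols : List (ℕ × ℕ) := [(512, 2), (1536, 3), (2048, 4), (2560, 5)]
theorem hcols : lall cols (colOK Ra6' LW par) = true := by decide +kernel
noncomputable def JS0 : List ℕ := [nat_lit 0x8080da008081920005c02c060b05025c140b0182c14c09000254120a018281280800820c100204101c04071]
theorem S0_c : blocks (facts 9 4 13 22 511 8191 4194303 9 511 4 15 A R 32) 32 JS0 263 = true := by decide +kernel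
theorem S0 : On (Step.{u} Ra6' LW par A) 263 295 :=
  steps_of_blocks hpar hR S0_c (by decide +kernel)
theorem D0_c : allB (defOK 9 13 22 511 4194303 261 A K) 1 2 = true := by decide +kernel
theorem D0 : On (fun r => defOK par.W par.WL par.E par.mW par.mE 261 A K r = true) 256 384 :=
  On.of_allB D0_c
noncomputable def JW0 : List ℕ := [nat_lit 0xb42f11c320b02e118300d83412c480e04d1283a13c4c0f03e1384010844]
theorem W0_c : blocks (rows 9 4 13 22 511 8191 4194303 10 1023 40 A 295 6 cols 32) 32 JW0 0 = true := by decide +kernel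
theorem W0 : On (Row.{u} Ra6' LW par A 295 6 cols) 0 32 :=
  rows_of_blocks hpar (by decide) hcols W0_c (by decide +kernel)
theorem idx : Idx.{u} Ra6' [[0], [2], [4], [6]] [[0], [2], [4]] 6 :=
  idx_of_cert hpar hR (K := K) (by decide +kernel) (T := 261) (T' := 384) (by decide) D0
    (subs := [1,3,4]) (by decide +kernel) (T1 := 263) (by decide) (N := 295) S0
    (by decide) (n' := 32) (by decide) W0 (by decide +kernel) (by decide +kernel)
end a6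
namespace a7
noncomputable def A_0 : List (ℕ) := [nat_lit 0xcc050328140c8050308140820602201008c0402281006a0301b00c0620301300804602010808028010098040220100280000800001800002000318140a20402180c0680201280402c00]
noncomputable def A : List (List (ℕ)) := [A_0]
noncomputable def K_0 : List (ℕ) := [nat_lit 0x4160903814060000]
noncomputable def K : List (List (ℕ)) := [K_0]
noncomputable def R_0 : List (Rule) := [Rule.mk (nat_lit 1) (nat_lit 32) (Steps.bwd (nat_lit 6) (Steps.bwd (nat_lit 1) (Steps.fwd (nat_lit 3072) Steps.nil))) (nat_lit 16) (nat_lit 1),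
  Rule.mk (nat_lit 3) (nat_lit 32) (Steps.bwd (nat_lit 6) (Steps.fwd (nat_lit 1536) (Steps.fwd (nat_lit 3072) Steps.nil))) (nat_lit 22) (nat_lit 1),
  Rule.mk (nat_lit 4) (nat_lit 32) (Steps.bwd (nat_lit 6) (Steps.fwd (nat_lit 2048) (Steps.fwd (nat_lit 3072) Steps.nil))) (nat_lit 26) (nat_lit 1),
  Rule.mk (nat_lit 1) (nat_lit 32) (Steps.bwd (nat_lit 5) (Steps.bwd (nat_lit 1) (Steps.fwd (nat_lit 2560) Steps.nil))) (nat_lit 14) (nat_lit 1),
  Rule.mk (nat_lit 3) (nat_lit 32) (Steps.bwd (nat_lit 5) (Steps.fwd (nat_lit 1536) (Steps.fwd (nat_lit 2560) Steps.nil))) (nat_lit 20) (nat_lit 1),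
  Rule.mk (nat_lit 6) (nat_lit 50) (Steps.bwd (nat_lit 5) (Steps.bwd (nat_lit 6) (Steps.fwd (nat_lit 2560) (Steps.fwd (nat_lit 3072) (Steps.fwd (nat_lit 2560) Steps.nil))))) (nat_lit 28) (nat_lit 0),
  Rule.mk (nat_lit 1) (nat_lit 32) (Steps.bwd (nat_lit 4) (Steps.bwd (nat_lit 1) (Steps.fwd (nat_lit 2048) Steps.nil))) (nat_lit 12) (nat_lit 1),
  Rule.mk (nat_lit 6) (nat_lit 32) (Steps.bwd (nat_lit 4) (Steps.fwd (nat_lit 3072) (Steps.fwd (nat_lit 2048) Steps.nil))) (nat_lit 26) (nat_lit 0),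
  Rule.mk (nat_lit 5) (nat_lit 50) (Steps.bwd (nat_lit 4) (Steps.bwd (nat_lit 5) (Steps.fwd (nat_lit 2048) (Steps.fwd (nat_lit 2560) (Steps.fwd (nat_lit 2048) Steps.nil))))) (nat_lit 24) (nat_lit 0),
  Rule.mk (nat_lit 5) (nat_lit 32) (Steps.bwd (nat_lit 3) (Steps.fwd (nat_lit 2560) (Steps.fwd (nat_lit 1536) Steps.nil))) (nat_lit 20) (nat_lit 0),
  Rule.mk (nat_lit 6) (nat_lit 32) (Steps.bwd (nat_lit 3) (Steps.fwd (nat_lit 3072) (Steps.fwd (nat_lit 1536) Steps.nil))) (nat_lit 22) (nat_lit 0),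
  Rule.mk (nat_lit 4) (nat_lit 50) (Steps.bwd (nat_lit 3) (Steps.bwd (nat_lit 4) (Steps.fwd (nat_lit 1536) (Steps.fwd (nat_lit 2048) (Steps.fwd (nat_lit 1536) Steps.nil))))) (nat_lit 18) (nat_lit 0),
  Rule.mk (nat_lit 1) (nat_lit 50) (Steps.bwd (nat_lit 3) (Steps.bwd (nat_lit 1) (Steps.bwd (nat_lit 3) (Steps.bwd (nat_lit 1) (Steps.fwd (nat_lit 1536) Steps.nil))))) (nat_lit 10) (nat_lit 1),
  Rule.mk (nat_lit 1) (nat_lit 23) (Steps.bwd (nat_lit 1) (Steps.bwd (nat_lit 1) Steps.nil)) (nat_lit 0) (nat_lit 0),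
  Rule.mk (nat_lit 4) (nat_lit 32) (Steps.bwd (nat_lit 1) (Steps.fwd (nat_lit 2048) (Steps.bwd (nat_lit 1) Steps.nil))) (nat_lit 12) (nat_lit 0),
  Rule.mk (nat_lit 5) (nat_lit 32) (Steps.bwd (nat_lit 1) (Steps.fwd (nat_lit 2560) (Steps.bwd (nat_lit 1) Steps.nil))) (nat_lit 14) (nat_lit 0),
  Rule.mk (nat_lit 6) (nat_lit 32) (Steps.bwd (nat_lit 1) (Steps.fwd (nat_lit 3072) (Steps.bwd (nat_lit 1) Steps.nil))) (nat_lit 16) (nat_lit 0)]
noncomputable def R : List (List (Rule)) := [R_0]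
def LW : List Word := [[], [0], [1], [2], [4], [6], [8], [0], [1], [2], [3], [4], [5], [6], [7]]
def par : Par := ⟨9, 4, 13, 22, 511, 8191, 4194303⟩
theorem hpar : par.ok := by decide
theorem hR0_0 : lall (R) (fun l => lall l (ruleOK Ra7' LW par)) = true := by decide +kernel
theorem hR0 : lall (R) (fun l => lall l (ruleOK Ra7' LW par)) = true := hR0_0
theorem hR : RulesOK Ra7' LW par R := rulesOK_of rfl hR0
def cols : List (ℕ × ℕ) := [(512, 2), (1536, 3), (2048, 4), (2560, 5), (3072, 6)]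
theorem hcols : lall cols (colOK Ra7' LW par) = true := by decide +kernel
noncomputable def JS0 : List ℕ := [nat_lit 0xc0a1588080a1480040413780024e090142411083422120304822c0800820b078001ea078400a1007a41c0107201a02069c1a0e028381a606008185058081640580c1630500c1420480c121]
theorem S0_c : blocks (facts 9 4 13 22 511 8191 4194303 9 511 5 31 A R 32) 32 JS0 265 = true := by decide +kernel
theorem S0 : On (Step.{u} Ra7' LW par A) 265 297 :=
  steps_of_blocks hpar hR S0_c (by decide +kernel)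
theorem D0_c : allB (defOK 9 13 22 511 4194303 262 A K) 1 2 = true := by decide +kernel
theorem D0 : On (fun r => defOK par.W par.WL par.E par.mW par.mE 262 A K r = true) 256 384 :=
  On.of_allB D0_c
noncomputable def JW0 : List ℕ := [nat_lit 0x1f084231242607820088480902a0b0281344a0c02e13c4c0c8341444e0d83814c500e83c0f8521004211046]
theorem W0_c : blocks (rows 9 4 13 22 511 8191 4194303 10 1023 50 A 297 7 cols 25) 25 JW0 0 = true := by decide +kernel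
theorem W0 : On (Row.{u} Ra7' LW par A 297 7 cols) 0 25 :=
  rows_of_blocks hpar (by decide) hcols W0_c (by decide +kernel)
theorem idx : Idx.{u} Ra7' [[0], [2], [4], [6], [8]] [[0], [2], [4], [6]] 7 :=
  idx_of_cert hpar hR (K := K) (by decide +kernel) (T := 262) (T' := 384) (by decide) D0
    (subs := [1,3,4,5]) (by decide +kernel) (T1 := 265) (by decide) (N := 297) S0
    (by decide) (n' := 25) (by decide) W0 (by decide +kernel) (by decide +kernel)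
end a7
namespace a8
noncomputable def A_0 : List (ℕ) := [nat_lit 0xe70301cc0603940c0720180e10301420702900a0538140a602814a050214080438100860201020401980603380c0630180c203011c040220080430100820200940201200402300804201001800002800004000006000004000718180c10281460402100603280804600804e00]
noncomputable def A : List (List (ℕ)) := [A_0]
noncomputable def K_0 : List (ℕ) := [nat_lit 0x834160903814060000]
noncomputable def K : List (List (ℕ)) := [K_0]
noncomputable def R_0 : List (Rule) := [Rule.mk (nat_lit 1) (nat_lit 32) (Steps.bwd (nat_lit 7) (Steps.bwd (nat_lit 1) (Steps.fwd (nat_lit 3584) Steps.nil))) (nat_lit 20) (nat_lit 1),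
  Rule.mk (nat_lit 3) (nat_lit 32) (Steps.bwd (nat_lit 7) (Steps.fwd (nat_lit 1536) (Steps.fwd (nat_lit 3584) Steps.nil))) (nat_lit 28) (nat_lit 1),
  Rule.mk (nat_lit 4) (nat_lit 32) (Steps.bwd (nat_lit 7) (Steps.fwd (nat_lit 2048) (Steps.fwd (nat_lit 3584) Steps.nil))) (nat_lit 34) (nat_lit 1),
  Rule.mk (nat_lit 5) (nat_lit 32) (Steps.bwd (nat_lit 7) (Steps.fwd (nat_lit 2560) (Steps.fwd (nat_lit 3584) Steps.nil))) (nat_lit 38) (nat_lit 1),
  Rule.mk (nat_lit 1) (nat_lit 32) (Steps.bwd (nat_lit 6) (Steps.bwd (nat_lit 1) (Steps.fwd (nat_lit 3072) Steps.nil))) (nat_lit 18) (nat_lit 1),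
  Rule.mk (nat_lit 3) (nat_lit 32) (Steps.bwd (nat_lit 6) (Steps.fwd (nat_lit 1536) (Steps.fwd (nat_lit 3072) Steps.nil))) (nat_lit 26) (nat_lit 1),
  Rule.mk (nat_lit 4) (nat_lit 32) (Steps.bwd (nat_lit 6) (Steps.fwd (nat_lit 2048) (Steps.fwd (nat_lit 3072) Steps.nil))) (nat_lit 32) (nat_lit 1),
  Rule.mk (nat_lit 7) (nat_lit 50) (Steps.bwd (nat_lit 6) (Steps.bwd (nat_lit 7) (Steps.fwd (nat_lit 3072) (Steps.fwd (nat_lit 3584) (Steps.fwd (nat_lit 3072) Steps.nil))))) (nat_lit 40) (nat_lit 0),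
  Rule.mk (nat_lit 1) (nat_lit 32) (Steps.bwd (nat_lit 5) (Steps.bwd (nat_lit 1) (Steps.fwd (nat_lit 2560) Steps.nil))) (nat_lit 16) (nat_lit 1),
  Rule.mk (nat_lit 3) (nat_lit 32) (Steps.bwd (nat_lit 5) (Steps.fwd (nat_lit 1536) (Steps.fwd (nat_lit 2560) Steps.nil))) (nat_lit 24) (nat_lit 1),
  Rule.mk (nat_lit 7) (nat_lit 32) (Steps.bwd (nat_lit 5) (Steps.fwd (nat_lit 3584) (Steps.fwd (nat_lit 2560) Steps.nil))) (nat_lit 38) (nat_lit 0),
  Rule.mk (nat_lit 6) (nat_lit 50) (Steps.bwd (nat_lit 5) (Steps.bwd (nat_lit 6) (Steps.fwd (nat_lit 2560) (Steps.fwd (nat_lit 3072) (Steps.fwd (nat_lit 2560) Steps.nil))))) (nat_lit 36) (nat_lit 0),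
  Rule.mk (nat_lit 1) (nat_lit 32) (Steps.bwd (nat_lit 4) (Steps.bwd (nat_lit 1) (Steps.fwd (nat_lit 2048) Steps.nil))) (nat_lit 14) (nat_lit 1),
  Rule.mk (nat_lit 6) (nat_lit 32) (Steps.bwd (nat_lit 4) (Steps.fwd (nat_lit 3072) (Steps.fwd (nat_lit 2048) Steps.nil))) (nat_lit 32) (nat_lit 0),
  Rule.mk (nat_lit 7) (nat_lit 32) (Steps.bwd (nat_lit 4) (Steps.fwd (nat_lit 3584) (Steps.fwd (nat_lit 2048) Steps.nil))) (nat_lit 34) (nat_lit 0),
  Rule.mk (nat_lit 5) (nat_lit 50) (Steps.bwd (nat_lit 4) (Steps.bwd (nat_lit 5) (Steps.fwd (nat_lit 2048) (Steps.fwd (nat_lit 2560) (Steps.fwd (nat_lit 2048) Steps.nil))))) (nat_lit 30) (nat_lit 0),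
  Rule.mk (nat_lit 5) (nat_lit 32) (Steps.bwd (nat_lit 3) (Steps.fwd (nat_lit 2560) (Steps.fwd (nat_lit 1536) Steps.nil))) (nat_lit 24) (nat_lit 0),
  Rule.mk (nat_lit 6) (nat_lit 32) (Steps.bwd (nat_lit 3) (Steps.fwd (nat_lit 3072) (Steps.fwd (nat_lit 1536) Steps.nil))) (nat_lit 26) (nat_lit 0),
  Rule.mk (nat_lit 7) (nat_lit 32) (Steps.bwd (nat_lit 3) (Steps.fwd (nat_lit 3584) (Steps.fwd (nat_lit 1536) Steps.nil))) (nat_lit 28) (nat_lit 0),
  Rule.mk (nat_lit 4) (nat_lit 50) (Steps.bwd (nat_lit 3) (Steps.bwd (nat_lit 4) (Steps.fwd (nat_lit 1536) (Steps.fwd (nat_lit 2048) (Steps.fwd (nat_lit 1536) Steps.nil))))) (nat_lit 22) (nat_lit 0),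
  Rule.mk (nat_lit 1) (nat_lit 50) (Steps.bwd (nat_lit 3) (Steps.bwd (nat_lit 1) (Steps.bwd (nat_lit 3) (Steps.bwd (nat_lit 1) (Steps.fwd (nat_lit 1536) Steps.nil))))) (nat_lit 12) (nat_lit 1),
  Rule.mk (nat_lit 1) (nat_lit 23) (Steps.bwd (nat_lit 1) (Steps.bwd (nat_lit 1) Steps.nil)) (nat_lit 0) (nat_lit 0),
  Rule.mk (nat_lit 4) (nat_lit 32) (Steps.bwd (nat_lit 1) (Steps.fwd (nat_lit 2048) (Steps.bwd (nat_lit 1) Steps.nil))) (nat_lit 14) (nat_lit 0),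
  Rule.mk (nat_lit 5) (nat_lit 32) (Steps.bwd (nat_lit 1) (Steps.fwd (nat_lit 2560) (Steps.bwd (nat_lit 1) Steps.nil))) (nat_lit 16) (nat_lit 0),
  Rule.mk (nat_lit 6) (nat_lit 32) (Steps.bwd (nat_lit 1) (Steps.fwd (nat_lit 3072) (Steps.bwd (nat_lit 1) Steps.nil))) (nat_lit 18) (nat_lit 0),
  Rule.mk (nat_lit 7) (nat_lit 32) (Steps.bwd (nat_lit 1) (Steps.fwd (nat_lit 3584) (Steps.bwd (nat_lit 1) Steps.nil))) (nat_lit 20) (nat_lit 0)]
noncomputable def R : List (List (Rule)) := [R_0]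
def LW : List Word := [[], [0], [1], [2], [4], [6], [8], [10], [0], [1], [2], [3], [4], [5], [6], [7], [8], [9]]
def par : Par := ⟨9, 5, 14, 23, 511, 16383, 8388607⟩
theorem hpar : par.ok := by decide
theorem hR0_0 : lall (R) (fun l => lall l (ruleOK Ra8' LW par)) = true := by decide +kernel
theorem hR0 : lall (R) (fun l => lall l (ruleOK Ra8' LW par)) = true := hR0_0
theorem hR : RulesOK Ra8' LW par R := rulesOK_of rfl hR0
def cols : List (ℕ × ℕ) := [(512, 2), (1536, 3), (2048, 4), (2560, 5), (3072, 6), (3584, 7)]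
theorem hcols : lall cols (colOK Ra8' LW par) = true := by decide +kernel
noncomputable def JS0 : List ℕ := [nat_lit 0x40307f4030307b2020307700101072e000dd836070d8683350d06c121b0d5032030ccc30030c482e000bc42e18040602f00b00c2cf0a8042ae0a00c28d0a0540e150a30260209ac24030928220308a42212038482280800c2070780c1e60700c1c5070101c4068101a30601018205810161]
theorem S0_c : blocks (facts 9 5 14 23 511 16383 8388607 9 511 5 31 A R 32) 32 JS0 267 = true := by decide +kernel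
theorem S0 : On (Step.{u} Ra8' LW par A) 267 299 :=
  steps_of_blocks hpar hR S0_c (by decide +kernel)
theorem D0_c : allB (defOK 9 14 23 511 8388607 263 A K) 1 2 = true := by decide +kernel
theorem D0 : On (fun r => defOK par.W par.WL par.E par.mW par.mE 263 A K r = true) 256 384 :=
  On.of_allB D0_c
noncomputable def JW0 : List ℕ := [nat_lit 0x340f0441312c160300e04012128140681c0781813c4c0882408051138260a82814c500b02e0c055148320d03615c540e03a0f03e158401084411848]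
theorem W0_c : blocks (rows 9 5 14 23 511 16383 8388607 10 1023 60 A 299 8 cols 21) 21 JW0 0 = true := by decide +kernel
theorem W0 : On (Row.{u} Ra8' LW par A 299 8 cols) 0 21 :=
  rows_of_blocks hpar (by decide) hcols W0_c (by decide +kernel)
theorem idx : Idx.{u} Ra8' [[0], [2], [4], [6], [8], [10]] [[0], [2], [4], [6], [8]] 8 :=
  idx_of_cert hpar hR (K := K) (by decide +kernel) (T := 263) (T' := 384) (by decide) D0
    (subs := [1,3,4,5,6]) (by decide +kernel) (T1 := 267) (by decide) (N := 299) S0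
    (by decide) (n' := 21) (by decide) W0 (by decide +kernel) (by decide +kernel)
end a8
namespace a9
noncomputable def A_0 : List (ℕ) := [nat_lit 0x8401c10703820c0704140e08201c1010381820803100c0640180c703018c0603140c0528140a802814e0502980a05081408602011004021c080418100810200ce0301a00603200c0630180c2030120040228080440100860201040401300402500804801008c0201080400700000c0000140000200000300000200040c0e0708180c30281480402140603300804700805000]
noncomputable def A : List (List (ℕ)) := [A_0]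
noncomputable def K_0 : List (ℕ) := [nat_lit 0x107834160903814060000]
noncomputable def K : List (List (ℕ)) := [K_0]
noncomputable def R_0 : List (Rule) := [Rule.mk (nat_lit 1) (nat_lit 33) (Steps.bwd (nat_lit 8) (Steps.bwd (nat_lit 1) (Steps.fwd (nat_lit 4096) Steps.nil))) (nat_lit 24) (nat_lit 1),
  Rule.mk (nat_lit 3) (nat_lit 33) (Steps.bwd (nat_lit 8) (Steps.fwd (nat_lit 1536) (Steps.fwd (nat_lit 4096) Steps.nil))) (nat_lit 34) (nat_lit 1),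
  Rule.mk (nat_lit 4) (nat_lit 33) (Steps.bwd (nat_lit 8) (Steps.fwd (nat_lit 2048) (Steps.fwd (nat_lit 4096) Steps.nil))) (nat_lit 42) (nat_lit 1),
  Rule.mk (nat_lit 5) (nat_lit 33) (Steps.bwd (nat_lit 8) (Steps.fwd (nat_lit 2560) (Steps.fwd (nat_lit 4096) Steps.nil))) (nat_lit 48) (nat_lit 1),
  Rule.mk (nat_lit 6) (nat_lit 33) (Steps.bwd (nat_lit 8) (Steps.fwd (nat_lit 3072) (Steps.fwd (nat_lit 4096) Steps.nil))) (nat_lit 52) (nat_lit 1),
  Rule.mk (nat_lit 1) (nat_lit 33) (Steps.bwd (nat_lit 7) (Steps.bwd (nat_lit 1) (Steps.fwd (nat_lit 3584) Steps.nil))) (nat_lit 22) (nat_lit 1),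
  Rule.mk (nat_lit 3) (nat_lit 33) (Steps.bwd (nat_lit 7) (Steps.fwd (nat_lit 1536) (Steps.fwd (nat_lit 3584) Steps.nil))) (nat_lit 32) (nat_lit 1),
  Rule.mk (nat_lit 4) (nat_lit 33) (Steps.bwd (nat_lit 7) (Steps.fwd (nat_lit 2048) (Steps.fwd (nat_lit 3584) Steps.nil))) (nat_lit 40) (nat_lit 1),
  Rule.mk (nat_lit 5) (nat_lit 33) (Steps.bwd (nat_lit 7) (Steps.fwd (nat_lit 2560) (Steps.fwd (nat_lit 3584) Steps.nil))) (nat_lit 46) (nat_lit 1),
  Rule.mk (nat_lit 8) (nat_lit 51) (Steps.bwd (nat_lit 7) (Steps.bwd (nat_lit 8) (Steps.fwd (nat_lit 3584) (Steps.fwd (nat_lit 4096) (Steps.fwd (nat_lit 3584) Steps.nil))))) (nat_lit 54) (nat_lit 0),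
  Rule.mk (nat_lit 1) (nat_lit 33) (Steps.bwd (nat_lit 6) (Steps.bwd (nat_lit 1) (Steps.fwd (nat_lit 3072) Steps.nil))) (nat_lit 20) (nat_lit 1),
  Rule.mk (nat_lit 3) (nat_lit 33) (Steps.bwd (nat_lit 6) (Steps.fwd (nat_lit 1536) (Steps.fwd (nat_lit 3072) Steps.nil))) (nat_lit 30) (nat_lit 1),
  Rule.mk (nat_lit 4) (nat_lit 33) (Steps.bwd (nat_lit 6) (Steps.fwd (nat_lit 2048) (Steps.fwd (nat_lit 3072) Steps.nil))) (nat_lit 38) (nat_lit 1),
  Rule.mk (nat_lit 8) (nat_lit 33) (Steps.bwd (nat_lit 6) (Steps.fwd (nat_lit 4096) (Steps.fwd (nat_lit 3072) Steps.nil))) (nat_lit 52) (nat_lit 0),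
  Rule.mk (nat_lit 7) (nat_lit 51) (Steps.bwd (nat_lit 6) (Steps.bwd (nat_lit 7) (Steps.fwd (nat_lit 3072) (Steps.fwd (nat_lit 3584) (Steps.fwd (nat_lit 3072) Steps.nil))))) (nat_lit 50) (nat_lit 0),
  Rule.mk (nat_lit 1) (nat_lit 33) (Steps.bwd (nat_lit 5) (Steps.bwd (nat_lit 1) (Steps.fwd (nat_lit 2560) Steps.nil))) (nat_lit 18) (nat_lit 1),
  Rule.mk (nat_lit 3) (nat_lit 33) (Steps.bwd (nat_lit 5) (Steps.fwd (nat_lit 1536) (Steps.fwd (nat_lit 2560) Steps.nil))) (nat_lit 28) (nat_lit 1),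
  Rule.mk (nat_lit 7) (nat_lit 33) (Steps.bwd (nat_lit 5) (Steps.fwd (nat_lit 3584) (Steps.fwd (nat_lit 2560) Steps.nil))) (nat_lit 46) (nat_lit 0),
  Rule.mk (nat_lit 8) (nat_lit 33) (Steps.bwd (nat_lit 5) (Steps.fwd (nat_lit 4096) (Steps.fwd (nat_lit 2560) Steps.nil))) (nat_lit 48) (nat_lit 0),
  Rule.mk (nat_lit 6) (nat_lit 51) (Steps.bwd (nat_lit 5) (Steps.bwd (nat_lit 6) (Steps.fwd (nat_lit 2560) (Steps.fwd (nat_lit 3072) (Steps.fwd (nat_lit 2560) Steps.nil))))) (nat_lit 44) (nat_lit 0),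
  Rule.mk (nat_lit 1) (nat_lit 33) (Steps.bwd (nat_lit 4) (Steps.bwd (nat_lit 1) (Steps.fwd (nat_lit 2048) Steps.nil))) (nat_lit 16) (nat_lit 1),
  Rule.mk (nat_lit 6) (nat_lit 33) (Steps.bwd (nat_lit 4) (Steps.fwd (nat_lit 3072) (Steps.fwd (nat_lit 2048) Steps.nil))) (nat_lit 38) (nat_lit 0),
  Rule.mk (nat_lit 7) (nat_lit 33) (Steps.bwd (nat_lit 4) (Steps.fwd (nat_lit 3584) (Steps.fwd (nat_lit 2048) Steps.nil))) (nat_lit 40) (nat_lit 0),
  Rule.mk (nat_lit 8) (nat_lit 33) (Steps.bwd (nat_lit 4) (Steps.fwd (nat_lit 4096) (Steps.fwd (nat_lit 2048) Steps.nil))) (nat_lit 42) (nat_lit 0),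
  Rule.mk (nat_lit 5) (nat_lit 51) (Steps.bwd (nat_lit 4) (Steps.bwd (nat_lit 5) (Steps.fwd (nat_lit 2048) (Steps.fwd (nat_lit 2560) (Steps.fwd (nat_lit 2048) Steps.nil))))) (nat_lit 36) (nat_lit 0),
  Rule.mk (nat_lit 5) (nat_lit 33) (Steps.bwd (nat_lit 3) (Steps.fwd (nat_lit 2560) (Steps.fwd (nat_lit 1536) Steps.nil))) (nat_lit 28) (nat_lit 0),
  Rule.mk (nat_lit 6) (nat_lit 33) (Steps.bwd (nat_lit 3) (Steps.fwd (nat_lit 3072) (Steps.fwd (nat_lit 1536) Steps.nil))) (nat_lit 30) (nat_lit 0),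
  Rule.mk (nat_lit 7) (nat_lit 33) (Steps.bwd (nat_lit 3) (Steps.fwd (nat_lit 3584) (Steps.fwd (nat_lit 1536) Steps.nil))) (nat_lit 32) (nat_lit 0),
  Rule.mk (nat_lit 8) (nat_lit 33) (Steps.bwd (nat_lit 3) (Steps.fwd (nat_lit 4096) (Steps.fwd (nat_lit 1536) Steps.nil))) (nat_lit 34) (nat_lit 0),
  Rule.mk (nat_lit 4) (nat_lit 51) (Steps.bwd (nat_lit 3) (Steps.bwd (nat_lit 4) (Steps.fwd (nat_lit 1536) (Steps.fwd (nat_lit 2048) (Steps.fwd (nat_lit 1536) Steps.nil))))) (nat_lit 26) (nat_lit 0),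
  Rule.mk (nat_lit 1) (nat_lit 51) (Steps.bwd (nat_lit 3) (Steps.bwd (nat_lit 1) (Steps.bwd (nat_lit 3) (Steps.bwd (nat_lit 1) (Steps.fwd (nat_lit 1536) Steps.nil))))) (nat_lit 14) (nat_lit 1),
  Rule.mk (nat_lit 1) (nat_lit 24) (Steps.bwd (nat_lit 1) (Steps.bwd (nat_lit 1) Steps.nil)) (nat_lit 0) (nat_lit 0),
  Rule.mk (nat_lit 4) (nat_lit 33) (Steps.bwd (nat_lit 1) (Steps.fwd (nat_lit 2048) (Steps.bwd (nat_lit 1) Steps.nil))) (nat_lit 16) (nat_lit 0),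
  Rule.mk (nat_lit 5) (nat_lit 33) (Steps.bwd (nat_lit 1) (Steps.fwd (nat_lit 2560) (Steps.bwd (nat_lit 1) Steps.nil))) (nat_lit 18) (nat_lit 0),
  Rule.mk (nat_lit 6) (nat_lit 33) (Steps.bwd (nat_lit 1) (Steps.fwd (nat_lit 3072) (Steps.bwd (nat_lit 1) Steps.nil))) (nat_lit 20) (nat_lit 0),
  Rule.mk (nat_lit 7) (nat_lit 33) (Steps.bwd (nat_lit 1) (Steps.fwd (nat_lit 3584) (Steps.bwd (nat_lit 1) Steps.nil))) (nat_lit 22) (nat_lit 0),
  Rule.mk (nat_lit 8) (nat_lit 33) (Steps.bwd (nat_lit 1) (Steps.fwd (nat_lit 4096) (Steps.bwd (nat_lit 1) Steps.nil))) (nat_lit 24) (nat_lit 0)]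
noncomputable def R : List (List (Rule)) := [R_0]
def LW : List Word := [[], [0], [1], [2], [4], [6], [8], [10], [12], [0], [1], [2], [3], [4], [5], [6], [7], [8], [9], [10], [11]]
def par : Par := ⟨9, 5, 14, 23, 511, 16383, 8388607⟩
theorem hpar : par.ok := by decide
theorem hR0_0 : lall (R) (fun l => lall l (ruleOK Ra9' LW par)) = true := by decide +kernel
theorem hR0 : lall (R) (fun l => lall l (ruleOK Ra9' LW par)) = true := hR0_0
theorem hR : RulesOK Ra9' LW par R := rulesOK_of rfl hR0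
def cols : List (ℕ × ℕ) := [(512, 2), (1536, 3), (2048, 4), (2560, 5), (3072, 6), (3584, 7), (4096, 8)]
theorem hcols : lall cols (colOK Ra9' LW par) = true := by decide +kernel
noncomputable def JS0 : List ℕ := [nat_lit 0x4d0098122612891f12898182612bc2402091d1181046e08808226c420010b4211102c442164400410301f0207d70f0043cb074081d543a1e050783aa070081c4c36020da41a0206910c81032806434090d064f0c00c30705c0817342c040b181502054b0a85812160a94140205090981026404808121c2204088c110284450801420203c0a0f0c1c0507040d028341,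
  nat_lit 0x5038ae50201c55200c0e298c04071444010109e1]
theorem S0_c : blocks (facts 9 5 14 23 511 16383 8388607 9 511 6 63 A R 32) 32 JS0 269 = true := by decide +kernel
theorem S0 : On (Step.{u} Ra9' LW par A) 269 333 :=
  steps_of_blocks hpar hR S0_c (by decide +kernel)
theorem D0_c : allB (defOK 9 14 23 511 8388607 264 A K) 1 2 = true := by decide +kernel
theorem D0 : On (fun r => defOK par.W par.WL par.E par.mW par.mE 264 A K r = true) 256 384 :=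
  On.of_allB D0_c
noncomputable def JW0 : List ℕ := [nat_lit 0x370e43b0f43f234420d8380e83c0f88c100461204a130442448e140521504e24c901585a1705825492178601906225c94198681a86c264961b8701c87426c981d8781e87c1f89a20082210862208a]
theorem W0_c : blocks (rows 9 5 14 23 511 16383 8388607 10 1023 70 A 333 9 cols 18) 18 JW0 0 = true := by decide +kernel
theorem W0 : On (Row.{u} Ra9' LW par A 333 9 cols) 0 18 :=
  rows_of_blocks hpar (by decide) hcols W0_c (by decide +kernel)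
theorem idx : Idx.{u} Ra9' [[0], [2], [4], [6], [8], [10], [12]] [[0], [2], [4], [6], [8], [10]] 9 :=
  idx_of_cert hpar hR (K := K) (by decide +kernel) (T := 264) (T' := 384) (by decide) D0
    (subs := [1,3,4,5,6,7]) (by decide +kernel) (T1 := 269) (by decide) (N := 333) S0
    (by decide) (n' := 18) (by decide) W0 (by decide +kernel) (by decide +kernel)
end a9
end
end CA.MxT
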