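import Cfsg.Agent.Lib.HJ.HJM2

/-!
A table model `P` of a Sylow 2-subgroup of `2^{1+4}_- : A₅`.
-/

set_option autoImplicit false
set_option maxRecDepth 100000

namespace CA.SyM

open CA.HJM hiding z s w t x u

def vA (v : Fin 4) : A := mkA (lk 0x7ab340 6 63 v.1)
def xr (a b : Fin 4) : Fin 4 := ⟨Nat.land (Nat.xor a.1 b.1) 3, Nat.lt_succ_of_le Nat.and_le_right⟩

theorem vA_xr : ∀ a b, vA (xr a b) = vA a * vA b := by decide +kernel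
theorem vA_inj : ∀ a b, vA a = vA b → a = b := by decide +kernel

/-- the model of the Sylow subgroup -/
@[ext] structure P where
  q : Fin 32
  v : Fin 4

instance : DecidableEq P := fun a b => decidable_of_iff (a.q = b.q ∧ a.v = b.v) P.ext_iff.symm
instance decAll (p : P → Prop) [h : DecidablePred p] : Decidable (∀ a, p a) :=
  decidable_of_iff (∀ v : Fin 4, ∀ q : Fin 32, p ⟨q, v⟩) ⟨fun h a => h a.v a.q, fun h _ _ => h _⟩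
instance decEx (p : P → Prop) [h : DecidablePred p] : Decidable (∃ a, p a) :=
  decidable_of_iff (∃ v : Fin 4, ∃ q : Fin 32, p ⟨q, v⟩) ⟨fun ⟨_, _, h⟩ => ⟨_, h⟩, fun ⟨a, h⟩ => ⟨a.v, a.q, h⟩⟩
def eqP : Fin 32 × Fin 4 ≃ P := ⟨fun a => ⟨a.1, a.2⟩, fun a => (a.q, a.v), fun _ => rfl, fun _ => rfl⟩
instance : Fintype P := Fintype.ofEquiv _ eqP
instance : Mul P := ⟨fun a b => ⟨qm a.q (ac (vA a.v) b.q), xr a.v b.v⟩⟩
instance : One P := ⟨⟨mkQ 0, 0⟩⟩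
instance : Inv P := ⟨fun a => ⟨ac (vA a.v) (qi a.q), a.v⟩⟩

def em0 (a : P) : M := ⟨a.q, vA a.v⟩
theorem em0_mul (a b : P) : em0 (a * b) = em0 a * em0 b := M.ext rfl (vA_xr _ _)
theorem em0_inj : Function.Injective em0 := fun _ _ h => P.ext (congrArg M.q h) (vA_inj _ _ (congrArg M.p h))

theorem P_left : ∀ a : P, a⁻¹ * a = 1 ∧ 1 * a = a := by decide +kernel

instance : Group P := Group.ofLeftAxioms
  (fun a b c => em0_inj (by simp only [em0_mul, mul_assoc])) (fun a => (P_left a).2) (fun a => (P_left a).1)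

theorem card_P : Nat.card P = 128 := by
  rw [← Nat.card_congr eqP, Nat.card_prod]; simp

/-- the embedding in `M` -/
def em : P →* M := MonoidHom.mk' em0 em0_mul

theorem em_inj : Function.Injective em := em0_inj

def z : P := ⟨mkQ 16, 0⟩
def s : P := ⟨mkQ 15, 0⟩
def w : P := ⟨mkQ 8, 0⟩
def y : P := ⟨mkQ 3, 0⟩
def t : P := ⟨mkQ 0, 1⟩
def t1 : P := ⟨mkQ 0, 2⟩

def ch0 (b : B) : P := ⟨b, 0⟩
theorem ch0_mul : ∀ a b, ch0 (a * b) = ch0 a * ch0 b := by decide +kernel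
/-- the embedding of the extraspecial group -/
def ch : B →* P := MonoidHom.mk' ch0 ch0_mul
theorem ch_inj : Function.Injective ch := fun _ _ h => congrArg P.q h
theorem mem_ch {m : P} : m ∈ ch.range ↔ m.v = 0 := ⟨fun ⟨_, h⟩ => h ▸ rfl, fun h => ⟨m.q, P.ext rfl h.symm⟩⟩

/-- membership in `⟨z, s⟩` -/
def inV (m : P) : Prop := m = 1 ∨ m = z ∨ m = s ∨ m = s * z
instance (m : P) : Decidable (inV m) := by unfold inV; infer_instance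

theorem k0 : em z = HJM.z ∧ em s = HJM.s ∧ em t = HJM.t ∧ ch Z = z ∧ ch (S 4) = s ∧ ch (S 3) = w ∧
    vA t.v = t0 ∧ vA t1.v = s0 ∧ em w = HJM.w := by decide +kernel
theorem k1 : z * z = 1 ∧ z ≠ 1 ∧ s * s = 1 ∧ s ≠ 1 ∧ s ≠ z ∧ w * w = 1 ∧ w ≠ 1 ∧ w ≠ z ∧ t * t = 1 ∧ t.v ≠ 0 ∧
    y * y = z ∧ y * w = w * y ∧ y * s = s * y ∧ w * s * w⁻¹ = s * z ∧ w * s ≠ s * w ∧ s * z ≠ z ∧ s * z ≠ 1 ∧
    s * z ≠ s ∧ t * s = s * t := by decide +kernel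
theorem cz : ∀ m : P, m * z = z * m := by decide +kernel
theorem c1 : ∀ m : P, (∀ b : B, m * ch b = ch b * m) → m = 1 ∨ m = z := by decide +kernel
theorem e1 : ∀ m : P, (m * m = z → m.v = 0) ∧ (m.v = 0 → m * m = 1 ∨ m * m = z) ∧
    (m * s * m⁻¹ = s ∨ m * s * m⁻¹ = s * z) ∧ (m * m * (m * m) = 1 → inV (m * m)) ∧
    (m * w * s = s * (m * w) ∨ m * s = s * m) ∧ (m * m = 1 → m * s = s * m → m.v = 0 → inV m) ∧
    ∃ q : B, m * ch q * (m * ch q) = 1 := by decide +kernel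
theorem e2 : ∀ m : P, m * m = 1 → (m.v = 0 → m = 1 ∨ m = z ∨ ∃ k, k * m * k⁻¹ = s ∨ k * m * k⁻¹ = w) ∧
    (m.v ≠ 0 → m * s = s * m ∧ (∃ k, k * s = s * k ∧ k * m * k⁻¹ = m * z) ∧
      ∀ b, b * m * b⁻¹ * m = m * (b * m * b⁻¹) → b * s = s * b) := by decide +kernel
theorem e3 : ∀ a : P, a * a = 1 → a ≠ 1 → a * s = s * a → ∀ b, a * b = b * a → b * b ≠ 1 → b * b * (b * b) = 1 →
    inV a := by decide +kernel
theorem e4 : ∀ m : P, ∀ i, m * ch (S i) * m⁻¹ = ch (S (pf (vA m.v) i)) ∨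
    m * ch (S i) * m⁻¹ = ch (S (pf (vA m.v) i)) * z := by decide +kernel
theorem e5 : ∀ m : P, ∀ b : B, (m * ch b * m⁻¹).v = 0 ∧ (m.v = 0 → m * ch b * m⁻¹ * (ch b)⁻¹ = 1 ∨
    m * ch b * m⁻¹ * (ch b)⁻¹ = z) := by decide +kernel

theorem g1 : ∀ c : A, (c * t0 = t0 * c ∨ c * s0 = s0 * c ∨ c * (t0 * s0) = t0 * s0 * c → c * c = 1) ∧
    (pf c 3 = 4 → ∃ a ∈ [1, t0, s0, t0 * s0], ∃ b ∈ [1, t0, s0, t0 * s0],
      (a * (c * t0 * c⁻¹)) ^ 3 = 1 ∧ a * (c * t0 * c⁻¹) ≠ 1 ∧ (b * (c * t0 * c⁻¹)) ^ 5 = 1 ∧ b * (c * t0 * c⁻¹) ≠ 1) := by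
  decide +kernel
theorem g2 : t0 * t0 = 1 ∧ t0 ≠ 1 ∧ s0 * s0 = 1 ∧ s0 ≠ 1 ∧ t0 * s0 = s0 * t0 ∧ t0 ≠ s0 := by decide +kernel

end CA.SyM
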